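import Cfsg.Prelude

set_option autoImplicit false
open Cfsg

namespace Cfsg.Agent.Lib_helper1_CommCalc

theorem word1 {G : Type*} [Group G] (b p q e κ : G) (hκ : κ = p * q * p⁻¹ * q⁻¹)
    (h1 : p * e = e * p) (h2 : e * κ = κ * e) (h3 : b * κ = κ * b)
    (h4 : e * (b * q * b⁻¹ * q⁻¹) = (b * q * b⁻¹ * q⁻¹) * e)
    (h5 : b * q * b⁻¹ * q⁻¹ = (b * p) * (e * q) * (b * p)⁻¹ * (e * q)⁻¹) :
    b * e * b⁻¹ * e⁻¹ = κ⁻¹ := by
  have h6 : (b * p) * (e * q) * (b * p)⁻¹ * (e * q)⁻¹ =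
      κ * (b * e * b⁻¹ * e⁻¹) * (b * q * b⁻¹ * q⁻¹) := by
    calc (b * p) * (e * q) * (b * p)⁻¹ * (e * q)⁻¹
        = b * (p * e) * q * p⁻¹ * b⁻¹ * q⁻¹ * e⁻¹ := by group
      _ = b * (e * p) * q * p⁻¹ * b⁻¹ * q⁻¹ * e⁻¹ := by rw [h1]
      _ = b * (e * (p * q * p⁻¹ * q⁻¹)) * q * b⁻¹ * q⁻¹ * e⁻¹ := by group
      _ = b * (e * κ) * q * b⁻¹ * q⁻¹ * e⁻¹ := by rw [← hκ]
      _ = b * (κ * e) * q * b⁻¹ * q⁻¹ * e⁻¹ := by rw [h2]
      _ = (b * κ) * e * q * b⁻¹ * q⁻¹ * e⁻¹ := by group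
      _ = (κ * b) * e * q * b⁻¹ * q⁻¹ * e⁻¹ := by rw [h3]
      _ = κ * (b * e * b⁻¹ * e⁻¹) * (e * (b * q * b⁻¹ * q⁻¹)) * e⁻¹ := by group
      _ = κ * (b * e * b⁻¹ * e⁻¹) * ((b * q * b⁻¹ * q⁻¹) * e) * e⁻¹ := by rw [h4]
      _ = κ * (b * e * b⁻¹ * e⁻¹) * (b * q * b⁻¹ * q⁻¹) := by group
  rw [h6] at h5
  have h7 : κ * (b * e * b⁻¹ * e⁻¹) = 1 := by
    have h8 : 1 * (b * q * b⁻¹ * q⁻¹) = κ * (b * e * b⁻¹ * e⁻¹) * (b * q * b⁻¹ * q⁻¹) := by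
      rw [one_mul]
      exact h5
    exact (mul_right_cancel h8).symm
  exact eq_inv_of_mul_eq_one_right h7

/-- first part: `[B,A] ≤ B`, `[B,A]` centralizes `B'`, and `[B,A]'` centralizes `B` -/
theorem part1 {G : Type*} [Group G] (A B : Subgroup G)
    (hAB : A ≤ Subgroup.normalizer (B : Set G)) (hc : ⁅⁅B, B⁆, A⁆ = ⊥) :
    ⁅B, A⁆ ≤ B ∧ ⁅B, B⁆ ≤ B ∧ ⁅⁅B, A⁆, ⁅B, B⁆⁆ = ⊥ ∧ ⁅⁅⁅B, A⁆, ⁅B, A⁆⁆, B⁆ = ⊥ := by
  have hCB : ⁅B, A⁆ ≤ B := by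
    rw [Subgroup.commutator_le]
    intro b hb a ha
    rw [commutatorElement_def]
    have h1 : a * b⁻¹ * a⁻¹ ∈ B := (Subgroup.mem_normalizer_iff.mp (hAB ha) _).mp (B.inv_mem hb)
    have h2 : b * a * b⁻¹ * a⁻¹ = b * (a * b⁻¹ * a⁻¹) := by group
    rw [h2]
    exact B.mul_mem hb h1
  have hB'B : ⁅B, B⁆ ≤ B := by
    rw [Subgroup.commutator_le]
    intro b hb b' hb'
    rw [commutatorElement_def]
    exact B.mul_mem (B.mul_mem (B.mul_mem hb hb') (B.inv_mem hb)) (B.inv_mem hb')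
  have h1 : ⁅⁅B, A⁆, ⁅B, B⁆⁆ = ⊥ := by
    apply Subgroup.commutator_commutator_eq_bot_of_rotate
    · rw [Subgroup.commutator_comm A, hc, Subgroup.commutator_bot_left]
    · rw [eq_bot_iff, ← hc]
      exact Subgroup.commutator_mono (Subgroup.commutator_mono hB'B le_rfl) le_rfl
  have h1' : ⁅⁅B, B⁆, ⁅B, A⁆⁆ = ⊥ := by
    rw [Subgroup.commutator_comm]
    exact h1
  have h2 : ⁅⁅⁅B, A⁆, ⁅B, A⁆⁆, B⁆ = ⊥ := by
    apply Subgroup.commutator_commutator_eq_bot_of_rotate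
    · rw [eq_bot_iff, ← h1']
      exact Subgroup.commutator_mono (Subgroup.commutator_mono hCB le_rfl) le_rfl
    · rw [eq_bot_iff, ← h1']
      exact Subgroup.commutator_mono (Subgroup.commutator_mono le_rfl hCB) le_rfl
  exact ⟨hCB, hB'B, h1, h2⟩

/-- `c_x = b⁻¹ x b x⁻¹` -/
def cc {G : Type*} [Group G] (b x : G) : G := b⁻¹ * x * b * x⁻¹

/-- `e(x,y) = x c_y x⁻¹ c_y⁻¹` -/
def ee {G : Type*} [Group G] (b x y : G) : G := x * cc b y * x⁻¹ * (cc b y)⁻¹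

theorem cc_def {G : Type*} [Group G] (b x : G) : cc b x = b⁻¹ * x * b * x⁻¹ := rfl

theorem ee_def {G : Type*} [Group G] (b x y : G) :
    ee b x y = x * cc b y * x⁻¹ * (cc b y)⁻¹ := rfl

theorem sq_mul_of_comm {G : Type*} [Group G] {a b : G} (h : b * a = a * b) (ha : a ^ 2 = 1)
    (hb : b ^ 2 = 1) : (a * b) ^ 2 = 1 := by
  rw [sq] at *
  calc a * b * (a * b) = a * (b * a) * b := by group
    _ = a * (a * b) * b := by rw [h]
    _ = (a * a) * (b * b) := by group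
    _ = 1 := by rw [ha, hb, one_mul]

theorem part2 {G : Type*} [Group G] (A B : Subgroup G)
    (hAB : A ≤ Subgroup.normalizer (B : Set G)) (hc : ⁅⁅B, B⁆, A⁆ = ⊥)
    (hA : ∀ x ∈ A, ∀ y ∈ A, x * y = y * x) (b : G) (hb : b ∈ B)
    (hD : ⁅⁅(Subgroup.closure {g : G | ∃ a ∈ A, g = b⁻¹ * a * b * a⁻¹}), A⁆, A⁆ = ⊥) :
    ∀ w ∈ ⁅(Subgroup.closure {g : G | ∃ a ∈ A, g = b⁻¹ * a * b * a⁻¹}),
      (Subgroup.closure {g : G | ∃ a ∈ A, g = b⁻¹ * a * b * a⁻¹})⁆, w ^ 2 = 1 := by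
  obtain ⟨hCB, hB'B, hCB', hCCB⟩ := part1 A B hAB hc
  set D : Subgroup G := Subgroup.closure {g : G | ∃ a ∈ A, g = b⁻¹ * a * b * a⁻¹} with hDdef
  have hAB' : ∀ a ∈ A, ∀ z ∈ ⁅B, B⁆, a * z = z * a := by
    have h1 := Subgroup.commutator_eq_bot_iff_le_centralizer.mp hc
    intro a ha z hz
    exact Subgroup.mem_centralizer_iff.mp (h1 hz) a ha
  have hCB'e : ∀ u ∈ ⁅B, A⁆, ∀ z ∈ ⁅B, B⁆, z * u = u * z := by
    have h1 := Subgroup.commutator_eq_bot_iff_le_centralizer.mp hCB'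
    intro u hu z hz
    exact Subgroup.mem_centralizer_iff.mp (h1 hu) z hz
  have hZ : ∀ k ∈ ⁅⁅B, A⁆, ⁅B, A⁆⁆, ∀ t ∈ B, t * k = k * t := by
    have h1 := Subgroup.commutator_eq_bot_iff_le_centralizer.mp hCCB
    intro k hk t ht
    exact Subgroup.mem_centralizer_iff.mp (h1 hk) t ht
  have hcD : ∀ x ∈ A, cc b x ∈ D := by
    intro x hx
    exact Subgroup.subset_closure ⟨x, hx, rfl⟩
  have hcC : ∀ x ∈ A, cc b x ∈ ⁅B, A⁆ := by
    intro x hx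
    have h1 := Subgroup.commutator_mem_commutator (B.inv_mem hb) hx
    rw [commutatorElement_def, inv_inv] at h1
    exact h1
  have hDC : D ≤ ⁅B, A⁆ := by
    rw [hDdef, Subgroup.closure_le]
    rintro g ⟨a, ha, rfl⟩
    exact hcC a ha
  have hDB : D ≤ B := hDC.trans hCB
  have hDAcen : ∀ u ∈ ⁅D, A⁆, ∀ z ∈ A, z * u = u * z := by
    have h1 := Subgroup.commutator_eq_bot_iff_le_centralizer.mp hD
    intro u hu z hz
    exact Subgroup.mem_centralizer_iff.mp (h1 hu) z hz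
  have hDAC : ⁅D, A⁆ ≤ ⁅B, A⁆ := Subgroup.commutator_mono hDB le_rfl
  have heDA : ∀ x ∈ A, ∀ y ∈ A, ee b x y ∈ ⁅D, A⁆ := by
    intro x hx y hy
    have h1 := Subgroup.inv_mem _ (Subgroup.commutator_mem_commutator (hcD y hy) hx)
    rw [commutatorElement_def] at h1
    have h2 : (cc b y * x * (cc b y)⁻¹ * x⁻¹)⁻¹ = ee b x y := by
      rw [ee_def]
      group
    rw [h2] at h1
    exact h1
  have hconj : ∀ z : G, z * b * z⁻¹ = b * cc b z := by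
    intro z
    rw [cc_def]
    group
  have hec : ∀ x ∈ A, ∀ y ∈ A, ∀ z ∈ A, ee b x y * cc b z = cc b z * ee b x y := by
    intro x hx y hy z hz
    have he1 := heDA x hx y hy
    have heC : ee b x y ∈ ⁅B, A⁆ := hDAC he1
    have heB : ee b x y ∈ B := hCB heC
    have hez : z * ee b x y = ee b x y * z := hDAcen _ he1 z hz
    generalize ee b x y = e0 at he1 heC heB hez
    have hf : b⁻¹ * e0 * b * e0⁻¹ ∈ ⁅B, B⁆ := by
      have h1 := Subgroup.commutator_mem_commutator (B.inv_mem hb) heB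
      rw [commutatorElement_def, inv_inv] at h1
      exact h1
    have hzf := hAB' z hz _ hf
    have hcf := hCB'e (cc b z) (hcC z hz) _ hf
    have hcz := hconj z
    generalize cc b z = cz at hcf hcz
    have hez' : z * e0 * z⁻¹ = e0 := by
      rw [hez]
      group
    have h1 : z * (b⁻¹ * e0 * b * e0⁻¹) * z⁻¹ =
        cz⁻¹ * (b⁻¹ * e0 * b * e0⁻¹) * (e0 * cz * e0⁻¹) := by
      calc z * (b⁻¹ * e0 * b * e0⁻¹) * z⁻¹
          = (z * b * z⁻¹)⁻¹ * (z * e0 * z⁻¹) * (z * b * z⁻¹) * (z * e0 * z⁻¹)⁻¹ := by group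
        _ = (b * cz)⁻¹ * e0 * (b * cz) * e0⁻¹ := by rw [hcz, hez']
        _ = cz⁻¹ * (b⁻¹ * e0 * b * e0⁻¹) * (e0 * cz * e0⁻¹) := by group
    generalize b⁻¹ * e0 * b * e0⁻¹ = f at h1 hzf hcf
    have h2 : f = cz⁻¹ * f * (e0 * cz * e0⁻¹) := by
      rw [← h1, hzf]
      group
    have h3 : cz⁻¹ * f = f * cz⁻¹ := by
      calc cz⁻¹ * f = cz⁻¹ * (f * cz) * cz⁻¹ := by group
        _ = cz⁻¹ * (cz * f) * cz⁻¹ := by rw [hcf]
        _ = f * cz⁻¹ := by group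
    rw [h3] at h2
    have h4 : cz⁻¹ * (e0 * cz * e0⁻¹) = 1 := by
      have h5 : f * 1 = f * (cz⁻¹ * (e0 * cz * e0⁻¹)) := by
        rw [mul_one, ← mul_assoc]
        exact h2
      exact (mul_left_cancel h5).symm
    calc e0 * cz = cz * (cz⁻¹ * (e0 * cz * e0⁻¹)) * e0 := by group
      _ = cz * e0 := by rw [h4, mul_one]
  have hκ : ∀ x ∈ A, ∀ y ∈ A,
      cc b x * cc b y * (cc b x)⁻¹ * (cc b y)⁻¹ = (ee b x y)⁻¹ * ee b y x := by
    intro x hx y hy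
    have h1 : cc b x * (ee b x y * cc b y) = cc b y * (ee b y x * cc b x) := by
      have h2 : cc b x * (ee b x y * cc b y) = b⁻¹ * (x * y) * b * (x * y)⁻¹ := by
        rw [ee_def, cc_def, cc_def]
        group
      have h3 : cc b y * (ee b y x * cc b x) = b⁻¹ * (y * x) * b * (y * x)⁻¹ := by
        rw [ee_def, cc_def, cc_def]
        group
      rw [h2, h3, hA x hx y hy]
    have h4 := hec x hx y hy x hx
    have h5 := hec y hy x hx y hy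
    generalize ee b x y = e1 at h1 h4
    generalize ee b y x = e2 at h1 h5
    generalize cc b x = p at h1 h4 h5
    generalize cc b y = q at h1 h4 h5
    have h6 : e1 * (p * q) = e2 * (q * p) := by
      calc e1 * (p * q) = (e1 * p) * q := by group
        _ = (p * e1) * q := by rw [h4]
        _ = p * (e1 * q) := by group
        _ = q * (e2 * p) := h1
        _ = (q * e2) * p := by group
        _ = (e2 * q) * p := by rw [h5]
        _ = e2 * (q * p) := by group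
    calc p * q * p⁻¹ * q⁻¹ = e1⁻¹ * (e1 * (p * q)) * p⁻¹ * q⁻¹ := by group
      _ = e1⁻¹ * (e2 * (q * p)) * p⁻¹ * q⁻¹ := by rw [h6]
      _ = e1⁻¹ * e2 := by group
  have hκZ : ∀ x ∈ A, ∀ y ∈ A, ∀ t ∈ B,
      t * (cc b x * cc b y * (cc b x)⁻¹ * (cc b y)⁻¹) =
        (cc b x * cc b y * (cc b x)⁻¹ * (cc b y)⁻¹) * t := by
    intro x hx y hy t ht
    apply hZ _ _ t ht
    have h1 := Subgroup.commutator_mem_commutator (hcC x hx) (hcC y hy)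
    rw [commutatorElement_def] at h1
    exact h1
  have hbe : ∀ x ∈ A, ∀ y ∈ A, b * ee b x y * b⁻¹ * (ee b x y)⁻¹ =
      (cc b x * cc b y * (cc b x)⁻¹ * (cc b y)⁻¹)⁻¹ := by
    intro x hx y hy
    have he1 := heDA x hx y hy
    have heC : ee b x y ∈ ⁅B, A⁆ := hDAC he1
    have heB : ee b x y ∈ B := hCB heC
    have hg0 : b * cc b y * b⁻¹ * (cc b y)⁻¹ ∈ ⁅B, B⁆ := by
      have h1 := Subgroup.commutator_mem_commutator hb (hCB (hcC y hy))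
      rw [commutatorElement_def] at h1
      exact h1
    apply word1 b (cc b x) (cc b y) (ee b x y) _ rfl
    · exact (hec x hx y hy x hx).symm
    · exact hκZ x hx y hy _ heB
    · exact hκZ x hx y hy b hb
    · exact (hCB'e _ heC _ hg0).symm
    · have h1 := hAB' x hx _ hg0
      have h2 : x * (b * cc b y * b⁻¹ * (cc b y)⁻¹) * x⁻¹ =
          (x * b * x⁻¹) * (x * cc b y * x⁻¹) * (x * b * x⁻¹)⁻¹ * (x * cc b y * x⁻¹)⁻¹ := by
        group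
      have h3 : x * cc b y * x⁻¹ = ee b x y * cc b y := by
        rw [ee_def]
        group
      rw [hconj x, h3] at h2
      rw [← h2, h1]
      group
  have hsq : ∀ x ∈ A, ∀ y ∈ A, (cc b x * cc b y * (cc b x)⁻¹ * (cc b y)⁻¹) ^ 2 = 1 := by
    intro x hx y hy
    have h1 := hbe x hx y hy
    have h2 := hbe y hy x hx
    have h3 := hκ x hx y hy
    have h4 := hκZ x hx y hy b hb
    have he1 : ee b x y ∈ B := hCB (hDAC (heDA x hx y hy))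
    have h5 := hκZ x hx y hy _ he1
    generalize ee b x y = e1 at h1 h3 h5
    generalize ee b y x = e2 at h2 h3
    generalize cc b x = p at h1 h2 h3 h4 h5 ⊢
    generalize cc b y = q at h1 h2 h3 h4 h5 ⊢
    have h7 : (q * p * q⁻¹ * p⁻¹)⁻¹ = p * q * p⁻¹ * q⁻¹ := by group
    rw [h7] at h2
    generalize p * q * p⁻¹ * q⁻¹ = κ at h1 h2 h3 h4 h5 ⊢
    have h6 : e2 = e1 * κ := by
      rw [h3]
      group
    rw [h6] at h2
    have h8 : b * (e1 * κ) * b⁻¹ * (e1 * κ)⁻¹ = b * e1 * b⁻¹ * e1⁻¹ := by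
      have h9 : κ * b⁻¹ = b⁻¹ * κ := by
        calc κ * b⁻¹ = b⁻¹ * (b * κ) * b⁻¹ := by group
          _ = b⁻¹ * (κ * b) * b⁻¹ := by rw [h4]
          _ = b⁻¹ * κ := by group
      calc b * (e1 * κ) * b⁻¹ * (e1 * κ)⁻¹ = b * e1 * (κ * b⁻¹) * κ⁻¹ * e1⁻¹ := by group
        _ = b * e1 * (b⁻¹ * κ) * κ⁻¹ * e1⁻¹ := by rw [h9]
        _ = b * e1 * b⁻¹ * e1⁻¹ := by group
    rw [h8, h1] at h2
    rw [sq]
    calc κ * κ = κ⁻¹ * κ := by rw [h2]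
      _ = 1 := inv_mul_cancel κ
  have hZD : ∀ u ∈ D, ∀ v ∈ D, ∀ t ∈ B,
      t * (u * v * u⁻¹ * v⁻¹) = (u * v * u⁻¹ * v⁻¹) * t := by
    intro u hu v hv t ht
    apply hZ _ _ t ht
    have h1 := Subgroup.commutator_mem_commutator (hDC hu) (hDC hv)
    rw [commutatorElement_def] at h1
    exact h1
  have hkB : ∀ u ∈ D, ∀ v ∈ D, u * v * u⁻¹ * v⁻¹ ∈ B := by
    intro u hu v hv
    exact B.mul_mem (B.mul_mem (B.mul_mem (hDB hu) (hDB hv)) (B.inv_mem (hDB hu)))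
      (B.inv_mem (hDB hv))
  have hP : ∀ u ∈ D, ∀ v ∈ D, (u * v * u⁻¹ * v⁻¹) ^ 2 = 1 := by
    intro u hu v hv
    refine Subgroup.closure_induction₂ (k := {g : G | ∃ a ∈ A, g = b⁻¹ * a * b * a⁻¹})
      (p := fun u v _ _ => (u * v * u⁻¹ * v⁻¹) ^ 2 = 1) ?_ ?_ ?_ ?_ ?_ ?_ ?_ hu hv
    · rintro _ _ ⟨x, hx, rfl⟩ ⟨y, hy, rfl⟩
      exact hsq x hx y hy
    · intro x _
      simp
    · intro x _
      simp
    · intro x y z hx hy hz h1 h2
      have h3 : x * y * z * (x * y)⁻¹ * z⁻¹ =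
          x * (y * z * y⁻¹ * z⁻¹) * x⁻¹ * (x * z * x⁻¹ * z⁻¹) := by group
      have h4 := hZD y hy z hz x (hDB hx)
      have h5 : x * (y * z * y⁻¹ * z⁻¹) * x⁻¹ = y * z * y⁻¹ * z⁻¹ := by
        rw [h4]
        group
      show (x * y * z * (x * y)⁻¹ * z⁻¹) ^ 2 = 1
      rw [h3, h5]
      exact sq_mul_of_comm (hZD y hy z hz _ (hkB x hx z hz)) h2 h1
    · intro y z x hy hz hx h1 h2
      have h3 : x * (y * z) * x⁻¹ * (y * z)⁻¹ =
          (x * y * x⁻¹ * y⁻¹) * (y * (x * z * x⁻¹ * z⁻¹) * y⁻¹) := by group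
      have h4 := hZD x hx z hz y (hDB hy)
      have h5 : y * (x * z * x⁻¹ * z⁻¹) * y⁻¹ = x * z * x⁻¹ * z⁻¹ := by
        rw [h4]
        group
      show (x * (y * z) * x⁻¹ * (y * z)⁻¹) ^ 2 = 1
      rw [h3, h5]
      exact sq_mul_of_comm (hZD x hx y hy _ (hkB x hx z hz)) h1 h2
    · intro x y hx hy h1
      have h4 := hZD x hx y hy x (hDB hx)
      have h3 : x⁻¹ * y * x⁻¹⁻¹ * y⁻¹ = (x * y * x⁻¹ * y⁻¹)⁻¹ := by
        calc x⁻¹ * y * x⁻¹⁻¹ * y⁻¹ = (x⁻¹ * ((x * y * x⁻¹ * y⁻¹) * x))⁻¹ := by group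
          _ = (x⁻¹ * (x * (x * y * x⁻¹ * y⁻¹)))⁻¹ := by rw [h4]
          _ = (x * y * x⁻¹ * y⁻¹)⁻¹ := by group
      show (x⁻¹ * y * x⁻¹⁻¹ * y⁻¹) ^ 2 = 1
      rw [h3, inv_pow, h1, inv_one]
    · intro x y hx hy h1
      have h4 := hZD x hx y hy y (hDB hy)
      have h3 : x * y⁻¹ * x⁻¹ * y⁻¹⁻¹ = (x * y * x⁻¹ * y⁻¹)⁻¹ := by
        calc x * y⁻¹ * x⁻¹ * y⁻¹⁻¹ = (y⁻¹ * ((x * y * x⁻¹ * y⁻¹) * y))⁻¹ := by group
          _ = (y⁻¹ * (y * (x * y * x⁻¹ * y⁻¹)))⁻¹ := by rw [h4]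
          _ = (x * y * x⁻¹ * y⁻¹)⁻¹ := by group
      show (x * y⁻¹ * x⁻¹ * y⁻¹⁻¹) ^ 2 = 1
      rw [h3, inv_pow, h1, inv_one]
  have hDDZ : ⁅D, D⁆ ≤ ⁅⁅B, A⁆, ⁅B, A⁆⁆ := Subgroup.commutator_mono hDC hDC
  have hDDB : ⁅D, D⁆ ≤ B := (Subgroup.commutator_mono hDB hDB).trans hB'B
  intro w hw
  have key : ∀ w ∈ ⁅D, D⁆, w ^ 2 = 1 := by
    intro w hw
    have hw' := hw
    rw [Subgroup.commutator_def] at hw'
    induction hw' using Subgroup.closure_induction with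
    | mem g hg =>
      obtain ⟨u, hu, v, hv, rfl⟩ := hg
      rw [commutatorElement_def]
      exact hP u hu v hv
    | one => simp
    | mul x y hx hy ihx ihy =>
      have hx' : x ∈ ⁅D, D⁆ := by
        rw [Subgroup.commutator_def]
        exact hx
      have hy' : y ∈ ⁅D, D⁆ := by
        rw [Subgroup.commutator_def]
        exact hy
      exact sq_mul_of_comm (hZ x (hDDZ hx') y (hDDB hy')) (ihx hx') (ihy hy')
    | inv x hx ihx =>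
      have hx' : x ∈ ⁅D, D⁆ := by
        rw [Subgroup.commutator_def]
        exact hx
      rw [inv_pow, ihx hx', inv_one]
  exact key w hw

end Cfsg.Agent.Lib_helper1_CommCalc
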