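import Cfsg.Prelude.Def_PLocal
import Cfsg.Agent.Lib_helper1_Thompson

set_option autoImplicit false

namespace Cfsg.Agent.Lib_helper1_Offender

open Cfsg Cfsg.Agent.Lib_helper1_Basic Cfsg.Agent.Lib_helper1_Hall Cfsg.Agent.Lib_helper1_Socle
  Cfsg.Agent.Lib_helper1_Thompson

universe u

open scoped commutatorElement

variable {G : Type u} [Group G]

theorem centralizer_anti {H K : Subgroup G} (h : H ≤ K) :
    Subgroup.centralizer (K : Set G) ≤ Subgroup.centralizer (H : Set G) :=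
  Subgroup.centralizer_le (SetLike.coe_subset_coe.mpr h)

theorem centralizer_sup (H K : Subgroup G) :
    Subgroup.centralizer ((H ⊔ K : Subgroup G) : Set G) =
      Subgroup.centralizer (H : Set G) ⊓ Subgroup.centralizer (K : Set G) := by
  apply le_antisymm
  · exact le_inf (centralizer_anti le_sup_left) (centralizer_anti le_sup_right)
  · intro x hx
    have h1 : Subgroup.zpowers x ≤ Subgroup.centralizer (H : Set G) :=
      Subgroup.zpowers_le.mpr hx.1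
    have h2 : Subgroup.zpowers x ≤ Subgroup.centralizer (K : Set G) :=
      Subgroup.zpowers_le.mpr hx.2
    have h3 : H ⊔ K ≤ Subgroup.centralizer (Subgroup.zpowers x : Set G) :=
      sup_le (Subgroup.le_centralizer_iff.mp h1) (Subgroup.le_centralizer_iff.mp h2)
    exact (Subgroup.le_centralizer_iff.mp h3) (Subgroup.mem_zpowers x)

theorem commutator_le_of_le_normalizer (V U A : Subgroup G) (hUV : U ≤ V)
    (hAV : A ≤ Subgroup.normalizer (V : Set G)) : ⁅U, A⁆ ≤ V := by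
  rw [Subgroup.commutator_le]
  intro u hu a ha
  have h1 : a * u⁻¹ * a⁻¹ ∈ V :=
    (Subgroup.mem_normalizer_iff.mp (hAV ha) u⁻¹).mp (V.inv_mem (hUV hu))
  have h2 : ⁅u, a⁆ = u * (a * u⁻¹ * a⁻¹) := by rw [commutatorElement_def]; group
  rw [h2]; exact V.mul_mem (hUV hu) h1

/-- Inside an abelian subgroup normalized by `A`, commutators with `A` are additive. -/
theorem sup_commutator_of_abelian (V A H₁ H₂ : Subgroup G) [IsMulCommutative V]
    (hAV : A ≤ Subgroup.normalizer (V : Set G)) (h1 : H₁ ≤ V) (h2 : H₂ ≤ V) :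
    ⁅H₁ ⊔ H₂, A⁆ = ⁅H₁, A⁆ ⊔ ⁅H₂, A⁆ := by
  apply le_antisymm
  · have hRV : ⁅H₁, A⁆ ⊔ ⁅H₂, A⁆ ≤ V :=
      sup_le (commutator_le_of_le_normalizer V H₁ A h1 hAV)
        (commutator_le_of_le_normalizer V H₂ A h2 hAV)
    have hcV : ∀ h ∈ V, ∀ a ∈ A, ⁅h, a⁆ ∈ V := fun h hh a ha =>
      commutator_le_of_le_normalizer V V A le_rfl hAV (Subgroup.commutator_mem_commutator hh ha)
    let T : Subgroup G :=
      { carrier := {h | h ∈ V ∧ ∀ a ∈ A, ⁅h, a⁆ ∈ ⁅H₁, A⁆ ⊔ ⁅H₂, A⁆}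
        mul_mem' := by
          rintro x y ⟨hx, hxa⟩ ⟨hy, hya⟩
          refine ⟨V.mul_mem hx hy, fun a ha => ?_⟩
          have e : ⁅x * y, a⁆ = x * ⁅y, a⁆ * x⁻¹ * ⁅x, a⁆ := by
            simp only [commutatorElement_def]; group
          have e2 : x * ⁅y, a⁆ * x⁻¹ = ⁅y, a⁆ := by
            rw [setLike_mul_comm hx (hcV y hy a ha)]; group
          rw [e, e2]
          exact Subgroup.mul_mem _ (hya a ha) (hxa a ha)
        one_mem' := by
          refine ⟨V.one_mem, fun a _ => ?_⟩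
          have : ⁅(1 : G), a⁆ = 1 := by simp [commutatorElement_def]
          rw [this]; exact Subgroup.one_mem _
        inv_mem' := by
          rintro x ⟨hx, hxa⟩
          refine ⟨V.inv_mem hx, fun a ha => ?_⟩
          have e : ⁅x⁻¹, a⁆ = x⁻¹ * ⁅x, a⁆⁻¹ * x := by
            simp only [commutatorElement_def]; group
          have e2 : x⁻¹ * ⁅x, a⁆⁻¹ * x = ⁅x, a⁆⁻¹ := by
            rw [setLike_mul_comm (V.inv_mem hx) (V.inv_mem (hcV x hx a ha))]; group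
          rw [e, e2]
          exact Subgroup.inv_mem _ (hxa a ha) }
    have hT1 : H₁ ≤ T := fun h hh =>
      ⟨h1 hh, fun a ha => Subgroup.mem_sup_left (Subgroup.commutator_mem_commutator hh ha)⟩
    have hT2 : H₂ ≤ T := fun h hh =>
      ⟨h2 hh, fun a ha => Subgroup.mem_sup_right (Subgroup.commutator_mem_commutator hh ha)⟩
    rw [Subgroup.commutator_le]
    intro h hh a ha
    exact (sup_le hT1 hT2 hh).2 a ha
  · exact sup_le (Subgroup.commutator_mono le_sup_left le_rfl)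
      (Subgroup.commutator_mono le_sup_right le_rfl)

/-- The best-offender lattice property: maximizers are closed under intersection, and fixed
points add. -/
theorem inf_best [Finite G] (V A B₁ B₂ : Subgroup G) (m : ℕ)
    (hmax : ∀ B : Subgroup G, B ≤ A →
      Nat.card B * Nat.card ↥(V ⊓ Subgroup.centralizer (B : Set G)) ≤ m)
    (h1A : B₁ ≤ A) (h2A : B₂ ≤ A)
    (h1 : Nat.card B₁ * Nat.card ↥(V ⊓ Subgroup.centralizer (B₁ : Set G)) = m)
    (h2 : Nat.card B₂ * Nat.card ↥(V ⊓ Subgroup.centralizer (B₂ : Set G)) = m) :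
    Nat.card ↥(B₁ ⊓ B₂) *
        Nat.card ↥(V ⊓ Subgroup.centralizer ((B₁ ⊓ B₂ : Subgroup G) : Set G)) = m ∧
      V ⊓ Subgroup.centralizer ((B₁ ⊓ B₂ : Subgroup G) : Set G) =
        (V ⊓ Subgroup.centralizer (B₁ : Set G)) ⊔ (V ⊓ Subgroup.centralizer (B₂ : Set G)) := by
  have e1 := card_mul_card_le B₁ B₂
  have e2 := card_mul_card_le (V ⊓ Subgroup.centralizer (B₁ : Set G))
    (V ⊓ Subgroup.centralizer (B₂ : Set G))
  have hcJ : (V ⊓ Subgroup.centralizer (B₁ : Set G)) ⊓ (V ⊓ Subgroup.centralizer (B₂ : Set G)) =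
      V ⊓ Subgroup.centralizer ((B₁ ⊔ B₂ : Subgroup G) : Set G) := by
    rw [centralizer_sup]
    apply le_antisymm
    · exact le_inf (inf_le_left.trans inf_le_left)
        (le_inf (inf_le_left.trans inf_le_right) (inf_le_right.trans inf_le_right))
    · exact le_inf (le_inf inf_le_left (inf_le_right.trans inf_le_left))
        (le_inf inf_le_left (inf_le_right.trans inf_le_right))
  rw [hcJ] at e2
  have hle : (V ⊓ Subgroup.centralizer (B₁ : Set G)) ⊔ (V ⊓ Subgroup.centralizer (B₂ : Set G)) ≤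
      V ⊓ Subgroup.centralizer ((B₁ ⊓ B₂ : Subgroup G) : Set G) :=
    sup_le (inf_le_inf_left V (centralizer_anti inf_le_left))
      (inf_le_inf_left V (centralizer_anti inf_le_right))
  have e3 := Subgroup.card_le_of_le hle
  have hI := hmax (B₁ ⊓ B₂) (inf_le_left.trans h1A)
  have hJ := hmax (B₁ ⊔ B₂) (sup_le h1A h2A)
  -- abbreviations
  obtain ⟨b1, hb1⟩ : ∃ n, n = Nat.card B₁ := ⟨_, rfl⟩
  obtain ⟨b2, hb2⟩ : ∃ n, n = Nat.card B₂ := ⟨_, rfl⟩
  obtain ⟨c1, hc1⟩ : ∃ n, n = Nat.card ↥(V ⊓ Subgroup.centralizer (B₁ : Set G)) := ⟨_, rfl⟩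
  obtain ⟨c2, hc2⟩ : ∃ n, n = Nat.card ↥(V ⊓ Subgroup.centralizer (B₂ : Set G)) := ⟨_, rfl⟩
  obtain ⟨i, hi⟩ : ∃ n, n = Nat.card ↥(B₁ ⊓ B₂) := ⟨_, rfl⟩
  obtain ⟨j, hj⟩ : ∃ n, n = Nat.card ↥(B₁ ⊔ B₂) := ⟨_, rfl⟩
  obtain ⟨ci, hci⟩ : ∃ n, n = Nat.card
    ↥(V ⊓ Subgroup.centralizer ((B₁ ⊓ B₂ : Subgroup G) : Set G)) := ⟨_, rfl⟩
  obtain ⟨cj, hcj⟩ : ∃ n, n = Nat.card
    ↥(V ⊓ Subgroup.centralizer ((B₁ ⊔ B₂ : Subgroup G) : Set G)) := ⟨_, rfl⟩
  obtain ⟨s, hs⟩ : ∃ n, n = Nat.card ↥((V ⊓ Subgroup.centralizer (B₁ : Set G)) ⊔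
    (V ⊓ Subgroup.centralizer (B₂ : Set G))) := ⟨_, rfl⟩
  rw [← hb1, ← hb2, ← hi, ← hj] at e1
  rw [← hc1, ← hc2, ← hs, ← hcj] at e2
  rw [← hs, ← hci] at e3
  rw [← hi, ← hci] at hI
  rw [← hj, ← hcj] at hJ
  rw [← hb1, ← hc1] at h1
  rw [← hb2, ← hc2] at h2
  have hipos : 0 < i := hi ▸ Nat.card_pos
  have hjpos : 0 < j := hj ▸ Nat.card_pos
  have hcjpos : 0 < cj := hcj ▸ Nat.card_pos
  have hcipos : 0 < ci := hci ▸ Nat.card_pos
  have hb1pos : 0 < b1 := hb1 ▸ Nat.card_pos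
  have hc1pos : 0 < c1 := hc1 ▸ Nat.card_pos
  have hmpos : 0 < m := h1 ▸ Nat.mul_pos hb1pos hc1pos
  have hmm : m * m = (b1 * b2) * (c1 * c2) := by
    have : m * m = (b1 * c1) * (b2 * c2) := by rw [h1, h2]
    rw [this]; ring
  have hchain : (b1 * b2) * (c1 * c2) ≤ (j * i) * (s * cj) := Nat.mul_le_mul e1 e2
  have hchain2 : (j * i) * (s * cj) ≤ (j * i) * (ci * cj) :=
    Nat.mul_le_mul_left _ (Nat.mul_le_mul_right _ e3)
  have hfin : (j * i) * (ci * cj) = (i * ci) * (j * cj) := by ring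
  have hprod : m * m ≤ (i * ci) * (j * cj) := by
    rw [hmm, ← hfin]; exact hchain.trans hchain2
  have hIeq : i * ci = m := by
    by_contra hne
    have hlt : i * ci < m := lt_of_le_of_ne hI hne
    have : (i * ci) * (j * cj) < m * m :=
      calc (i * ci) * (j * cj) < m * (j * cj) :=
            Nat.mul_lt_mul_of_pos_right hlt (Nat.mul_pos hjpos hcjpos)
        _ ≤ m * m := Nat.mul_le_mul_left _ hJ
    omega
  have hseq : s = ci := by
    by_contra hne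
    have hlt : s < ci := lt_of_le_of_ne e3 hne
    have h5 : (j * i) * (s * cj) < (j * i) * (ci * cj) :=
      Nat.mul_lt_mul_of_pos_left (Nat.mul_lt_mul_of_pos_right hlt hcjpos)
        (Nat.mul_pos hjpos hipos)
    have h6 : (i * ci) * (j * cj) ≤ m * m := Nat.mul_le_mul hI hJ
    have h7 : m * m ≤ (j * i) * (s * cj) := hmm ▸ hchain
    rw [hfin] at h5
    omega
  refine ⟨by rw [← hi, ← hci]; exact hIeq, ?_⟩
  exact (Subgroup.eq_of_le_of_card_ge hle (by rw [← hs, ← hci, hseq])).symm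

/-- key fiber computation: if `(d - 1) u` is fixed by `A`, then `d` centralizes `[u, A]`. -/
theorem mem_centralizer_commutator_of_comm_mem (V A : Subgroup G) [IsMulCommutative V]
    (hAV : A ≤ Subgroup.normalizer (V : Set G))
    (hab : ⁅A, A⁆ ≤ Subgroup.centralizer (V : Set G)) (u : G) (hu : u ∈ V) (d : G) (hd : d ∈ A)
    (hz : d * u * d⁻¹ * u⁻¹ ∈ V ⊓ Subgroup.centralizer (A : Set G)) :
    d ∈ Subgroup.centralizer ((⁅Subgroup.zpowers u, A⁆ : Subgroup G) : Set G) := by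
  have hconj : ∀ a ∈ A, ∀ v ∈ V, a * v * a⁻¹ ∈ V := fun a ha v hv =>
    (Subgroup.mem_normalizer_iff.mp (hAV ha) v).mp hv
  suffices h : ∀ w ∈ ⁅Subgroup.zpowers u, A⁆, d * w * d⁻¹ = w by
    rw [Subgroup.mem_centralizer_iff]
    intro w hw
    have := h w hw
    calc w * d = d * w * d⁻¹ * d := by rw [this]
      _ = d * w := by group
  suffices h : ⁅Subgroup.zpowers u, A⁆ ≤ Subgroup.centralizer ({d} : Set G) by
    intro w hw
    have h1 := Subgroup.mem_centralizer_iff.mp (h hw) d (Set.mem_singleton d)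
    rw [h1]; group
  rw [Subgroup.commutator_le]
  intro g hg a ha
  obtain ⟨k, rfl⟩ := Subgroup.mem_zpowers_iff.mp hg
  have hv : u ^ k ∈ V := V.zpow_mem hu k
  have hzk : d * u ^ k * d⁻¹ * (u ^ k)⁻¹ ∈ V ⊓ Subgroup.centralizer (A : Set G) := by
    have e : d * u ^ k * d⁻¹ * (u ^ k)⁻¹ = (d * u * d⁻¹ * u⁻¹) ^ k := by
      have hc : Commute (d * u * d⁻¹) u⁻¹ := setLike_mul_comm (hconj d hd u hu) (V.inv_mem hu)
      rw [hc.mul_zpow, conj_zpow, inv_zpow]
    rw [e]; exact Subgroup.zpow_mem _ hz k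
  obtain ⟨v, hvdef⟩ : ∃ v, v = u ^ k := ⟨_, rfl⟩
  rw [← hvdef] at hv hzk ⊢
  obtain ⟨z, hzdef⟩ : ∃ z, z = d * v * d⁻¹ * v⁻¹ := ⟨_, rfl⟩
  rw [← hzdef] at hzk
  have hzV : z ∈ V := hzk.1
  have hza : a * z⁻¹ * a⁻¹ = z⁻¹ := by
    have h1 := Subgroup.mem_centralizer_iff.mp hzk.2 a ha
    -- h1 : a * z = z * a
    have h2 : a * z⁻¹ = z⁻¹ * a := by
      calc a * z⁻¹ = z⁻¹ * (z * a) * z⁻¹ := by group
        _ = z⁻¹ * (a * z) * z⁻¹ := by rw [h1]
        _ = z⁻¹ * a := by group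
    rw [h2]; group
  obtain ⟨κ, hκdef⟩ : ∃ κ, κ = d⁻¹ * a⁻¹ * d * a := ⟨_, rfl⟩
  have hκ : κ * v⁻¹ * κ⁻¹ = v⁻¹ := by
    have hκm : κ ∈ ⁅A, A⁆ := by
      have := Subgroup.commutator_mem_commutator (A.inv_mem hd) (A.inv_mem ha)
      rw [commutatorElement_def] at this
      simp only [inv_inv] at this
      rw [hκdef]; exact this
    have h1 := Subgroup.mem_centralizer_iff.mp (hab hκm) v⁻¹ (V.inv_mem hv)
    -- h1 : v⁻¹ * κ = κ * v⁻¹
    rw [← h1]; group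
  have e1 : d * (a * v⁻¹ * a⁻¹) * d⁻¹ = a * (d * (κ * v⁻¹ * κ⁻¹) * d⁻¹) * a⁻¹ := by
    rw [hκdef]; group
  rw [hκ] at e1
  have e2 : d * v⁻¹ * d⁻¹ = v⁻¹ * z⁻¹ := by rw [hzdef]; group
  rw [e2] at e1
  have e3 : a * (v⁻¹ * z⁻¹) * a⁻¹ = (a * v⁻¹ * a⁻¹) * (a * z⁻¹ * a⁻¹) := by group
  rw [e3, hza] at e1
  -- e1 : d * (a * v⁻¹ * a⁻¹) * d⁻¹ = a * v⁻¹ * a⁻¹ * z⁻¹
  have hcV : ⁅v, a⁆ ∈ V :=
    commutator_le_of_le_normalizer V V A le_rfl hAV (Subgroup.commutator_mem_commutator hv ha)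
  have e4 : d * ⁅v, a⁆ * d⁻¹ = (z * v) * (d * (a * v⁻¹ * a⁻¹) * d⁻¹) := by
    rw [hzdef, commutatorElement_def]; group
  have e5 : (z * v) * (a * v⁻¹ * a⁻¹ * z⁻¹) = z * ⁅v, a⁆ * z⁻¹ := by
    rw [commutatorElement_def]; group
  have e6 : z * ⁅v, a⁆ * z⁻¹ = ⁅v, a⁆ := by
    rw [setLike_mul_comm hzV hcV]; group
  rw [Subgroup.mem_centralizer_iff]
  intro x hx
  rw [Set.mem_singleton_iff] at hx
  subst hx
  have e7 : x * ⁅v, a⁆ * x⁻¹ = ⁅v, a⁆ := by rw [e4, e1, e5, e6]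
  calc x * ⁅v, a⁆ = x * ⁅v, a⁆ * x⁻¹ * x := by group
    _ = ⁅v, a⁆ * x := by rw [e7]

/-- the cyclic case of the replacement inequality -/
theorem cyclic_case [Finite G] (V A : Subgroup G) [IsMulCommutative V]
    (hAV : A ≤ Subgroup.normalizer (V : Set G))
    (hab : ⁅A, A⁆ ≤ Subgroup.centralizer (V : Set G)) (u : G) (hu : u ∈ V) :
    Nat.card A * Nat.card ↥(V ⊓ Subgroup.centralizer (A : Set G)) ≤
      Nat.card ↥(A ⊓ Subgroup.centralizer ((⁅Subgroup.zpowers u, A⁆ : Subgroup G) : Set G)) *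
        Nat.card ↥(⁅Subgroup.zpowers u, A⁆ ⊔ (V ⊓ Subgroup.centralizer (A : Set G)) :
          Subgroup G) := by
  classical
  obtain ⟨c, hc⟩ : ∃ c, c = V ⊓ Subgroup.centralizer (A : Set G) := ⟨_, rfl⟩
  obtain ⟨W, hW⟩ : ∃ W, W = ⁅Subgroup.zpowers u, A⁆ := ⟨_, rfl⟩
  obtain ⟨B, hB⟩ : ∃ B, B = A ⊓ Subgroup.centralizer (W : Set G) := ⟨_, rfl⟩
  obtain ⟨X, hX⟩ : ∃ X, X = W ⊔ c := ⟨_, rfl⟩
  rw [← hc, ← hW, ← hB, ← hX]
  have hconj : ∀ a ∈ A, ∀ v ∈ V, a * v * a⁻¹ ∈ V := fun a ha v hv =>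
    (Subgroup.mem_normalizer_iff.mp (hAV ha) v).mp hv
  have hcX : c ≤ X := hX ▸ le_sup_right
  have hψ : ∀ a : A, (a : G) * u * (a : G)⁻¹ * u⁻¹ ∈ X := by
    intro a
    have h1 : ⁅u, (a : G)⁆ ∈ W := hW ▸ Subgroup.commutator_mem_commutator
      (Subgroup.mem_zpowers u) a.2
    have h2 : (a : G) * u * (a : G)⁻¹ * u⁻¹ = ⁅u, (a : G)⁆⁻¹ := by
      rw [commutatorElement_def]; group
    rw [h2, hX]
    exact Subgroup.mem_sup_left (W.inv_mem h1)
  let F : A → (↥X ⧸ c.subgroupOf X) := fun a =>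
    QuotientGroup.mk ⟨(a : G) * u * (a : G)⁻¹ * u⁻¹, hψ a⟩
  have hF : ∀ a a' : A, F a = F a' → ((a : G)⁻¹ * (a' : G)) ∈ B := by
    intro a a' h
    have h1 := QuotientGroup.eq.mp h
    rw [Subgroup.mem_subgroupOf] at h1
    have h2 : ((a : G) * u * (a : G)⁻¹ * u⁻¹)⁻¹ * ((a' : G) * u * (a' : G)⁻¹ * u⁻¹) ∈ c := h1
    obtain ⟨z, hzdef⟩ : ∃ z, z = ((a : G) * u * (a : G)⁻¹ * u⁻¹)⁻¹ *
      ((a' : G) * u * (a' : G)⁻¹ * u⁻¹) := ⟨_, rfl⟩
    rw [← hzdef] at h2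
    have hzc : z ∈ Subgroup.centralizer (A : Set G) := (hc ▸ h2).2
    have hza : (a : G)⁻¹ * z * (a : G) = z := by
      have h3 := Subgroup.mem_centralizer_iff.mp hzc (a : G) a.2
      -- h3 : a * z = z * a
      calc (a : G)⁻¹ * z * (a : G) = (a : G)⁻¹ * (z * (a : G)) := by group
        _ = (a : G)⁻¹ * ((a : G) * z) := by rw [h3]
        _ = z := by group
    obtain ⟨d, hddef⟩ : ∃ d, d = (a : G)⁻¹ * (a' : G) := ⟨_, rfl⟩
    have hdA : d ∈ A := hddef ▸ A.mul_mem (A.inv_mem a.2) a'.2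
    obtain ⟨p, hpdef⟩ : ∃ p, p = (a : G)⁻¹ * u * (a : G) := ⟨_, rfl⟩
    obtain ⟨q, hqdef⟩ : ∃ q, q = d * u * d⁻¹ := ⟨_, rfl⟩
    have hpV : p ∈ V := by
      have := hconj (a : G)⁻¹ (A.inv_mem a.2) u hu
      rw [inv_inv] at this
      rw [hpdef]; exact this
    have hqV : q ∈ V := hqdef ▸ hconj d hdA u hu
    have e1 : (a : G)⁻¹ * z * (a : G) = p * (u⁻¹ * q) * p⁻¹ := by
      rw [hzdef, hpdef, hqdef, hddef]; group
    have e2 : p * (u⁻¹ * q) * p⁻¹ = u⁻¹ * q := by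
      rw [setLike_mul_comm hpV (V.mul_mem (V.inv_mem hu) hqV)]; group
    have e3 : u⁻¹ * q = q * u⁻¹ := setLike_mul_comm (V.inv_mem hu) hqV
    have e4 : d * u * d⁻¹ * u⁻¹ = z := by
      rw [← hza, e1, e2, e3, hqdef]
    have hzmem : d * u * d⁻¹ * u⁻¹ ∈ V ⊓ Subgroup.centralizer (A : Set G) := by
      rw [e4, ← hc]; exact h2
    have hdc := mem_centralizer_commutator_of_comm_mem V A hAV hab u hu d hdA hzmem
    rw [← hddef, hB, hW]
    exact ⟨hdA, hdc⟩
  let r : (↥X ⧸ c.subgroupOf X) → A := fun q => if h : ∃ a, F a = q then h.choose else 1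
  have hr : ∀ a : A, F (r (F a)) = F a := fun a => by
    have h : ∃ a', F a' = F a := ⟨a, rfl⟩
    simp only [r, dif_pos h]
    exact h.choose_spec
  let Φ : A → (↥X ⧸ c.subgroupOf X) × B := fun a =>
    (F a, ⟨((r (F a) : A) : G)⁻¹ * (a : G), hF _ _ (hr a)⟩)
  have hΦ : Function.Injective Φ := by
    intro a a' h
    have h1 : F a = F a' := congrArg Prod.fst h
    have h2 : ((r (F a) : A) : G)⁻¹ * (a : G) = ((r (F a') : A) : G)⁻¹ * (a' : G) :=
      congrArg (fun x => ((x.2 : B) : G)) h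
    rw [h1] at h2
    exact Subtype.ext (mul_left_cancel h2)
  have hcard := Nat.card_le_card_of_injective Φ hΦ
  rw [Nat.card_prod] at hcard
  have hQ : Nat.card (↥X ⧸ c.subgroupOf X) * Nat.card c = Nat.card X := by
    have := Subgroup.card_mul_index (c.subgroupOf X)
    rw [card_subgroupOf_of_le hcX, Subgroup.index_eq_card, mul_comm] at this
    exact this
  calc Nat.card A * Nat.card c ≤ (Nat.card (↥X ⧸ c.subgroupOf X) * Nat.card B) * Nat.card c :=
        Nat.mul_le_mul_right _ hcard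
    _ = Nat.card B * (Nat.card (↥X ⧸ c.subgroupOf X) * Nat.card c) := by ring
    _ = Nat.card B * Nat.card X := by rw [hQ]

theorem inf_centralizer_bot_commutator (A : Subgroup G) :
    A ⊓ Subgroup.centralizer ((⁅(⊥ : Subgroup G), A⁆ : Subgroup G) : Set G) = A := by
  rw [Subgroup.commutator_bot_left]
  apply inf_eq_left.mpr
  intro x _
  rw [Subgroup.mem_centralizer_iff]
  intro h hh
  have : h = 1 := Subgroup.mem_bot.mp hh
  rw [this, one_mul, mul_one]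

/-- Thompson/Timmesfeld replacement for a maximizer `A`. -/
theorem replacement [Finite G] (V A : Subgroup G) [IsMulCommutative V]
    (hAV : A ≤ Subgroup.normalizer (V : Set G))
    (hab : ⁅A, A⁆ ≤ Subgroup.centralizer (V : Set G))
    (hmax : ∀ B : Subgroup G, B ≤ A →
      Nat.card B * Nat.card ↥(V ⊓ Subgroup.centralizer (B : Set G)) ≤
        Nat.card A * Nat.card ↥(V ⊓ Subgroup.centralizer (A : Set G)))
    (U : Subgroup G) (hU : U ≤ V) :
    Nat.card ↥(A ⊓ Subgroup.centralizer ((⁅U, A⁆ : Subgroup G) : Set G)) *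
        Nat.card ↥(V ⊓ Subgroup.centralizer
          ((A ⊓ Subgroup.centralizer ((⁅U, A⁆ : Subgroup G) : Set G) : Subgroup G) : Set G)) =
        Nat.card A * Nat.card ↥(V ⊓ Subgroup.centralizer (A : Set G)) ∧
      V ⊓ Subgroup.centralizer
          ((A ⊓ Subgroup.centralizer ((⁅U, A⁆ : Subgroup G) : Set G) : Subgroup G) : Set G) =
        ⁅U, A⁆ ⊔ (V ⊓ Subgroup.centralizer (A : Set G)) := by
  obtain ⟨m, hm⟩ : ∃ m, m = Nat.card A * Nat.card ↥(V ⊓ Subgroup.centralizer (A : Set G)) :=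
    ⟨_, rfl⟩
  rw [← hm] at hmax ⊢
  obtain ⟨c, hc⟩ : ∃ c, c = V ⊓ Subgroup.centralizer (A : Set G) := ⟨_, rfl⟩
  rw [← hc]
  let P : Subgroup G → Prop := fun U' => U' ≤ U ∧
    Nat.card ↥(A ⊓ Subgroup.centralizer ((⁅U', A⁆ : Subgroup G) : Set G)) *
        Nat.card ↥(V ⊓ Subgroup.centralizer
          ((A ⊓ Subgroup.centralizer ((⁅U', A⁆ : Subgroup G) : Set G) : Subgroup G) : Set G)) = m ∧
      V ⊓ Subgroup.centralizer
          ((A ⊓ Subgroup.centralizer ((⁅U', A⁆ : Subgroup G) : Set G) : Subgroup G) : Set G) =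
        ⁅U', A⁆ ⊔ c
  have hbase : P ⊥ := by
    refine ⟨bot_le, ?_, ?_⟩
    · rw [inf_centralizer_bot_commutator, hm]
    · rw [inf_centralizer_bot_commutator, Subgroup.commutator_bot_left, bot_sup_eq, hc]
  obtain ⟨U₁, ⟨hU₁, h1, h1c⟩, hUmax⟩ := exists_maximal_subgroup P ⟨⊥, hbase⟩
  suffices hstep : ∀ u ∈ U, P (U₁ ⊔ Subgroup.zpowers u) by
    have hUeq : U₁ = U := by
      apply le_antisymm hU₁
      intro u hu
      have h2 := hUmax _ (hstep u hu) le_sup_left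
      rw [← h2]
      exact Subgroup.mem_sup_right (Subgroup.mem_zpowers u)
    rw [← hUeq]
    exact ⟨h1, h1c⟩
  intro u hu
  obtain ⟨Wu, hWu⟩ : ∃ W, W = ⁅Subgroup.zpowers u, A⁆ := ⟨_, rfl⟩
  obtain ⟨Bu, hBu⟩ : ∃ B, B = A ⊓ Subgroup.centralizer (Wu : Set G) := ⟨_, rfl⟩
  obtain ⟨W₁, hW₁⟩ : ∃ W, W = ⁅U₁, A⁆ := ⟨_, rfl⟩
  obtain ⟨B₁, hB₁⟩ : ∃ B, B = A ⊓ Subgroup.centralizer (W₁ : Set G) := ⟨_, rfl⟩
  rw [← hW₁, ← hB₁] at h1 h1c
  have huV : Subgroup.zpowers u ≤ V := Subgroup.zpowers_le.mpr (hU hu)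
  have hcyc := cyclic_case V A hAV hab u (hU hu)
  rw [← hm, ← hWu, ← hBu, ← hc] at hcyc
  have hWuV : Wu ≤ V := hWu ▸ commutator_le_of_le_normalizer V _ A huV hAV
  have hBuA : Bu ≤ A := hBu ▸ inf_le_left
  have hsub : Wu ⊔ c ≤ V ⊓ Subgroup.centralizer (Bu : Set G) := by
    apply le_inf
    · exact sup_le hWuV (hc ▸ inf_le_left)
    · apply sup_le
      · exact Subgroup.le_centralizer_iff.mp (hBu ▸ inf_le_right)
      · exact (hc ▸ inf_le_right : c ≤ Subgroup.centralizer (A : Set G)).trans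
          (centralizer_anti hBuA)
  have hBule := hmax Bu hBuA
  have hle2 : Nat.card Bu * Nat.card ↥(Wu ⊔ c : Subgroup G) ≤
      Nat.card Bu * Nat.card ↥(V ⊓ Subgroup.centralizer (Bu : Set G)) :=
    Nat.mul_le_mul_left _ (Subgroup.card_le_of_le hsub)
  have hBueq : Nat.card Bu * Nat.card ↥(V ⊓ Subgroup.centralizer (Bu : Set G)) = m := by omega
  have hcardeq : Nat.card ↥(Wu ⊔ c : Subgroup G) =
      Nat.card ↥(V ⊓ Subgroup.centralizer (Bu : Set G)) := by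
    have h5 : Nat.card Bu * Nat.card ↥(Wu ⊔ c : Subgroup G) =
        Nat.card Bu * Nat.card ↥(V ⊓ Subgroup.centralizer (Bu : Set G)) := by omega
    exact Nat.eq_of_mul_eq_mul_left Nat.card_pos h5
  have hcvBu : V ⊓ Subgroup.centralizer (Bu : Set G) = Wu ⊔ c :=
    (Subgroup.eq_of_le_of_card_ge hsub hcardeq.ge).symm
  have hB₁A : B₁ ≤ A := hB₁ ▸ inf_le_left
  obtain ⟨hI, hIc⟩ := inf_best V A B₁ Bu m hmax hB₁A hBuA h1 hBueq
  have hcomm : ⁅U₁ ⊔ Subgroup.zpowers u, A⁆ = W₁ ⊔ Wu := by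
    rw [hW₁, hWu]
    exact sup_commutator_of_abelian V A U₁ (Subgroup.zpowers u) hAV (hU₁.trans hU) huV
  have hBB : A ⊓ Subgroup.centralizer ((⁅U₁ ⊔ Subgroup.zpowers u, A⁆ : Subgroup G) : Set G) =
      B₁ ⊓ Bu := by
    rw [hcomm, centralizer_sup, hB₁, hBu]
    apply le_antisymm
    · exact le_inf (le_inf inf_le_left (inf_le_right.trans inf_le_left))
        (le_inf inf_le_left (inf_le_right.trans inf_le_right))
    · exact le_inf (inf_le_left.trans inf_le_left)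
        (le_inf (inf_le_left.trans inf_le_right) (inf_le_right.trans inf_le_right))
  refine ⟨sup_le hU₁ (Subgroup.zpowers_le.mpr hu), ?_, ?_⟩
  · rw [hBB]; exact hI
  · rw [hBB, hIc, h1c, hcvBu, hcomm]
    apply le_antisymm
    · exact sup_le (sup_le (le_sup_left.trans le_sup_left) le_sup_right)
        (sup_le (le_sup_right.trans le_sup_left) le_sup_right)
    · exact sup_le (sup_le (le_sup_left.trans le_sup_left) (le_sup_left.trans le_sup_right))
        (le_sup_right.trans le_sup_left)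

/-- In a nilpotent subgroup `L`, a nontrivial subgroup `U ≤ L` is not inside `[U, L]`. -/
theorem not_le_commutator_of_nilpotent (L U : Subgroup G)
    (hL : Group.IsNilpotent L) (hUL : U ≤ L) (hne : U ≠ ⊥) : ¬ U ≤ ⁅U, L⁆ := by
  intro h
  obtain ⟨n, hn⟩ := (Subgroup.isNilpotent_iff_lowerCentralSeries L).mp hL
  have key : ∀ n, U ≤ L.lowerCentralSeries n := by
    intro n
    induction n with
    | zero => exact hUL
    | succ n ih =>
      rw [Subgroup.lowerCentralSeries_succ]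
      exact h.trans (Subgroup.commutator_mono ih le_rfl)
  have := key n
  rw [hn] at this
  exact hne (eq_bot_iff.mpr this)

/-- The action of `A` on an elementary abelian `p`-group `V`, with `A / C_A(V)` of exponent `p`,
is nilpotent: no nontrivial `W ≤ V` has `W ≤ [W, A]`. -/
theorem not_le_commutator_of_pow_mem [Finite G] {p : ℕ} [Fact p.Prime] (V A : Subgroup G)
    (hV : IsElementaryAbelian p V) (hAV : A ≤ Subgroup.normalizer (V : Set G))
    (hpow : ∀ a ∈ A, a ^ p ∈ Subgroup.centralizer (V : Set G))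
    (W : Subgroup G) (hWV : W ≤ V) (hW : W ≠ ⊥) : ¬ W ≤ ⁅W, A⁆ := by
  haveI := hV.1
  -- the kernel of the action inside `A`
  set CA : Subgroup A := (Subgroup.centralizer (V : Set G)).subgroupOf A with hCA
  haveI hCAn : CA.Normal := by
    constructor
    intro x hx a
    rw [hCA, Subgroup.mem_subgroupOf] at hx ⊢
    rw [Subgroup.mem_centralizer_iff] at hx ⊢
    intro v hv
    have hv' : (a : G)⁻¹ * v * (a : G) ∈ V := by
      have := (Subgroup.mem_normalizer_iff.mp (hAV (A.inv_mem a.2)) v).mp hv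
      simpa using this
    have h1 := hx _ hv'
    simp only [Subgroup.coe_mul, Subgroup.coe_inv]
    calc v * ((a : G) * (x : G) * (a : G)⁻¹)
        = (a : G) * ((a : G)⁻¹ * v * (a : G) * (x : G)) * (a : G)⁻¹ := by group
      _ = (a : G) * ((x : G) * ((a : G)⁻¹ * v * (a : G))) * (a : G)⁻¹ := by rw [h1]
      _ = (a : G) * (x : G) * (a : G)⁻¹ * v := by group
  have hQ : IsPGroup p (A ⧸ CA) := by
    intro q
    refine ⟨1, ?_⟩
    induction q using QuotientGroup.induction_on with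
    | H a =>
      rw [pow_one, ← QuotientGroup.mk_pow, QuotientGroup.eq_one_iff, hCA,
        Subgroup.mem_subgroupOf]
      simpa using hpow (a : G) a.2
  let PA : Sylow p A := default
  have hsup : (PA : Subgroup A) ⊔ CA = ⊤ := by
    rw [← Subgroup.index_eq_one]
    obtain ⟨k, hk⟩ := IsPGroup.iff_card.mp hQ
    have h1 : ((PA : Subgroup A) ⊔ CA).index ∣ (PA : Subgroup A).index :=
      Subgroup.index_dvd_of_le le_sup_left
    have h2 : ((PA : Subgroup A) ⊔ CA).index ∣ CA.index := Subgroup.index_dvd_of_le le_sup_right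
    have hk' : CA.index = p ^ k := by rw [Subgroup.index_eq_card]; exact hk
    rw [hk'] at h2
    have hcop : Nat.Coprime (PA : Subgroup A).index (p ^ k) :=
      Nat.Coprime.pow_right k
        ((Nat.Prime.coprime_iff_not_dvd (Fact.out : p.Prime)).mpr PA.not_dvd_index).symm
    exact Nat.eq_one_of_dvd_coprimes hcop h1 h2
  set P' : Subgroup G := (PA : Subgroup A).map A.subtype with hP'
  have hP'A : P' ≤ A := Subgroup.map_subtype_le _
  have hP'p : IsPGroup p P' := PA.isPGroup'.map A.subtype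
  have hVp : IsPGroup p V := ea_isPGroup hV
  set L : Subgroup G := V ⊔ P' with hL
  have hLp : IsPGroup p L := IsPGroup.to_sup_of_normal_left' hVp hP'p (hP'A.trans hAV)
  have hLn : Group.IsNilpotent L := hLp.isNilpotent
  have hWL : W ≤ L := hWV.trans le_sup_left
  intro hle
  apply not_le_commutator_of_nilpotent L W hLn hWL hW
  refine hle.trans ?_
  rw [Subgroup.commutator_le]
  intro w hw a ha
  have hmem : (⟨a, ha⟩ : A) ∈ (PA : Subgroup A) ⊔ CA := by rw [hsup]; trivial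
  obtain ⟨x, hx, c, hcm, hxc⟩ := Subgroup.mem_sup_of_normal_right.mp hmem
  have hxc' : (x : G) * (c : G) = a := congrArg Subtype.val hxc
  have hcV : (c : G) ∈ Subgroup.centralizer (V : Set G) := by
    rw [hCA, Subgroup.mem_subgroupOf] at hcm
    exact hcm
  have hcw : (c : G) * w⁻¹ * (c : G)⁻¹ = w⁻¹ := by
    have h1 := Subgroup.mem_centralizer_iff.mp hcV w⁻¹ (V.inv_mem (hWV hw))
    rw [← h1]; group
  have e : ⁅w, a⁆ = ⁅w, (x : G)⁆ := by
    rw [← hxc', commutatorElement_def, commutatorElement_def]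
    calc w * ((x : G) * (c : G)) * w⁻¹ * ((x : G) * (c : G))⁻¹
        = w * (x : G) * ((c : G) * w⁻¹ * (c : G)⁻¹) * (x : G)⁻¹ := by group
      _ = w * (x : G) * w⁻¹ * (x : G)⁻¹ := by rw [hcw]
  rw [e]
  apply Subgroup.commutator_mem_commutator hw
  exact (le_sup_right : P' ≤ L) (Subgroup.mem_map_of_mem A.subtype hx)

theorem commutator_ne_bot_of_replacement [Finite G] {p : ℕ} [Fact p.Prime] (V A : Subgroup G)
    (hV : IsElementaryAbelian p V) (hAV : A ≤ Subgroup.normalizer (V : Set G))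
    (hpow : ∀ a ∈ A, a ^ p ∈ Subgroup.centralizer (V : Set G))
    (U : Subgroup G) (hU : U ≤ V)
    (hcv : V ⊓ Subgroup.centralizer
          ((A ⊓ Subgroup.centralizer ((⁅U, A⁆ : Subgroup G) : Set G) : Subgroup G) : Set G) =
        ⁅U, A⁆ ⊔ (V ⊓ Subgroup.centralizer (A : Set G)))
    (hVA : ⁅V, A⁆ ≠ ⊥) :
    ⁅V, A ⊓ Subgroup.centralizer ((⁅U, A⁆ : Subgroup G) : Set G)⁆ ≠ ⊥ := by
  haveI := hV.1
  intro h
  rw [Subgroup.commutator_eq_bot_iff_le_centralizer] at h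
  rw [inf_eq_left.mpr h] at hcv
  have hUAV : ⁅U, A⁆ ≤ V := commutator_le_of_le_normalizer V U A hU hAV
  have h1 : ⁅V, A⁆ = ⁅⁅U, A⁆, A⁆ := by
    conv_lhs => rw [hcv]
    rw [sup_commutator_of_abelian V A _ _ hAV hUAV inf_le_left]
    have : ⁅V ⊓ Subgroup.centralizer (A : Set G), A⁆ = ⊥ :=
      Subgroup.commutator_eq_bot_iff_le_centralizer.mpr inf_le_right
    rw [this, sup_bot_eq]
  have h2 : ⁅V, A⁆ ≤ ⁅⁅V, A⁆, A⁆ := by
    conv_lhs => rw [h1]
    exact Subgroup.commutator_mono (Subgroup.commutator_mono hU le_rfl) le_rfl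
  exact not_le_commutator_of_pow_mem V A hV hAV hpow ⁅V, A⁆
    (commutator_le_of_le_normalizer V V A le_rfl hAV) hVA h2

end Cfsg.Agent.Lib_helper1_Offender
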