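import Mathlib
import Cfsg.Agent.Lib_helper1_PGroup
import Cfsg.Agent.Lib_helper1_Socle
import Cfsg.Agent.Lib_helper1_Offender

set_option autoImplicit false

namespace Cfsg.Agent.Lib_helper1_Critical

open scoped commutatorElement

/-- **Thompson's critical subgroup.** -/
theorem exists_critical {P : Type*} [Group P] [Finite P] {p : ℕ} [Fact p.Prime]
    (hP : IsPGroup p P) :
    ∃ H : Subgroup P, H.Characteristic ∧
      (frattini H).map H.subtype ≤ Subgroup.centralizer (H : Set P) ∧
      ⁅H, (⊤ : Subgroup P)⁆ ≤ H ⊓ Subgroup.centralizer (H : Set P) ∧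
      Subgroup.centralizer (H : Set P) ≤ H ∧
      (∀ x ∈ H, x ^ p ∈ H ⊓ Subgroup.centralizer (H : Set P)) := by
  classical
  have hp : p.Prime := Fact.out
  -- a maximal characteristic abelian subgroup
  have hex : ∃ D : Subgroup P, D.Characteristic ∧ (∀ a ∈ D, ∀ b ∈ D, a * b = b * a) ∧
      ∀ D' : Subgroup P, D'.Characteristic → (∀ a ∈ D', ∀ b ∈ D', a * b = b * a) → D ≤ D' →
        D' = D := by
    haveI : Nonempty {D : Subgroup P // D.Characteristic ∧ ∀ a ∈ D, ∀ b ∈ D, a * b = b * a} :=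
      ⟨⟨⊥, Subgroup.botCharacteristic, by
        intro a ha b hb
        rw [Subgroup.mem_bot] at ha hb
        rw [ha, hb]⟩⟩
    obtain ⟨⟨D, hDc, hDa⟩, hmax⟩ := Finite.exists_max
      (fun D : {D : Subgroup P // D.Characteristic ∧ ∀ a ∈ D, ∀ b ∈ D, a * b = b * a} =>
        Nat.card (D : Subgroup P))
    refine ⟨D, hDc, hDa, fun D' hD'c hD'a hle => ?_⟩
    exact (Subgroup.eq_of_le_of_card_ge hle (hmax ⟨D', hD'c, hD'a⟩)).symm
  obtain ⟨D, hDchar, hDab, hDmax⟩ := hex
  haveI := hDchar
  have hDn : D.Normal := inferInstance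
  have hDφ : ∀ (φ : P ≃* P) (d : P), φ d ∈ D ↔ d ∈ D := by
    intro φ d
    have h := hDchar.fixed φ
    constructor
    · intro hd
      rw [← h]; exact hd
    · intro hd
      rw [← h] at hd; exact hd
  -- the subgroup H
  let H : Subgroup P :=
    { carrier := {x | x ∈ Subgroup.centralizer (D : Set P) ∧ x ^ p ∈ D ∧
        ∀ g : P, x * g * x⁻¹ * g⁻¹ ∈ D}
      one_mem' := ⟨one_mem _, by rw [one_pow]; exact one_mem _, fun g => by simp⟩
      mul_mem' := by
        rintro x y ⟨hx1, hx2, hx3⟩ ⟨hy1, hy2, hy3⟩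
        refine ⟨mul_mem hx1 hy1, ?_, ?_⟩
        · rw [← QuotientGroup.eq_one_iff]
          have hc : Commute (x : P ⧸ D) (y : P ⧸ D) := by
            have h1 : ((x * y * x⁻¹ * y⁻¹ : P) : P ⧸ D) = 1 :=
              (QuotientGroup.eq_one_iff _).mpr (hx3 y)
            have h2 : (x : P ⧸ D) * y * (x : P ⧸ D)⁻¹ * (y : P ⧸ D)⁻¹ = 1 := h1
            show (x : P ⧸ D) * y = y * x
            calc (x : P ⧸ D) * y = ((x : P ⧸ D) * y * (x : P ⧸ D)⁻¹ * (y : P ⧸ D)⁻¹) * (y * x) := by
                  group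
              _ = y * x := by rw [h2, one_mul]
          rw [QuotientGroup.mk_pow, QuotientGroup.mk_mul, hc.mul_pow, ← QuotientGroup.mk_pow,
            ← QuotientGroup.mk_pow, (QuotientGroup.eq_one_iff _).mpr hx2,
            (QuotientGroup.eq_one_iff _).mpr hy2, one_mul]
        · intro g
          have : x * y * g * (x * y)⁻¹ * g⁻¹ = x * (y * g * y⁻¹ * g⁻¹) * x⁻¹ * (x * g * x⁻¹ * g⁻¹) := by
            group
          rw [this]
          exact mul_mem (hDn.conj_mem _ (hy3 g) x) (hx3 g)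
      inv_mem' := by
        rintro x ⟨hx1, hx2, hx3⟩
        refine ⟨inv_mem hx1, by rw [inv_pow]; exact inv_mem hx2, ?_⟩
        intro g
        have : x⁻¹ * g * x⁻¹⁻¹ * g⁻¹ = x⁻¹ * (x * g * x⁻¹ * g⁻¹)⁻¹ * x⁻¹⁻¹ := by group
        rw [this]
        exact hDn.conj_mem _ (inv_mem (hx3 g)) x⁻¹ }
  have hHmem : ∀ x : P, x ∈ H ↔ x ∈ Subgroup.centralizer (D : Set P) ∧ x ^ p ∈ D ∧
      ∀ g : P, x * g * x⁻¹ * g⁻¹ ∈ D := fun x => Iff.rfl
  have hHchar : H.Characteristic := by
    rw [Subgroup.characteristic_iff_map_le]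
    rintro φ _ ⟨x, hx, rfl⟩
    obtain ⟨hx1, hx2, hx3⟩ := (hHmem x).mp hx
    refine (hHmem _).mpr ⟨?_, ?_, ?_⟩
    · rw [Subgroup.mem_centralizer_iff] at hx1 ⊢
      intro d hd
      have hd' : φ.symm d ∈ D := (hDφ φ _).mp (by rw [MulEquiv.apply_symm_apply]; exact hd)
      have h1 := hx1 _ hd'
      have h2 := congrArg φ h1
      rw [map_mul, map_mul, MulEquiv.apply_symm_apply] at h2
      exact h2
    · show (φ x) ^ p ∈ D
      rw [← map_pow]; exact (hDφ φ _).mpr hx2
    · intro g
      have h1 := hx3 (φ.symm g)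
      have h2 := (hDφ φ _).mpr h1
      rw [map_mul, map_mul, map_mul, map_inv, map_inv, MulEquiv.apply_symm_apply] at h2
      exact h2
  haveI := hHchar
  have hDH : D ≤ H := by
    intro d hd
    refine (hHmem d).mpr ⟨?_, pow_mem hd p, ?_⟩
    · rw [Subgroup.mem_centralizer_iff]
      intro e he
      exact hDab e he d hd
    · intro g
      have : d * g * d⁻¹ * g⁻¹ = d * (g * d⁻¹ * g⁻¹) := by group
      rw [this]
      exact mul_mem hd (hDn.conj_mem _ (inv_mem hd) g)
  have hHC : H ≤ Subgroup.centralizer (D : Set P) := fun x hx => ((hHmem x).mp hx).1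
  have hDCH : D ≤ Subgroup.centralizer (H : Set P) := by
    intro d hd
    rw [Subgroup.mem_centralizer_iff]
    intro h hh
    have := Subgroup.mem_centralizer_iff.mp (hHC hh) d hd
    exact this.symm
  -- centre of H is D
  have hZ : H ⊓ Subgroup.centralizer (H : Set P) = D := by
    apply hDmax
    · rw [Subgroup.characteristic_iff_map_le]
      rintro φ _ ⟨x, ⟨hx1, hx2⟩, rfl⟩
      refine ⟨?_, ?_⟩
      · have h := hHchar.fixed φ.symm
        rw [← h]
        show φ.symm (φ x) ∈ H
        rw [MulEquiv.symm_apply_apply]; exact hx1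
      · have hx2' : x ∈ Subgroup.centralizer (H : Set P) := hx2
        show φ x ∈ Subgroup.centralizer (H : Set P)
        rw [Subgroup.mem_centralizer_iff] at hx2' ⊢
        intro h hh
        have hh' : φ.symm h ∈ H := by
          have h' := hHchar.fixed φ.symm
          rw [← h'] at hh; exact hh
        have h1 := hx2' _ hh'
        have h2 := congrArg φ h1
        rw [map_mul, map_mul, MulEquiv.apply_symm_apply] at h2
        exact h2
    · rintro a ⟨ha1, ha2⟩ b ⟨hb1, hb2⟩
      exact (Subgroup.mem_centralizer_iff.mp hb2 a ha1)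
    · exact le_inf hDH hDCH
  refine ⟨H, hHchar, ?_, ?_, ?_, ?_⟩
  · -- Frattini subgroup
    refine le_trans ?_ hDCH
    rintro _ ⟨z, hz, rfl⟩
    haveI : (D.subgroupOf H).Normal := inferInstance
    have hE : frattini (↥H ⧸ D.subgroupOf H) = ⊥ := by
      apply Cfsg.Agent.Lib_helper1_PGroup.frattini_eq_bot_of_elementary (p := p)
      · intro a b
        obtain ⟨x, rfl⟩ := QuotientGroup.mk_surjective a
        obtain ⟨y, rfl⟩ := QuotientGroup.mk_surjective b
        have h1 : x * y * x⁻¹ * y⁻¹ ∈ D.subgroupOf H := by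
          rw [Subgroup.mem_subgroupOf]
          exact ((hHmem x).mp x.2).2.2 y
        have h2 : (x : ↥H ⧸ D.subgroupOf H) * y * (x : ↥H ⧸ D.subgroupOf H)⁻¹ *
            (y : ↥H ⧸ D.subgroupOf H)⁻¹ = 1 := (QuotientGroup.eq_one_iff _).mpr h1
        calc (x : ↥H ⧸ D.subgroupOf H) * y
            = ((x : ↥H ⧸ D.subgroupOf H) * y * (x : ↥H ⧸ D.subgroupOf H)⁻¹ *
              (y : ↥H ⧸ D.subgroupOf H)⁻¹) * (y * x) := by group
          _ = y * x := by rw [h2, one_mul]
      · intro a
        obtain ⟨x, rfl⟩ := QuotientGroup.mk_surjective a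
        rw [← QuotientGroup.mk_pow, QuotientGroup.eq_one_iff, Subgroup.mem_subgroupOf]
        exact ((hHmem x).mp x.2).2.1
    have h1 := frattini_le_comap_frattini_of_surjective
      (QuotientGroup.mk'_surjective (D.subgroupOf H)) hz
    rw [hE, Subgroup.mem_comap, Subgroup.mem_bot] at h1
    have h2 : z ∈ D.subgroupOf H := (QuotientGroup.eq_one_iff z).mp h1
    exact h2
  · rw [hZ, Subgroup.commutator_le]
    intro h hh g _
    rw [commutatorElement_def]
    exact ((hHmem h).mp hh).2.2 g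
  · -- the centraliser of H lies in H
    by_contra hnot
    obtain ⟨x₀, hx₀Q, hx₀H⟩ := SetLike.not_le_iff_exists.mp hnot
    haveI : (Subgroup.centralizer (H : Set P)).Normal := inferInstance
    have hfs : Function.Surjective (QuotientGroup.mk' D) := QuotientGroup.mk'_surjective D
    have hQn : ((Subgroup.centralizer (H : Set P)).map (QuotientGroup.mk' D)).Normal :=
      Subgroup.Normal.map inferInstance _ hfs
    haveI := hQn
    have hQne : (Subgroup.centralizer (H : Set P)).map (QuotientGroup.mk' D) ≠ ⊥ := by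
      intro hbot
      apply hx₀H
      apply hDH
      have : QuotientGroup.mk' D x₀ ∈ (Subgroup.centralizer (H : Set P)).map (QuotientGroup.mk' D) :=
        Subgroup.mem_map_of_mem _ hx₀Q
      rw [hbot, Subgroup.mem_bot] at this
      exact (QuotientGroup.eq_one_iff x₀).mp this
    have hPD : IsPGroup p (P ⧸ D) := hP.to_quotient D
    haveI := hPD.isNilpotent
    have hne := Cfsg.Agent.Lib_helper1_Socle.normal_inf_center_ne_bot _ hQne
    have hIp : IsPGroup p (((Subgroup.centralizer (H : Set P)).map (QuotientGroup.mk' D) ⊓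
        Subgroup.center (P ⧸ D) : Subgroup (P ⧸ D))) := hPD.to_subgroup _
    obtain ⟨k, hk⟩ := hIp.exists_card_eq
    have hk0 : k ≠ 0 := by
      intro h0
      rw [h0, pow_zero] at hk
      exact hne (Subgroup.card_eq_one.mp hk)
    have hpd : p ∣ Nat.card (((Subgroup.centralizer (H : Set P)).map (QuotientGroup.mk' D) ⊓
        Subgroup.center (P ⧸ D) : Subgroup (P ⧸ D))) := by rw [hk]; exact dvd_pow_self p hk0
    obtain ⟨z, hz⟩ := exists_prime_orderOf_dvd_card' p hpd
    obtain ⟨⟨x, hxQ, hxz⟩, hzc⟩ := z.2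
    have hzo : orderOf (z : P ⧸ D) = p := by rw [Subgroup.orderOf_coe]; exact hz
    have hxD : x ∉ D := by
      intro hxD
      have h1 : (QuotientGroup.mk' D x) = 1 := (QuotientGroup.eq_one_iff x).mpr hxD
      rw [hxz] at h1
      rw [h1, orderOf_one] at hzo
      exact hp.one_lt.ne hzo
    have hxp : x ^ p ∈ D := by
      rw [← QuotientGroup.eq_one_iff, QuotientGroup.mk_pow]
      have : (QuotientGroup.mk' D x) ^ p = 1 := by rw [hxz, ← hzo]; exact pow_orderOf_eq_one _
      exact this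
    have hxc : ∀ g : P, x * g * x⁻¹ * g⁻¹ ∈ D := by
      intro g
      rw [← QuotientGroup.eq_one_iff]
      have h1 : (QuotientGroup.mk' D g) * (QuotientGroup.mk' D x) =
          (QuotientGroup.mk' D x) * (QuotientGroup.mk' D g) := by
        rw [hxz]; exact Subgroup.mem_center_iff.mp hzc _
      have h2 : ((x * g * x⁻¹ * g⁻¹ : P) : P ⧸ D) = (QuotientGroup.mk' D x) *
          (QuotientGroup.mk' D g) * (QuotientGroup.mk' D x)⁻¹ * (QuotientGroup.mk' D g)⁻¹ := rfl
      rw [h2, ← h1]
      group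
    have hxH : x ∈ H := (hHmem x).mpr
      ⟨Cfsg.Agent.Lib_helper1_Offender.centralizer_anti hDH hxQ, hxp, hxc⟩
    have : x ∈ H ⊓ Subgroup.centralizer (H : Set P) := ⟨hxH, hxQ⟩
    rw [hZ] at this
    exact hxD this
  · intro x hx
    rw [hZ]
    exact ((hHmem x).mp hx).2.1

end Cfsg.Agent.Lib_helper1_Critical
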