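import Mathlib
import Cfsg.Prelude.Def_Solvable
import Cfsg.Agent.Lib_helper1_Basic

set_option autoImplicit false

namespace Cfsg.Agent.Lib_helper1_FrobAct

open Cfsg Cfsg.Agent.Lib_helper1_Basic
open scoped Pointwise

/-- Let `F` act on the abelian group `V`, `H ≤ F` a subgroup with `H ∩ H^g = 1` for `g ∉ H`
and `K` a normal subgroup with `K ∩ H = 1` and order prime to `|V|`. If neither `K` nor `H`
has a nontrivial fixed point on `V` then `V` is trivial. -/
theorem frob_fixed {F V : Type*} [Group F] [Finite F] [CommGroup V] [Finite V]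
    (ρ : F →* MulAut V) (H K : Subgroup F) [K.Normal] (hKH : K ⊓ H = ⊥)
    (hfrob : ∀ g : F, g ∉ H → H ⊓ (MulAut.conj g • H) = ⊥)
    (hcop : (Nat.card V).Coprime (Nat.card K))
    (hCK : ∀ v : V, (∀ k ∈ K, ρ k v = v) → v = 1)
    (hCH : ∀ v : V, (∀ h ∈ H, ρ h v = v) → v = 1) : ∀ v : V, v = 1 := by
  classical
  haveI : Fintype K := Fintype.ofFinite K
  haveI : Fintype H := Fintype.ofFinite H
  have hNK : ∀ v : V, ∏ k : K, ρ (k : F) v = 1 := by
    intro v
    apply hCK
    intro k' hk'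
    rw [map_prod]
    have h1 : ∀ k : K, ρ k' (ρ (k : F) v) = ρ (((⟨k', hk'⟩ : K) * k : K) : F) v := by
      intro k
      rw [Subgroup.coe_mul, map_mul]
      rfl
    simp_rw [h1]
    exact Fintype.prod_equiv (Equiv.mulLeft (⟨k', hk'⟩ : K)) _ _ (fun k => rfl)
  have hNH : ∀ v : V, ∏ h : H, ρ (h : F) v = 1 := by
    intro v
    apply hCH
    intro h' hh'
    rw [map_prod]
    have h1 : ∀ h : H, ρ h' (ρ (h : F) v) = ρ (((⟨h', hh'⟩ : H) * h : H) : F) v := by
      intro h
      rw [Subgroup.coe_mul, map_mul]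
      rfl
    simp_rw [h1]
    exact Fintype.prod_equiv (Equiv.mulLeft (⟨h', hh'⟩ : H)) _ _ (fun h => rfl)
  intro v
  have hD1 : ∏ k : K, ∏ h : H, ρ ((k : F) * h * (k : F)⁻¹) v = 1 := by
    apply Finset.prod_eq_one
    intro k _
    have h1 : ∀ h : H, ρ ((k : F) * h * (k : F)⁻¹) v = ρ (k : F) (ρ (h : F) (ρ (k : F)⁻¹ v)) := by
      intro h
      rw [map_mul, map_mul]
      rfl
    simp_rw [h1]
    rw [← map_prod, hNH, map_one]
  rw [Finset.prod_comm] at hD1
  have hinner : ∀ h : H, ∏ k : K, ρ ((k : F) * h * (k : F)⁻¹) v =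
      if h = 1 then v ^ Nat.card K else 1 := by
    intro h
    by_cases hh : h = 1
    · rw [if_pos hh, hh]
      simp [Nat.card_eq_fintype_card]
    · rw [if_neg hh]
      have hh' : (h : F) ≠ 1 := fun h1 => hh (Subtype.ext h1)
      have hmem : ∀ k : K, (k : F) * h * (k : F)⁻¹ * (h : F)⁻¹ ∈ K := by
        intro k
        have h2 : (h : F) * (k : F)⁻¹ * (h : F)⁻¹ ∈ K :=
          Subgroup.Normal.conj_mem inferInstance _ (K.inv_mem k.2) _
        have h3 := K.mul_mem k.2 h2
        have e : (k : F) * ((h : F) * (k : F)⁻¹ * (h : F)⁻¹) =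
            (k : F) * h * (k : F)⁻¹ * (h : F)⁻¹ := by group
        rwa [e] at h3
      let g : K → K := fun k => ⟨(k : F) * h * (k : F)⁻¹ * (h : F)⁻¹, hmem k⟩
      have hginj : Function.Injective g := by
        intro k k' hkk
        have h1 : (k : F) * h * (k : F)⁻¹ * (h : F)⁻¹ = (k' : F) * h * (k' : F)⁻¹ * (h : F)⁻¹ :=
          congrArg Subtype.val hkk
        have h2 : (k : F) * h * (k : F)⁻¹ = (k' : F) * h * (k' : F)⁻¹ := mul_right_cancel h1
        have h3 : ((k' : F)⁻¹ * k)⁻¹ * (h : F) * ((k' : F)⁻¹ * k) = h := by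
          have e : ((k' : F)⁻¹ * k)⁻¹ * (h : F) * ((k' : F)⁻¹ * k) =
              (k : F)⁻¹ * ((k' : F) * h * (k' : F)⁻¹) * k := by group
          rw [e, ← h2]; group
        have hcH : (k' : F)⁻¹ * k ∈ H := by
          by_contra hc
          have h4' : (h : F) ∈ MulAut.conj ((k' : F)⁻¹ * k) • H := by
            rw [mem_conj_smul, h3]
            exact h.2
          have h4 : (h : F) ∈ H ⊓ (MulAut.conj ((k' : F)⁻¹ * k) • H) := ⟨h.2, h4'⟩
          rw [hfrob _ hc, Subgroup.mem_bot] at h4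
          exact hh' h4
        have hcK : (k' : F)⁻¹ * k ∈ K := K.mul_mem (K.inv_mem k'.2) k.2
        have h5 : (k' : F)⁻¹ * k ∈ K ⊓ H := ⟨hcK, hcH⟩
        rw [hKH, Subgroup.mem_bot] at h5
        apply Subtype.ext
        have e : (k : F) = k' * ((k' : F)⁻¹ * k) := by group
        rw [e, h5, mul_one]
      have hgbij : Function.Bijective g := Finite.injective_iff_bijective.mp hginj
      have h6 : ∀ k : K, ρ ((k : F) * h * (k : F)⁻¹) v = ρ ((g k : K) : F) (ρ (h : F) v) := by
        intro k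
        have e : (k : F) * h * (k : F)⁻¹ = ((g k : K) : F) * h := by
          show (k : F) * h * (k : F)⁻¹ = (k : F) * h * (k : F)⁻¹ * (h : F)⁻¹ * h
          group
        rw [e, map_mul]
        rfl
      simp_rw [h6]
      rw [hgbij.prod_comp (fun k : K => ρ (k : F) (ρ (h : F) v))]
      exact hNK _
  simp_rw [hinner] at hD1
  rw [Finset.prod_ite_eq' Finset.univ (1 : H) (fun _ => v ^ Nat.card K)] at hD1
  simp only [Finset.mem_univ, if_true] at hD1
  have h7 : orderOf v ∣ Nat.card K := orderOf_dvd_of_pow_eq_one hD1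
  have h8 : orderOf v ∣ Nat.card V := orderOf_dvd_natCard v
  have h9 : orderOf v = 1 := Nat.eq_one_of_dvd_coprimes hcop h8 h7
  exact orderOf_eq_one_iff.mp h9

/-- the conjugation action of a subgroup normalizing `V` -/
def conjAct {G : Type*} [Group G] (V F : Subgroup G) (hFV : F ≤ Subgroup.normalizer (V : Set G)) :
    ↥F →* MulAut ↥V where
  toFun f :=
    { toFun := fun v => ⟨(f : G) * v * (f : G)⁻¹,
        (Subgroup.mem_normalizer_iff.mp (hFV f.2) v).mp v.2⟩
      invFun := fun v => ⟨(f : G)⁻¹ * v * (f : G), by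
        apply (Subgroup.mem_normalizer_iff.mp (hFV f.2) _).mpr
        have e : (f : G) * ((f : G)⁻¹ * v * (f : G)) * (f : G)⁻¹ = v := by group
        rw [e]; exact v.2⟩
      left_inv := fun v => Subtype.ext (by
        show (f : G)⁻¹ * ((f : G) * v * (f : G)⁻¹) * (f : G) = v
        group)
      right_inv := fun v => Subtype.ext (by
        show (f : G) * ((f : G)⁻¹ * v * (f : G)) * (f : G)⁻¹ = v
        group)
      map_mul' := fun v w => Subtype.ext (by
        show (f : G) * ((v : G) * w) * (f : G)⁻¹ = (f : G) * v * (f : G)⁻¹ * ((f : G) * w * (f : G)⁻¹)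
        group) }
  map_one' := by
    ext v
    show ((1 : F) : G) * v * ((1 : F) : G)⁻¹ = v
    simp
  map_mul' := fun f f' => by
    ext v
    show ((f * f' : F) : G) * v * ((f * f' : F) : G)⁻¹ =
      (f : G) * ((f' : G) * v * (f' : G)⁻¹) * (f : G)⁻¹
    rw [Subgroup.coe_mul]
    group

theorem conjAct_apply {G : Type*} [Group G] (V F : Subgroup G)
    (hFV : F ≤ Subgroup.normalizer (V : Set G)) (f : F) (v : V) :
    ((conjAct V F hFV f v : V) : G) = (f : G) * v * (f : G)⁻¹ := rfl

end Cfsg.Agent.Lib_helper1_FrobAct
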