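import Cfsg.Prelude
import Cfsg.Agent.Lib_helper1_FrobAct
import Cfsg.Agent.Lib_helper1_Basic
import Cfsg.Agent.Lib_helper1_Hall
import Cfsg.Agent.Lib_helper1_RankTwo

set_option autoImplicit false
open Cfsg

namespace Cfsg.Agent.Lib_helper1_FpfCyclic

open Cfsg.Agent.Lib_helper1_Basic
open scoped Pointwise

/-- An element of order `p` acting on an abelian group of order divisible by `p` has a
nontrivial fixed point. -/
theorem exists_fixed_of_dvd {F V : Type*} [Group F] [CommGroup V] [Finite V] (ρ : F →* MulAut V)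
    (f : F) (p : ℕ) [hp : Fact p.Prime] (hf : f ^ p = 1) (hpV : p ∣ Nat.card V) :
    ∃ v : V, v ≠ 1 ∧ ρ f v = v := by
  set T : Subgroup (MulAut V) := Subgroup.zpowers (ρ f) with hT
  have hTp : IsPGroup p T := by
    intro g
    refine ⟨1, ?_⟩
    obtain ⟨g, hg⟩ := g
    obtain ⟨k, rfl⟩ := Subgroup.mem_zpowers_iff.mp hg
    apply Subtype.ext
    show ((ρ f) ^ k) ^ (p ^ 1) = 1
    rw [pow_one, ← zpow_natCast, ← zpow_mul, mul_comm, zpow_mul, zpow_natCast, ← map_pow, hf,
      map_one, one_zpow]
  have h1 : (1 : V) ∈ MulAction.fixedPoints T V := by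
    intro g
    show (g : MulAut V) • (1 : V) = 1
    rw [MulAut.smul_def, map_one]
  obtain ⟨b, hb, hne⟩ := hTp.exists_fixed_point_of_prime_dvd_card_of_fixed_point V hpV h1
  refine ⟨b, hne.symm, ?_⟩
  exact hb ⟨ρ f, Subgroup.mem_zpowers _⟩

theorem prod_pow_fixed {F V : Type*} [Group F] [CommGroup V] (ρ : F →* MulAut V) (f : F) (p : ℕ)
    (hf : f ^ p = 1) (v : V) :
    ρ f (∏ i ∈ Finset.range p, ρ (f ^ i) v) = ∏ i ∈ Finset.range p, ρ (f ^ i) v := by
  rw [map_prod]
  have h1 : ∀ i, ρ f (ρ (f ^ i) v) = ρ (f ^ (i + 1)) v := by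
    intro i
    rw [pow_succ', map_mul]
    rfl
  simp only [h1]
  have h2 := Finset.prod_range_succ' (fun i => ρ (f ^ i) v) p
  have h3 := Finset.prod_range_succ (fun i => ρ (f ^ i) v) p
  rw [h3] at h2
  simp only [hf, pow_zero] at h2
  exact (mul_right_cancel h2).symm

/-- A noncyclic group of exponent `p` generated by two commuting elements, acting
fixed-point-freely on an abelian group, forces exponent `p`. -/
theorem pow_eq_one_of_rank_two {F V : Type*} [Group F] [CommGroup V] (ρ : F →* MulAut V)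
    (hfpf : ∀ f : F, f ≠ 1 → ∀ v, ρ f v = v → v = 1) (p : ℕ) (hp : p.Prime) (x y : F)
    (hxy : x * y = y * x) (hx : x ^ p = 1) (hy : y ^ p = 1) (hx1 : x ≠ 1)
    (hyx : y ∉ Subgroup.zpowers x) (v : V) : v ^ p = 1 := by
  have hA : ∀ f : F, f ^ p = 1 → f ≠ 1 → ∀ w : V, ∏ i ∈ Finset.range p, ρ (f ^ i) w = 1 :=
    fun f hf hf1 w => hfpf f hf1 _ (prod_pow_fixed ρ f p hf w)
  have hcomm : Commute x y := hxy
  have hD1 : ∏ j ∈ Finset.range p, ∏ i ∈ Finset.range p, ρ ((x ^ j * y) ^ i) v = 1 := by
    apply Finset.prod_eq_one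
    intro j _
    apply hA
    · rw [(hcomm.pow_left j).mul_pow, ← pow_mul, mul_comm j p, pow_mul, hx, one_pow, hy, one_mul]
    · intro h
      apply hyx
      have h1 : y = (x ^ j)⁻¹ := eq_inv_of_mul_eq_one_right h
      rw [h1]
      exact (Subgroup.zpowers x).inv_mem (Subgroup.pow_mem _ (Subgroup.mem_zpowers x) j)
  rw [Finset.prod_comm] at hD1
  haveI : Fact p.Prime := ⟨hp⟩
  have hox : orderOf x = p := orderOf_eq_prime hx hx1
  have hD2 : ∏ i ∈ Finset.range p, ∏ j ∈ Finset.range p, ρ ((x ^ j * y) ^ i) v = v ^ p := by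
    rw [Finset.prod_eq_single 0]
    · simp
    · intro i hi hi0
      have h1 : ∀ j, ρ ((x ^ j * y) ^ i) v = ρ ((x ^ i) ^ j) (ρ (y ^ i) v) := by
        intro j
        rw [(hcomm.pow_left j).mul_pow, map_mul, ← pow_mul, ← pow_mul, mul_comm j i]
        rfl
      simp only [h1]
      apply hA
      · rw [← pow_mul, mul_comm, pow_mul, hx, one_pow]
      · intro h
        have h2 := orderOf_dvd_of_pow_eq_one h
        rw [hox] at h2
        have h3 := Nat.le_of_dvd (Nat.pos_of_ne_zero hi0) h2
        have h4 := Finset.mem_range.mp hi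
        omega
    · intro h
      exact absurd (Finset.mem_range.mpr hp.pos) h
  rw [hD2] at hD1
  exact hD1

/-- An abelian group acting fixed-point-freely on a nontrivial abelian group is cyclic. -/
theorem fpf_abelian_cyclic {F V : Type*} [Group F] [Finite F] [CommGroup V] [Finite V]
    (ρ : F →* MulAut V) (hV : ∃ v : V, v ≠ 1)
    (hfpf : ∀ f : F, f ≠ 1 → ∀ v, ρ f v = v → v = 1) (hc : ∀ a b : F, a * b = b * a) :
    IsCyclic F := by
  classical
  by_contra hnc
  haveI := Fintype.ofFinite F
  obtain ⟨p, hp, x, y, hx, hy, hx1, hyx⟩ := Cfsg.Agent.Lib_helper1_RankTwo.exists_rank_two hc hnc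
  haveI : Fact p.Prime := ⟨hp⟩
  obtain ⟨v, hv⟩ := hV
  have hpV : p ∣ Nat.card V := by
    have h1 : orderOf v = p :=
      orderOf_eq_prime (pow_eq_one_of_rank_two ρ hfpf p hp x y (hc x y) hx hy hx1 hyx v) hv
    rw [← h1]
    exact orderOf_dvd_natCard v
  obtain ⟨w, hw1, hw⟩ := exists_fixed_of_dvd ρ x p hx hpV
  exact hw1 (hfpf x hx1 w hw)

/-- A group of order `pq` (`p < q`) acting fixed-point-freely on a nontrivial abelian group is
cyclic. -/
theorem fpf_pq_cyclic {F V : Type*} [Group F] [Finite F] [CommGroup V] [Finite V]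
    (ρ : F →* MulAut V) (hV : ∃ v : V, v ≠ 1)
    (hfpf : ∀ f : F, f ≠ 1 → ∀ v, ρ f v = v → v = 1) (p q : ℕ) (hp : p.Prime) (hq : q.Prime)
    (hlt : p < q) (hcard : Nat.card F = p * q) : IsCyclic F := by
  haveI : Fact p.Prime := ⟨hp⟩
  haveI : Fact q.Prime := ⟨hq⟩
  obtain ⟨a, ha⟩ := exists_prime_orderOf_dvd_card' (G := F) p (hcard ▸ dvd_mul_right p q)
  obtain ⟨b, hb⟩ := exists_prime_orderOf_dvd_card' (G := F) q (hcard ▸ dvd_mul_left q p)
  have hpq : Nat.Coprime p q := (Nat.coprime_primes hp hq).mpr hlt.ne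
  have ha1 : a ≠ 1 := by
    intro h
    rw [h, orderOf_one] at ha
    exact hp.one_lt.ne ha
  have hb1 : b ≠ 1 := by
    intro h
    rw [h, orderOf_one] at hb
    exact hq.one_lt.ne hb
  by_cases hab : a * b = b * a
  · have h1 : orderOf (a * b) = orderOf a * orderOf b :=
      Commute.orderOf_mul_eq_mul_orderOf_of_coprime hab (by rw [ha, hb]; exact hpq)
    exact isCyclic_of_orderOf_eq_card (a * b) (by rw [h1, ha, hb, hcard])
  · exfalso
    set P := Subgroup.zpowers a with hP
    set Q := Subgroup.zpowers b with hQ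
    have hcP : Nat.card P = p := by rw [hP, Nat.card_zpowers, ha]
    have hcQ : Nat.card Q = q := by rw [hQ, Nat.card_zpowers, hb]
    have hQidx : Q.index = p := by
      have h1 := Subgroup.card_mul_index Q
      rw [hcQ, hcard, mul_comm p q] at h1
      exact Nat.eq_of_mul_eq_mul_left hq.pos h1
    have hmf : (p * q).minFac = p := by
      have h1 : (p * q).minFac ∣ p * q := Nat.minFac_dvd _
      have h2 : (p * q).minFac.Prime := Nat.minFac_prime (by
        have := hp.two_le
        have := hq.two_le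
        nlinarith)
      have h3 : (p * q).minFac ≤ p := Nat.minFac_le_of_dvd hp.two_le (dvd_mul_right p q)
      rcases (Nat.Prime.dvd_mul h2).mp h1 with h | h
      · exact (Nat.prime_dvd_prime_iff_eq h2 hp).mp h
      · have h4 := (Nat.prime_dvd_prime_iff_eq h2 hq).mp h
        omega
    haveI hQn : Q.Normal := Subgroup.normal_of_index_eq_minFac_card (by rw [hQidx, hcard, hmf])
    have hPQ : Q ⊓ P = ⊥ :=
      (Subgroup.disjoint_of_coprime_natCard (by rw [hcQ, hcP]; exact hpq.symm)).eq_bot
    have hfrob : ∀ g : F, g ∉ P → P ⊓ MulAut.conj g • P = ⊥ := by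
      intro g hg
      by_contra hne
      have h1 : Nat.card ↥(P ⊓ MulAut.conj g • P) ∣ p := by
        have := Subgroup.card_dvd_of_le (inf_le_left : P ⊓ MulAut.conj g • P ≤ P)
        rw [hcP] at this
        exact this
      have h2 : Nat.card ↥(P ⊓ MulAut.conj g • P) = p := by
        rcases (Nat.dvd_prime hp).mp h1 with h | h
        · exact absurd (Subgroup.card_eq_one.mp h) hne
        · exact h
      have h3 : P ⊓ MulAut.conj g • P = P :=
        Subgroup.eq_of_le_of_card_ge inf_le_left (by rw [h2, hcP])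
      have h4 : P ≤ MulAut.conj g • P := inf_eq_left.mp h3
      have h5 : P = MulAut.conj g • P :=
        Subgroup.eq_of_le_of_card_ge h4 (by rw [Cfsg.Agent.Lib_helper1_Hall.card_conj_smul])
      have h6 : g ∈ Subgroup.normalizer (P : Set F) := by
        apply mem_normalizer_of_conj_le
        intro m hm
        have h7 := conj_mem_conj_smul P g m hm
        rw [← h5] at h7
        exact h7
      have h7 : Nat.card (Subgroup.normalizer (P : Set F)) ∣ p * q := by
        rw [← hcard]
        exact Subgroup.card_subgroup_dvd_card _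
      have h8 : p ∣ Nat.card (Subgroup.normalizer (P : Set F)) := by
        have := Subgroup.card_dvd_of_le (Subgroup.le_normalizer (H := P))
        rw [hcP] at this
        exact this
      obtain ⟨d, hd⟩ := h8
      rw [hd] at h7
      have h9 : d ∣ q := Nat.dvd_of_mul_dvd_mul_left hp.pos h7
      rcases (Nat.dvd_prime hq).mp h9 with h | h
      · have h10 : P = Subgroup.normalizer (P : Set F) :=
          Subgroup.eq_of_le_of_card_ge Subgroup.le_normalizer (by rw [hd, h, mul_one, hcP])
        rw [← h10] at h6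
        exact hg h6
      · have h10 : Subgroup.normalizer (P : Set F) = ⊤ :=
          (Subgroup.card_eq_iff_eq_top _).mp (by rw [hd, h, hcard])
        have hPn : P.Normal := Subgroup.normalizer_eq_top_iff.mp h10
        have h11 := Subgroup.commute_of_normal_of_disjoint P Q hPn hQn
          (disjoint_iff.mpr (by rw [inf_comm]; exact hPQ)) a b (Subgroup.mem_zpowers a)
          (Subgroup.mem_zpowers b)
        exact hab h11
    have hcop : (Nat.card V).Coprime (Nat.card Q) := by
      rw [hcQ, Nat.coprime_comm, Nat.Prime.coprime_iff_not_dvd hq]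
      intro hdvd
      obtain ⟨w, hw1, hw⟩ := exists_fixed_of_dvd ρ b q (by rw [← hb]; exact pow_orderOf_eq_one b)
        hdvd
      exact hw1 (hfpf b hb1 w hw)
    have key := Cfsg.Agent.Lib_helper1_FrobAct.frob_fixed ρ P Q hPQ hfrob hcop
      (fun v hv => hfpf b hb1 v (hv b (Subgroup.mem_zpowers b)))
      (fun v hv => hfpf a ha1 v (hv a (Subgroup.mem_zpowers a)))
    obtain ⟨v, hv⟩ := hV
    exact hv (key v)

end Cfsg.Agent.Lib_helper1_FpfCyclic
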