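import Mathlib

namespace Cfsg.Agent.Lib_helper9_Derangement

open MulAction

/-- The subgroup generated by the derangements. -/
def derSub (G Ω : Type*) [Group G] [MulAction G Ω] : Subgroup G :=
  Subgroup.closure {g : G | ∀ ω : Ω, g • ω ≠ ω}

variable {G Ω : Type*} [Group G] [MulAction G Ω]

/-- Jordan-type counting: the derangement subgroup of a finite transitive group is transitive and
every element outside it has exactly one fixed point. -/
theorem key [Finite G] [Finite Ω] (htrans : IsPretransitive G Ω) :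
    IsPretransitive ↥(derSub G Ω) Ω ∧
      ∀ g : G, g ∉ derSub G Ω → Nat.card (fixedBy Ω g) = 1 := by
  classical
  rcases isEmpty_or_nonempty Ω with hΩ | hΩ
  · refine ⟨⟨fun x => isEmptyElim x⟩, fun g hg => ?_⟩
    exact absurd (Subgroup.subset_closure (fun ω => isEmptyElim ω)) hg
  have : Fintype G := Fintype.ofFinite G
  have : Fintype Ω := Fintype.ofFinite Ω
  have hG := sum_card_fixedBy_eq_card_orbits_mul_card_group G Ω
  have hDs := sum_card_fixedBy_eq_card_orbits_mul_card_group (derSub G Ω) Ω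
  have hcG : Fintype.card (Quotient (orbitRel G Ω)) ≤ 1 :=
    Fintype.card_le_one_iff_subsingleton.mpr ((pretransitive_iff_subsingleton_quotient G Ω).mp htrans)
  have hkpos : 0 < Fintype.card (Quotient (orbitRel (derSub G Ω) Ω)) :=
    Fintype.card_pos_iff.mpr ⟨Quotient.mk'' hΩ.some⟩
  have hsplit : ∑ g : G, Fintype.card (fixedBy Ω g) =
      ∑ g ∈ Finset.univ.filter (fun g : G => g ∈ derSub G Ω), Fintype.card (fixedBy Ω g) +
      ∑ g ∈ Finset.univ.filter (fun g : G => g ∉ derSub G Ω), Fintype.card (fixedBy Ω g) :=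
    (Finset.sum_filter_add_sum_filter_not _ _ _).symm
  have hsub : ∑ g ∈ Finset.univ.filter (fun g : G => g ∈ derSub G Ω),
      Fintype.card (fixedBy Ω g) = ∑ d : derSub G Ω, Fintype.card (fixedBy Ω (d : G)) :=
    Finset.sum_subtype _ (by simp) _
  have hge : ∀ g ∈ Finset.univ.filter (fun g : G => g ∉ derSub G Ω),
      1 ≤ Fintype.card (fixedBy Ω g) := by
    intro g hg
    rw [Finset.mem_filter] at hg
    have h1 : ¬ ∀ ω : Ω, g • ω ≠ ω := fun h => hg.2 (Subgroup.subset_closure h)
    push Not at h1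
    obtain ⟨ω, hω⟩ := h1
    exact Fintype.card_pos_iff.mpr ⟨⟨ω, hω⟩⟩
  have hcard : (Finset.univ.filter (fun g : G => g ∈ derSub G Ω)).card +
      (Finset.univ.filter (fun g : G => g ∉ derSub G Ω)).card = Fintype.card G := by
    rw [Finset.card_filter_add_card_filter_not, Finset.card_univ]
  have hcardD : (Finset.univ.filter (fun g : G => g ∈ derSub G Ω)).card =
      Fintype.card (derSub G Ω) := (Fintype.card_subtype _).symm
  have hlow : (Finset.univ.filter (fun g : G => g ∉ derSub G Ω)).card ≤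
      ∑ g ∈ Finset.univ.filter (fun g : G => g ∉ derSub G Ω), Fintype.card (fixedBy Ω g) := by
    have h2 := Finset.card_nsmul_le_sum _ _ 1 hge
    simpa using h2
  have hDpos : 0 < Fintype.card (derSub G Ω) := Fintype.card_pos
  have hDs' : ∑ d : derSub G Ω, Fintype.card (fixedBy Ω (d : G)) =
      Fintype.card (Quotient (orbitRel (derSub G Ω) Ω)) * Fintype.card (derSub G Ω) := hDs
  have hGle : ∑ g : G, Fintype.card (fixedBy Ω g) ≤ Fintype.card G := by
    rw [hG]
    calc Fintype.card (Quotient (orbitRel G Ω)) * Fintype.card G ≤ 1 * Fintype.card G :=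
          Nat.mul_le_mul_right _ hcG
      _ = Fintype.card G := one_mul _
  have hk : Fintype.card (Quotient (orbitRel (derSub G Ω) Ω)) * Fintype.card (derSub G Ω) ≤
      1 * Fintype.card (derSub G Ω) := by
    rw [hsplit, hsub, hDs'] at hGle
    omega
  have hk1 : Fintype.card (Quotient (orbitRel (derSub G Ω) Ω)) ≤ 1 :=
    Nat.le_of_mul_le_mul_right hk hDpos
  have hkeq : Fintype.card (Quotient (orbitRel (derSub G Ω) Ω)) = 1 := le_antisymm hk1 hkpos
  refine ⟨(pretransitive_iff_subsingleton_quotient (derSub G Ω) Ω).mpr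
    (Fintype.card_le_one_iff_subsingleton.mp hk1), ?_⟩
  intro g hg
  by_contra hne
  have hgmem : g ∈ Finset.univ.filter (fun g : G => g ∉ derSub G Ω) := by
    rw [Finset.mem_filter]; exact ⟨Finset.mem_univ _, hg⟩
  have hlt : 1 < Fintype.card (fixedBy Ω g) := by
    have h1 := hge g hgmem
    have h2 : Fintype.card (fixedBy Ω g) ≠ 1 := by
      intro h3; apply hne; rw [Nat.card_eq_fintype_card]; exact h3
    omega
  have hstrict : ∑ _g ∈ Finset.univ.filter (fun g : G => g ∉ derSub G Ω), 1 <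
      ∑ g ∈ Finset.univ.filter (fun g : G => g ∉ derSub G Ω), Fintype.card (fixedBy Ω g) :=
    Finset.sum_lt_sum hge ⟨g, hgmem, hlt⟩
  rw [Finset.sum_const, smul_eq_mul, mul_one] at hstrict
  rw [hsplit, hsub, hDs', hkeq] at hGle
  omega

theorem derSub_normal : (derSub G Ω).Normal := by
  constructor
  intro n hn g
  have h1 : (derSub G Ω).map (MulAut.conj g).toMonoidHom ≤ derSub G Ω := by
    unfold derSub
    rw [MonoidHom.map_closure, Subgroup.closure_le]
    rintro _ ⟨d, hd, rfl⟩
    apply Subgroup.subset_closure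
    intro ω hω
    apply hd (g⁻¹ • ω)
    have h2 : (g * d * g⁻¹) • ω = ω := hω
    rw [mul_smul, mul_smul] at h2
    have h3 := congrArg (fun x => g⁻¹ • x) h2
    simpa using h3
  exact h1 ⟨n, hn, rfl⟩

theorem mem_derSub_of_two_fixed [Finite G] [Finite Ω] (htrans : IsPretransitive G Ω) {g : G}
    {α β : Ω} (hαβ : β ≠ α) (hα : g • α = α) (hβ : g • β = β) : g ∈ derSub G Ω := by
  by_contra hg
  have h1 := (key htrans).2 g hg
  rw [Nat.card_eq_one_iff_unique] at h1
  obtain ⟨hsub, -⟩ := h1
  have h2 := hsub.elim (⟨α, hα⟩ : fixedBy Ω g) ⟨β, hβ⟩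
  exact hαβ (congrArg Subtype.val h2).symm

theorem sup_stabilizer_eq_top [Finite G] [Finite Ω] (htrans : IsPretransitive G Ω) (α : Ω) :
    stabilizer G α ⊔ derSub G Ω = ⊤ := by
  rw [eq_top_iff]
  intro g _
  haveI := (key htrans).1
  obtain ⟨d, hd⟩ := exists_smul_eq (derSub G Ω) α (g • α)
  have h1 : (d : G)⁻¹ * g ∈ stabilizer G α := by
    rw [mem_stabilizer_iff, mul_smul, ← hd]
    exact inv_smul_smul (d : G) α
  have h2 : g = (d : G) * ((d : G)⁻¹ * g) := by group
  rw [h2]
  exact Subgroup.mul_mem _ (Subgroup.mem_sup_right d.2) (Subgroup.mem_sup_left h1)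

theorem index_subgroupOf_stabilizer [Finite G] [Finite Ω] (htrans : IsPretransitive G Ω)
    (α : Ω) : ((derSub G Ω).subgroupOf (stabilizer G α)).index = (derSub G Ω).index := by
  haveI := derSub_normal (G := G) (Ω := Ω)
  have h1 : (derSub G Ω).relIndex (stabilizer G α ⊔ derSub G Ω) =
      (derSub G Ω).relIndex (stabilizer G α) :=
    Subgroup.relIndex_sup_right (stabilizer G α) (derSub G Ω)
  rw [sup_stabilizer_eq_top htrans α, Subgroup.relIndex_top_right] at h1
  exact h1.symm

theorem dvd_card_of_dvd_index' {H X : Type*} [Group H] [Finite H] [MulAction H X] [Finite X]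
    (c : ℕ) (h : ∀ x : X, c ∣ (stabilizer H x).index) : c ∣ Nat.card X := by
  classical
  haveI := Fintype.ofFinite (Quotient (orbitRel H X))
  rw [Nat.card_congr (selfEquivSigmaOrbitsQuotientStabilizer H X), Nat.card_sigma]
  apply Finset.dvd_sum
  intro ω _
  exact h _

theorem stabilizer_le [Finite G] [Finite Ω] (htrans : IsPretransitive G Ω) (α : Ω)
    (x : SubMulAction.ofStabilizer G α) :
    stabilizer (stabilizer G α) x ≤ (derSub G Ω).subgroupOf (stabilizer G α) := by
  intro h hh
  rw [Subgroup.mem_subgroupOf]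
  exact mem_derSub_of_two_fixed htrans (SubMulAction.neq_of_mem_ofStabilizer G α) h.2
    (congrArg Subtype.val (mem_stabilizer_iff.mp hh))

theorem index_dvd [Finite G] [Finite Ω] (htrans : IsPretransitive G Ω) (α : Ω) :
    (derSub G Ω).index ∣ Nat.card Ω - 1 := by
  rw [← SubMulAction.nat_card_ofStabilizer_eq G α]
  apply dvd_card_of_dvd_index' (H := stabilizer G α)
  intro x
  rw [← index_subgroupOf_stabilizer htrans α]
  exact Subgroup.index_dvd_of_le (stabilizer_le htrans α x)

theorem isPrimePow_of_index_eq [Finite G] [Finite Ω] [FaithfulSMul G Ω]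
    (htrans : IsPretransitive G Ω) (hΩ : 2 ≤ Nat.card Ω)
    (hidx : (derSub G Ω).index = Nat.card Ω - 1) : IsPrimePow (Nat.card Ω) := by
  classical
  have hne : Nonempty Ω := by
    rcases isEmpty_or_nonempty Ω with h | h
    · rw [Nat.card_of_isEmpty] at hΩ; omega
    · exact h
  obtain ⟨α⟩ := hne
  haveI hDn := derSub_normal (G := G) (Ω := Ω)
  haveI hDt := (key htrans).1
  have hXcard : Nat.card (SubMulAction.ofStabilizer G α) = Nat.card Ω - 1 :=
    SubMulAction.nat_card_ofStabilizer_eq G α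
  have hpos : 0 < Nat.card Ω - 1 := by omega
  have hstab : ∀ x : SubMulAction.ofStabilizer G α,
      stabilizer (stabilizer G α) x = (derSub G Ω).subgroupOf (stabilizer G α) ∧
        orbit (stabilizer G α) x = Set.univ := by
    intro x
    have hle := stabilizer_le htrans α x
    have h1 := Subgroup.relIndex_mul_index hle
    rw [index_subgroupOf_stabilizer htrans α, hidx] at h1
    have h2 : (stabilizer (stabilizer G α) x).index = (orbit (stabilizer G α) x).ncard :=
      index_stabilizer (stabilizer G α) x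
    have h3 : (orbit (stabilizer G α) x).ncard ≤ Nat.card Ω - 1 := by
      rw [← hXcard]
      exact Set.ncard_le_card _
    have hrel : (stabilizer (stabilizer G α) x).relIndex
        ((derSub G Ω).subgroupOf (stabilizer G α)) = 1 := by
      have h4 : (stabilizer (stabilizer G α) x).relIndex
          ((derSub G Ω).subgroupOf (stabilizer G α)) * (Nat.card Ω - 1) ≤
            1 * (Nat.card Ω - 1) := by
        rw [h1, h2, one_mul]; exact h3
      have h5 := Nat.le_of_mul_le_mul_right h4 hpos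
      have h6 : (stabilizer (stabilizer G α) x).relIndex
          ((derSub G Ω).subgroupOf (stabilizer G α)) ≠ 0 := Subgroup.index_ne_zero_of_finite
      omega
    refine ⟨le_antisymm hle (Subgroup.relIndex_eq_one.mp hrel), ?_⟩
    apply Set.eq_of_subset_of_ncard_le (Set.subset_univ _) _ Set.finite_univ
    rw [Set.ncard_univ, hXcard, ← h2, ← h1, hrel, one_mul]
  have hreg : ∀ d ∈ derSub G Ω, d • α = α → d = 1 := by
    intro d hd hdα
    apply FaithfulSMul.eq_of_smul_eq_smul (α := Ω)
    intro ω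
    rw [one_smul]
    by_cases hω : ω = α
    · rw [hω]; exact hdα
    · have hmem : (⟨d, hdα⟩ : stabilizer G α) ∈ (derSub G Ω).subgroupOf (stabilizer G α) :=
        Subgroup.mem_subgroupOf.mpr hd
      rw [← (hstab ⟨ω, hω⟩).1] at hmem
      exact congrArg Subtype.val (mem_stabilizer_iff.mp hmem)
  have hDcard : Nat.card (derSub G Ω) = Nat.card Ω := by
    apply Nat.card_congr
    refine Equiv.ofBijective (fun d : derSub G Ω => d • α) ⟨?_, ?_⟩
    · intro d e hde
      have h1 : (e : G)⁻¹ * (d : G) = 1 :=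
        hreg _ (Subgroup.mul_mem _ (Subgroup.inv_mem _ e.2) d.2) (by
          rw [mul_smul]
          have h2 : (d : G) • α = (e : G) • α := hde
          rw [h2, inv_smul_smul])
      exact Subtype.ext (inv_mul_eq_one.mp h1).symm
    · intro ω
      exact exists_smul_eq (derSub G Ω) α ω
  obtain ⟨p, hp, hpd⟩ := Nat.exists_prime_and_dvd (show Nat.card Ω ≠ 1 by omega)
  haveI : Fact p.Prime := ⟨hp⟩
  rw [← hDcard] at hpd
  obtain ⟨d₀, hd₀⟩ := exists_prime_orderOf_dvd_card' p hpd
  have hd₀p : (d₀ : G) ^ p = 1 := by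
    have h1 := pow_orderOf_eq_one d₀
    rw [hd₀] at h1
    have h2 := congrArg Subtype.val h1
    simpa using h2
  have hd₀1 : d₀ ≠ 1 := by
    rintro rfl
    rw [orderOf_one] at hd₀
    exact hp.one_lt.ne hd₀
  have hd₀α : (d₀ : G) • α ≠ α := fun h => hd₀1 (Subtype.ext (hreg _ d₀.2 h))
  have hpow : ∀ d : derSub G Ω, d ^ p = 1 := by
    intro d
    by_cases hd1 : d = 1
    · rw [hd1, one_pow]
    · have hdα : (d : G) • α ≠ α := fun h => hd1 (Subtype.ext (hreg _ d.2 h))
      have hmem : (⟨(d : G) • α, hdα⟩ : SubMulAction.ofStabilizer G α) ∈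
          orbit (stabilizer G α) (⟨(d₀ : G) • α, hd₀α⟩ : SubMulAction.ofStabilizer G α) := by
        rw [(hstab _).2]; exact Set.mem_univ _
      obtain ⟨h, hh⟩ := hmem
      have hh' : (h : G) • (d₀ : G) • α = (d : G) • α := congrArg Subtype.val hh
      have hconj : (d : G) = (h : G) * (d₀ : G) * (h : G)⁻¹ := by
        have hmemD : (h : G) * (d₀ : G) * (h : G)⁻¹ ∈ derSub G Ω := hDn.conj_mem _ d₀.2 _
        have h1 := hreg ((d : G)⁻¹ * ((h : G) * (d₀ : G) * (h : G)⁻¹))
          (Subgroup.mul_mem _ (Subgroup.inv_mem _ d.2) hmemD) (by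
            rw [mul_smul, mul_smul, mul_smul]
            have hα : (h : G)⁻¹ • α = α := by
              rw [inv_smul_eq_iff]; exact (mem_stabilizer_iff.mp h.2).symm
            rw [hα, hh', inv_smul_smul])
        exact inv_mul_eq_one.mp h1
      apply Subtype.ext
      rw [Subgroup.coe_pow, hconj, conj_pow, hd₀p]
      simp
  have hpD : IsPGroup p (derSub G Ω) := fun d => ⟨1, by rw [pow_one]; exact hpow d⟩
  obtain ⟨k, hk⟩ := IsPGroup.iff_card.mp hpD
  rw [hDcard] at hk
  have hk0 : k ≠ 0 := by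
    rintro rfl
    rw [pow_zero] at hk
    omega
  exact ⟨p, k, hp.prime, Nat.pos_of_ne_zero hk0, hk.symm⟩


theorem index_dvd_of_stabilizer_le [Finite G] [Finite Ω] (htrans : IsPretransitive G Ω) (α : Ω)
    (H : Subgroup G) (hH : stabilizer G α ≤ H) : (derSub G Ω).index ∣ H.index - 1 := by
  have h1 : derSub G (G ⧸ H) ≤ derSub G Ω := by
    apply Subgroup.closure_mono
    intro g hg ω hω
    obtain ⟨k, rfl⟩ := exists_smul_eq G α ω
    apply hg (QuotientGroup.mk k : G ⧸ H)
    rw [MulAction.Quotient.smul_mk, QuotientGroup.eq]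
    apply hH
    rw [mem_stabilizer_iff, smul_eq_mul, mul_smul, mul_inv_rev, mul_smul, inv_smul_eq_iff,
      inv_smul_eq_iff]
    exact hω.symm
  have h2 := index_dvd (G := G) (Ω := G ⧸ H) inferInstance (QuotientGroup.mk 1)
  have h3 : Nat.card (G ⧸ H) = H.index := rfl
  rw [h3] at h2
  exact (Subgroup.index_dvd_of_le h1).trans h2

open Pointwise in
theorem index_le_sqrt [Finite G] [Finite Ω] (htrans : IsPretransitive G Ω)
    (himp : ¬ IsPreprimitive G Ω) :
    ((derSub G Ω).index : ℝ) ≤ Real.sqrt (Nat.card Ω) - 1 := by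
  have hB : ∃ B : Set Ω, IsBlock G B ∧ ¬ IsTrivialBlock B := by
    by_contra h
    push Not at h
    exact himp { toIsPretransitive := htrans, isTrivialBlock_of_isBlock := fun {B} hB => h B hB }
  obtain ⟨B, hB, hBt⟩ := hB
  have hBs : ¬ B.Subsingleton := fun h => hBt (Or.inl h)
  have hBu : B ≠ Set.univ := fun h => hBt (Or.inr h)
  rw [Set.not_subsingleton_iff] at hBs
  obtain ⟨x, hx, y, hy, hxy⟩ := hBs
  have hle : stabilizer G x ≤ stabilizer G B := hB.stabilizer_le hx
  have h1 : (derSub G Ω).index ∣ (stabilizer G B).index - 1 :=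
    index_dvd_of_stabilizer_le htrans x _ hle
  have h2 : (derSub G Ω).index ∣ Nat.card Ω - 1 := index_dvd htrans x
  have h3 : (stabilizer G x).relIndex (stabilizer G B) * (stabilizer G B).index = Nat.card Ω := by
    rw [Subgroup.relIndex_mul_index hle, index_stabilizer_of_transitive]
  have hbB : B.ncard = (stabilizer G x).relIndex (stabilizer G B) :=
    hB.ncard_block_eq_relIndex hx
  have hb : 2 ≤ (stabilizer G x).relIndex (stabilizer G B) := by
    rw [← hbB]
    exact (Set.one_lt_ncard_iff (Set.toFinite B)).mpr ⟨x, y, hx, hy, hxy⟩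
  have hm : 2 ≤ (stabilizer G B).index := by
    have h0 : (stabilizer G B).index ≠ 0 := Subgroup.index_ne_zero_of_finite
    have h1' : (stabilizer G B).index ≠ 1 := by
      intro h
      rw [Subgroup.index_eq_one] at h
      apply hBu
      rw [Set.eq_univ_iff_forall]
      intro ω
      obtain ⟨g, rfl⟩ := exists_smul_eq G x ω
      have hg : g ∈ stabilizer G B := by rw [h]; exact Subgroup.mem_top g
      rw [mem_stabilizer_iff] at hg
      rw [← hg]
      exact Set.smul_mem_smul_set hx
    omega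
  generalize (stabilizer G x).relIndex (stabilizer G B) = b at h3 hb
  generalize (stabilizer G B).index = m at h1 h3 hm
  generalize (derSub G Ω).index = i at h1 h2 ⊢
  have hi : i ≠ 0 := by
    rintro rfl
    rw [zero_dvd_iff] at h1
    omega
  have h4 : i ∣ b - 1 := by
    have h5 : Nat.card Ω - 1 = b * (m - 1) + (b - 1) := by
      rw [← h3]
      obtain ⟨m', rfl⟩ : ∃ m', m = m' + 1 := ⟨m - 1, by omega⟩
      obtain ⟨b', rfl⟩ : ∃ b', b = b' + 1 := ⟨b - 1, by omega⟩
      simp only [Nat.add_sub_cancel]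
      ring_nf
      omega
    rw [h5] at h2
    exact (Nat.dvd_add_right (Dvd.dvd.mul_left h1 b)).mp h2
  have h5 : i + 1 ≤ b := by
    have := Nat.le_of_dvd (by omega) h4
    omega
  have h6 : i + 1 ≤ m := by
    have := Nat.le_of_dvd (by omega) h1
    omega
  have h7 : (i + 1) ^ 2 ≤ Nat.card Ω := by
    rw [← h3, sq]
    exact Nat.mul_le_mul h5 h6
  have h8 : ((i : ℝ) + 1) ≤ Real.sqrt (Nat.card Ω) := by
    apply Real.le_sqrt_of_sq_le
    exact_mod_cast h7
  linarith

theorem burnside_nat {H X : Type*} [Group H] [MulAction H X] [Fintype H] [Finite X] :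
    ∑ h : H, Nat.card (fixedBy X h) = Nat.card (Quotient (orbitRel H X)) * Nat.card H := by
  classical
  have : Fintype X := Fintype.ofFinite X
  have h := sum_card_fixedBy_eq_card_orbits_mul_card_group H X
  simpa [Nat.card_eq_fintype_card] using h

theorem card_fixedBy_prod (g : G) :
    Nat.card (fixedBy (Ω × Ω) g) = Nat.card (fixedBy Ω g) * Nat.card (fixedBy Ω g) := by
  rw [← Nat.card_prod]
  exact Nat.card_congr
    { toFun := fun p => (⟨p.1.1, congrArg Prod.fst p.2⟩, ⟨p.1.2, congrArg Prod.snd p.2⟩)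
      invFun := fun q => ⟨(q.1.1, q.2.1), Prod.ext q.1.2 q.2.2⟩
      left_inv := fun p => rfl
      right_inv := fun q => rfl }

theorem rank_formula [Finite G] [Finite Ω] (htrans : IsPretransitive G Ω) :
    Nat.card (Quotient (orbitRel (derSub G Ω) (Ω × Ω))) - 1 =
      (Nat.card (Quotient (orbitRel G (Ω × Ω))) - 1) * (derSub G Ω).index := by
  classical
  rcases isEmpty_or_nonempty Ω with hΩ | hΩ
  · have h1 : IsEmpty (Quotient (orbitRel (derSub G Ω) (Ω × Ω))) :=
      ⟨fun q => Quotient.inductionOn q (fun p => hΩ.false p.1)⟩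
    have h2 : IsEmpty (Quotient (orbitRel G (Ω × Ω))) :=
      ⟨fun q => Quotient.inductionOn q (fun p => hΩ.false p.1)⟩
    simp
  have : Fintype G := Fintype.ofFinite G
  obtain ⟨hDt, hfix⟩ := key htrans
  have hG2 := burnside_nat (H := G) (X := Ω × Ω)
  have hG1 := burnside_nat (H := G) (X := Ω)
  have hD2 := burnside_nat (H := derSub G Ω) (X := Ω × Ω)
  have hD1 := burnside_nat (H := derSub G Ω) (X := Ω)
  have hcG : Nat.card (Quotient (orbitRel G Ω)) = 1 := by
    rw [Nat.card_eq_one_iff_unique]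
    exact ⟨(pretransitive_iff_subsingleton_quotient G Ω).mp htrans, ⟨Quotient.mk'' hΩ.some⟩⟩
  have hcD : Nat.card (Quotient (orbitRel (derSub G Ω) Ω)) = 1 := by
    rw [Nat.card_eq_one_iff_unique]
    exact ⟨(pretransitive_iff_subsingleton_quotient (derSub G Ω) Ω).mp hDt,
      ⟨Quotient.mk'' hΩ.some⟩⟩
  rw [hcG, one_mul] at hG1
  rw [hcD, one_mul] at hD1
  simp only [card_fixedBy_prod] at hG2
  have hD2' : ∑ d : derSub G Ω, Nat.card (fixedBy Ω (d : G)) * Nat.card (fixedBy Ω (d : G)) =
      Nat.card (Quotient (orbitRel (derSub G Ω) (Ω × Ω))) * Nat.card (derSub G Ω) := by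
    rw [← hD2]
    apply Finset.sum_congr rfl
    intro d _
    exact (card_fixedBy_prod (G := derSub G Ω) (Ω := Ω) d).symm
  have hD1' : ∑ d : derSub G Ω, Nat.card (fixedBy Ω (d : G)) = Nat.card (derSub G Ω) := hD1
  have hsplit : ∀ F : G → ℕ, ∑ g : G, F g = ∑ d : derSub G Ω, F d +
      ∑ g ∈ Finset.univ.filter (fun g : G => g ∉ derSub G Ω), F g := by
    intro F
    rw [← Finset.sum_filter_add_sum_filter_not Finset.univ (fun g : G => g ∈ derSub G Ω) F]
    congr 1
    exact Finset.sum_subtype _ (by simp) _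
  have hout : ∑ g ∈ Finset.univ.filter (fun g : G => g ∉ derSub G Ω),
      Nat.card (fixedBy Ω g) * Nat.card (fixedBy Ω g) =
      ∑ g ∈ Finset.univ.filter (fun g : G => g ∉ derSub G Ω), Nat.card (fixedBy Ω g) := by
    apply Finset.sum_congr rfl
    intro g hg
    rw [Finset.mem_filter] at hg
    rw [hfix g hg.2]
  rw [hsplit] at hG2 hG1
  rw [hout, hD2'] at hG2
  rw [hD1'] at hG1
  have hidx : Nat.card (derSub G Ω) * (derSub G Ω).index = Nat.card G :=
    Subgroup.card_mul_index _
  have hDpos : 0 < Nat.card (derSub G Ω) := Nat.card_pos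
  have hrG : 1 ≤ Nat.card (Quotient (orbitRel G (Ω × Ω))) := by
    have : Nonempty (Quotient (orbitRel G (Ω × Ω))) := ⟨Quotient.mk'' (hΩ.some, hΩ.some)⟩
    exact Nat.card_pos
  have hrD : 1 ≤ Nat.card (Quotient (orbitRel (derSub G Ω) (Ω × Ω))) := by
    have : Nonempty (Quotient (orbitRel (derSub G Ω) (Ω × Ω))) :=
      ⟨Quotient.mk'' (hΩ.some, hΩ.some)⟩
    exact Nat.card_pos
  rw [← hidx] at hG2 hG1
  generalize Nat.card (Quotient (orbitRel G (Ω × Ω))) = rG at hG2 hrG ⊢
  generalize Nat.card (Quotient (orbitRel (derSub G Ω) (Ω × Ω))) = rD at hG2 hrD ⊢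
  generalize (derSub G Ω).index = i at hG2 hG1 ⊢
  generalize Nat.card (derSub G Ω) = d at hG2 hG1 hDpos
  generalize ∑ g ∈ Finset.univ.filter (fun g : G => g ∉ derSub G Ω), Nat.card (fixedBy Ω g) = S
    at hG2 hG1
  obtain ⟨a, rfl⟩ : ∃ a, rG = a + 1 := ⟨rG - 1, by omega⟩
  obtain ⟨b, rfl⟩ : ∃ b, rD = b + 1 := ⟨rD - 1, by omega⟩
  simp only [Nat.add_sub_cancel]
  have h5 : d * b = d * (a * i) := by nlinarith
  exact Nat.eq_of_mul_eq_mul_left hDpos h5

end Cfsg.Agent.Lib_helper9_Derangement
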