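import Mathlib
import Cfsg.Prelude.Def_Solvable
import Cfsg.Agent.Lib_helper9_Derangement

namespace Cfsg.Agent.Lib_helper9_Frob

open MulAction
open scoped Pointwise

variable {G : Type*} [Group G]

theorem mem_conj_smul_iff {H : Subgroup G} {g x : G} :
    x ∈ MulAut.conj g • H ↔ g⁻¹ * x * g ∈ H := by
  rw [Subgroup.mem_pointwise_smul_iff_inv_smul_mem, MulAut.smul_def, MulAut.conj_inv_apply]

theorem smul_mk_eq_iff {H : Subgroup G} {g x : G} :
    x • (g : G ⧸ H) = (g : G ⧸ H) ↔ x ∈ MulAut.conj g • H := by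
  rw [mem_conj_smul_iff, MulAction.Quotient.smul_mk, QuotientGroup.eq, smul_eq_mul]
  constructor
  · intro h
    have h2 := H.inv_mem h
    simpa [mul_assoc] using h2
  · intro h
    have h2 := H.inv_mem h
    simpa [mul_assoc] using h2

theorem eq_one_of_fix_two {H : Subgroup G} (hH : Cfsg.IsFrobeniusComplement H) {x : G}
    {a b : G ⧸ H} (hab : a ≠ b) (ha : x • a = a) (hb : x • b = b) : x = 1 := by
  induction a using QuotientGroup.induction_on with
  | H g₁ =>
  induction b using QuotientGroup.induction_on with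
  | H g₂ =>
  rw [smul_mk_eq_iff, mem_conj_smul_iff] at ha hb
  have hg : g₁⁻¹ * g₂ ∉ H := by
    intro h
    apply hab
    exact QuotientGroup.eq.mpr h
  have h1 := hH.2.2 _ hg
  have h2 : g₁⁻¹ * x * g₁ ∈ H ⊓ MulAut.conj (g₁⁻¹ * g₂) • H := by
    rw [Subgroup.mem_inf]
    refine ⟨ha, ?_⟩
    rw [mem_conj_smul_iff]
    have h3 : (g₁⁻¹ * g₂)⁻¹ * (g₁⁻¹ * x * g₁) * (g₁⁻¹ * g₂) = g₂⁻¹ * x * g₂ := by group
    rw [h3]; exact hb
  rw [h1, Subgroup.mem_bot] at h2
  have h4 : x = g₁ * (g₁⁻¹ * x * g₁) * g₁⁻¹ := by group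
  rw [h4, h2]; group

theorem one_mem_kernel (H : Subgroup G) : (1 : G) ∈ Cfsg.frobeniusKernel H := Or.inl rfl

theorem not_mem_kernel_iff {H : Subgroup G} {x : G} :
    x ∉ Cfsg.frobeniusKernel H ↔ x ≠ 1 ∧ ∃ g : G, x ∈ MulAut.conj g • H := by
  unfold Cfsg.frobeniusKernel
  simp only [Set.mem_setOf_eq, not_or, not_forall, not_not]

theorem not_mem_of_mem_kernel {H : Subgroup G} {x : G} (hx : x ∈ Cfsg.frobeniusKernel H)
    (hx1 : x ≠ 1) : x ∉ H := by
  intro h
  rcases hx with h1 | h1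
  · exact hx1 h1
  · apply h1 1
    rw [mem_conj_smul_iff]
    simpa using h

theorem conj_mem_kernel {H : Subgroup G} {x : G} (hx : x ∈ Cfsg.frobeniusKernel H) (y : G) :
    y * x * y⁻¹ ∈ Cfsg.frobeniusKernel H := by
  rcases hx with h1 | h1
  · left; rw [h1]; group
  · right
    intro g hg
    apply h1 (y⁻¹ * g)
    rw [mem_conj_smul_iff] at hg ⊢
    have h3 : (y⁻¹ * g)⁻¹ * x * (y⁻¹ * g) = g⁻¹ * (y * x * y⁻¹) * g := by group
    rw [h3]; exact hg

theorem card_fixedBy_of_mem_kernel {H : Subgroup G} {x : G}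
    (hx : x ∈ Cfsg.frobeniusKernel H) (hx1 : x ≠ 1) : Nat.card (fixedBy (G ⧸ H) x) = 0 := by
  have : IsEmpty (fixedBy (G ⧸ H) x) := by
    constructor
    rintro ⟨a, ha⟩
    induction a using QuotientGroup.induction_on with
    | H g =>
    rcases hx with h1 | h1
    · exact hx1 h1
    · exact h1 g (smul_mk_eq_iff.mp ha)
  exact Nat.card_of_isEmpty

theorem card_fixedBy_of_not_mem_kernel {H : Subgroup G} (hH : Cfsg.IsFrobeniusComplement H)
    {x : G} (hx : x ∉ Cfsg.frobeniusKernel H) : Nat.card (fixedBy (G ⧸ H) x) = 1 := by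
  rw [not_mem_kernel_iff] at hx
  obtain ⟨hx1, g, hg⟩ := hx
  rw [Nat.card_eq_one_iff_unique]
  refine ⟨⟨?_⟩, ⟨⟨(g : G ⧸ H), smul_mk_eq_iff.mpr hg⟩⟩⟩
  rintro ⟨a, ha⟩ ⟨b, hb⟩
  by_contra hab
  exact hx1 (eq_one_of_fix_two hH (fun h => hab (Subtype.ext h)) ha hb)

theorem card_fixedBy_one (H : Subgroup G) : Nat.card (fixedBy (G ⧸ H) (1 : G)) = H.index := by
  have h1 : fixedBy (G ⧸ H) (1 : G) = Set.univ := by
    ext a; simp
  rw [h1, Nat.card_coe_set_eq, Set.ncard_univ]
  rfl

theorem card_kernel [Finite G] {H : Subgroup G} (hH : Cfsg.IsFrobeniusComplement H) :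
    Nat.card (Cfsg.frobeniusKernel H) = H.index := by
  classical
  have : Fintype G := Fintype.ofFinite G
  have hB := Cfsg.Agent.Lib_helper9_Derangement.burnside_nat (H := G) (X := G ⧸ H)
  have hq : Nat.card (Quotient (orbitRel G (G ⧸ H))) = 1 := by
    rw [Nat.card_eq_one_iff_unique]
    exact ⟨(pretransitive_iff_subsingleton_quotient G (G ⧸ H)).mp inferInstance,
      ⟨Quotient.mk'' ((1 : G) : G ⧸ H)⟩⟩
  rw [hq, one_mul] at hB
  have hpt : ∀ x : G, Nat.card (fixedBy (G ⧸ H) x) +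
      (if x ∈ Cfsg.frobeniusKernel H then 1 else 0) = 1 + (if x = 1 then H.index else 0) := by
    intro x
    by_cases hx1 : x = 1
    · subst hx1
      rw [card_fixedBy_one, if_pos (one_mem_kernel H), if_pos rfl, add_comm]
    · by_cases hx : x ∈ Cfsg.frobeniusKernel H
      · rw [card_fixedBy_of_mem_kernel hx hx1, if_pos hx, if_neg hx1]
      · rw [card_fixedBy_of_not_mem_kernel hH hx, if_neg hx, if_neg hx1]
  have hsum := Finset.sum_congr (rfl : (Finset.univ : Finset G) = Finset.univ)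
    (fun x _ => hpt x)
  rw [Finset.sum_add_distrib, Finset.sum_add_distrib, hB] at hsum
  have h1 : ∑ x : G, (if x ∈ Cfsg.frobeniusKernel H then 1 else 0) =
      Nat.card (Cfsg.frobeniusKernel H) := by
    rw [Finset.sum_boole, Nat.card_eq_fintype_card]
    simp only [Nat.cast_id]
    exact (Fintype.card_subtype _).symm
  have h2 : ∑ x : G, (if x = 1 then H.index else 0) = H.index := by
    simp
  have h3 : ∑ _x : G, 1 = Nat.card G := by
    simp [Nat.card_eq_fintype_card]
  rw [h1, h2, h3] at hsum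
  omega

theorem card_stabilizer_dvd_of_fix_two {G Ω : Type*} [Group G] [Finite G] [MulAction G Ω]
    [Finite Ω] (hfix : ∀ (x : G) (a b : Ω), a ≠ b → x • a = a → x • b = b → x = 1) (a : Ω) :
    Nat.card (stabilizer G a) ∣ Nat.card Ω - 1 := by
  rw [← SubMulAction.nat_card_ofStabilizer_eq G a]
  apply Cfsg.Agent.Lib_helper9_Derangement.dvd_card_of_dvd_index' (H := stabilizer G a)
  intro x
  have h2 : stabilizer (stabilizer G a) x = ⊥ := by
    rw [eq_bot_iff]
    intro h hh
    rw [Subgroup.mem_bot]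
    apply Subtype.ext
    exact hfix _ _ _ (SubMulAction.neq_of_mem_ofStabilizer G a)
      (congrArg Subtype.val (mem_stabilizer_iff.mp hh)) h.2
  rw [h2, Subgroup.index_bot]

theorem card_stabilizer_dvd_card_sub_one [Finite G] {H : Subgroup G}
    (hH : Cfsg.IsFrobeniusComplement H) (a : G ⧸ H) :
    Nat.card (stabilizer G a) ∣ Nat.card (G ⧸ H) - 1 :=
  card_stabilizer_dvd_of_fix_two (fun _ _ _ hab ha hb => eq_one_of_fix_two hH hab ha hb) a

theorem card_dvd_index_sub_one [Finite G] {H : Subgroup G}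
    (hH : Cfsg.IsFrobeniusComplement H) : Nat.card H ∣ H.index - 1 := by
  have h1 := card_stabilizer_dvd_card_sub_one hH ((1 : G) : G ⧸ H)
  rw [stabilizer_quotient H] at h1
  exact h1

theorem index_mod_card [Finite G] {H : Subgroup G} (hH : Cfsg.IsFrobeniusComplement H) :
    H.index % Nat.card H = 1 % Nat.card H := by
  have h1 : 1 ≤ H.index := Nat.one_le_iff_ne_zero.mpr Subgroup.index_ne_zero_of_finite
  exact ((Nat.modEq_iff_dvd' h1).mpr (card_dvd_index_sub_one hH)).symm

theorem coprime_index_card [Finite G] {H : Subgroup G} (hH : Cfsg.IsFrobeniusComplement H) :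
    Nat.Coprime H.index (Nat.card H) := by
  have h1 : 1 ≤ H.index := Nat.one_le_iff_ne_zero.mpr Subgroup.index_ne_zero_of_finite
  obtain ⟨c, hc⟩ := card_dvd_index_sub_one hH
  have h2 : H.index = 1 + Nat.card H * c := by omega
  rw [h2]
  simp

theorem kernel_normal {H K : Subgroup G} (hK : (K : Set G) = Cfsg.frobeniusKernel H) :
    K.Normal := by
  constructor
  intro x hx y
  have h1 : x ∈ Cfsg.frobeniusKernel H := by rw [← hK]; exact hx
  have h2 := conj_mem_kernel h1 y
  rw [← hK] at h2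
  exact h2

theorem centralizer_kernel {H : Subgroup G} (hH : Cfsg.IsFrobeniusComplement H) {h k : G}
    (hh : h ∈ H) (hh1 : h ≠ 1) (hk : k ∈ Cfsg.frobeniusKernel H) (hc : k * h = h * k) :
    k = 1 := by
  by_contra hk1
  have hkH := not_mem_of_mem_kernel hk hk1
  have h1 := hH.2.2 k hkH
  have h2 : h ∈ H ⊓ MulAut.conj k • H := by
    rw [Subgroup.mem_inf]
    refine ⟨hh, ?_⟩
    rw [mem_conj_smul_iff]
    have h3 : k⁻¹ * h * k = h := by
      rw [mul_assoc, ← hc, ← mul_assoc, inv_mul_cancel, one_mul]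
    rw [h3]; exact hh
  rw [h1, Subgroup.mem_bot] at h2
  exact hh1 h2

theorem card_kernel_subgroup [Finite G] {H K : Subgroup G} (hH : Cfsg.IsFrobeniusComplement H)
    (hK : (K : Set G) = Cfsg.frobeniusKernel H) : Nat.card K = H.index := by
  rw [← card_kernel hH, ← hK]
  rfl

theorem mem_kernel_iff_pow [Finite G] {H K : Subgroup G} (hH : Cfsg.IsFrobeniusComplement H)
    (hK : (K : Set G) = Cfsg.frobeniusKernel H) (x : G) : x ∈ K ↔ x ^ H.index = 1 := by
  have hcard : Nat.card K = H.index := card_kernel_subgroup hH hK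
  constructor
  · intro hx
    have h1 : ((⟨x, hx⟩ : K) ^ Nat.card K : K) = 1 := pow_card_eq_one'
    rw [hcard] at h1
    have h2 := congrArg Subtype.val h1
    rw [Subgroup.coe_pow] at h2
    exact h2
  · intro hx
    by_contra hxK
    have hx' : x ∉ Cfsg.frobeniusKernel H := by rw [← hK]; exact hxK
    rw [not_mem_kernel_iff] at hx'
    obtain ⟨hx1, g, hg⟩ := hx'
    rw [mem_conj_smul_iff] at hg
    have h1 : (g⁻¹ * x * g) ^ H.index = 1 := by
      have h0 : g⁻¹ * x * g = g⁻¹ * x * g⁻¹⁻¹ := by rw [inv_inv]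
      rw [h0, conj_pow, hx]; group
    have h2 : (g⁻¹ * x * g) ^ Nat.card H = 1 := by
      have h0 : ((⟨_, hg⟩ : H) ^ Nat.card H : H) = 1 := pow_card_eq_one'
      have h0' := congrArg Subtype.val h0
      rw [Subgroup.coe_pow] at h0'
      exact h0'
    have h3 : g⁻¹ * x * g = 1 := by
      have h4 := pow_gcd_eq_one.mpr ⟨h1, h2⟩
      rw [Nat.Coprime.gcd_eq_one (coprime_index_card hH), pow_one] at h4
      exact h4
    apply hx1
    have h5 : x = g * (g⁻¹ * x * g) * g⁻¹ := by group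
    rw [h5, h3]; group

theorem kernel_characteristic [Finite G] {H K : Subgroup G}
    (hH : Cfsg.IsFrobeniusComplement H) (hK : (K : Set G) = Cfsg.frobeniusKernel H) :
    K.Characteristic := by
  refine ⟨fun φ => ?_⟩
  ext x
  rw [Subgroup.mem_comap, mem_kernel_iff_pow hH hK, mem_kernel_iff_pow hH hK]
  simp only [MulEquiv.coe_toMonoidHom]
  rw [← map_pow]
  exact φ.map_eq_one_iff

theorem kernel_comparable [Finite G] {H K : Subgroup G} (hH : Cfsg.IsFrobeniusComplement H)
    (hK : (K : Set G) = Cfsg.frobeniusKernel H) (N : Subgroup G) (hN : N.Normal) :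
    K ≤ N ∨ N ≤ K := by
  by_contra hcon
  push Not at hcon
  obtain ⟨hKN, hNK⟩ := hcon
  obtain ⟨x, hxN, hxK⟩ := SetLike.not_le_iff_exists.mp hNK
  have hx' : x ∉ Cfsg.frobeniusKernel H := by rw [← hK]; exact hxK
  rw [not_mem_kernel_iff] at hx'
  obtain ⟨hx1, g, hg⟩ := hx'
  rw [mem_conj_smul_iff] at hg
  have hhN : g⁻¹ * x * g ∈ N := by
    have h0 := hN.conj_mem x hxN g⁻¹
    simpa using h0
  have hh1 : g⁻¹ * x * g ≠ 1 := by
    intro h0
    apply hx1
    have h5 : x = g * (g⁻¹ * x * g) * g⁻¹ := by group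
    rw [h5, h0]; group
  generalize g⁻¹ * x * g = h at hg hhN hh1
  have hKn : K.Normal := kernel_normal hK
  apply hKN
  let f : K → K := fun k => ⟨(k : G) * h * (k : G)⁻¹ * h⁻¹, by
    have h1 : h * (k : G)⁻¹ * h⁻¹ ∈ K := hKn.conj_mem _ (K.inv_mem k.2) h
    have h2 : (k : G) * h * (k : G)⁻¹ * h⁻¹ = (k : G) * (h * (k : G)⁻¹ * h⁻¹) := by group
    rw [h2]; exact K.mul_mem k.2 h1⟩
  have hinj : Function.Injective f := by
    intro k k' hkk
    have h1 : (k : G) * h * (k : G)⁻¹ * h⁻¹ = (k' : G) * h * (k' : G)⁻¹ * h⁻¹ :=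
      congrArg Subtype.val hkk
    have h3 := mul_right_cancel h1
    have h2 : ((k' : G)⁻¹ * (k : G)) * h = h * ((k' : G)⁻¹ * (k : G)) := by
      calc (k' : G)⁻¹ * (k : G) * h
          = (k' : G)⁻¹ * ((k : G) * h * (k : G)⁻¹) * (k : G) := by group
        _ = (k' : G)⁻¹ * ((k' : G) * h * (k' : G)⁻¹) * (k : G) := by rw [h3]
        _ = h * ((k' : G)⁻¹ * (k : G)) := by group
    have h4 : (k' : G)⁻¹ * (k : G) ∈ Cfsg.frobeniusKernel H := by
      rw [← hK]; exact K.mul_mem (K.inv_mem k'.2) k.2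
    have h5 := centralizer_kernel hH hg hh1 h4 h2
    exact Subtype.ext (inv_mul_eq_one.mp h5).symm
  have hsurj := Finite.surjective_of_injective hinj
  intro k hk
  obtain ⟨k0, hk0⟩ := hsurj ⟨k, hk⟩
  have h1 : (k0 : G) * h * (k0 : G)⁻¹ * h⁻¹ = k := congrArg Subtype.val hk0
  rw [← h1]
  exact N.mul_mem (hN.conj_mem h hhN k0) (N.inv_mem hhN)

theorem not_mem_kernel_iff_fix {H : Subgroup G} {x : G} :
    x ∉ Cfsg.frobeniusKernel H ↔ x ≠ 1 ∧ ∃ p : G ⧸ H, x • p = p := by
  rw [not_mem_kernel_iff]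
  constructor
  · rintro ⟨h1, g, hg⟩
    exact ⟨h1, (g : G ⧸ H), smul_mk_eq_iff.mpr hg⟩
  · rintro ⟨h1, p, hp⟩
    induction p using QuotientGroup.induction_on with
    | H g => exact ⟨h1, g, smul_mk_eq_iff.mp hp⟩

theorem smul_one_of_mem {H : Subgroup G} {t : G} (ht : t ∈ H) :
    t • ((1 : G) : G ⧸ H) = ((1 : G) : G ⧸ H) := by
  rw [smul_mk_eq_iff, mem_conj_smul_iff]
  simpa using ht

theorem exists_ne_one_coset {H : Subgroup G} (hH : Cfsg.IsFrobeniusComplement H) :
    ∃ z : G, z • ((1 : G) : G ⧸ H) ≠ ((1 : G) : G ⧸ H) := by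
  have h1 : ∃ z : G, z ∉ H := by
    by_contra h
    push Not at h
    exact hH.2.1 (eq_top_iff.mpr (fun z _ => h z))
  obtain ⟨z, hz⟩ := h1
  refine ⟨z, fun h => hz ?_⟩
  rw [MulAction.Quotient.smul_mk, smul_eq_mul, mul_one, QuotientGroup.eq] at h
  have h2 := H.inv_mem h
  simpa using h2

theorem kernel_eq_of_involution [Finite G] {H : Subgroup G} (hH : Cfsg.IsFrobeniusComplement H)
    {t : G} (ht : t ∈ H) (ht1 : t ≠ 1) (ht2 : t * t = 1) :
    ∀ k ∈ Cfsg.frobeniusKernel H, k = 1 ∨ ∃ g : G, k = t * (g * t * g⁻¹) := by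
  classical
  have hto : t • ((1 : G) : G ⧸ H) = ((1 : G) : G ⧸ H) := smul_one_of_mem ht
  generalize ((1 : G) : G ⧸ H) = o at hto
  have hti : t⁻¹ = t := inv_eq_of_mul_eq_one_right ht2
  have hfix : ∀ (g : G), (g * t * g⁻¹) • (g • o) = g • o := by
    intro g
    rw [← mul_smul, inv_mul_cancel_right, mul_smul, hto]
  have hconj1 : ∀ g : G, g * t * g⁻¹ ≠ 1 := by
    intro g h
    apply ht1
    have h5 : t = g⁻¹ * (g * t * g⁻¹) * g := by group
    rw [h5, h]; group
  have hconj2 : ∀ g : G, (g * t * g⁻¹) * (g * t * g⁻¹) = 1 := by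
    intro g
    calc (g * t * g⁻¹) * (g * t * g⁻¹) = g * (t * t) * g⁻¹ := by group
      _ = 1 := by rw [ht2]; group
  have hmem : ∀ g : G, g • o ≠ o → t * (g * t * g⁻¹) ∈ Cfsg.frobeniusKernel H := by
    intro g hg
    by_contra hk
    rw [not_mem_kernel_iff_fix] at hk
    obtain ⟨hk1, p, hp⟩ := hk
    have hss := hconj2 g
    have hs1 := hconj1 g
    have hfg := hfix g
    generalize g * t * g⁻¹ = s at hk1 hp hss hs1 hfg
    have hsi : s⁻¹ = s := inv_eq_of_mul_eq_one_right hss
    have h1 : (t * s) • (t • p) = t • p := by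
      have h0 : (t * s) * t = t * (t * s)⁻¹ := by
        rw [mul_inv_rev, hsi, hti]; group
      rw [← mul_smul, h0, mul_smul, inv_smul_eq_iff.mpr hp.symm]
    have htp : t • p = p := by
      by_contra hne
      exact hk1 (eq_one_of_fix_two hH hne h1 hp)
    have h2 : (t * s) • (s • p) = s • p := by
      have h0 : (t * s) * s = s * (t * s)⁻¹ := by
        rw [mul_inv_rev, hsi, hti]
        calc t * s * s = t * (s * s) := by group
          _ = (s * s) * t := by rw [hss, mul_one, one_mul]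
          _ = s * (s * t) := by group
      rw [← mul_smul, h0, mul_smul, inv_smul_eq_iff.mpr hp.symm]
    have hsp : s • p = p := by
      by_contra hne
      exact hk1 (eq_one_of_fix_two hH hne h2 hp)
    have hpo : p = o := by
      by_contra hne
      exact ht1 (eq_one_of_fix_two hH hne htp hto)
    apply hg
    by_contra hne
    rw [hpo] at hsp
    exact hs1 (eq_one_of_fix_two hH hne hfg hsp)
  have hcard : Nat.card (Cfsg.frobeniusKernel H) = Nat.card (G ⧸ H) := card_kernel hH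
  -- a section of the orbit map
  have hsec : ∀ q : G ⧸ H, ∃ g : G, g • o = q := fun q => exists_smul_eq G o q
  choose sec hsec using hsec
  let f : G ⧸ H → Cfsg.frobeniusKernel H := fun q =>
    if hq : q = o then ⟨1, one_mem_kernel H⟩
    else ⟨t * (sec q * t * (sec q)⁻¹), hmem (sec q) (by rw [hsec]; exact hq)⟩
  have hinj : Function.Injective f := by
    intro q q' hqq
    by_cases hq : q = o <;> by_cases hq' : q' = o
    · rw [hq, hq']
    · exfalso
      simp only [f, dif_pos hq, dif_neg hq'] at hqq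
      have h1 : (1 : G) = t * (sec q' * t * (sec q')⁻¹) := congrArg Subtype.val hqq
      have h2 : sec q' * t * (sec q')⁻¹ = t := by
        have h3 : t * t = t * (sec q' * t * (sec q')⁻¹) := by rw [ht2]; exact h1
        exact (mul_left_cancel h3).symm
      have h3 := hfix (sec q')
      rw [h2, hsec] at h3
      exact ht1 (eq_one_of_fix_two hH hq' h3 hto)
    · exfalso
      simp only [f, dif_pos hq', dif_neg hq] at hqq
      have h1 : t * (sec q * t * (sec q)⁻¹) = (1 : G) := congrArg Subtype.val hqq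
      have h2 : sec q * t * (sec q)⁻¹ = t := by
        have h3 : t * (sec q * t * (sec q)⁻¹) = t * t := by rw [ht2]; exact h1
        exact mul_left_cancel h3
      have h3 := hfix (sec q)
      rw [h2, hsec] at h3
      exact ht1 (eq_one_of_fix_two hH hq h3 hto)
    · simp only [f, dif_neg hq, dif_neg hq'] at hqq
      have h1 : t * (sec q * t * (sec q)⁻¹) = t * (sec q' * t * (sec q')⁻¹) :=
        congrArg Subtype.val hqq
      have h2 := mul_left_cancel h1
      have h3 := hfix (sec q)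
      have h4 := hfix (sec q')
      rw [hsec] at h3 h4
      rw [← h2] at h4
      by_contra hne
      exact hconj1 (sec q) (eq_one_of_fix_two hH hne h3 h4)
  have hsurj : Function.Surjective f :=
    (Function.Injective.bijective_of_nat_card_le hinj (le_of_eq hcard)).2
  intro k hk
  obtain ⟨q, hq⟩ := hsurj ⟨k, hk⟩
  by_cases hqo : q = o
  · left
    simp only [f, dif_pos hqo] at hq
    exact (congrArg Subtype.val hq).symm
  · right
    simp only [f, dif_neg hqo] at hq
    exact ⟨sec q, (congrArg Subtype.val hq).symm⟩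

theorem involution_inverts_kernel [Finite G] {H : Subgroup G}
    (hH : Cfsg.IsFrobeniusComplement H) {t : G} (ht : t ∈ H) (ht1 : t ≠ 1) (ht2 : t * t = 1) :
    ∀ k ∈ Cfsg.frobeniusKernel H, t * k * t = k⁻¹ := by
  intro k hk
  rcases kernel_eq_of_involution hH ht ht1 ht2 k hk with h | ⟨g, h⟩
  · rw [h, mul_one, ht2, inv_one]
  · rw [h]
    have hs : (g * t * g⁻¹) * (g * t * g⁻¹) = 1 := by
      calc (g * t * g⁻¹) * (g * t * g⁻¹) = g * (t * t) * g⁻¹ := by group
        _ = 1 := by rw [ht2]; group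
    rw [eq_inv_iff_mul_eq_one]
    calc t * (t * (g * t * g⁻¹)) * t * (t * (g * t * g⁻¹))
        = (t * t) * (g * t * g⁻¹) * (t * t) * (g * t * g⁻¹) := by group
      _ = 1 := by rw [ht2, one_mul, mul_one, hs]

theorem conj_involution_inverts_kernel [Finite G] {H : Subgroup G}
    (hH : Cfsg.IsFrobeniusComplement H) {t : G} (ht : t ∈ H) (ht1 : t ≠ 1) (ht2 : t * t = 1)
    (z : G) : ∀ k ∈ Cfsg.frobeniusKernel H, (z * t * z⁻¹) * k * (z * t * z⁻¹) = k⁻¹ := by
  intro k hk
  have h0 : z⁻¹ * k * z ∈ Cfsg.frobeniusKernel H := by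
    have h := conj_mem_kernel hk z⁻¹
    simpa using h
  have h1 := involution_inverts_kernel hH ht ht1 ht2 (z⁻¹ * k * z) h0
  calc z * t * z⁻¹ * k * (z * t * z⁻¹) = z * (t * (z⁻¹ * k * z) * t) * z⁻¹ := by group
    _ = z * (z⁻¹ * k * z)⁻¹ * z⁻¹ := by rw [h1]
    _ = k⁻¹ := by group

theorem kernel_comm_of_involution [Finite G] {H : Subgroup G}
    (hH : Cfsg.IsFrobeniusComplement H) {t : G} (ht : t ∈ H) (ht1 : t ≠ 1) (ht2 : t * t = 1) :
    ∀ x ∈ Cfsg.frobeniusKernel H, ∀ y ∈ Cfsg.frobeniusKernel H, x * y = y * x := by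
  intro x hx y hy
  have hti : t⁻¹ = t := inv_eq_of_mul_eq_one_right ht2
  rcases kernel_eq_of_involution hH ht ht1 ht2 x hx with h | ⟨g, h⟩
  · rw [h, one_mul, mul_one]
  · have h1 := involution_inverts_kernel hH ht ht1 ht2 y hy
    have h2 := conj_involution_inverts_kernel hH ht ht1 ht2 g y hy
    have hs : (g * t * g⁻¹) * (g * t * g⁻¹) = 1 := by
      calc (g * t * g⁻¹) * (g * t * g⁻¹) = g * (t * t) * g⁻¹ := by group
        _ = 1 := by rw [ht2]; group
    rw [h]
    generalize g * t * g⁻¹ = s at h2 hs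
    have h3 : t * y⁻¹ * t = y := by
      have h4 : (t * y * t)⁻¹ = t * y⁻¹ * t := by
        rw [mul_inv_rev, mul_inv_rev, hti]; group
      rw [← h4, h1, inv_inv]
    calc t * s * y = t * (s * y * s) * s := by
          rw [show t * (s * y * s) * s = t * s * y * (s * s) by group, hs, mul_one]
      _ = t * y⁻¹ * s := by rw [h2]
      _ = (t * y⁻¹ * t) * (t * s) := by
          rw [show t * y⁻¹ * t * (t * s) = t * y⁻¹ * (t * t) * s by group, ht2, mul_one]
      _ = y * (t * s) := by rw [h3]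

theorem kernel_mul_mem_of_involution [Finite G] {H : Subgroup G}
    (hH : Cfsg.IsFrobeniusComplement H) {t : G} (ht : t ∈ H) (ht1 : t ≠ 1) (ht2 : t * t = 1) :
    ∀ x ∈ Cfsg.frobeniusKernel H, ∀ y ∈ Cfsg.frobeniusKernel H,
      x * y ∈ Cfsg.frobeniusKernel H := by
  intro x hx y hy
  by_contra hw
  rw [not_mem_kernel_iff_fix] at hw
  obtain ⟨hw1, p, hp⟩ := hw
  have hto : t • ((1 : G) : G ⧸ H) = ((1 : G) : G ⧸ H) := smul_one_of_mem ht
  obtain ⟨z, hz⟩ := exists_ne_one_coset hH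
  generalize ((1 : G) : G ⧸ H) = o at hto hz
  have hcomm := kernel_comm_of_involution hH ht ht1 ht2 x hx y hy
  have hr : ∀ z : G, (z * t * z⁻¹) • p = p := by
    intro z
    have hrr : (z * t * z⁻¹) * (z * t * z⁻¹) = 1 := by
      calc (z * t * z⁻¹) * (z * t * z⁻¹) = z * (t * t) * z⁻¹ := by group
        _ = 1 := by rw [ht2]; group
    have hx' := conj_involution_inverts_kernel hH ht ht1 ht2 z x hx
    have hy' := conj_involution_inverts_kernel hH ht ht1 ht2 z y hy
    generalize z * t * z⁻¹ = r at hrr hx' hy'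
    have h1 : (x * y) * r = r * (x * y)⁻¹ := by
      have h0 : (x * y)⁻¹ = r * x * r * (r * y * r) := by
        rw [hcomm, mul_inv_rev, hx', hy']
      rw [h0]
      calc x * y * r = (r * r) * x * (r * r) * y * r := by rw [hrr]; group
        _ = r * (r * x * r * (r * y * r)) := by group
    have h2 : (x * y) • (r • p) = r • p := by
      rw [← mul_smul, h1, mul_smul, inv_smul_eq_iff.mpr hp.symm]
    by_contra hne
    exact hw1 (eq_one_of_fix_two hH hne h2 hp)
  have hpo : p = o := by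
    by_contra hne
    have h1 := hr 1
    simp only [one_mul, inv_one, mul_one] at h1
    exact ht1 (eq_one_of_fix_two hH hne h1 hto)
  have h3 := hr z
  rw [hpo] at h3
  have h4 : (z * t * z⁻¹) • (z • o) = z • o := by
    rw [← mul_smul, inv_mul_cancel_right, mul_smul, hto]
  have h5 := eq_one_of_fix_two hH hz h4 h3
  apply ht1
  have h6 : t = z⁻¹ * (z * t * z⁻¹) * z := by group
  rw [h6, h5]; group

end Cfsg.Agent.Lib_helper9_Frob
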