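import Mathlib
import Cfsg.Prelude.Def_Characters
import Cfsg.Agent.Lib_helper3_CharBasic
import Cfsg.Agent.Lib_helper3_CharDiag
import Cfsg.Agent.Lib_helper3_CharOdd

set_option autoImplicit false

namespace Cfsg.Agent.Lib_lead_CharQuot

open Cfsg
open Cfsg.Agent.Lib_helper3_CharBasic Cfsg.Agent.Lib_helper3_CharDiag
open scoped ComplexConjugate

universe u v w

variable {G : Type u} [Group G] {H : Type w} [Group H]

/-- subrepresentations of `σ` and of `σ ∘ f` coincide for surjective `f` -/
def subrepIso {V : Type v} [AddCommGroup V] [Module ℂ V] (σ : Representation ℂ H V) (f : G →* H)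
    (hf : Function.Surjective f) : Subrepresentation (σ.comp f) ≃o Subrepresentation σ where
  toFun W := ⟨W.toSubmodule, fun h v hv => by
    obtain ⟨g, rfl⟩ := hf h
    exact W.apply_mem_toSubmodule g hv⟩
  invFun W := ⟨W.toSubmodule, fun g v hv => W.apply_mem_toSubmodule (f g) hv⟩
  left_inv W := by cases W; rfl
  right_inv W := by cases W; rfl
  map_rel_iff' := Iff.rfl

theorem irreducible_comp_iff {V : Type v} [AddCommGroup V] [Module ℂ V] (σ : Representation ℂ H V)
    (f : G →* H) (hf : Function.Surjective f) :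
    Representation.IsIrreducible (σ.comp f : Representation ℂ G V) ↔ σ.IsIrreducible :=
  OrderIso.isSimpleOrder_iff (subrepIso σ f hf)

/-- inflation of an irreducible character along a surjective homomorphism -/
theorem isIrrCharacter_comp_surjective (f : G →* H) (hf : Function.Surjective f) {ψ : H → ℂ}
    (hψ : IsIrrCharacter H ψ) : IsIrrCharacter G (ψ ∘ f) := by
  obtain ⟨n, σ, hirr, rfl⟩ := hψ
  exact ⟨n, σ.comp f, (irreducible_comp_iff σ f hf).mpr hirr, rfl⟩

/-- an irreducible character with `N` in its kernel is the inflation of an irreducible character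
of `G ⧸ N` -/
theorem irr_quotient [Finite G] {χ : G → ℂ} (hχ : IsIrrCharacter G χ) (N : Subgroup G) [N.Normal]
    (hN : ∀ g ∈ N, χ g = χ 1) :
    ∃ ψ : G ⧸ N → ℂ, IsIrrCharacter (G ⧸ N) ψ ∧ ∀ g : G, ψ (g : G ⧸ N) = χ g := by
  obtain ⟨n, ρ, hirr, rfl⟩ := hχ
  have hker : N ≤ MonoidHom.ker ρ := by
    intro g hg
    have h1 := hN g hg
    rw [Representation.char_one] at h1
    have h2 := (char_eq_degree_iff ρ g).mp h1
    rw [MonoidHom.mem_ker, h2]
    rfl
  let σ : Representation ℂ (G ⧸ N) (Fin n → ℂ) := QuotientGroup.lift N ρ hker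
  have hσ : σ.comp (QuotientGroup.mk' N) = ρ := by
    ext g : 1
    rfl
  refine ⟨σ.character, ⟨n, σ, ?_, rfl⟩, fun g => rfl⟩
  have h3 : Representation.IsIrreducible
      (σ.comp (QuotientGroup.mk' N) : Representation ℂ G (Fin n → ℂ)) := by rw [hσ]; exact hirr
  exact (irreducible_comp_iff σ (QuotientGroup.mk' N) (QuotientGroup.mk'_surjective N)).mp h3

/-- the degree of an irreducible character divides the index of any normal subgroup contained in
its kernel -/
theorem irr_degree_dvd_index [Finite G] {χ : G → ℂ} (hχ : IsIrrCharacter G χ) (N : Subgroup G)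
    [N.Normal] (hN : ∀ g ∈ N, χ g = χ 1) {n : ℕ} (hn : χ 1 = n) : n ∣ N.index := by
  obtain ⟨ψ, hψ, hψχ⟩ := irr_quotient hχ N hN
  have h1 : ψ 1 = n := by
    have := hψχ 1
    rw [hn] at this
    exact this
  have := Cfsg.Agent.Lib_helper3_CharOdd.irr_degree_dvd_card hψ h1
  rwa [← Subgroup.index_eq_card] at this

/-- the kernel of a character, as a subgroup -/
def charKer [Finite G] {χ : G → ℂ} (hχ : IsCharacter G χ) : Subgroup G where
  carrier := {g | χ g = χ 1}
  one_mem' := rfl
  mul_mem' := by
    intro a b ha hb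
    change χ a = χ 1 at ha; change χ b = χ 1 at hb; change χ (a * b) = χ 1
    rw [isCharacter_eq_degree_mul hχ ha b, hb]
  inv_mem' := by
    intro a ha
    change χ a = χ 1 at ha; change χ a⁻¹ = χ 1
    have := isCharacter_eq_degree_mul hχ ha a⁻¹
    rw [mul_inv_cancel] at this
    exact this.symm

theorem mem_charKer [Finite G] {χ : G → ℂ} (hχ : IsCharacter G χ) (g : G) :
    g ∈ charKer hχ ↔ χ g = χ 1 := Iff.rfl

instance charKer_normal [Finite G] {χ : G → ℂ} (hχ : IsCharacter G χ) : (charKer hχ).Normal := by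
  constructor
  intro n hn g
  rw [mem_charKer] at hn ⊢
  rw [← hn]
  exact (isClassFunction_of_isCharacter hχ) n g

end Cfsg.Agent.Lib_lead_CharQuot
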