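import Mathlib
import Cfsg.Prelude.Def_Characters
import Cfsg.Prelude.Def_Solvable
import Cfsg.Agent.Lib_helper3_CharBasic
import Cfsg.Agent.Lib_helper3_CharMore
import Cfsg.Agent.Lib_helper3_CharInd
import Cfsg.Agent.Lib_helper3_CharProd
import Cfsg.Agent.Lib_lead_CharQuot
import Cfsg.Agent.Lib_helper9_Frob

set_option autoImplicit false

namespace Cfsg.Agent.Lib_helper5_FrobKer

open Cfsg
open Cfsg.Agent.Lib_helper3_CharBasic Cfsg.Agent.Lib_helper3_CharMore
  Cfsg.Agent.Lib_helper3_CharInd
open scoped ComplexConjugate Pointwise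

universe u

variable {G : Type u} [Group G]

/-- For a Frobenius complement `H`, inducing a class function that vanishes at `1` and
restricting back gives the same function. -/
theorem indFun_restrict [Fintype G] {H : Subgroup G} (hH : IsFrobeniusComplement H)
    (θ : H → ℂ) (hθ : IsClassFunction H θ) (h1 : θ 1 = 0) (h : H) :
    indFun H θ (h : G) = θ h := by
  classical
  rw [indFun_apply]
  by_cases hh : h = 1
  · subst hh
    have h2 : ∀ x : G, extendByZero H θ (x⁻¹ * ((1 : H) : G) * x) = 0 := by
      intro x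
      have e : x⁻¹ * ((1 : H) : G) * x = ((1 : H) : G) := by simp
      rw [e, extendByZero_coe, h1]
    rw [Finset.sum_congr rfl (fun x _ => h2 x), Finset.sum_const_zero, mul_zero, h1]
  · have key : ∀ x : G, extendByZero H θ (x⁻¹ * (h : G) * x) = if x ∈ H then θ h else 0 := by
      intro x
      split_ifs with hx
      · have e : x⁻¹ * (h : G) * x = (((⟨x, hx⟩ : H)⁻¹ * h * ⟨x, hx⟩ : H) : G) := rfl
        rw [e, extendByZero_coe]
        have h3 := hθ h (⟨x, hx⟩ : H)⁻¹
        rw [inv_inv] at h3
        exact h3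
      · apply extendByZero_not_mem
        intro hmem
        have h2 := hH.2.2 x hx
        have h3 : (h : G) ∈ H ⊓ (MulAut.conj x • H) :=
          ⟨h.2, Cfsg.Agent.Lib_helper9_Frob.mem_conj_smul_iff.mpr hmem⟩
        rw [h2, Subgroup.mem_bot] at h3
        exact hh (Subtype.ext h3)
    simp_rw [key]
    rw [Finset.sum_ite, Finset.sum_const, Finset.sum_const_zero, add_zero, nsmul_eq_mul]
    have hcard : (Finset.univ.filter (fun x : G => x ∈ H)).card = Nat.card H := by
      rw [Nat.card_eq_fintype_card, Fintype.card_subtype]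
    rw [hcard]
    have := card_subgroup_ne_zero H
    field_simp

theorem indFun_eq_zero_of_not_conj [Fintype G] (H : Subgroup G) (θ : H → ℂ) (g : G)
    (hg : ∀ x : G, g ∉ MulAut.conj x • H) : indFun H θ g = 0 := by
  rw [indFun_apply]
  have h1 : ∀ x : G, extendByZero H θ (x⁻¹ * g * x) = 0 := fun x =>
    extendByZero_not_mem H θ
      (fun hmem => hg x (Cfsg.Agent.Lib_helper9_Frob.mem_conj_smul_iff.mpr hmem))
  simp [h1]

/-- the extension to `G` of a class function of a Frobenius complement -/
noncomputable def star [Fintype G] (H : Subgroup G) (φ : H → ℂ) : G → ℂ :=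
  fun g => indFun H (fun h => φ h - φ 1) g + φ 1

theorem star_coe [Fintype G] {H : Subgroup G} (hH : IsFrobeniusComplement H) (φ : H → ℂ)
    (hφ : IsClassFunction H φ) (h : H) : star H φ (h : G) = φ h := by
  unfold star
  rw [indFun_restrict hH (fun h => φ h - φ 1) (fun g k => by
    show φ (k * g * k⁻¹) - φ 1 = φ g - φ 1
    rw [hφ g k]) (sub_self _) h]
  ring

theorem star_of_not_conj [Fintype G] (H : Subgroup G) (φ : H → ℂ) (g : G)
    (hg : ∀ x : G, g ∉ MulAut.conj x • H) : star H φ g = φ 1 := by
  unfold star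
  rw [indFun_eq_zero_of_not_conj H _ g hg, zero_add]

theorem star_one [Fintype G] (H : Subgroup G) (φ : H → ℂ) : star H φ 1 = φ 1 := by
  unfold star
  rw [indFun_apply_one, sub_self, mul_zero, zero_add]

theorem star_eq [Fintype G] (H : Subgroup G) (φ : H → ℂ) :
    star H φ = indFun H (φ - (φ 1) • (fun _ : H => (1 : ℂ))) + (φ 1) • (fun _ : G => (1 : ℂ)) := by
  funext g
  unfold star
  simp only [Pi.add_apply, Pi.smul_apply, smul_eq_mul, mul_one]
  congr 2
  funext h
  simp

theorem isClassFunction_star [Fintype G] (H : Subgroup G) (φ : H → ℂ) :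
    IsClassFunction G (star H φ) := by
  intro g k
  unfold star
  rw [isClassFunction_indFun H _ g k]

theorem inner_star [Fintype G] (H : Subgroup G) [Fintype H] (φ : H → ℂ) (χ : G → ℂ)
    (hχ : IsClassFunction G χ) :
    classInner (star H φ) χ = classInner φ (fun h : H => χ h)
      - φ 1 * classInner (fun _ : H => (1 : ℂ)) (fun h : H => χ h)
      + φ 1 * classInner (fun _ : G => (1 : ℂ)) χ := by
  rw [star_eq, classInner_add_left, classInner_smul_left, frobenius_reciprocity H _ χ hχ,
    classInner_sub_left, classInner_smul_left]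

theorem inner_one_one {K : Type u} [Group K] [Fintype K] :
    classInner (fun _ : K => (1 : ℂ)) (fun _ : K => (1 : ℂ)) = 1 :=
  irr_inner_self isIrrCharacter_one

theorem inner_star_self [Fintype G] {H : Subgroup G} [Fintype H] (hH : IsFrobeniusComplement H)
    {φ : H → ℂ} (hφ : IsIrrCharacter H φ) : classInner (star H φ) (star H φ) = 1 := by
  have hcf := isClassFunction_of_irr hφ
  have hres : (fun h : H => star H φ (h : G)) = φ := funext (fun h => star_coe hH φ hcf h)
  have h1 : classInner (star H φ) (fun _ : G => (1 : ℂ)) = classInner φ (fun _ : H => (1 : ℂ)) := by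
    rw [inner_star H φ _ (isClassFunction_of_irr isIrrCharacter_one), inner_one_one,
      inner_one_one]
    ring
  rw [inner_star H φ _ (isClassFunction_star H φ), hres, irr_inner_self hφ,
    ← classInner_conj_symm (star H φ) (fun _ : G => (1 : ℂ)), h1, classInner_conj_symm]
  ring

theorem exists_int_inner_star [Fintype G] (H : Subgroup G) [Fintype H] {φ : H → ℂ}
    (hφ : IsIrrCharacter H φ) {χ : G → ℂ} (hχ : IsIrrCharacter G χ) :
    ∃ z : ℤ, classInner (star H φ) χ = z := by
  obtain ⟨m, -, hm⟩ := irr_apply_one_pos hφ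
  obtain ⟨n1, h1⟩ := classInner_nat (isCharacter_of_irr hφ)
    (isCharacter_restrict H (isCharacter_of_irr hχ))
  obtain ⟨n2, h2⟩ := classInner_nat (isCharacter_one (G := H))
    (isCharacter_restrict H (isCharacter_of_irr hχ))
  obtain ⟨n3, h3⟩ := classInner_nat (isCharacter_one (G := G)) (isCharacter_of_irr hχ)
  refine ⟨(n1 : ℤ) - m * n2 + m * n3, ?_⟩
  rw [inner_star H φ χ (isClassFunction_of_irr hχ), h1, h2, h3, hm]
  push_cast
  ring

theorem one_le_mul_self_of_ne_zero (a : ℤ) (h : a ≠ 0) : 1 ≤ a * a := by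
  rcases Int.lt_or_gt_of_ne h with h | h <;> nlinarith

/-- the extension of an irreducible character of a Frobenius complement is irreducible -/
theorem isIrrCharacter_star [Fintype G] {H : Subgroup G} [Fintype H]
    (hH : IsFrobeniusComplement H) {φ : H → ℂ} (hφ : IsIrrCharacter H φ) :
    IsIrrCharacter G (star H φ) := by
  classical
  haveI : Finite (IrrCharacter G) := irr_finite
  haveI := Fintype.ofFinite (IrrCharacter G)
  have hcf := isClassFunction_star H φ
  have hz : ∀ χ : IrrCharacter G, ∃ z : ℤ, classInner (star H φ) χ.1 = z :=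
    fun χ => exists_int_inner_star H hφ χ.2
  choose z hz using hz
  have hexp' : star H φ = ∑ χ : IrrCharacter G, (z χ : ℂ) • (χ : G → ℂ) :=
    (classFunction_eq_sum (star H φ) hcf).trans
      (Finset.sum_congr rfl (fun χ _ => by rw [hz]))
  have hnormC : classInner (star H φ) (star H φ) =
      ∑ χ : IrrCharacter G, (z χ : ℂ) * (z χ : ℂ) := by
    have h1 : classInner (star H φ) (star H φ) =
        classInner (∑ χ : IrrCharacter G, (z χ : ℂ) • (χ : G → ℂ)) (star H φ) := by
      rw [← hexp']
    rw [h1, classInner_sum_left]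
    apply Finset.sum_congr rfl
    intro χ _
    rw [classInner_smul_left, ← classInner_conj_symm (star H φ) χ.1, hz, map_intCast]
  have hnorm : (∑ χ : IrrCharacter G, z χ * z χ) = 1 := by
    have h1 : ((∑ χ : IrrCharacter G, z χ * z χ : ℤ) : ℂ) = 1 := by
      push_cast
      rw [← hnormC, inner_star_self hH hφ]
    exact_mod_cast h1
  obtain ⟨χ0, hχ0⟩ : ∃ χ0, z χ0 ≠ 0 := by
    by_contra hall
    push Not at hall
    simp [hall] at hnorm
  have h2 := one_le_mul_self_of_ne_zero _ hχ0
  have hrest : ∀ χ, χ ≠ χ0 → z χ = 0 := by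
    intro χ hne
    by_contra hne0
    have h1 : z χ0 * z χ0 + z χ * z χ ≤ ∑ χ : IrrCharacter G, z χ * z χ := by
      have := Finset.sum_le_sum_of_subset_of_nonneg (s := {χ0, χ}) (t := Finset.univ)
        (f := fun χ => z χ * z χ) (Finset.subset_univ _) (fun i _ _ => mul_self_nonneg _)
      rwa [Finset.sum_pair hne.symm] at this
    have h3 := one_le_mul_self_of_ne_zero _ hne0
    linarith
  have hsingle : z χ0 * z χ0 = 1 := by
    rw [← hnorm]
    exact (Finset.sum_eq_single (f := fun χ => z χ * z χ) χ0
      (fun χ _ hne => by show z χ * z χ = 0; rw [hrest χ hne, mul_zero])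
      (fun h => absurd (Finset.mem_univ _) h)).symm
  have hstar : star H φ = (z χ0 : ℂ) • (χ0 : G → ℂ) := by
    rw [hexp']
    exact Finset.sum_eq_single (f := fun χ : IrrCharacter G => (z χ : ℂ) • (χ : G → ℂ)) χ0
      (fun χ _ hne => by show (z χ : ℂ) • (χ : G → ℂ) = 0; rw [hrest χ hne]; simp)
      (fun h => absurd (Finset.mem_univ _) h)
  rcases mul_self_eq_one_iff.mp hsingle with h1 | h1
  · rw [hstar, h1]
    simp only [Int.cast_one, one_smul]
    exact χ0.2
  · exfalso
    obtain ⟨m, hm0, hm⟩ := irr_apply_one_pos hφ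
    obtain ⟨d, hd0, hd⟩ := irr_apply_one_pos χ0.2
    have h3 := congrFun hstar 1
    rw [star_one, h1, hm] at h3
    simp only [Int.cast_neg, Int.cast_one, Pi.smul_apply, smul_eq_mul, neg_mul, one_mul] at h3
    rw [hd] at h3
    have h4 : ((m + d : ℕ) : ℂ) = 0 := by
      push_cast
      rw [h3]
      ring
    have h5 : m + d = 0 := by exact_mod_cast h4
    omega

/-- **Frobenius' theorem**: the Frobenius kernel is a normal subgroup complementing the
Frobenius complement. -/
theorem frobenius_kernel [Finite G] (H : Subgroup G) (hH : IsFrobeniusComplement H) :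
    ∃ N : Subgroup G, (N : Set G) = frobeniusKernel H ∧ N.Normal ∧
      Subgroup.IsComplement' N H := by
  classical
  haveI := Fintype.ofFinite G
  haveI : Fintype H := Fintype.ofFinite H
  haveI : Finite (IrrCharacter H) := irr_finite
  haveI := Fintype.ofFinite (IrrCharacter H)
  have hstar : ∀ φ : IrrCharacter H, IsIrrCharacter G (star H φ.1) :=
    fun φ => isIrrCharacter_star hH φ.2
  obtain ⟨K, hKdef⟩ : ∃ K : Subgroup G, K = ⨅ φ : IrrCharacter H,
      Cfsg.Agent.Lib_lead_CharQuot.charKer (isCharacter_of_irr (hstar φ)) := ⟨_, rfl⟩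
  have hKmem : ∀ g : G, g ∈ K ↔ ∀ φ : IrrCharacter H, star H φ.1 g = star H φ.1 1 := by
    intro g
    rw [hKdef]
    simp only [Subgroup.mem_iInf, Cfsg.Agent.Lib_lead_CharQuot.mem_charKer]
  haveI hKn : K.Normal := by
    rw [hKdef]
    exact Subgroup.normal_iInf_normal
      (fun φ => Cfsg.Agent.Lib_lead_CharQuot.charKer_normal _)
  have hKH : ∀ h : G, h ∈ K → h ∈ H → h = 1 := by
    intro h hK hh
    have h1 : ∀ φ : IrrCharacter H, φ.1 ⟨h, hh⟩ = φ.1 1 := by
      intro φ
      have h2 := (hKmem h).mp hK φ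
      rw [star_one] at h2
      rw [← h2]
      exact (star_coe hH φ.1 (isClassFunction_of_irr φ.2) ⟨h, hh⟩).symm
    have h2 := Cfsg.Agent.Lib_helper3_CharProd.regular_char (G := H) ⟨h, hh⟩
    have h3 := Cfsg.Agent.Lib_helper3_CharProd.regular_char (G := H) 1
    rw [if_pos rfl] at h3
    simp_rw [h1] at h2
    rw [h3] at h2
    by_contra hne
    rw [if_neg (fun e => hne (congrArg Subtype.val e))] at h2
    exact card_subgroup_ne_zero H h2
  have hset : (K : Set G) = frobeniusKernel H := by
    ext x
    constructor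
    · intro hx
      by_cases hx1 : x = 1
      · exact Or.inl hx1
      · right
        intro g hg
        rw [Cfsg.Agent.Lib_helper9_Frob.mem_conj_smul_iff] at hg
        have h1 : g⁻¹ * x * g ∈ K := by
          have := hKn.conj_mem x hx g⁻¹
          rwa [inv_inv] at this
        have h2 := hKH _ h1 hg
        apply hx1
        calc x = g * (g⁻¹ * x * g) * g⁻¹ := by group
          _ = 1 := by rw [h2]; group
    · rintro (hx | hx)
      · rw [hx]
        exact K.one_mem
      · show x ∈ K
        rw [hKmem]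
        intro φ
        rw [star_of_not_conj H φ.1 x hx, star_one]
  refine ⟨K, hset, hKn, ?_⟩
  apply Subgroup.isComplement'_of_card_mul_and_disjoint
  · rw [Cfsg.Agent.Lib_helper9_Frob.card_kernel_subgroup hH hset, mul_comm]
    exact Subgroup.card_mul_index H
  · rw [disjoint_iff, eq_bot_iff]
    intro x hx
    rw [Subgroup.mem_bot]
    exact hKH x hx.1 hx.2

end Cfsg.Agent.Lib_helper5_FrobKer
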