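import Mathlib

set_option autoImplicit false

namespace Cfsg.Agent.Lib_helper6_Count

/-- counting pairs by the first coordinate -/
theorem card_pairs_fst {A B : Type*} [Fintype A] [Finite B] (r : A → B → Prop) :
    Nat.card {p : A × B // r p.1 p.2} = ∑ a, Nat.card {b : B // r a b} := by
  rw [← Nat.card_sigma]
  exact Nat.card_congr
    { toFun := fun p => ⟨p.1.1, p.1.2, p.2⟩
      invFun := fun s => ⟨(s.1, s.2.1), s.2.2⟩
      left_inv := fun _ => rfl
      right_inv := fun _ => rfl }

/-- counting pairs by the second coordinate -/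
theorem card_pairs_snd {A B : Type*} [Finite A] [Fintype B] (r : A → B → Prop) :
    Nat.card {p : A × B // r p.1 p.2} = ∑ b, Nat.card {a : A // r a b} := by
  rw [← Nat.card_sigma]
  exact Nat.card_congr
    { toFun := fun p => ⟨p.1.2, p.1.1, p.2⟩
      invFun := fun s => ⟨(s.2.1, s.1), s.2.2⟩
      left_inv := fun _ => rfl
      right_inv := fun _ => rfl }

/-- the number of elements is the sum of the fibre sizes -/
theorem card_eq_sum_fiber {A B : Type*} [Finite A] [Fintype B] (f : A → B) :
    Nat.card A = ∑ b, Nat.card {a : A // f a = b} := by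
  rw [← Nat.card_sigma]
  exact Nat.card_congr (Equiv.sigmaFiberEquiv f).symm

end Cfsg.Agent.Lib_helper6_Count
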