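import Mathlib
import Cfsg.Agent.Lib_helper6_Count

set_option autoImplicit false

namespace Cfsg.Agent.Lib_helper6_FrobCount

theorem sum_indicator {A : Type*} [Fintype A] (P : A → Prop) [DecidablePred P] (m : ℕ) :
    ∑ a, (if P a then m else 0) = Nat.card {a // P a} * m := by
  rw [← Finset.sum_filter, Finset.sum_const, smul_eq_mul, Nat.card_eq_fintype_card,
    Fintype.card_subtype]

theorem card_ne_one_add_one {A : Type*} [Group A] [Finite A] :
    Nat.card {a : A // a ≠ 1} + 1 = Nat.card A := by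
  classical
  have e := Nat.card_congr (Equiv.optionSubtypeNe (1 : A))
  rw [Finite.card_option] at e
  exact e

/-- Frobenius counting: if `A` meets its conjugates by elements outside `A` trivially, then the
non-identity elements lying in conjugates of `A` number `|K| - [K : A]`. -/
theorem card_conj_union {K : Type*} [Group K] [Finite K] (A : Subgroup K)
    (hTI : ∀ u : K, u ∉ A → ∀ a ∈ A, u * a * u⁻¹ ∈ A → a = 1) :
    Nat.card {k : K // k ≠ 1 ∧ ∃ u : K, u⁻¹ * k * u ∈ A} + A.index = Nat.card K := by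
  classical
  let _ : Fintype K := Fintype.ofFinite K
  have hfst := Lib_helper6_Count.card_pairs_fst (fun u k : K => k ≠ 1 ∧ u⁻¹ * k * u ∈ A)
  have hsnd := Lib_helper6_Count.card_pairs_snd (fun u k : K => k ≠ 1 ∧ u⁻¹ * k * u ∈ A)
  have h1 : ∀ u : K, Nat.card {k : K // k ≠ 1 ∧ u⁻¹ * k * u ∈ A} = Nat.card {a : A // a ≠ 1} := by
    intro u
    refine Nat.card_congr
      { toFun := fun k => ⟨⟨u⁻¹ * k.1 * u, k.2.2⟩, ?_⟩
        invFun := fun a => ⟨u * (a.1 : K) * u⁻¹, ?_, ?_⟩
        left_inv := ?_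
        right_inv := ?_ }
    · intro h
      have h' : u⁻¹ * k.1 * u = 1 := congrArg Subtype.val h
      apply k.2.1
      calc k.1 = u * (u⁻¹ * k.1 * u) * u⁻¹ := by group
        _ = 1 := by rw [h']; group
    · intro h
      apply a.2
      apply Subtype.ext
      show (a.1 : K) = 1
      calc (a.1 : K) = u⁻¹ * (u * (a.1 : K) * u⁻¹) * u := by group
        _ = 1 := by rw [h]; group
    · have : u⁻¹ * (u * (a.1 : K) * u⁻¹) * u = (a.1 : K) := by group
      rw [this]; exact a.1.2
    · intro k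
      apply Subtype.ext
      show u * (u⁻¹ * k.1 * u) * u⁻¹ = k.1
      group
    · intro a
      apply Subtype.ext
      apply Subtype.ext
      show u⁻¹ * (u * (a.1 : K) * u⁻¹) * u = (a.1 : K)
      group
  have h2 : ∀ k : K, Nat.card {u : K // k ≠ 1 ∧ u⁻¹ * k * u ∈ A} =
      if (k ≠ 1 ∧ ∃ u : K, u⁻¹ * k * u ∈ A) then Nat.card A else 0 := by
    intro k
    split_ifs with hk
    · obtain ⟨hk1, u₀, hu₀⟩ := hk
      have ha₀ : u₀⁻¹ * k * u₀ ≠ 1 := by
        intro h
        apply hk1
        calc k = u₀ * (u₀⁻¹ * k * u₀) * u₀⁻¹ := by group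
          _ = 1 := by rw [h]; group
      refine Nat.card_congr
        { toFun := fun u => ⟨u₀⁻¹ * u.1, ?_⟩
          invFun := fun a => ⟨u₀ * (a : K), hk1, ?_⟩
          left_inv := ?_
          right_inv := ?_ }
      · by_contra hnot
        have hnot' : u.1⁻¹ * u₀ ∉ A := by
          intro h
          apply hnot
          have := A.inv_mem h
          simpa using this
        apply ha₀
        apply hTI (u.1⁻¹ * u₀) hnot' _ hu₀
        have : u.1⁻¹ * u₀ * (u₀⁻¹ * k * u₀) * (u.1⁻¹ * u₀)⁻¹ = u.1⁻¹ * k * u.1 := by group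
        rw [this]; exact u.2.2
      · have : (u₀ * (a : K))⁻¹ * k * (u₀ * (a : K)) = (a : K)⁻¹ * (u₀⁻¹ * k * u₀) * (a : K) := by
          group
        rw [this]
        exact A.mul_mem (A.mul_mem (A.inv_mem a.2) hu₀) a.2
      · intro u
        apply Subtype.ext
        show u₀ * (u₀⁻¹ * u.1) = u.1
        group
      · intro a
        apply Subtype.ext
        show u₀⁻¹ * (u₀ * (a : K)) = (a : K)
        group
    · have : IsEmpty {u : K // k ≠ 1 ∧ u⁻¹ * k * u ∈ A} := by
        constructor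
        rintro ⟨u, hu1, hu2⟩
        exact hk ⟨hu1, u, hu2⟩
      exact Nat.card_of_isEmpty
  rw [hfst, Finset.sum_congr rfl (fun u _ => h1 u), Finset.sum_const, Finset.card_univ,
    smul_eq_mul] at hsnd
  rw [Finset.sum_congr rfl (fun k _ => h2 k), sum_indicator] at hsnd
  rw [← Nat.card_eq_fintype_card] at hsnd
  have h3 := card_ne_one_add_one (A := A)
  have h4 := A.card_mul_index
  have h5 : (Nat.card {k : K // k ≠ 1 ∧ ∃ u : K, u⁻¹ * k * u ∈ A} + A.index) * Nat.card A =
      Nat.card K * Nat.card A := by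
    calc (Nat.card {k : K // k ≠ 1 ∧ ∃ u : K, u⁻¹ * k * u ∈ A} + A.index) * Nat.card A
        = Nat.card {k : K // k ≠ 1 ∧ ∃ u : K, u⁻¹ * k * u ∈ A} * Nat.card A +
            Nat.card A * A.index := by ring
      _ = Nat.card K * Nat.card {a : A // a ≠ 1} + Nat.card K := by rw [← hsnd, h4]
      _ = Nat.card K * (Nat.card {a : A // a ≠ 1} + 1) := by ring
      _ = Nat.card K * Nat.card A := by rw [h3]
  exact Nat.eq_of_mul_eq_mul_right Nat.card_pos h5

end Cfsg.Agent.Lib_helper6_FrobCount
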