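import Mathlib
import Cfsg.Agent.Lib_helper5_FrobKer
import Cfsg.Agent.Lib_helper6_FrobCount
import Cfsg.Agent.Lib_helper9_Frob

set_option autoImplicit false

namespace Cfsg.Agent.Lib_helper5_FrobFix

open MulAction Cfsg
open scoped Pointwise

/-- A nontrivial finite group acting so that each non-identity element has exactly one fixed
point has a global fixed point. -/
theorem exists_fixed_point {K Ω : Type*} [Group K] [Finite K] [MulAction K Ω]
    (hfix : ∀ k : K, k ≠ 1 → ∃! ω : Ω, k • ω = ω) (hK : ∃ k : K, k ≠ 1) :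
    ∃ ω : Ω, ∀ k : K, k • ω = ω := by
  classical
  haveI := Fintype.ofFinite K
  obtain ⟨k0, hk0⟩ := hK
  obtain ⟨ω0, hω0, -⟩ := hfix k0 hk0
  by_contra hno
  push Not at hno
  have hconj : ∀ (ω : Ω) (u a : K), (u⁻¹ * a * u) • ω = ω → a • (u • ω) = u • ω := by
    intro ω u a h
    rw [mul_smul, mul_smul] at h
    have h4 := congrArg (fun x => u • x) h
    simpa using h4
  have hTI : ∀ ω : Ω, ∀ u : K, u ∉ stabilizer K ω → ∀ a ∈ stabilizer K ω,
      u * a * u⁻¹ ∈ stabilizer K ω → a = 1 := by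
    intro ω u hu a ha hua
    by_contra ha1
    obtain ⟨ω', -, huniq⟩ := hfix a ha1
    have h1 : a • ω = ω := mem_stabilizer_iff.mp ha
    have h2 : a • (u⁻¹ • ω) = u⁻¹ • ω := by
      apply hconj
      rw [inv_inv]
      exact mem_stabilizer_iff.mp hua
    have h5 : u⁻¹ • ω = ω := (huniq _ h2).trans (huniq _ h1).symm
    apply hu
    rw [mem_stabilizer_iff]
    have h6 := congrArg (fun x => u • x) h5
    simpa using h6.symm
  have hidx : ∀ ω : Ω, ∀ a : K, a ≠ 1 → a • ω = ω →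
      2 * (stabilizer K ω).index ≤ Nat.card K := by
    intro ω a ha1 ha
    have h1 : 2 ≤ Nat.card (stabilizer K ω) := by
      have h0 : stabilizer K ω ≠ ⊥ := fun h => ha1 (by
        have h' : a ∈ stabilizer K ω := ha
        rwa [h, Subgroup.mem_bot] at h')
      have := (Subgroup.one_lt_card_iff_ne_bot _).mpr h0
      omega
    have h2 := Subgroup.card_mul_index (stabilizer K ω)
    nlinarith
  have hc0 := Cfsg.Agent.Lib_helper6_FrobCount.card_conj_union (stabilizer K ω0) (hTI ω0)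
  have hne1 := Cfsg.Agent.Lib_helper6_FrobCount.card_ne_one_add_one (A := K)
  obtain ⟨z, hz1, hz⟩ : ∃ z : K, z ≠ 1 ∧ ∀ u : K, u⁻¹ * z * u ∉ stabilizer K ω0 := by
    by_contra hall
    push Not at hall
    have h1 : Nat.card {k : K // k ≠ 1 ∧ ∃ u : K, u⁻¹ * k * u ∈ stabilizer K ω0} =
        Nat.card {k : K // k ≠ 1} :=
      Nat.card_congr (Equiv.subtypeEquivRight (fun k => ⟨fun h => h.1, fun h => ⟨h, hall k h⟩⟩))
    have h3 : (stabilizer K ω0).index = 1 := by omega
    rw [Subgroup.index_eq_one] at h3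
    obtain ⟨k, hk⟩ := hno ω0
    exact hk (mem_stabilizer_iff.mp (h3 ▸ Subgroup.mem_top k))
  obtain ⟨ω1, hω1, huniq1⟩ := hfix z hz1
  have hc1 := Cfsg.Agent.Lib_helper6_FrobCount.card_conj_union (stabilizer K ω1) (hTI ω1)
  have hi0 := hidx ω0 k0 hk0 hω0
  have hi1 := hidx ω1 z hz1 hω1
  have hdisj : ∀ k : K, k ≠ 1 → (∃ u : K, u⁻¹ * k * u ∈ stabilizer K ω0) →
      (∃ v : K, v⁻¹ * k * v ∈ stabilizer K ω1) → False := by
    rintro k hk1 ⟨u, hu⟩ ⟨v, hv⟩
    obtain ⟨ω', -, huniq⟩ := hfix k hk1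
    have h1 : k • (u • ω0) = u • ω0 := hconj ω0 u k (mem_stabilizer_iff.mp hu)
    have h2 : k • (v • ω1) = v • ω1 := hconj ω1 v k (mem_stabilizer_iff.mp hv)
    have h3 : u • ω0 = v • ω1 := (huniq _ h1).trans (huniq _ h2).symm
    have h4 : (v⁻¹ * u) • ω0 = ω1 := by
      rw [mul_smul, h3, inv_smul_smul]
    apply hz (v⁻¹ * u)
    rw [mem_stabilizer_iff, mul_smul, mul_smul, h4, hω1, ← h4, inv_smul_smul]
  have hcount : Nat.card {k : K // k ≠ 1 ∧ ∃ u : K, u⁻¹ * k * u ∈ stabilizer K ω0} +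
      Nat.card {k : K // k ≠ 1 ∧ ∃ u : K, u⁻¹ * k * u ∈ stabilizer K ω1} ≤
      Nat.card {k : K // k ≠ 1} := by
    rw [Nat.card_eq_fintype_card, Nat.card_eq_fintype_card, Nat.card_eq_fintype_card,
      Fintype.card_subtype, Fintype.card_subtype, Fintype.card_subtype,
      ← Finset.card_union_of_disjoint]
    · apply Finset.card_le_card
      intro k hk
      rw [Finset.mem_union, Finset.mem_filter, Finset.mem_filter] at hk
      rw [Finset.mem_filter]
      rcases hk with h | h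
      · exact ⟨Finset.mem_univ _, h.2.1⟩
      · exact ⟨Finset.mem_univ _, h.2.1⟩
    · rw [Finset.disjoint_left]
      intro k h1 h2
      rw [Finset.mem_filter] at h1 h2
      exact hdisj k h1.2.1 h1.2.2 h2.2.2
  omega

/-- A subgroup meeting the Frobenius kernel trivially lies in a conjugate of the complement. -/
theorem le_conj_of_inter_kernel {G : Type*} [Group G] [Finite G] {H : Subgroup G}
    (hH : IsFrobeniusComplement H) (L : Subgroup G)
    (hL : ∀ x ∈ L, x ∈ frobeniusKernel H → x = 1) : ∃ g : G, L ≤ MulAut.conj g • H := by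
  by_cases hL1 : L = ⊥
  · exact ⟨1, hL1 ▸ bot_le⟩
  have hex : ∃ k : L, k ≠ 1 := by
    by_contra h
    push Not at h
    apply hL1
    rw [eq_bot_iff]
    intro x hx
    rw [Subgroup.mem_bot]
    exact congrArg Subtype.val (h ⟨x, hx⟩)
  have hfix : ∀ k : L, k ≠ 1 → ∃! ω : G ⧸ H, k • ω = ω := by
    intro k hk
    have hk' : (k : G) ∉ frobeniusKernel H := fun h => hk (Subtype.ext (hL k k.2 h))
    obtain ⟨-, p, hp⟩ := Cfsg.Agent.Lib_helper9_Frob.not_mem_kernel_iff_fix.mp hk'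
    refine ⟨p, hp, ?_⟩
    intro q hq
    by_contra hne
    exact hk (Subtype.ext (Cfsg.Agent.Lib_helper9_Frob.eq_one_of_fix_two hH hne hq hp))
  obtain ⟨ω, hω⟩ := exists_fixed_point hfix hex
  induction ω using QuotientGroup.induction_on with
  | H g =>
    refine ⟨g, fun x hx => ?_⟩
    exact Cfsg.Agent.Lib_helper9_Frob.smul_mk_eq_iff.mp (hω ⟨x, hx⟩)

/-- A subgroup whose order divides that of a Frobenius complement lies in a conjugate of it. -/
theorem le_conj_of_card_dvd {G : Type*} [Group G] [Finite G] (H : Subgroup G)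
    (hH : IsFrobeniusComplement H) (L : Subgroup G) (hL : Nat.card L ∣ Nat.card H) :
    ∃ x : G, L ≤ MulAut.conj x • H := by
  obtain ⟨N, hN, hNn, -⟩ := Cfsg.Agent.Lib_helper5_FrobKer.frobenius_kernel H hH
  apply le_conj_of_inter_kernel hH L
  intro x hxL hxK
  have h1 : x ∈ N := by
    rw [← SetLike.mem_coe, hN]
    exact hxK
  have h2 := (Cfsg.Agent.Lib_helper9_Frob.mem_kernel_iff_pow hH hN x).mp h1
  have h3 : x ^ Nat.card H = 1 := by
    obtain ⟨c, hc⟩ := hL
    have h4 : x ^ Nat.card L = 1 := by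
      have h5 : (⟨x, hxL⟩ : L) ^ Nat.card L = 1 := pow_card_eq_one'
      exact congrArg Subtype.val h5
    rw [hc, pow_mul, h4, one_pow]
  have hcop := Cfsg.Agent.Lib_helper9_Frob.coprime_index_card hH
  have h4 := pow_gcd_eq_one.mpr ⟨h2, h3⟩
  rw [Nat.Coprime.gcd_eq_one hcop, pow_one] at h4
  exact h4

/-- Of two Frobenius complements, the smaller is conjugate into the larger. -/
theorem conj_le_of_card_le {G : Type*} [Group G] [Finite G] (H H₀ : Subgroup G)
    (hH : IsFrobeniusComplement H) (hH₀ : IsFrobeniusComplement H₀)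
    (hle : Nat.card H₀ ≤ Nat.card H) : ∃ g : G, MulAut.conj g • H₀ ≤ H := by
  obtain ⟨N, hN, hNn, hNc⟩ := Cfsg.Agent.Lib_helper5_FrobKer.frobenius_kernel H hH
  obtain ⟨N₀, hN₀, hN₀n, hN₀c⟩ := Cfsg.Agent.Lib_helper5_FrobKer.frobenius_kernel H₀ hH₀
  have hNN₀ : N ≤ N₀ := by
    rcases Cfsg.Agent.Lib_helper9_Frob.kernel_comparable hH₀ hN₀ N hNn with h | h
    · -- N₀ ≤ N and |N₀| ≥ |N|
      have hc1 := Cfsg.Agent.Lib_helper9_Frob.card_kernel_subgroup hH hN
      have hc2 := Cfsg.Agent.Lib_helper9_Frob.card_kernel_subgroup hH₀ hN₀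
      have h1 := Subgroup.card_mul_index H
      have h2 := Subgroup.card_mul_index H₀
      have h3 : Nat.card N ≤ Nat.card N₀ := by
        rw [hc1, hc2]
        have hpos : 0 < Nat.card H := Nat.card_pos
        by_contra hlt
        push Not at hlt
        have : Nat.card H₀ * H₀.index < Nat.card H * H.index :=
          Nat.mul_lt_mul_of_le_of_lt hle hlt hpos
        omega
      exact (Subgroup.eq_of_le_of_card_ge h h3).ge
    · exact h
  obtain ⟨x, hx⟩ := le_conj_of_inter_kernel hH H₀ (by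
    intro y hy hyK
    have h1 : y ∈ N₀ := hNN₀ (by rw [← SetLike.mem_coe, hN]; exact hyK)
    have h2 : y ∈ N₀ ⊓ H₀ := ⟨h1, hy⟩
    rw [hN₀c.disjoint.eq_bot, Subgroup.mem_bot] at h2
    exact h2)
  refine ⟨x⁻¹, ?_⟩
  intro y hy
  rw [Cfsg.Agent.Lib_helper9_Frob.mem_conj_smul_iff, inv_inv] at hy
  have h1 := hx hy
  rw [Cfsg.Agent.Lib_helper9_Frob.mem_conj_smul_iff] at h1
  have h2 : x⁻¹ * (x * y * x⁻¹) * x = y := by group
  rw [h2] at h1
  exact h1

end Cfsg.Agent.Lib_helper5_FrobFix
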