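import Cfsg.Prelude
import Cfsg.Agent.Lib_helper1_FrobAct
import Cfsg.Agent.Lib_helper1_Basic
import Cfsg.Agent.Lib_helper1_Hall
import Cfsg.Agent.Lib_helper1_SZConj
import Cfsg.Agent.Lib_helper1_SZ
import Cfsg.Agent.Lib_helper5_FrobKer
import Cfsg.Agent.Lib_helper5_FrobFix
import Cfsg.Agent.Lib_helper9_Frob

set_option autoImplicit false
open Cfsg

namespace Cfsg.Agent.Lib_helper1_FrobConj

open Cfsg.Agent.Lib_helper1_Basic
open scoped Pointwise

/-- a conjugate of a Frobenius complement is a Frobenius complement -/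
theorem conj_frob {G : Type*} [Group G] (H : Subgroup G) (hH : IsFrobeniusComplement H) (g : G) :
    IsFrobeniusComplement (MulAut.conj g • H) := by
  refine ⟨?_, ?_, ?_⟩
  · intro h
    apply hH.1
    rw [eq_bot_iff]
    intro x hx
    have h1 := conj_mem_conj_smul H g x hx
    rw [h, Subgroup.mem_bot] at h1
    rw [Subgroup.mem_bot]
    have h2 : x = g⁻¹ * (g * x * g⁻¹) * g := by group
    rw [h2, h1]; group
  · intro h
    apply hH.2.1
    rw [eq_top_iff]
    intro x _
    have h1 : g * x * g⁻¹ ∈ MulAut.conj g • H := by rw [h]; trivial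
    rw [mem_conj_smul] at h1
    have h2 : g⁻¹ * (g * x * g⁻¹) * g = x := by group
    rw [h2] at h1
    exact h1
  · intro x hx
    rw [eq_bot_iff]
    intro y hy
    obtain ⟨hy1, hy2⟩ := hy
    have hy1' : y ∈ MulAut.conj g • H := hy1
    have hy2' : y ∈ MulAut.conj x • MulAut.conj g • H := hy2
    rw [mem_conj_smul] at hy1'
    rw [mem_conj_smul, mem_conj_smul] at hy2'
    have hx' : g⁻¹ * x * g ∉ H := by
      intro h
      apply hx
      rw [mem_conj_smul]
      exact h
    have h1 := hH.2.2 _ hx'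
    have h2 : g⁻¹ * y * g ∈ H ⊓ MulAut.conj (g⁻¹ * x * g) • H := by
      refine ⟨hy1', ?_⟩
      show g⁻¹ * y * g ∈ MulAut.conj (g⁻¹ * x * g) • H
      rw [mem_conj_smul]
      have h3 : (g⁻¹ * x * g)⁻¹ * (g⁻¹ * y * g) * (g⁻¹ * x * g) = g⁻¹ * (x⁻¹ * y * x) * g := by
        group
      rw [h3]; exact hy2'
    rw [h1, Subgroup.mem_bot] at h2
    rw [Subgroup.mem_bot]
    have h4 : y = g * (g⁻¹ * y * g) * g⁻¹ := by group
    rw [h4, h2]; group

/-- The Frobenius kernel contains a nontrivial abelian subgroup normalized by the complement. -/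
theorem exists_invariant_abelian {G : Type*} [Group G] [Finite G] (H N : Subgroup G)
    (hH : IsFrobeniusComplement H) (hN : (N : Set G) = frobeniusKernel H) [hNn : N.Normal]
    (hNc : Subgroup.IsComplement' N H) :
    ∃ V : Subgroup G, V ≤ N ∧ V ≠ ⊥ ∧ H ≤ Subgroup.normalizer (V : Set G) ∧
      (∀ a ∈ V, ∀ b ∈ V, a * b = b * a) := by
  have hcardN : Nat.card N = H.index := Cfsg.Agent.Lib_helper9_Frob.card_kernel_subgroup hH hN
  have hcop : (Nat.card N).Coprime (Nat.card H) := by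
    rw [hcardN]; exact Cfsg.Agent.Lib_helper9_Frob.coprime_index_card hH
  have hNidx : N.index = Nat.card H := hNc.symm.index_eq_card
  have hN1 : Nat.card N ≠ 1 := by
    intro h
    rw [hcardN, Subgroup.index_eq_one] at h
    exact hH.2.1 h
  obtain ⟨p, hp, hpd⟩ := Nat.exists_prime_and_dvd hN1
  haveI : Fact p.Prime := ⟨hp⟩
  obtain ⟨P⟩ : Nonempty (Sylow p N) := inferInstance
  set Q : Subgroup G := (P : Subgroup N).map N.subtype with hQ
  have hfr : Subgroup.normalizer (Q : Set G) ⊔ N = ⊤ := Sylow.normalizer_sup_eq_top P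
  set L : Subgroup G := Subgroup.normalizer (Q : Set G) with hL
  haveI : (N.subgroupOf L).Normal := Subgroup.normal_subgroupOf
  have hidx : (N.subgroupOf L).index = Nat.card H := by
    show N.relIndex L = Nat.card H
    rw [← Subgroup.relIndex_sup_right, hfr, Subgroup.relIndex_top_right, hNidx]
  have hcop2 : (Nat.card (N.subgroupOf L)).Coprime (N.subgroupOf L).index := by
    rw [hidx]
    exact Nat.Coprime.coprime_dvd_left (Cfsg.Agent.Lib_helper1_SZConj.card_subgroupOf_dvd N L) hcop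
  obtain ⟨H₂', hH₂'⟩ := Subgroup.exists_right_complement'_of_coprime hcop2
  set H₂ : Subgroup G := H₂'.map L.subtype with hH₂
  have hcardH₂ : Nat.card H₂ = Nat.card H := by
    rw [hH₂, Subgroup.card_map_of_injective L.subtype_injective, ← hH₂'.symm.index_eq_card, hidx]
  have hH₂L : H₂ ≤ L := by
    rw [hH₂]
    exact Subgroup.map_subtype_le H₂'
  obtain ⟨x, hx⟩ := Cfsg.Agent.Lib_helper5_FrobFix.le_conj_of_card_dvd H hH H₂ (by rw [hcardH₂])
  have hxeq : H₂ = MulAut.conj x • H :=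
    Subgroup.eq_of_le_of_card_ge hx (by
      rw [Cfsg.Agent.Lib_helper1_Hall.card_conj_smul, hcardH₂])
  -- Q' := x⁻¹ Q x is normalized by H
  set Q' : Subgroup G := MulAut.conj x⁻¹ • Q with hQ'
  have hQN : Q ≤ N := by
    rw [hQ]
    exact Subgroup.map_subtype_le _
  have hQ'N : Q' ≤ N := by
    intro y hy
    rw [hQ', mem_conj_smul] at hy
    have h1 := hNn.conj_mem _ (hQN hy) x⁻¹
    have h2 : x⁻¹ * (x⁻¹⁻¹ * y * x⁻¹) * x⁻¹⁻¹ = y := by group
    rw [h2] at h1
    exact h1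
  have hHQ' : ∀ h ∈ H, ∀ y ∈ Q', h * y * h⁻¹ ∈ Q' := by
    intro h hh y hy
    rw [hQ', mem_conj_smul] at hy ⊢
    have h1 : x * h * x⁻¹ ∈ L := by
      apply hH₂L
      rw [hxeq]
      exact conj_mem_conj_smul H x h hh
    have h2 := (Subgroup.mem_normalizer_iff.mp h1 _).mp hy
    have h3 : x * h * x⁻¹ * (x⁻¹⁻¹ * y * x⁻¹) * (x * h * x⁻¹)⁻¹ = x⁻¹⁻¹ * (h * y * h⁻¹) * x⁻¹ := by
      group
    rw [h3] at h2
    exact h2
  have hQ'p : IsPGroup p Q' := by
    have h1 : IsPGroup p Q := by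
      rw [hQ]
      exact P.isPGroup'.map _
    rw [hQ', Cfsg.Agent.Lib_helper1_SZ.conj_smul_eq_map]
    exact h1.map _
  have hQ'1 : Q' ≠ ⊥ := by
    intro h
    have h1 : Nat.card Q' = 1 := by rw [h]; exact Subgroup.card_bot
    rw [hQ', Cfsg.Agent.Lib_helper1_Hall.card_conj_smul, hQ,
      Subgroup.card_map_of_injective N.subtype_injective] at h1
    have h2 : (P : Subgroup N) = ⊥ := Subgroup.card_eq_one.mp h1
    exact P.ne_bot_of_dvd_card hpd h2
  haveI : Nontrivial Q' := (Subgroup.nontrivial_iff_ne_bot Q').mpr hQ'1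
  have hcen : ⊥ < Subgroup.center Q' := hQ'p.bot_lt_center
  refine ⟨(Subgroup.center Q').map Q'.subtype, ?_, ?_, ?_, ?_⟩
  · exact (Subgroup.map_subtype_le _).trans hQ'N
  · intro h
    rw [Subgroup.map_eq_bot_iff_of_injective _ Q'.subtype_injective] at h
    exact hcen.ne' h
  · intro h hh
    apply mem_normalizer_of_conj_le
    rintro _ ⟨z, hz, rfl⟩
    have hz' : z ∈ Subgroup.center Q' := hz
    rw [Subgroup.mem_center_iff] at hz'
    have hgoal : (⟨h * z * h⁻¹, hHQ' h hh z z.2⟩ : Q') ∈ Subgroup.center Q' := by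
      rw [Subgroup.mem_center_iff]
      intro w
      have hw : h⁻¹ * (w : G) * h ∈ Q' := by
        have h1 := hHQ' h⁻¹ (H.inv_mem hh) w w.2
        rw [inv_inv] at h1
        exact h1
      have h1 := congrArg Subtype.val (hz' ⟨_, hw⟩)
      apply Subtype.ext
      show (w : G) * (h * z * h⁻¹) = h * z * h⁻¹ * w
      have h2 : h⁻¹ * (w : G) * h * z = z * (h⁻¹ * (w : G) * h) := h1
      calc (w : G) * (h * z * h⁻¹) = h * (h⁻¹ * (w : G) * h * z) * h⁻¹ := by group
        _ = h * (z * (h⁻¹ * (w : G) * h)) * h⁻¹ := by rw [h2]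
        _ = h * z * h⁻¹ * w := by group
    exact ⟨⟨h * z * h⁻¹, hHQ' h hh z z.2⟩, hgoal, rfl⟩
  · rintro _ ⟨a, ha, rfl⟩ _ ⟨b, hb, rfl⟩
    have ha' : a ∈ Subgroup.center Q' := ha
    rw [Subgroup.mem_center_iff] at ha'
    exact (congrArg Subtype.val (ha' b)).symm

/-- A Frobenius complement contained in another one equals it. -/
theorem eq_of_le {G : Type*} [Group G] [Finite G] (H H₁ : Subgroup G)
    (hH : IsFrobeniusComplement H) (hH₁ : IsFrobeniusComplement H₁) (hle : H₁ ≤ H) : H₁ = H := by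
  by_contra hne
  obtain ⟨N, hN, hNn, hNc⟩ := Cfsg.Agent.Lib_helper5_FrobKer.frobenius_kernel H hH
  obtain ⟨N₁, hN₁, hN₁n, hN₁c⟩ := Cfsg.Agent.Lib_helper5_FrobKer.frobenius_kernel H₁ hH₁
  haveI := hNn
  haveI := hN₁n
  obtain ⟨V, hVN, hV1, hHV, hVab⟩ := exists_invariant_abelian H N hH hN hNc
  letI : CommGroup ↥V :=
    { (inferInstance : Group ↥V) with
      mul_comm := fun a b => Subtype.ext (hVab a a.2 b b.2) }
  have hcardN : Nat.card N = H.index := Cfsg.Agent.Lib_helper9_Frob.card_kernel_subgroup hH hN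
  have hcop : (Nat.card N).Coprime (Nat.card H) := by
    rw [hcardN]; exact Cfsg.Agent.Lib_helper9_Frob.coprime_index_card hH
  -- a nontrivial element of H ∩ N₁
  obtain ⟨h, hhH, hhH₁⟩ := SetLike.exists_of_lt (lt_of_le_of_ne hle hne)
  have hsup : N₁ ⊔ H₁ = ⊤ := hN₁c.sup_eq_top
  obtain ⟨n, hn, h₁, hh₁, hnh⟩ := exists_mul_of_sup_eq_top N₁ H₁ hsup h
  have hnH : n ∈ H := by
    have h1 : n = h * h₁⁻¹ := by rw [hnh]; group
    rw [h1]
    exact H.mul_mem hhH (H.inv_mem (hle hh₁))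
  have hn1 : n ≠ 1 := by
    intro h1
    apply hhH₁
    rw [hnh, h1, one_mul]
    exact hh₁
  -- a nontrivial element of H₁
  have hex : ∃ t ∈ H₁, t ≠ 1 := by
    by_contra hcon
    push Not at hcon
    apply hH₁.1
    rw [eq_bot_iff]
    intro t ht
    rw [Subgroup.mem_bot]
    exact hcon t ht
  obtain ⟨t, htH₁, ht1⟩ := hex
  haveI : (N₁.subgroupOf H).Normal := Subgroup.normal_subgroupOf
  have key := Cfsg.Agent.Lib_helper1_FrobAct.frob_fixed
    (Cfsg.Agent.Lib_helper1_FrobAct.conjAct V H hHV) (H₁.subgroupOf H) (N₁.subgroupOf H)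
    ?_ ?_ ?_ ?_ ?_
  · apply hV1
    rw [eq_bot_iff]
    intro v hv
    rw [Subgroup.mem_bot]
    exact congrArg Subtype.val (key ⟨v, hv⟩)
  · rw [eq_bot_iff]
    intro y hy
    obtain ⟨hy1, hy2⟩ := hy
    have hy1' : (y : G) ∈ N₁ := hy1
    have hy2' : (y : G) ∈ H₁ := hy2
    have h1 : (y : G) ∈ N₁ ⊓ H₁ := ⟨hy1', hy2'⟩
    rw [hN₁c.disjoint.eq_bot, Subgroup.mem_bot] at h1
    rw [Subgroup.mem_bot]
    exact Subtype.ext h1
  · intro g hg
    rw [eq_bot_iff]
    intro y hy
    obtain ⟨hy1, hy2⟩ := hy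
    have hy1' : (y : G) ∈ H₁ := hy1
    have hy2' : y ∈ MulAut.conj g • H₁.subgroupOf H := hy2
    rw [mem_conj_smul] at hy2'
    have hy2'' : (g : G)⁻¹ * (y : G) * (g : G) ∈ H₁ := hy2'
    have hg' : (g : G) ∉ H₁ := hg
    have h1 : (y : G) ∈ H₁ ⊓ MulAut.conj (g : G) • H₁ := by
      refine ⟨hy1', ?_⟩
      show (y : G) ∈ MulAut.conj (g : G) • H₁
      rw [mem_conj_smul]
      exact hy2''
    rw [hH₁.2.2 _ hg', Subgroup.mem_bot] at h1
    rw [Subgroup.mem_bot]
    exact Subtype.ext h1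
  · have h1 : Nat.card V ∣ Nat.card N := Subgroup.card_dvd_of_le hVN
    have h2 : Nat.card (N₁.subgroupOf H) ∣ Nat.card H := Subgroup.card_subgroup_dvd_card _
    exact Nat.Coprime.coprime_dvd_left h1 (Nat.Coprime.coprime_dvd_right h2 hcop)
  · intro v hv
    have h1 := congrArg Subtype.val (hv ⟨n, hnH⟩ hn)
    rw [Cfsg.Agent.Lib_helper1_FrobAct.conjAct_apply] at h1
    have h2 : (v : G) ∈ frobeniusKernel H := by rw [← hN]; exact hVN v.2
    have h3 : (v : G) * n = n * v := by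
      have h4 : n * (v : G) * n⁻¹ = v := h1
      calc (v : G) * n = n * (v : G) * n⁻¹ * n := by rw [h4]
        _ = n * v := by group
    exact Subtype.ext (Cfsg.Agent.Lib_helper9_Frob.centralizer_kernel hH hnH hn1 h2 h3)
  · intro v hv
    have h1 := congrArg Subtype.val (hv ⟨t, hle htH₁⟩ htH₁)
    rw [Cfsg.Agent.Lib_helper1_FrobAct.conjAct_apply] at h1
    have h2 : (v : G) ∈ frobeniusKernel H := by rw [← hN]; exact hVN v.2
    have h3 : (v : G) * t = t * v := by
      have h4 : t * (v : G) * t⁻¹ = v := h1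
      calc (v : G) * t = t * (v : G) * t⁻¹ * t := by rw [h4]
        _ = t * v := by group
    exact Subtype.ext (Cfsg.Agent.Lib_helper9_Frob.centralizer_kernel hH (hle htH₁) ht1 h2 h3)

/-- A complement of a nontrivial normal subgroup acting fixed-point-freely on it is a Frobenius
complement, with that normal subgroup as kernel. -/
theorem frob_of_fpf {G : Type*} [Group G] [Finite G] (K H : Subgroup G) [hKn : K.Normal]
    (hc : Subgroup.IsComplement' K H) (hK : K ≠ ⊥) (hH : H ≠ ⊥)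
    (hfpf : ∀ h ∈ H, h ≠ 1 → K ⊓ Subgroup.centralizer {h} = ⊥) :
    IsFrobeniusComplement H ∧ (K : Set G) = frobeniusKernel H := by
  have hdisj : K ⊓ H = ⊥ := hc.disjoint.eq_bot
  have hF : IsFrobeniusComplement H := by
    refine ⟨hH, ?_, ?_⟩
    · intro h
      apply hK
      rw [← hdisj, h, inf_top_eq]
    · intro g hg
      obtain ⟨k, hk, h, hh, rfl⟩ := exists_mul_of_sup_eq_top K H hc.sup_eq_top g
      have hk1 : k ≠ 1 := by
        intro h1
        apply hg
        rw [h1, one_mul]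
        exact hh
      rw [eq_bot_iff]
      intro y hy
      obtain ⟨hy1, hy2⟩ := hy
      have hy1' : y ∈ H := hy1
      have hy2' : y ∈ MulAut.conj (k * h) • H := hy2
      rw [mem_conj_smul] at hy2'
      rw [Subgroup.mem_bot]
      by_contra hy0
      have h1 : k⁻¹ * y * k ∈ H := by
        have h2 := H.mul_mem (H.mul_mem hh hy2') (H.inv_mem hh)
        have h3 : h * ((k * h)⁻¹ * y * (k * h)) * h⁻¹ = k⁻¹ * y * k := by group
        rw [h3] at h2
        exact h2
      have h2 : y⁻¹ * (k⁻¹ * y * k) ∈ K ⊓ H := by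
        refine ⟨?_, H.mul_mem (H.inv_mem hy1') h1⟩
        have h3 : y⁻¹ * (k⁻¹ * y * k) = (y⁻¹ * k⁻¹ * y⁻¹⁻¹) * k := by group
        have h4 : y⁻¹ * (k⁻¹ * y * k) ∈ K := by
          rw [h3]
          exact K.mul_mem (hKn.conj_mem _ (K.inv_mem hk) _) hk
        exact h4
      rw [hdisj, Subgroup.mem_bot] at h2
      have hcz : k ∈ Subgroup.centralizer {y} := by
        rw [Subgroup.mem_centralizer_iff]
        intro z hz
        rw [Set.mem_singleton_iff] at hz
        rw [hz]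
        have h3 : k⁻¹ * y * k = y := by
          calc k⁻¹ * y * k = y * (y⁻¹ * (k⁻¹ * y * k)) := by group
            _ = y := by rw [h2, mul_one]
        calc y * k = k * (k⁻¹ * y * k) := by group
          _ = k * y := by rw [h3]
      have h3 : k ∈ K ⊓ Subgroup.centralizer {y} := ⟨hk, hcz⟩
      rw [hfpf y hy1' hy0, Subgroup.mem_bot] at h3
      exact hk1 h3
  refine ⟨hF, ?_⟩
  obtain ⟨N, hN, hNn, hNc⟩ := Cfsg.Agent.Lib_helper5_FrobKer.frobenius_kernel H hF
  have hKN : K ≤ N := by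
    intro k hk
    rw [← SetLike.mem_coe, hN]
    by_cases hk1 : k = 1
    · exact Or.inl hk1
    · refine Or.inr ?_
      intro g hg
      rw [mem_conj_smul] at hg
      have h1 : g⁻¹ * k * g ∈ K ⊓ H := by
        refine ⟨?_, hg⟩
        have h2 := hKn.conj_mem k hk g⁻¹
        rw [inv_inv] at h2
        exact h2
      rw [hdisj, Subgroup.mem_bot] at h1
      apply hk1
      have h2 : k = g * (g⁻¹ * k * g) * g⁻¹ := by group
      rw [h2, h1]; group
  have hcard : Nat.card N ≤ Nat.card K := by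
    rw [← hNc.index_eq_card, ← hc.index_eq_card]
  rw [← hN, Subgroup.eq_of_le_of_card_ge hKN hcard]

end Cfsg.Agent.Lib_helper1_FrobConj
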