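import Mathlib
import Cfsg.Agent.Lib_helper1_PGroup
import Cfsg.Agent.Lib_helper5_Fitting

set_option autoImplicit false

namespace Cfsg.Agent.Lib_helper5_Omega

open Cfsg

theorem conj_pow_mul {G : Type*} [Group G] (a x y : G) (hy : a * x * a⁻¹ = y * x)
    (hc : a * y = y * a) : ∀ k : ℕ, a ^ k * x * (a ^ k)⁻¹ = y ^ k * x := by
  intro k
  induction k with
  | zero => simp
  | succ k ih =>
    have e : a ^ (k + 1) * x * (a ^ (k + 1))⁻¹ = a * (a ^ k * x * (a ^ k)⁻¹) * a⁻¹ := by
      rw [pow_succ']; group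
    have hc' : a * y ^ k = y ^ k * a := (Commute.pow_right (show Commute a y from hc) k).eq
    rw [e, ih, pow_succ]
    calc a * (y ^ k * x) * a⁻¹ = (a * y ^ k) * x * a⁻¹ := by group
      _ = y ^ k * (a * x * a⁻¹) := by rw [hc']; group
      _ = y ^ k * y * x := by rw [hy]; group

/-- class two: `x ^ n * y = [x,y] ^ n * y * x ^ n` -/
theorem class_two_pow_mul {G : Type*} [Group G] (x y c : G) (hc : c = x * y * x⁻¹ * y⁻¹)
    (hcx : c * x = x * c) : ∀ n : ℕ, x ^ n * y = c ^ n * y * x ^ n := by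
  intro n
  induction n with
  | zero => simp
  | succ n ih =>
    have hxy : x * y = c * y * x := by rw [hc]; group
    have hcn : x * c ^ n = c ^ n * x :=
      (Commute.pow_right (show Commute x c from hcx.symm) n).eq
    calc x ^ (n + 1) * y = x * (x ^ n * y) := by rw [pow_succ']; group
      _ = x * (c ^ n * y * x ^ n) := by rw [ih]
      _ = (x * c ^ n) * y * x ^ n := by group
      _ = c ^ n * (x * y) * x ^ n := by rw [hcn]; group
      _ = c ^ n * (c * y * x) * x ^ n := by rw [hxy]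
      _ = c ^ (n + 1) * y * x ^ (n + 1) := by rw [pow_succ, pow_succ']; group

/-- class two: `(y x) ^ n = y ^ n x ^ n [x,y] ^ (n choose 2)` -/
theorem class_two_mul_pow {G : Type*} [Group G] (x y c : G) (hc : c = x * y * x⁻¹ * y⁻¹)
    (hcx : c * x = x * c) (hcy : c * y = y * c) :
    ∀ n : ℕ, (y * x) ^ n = y ^ n * x ^ n * c ^ (∑ i ∈ Finset.range n, i) := by
  intro n
  induction n with
  | zero => simp
  | succ n ih =>
    have hCx : Commute c x := hcx
    have hCy : Commute c y := hcy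
    have h1 := class_two_pow_mul x y c hc hcx n
    have hTy : c ^ (∑ i ∈ Finset.range n, i) * y = y * c ^ (∑ i ∈ Finset.range n, i) :=
      (hCy.pow_left _).eq
    have hTx : c ^ (∑ i ∈ Finset.range n, i) * x = x * c ^ (∑ i ∈ Finset.range n, i) :=
      (hCx.pow_left _).eq
    have hny : y ^ n * c ^ n = c ^ n * y ^ n := ((hCy.pow_left n).pow_right n).eq.symm
    have hcc : Commute (c ^ n) (y ^ (n + 1) * x ^ (n + 1) * c ^ (∑ i ∈ Finset.range n, i)) := by
      apply Commute.pow_left
      exact ((hCy.pow_right _).mul_right (hCx.pow_right _)).mul_right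
        ((Commute.refl c).pow_right _)
    calc (y * x) ^ (n + 1) = (y * x) ^ n * (y * x) := pow_succ _ _
      _ = y ^ n * x ^ n * c ^ (∑ i ∈ Finset.range n, i) * (y * x) := by rw [ih]
      _ = y ^ n * x ^ n * (c ^ (∑ i ∈ Finset.range n, i) * y) * x := by group
      _ = y ^ n * x ^ n * (y * c ^ (∑ i ∈ Finset.range n, i)) * x := by rw [hTy]
      _ = y ^ n * (x ^ n * y) * (c ^ (∑ i ∈ Finset.range n, i) * x) := by group
      _ = y ^ n * (c ^ n * y * x ^ n) * (x * c ^ (∑ i ∈ Finset.range n, i)) := by rw [h1, hTx]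
      _ = (y ^ n * c ^ n) * y * x ^ n * x * c ^ (∑ i ∈ Finset.range n, i) := by group
      _ = (c ^ n * y ^ n) * y * x ^ n * x * c ^ (∑ i ∈ Finset.range n, i) := by rw [hny]
      _ = c ^ n * (y ^ (n + 1) * x ^ (n + 1) * c ^ (∑ i ∈ Finset.range n, i)) := by
        rw [pow_succ y, pow_succ x]; group
      _ = (y ^ (n + 1) * x ^ (n + 1) * c ^ (∑ i ∈ Finset.range n, i)) * c ^ n := hcc.eq
      _ = y ^ (n + 1) * x ^ (n + 1) * c ^ (∑ i ∈ Finset.range (n + 1), i) := by
        rw [Finset.sum_range_succ, pow_add]; group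

theorem mem_normalizer_closure {G : Type*} [Group G] [Finite G] (g : G) (S : Set G)
    (h : ∀ z ∈ S, g * z * g⁻¹ ∈ S) :
    g ∈ Subgroup.normalizer ((Subgroup.closure S : Subgroup G) : Set G) := by
  apply Subgroup.mem_normalizer_fintype
  have hle : Subgroup.closure S ≤ (Subgroup.closure S).comap (MulAut.conj g).toMonoidHom := by
    rw [Subgroup.closure_le]
    intro z hz
    show (MulAut.conj g) z ∈ Subgroup.closure S
    rw [MulAut.conj_apply]
    exact Subgroup.subset_closure (h z hz)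
  intro s hs
  exact hle hs

/-- generators of (a subgroup of) the Frattini subgroup of the `p`-group `Q` -/
def phiSet {G : Type*} [Group G] (p : ℕ) (Q : Subgroup G) : Set G :=
  {z | (∃ x ∈ Q, z = x ^ p) ∨ (∃ x ∈ Q, ∃ y ∈ Q, z = x * y * x⁻¹ * y⁻¹)}

/-- the commutators `[g, x]`, `x ∈ Q` -/
def commSet {G : Type*} [Group G] (g : G) (Q : Subgroup G) : Set G :=
  {z | ∃ x ∈ Q, z = g * x * g⁻¹ * x⁻¹}

/-- For odd `p`: a `p'`-element normalizing the `p`-group `Q` and centralizing all elements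
of order dividing `p` of `Q` centralizes `Q`. -/
theorem omega_cent {G : Type*} [Group G] [Finite G] (p : ℕ) [hp : Fact p.Prime] (hp2 : p ≠ 2)
    (g : G) (hg : (orderOf g).Coprime p) :
    ∀ (n : ℕ) (Q : Subgroup G), Nat.card Q = n → IsPGroup p Q →
      g ∈ Subgroup.normalizer (Q : Set G) → (∀ y ∈ Q, y ^ p = 1 → g * y = y * g) →
      g ∈ Subgroup.centralizer (Q : Set G) := by
  intro n
  induction n using Nat.strong_induction_on with
  | _ n ih =>
    intro Q hn hQ hgQ hom
    have hgQ' : ∀ x ∈ Q, g * x * g⁻¹ ∈ Q := fun x hx =>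
      (Subgroup.mem_normalizer_iff.mp hgQ x).mp hx
    have hpel : ∀ y ∈ Q, ∃ j : ℕ, orderOf y = p ^ j := by
      intro y hy
      obtain ⟨k, hk⟩ := hQ ⟨y, hy⟩
      have h1 : y ^ p ^ k = 1 := congrArg Subtype.val hk
      obtain ⟨j, -, hj⟩ := (Nat.dvd_prime_pow hp.out).mp (orderOf_dvd_of_pow_eq_one h1)
      exact ⟨j, hj⟩
    have hfin : ∀ x ∈ Q, g * (g * x * g⁻¹ * x⁻¹) = (g * x * g⁻¹ * x⁻¹) * g →
        g * x = x * g := by
      intro x hx hc
      have hyQ : g * x * g⁻¹ * x⁻¹ ∈ Q := Q.mul_mem (hgQ' x hx) (Q.inv_mem hx)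
      have hyx : g * x * g⁻¹ = (g * x * g⁻¹ * x⁻¹) * x := by group
      have h4 := conj_pow_mul g x _ hyx hc (orderOf g)
      rw [pow_orderOf_eq_one] at h4
      simp only [one_mul, inv_one, mul_one] at h4
      have h5 : (g * x * g⁻¹ * x⁻¹) ^ orderOf g = 1 := by
        have : (g * x * g⁻¹ * x⁻¹) ^ orderOf g * x = 1 * x := by rw [one_mul]; exact h4.symm
        exact mul_right_cancel this
      obtain ⟨j, hj⟩ := hpel _ hyQ
      have h6 : (g * x * g⁻¹ * x⁻¹) ^ p ^ j = 1 := by rw [← hj]; exact pow_orderOf_eq_one _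
      have h7 := pow_gcd_eq_one.mpr ⟨h5, h6⟩
      rw [Nat.Coprime.gcd_eq_one (Nat.Coprime.pow_right j hg), pow_one] at h7
      have h8 : g * x * g⁻¹ = x := by rw [hyx, h7, one_mul]
      calc g * x = (g * x * g⁻¹) * g := by group
        _ = x * g := by rw [h8]
    rw [Subgroup.mem_centralizer_iff]
    intro x hx
    symm
    apply hfin x hx
    rcases eq_top_or_exists_le_coatom (⊥ : Subgroup ↥Q) with hbt | ⟨M, hM, -⟩
    · have h1 : (⟨x, hx⟩ : ↥Q) ∈ (⊥ : Subgroup ↥Q) := by rw [hbt]; trivial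
      rw [Subgroup.mem_bot] at h1
      have h2 : x = 1 := congrArg Subtype.val h1
      rw [h2]; simp
    · have hQ' : IsPGroup p ↥Q := hQ
      have hΦM : Subgroup.closure (phiSet p Q) ≤ M.map Q.subtype := by
        rw [Subgroup.closure_le]
        rintro z (⟨x, hx, rfl⟩ | ⟨x, hx, y, hy, rfl⟩)
        · exact ⟨⟨x, hx⟩ ^ p,
            Cfsg.Agent.Lib_helper1_PGroup.pow_p_mem_coatom hQ' M hM ⟨x, hx⟩, rfl⟩
        · refine ⟨⟨x, hx⟩ * ⟨y, hy⟩ * ⟨x, hx⟩⁻¹ * ⟨y, hy⟩⁻¹, ?_, rfl⟩
          apply Cfsg.Agent.Lib_helper1_PGroup.commutator_le_coatom hQ' M hM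
          rw [commutator_def]
          exact Subgroup.commutator_mem_commutator (Subgroup.mem_top _) (Subgroup.mem_top _)
      have hΦQ : Subgroup.closure (phiSet p Q) ≤ Q := hΦM.trans (Subgroup.map_subtype_le M)
      have hΦcard : Nat.card (Subgroup.closure (phiSet p Q)) < n := by
        have h1 := Subgroup.card_le_of_le hΦM
        rw [Subgroup.card_map_of_injective Q.subtype_injective] at h1
        have h2 := Cfsg.Agent.Lib_helper5_Fitting.card_lt_of_lt_top (lt_top_iff_ne_top.mpr hM.1)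
        omega
      have hgΦ : g ∈ Subgroup.normalizer
          ((Subgroup.closure (phiSet p Q) : Subgroup G) : Set G) := by
        apply mem_normalizer_closure
        rintro z (⟨x, hx, rfl⟩ | ⟨x, hx, y, hy, rfl⟩)
        · left; exact ⟨g * x * g⁻¹, hgQ' x hx, by rw [conj_pow]⟩
        · right; exact ⟨g * x * g⁻¹, hgQ' x hx, g * y * g⁻¹, hgQ' y hy, by group⟩
      have hΦcent := ih _ hΦcard _ rfl (hQ.to_le hΦQ) hgΦ
        (fun y hy hyp => hom y (hΦQ hy) hyp)
      rw [Subgroup.mem_centralizer_iff] at hΦcent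
      have hRQ : Subgroup.closure (commSet g Q) ≤ Q := by
        rw [Subgroup.closure_le]
        rintro z ⟨x, hx, rfl⟩
        exact Q.mul_mem (hgQ' x hx) (Q.inv_mem hx)
      by_cases hR : Subgroup.closure (commSet g Q) = Q
      · have hΦZ : ∀ φ ∈ Subgroup.closure (phiSet p Q), ∀ r ∈ Q, φ * r = r * φ := by
          intro φ hφ r hr
          have hle : Subgroup.closure (commSet g Q) ≤ Subgroup.centralizer {φ} := by
            rw [Subgroup.closure_le]
            rintro z ⟨x, hx, rfl⟩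
            show _ ∈ Subgroup.centralizer {φ}
            rw [Subgroup.mem_centralizer_iff]
            intro h hh
            rw [Set.mem_singleton_iff] at hh
            subst hh
            have h1 : x⁻¹ * h * x ∈ Subgroup.closure (phiSet p Q) := by
              have e : x⁻¹ * h * x = (x⁻¹ * h * x⁻¹⁻¹ * h⁻¹) * h := by group
              rw [e]
              exact Subgroup.mul_mem _ (Subgroup.subset_closure
                (Or.inr ⟨x⁻¹, Q.inv_mem hx, h, hΦQ hφ, rfl⟩)) hφ
            have h2 := hΦcent _ h1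
            have h3 := hΦcent _ hφ
            symm
            calc (g * x * g⁻¹ * x⁻¹) * h
                = g * x * g⁻¹ * ((x⁻¹ * h * x) * g) * g⁻¹ * x⁻¹ := by group
              _ = g * x * g⁻¹ * (g * (x⁻¹ * h * x)) * g⁻¹ * x⁻¹ := by rw [h2]
              _ = (g * h) * x * g⁻¹ * x⁻¹ := by group
              _ = (h * g) * x * g⁻¹ * x⁻¹ := by rw [h3]
              _ = h * (g * x * g⁻¹ * x⁻¹) := by group
          rw [hR] at hle
          have h4 := hle hr
          rw [Subgroup.mem_centralizer_iff] at h4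
          exact h4 φ rfl
        have hu : g * x * g⁻¹ ∈ Q := hgQ' x hx
        have hv : x⁻¹ ∈ Q := Q.inv_mem hx
        have hcΦ : x⁻¹ * (g * x * g⁻¹) * x⁻¹⁻¹ * (g * x * g⁻¹)⁻¹ ∈
            Subgroup.closure (phiSet p Q) :=
          Subgroup.subset_closure (Or.inr ⟨x⁻¹, hv, g * x * g⁻¹, hu, rfl⟩)
        have hvp : x⁻¹ ^ p ∈ Subgroup.closure (phiSet p Q) :=
          Subgroup.subset_closure (Or.inl ⟨x⁻¹, hv, rfl⟩)
        have hxp : x ^ p ∈ Subgroup.closure (phiSet p Q) :=
          Subgroup.subset_closure (Or.inl ⟨x, hx, rfl⟩)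
        have hcv := hΦZ _ hcΦ _ hv
        have hcu := hΦZ _ hcΦ _ hu
        have f1 := class_two_pow_mul x⁻¹ (g * x * g⁻¹) _ rfl hcv p
        have f2 := class_two_mul_pow x⁻¹ (g * x * g⁻¹) _ rfl hcv hcu p
        have hcp : (x⁻¹ * (g * x * g⁻¹) * x⁻¹⁻¹ * (g * x * g⁻¹)⁻¹) ^ p = 1 := by
          have e1 := hΦZ _ hvp _ hu
          rw [e1] at f1
          have e2 : 1 * ((g * x * g⁻¹) * x⁻¹ ^ p) =
              (x⁻¹ * (g * x * g⁻¹) * x⁻¹⁻¹ * (g * x * g⁻¹)⁻¹) ^ p * ((g * x * g⁻¹) * x⁻¹ ^ p) := by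
            rw [one_mul, ← mul_assoc]; exact f1
          exact (mul_right_cancel e2).symm
        have hT : (x⁻¹ * (g * x * g⁻¹) * x⁻¹⁻¹ * (g * x * g⁻¹)⁻¹) ^ (∑ i ∈ Finset.range p, i) = 1 := by
          have h1 : p ∣ (∑ i ∈ Finset.range p, i) * 2 := by
            rw [Finset.sum_range_id_mul_two]; exact dvd_mul_right _ _
          have h2 : p ∣ ∑ i ∈ Finset.range p, i :=
            Nat.Coprime.dvd_of_dvd_mul_right
              ((Nat.coprime_primes hp.out Nat.prime_two).mpr hp2) h1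
          obtain ⟨t, ht⟩ := h2
          rw [ht, pow_mul, hcp, one_pow]
        have hup : (g * x * g⁻¹) ^ p = x ^ p := by
          rw [conj_pow]
          have := hΦcent _ hxp
          calc g * x ^ p * g⁻¹ = (g * x ^ p) * g⁻¹ := by group
            _ = (x ^ p * g) * g⁻¹ := by rw [this]
            _ = x ^ p := by group
        have hyp : (g * x * g⁻¹ * x⁻¹) ^ p = 1 := by
          rw [f2, hT, hup, inv_pow]; group
        exact hom _ (Q.mul_mem hu hv) hyp
      · have hRcard : Nat.card (Subgroup.closure (commSet g Q)) < n := by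
          by_contra hc
          push Not at hc
          rw [← hn] at hc
          exact hR (Subgroup.eq_of_le_of_card_ge hRQ hc)
        have hgR : g ∈ Subgroup.normalizer
            ((Subgroup.closure (commSet g Q) : Subgroup G) : Set G) := by
          apply mem_normalizer_closure
          rintro z ⟨x, hx, rfl⟩
          exact ⟨g * x * g⁻¹, hgQ' x hx, by group⟩
        have hRcent := ih _ hRcard _ rfl (hQ.to_le hRQ) hgR
          (fun y hy hyp => hom y (hRQ hy) hyp)
        rw [Subgroup.mem_centralizer_iff] at hRcent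
        exact (hRcent _ (Subgroup.subset_closure ⟨x, hx, rfl⟩)).symm

end Cfsg.Agent.Lib_helper5_Omega
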