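import Mathlib
import Cfsg.Agent.Lib_helper1_Basic
import Cfsg.Agent.Lib_helper1_ProdCard
import Cfsg.Agent.Lib_helper5_Omega

set_option autoImplicit false

/-! Glauberman's replacement theorem: element-level development. -/

namespace Cfsg.Agent.H1Glaub

open scoped commutatorElement Pointwise

theorem mem_Ab {S : Type*} [Group S] (A : Subgroup S) (b x : S) :
    x ∈ A.map (MulAut.conj b⁻¹).toMonoidHom ↔ b * x * b⁻¹ ∈ A := by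
  constructor
  · rintro ⟨a, ha, rfl⟩
    have e : b * ((MulAut.conj b⁻¹).toMonoidHom a) * b⁻¹ = a := by
      simp [MulAut.conj_apply, mul_assoc]
    rw [e]; exact ha
  · intro h
    refine ⟨b * x * b⁻¹, h, ?_⟩
    simp [MulAut.conj_apply, mul_assoc]

theorem conj_inv_mem {S : Type*} [Group S] (A B : Subgroup S) [hBn : B.Normal]
    (hBA : ⁅B, B⁆ ≤ A) (c y : S) (hc : c ∈ B) (hy : y ∈ A) (h : c⁻¹ * y * c ∈ A) :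
    c * y * c⁻¹ ∈ A := by
  have ht : y⁻¹ * (c⁻¹ * y * c) ∈ A := A.mul_mem (A.inv_mem hy) h
  have htB : y⁻¹ * (c⁻¹ * y * c) ∈ B := by
    have h1 : y⁻¹ * c⁻¹ * y⁻¹⁻¹ ∈ B := hBn.conj_mem _ (B.inv_mem hc) _
    have h2 := B.mul_mem h1 hc
    have e : y⁻¹ * (c⁻¹ * y * c) = y⁻¹ * c⁻¹ * y⁻¹⁻¹ * c := by group
    rw [e]; exact h2
  have hcomm : ⁅y⁻¹ * (c⁻¹ * y * c), c⁆ ∈ A :=
    hBA (Subgroup.commutator_mem_commutator htB hc)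
  have h3 := A.mul_mem (A.mul_mem hy (A.inv_mem ht)) hcomm
  have e : c * y * c⁻¹ = y * (y⁻¹ * (c⁻¹ * y * c))⁻¹ * ⁅y⁻¹ * (c⁻¹ * y * c), c⁆ := by
    rw [commutatorElement_def]; group
  rw [e]; exact h3

section core

variable {S : Type*} [Group S] (A B : Subgroup S) [hBn : B.Normal]
  (hA : ∀ x ∈ A, ∀ y ∈ A, x * y = y * x) (hBA : ⁅B, B⁆ ≤ A) (b : S) (hb : b ∈ B)
  (hbN : b ∈ Subgroup.normalizer ((Subgroup.normalizer (A : Set S)) : Set S))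
  (Ab : Subgroup S) (hAb : ∀ x, x ∈ Ab ↔ b * x * b⁻¹ ∈ A)

include hA hBA hb hbN hAb

theorem k1 (a : S) (ha : a ∈ A) : b⁻¹ * a * b ∈ Ab := by
  rw [hAb]
  have e : b * (b⁻¹ * a * b) * b⁻¹ = a := by group
  rw [e]; exact ha

theorem k2 (x y : S) (hx : x ∈ Ab) (hy : y ∈ Ab) : x * y = y * x := by
  have h := hA _ ((hAb x).mp hx) _ ((hAb y).mp hy)
  have e1 : x * y = b⁻¹ * ((b * x * b⁻¹) * (b * y * b⁻¹)) * b := by group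
  rw [e1, h]; group

theorem k3 (x : S) (hx : x ∈ Ab) : x ∈ Subgroup.normalizer (A : Set S) := by
  have h1 : b * x * b⁻¹ ∈ Subgroup.normalizer (A : Set S) :=
    Subgroup.le_normalizer ((hAb x).mp hx)
  exact (Subgroup.mem_normalizer_iff.mp hbN x).mpr h1

theorem k4 (m x : S) (hm : m ∈ Subgroup.normalizer (A : Set S)) (hx : x ∈ Ab) :
    m * x * m⁻¹ ∈ Ab := by
  rw [hAb]
  have h1 : b * m * b⁻¹ ∈ Subgroup.normalizer (A : Set S) :=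
    (Subgroup.mem_normalizer_iff.mp hbN m).mp hm
  have h2 := (Subgroup.mem_normalizer_iff.mp h1 (b * x * b⁻¹)).mp ((hAb x).mp hx)
  have e : b * (m * x * m⁻¹) * b⁻¹ = b * m * b⁻¹ * (b * x * b⁻¹) * (b * m * b⁻¹)⁻¹ := by group
  rw [e]; exact h2

theorem k5 (a x : S) (ha : a ∈ A) (hx : x ∈ Ab) : a * x * a⁻¹ * x⁻¹ ∈ A ⊓ Ab := by
  refine Subgroup.mem_inf.mpr ⟨?_, ?_⟩
  · have h1 : x * a⁻¹ * x⁻¹ ∈ A :=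
      (Subgroup.mem_normalizer_iff.mp (k3 A B hA hBA b hb hbN Ab hAb x hx) a⁻¹).mp
        (A.inv_mem ha)
    have h2 := A.mul_mem ha h1
    have e : a * x * a⁻¹ * x⁻¹ = a * (x * a⁻¹ * x⁻¹) := by group
    rw [e]; exact h2
  · have h1 : a * x * a⁻¹ ∈ Ab :=
      k4 A B hA hBA b hb hbN Ab hAb a x (Subgroup.le_normalizer ha) hx
    exact Ab.mul_mem h1 (Ab.inv_mem hx)

theorem k6a (z a : S) (hz : z ∈ A ⊓ Ab) (ha : a ∈ A) : z * a = a * z :=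
  hA z (Subgroup.mem_inf.mp hz).1 a ha

theorem k6b (z x : S) (hz : z ∈ A ⊓ Ab) (hx : x ∈ Ab) : z * x = x * z :=
  k2 A B hA hBA b hb hbN Ab hAb z x (Subgroup.mem_inf.mp hz).2 hx

theorem k6c (z a : S) (hz : z ∈ A ⊓ Ab) (ha : a ∈ A) :
    Commute z (a⁻¹ * (b⁻¹ * a * b)) := by
  have h1 : Commute z a⁻¹ := k6a A B hA hBA b hb hbN Ab hAb z a⁻¹ hz (A.inv_mem ha)
  have h2 : Commute z (b⁻¹ * a * b) :=
    k6b A B hA hBA b hb hbN Ab hAb z _ hz (k1 A B hA hBA b hb hbN Ab hAb a ha)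
  exact h1.mul_right h2

theorem k7 : ⁅B, B⁆ ≤ A ⊓ Ab := by
  intro x hx
  refine Subgroup.mem_inf.mpr ⟨hBA hx, ?_⟩
  rw [hAb]
  exact hBA ((Subgroup.commutator_normal B B).conj_mem x hx b)

theorem k8 (a : S) (ha : a ∈ A) (haB : a ∈ B) : a ∈ A ⊓ Ab := by
  refine Subgroup.mem_inf.mpr ⟨ha, ?_⟩
  rw [hAb]
  have h := A.mul_mem (hBA (Subgroup.commutator_mem_commutator hb haB)) ha
  have e : b * a * b⁻¹ = ⁅b, a⁆ * a := by rw [commutatorElement_def]; group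
  rw [e]; exact h

theorem k9a (y : S) (hy : y ∈ A) (h : b⁻¹ * y * b ∈ A) : y ∈ Ab := by
  rw [hAb]; exact conj_inv_mem A B hBA b y hb hy h

theorem k9b (y : S) (hy : y ∈ A) (h : y ∈ Ab) : b⁻¹ * y * b ∈ A := by
  have h' := conj_inv_mem A B hBA b⁻¹ y (B.inv_mem hb) hy (by simpa using (hAb y).mp h)
  simpa using h'

theorem k10 (z : S) (hz : z ∈ A ⊓ Ab) : b⁻¹ * z * b ∈ A ⊓ Ab :=
  Subgroup.mem_inf.mpr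
    ⟨k9b A B hA hBA b hb hbN Ab hAb z (Subgroup.mem_inf.mp hz).1 (Subgroup.mem_inf.mp hz).2,
      k1 A B hA hBA b hb hbN Ab hAb z (Subgroup.mem_inf.mp hz).1⟩

theorem k11 (a : S) : a⁻¹ * (b⁻¹ * a * b) ∈ B := by
  have h1 : a⁻¹ * b⁻¹ * a⁻¹⁻¹ ∈ B := hBn.conj_mem _ (B.inv_mem hb) _
  have h2 := B.mul_mem h1 hb
  have e : a⁻¹ * (b⁻¹ * a * b) = a⁻¹ * b⁻¹ * a⁻¹⁻¹ * b := by group
  rw [e]; exact h2

theorem k12 (a₁ a₂ : S) (h₁ : a₁ ∈ A) (h₂ : a₂ ∈ A) :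
    (b⁻¹ * a₁ * b) * a₂⁻¹ * (b⁻¹ * a₁ * b)⁻¹ * a₂ ∈ A ⊓ Ab ∧
    (a₁⁻¹ * (b⁻¹ * a₁ * b)) * (a₂⁻¹ * (b⁻¹ * a₂ * b)) =
      ((b⁻¹ * a₁ * b) * a₂⁻¹ * (b⁻¹ * a₁ * b)⁻¹ * a₂) *
        ((a₁ * a₂)⁻¹ * (b⁻¹ * (a₁ * a₂) * b)) := by
  have hx := k1 A B hA hBA b hb hbN Ab hAb a₁ h₁
  obtain ⟨x, hxe⟩ : ∃ x, x = b⁻¹ * a₁ * b := ⟨_, rfl⟩
  rw [← hxe] at hx ⊢
  have hw : x * a₂⁻¹ * x⁻¹ * a₂ ∈ A ⊓ Ab := by
    have h' := (A ⊓ Ab).inv_mem (k5 A B hA hBA b hb hbN Ab hAb a₂⁻¹ x (A.inv_mem h₂) hx)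
    have e : x * a₂⁻¹ * x⁻¹ * a₂ = (a₂⁻¹ * x * a₂⁻¹⁻¹ * x⁻¹)⁻¹ := by group
    rw [e]; exact h'
  refine ⟨hw, ?_⟩
  have hc : Commute (x * a₂⁻¹ * x⁻¹ * a₂) a₁⁻¹ :=
    k6a A B hA hBA b hb hbN Ab hAb _ _ hw (A.inv_mem h₁)
  have hc2 : a₁ * a₂ = a₂ * a₁ := hA a₁ h₁ a₂ h₂
  have hc3 : (a₁ * a₂)⁻¹ = a₁⁻¹ * a₂⁻¹ := by rw [hc2]; group
  calc a₁⁻¹ * x * (a₂⁻¹ * (b⁻¹ * a₂ * b))
      = a₁⁻¹ * (x * a₂⁻¹ * x⁻¹ * a₂) * (a₂⁻¹ * x * (b⁻¹ * a₂ * b)) := by group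
    _ = (x * a₂⁻¹ * x⁻¹ * a₂) * a₁⁻¹ * (a₂⁻¹ * x * (b⁻¹ * a₂ * b)) := by rw [hc.eq]
    _ = (x * a₂⁻¹ * x⁻¹ * a₂) * ((a₁ * a₂)⁻¹ * (b⁻¹ * (a₁ * a₂) * b)) := by
        rw [hc3, hxe]; group

theorem k13 (T : Subgroup S)
    (hT : T = Subgroup.closure {g : S | ∃ a ∈ A, g = a * b⁻¹ * a⁻¹ * b}) (x : S) :
    x ∈ (A ⊓ Ab) ⊔ T ↔ ∃ z ∈ A ⊓ Ab, ∃ a ∈ A, x = z * (a⁻¹ * (b⁻¹ * a * b)) := by
  constructor
  · obtain ⟨P, hP⟩ : ∃ P : Subgroup S, ∀ x, x ∈ P ↔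
        ∃ z ∈ A ⊓ Ab, ∃ a ∈ A, x = z * (a⁻¹ * (b⁻¹ * a * b)) := by
      refine ⟨{ carrier := {x | ∃ z ∈ A ⊓ Ab, ∃ a ∈ A, x = z * (a⁻¹ * (b⁻¹ * a * b))}
                mul_mem' := ?_
                one_mem' := ⟨1, (A ⊓ Ab).one_mem, 1, A.one_mem, by group⟩
                inv_mem' := ?_ }, fun x => Iff.rfl⟩
      · rintro _ _ ⟨z₁, hz₁, a₁, h₁, rfl⟩ ⟨z₂, hz₂, a₂, h₂, rfl⟩
        obtain ⟨hw, he⟩ := k12 A B hA hBA b hb hbN Ab hAb a₁ a₂ h₁ h₂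
        refine ⟨z₁ * z₂ * _, (A ⊓ Ab).mul_mem ((A ⊓ Ab).mul_mem hz₁ hz₂) hw, a₁ * a₂,
          A.mul_mem h₁ h₂, ?_⟩
        have hc := (k6c A B hA hBA b hb hbN Ab hAb z₂ a₁ hz₂ h₁).eq
        calc z₁ * (a₁⁻¹ * (b⁻¹ * a₁ * b)) * (z₂ * (a₂⁻¹ * (b⁻¹ * a₂ * b)))
            = z₁ * ((a₁⁻¹ * (b⁻¹ * a₁ * b)) * z₂) * (a₂⁻¹ * (b⁻¹ * a₂ * b)) := by group
          _ = z₁ * (z₂ * (a₁⁻¹ * (b⁻¹ * a₁ * b))) * (a₂⁻¹ * (b⁻¹ * a₂ * b)) := by rw [hc]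
          _ = z₁ * z₂ * ((a₁⁻¹ * (b⁻¹ * a₁ * b)) * (a₂⁻¹ * (b⁻¹ * a₂ * b))) := by group
          _ = _ := by rw [he]; group
      · rintro _ ⟨z, hz, a, ha, rfl⟩
        obtain ⟨hw, he⟩ := k12 A B hA hBA b hb hbN Ab hAb a a⁻¹ ha (A.inv_mem ha)
        obtain ⟨w, hwe⟩ : ∃ w, w = (b⁻¹ * a * b) * a⁻¹⁻¹ * (b⁻¹ * a * b)⁻¹ * a⁻¹ := ⟨_, rfl⟩
        rw [← hwe] at hw he
        have he' : (a⁻¹ * (b⁻¹ * a * b)) * (a⁻¹⁻¹ * (b⁻¹ * a⁻¹ * b)) = w := by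
          rw [he]; group
        have hinv : (a⁻¹ * (b⁻¹ * a * b))⁻¹ = (a⁻¹⁻¹ * (b⁻¹ * a⁻¹ * b)) * w⁻¹ := by
          rw [← he']; group
        have hwz : w⁻¹ * z⁻¹ ∈ A ⊓ Ab :=
          (A ⊓ Ab).mul_mem ((A ⊓ Ab).inv_mem hw) ((A ⊓ Ab).inv_mem hz)
        have hc := (k6c A B hA hBA b hb hbN Ab hAb (w⁻¹ * z⁻¹) a⁻¹ hwz (A.inv_mem ha)).eq
        refine ⟨w⁻¹ * z⁻¹, hwz, a⁻¹, A.inv_mem ha, ?_⟩
        rw [hc, mul_inv_rev z, hinv]; group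
    intro hx
    have hle : (A ⊓ Ab) ⊔ T ≤ P := by
      refine sup_le ?_ ?_
      · intro z hz; exact (hP z).mpr ⟨z, hz, 1, A.one_mem, by group⟩
      · rw [hT, Subgroup.closure_le]
        rintro _ ⟨a, ha, rfl⟩
        exact (hP _).mpr ⟨1, (A ⊓ Ab).one_mem, a⁻¹, A.inv_mem ha, by group⟩
    exact (hP x).mp (hle hx)
  · rintro ⟨z, hz, a, ha, rfl⟩
    refine Subgroup.mul_mem _ (Subgroup.mem_sup_left hz) (Subgroup.mem_sup_right ?_)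
    rw [hT]
    apply Subgroup.subset_closure
    exact ⟨a⁻¹, A.inv_mem ha, by group⟩

end core

section star

variable {S : Type*} [Group S] (A B : Subgroup S) [hBn : B.Normal]
  (hA : ∀ x ∈ A, ∀ y ∈ A, x * y = y * x) (hBA : ⁅B, B⁆ ≤ A) (b : S) (hb : b ∈ B)
  (hbN : b ∈ Subgroup.normalizer ((Subgroup.normalizer (A : Set S)) : Set S))
  (Ab : Subgroup S) (hAb : ∀ x, x ∈ Ab ↔ b * x * b⁻¹ ∈ A)
  (P : Subgroup S)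
  (hP : ∀ x, x ∈ P ↔ ∃ z ∈ A ⊓ Ab, ∃ a ∈ A, x = z * (a⁻¹ * (b⁻¹ * a * b)))

include hA hBA hb hbN hAb hP

theorem k13b : A ⊓ Ab ≤ P := fun z hz => (hP z).mpr ⟨z, hz, 1, A.one_mem, by group⟩

theorem k14 [Finite S] (hcard : Nat.card Ab = Nat.card A) : Nat.card P = Nat.card A := by
  have hset : (A : Set S) * (P : Set S) = (A : Set S) * (Ab : Set S) := by
    ext u
    simp only [Set.mem_mul, SetLike.mem_coe]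
    constructor
    · rintro ⟨a', ha', x, hx, rfl⟩
      obtain ⟨z, hz, a, ha, rfl⟩ := (hP x).mp hx
      exact ⟨a' * z * a⁻¹,
        A.mul_mem (A.mul_mem ha' (Subgroup.mem_inf.mp hz).1) (A.inv_mem ha), b⁻¹ * a * b,
        k1 A B hA hBA b hb hbN Ab hAb a ha, by group⟩
    · rintro ⟨a₁, h₁, x, hx, rfl⟩
      exact ⟨a₁ * (b * x * b⁻¹), A.mul_mem h₁ ((hAb x).mp hx),
        1 * ((b * x * b⁻¹)⁻¹ * (b⁻¹ * (b * x * b⁻¹) * b)),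
        (hP _).mpr ⟨1, (A ⊓ Ab).one_mem, b * x * b⁻¹, (hAb x).mp hx, rfl⟩, by group⟩
  have hinf : A ⊓ P = A ⊓ Ab := by
    apply le_antisymm
    · intro u hu
      obtain ⟨huA, huP⟩ := Subgroup.mem_inf.mp hu
      obtain ⟨z, hz, a, ha, rfl⟩ := (hP u).mp huP
      have hzA := (Subgroup.mem_inf.mp hz).1
      have hzAb := (Subgroup.mem_inf.mp hz).2
      have h1 : b⁻¹ * a * b ∈ A := by
        have h := A.mul_mem (A.mul_mem ha (A.inv_mem hzA)) huA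
        have e : b⁻¹ * a * b = a * z⁻¹ * (z * (a⁻¹ * (b⁻¹ * a * b))) := by group
        rw [e]; exact h
      have h2 : a ∈ Ab := k9a A B hA hBA b hb hbN Ab hAb a ha h1
      refine Subgroup.mem_inf.mpr ⟨huA, ?_⟩
      exact Ab.mul_mem hzAb (Ab.mul_mem (Ab.inv_mem h2) (k1 A B hA hBA b hb hbN Ab hAb a ha))
    · intro z hz
      exact Subgroup.mem_inf.mpr ⟨(Subgroup.mem_inf.mp hz).1,
        (hP z).mpr ⟨z, hz, 1, A.one_mem, by group⟩⟩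
  have c1 := Lib_helper1_ProdCard.card_mul_set A P
  have c2 := Lib_helper1_ProdCard.card_mul_set A Ab
  rw [hset, hinf] at c1
  rw [hcard] at c2
  have hpos : 0 < Nat.card A := Nat.card_pos
  have h3 : Nat.card A * Nat.card P = Nat.card A * Nat.card A := by rw [← c1, ← c2]
  exact Nat.eq_of_mul_eq_mul_left hpos h3

theorem k15
    (h : ∀ a₁ ∈ A, ∀ a₂ ∈ A, (a₁⁻¹ * (b⁻¹ * a₁ * b)) * (a₂⁻¹ * (b⁻¹ * a₂ * b)) =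
      (a₂⁻¹ * (b⁻¹ * a₂ * b)) * (a₁⁻¹ * (b⁻¹ * a₁ * b))) :
    ∀ x ∈ P, ∀ y ∈ P, x * y = y * x := by
  intro x hx y hy
  obtain ⟨z₁, hz₁, a₁, h₁, rfl⟩ := (hP x).mp hx
  obtain ⟨z₂, hz₂, a₂, h₂, rfl⟩ := (hP y).mp hy
  have c1 : Commute z₁ z₂ := hA z₁ (Subgroup.mem_inf.mp hz₁).1 z₂ (Subgroup.mem_inf.mp hz₂).1
  have c2 : Commute z₁ (a₂⁻¹ * (b⁻¹ * a₂ * b)) := k6c A B hA hBA b hb hbN Ab hAb z₁ a₂ hz₁ h₂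
  have c3 : Commute z₂ (a₁⁻¹ * (b⁻¹ * a₁ * b)) := k6c A B hA hBA b hb hbN Ab hAb z₂ a₁ hz₂ h₁
  have c4 : Commute (a₁⁻¹ * (b⁻¹ * a₁ * b)) (a₂⁻¹ * (b⁻¹ * a₂ * b)) := h a₁ h₁ a₂ h₂
  exact ((c1.mul_right c2).mul_left ((c3.symm).mul_right c4)).eq

theorem k16a (a₁ a₂ : S) (h₁ : a₁ ∈ A) (h₂ : a₂ ∈ A) :
    b⁻¹ * ((b⁻¹ * a₁ * b) * a₂⁻¹ * (b⁻¹ * a₁ * b)⁻¹ * a₂) * b =
      (b⁻¹ * a₂ * b) * a₁⁻¹ * (b⁻¹ * a₂ * b)⁻¹ * a₁ := by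
  have hx₁ := k1 A B hA hBA b hb hbN Ab hAb a₁ h₁
  have hx₂ := k1 A B hA hBA b hb hbN Ab hAb a₂ h₂
  have hθB := k11 A B hA hBA b hb hbN Ab hAb a₁
  obtain ⟨x₁, hx₁e⟩ : ∃ x, x = b⁻¹ * a₁ * b := ⟨_, rfl⟩
  obtain ⟨x₂, hx₂e⟩ : ∃ x, x = b⁻¹ * a₂ * b := ⟨_, rfl⟩
  rw [← hx₁e] at hx₁ hθB ⊢
  rw [← hx₂e] at hx₂ ⊢
  have hζZ : (a₁⁻¹ * x₁)⁻¹ * b⁻¹ * (a₁⁻¹ * x₁) * b ∈ A ⊓ Ab := by
    have h := k7 A B hA hBA b hb hbN Ab hAb (Subgroup.commutator_mem_commutator (B.inv_mem hθB) (B.inv_mem hb))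
    rw [commutatorElement_def] at h
    simpa using h
  obtain ⟨ζ, hζe⟩ : ∃ ζ, ζ = (a₁⁻¹ * x₁)⁻¹ * b⁻¹ * (a₁⁻¹ * x₁) * b := ⟨_, rfl⟩
  rw [← hζe] at hζZ
  have hqZ : a₁⁻¹ * x₂⁻¹ * a₁ * x₂ ∈ A ⊓ Ab := by
    have h := k5 A B hA hBA b hb hbN Ab hAb a₁⁻¹ x₂⁻¹ (A.inv_mem h₁) (Ab.inv_mem hx₂)
    simpa using h
  obtain ⟨q, hqe⟩ : ∃ q, q = a₁⁻¹ * x₂⁻¹ * a₁ * x₂ := ⟨_, rfl⟩
  rw [← hqe] at hqZ
  have hζ : Commute ζ x₂⁻¹ := k6b A B hA hBA b hb hbN Ab hAb ζ _ hζZ (Ab.inv_mem hx₂)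
  have h12 : Commute x₁ x₂⁻¹ := k2 A B hA hBA b hb hbN Ab hAb x₁ _ hx₁ (Ab.inv_mem hx₂)
  have h12' : Commute x₁⁻¹ x₂ := k2 A B hA hBA b hb hbN Ab hAb _ x₂ (Ab.inv_mem hx₁) hx₂
  have hq1 : Commute q x₁ := k6b A B hA hBA b hb hbN Ab hAb q _ hqZ hx₁
  have hq2 : Commute q x₂ := k6b A B hA hBA b hb hbN Ab hAb q _ hqZ hx₂
  have hb1 : b⁻¹ * x₁ * b = x₁ * a₁⁻¹ * x₁ * ζ := by rw [hζe, hx₁e]; group
  calc b⁻¹ * (x₁ * a₂⁻¹ * x₁⁻¹ * a₂) * b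
      = (b⁻¹ * x₁ * b) * x₂⁻¹ * (b⁻¹ * x₁ * b)⁻¹ * x₂ := by rw [hx₂e]; group
    _ = x₁ * a₁⁻¹ * x₁ * (ζ * x₂⁻¹) * ζ⁻¹ * x₁⁻¹ * a₁ * x₁⁻¹ * x₂ := by rw [hb1]; group
    _ = x₁ * a₁⁻¹ * (x₁ * x₂⁻¹) * x₁⁻¹ * a₁ * x₁⁻¹ * x₂ := by rw [hζ.eq]; group
    _ = x₁ * a₁⁻¹ * x₂⁻¹ * a₁ * (x₁⁻¹ * x₂) := by rw [h12.eq]; group
    _ = x₁ * (a₁⁻¹ * x₂⁻¹ * a₁ * x₂) * x₁⁻¹ := by rw [h12'.eq]; group
    _ = (x₁ * q) * x₁⁻¹ := by rw [hqe]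
    _ = (x₂ * q) * x₂⁻¹ := by rw [← hq1.eq, ← hq2.eq]; group
    _ = x₂ * a₁⁻¹ * x₂⁻¹ * a₁ := by rw [hqe]; group

theorem k16 (hodd : ∃ n : ℕ, b ^ (2 * n + 1) = 1) (a₁ a₂ : S) (h₁ : a₁ ∈ A) (h₂ : a₂ ∈ A) :
    (a₁⁻¹ * (b⁻¹ * a₁ * b)) * (a₂⁻¹ * (b⁻¹ * a₂ * b)) =
      (a₂⁻¹ * (b⁻¹ * a₂ * b)) * (a₁⁻¹ * (b⁻¹ * a₁ * b)) := by
  obtain ⟨-, e₁⟩ := k12 A B hA hBA b hb hbN Ab hAb a₁ a₂ h₁ h₂
  obtain ⟨-, e₂⟩ := k12 A B hA hBA b hb hbN Ab hAb a₂ a₁ h₂ h₁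
  have s₁ := k16a A B hA hBA b hb hbN Ab hAb P hP a₁ a₂ h₁ h₂
  have s₂ := k16a A B hA hBA b hb hbN Ab hAb P hP a₂ a₁ h₂ h₁
  obtain ⟨w₁, hw₁e⟩ : ∃ w, w = (b⁻¹ * a₁ * b) * a₂⁻¹ * (b⁻¹ * a₁ * b)⁻¹ * a₂ := ⟨_, rfl⟩
  obtain ⟨w₂, hw₂e⟩ : ∃ w, w = (b⁻¹ * a₂ * b) * a₁⁻¹ * (b⁻¹ * a₂ * b)⁻¹ * a₁ := ⟨_, rfl⟩
  rw [← hw₁e, ← hw₂e] at s₁ s₂
  rw [← hw₁e] at e₁
  rw [← hw₂e] at e₂
  have hsq : Commute (b ^ 2) w₁ := by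
    have h : b⁻¹ * (b⁻¹ * w₁ * b) * b = w₁ := by rw [s₁, s₂]
    show b ^ 2 * w₁ = w₁ * b ^ 2
    calc b ^ 2 * w₁ = b * b * (b⁻¹ * (b⁻¹ * w₁ * b) * b) := by rw [h, pow_two]
      _ = w₁ * (b * b) := by group
      _ = w₁ * b ^ 2 := by rw [pow_two]
  obtain ⟨n, hn⟩ := hodd
  have hb' : (b ^ 2) ^ (n + 1) = b := by
    rw [← pow_mul]
    have h : 2 * (n + 1) = (2 * n + 1) + 1 := by ring
    rw [h, pow_succ, hn, one_mul]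
  have hbw : Commute b w₁ := by
    have h := hsq.pow_left (n + 1)
    rwa [hb'] at h
  have hw12 : w₁ = w₂ := by
    rw [← s₁]
    have h := hbw.eq
    calc w₁ = b⁻¹ * (b * w₁) := by group
      _ = b⁻¹ * (w₁ * b) := by rw [h]
      _ = b⁻¹ * w₁ * b := by group
  rw [e₁, e₂, hw12, hA a₁ h₁ a₂ h₂]

theorem k21 : P ≤ Subgroup.normalizer (A : Set S) := by
  intro x hx
  obtain ⟨z, hz, a, ha, rfl⟩ := (hP x).mp hx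
  have hM := Subgroup.le_normalizer (H := A)
  exact Subgroup.mul_mem _ (hM (Subgroup.mem_inf.mp hz).1)
    (Subgroup.mul_mem _ (hM (A.inv_mem ha)) (k3 A B hA hBA b hb hbN Ab hAb _ (k1 A B hA hBA b hb hbN Ab hAb a ha)))

theorem k18 [Finite S] (hbA : b ∉ Subgroup.normalizer (A : Set S)) : A ⊓ B < P ⊓ B := by
  have hZP : A ⊓ Ab ≤ P := k13b A B hA hBA b hb hbN Ab hAb P hP
  refine lt_of_le_of_ne ?_ ?_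
  · intro a ha
    obtain ⟨haA, haB⟩ := Subgroup.mem_inf.mp ha
    exact Subgroup.mem_inf.mpr ⟨hZP (k8 A B hA hBA b hb hbN Ab hAb a haA haB), haB⟩
  · intro heq
    have hb' : b⁻¹ ∉ Subgroup.normalizer (A : Set S) :=
      fun h => hbA (by simpa using Subgroup.inv_mem _ h)
    have h1 : ¬ ∀ m ∈ A, b⁻¹ * m * b⁻¹⁻¹ ∈ A :=
      fun h => hb' (Lib_helper1_Basic.mem_normalizer_of_conj_le A b⁻¹ h)
    push Not at h1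
    obtain ⟨a, ha, hna⟩ := h1
    rw [inv_inv] at hna
    have hθ : a⁻¹ * (b⁻¹ * a * b) ∈ P ⊓ B :=
      Subgroup.mem_inf.mpr ⟨(hP _).mpr ⟨1, (A ⊓ Ab).one_mem, a, ha, by group⟩, k11 A B hA hBA b hb hbN Ab hAb a⟩
    rw [← heq] at hθ
    have hθA := (Subgroup.mem_inf.mp hθ).1
    apply hna
    have h2 := A.mul_mem ha hθA
    have e : b⁻¹ * a * b = a * (a⁻¹ * (b⁻¹ * a * b)) := by group
    rw [e]; exact h2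

theorem k19 (hnot : ¬ B ≤ Subgroup.normalizer (A : Set S)) : P ⊓ B < B := by
  refine lt_of_le_of_ne inf_le_right ?_
  intro heq
  apply hnot
  intro x hx
  rw [← heq] at hx
  exact k21 A B hA hBA b hb hbN Ab hAb P hP (Subgroup.mem_inf.mp hx).1

theorem k20 [Finite S] : A ≤ Subgroup.normalizer (P : Set S) := by
  intro a ha
  apply Lib_helper1_Basic.mem_normalizer_of_conj_le
  intro x hx
  obtain ⟨z, hz, a₁, h₁, rfl⟩ := (hP x).mp hx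
  have hx₁ := k1 A B hA hBA b hb hbN Ab hAb a₁ h₁
  obtain ⟨x₁, hx₁e⟩ : ∃ x, x = b⁻¹ * a₁ * b := ⟨_, rfl⟩
  rw [← hx₁e] at hx₁ ⊢
  have hw : x₁⁻¹ * a * x₁ * a⁻¹ ∈ A ⊓ Ab := by
    have h := (A ⊓ Ab).inv_mem (k5 A B hA hBA b hb hbN Ab hAb a x₁⁻¹ ha (Ab.inv_mem hx₁))
    have e : x₁⁻¹ * a * x₁ * a⁻¹ = (a * x₁⁻¹ * a⁻¹ * x₁⁻¹⁻¹)⁻¹ := by group
    rw [e]; exact h
  refine (hP _).mpr ⟨z * (x₁⁻¹ * a * x₁ * a⁻¹), (A ⊓ Ab).mul_mem hz hw, a₁, h₁, ?_⟩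
  rw [← hx₁e]
  have c1 : a * z = z * a := (k6a A B hA hBA b hb hbN Ab hAb z a hz ha).symm
  have c2 : a * a₁⁻¹ = a₁⁻¹ * a := hA a ha a₁⁻¹ (A.inv_mem h₁)
  have c3 : Commute (x₁⁻¹ * a * x₁ * a⁻¹) (a₁⁻¹ * x₁) :=
    Commute.mul_right (k6a A B hA hBA b hb hbN Ab hAb _ _ hw (A.inv_mem h₁)) (k6b A B hA hBA b hb hbN Ab hAb _ _ hw hx₁)
  calc a * (z * (a₁⁻¹ * x₁)) * a⁻¹ = (a * z) * a₁⁻¹ * x₁ * a⁻¹ := by group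
    _ = z * (a * a₁⁻¹) * x₁ * a⁻¹ := by rw [c1]; group
    _ = z * ((a₁⁻¹ * x₁) * (x₁⁻¹ * a * x₁ * a⁻¹)) := by rw [c2]; group
    _ = z * (x₁⁻¹ * a * x₁ * a⁻¹) * (a₁⁻¹ * x₁) := by rw [← c3.eq]; group

theorem k22 [Finite S] : b ∈ Subgroup.normalizer (P : Set S) := by
  have h : b⁻¹ ∈ Subgroup.normalizer (P : Set S) := by
    apply Lib_helper1_Basic.mem_normalizer_of_conj_le
    intro x hx
    rw [inv_inv]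
    obtain ⟨z, hz, a, ha, rfl⟩ := (hP x).mp hx
    have hθB := k11 A B hA hBA b hb hbN Ab hAb a
    have hc0 := fun ζ hζ => k6c A B hA hBA b hb hbN Ab hAb ζ a hζ ha
    obtain ⟨t, hte⟩ : ∃ t, t = a⁻¹ * (b⁻¹ * a * b) := ⟨_, rfl⟩
    rw [← hte] at hθB hc0 ⊢
    have hζ : t⁻¹ * b⁻¹ * t * b ∈ A ⊓ Ab := by
      have h := k7 A B hA hBA b hb hbN Ab hAb (Subgroup.commutator_mem_commutator (B.inv_mem hθB) (B.inv_mem hb))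
      rw [commutatorElement_def] at h
      simpa using h
    have hz' := k10 A B hA hBA b hb hbN Ab hAb z hz
    have hc := hc0 _ hζ
    refine (hP _).mpr ⟨(b⁻¹ * z * b) * (t⁻¹ * b⁻¹ * t * b), (A ⊓ Ab).mul_mem hz' hζ, a, ha, ?_⟩
    rw [← hte]
    calc b⁻¹ * (z * t) * b = (b⁻¹ * z * b) * (t * (t⁻¹ * b⁻¹ * t * b)) := by group
      _ = (b⁻¹ * z * b) * (t⁻¹ * b⁻¹ * t * b) * t := by rw [← hc.eq]; group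
  simpa using Subgroup.inv_mem _ h

theorem k23 [Finite S] (hbA : b ∉ Subgroup.normalizer (A : Set S)) :
    Subgroup.normalizer (A : Set S) < Subgroup.normalizer (P : Set S) := by
  refine lt_of_le_of_ne ?_ (fun heq => hbA (heq ▸ k22 A B hA hBA b hb hbN Ab hAb P hP))
  intro m hm
  apply Lib_helper1_Basic.mem_normalizer_of_conj_le
  intro x hx
  obtain ⟨z, hz, a, ha, rfl⟩ := (hP x).mp hx
  have hz' : m * z * m⁻¹ ∈ A ⊓ Ab :=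
    Subgroup.mem_inf.mpr ⟨(Subgroup.mem_normalizer_iff.mp hm z).mp (Subgroup.mem_inf.mp hz).1,
      k4 A B hA hBA b hb hbN Ab hAb m z hm (Subgroup.mem_inf.mp hz).2⟩
  have ha₁ : m * a * m⁻¹ ∈ A := (Subgroup.mem_normalizer_iff.mp hm a).mp ha
  have hdB : m⁻¹ * b * m * b⁻¹ ∈ B := by
    have h1 : m⁻¹ * b * m⁻¹⁻¹ ∈ B := hBn.conj_mem _ hb _
    have h2 := B.mul_mem h1 (B.inv_mem hb)
    simpa using h2
  have hdM : m⁻¹ * b * m * b⁻¹ ∈ Subgroup.normalizer (A : Set S) := by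
    have h1 : b * m * b⁻¹ ∈ Subgroup.normalizer (A : Set S) :=
      (Subgroup.mem_normalizer_iff.mp hbN m).mp hm
    have h2 := Subgroup.mul_mem _ (Subgroup.inv_mem _ hm) h1
    have e : m⁻¹ * b * m * b⁻¹ = m⁻¹ * (b * m * b⁻¹) := by group
    rw [e]; exact h2
  obtain ⟨d, hde⟩ : ∃ d, d = m⁻¹ * b * m * b⁻¹ := ⟨_, rfl⟩
  rw [← hde] at hdB hdM
  have huA : a⁻¹ * (d * a * d⁻¹) ∈ A :=
    A.mul_mem (A.inv_mem ha) ((Subgroup.mem_normalizer_iff.mp hdM a).mp ha)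
  have huB : a⁻¹ * (d * a * d⁻¹) ∈ B := by
    have h1 : a⁻¹ * d * a⁻¹⁻¹ ∈ B := hBn.conj_mem _ hdB _
    have h2 := B.mul_mem h1 (B.inv_mem hdB)
    have e : a⁻¹ * (d * a * d⁻¹) = a⁻¹ * d * a⁻¹⁻¹ * d⁻¹ := by group
    rw [e]; exact h2
  have hvA : m * (a⁻¹ * (d * a * d⁻¹)) * m⁻¹ ∈ A :=
    (Subgroup.mem_normalizer_iff.mp hm _).mp huA
  have hvB : m * (a⁻¹ * (d * a * d⁻¹)) * m⁻¹ ∈ B := hBn.conj_mem _ huB _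
  have hvZ := k10 A B hA hBA b hb hbN Ab hAb _ (k8 A B hA hBA b hb hbN Ab hAb _ hvA hvB)
  refine (hP _).mpr ⟨(m * z * m⁻¹) * (b⁻¹ * (m * (a⁻¹ * (d * a * d⁻¹)) * m⁻¹) * b),
    (A ⊓ Ab).mul_mem hz' hvZ, m * a * m⁻¹, ha₁, ?_⟩
  have hc := (k6c A B hA hBA b hb hbN Ab hAb _ (m * a * m⁻¹) hvZ ha₁).eq
  rw [mul_assoc (m * z * m⁻¹), hc, hde]; group

theorem k24 (e : ℕ) (he : ∀ a ∈ A, a ^ e = 1) (hodd : Odd e) : ∀ x ∈ P, x ^ e = 1 := by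
  intro x hx
  obtain ⟨z, hz, a, ha, rfl⟩ := (hP x).mp hx
  have hc := k6c A B hA hBA b hb hbN Ab hAb z a hz ha
  rw [hc.mul_pow, he z (Subgroup.mem_inf.mp hz).1, one_mul]
  have hx₁ := k1 A B hA hBA b hb hbN Ab hAb a ha
  obtain ⟨x₁, hx₁e⟩ : ∃ x, x = b⁻¹ * a * b := ⟨_, rfl⟩
  rw [← hx₁e] at hx₁ ⊢
  have hcZ : x₁ * a⁻¹ * x₁⁻¹ * a⁻¹⁻¹ ∈ A ⊓ Ab := by
    have h := (A ⊓ Ab).inv_mem (k5 A B hA hBA b hb hbN Ab hAb a⁻¹ x₁ (A.inv_mem ha) hx₁)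
    have e' : x₁ * a⁻¹ * x₁⁻¹ * a⁻¹⁻¹ = (a⁻¹ * x₁ * a⁻¹⁻¹ * x₁⁻¹)⁻¹ := by group
    rw [e']; exact h
  have h := Lib_helper5_Omega.class_two_mul_pow x₁ a⁻¹ _ rfl
    (k6b A B hA hBA b hb hbN Ab hAb _ x₁ hcZ hx₁) (k6a A B hA hBA b hb hbN Ab hAb _ a⁻¹ hcZ (A.inv_mem ha)) e
  rw [h]
  have e1 : a⁻¹ ^ e = 1 := he _ (A.inv_mem ha)
  have e2 : x₁ ^ e = 1 := by
    have h1 := he _ ((hAb x₁).mp hx₁)
    rw [conj_pow] at h1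
    have h2 : x₁ ^ e = b⁻¹ * (b * x₁ ^ e * b⁻¹) * b := by group
    rw [h2, h1]; group
  have e3 : (x₁ * a⁻¹ * x₁⁻¹ * a⁻¹⁻¹) ^ (∑ i ∈ Finset.range e, i) = 1 := by
    obtain ⟨k, hk⟩ := hodd
    have hs : ∑ i ∈ Finset.range e, i = e * k := by
      have h2 : (∑ i ∈ Finset.range e, i) * 2 = (e * k) * 2 := by
        rw [Finset.sum_range_id_mul_two, hk]
        have h3 : 2 * k + 1 - 1 = 2 * k := by omega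
        rw [h3]; ring
      exact Nat.eq_of_mul_eq_mul_right (by norm_num) h2
    rw [hs, pow_mul, he _ (Subgroup.mem_inf.mp hcZ).1, one_pow]
  rw [e1, e2, e3]; simp

end star

/-- Glauberman's replacement theorem, with `P` the replacement subgroup. -/
theorem glauberman {S : Type*} [Group S] [Finite S] {p : ℕ} [Fact p.Prime]
    (hS : IsPGroup p S) (B : Subgroup S) [B.Normal] (hB2 : p = 2 → IsMulCommutative B)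
    (A : Subgroup S) (hA : IsMulCommutative A) (hBA : ⁅B, B⁆ ≤ A)
    (hnot : ¬ B ≤ Subgroup.normalizer (A : Set S)) (b : S) (hb : b ∈ B)
    (hbN : b ∈ Subgroup.normalizer ((Subgroup.normalizer (A : Set S)) : Set S))
    (hbA : b ∉ Subgroup.normalizer (A : Set S)) (P : Subgroup S)
    (hPdef : P = (A ⊓ A.map (MulAut.conj (b⁻¹)).toMonoidHom) ⊔
      Subgroup.closure {g : S | ∃ a ∈ A, g = a * b⁻¹ * a⁻¹ * b}) :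
    Nat.card P = Nat.card A ∧ IsMulCommutative P ∧ ⁅B, B⁆ ≤ P ∧ A ⊓ B < P ⊓ B ∧ P ⊓ B < B ∧
      A ≤ Subgroup.normalizer (P : Set S) ∧ P ≤ Subgroup.normalizer (A : Set S) ∧
      b ∈ Subgroup.normalizer (P : Set S) ∧
      Subgroup.normalizer (A : Set S) < Subgroup.normalizer (P : Set S) ∧
      (p ≠ 2 → Monoid.exponent P ∣ Monoid.exponent A) := by
  have hA' : ∀ x ∈ A, ∀ y ∈ A, x * y = y * x := fun x hx y hy =>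
    congrArg Subtype.val (hA.is_comm.comm ⟨x, hx⟩ ⟨y, hy⟩)
  obtain ⟨Ab, hAbe⟩ : ∃ Ab, Ab = A.map (MulAut.conj (b⁻¹)).toMonoidHom := ⟨_, rfl⟩
  have hAb : ∀ x, x ∈ Ab ↔ b * x * b⁻¹ ∈ A := fun x => by rw [hAbe]; exact mem_Ab A b x
  have hcardAb : Nat.card Ab = Nat.card A := by
    rw [hAbe]; exact Subgroup.card_map_of_injective (MulAut.conj b⁻¹).injective
  rw [← hAbe] at hPdef
  have hP : ∀ x, x ∈ P ↔ ∃ z ∈ A ⊓ Ab, ∃ a ∈ A, x = z * (a⁻¹ * (b⁻¹ * a * b)) := fun x => by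
    rw [hPdef]; exact k13 A B hA' hBA b hb hbN Ab hAb _ rfl x
  have hθcomm : ∀ a₁ ∈ A, ∀ a₂ ∈ A, (a₁⁻¹ * (b⁻¹ * a₁ * b)) * (a₂⁻¹ * (b⁻¹ * a₂ * b)) =
      (a₂⁻¹ * (b⁻¹ * a₂ * b)) * (a₁⁻¹ * (b⁻¹ * a₁ * b)) := by
    intro a₁ h₁ a₂ h₂
    by_cases hp : p = 2
    · have hBc := hB2 hp
      exact congrArg Subtype.val (hBc.is_comm.comm ⟨_, k11 A B hA' hBA b hb hbN Ab hAb a₁⟩
        ⟨_, k11 A B hA' hBA b hb hbN Ab hAb a₂⟩)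
    · apply k16 A B hA' hBA b hb hbN Ab hAb P hP ?_ a₁ a₂ h₁ h₂
      obtain ⟨k, hk⟩ := (IsPGroup.iff_orderOf.mp hS) b
      have hoddp : Odd p := (Fact.out : p.Prime).odd_of_ne_two hp
      obtain ⟨n, hn⟩ := hoddp.pow (n := k)
      exact ⟨n, by rw [← hn, ← hk]; exact pow_orderOf_eq_one b⟩
  have hPcomm := k15 A B hA' hBA b hb hbN Ab hAb P hP hθcomm
  refine ⟨k14 A B hA' hBA b hb hbN Ab hAb P hP hcardAb,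
    ⟨⟨fun x y => Subtype.ext (hPcomm x.1 x.2 y.1 y.2)⟩⟩, ?_,
    k18 A B hA' hBA b hb hbN Ab hAb P hP hbA, k19 A B hA' hBA b hb hbN Ab hAb P hP hnot,
    k20 A B hA' hBA b hb hbN Ab hAb P hP, k21 A B hA' hBA b hb hbN Ab hAb P hP,
    k22 A B hA' hBA b hb hbN Ab hAb P hP, k23 A B hA' hBA b hb hbN Ab hAb P hP hbA, ?_⟩
  · exact (k7 A B hA' hBA b hb hbN Ab hAb).trans (k13b A B hA' hBA b hb hbN Ab hAb P hP)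
  · intro hp
    apply Monoid.exponent_dvd_of_forall_pow_eq_one
    intro x
    have hodd : Odd (Monoid.exponent A) := by
      have hAp : IsPGroup p A := hS.to_subgroup A
      obtain ⟨k, hk⟩ := IsPGroup.iff_card.mp hAp
      have hd : Monoid.exponent A ∣ p ^ k := hk ▸ Group.exponent_dvd_nat_card
      obtain ⟨j, -, hj⟩ := (Nat.dvd_prime_pow (Fact.out : p.Prime)).mp hd
      rw [hj]; exact ((Fact.out : p.Prime).odd_of_ne_two hp).pow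
    have h := k24 A B hA' hBA b hb hbN Ab hAb P hP (Monoid.exponent A)
      (fun a ha => by
        have h1 := Monoid.pow_exponent_eq_one (⟨a, ha⟩ : A)
        simpa using congrArg Subtype.val h1) hodd x.1 x.2
    exact Subtype.ext (by simpa using h)

end Cfsg.Agent.H1Glaub
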