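import Mathlib
import Cfsg.Agent.Lib_helper1_Glauberman
import Cfsg.Agent.Lib_helper7_Sylow
import Cfsg.Agent.Lib_helper1_Hall

set_option autoImplicit false

/-! Replacement property for families of subgroups, from Glauberman's replacement theorem. -/

namespace Cfsg.Agent.H1GlaubFam

open scoped commutatorElement Pointwise

theorem exists_b {S : Type*} [Group S] [Finite S] {p : ℕ} [Fact p.Prime] (hS : IsPGroup p S)
    (B : Subgroup S) [B.Normal] (M : Subgroup S) (hBM : ¬ B ≤ M) :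
    ∃ b ∈ B, b ∈ Subgroup.normalizer (M : Set S) ∧ b ∉ M := by
  have hlt : M < M ⊔ B := lt_of_le_of_ne le_sup_left (fun h => hBM (h ▸ le_sup_right))
  obtain ⟨t, htT, htN, htM⟩ :=
    Lib_helper7_Sylow.exists_mem_normalizer_not_mem (hS.to_subgroup (M ⊔ B)) hlt
  have h1 : t ∈ ((M ⊔ B : Subgroup S) : Set S) := htT
  rw [Subgroup.mul_normal] at h1
  obtain ⟨m, hm, b, hb, rfl⟩ := Set.mem_mul.mp h1
  refine ⟨b, hb, ?_, ?_⟩
  · have h2 := Subgroup.mul_mem _ (Subgroup.inv_mem _ (Subgroup.le_normalizer hm)) htN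
    simpa using h2
  · intro hbM; exact htM (M.mul_mem hm hbM)

theorem replacement_family {S : Type*} [Group S] [Finite S] {p : ℕ} [Fact p.Prime]
    (hS : IsPGroup p S) (hp : p ≠ 2) (F : Set (Subgroup S))
    (hF : ∀ A ∈ F, IsMulCommutative A)
    (hrep : ∀ A ∈ F, ∀ (b : S) (P : Subgroup S),
      P = (A ⊓ A.map (MulAut.conj b⁻¹).toMonoidHom) ⊔
        Subgroup.closure {g : S | ∃ a ∈ A, g = a * b⁻¹ * a⁻¹ * b} →
      Nat.card P = Nat.card A → IsMulCommutative P →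
      Monoid.exponent P ∣ Monoid.exponent A → P ∈ F)
    (B : Subgroup S) [B.Normal] (hU : ∃ U ∈ F, ⁅B, B⁆ ≤ U ∧ ¬ B ≤ U) :
    ∃ A ∈ F, ⁅B, B⁆ ≤ A ∧ ¬ B ≤ A ∧ B ≤ Subgroup.normalizer (A : Set S) := by
  obtain ⟨U, hUF, hU1, hU2⟩ := hU
  haveI : Nonempty {A : Subgroup S // A ∈ F ∧ ⁅B, B⁆ ≤ A ∧ ¬ B ≤ A} :=
    ⟨⟨U, hUF, hU1, hU2⟩⟩
  obtain ⟨⟨A, hAF, hA1, hA2⟩, hmax⟩ := Finite.exists_max
    (fun X : {A : Subgroup S // A ∈ F ∧ ⁅B, B⁆ ≤ A ∧ ¬ B ≤ A} =>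
      Nat.card (X.1 ⊓ B : Subgroup S))
  refine ⟨A, hAF, hA1, hA2, ?_⟩
  by_contra hnot
  obtain ⟨b, hb, hbN, hbA⟩ := exists_b hS B (Subgroup.normalizer (A : Set S)) hnot
  obtain ⟨P, hPe⟩ : ∃ P, P = (A ⊓ A.map (MulAut.conj b⁻¹).toMonoidHom) ⊔
      Subgroup.closure {g : S | ∃ a ∈ A, g = a * b⁻¹ * a⁻¹ * b} := ⟨_, rfl⟩
  obtain ⟨h1, h2, h3, h4, h5, -, -, -, -, h10⟩ :=
    H1Glaub.glauberman hS B (fun h => absurd h hp) A (hF A hAF) hA1 hnot b hb hbN hbA P hPe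
  have hPF := hrep A hAF b P hPe h1 h2 (h10 hp)
  have hBP : ¬ B ≤ P := fun h => h5.ne (inf_eq_right.mpr h)
  have hle := hmax ⟨P, hPF, h3, hBP⟩
  exact h4.ne (Subgroup.eq_of_le_of_card_ge h4.le hle)

theorem map_subtype_comm {S : Type*} [Group S] (D : Subgroup S) (A₀ : Subgroup ↥D)
    (h : IsMulCommutative A₀) : IsMulCommutative (A₀.map D.subtype) :=
  ⟨⟨by
    rintro ⟨_, x, hx, rfl⟩ ⟨_, y, hy, rfl⟩
    apply Subtype.ext
    have h1 := h.is_comm.comm ⟨x, hx⟩ ⟨y, hy⟩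
    have h2 := congrArg (fun t : A₀ => (D.subtype t.1)) h1
    simpa using h2⟩⟩

theorem subgroupOf_comm {S : Type*} [Group S] (P D : Subgroup S)
    (h : IsMulCommutative P) : IsMulCommutative (P.subgroupOf D) :=
  ⟨⟨by
    rintro ⟨x, hx⟩ ⟨y, hy⟩
    have h1 := h.is_comm.comm ⟨x.1, Subgroup.mem_subgroupOf.mp hx⟩
      ⟨y.1, Subgroup.mem_subgroupOf.mp hy⟩
    have h2 : (x : S) * y = y * x := congrArg Subtype.val h1
    apply Subtype.ext; apply Subtype.ext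
    exact h2⟩⟩

theorem star_le {S : Type*} [Group S] (D : Subgroup S) [hD : D.Normal] (A : Subgroup S)
    (hAD : A ≤ D) (b : S) :
    (A ⊓ A.map (MulAut.conj b⁻¹).toMonoidHom) ⊔
      Subgroup.closure {g : S | ∃ a ∈ A, g = a * b⁻¹ * a⁻¹ * b} ≤ D := by
  refine sup_le (inf_le_left.trans hAD) ?_
  rw [Subgroup.closure_le]
  rintro _ ⟨a, ha, rfl⟩
  have h1 : b⁻¹ * a⁻¹ * b⁻¹⁻¹ ∈ D := hD.conj_mem _ (D.inv_mem (hAD ha)) _
  have h2 := D.mul_mem (hAD ha) h1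
  have e : a * b⁻¹ * a⁻¹ * b = a * (b⁻¹ * a⁻¹ * b⁻¹⁻¹) := by group
  show a * b⁻¹ * a⁻¹ * b ∈ D
  rw [e]; exact h2

end Cfsg.Agent.H1GlaubFam
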