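import Mathlib
import Cfsg.Prelude.Def_PLocal
import Cfsg.Agent.Lib_helper1_GlaubFam
import Cfsg.Agent.Lib_helper1_SS
import Cfsg.Agent.Lib_helper1_Coprime
import Cfsg.Agent.Lib_helper7_SE2
import Cfsg.Agent.Lib_helper7_PCore

set_option autoImplicit false

/-! Glauberman's ZJ-theorem in an abstract form (for a family of abelian subgroups of a Sylow
subgroup that is closed under replacement and under injective endomorphisms). -/

namespace Cfsg.Agent.H1ZJ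

open scoped commutatorElement Pointwise

theorem quad {G : Type*} [Group G] (L A : Subgroup G) (hA : ∀ x ∈ A, ∀ y ∈ A, x * y = y * x)
    (h : ∀ l ∈ L, ∀ x ∈ A, l * x * l⁻¹ ∈ A) (a : G) (ha : a ∈ A) :
    ⁅⁅L, Subgroup.zpowers a⁆, Subgroup.zpowers a⁆ = ⊥ := by
  have hz : Subgroup.zpowers a ≤ A := (Subgroup.zpowers_le).mpr ha
  have h1 : ⁅L, Subgroup.zpowers a⁆ ≤ A := by
    rw [Subgroup.commutator_le]
    intro l hl x hx
    have h2 := A.mul_mem (h l hl x (hz hx)) (A.inv_mem (hz hx))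
    rw [commutatorElement_def]; exact h2
  rw [eq_bot_iff, Subgroup.commutator_le]
  intro u hu x hx
  rw [Subgroup.mem_bot, commutatorElement_eq_one_iff_mul_comm]
  exact hA u (h1 hu) x (hz hx)

theorem sInf_conj {G : Type*} [Group G] {p : ℕ} (P : Sylow p G) (𝒜 : Set (Subgroup G))
    (hF1 : ∀ U ∈ 𝒜, U ≤ (P : Subgroup G) ∧ ∀ x ∈ U, ∀ y ∈ U, x * y = y * x)
    (hF7 : ∀ U ∈ 𝒜, ∀ g : G, (∀ u ∈ U, g * u * g⁻¹ ∈ (P : Subgroup G)) →
      U.map (MulAut.conj g).toMonoidHom ∈ 𝒜) :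
    ∀ x ∈ (P : Subgroup G), ∀ z ∈ sInf 𝒜, x * z * x⁻¹ ∈ sInf 𝒜 := by
  intro x hx z hz
  rw [Subgroup.mem_sInf]
  intro U hU
  have h1 := hF7 U hU x⁻¹ (fun u hu =>
    (P : Subgroup G).mul_mem ((P : Subgroup G).mul_mem ((P : Subgroup G).inv_mem hx)
      ((hF1 U hU).1 hu)) (by simpa using hx))
  have h2 := (Subgroup.mem_sInf.mp hz) _ h1
  rw [Lib_helper7_Sylow.mem_map_conj] at h2
  simpa using h2

theorem claimX {G : Type*} [Group G] [Finite G] {p : ℕ} [Fact p.Prime]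
    (hst : ∀ (V : Subgroup G) [V.Normal], IsPGroup p V → Cfsg.IsPStableOn p V)
    (P : Sylow p G) (𝒜 : Set (Subgroup G))
    (hF1 : ∀ U ∈ 𝒜, U ≤ (P : Subgroup G) ∧ ∀ x ∈ U, ∀ y ∈ U, x * y = y * x)
    (hF7 : ∀ U ∈ 𝒜, ∀ g : G, (∀ u ∈ U, g * u * g⁻¹ ∈ (P : Subgroup G)) →
      U.map (MulAut.conj g).toMonoidHom ∈ 𝒜)
    (L : Subgroup G) [hLn : L.Normal] (hLp : IsPGroup p L) (Z₁ : Subgroup G)
    (hZ₁ : Z₁ ≤ sInf 𝒜) (hL : L = Subgroup.normalClosure (Z₁ : Set G))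
    (A : Subgroup G) (hA : A ∈ 𝒜) (hLNA : L ≤ Subgroup.normalizer (A : Set G)) : L ≤ A := by
  obtain ⟨hAP, hAc⟩ := hF1 A hA
  have hnorm : ∀ l ∈ L, ∀ x ∈ A, l * x * l⁻¹ ∈ A := fun l hl x hx =>
    (Subgroup.mem_normalizer_iff.mp (hLNA hl) x).mp hx
  have hZ₁L : Z₁ ≤ L := by rw [hL]; exact Subgroup.le_normalClosure
  have key : ∀ g : G, ∀ z ∈ Z₁, g * z * g⁻¹ ∈ A := by
    intro g z hz
    have hstL := hst L hLp
    have hD : A.map (MulAut.conj g⁻¹).toMonoidHom ≤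
        (P : Subgroup G) ⊔ Subgroup.centralizer (L : Set G) := by
      rintro _ ⟨a, ha, rfl⟩
      have h1 := hstL a (quad L A hAc hnorm a ha)
      have h2 : (QuotientGroup.mk (g⁻¹ * a * g⁻¹⁻¹) : G ⧸ Subgroup.centralizer (L : Set G)) ∈
          Cfsg.pCore p (G ⧸ Subgroup.centralizer (L : Set G)) := by
        have h := (Lib_helper7_PCore.pCore_normal
          (G := G ⧸ Subgroup.centralizer (L : Set G)) p).conj_mem _ h1 (QuotientGroup.mk g⁻¹)
        simpa using h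
      have h3 := Lib_helper7_PCore.pCore_le_sylow
        (P.mapSurjective (QuotientGroup.mk'_surjective (Subgroup.centralizer (L : Set G)))) h2
      rw [Sylow.coe_mapSurjective] at h3
      obtain ⟨x, hx, hxe⟩ := h3
      have h4 : x⁻¹ * (g⁻¹ * a * g⁻¹⁻¹) ∈ Subgroup.centralizer (L : Set G) :=
        QuotientGroup.eq.mp hxe
      have e : (MulAut.conj g⁻¹).toMonoidHom a = x * (x⁻¹ * (g⁻¹ * a * g⁻¹⁻¹)) := by
        simp [MulAut.conj_apply]
      rw [e]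
      exact Subgroup.mul_mem _ (Subgroup.mem_sup_left hx) (Subgroup.mem_sup_right h4)
    have hDp : IsPGroup p (A.map (MulAut.conj g⁻¹).toMonoidHom) :=
      (P.isPGroup'.to_le hAP).map _
    obtain ⟨w, hw, hwD⟩ := Lib_helper7_SE2.exists_conj_le_of_le P _ le_sup_left _ hDp hD
    have hw' : w ∈ (((P : Subgroup G) ⊔ Subgroup.centralizer (L : Set G) : Subgroup G) :
        Set G) := hw
    rw [Subgroup.mul_normal] at hw'
    obtain ⟨x, hx, c, hc, rfl⟩ := Set.mem_mul.mp hw'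
    have h5 : ∀ a ∈ A, (c * g⁻¹) * a * (c * g⁻¹)⁻¹ ∈ (P : Subgroup G) := by
      intro a ha
      have h6 := hwD _ ⟨a, ha, rfl⟩
      have h7 := (P : Subgroup G).mul_mem
        ((P : Subgroup G).mul_mem ((P : Subgroup G).inv_mem hx) h6) hx
      have e : (c * g⁻¹) * a * (c * g⁻¹)⁻¹ =
          x⁻¹ * (x * c * ((MulAut.conj g⁻¹).toMonoidHom a) * (x * c)⁻¹) * x := by
        simp [MulAut.conj_apply, mul_assoc]
      rw [e]; exact h7
    have h8 := hF7 A hA (c * g⁻¹) h5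
    have h9 : z ∈ A.map (MulAut.conj (c * g⁻¹)).toMonoidHom :=
      (Subgroup.mem_sInf.mp (hZ₁ hz)) _ h8
    rw [Lib_helper7_Sylow.mem_map_conj] at h9
    have hcz : c * z = z * c := ((Subgroup.mem_centralizer_iff.mp hc) z (hZ₁L hz)).symm
    have e : g * z * g⁻¹ = (c * g⁻¹)⁻¹ * z * (c * g⁻¹) := by
      calc g * z * g⁻¹ = g * c⁻¹ * (c * z) * g⁻¹ := by group
        _ = g * c⁻¹ * (z * c) * g⁻¹ := by rw [hcz]
        _ = _ := by group
    rw [e]; exact h9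
  rw [hL]
  show Subgroup.closure (Group.conjugatesOfSet (Z₁ : Set G)) ≤ A
  rw [Subgroup.closure_le]
  intro y hy
  obtain ⟨z, hz, hconj⟩ := Group.mem_conjugatesOfSet_iff.mp hy
  obtain ⟨g, rfl⟩ := isConj_iff.mp hconj
  exact key g z hz

theorem zj_abs {G : Type*} [Group G] [Finite G] {p : ℕ} [Fact p.Prime]
    (hst : ∀ (V : Subgroup G) [V.Normal], IsPGroup p V → Cfsg.IsPStableOn p V)
    (P : Sylow p G) (𝒜 : Set (Subgroup G))
    (hF1 : ∀ U ∈ 𝒜, U ≤ (P : Subgroup G) ∧ ∀ x ∈ U, ∀ y ∈ U, x * y = y * x)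
    (hF5 : ∀ L : Subgroup G, L.Normal → L ≤ (P : Subgroup G) →
      (∃ U ∈ 𝒜, ⁅L, L⁆ ≤ U ∧ ¬ L ≤ U) →
      ∃ A ∈ 𝒜, ¬ L ≤ A ∧ L ≤ Subgroup.normalizer (A : Set G))
    (hF7 : ∀ U ∈ 𝒜, ∀ g : G, (∀ u ∈ U, g * u * g⁻¹ ∈ (P : Subgroup G)) →
      U.map (MulAut.conj g).toMonoidHom ∈ 𝒜) :
    ∀ (n : ℕ) (B : Subgroup G), Nat.card B = n → B.Normal → IsPGroup p B →
      (sInf 𝒜 ⊓ B).Normal := by
  intro n
  induction n using Nat.strong_induction_on with
  | _ n ih =>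
  intro B hBn hBnorm hBp
  have hZP := sInf_conj P 𝒜 hF1 hF7
  obtain ⟨L, hLe⟩ : ∃ L, L = Subgroup.normalClosure ((sInf 𝒜 ⊓ B : Subgroup G) : Set G) :=
    ⟨_, rfl⟩
  have hLn : L.Normal := hLe ▸ Subgroup.normalClosure_normal
  have hLB : L ≤ B := by rw [hLe]; exact Subgroup.normalClosure_le_normal inf_le_right
  have hZ1L : sInf 𝒜 ⊓ B ≤ L := by rw [hLe]; exact Subgroup.le_normalClosure
  suffices hLZ : L ≤ sInf 𝒜 by
    have h : sInf 𝒜 ⊓ B = L := le_antisymm hZ1L (le_inf hLZ hLB)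
    rw [h]; exact hLn
  apply le_sInf
  intro U hU
  by_contra hLU
  have hLp : IsPGroup p L := hBp.to_le hLB
  have hLP : L ≤ (P : Subgroup G) := Lib_helper1_SS.normal_pgroup_le_sylow P L hLp
  have hLne : L ≠ ⊥ := fun h => hLU (h ▸ bot_le)
  have hL'n : (⁅L, L⁆).Normal := Subgroup.commutator_normal L L
  have hL'le : ⁅L, L⁆ ≤ L := Subgroup.commutator_le_left L L
  have hL'lt : Nat.card (⁅L, L⁆ : Subgroup G) < n := by
    have h1 : ⁅L, L⁆ ≠ L := Lib_helper1_Coprime.commutator_ne_self_of_pgroups p L L hLp hLp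
      Subgroup.le_normalizer hLne
    have h2 : Nat.card (⁅L, L⁆ : Subgroup G) < Nat.card L := by
      by_contra hge
      exact h1 (Subgroup.eq_of_le_of_card_ge hL'le (not_lt.mp hge))
    have h3 : Nat.card L ≤ Nat.card B := Subgroup.card_le_of_le hLB
    omega
  have hN : (sInf 𝒜 ⊓ ⁅L, L⁆).Normal := ih _ hL'lt ⁅L, L⁆ rfl hL'n (hLp.to_le hL'le)
  have hL'Z : ⁅L, L⁆ ≤ sInf 𝒜 := by
    obtain ⟨N, hNe⟩ : ∃ N, N = sInf 𝒜 ⊓ ⁅L, L⁆ := ⟨_, rfl⟩
    rw [← hNe] at hN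
    haveI := hN
    haveI hmapn : (L.map (QuotientGroup.mk' N)).Normal :=
      hLn.map _ (QuotientGroup.mk'_surjective N)
    have hZC : sInf 𝒜 ⊓ B ≤ (Subgroup.centralizer
        ((L.map (QuotientGroup.mk' N) : Subgroup (G ⧸ N)) : Set (G ⧸ N))).comap
          (QuotientGroup.mk' N) := by
      intro z hz
      rw [Subgroup.mem_comap, Subgroup.mem_centralizer_iff]
      rintro _ ⟨y, hy, rfl⟩
      have hzZ := (Subgroup.mem_inf.mp hz).1
      have hcomm : ⁅z, y⁆ ∈ N := by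
        rw [hNe]
        refine Subgroup.mem_inf.mpr ⟨?_, Subgroup.commutator_mem_commutator (hZ1L hz) hy⟩
        have h1 := hZP y (hLP hy) z⁻¹ (inv_mem hzZ)
        have h2 := (sInf 𝒜).mul_mem hzZ h1
        have e : ⁅z, y⁆ = z * (y * z⁻¹ * y⁻¹) := by rw [commutatorElement_def]; group
        rw [e]; exact h2
      have h3 : (QuotientGroup.mk' N) ⁅z, y⁆ = 1 := (QuotientGroup.eq_one_iff _).mpr hcomm
      rw [map_commutatorElement, commutatorElement_eq_one_iff_mul_comm] at h3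
      exact h3.symm
    have hLC : L ≤ (Subgroup.centralizer
        ((L.map (QuotientGroup.mk' N) : Subgroup (G ⧸ N)) : Set (G ⧸ N))).comap
          (QuotientGroup.mk' N) := by
      exact hLe.le.trans (Subgroup.normalClosure_le_normal hZC)
    rw [Subgroup.commutator_le]
    intro x hx y hy
    have h4 := hLC hx
    rw [Subgroup.mem_comap, Subgroup.mem_centralizer_iff] at h4
    have h5 := h4 _ ⟨y, hy, rfl⟩
    have h6 : (QuotientGroup.mk' N) ⁅x, y⁆ = 1 := by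
      rw [map_commutatorElement, commutatorElement_eq_one_iff_mul_comm]
      exact h5.symm
    have h7 : ⁅x, y⁆ ∈ N := (QuotientGroup.eq_one_iff _).mp h6
    rw [hNe] at h7; exact (Subgroup.mem_inf.mp h7).1
  obtain ⟨A, hA, hLA, hLNA⟩ := hF5 L hLn hLP ⟨U, hU, hL'Z.trans (sInf_le hU), hLU⟩
  exact hLA (claimX hst P 𝒜 hF1 hF7 L hLp (sInf 𝒜 ⊓ B) inf_le_left hLe A hA hLNA)

theorem zj_final {G : Type*} [Group G] [Finite G] {p : ℕ} [Fact p.Prime]
    (hc : Subgroup.centralizer (Cfsg.pCore p G : Set G) ≤ Cfsg.pCore p G)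
    (hst : ∀ (V : Subgroup G) [V.Normal], IsPGroup p V → Cfsg.IsPStableOn p V)
    (P : Sylow p G) (𝒜 : Set (Subgroup G)) (hne : 𝒜.Nonempty)
    (hF1 : ∀ U ∈ 𝒜, U ≤ (P : Subgroup G) ∧ ∀ x ∈ U, ∀ y ∈ U, x * y = y * x)
    (hF5 : ∀ L : Subgroup G, L.Normal → L ≤ (P : Subgroup G) →
      (∃ U ∈ 𝒜, ⁅L, L⁆ ≤ U ∧ ¬ L ≤ U) →
      ∃ A ∈ 𝒜, ¬ L ≤ A ∧ L ≤ Subgroup.normalizer (A : Set G))
    (hF8 : ∀ U ∈ 𝒜, ∀ f : G →* G, Function.Injective f → U.map f ≤ (P : Subgroup G) →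
      U.map f ∈ 𝒜) :
    (sInf 𝒜).Characteristic := by
  have hF7 : ∀ U ∈ 𝒜, ∀ g : G, (∀ u ∈ U, g * u * g⁻¹ ∈ (P : Subgroup G)) →
      U.map (MulAut.conj g).toMonoidHom ∈ 𝒜 := by
    intro U hU g hg
    apply hF8 U hU _ (MulAut.conj g).injective
    rintro _ ⟨u, hu, rfl⟩
    exact hg u hu
  obtain ⟨U₀, hU₀⟩ := hne
  have hZU : sInf 𝒜 ≤ U₀ := sInf_le hU₀
  have hZc : ∀ x ∈ sInf 𝒜, ∀ y ∈ sInf 𝒜, x * y = y * x := fun x hx y hy =>
    (hF1 U₀ hU₀).2 x (hZU hx) y (hZU hy)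
  have hZnP := sInf_conj P 𝒜 hF1 hF7
  have hQn := Lib_helper7_PCore.pCore_normal (G := G) p
  have hQp := Lib_helper7_PCore.pCore_isPGroup (G := G) p
  have hQP : Cfsg.pCore p G ≤ P := Lib_helper7_PCore.pCore_le_sylow P
  have hZQ : sInf 𝒜 ≤ Cfsg.pCore p G := by
    intro z hz
    have hq := quad (Cfsg.pCore p G) (sInf 𝒜) hZc (fun l hl x hx => hZnP l (hQP hl) x hx) z hz
    have h1 := hst (Cfsg.pCore p G) hQp z hq
    have hKp : IsPGroup p ((Cfsg.pCore p (G ⧸ Subgroup.centralizer (Cfsg.pCore p G : Set G))).comap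
        (QuotientGroup.mk' (Subgroup.centralizer (Cfsg.pCore p G : Set G)))) := by
      apply IsPGroup.comap_of_ker_isPGroup (Lib_helper7_PCore.pCore_isPGroup p)
      rw [QuotientGroup.ker_mk']
      exact hQp.to_le hc
    have hKn : ((Cfsg.pCore p (G ⧸ Subgroup.centralizer (Cfsg.pCore p G : Set G))).comap
        (QuotientGroup.mk' (Subgroup.centralizer (Cfsg.pCore p G : Set G)))).Normal :=
      (Lib_helper7_PCore.pCore_normal p).comap _
    exact Lib_helper7_PCore.le_pCore hKn hKp (Subgroup.mem_comap.mpr h1)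
  have hZn : (sInf 𝒜).Normal := by
    have h := zj_abs hst P 𝒜 hF1 hF5 hF7 _ (Cfsg.pCore p G) rfl hQn hQp
    rwa [inf_eq_left.mpr hZQ] at h
  rw [Subgroup.characteristic_iff_map_le]
  intro φ
  rintro _ ⟨z, hz, rfl⟩
  have hDp : IsPGroup p ((P : Subgroup G).map φ.symm.toMonoidHom) := P.isPGroup'.map _
  obtain ⟨v, -, hv⟩ := Lib_helper7_SE2.exists_conj_le_of_le P ⊤ le_top _ hDp le_top
  rw [Subgroup.mem_sInf]
  intro U hU
  have hθ := hF8 U hU ((MulAut.conj v).toMonoidHom.comp φ.symm.toMonoidHom)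
    ((MulAut.conj v).injective.comp φ.symm.injective) (by
      rintro _ ⟨u, hu, rfl⟩
      exact hv _ ⟨u, (hF1 U hU).1 hu, rfl⟩)
  have hz' : v * z * v⁻¹ ∈ sInf 𝒜 := hZn.conj_mem z hz v
  obtain ⟨u, hu, hue⟩ := (Subgroup.mem_sInf.mp hz') _ hθ
  have h1 : v * φ.symm u * v⁻¹ = v * z * v⁻¹ := by simpa using hue
  have h2 : φ.symm u = z := by simpa using h1
  have h3 : u = φ z := by rw [← h2]; simp
  show φ z ∈ U
  rw [← h3]; exact hu

/-! ### The two families -/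

theorem map_comm {G H : Type*} [Group G] [Group H] (f : G →* H) (U : Subgroup G)
    (h : IsMulCommutative U) : IsMulCommutative (U.map f) :=
  ⟨⟨by
    rintro ⟨_, x, hx, rfl⟩ ⟨_, y, hy, rfl⟩
    apply Subtype.ext
    have h1 := h.is_comm.comm ⟨x, hx⟩ ⟨y, hy⟩
    have h2 : x * y = y * x := congrArg Subtype.val h1
    show f x * f y = f y * f x
    rw [← map_mul, h2, map_mul]⟩⟩

theorem comm_elem {G : Type*} [Group G] (U : Subgroup G) (h : IsMulCommutative U) :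
    ∀ x ∈ U, ∀ y ∈ U, x * y = y * x := fun x hx y hy =>
  congrArg Subtype.val (h.is_comm.comm ⟨x, hx⟩ ⟨y, hy⟩)

theorem comm_of_elem {G : Type*} [Group G] (U : Subgroup G)
    (h : ∀ x ∈ U, ∀ y ∈ U, x * y = y * x) : IsMulCommutative U :=
  ⟨⟨fun x y => Subtype.ext (h x.1 x.2 y.1 y.2)⟩⟩

theorem closure_insert_comm {T : Type*} [Group T] (U : Subgroup T) (hU : IsMulCommutative U)
    (z : T) (hz : ∀ u ∈ U, u * z = z * u) :
    ∀ x ∈ Subgroup.closure ((U : Set T) ∪ {z}), ∀ y ∈ Subgroup.closure ((U : Set T) ∪ {z}),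
      x * y = y * x := by
  have hk : ∀ x ∈ ((U : Set T) ∪ {z}), ∀ y ∈ ((U : Set T) ∪ {z}), x * y = y * x := by
    rintro x (hx | hx) y (hy | hy)
    · exact comm_elem U hU x hx y hy
    · rw [Set.mem_singleton_iff] at hy; subst hy; exact hz x hx
    · rw [Set.mem_singleton_iff] at hx; subst hx; exact (hz y hy).symm
    · rw [Set.mem_singleton_iff] at hx hy; subst hx; subst hy; rfl
  have hle : Subgroup.closure ((U : Set T) ∪ {z}) ≤
      Subgroup.centralizer ((U : Set T) ∪ {z}) := by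
    rw [Subgroup.closure_le]
    intro x hx
    rw [SetLike.mem_coe, Subgroup.mem_centralizer_iff]
    intro h hh
    exact hk h hh x hx
  have hle2 : Subgroup.closure ((U : Set T) ∪ {z}) ≤
      Subgroup.centralizer ((Subgroup.closure ((U : Set T) ∪ {z}) : Subgroup T) : Set T) := by
    rw [Subgroup.closure_le]
    intro x hx
    rw [SetLike.mem_coe, Subgroup.mem_centralizer_iff]
    intro h hh
    have h1 := Subgroup.mem_centralizer_iff.mp (hle hh) x hx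
    exact h1.symm
  intro x hx y hy
  exact (Subgroup.mem_centralizer_iff.mp (hle2 hy) x hx)

theorem exists_maxAb (T : Type*) [Group T] [Finite T] : (Cfsg.maxAbelianSubgroups T).Nonempty := by
  haveI : Nonempty {A : Subgroup T // IsMulCommutative A} :=
    ⟨⟨⊥, comm_of_elem _ (by
      intro x hx y hy
      rw [Subgroup.mem_bot] at hx hy; rw [hx, hy])⟩⟩
  obtain ⟨⟨A, hA⟩, hmax⟩ := Finite.exists_max
    (fun X : {A : Subgroup T // IsMulCommutative A} => Nat.card (X.1 : Subgroup T))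
  exact ⟨A, hA, fun B hB => hmax ⟨B, hB⟩⟩

theorem mem_maxAb_of_centralizes {T : Type*} [Group T] [Finite T] (U : Subgroup T)
    (hU : U ∈ Cfsg.maxAbelianSubgroups T) (z : T) (hz : ∀ u ∈ U, u * z = z * u) : z ∈ U := by
  have hVc := comm_of_elem _ (closure_insert_comm U hU.1 z hz)
  have hUV : U ≤ Subgroup.closure ((U : Set T) ∪ {z}) := fun u hu =>
    Subgroup.subset_closure (Or.inl hu)
  have h := Subgroup.eq_of_le_of_card_ge hUV (hU.2 _ hVc)
  rw [h]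
  exact Subgroup.subset_closure (Or.inr rfl)

theorem ctA_T (T : Type*) [Group T] [Finite T] (x : T) :
    x ∈ Cfsg.thompsonSubgroupA T ⊓ Subgroup.centralizer (Cfsg.thompsonSubgroupA T : Set T) ↔
      ∀ U ∈ Cfsg.maxAbelianSubgroups T, x ∈ U := by
  constructor
  · intro hx U hU
    obtain ⟨hxJ, hxC⟩ := Subgroup.mem_inf.mp hx
    apply mem_maxAb_of_centralizes U hU
    intro u hu
    exact Subgroup.mem_centralizer_iff.mp hxC u (le_sSup (α := Subgroup T) hU hu)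
  · intro hx
    obtain ⟨U₀, hU₀⟩ := exists_maxAb T
    refine Subgroup.mem_inf.mpr ⟨le_sSup (α := Subgroup T) hU₀ (hx U₀ hU₀), ?_⟩
    have hle : Cfsg.thompsonSubgroupA T ≤ Subgroup.centralizer ({x} : Set T) := by
      apply sSup_le
      intro U hU u hu
      rw [Subgroup.mem_centralizer_iff]
      intro h hh
      rw [Set.mem_singleton_iff] at hh; subst hh
      exact comm_elem U hU.1 h (hx U hU) u hu
    rw [Subgroup.mem_centralizer_iff]
    intro h hh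
    exact (Subgroup.mem_centralizer_iff.mp (hle hh) x rfl).symm

theorem map_subtype_sInf {G : Type*} [Group G] (S : Subgroup G) (W : Subgroup ↥S)
    (M : Set (Subgroup ↥S)) (hne : M.Nonempty) (hW : ∀ x, x ∈ W ↔ ∀ U ∈ M, x ∈ U) :
    W.map S.subtype = sInf ((fun A : Subgroup ↥S => A.map S.subtype) '' M) := by
  ext x
  rw [Subgroup.mem_sInf]
  constructor
  · rintro ⟨x₀, hx₀, rfl⟩ _ ⟨U, hU, rfl⟩
    exact Subgroup.mem_map_of_mem _ ((hW x₀).mp hx₀ U hU)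
  · intro hx
    obtain ⟨U₀, hU₀⟩ := hne
    obtain ⟨x₀, hx₀, rfl⟩ := hx _ ⟨U₀, hU₀, rfl⟩
    refine Subgroup.mem_map_of_mem _ ((hW x₀).mpr ?_)
    intro U hU
    obtain ⟨u, hu, hue⟩ := hx _ ⟨U, hU, rfl⟩
    have h1 : u = x₀ := S.subtype_injective hue
    rw [← h1]; exact hu

theorem ctA_eq {G : Type*} [Group G] [Finite G] (S : Subgroup G) :
    Cfsg.centerThompsonAOf S =
      sInf ((fun A : Subgroup ↥S => A.map S.subtype) '' Cfsg.maxAbelianSubgroups ↥S) := by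
  rw [← map_subtype_sInf S _ _ (exists_maxAb ↥S) (ctA_T ↥S)]
  ext x
  constructor
  · intro hx
    obtain ⟨hxJ, hxC⟩ := Subgroup.mem_inf.mp hx
    obtain ⟨x₀, hx₀, rfl⟩ := hxJ
    refine Subgroup.mem_map_of_mem _ (Subgroup.mem_inf.mpr ⟨hx₀, ?_⟩)
    rw [Subgroup.mem_centralizer_iff]
    intro h hh
    have h1 := Subgroup.mem_centralizer_iff.mp hxC (S.subtype h)
      (Subgroup.mem_map_of_mem _ hh)
    exact S.subtype_injective (by simpa using h1)
  · rintro ⟨x₀, hx₀, rfl⟩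
    obtain ⟨hJ, hC⟩ := Subgroup.mem_inf.mp hx₀
    refine Subgroup.mem_inf.mpr ⟨Subgroup.mem_map_of_mem _ hJ, ?_⟩
    rw [Subgroup.mem_centralizer_iff]
    rintro _ ⟨h, hh, rfl⟩
    have h1 := Subgroup.mem_centralizer_iff.mp hC h hh
    have h2 := congrArg S.subtype h1
    simpa using h2

theorem F5_of_family {G : Type*} [Group G] [Finite G] {p : ℕ} [Fact p.Prime] (hp : p ≠ 2)
    (S : Subgroup G) (hS : IsPGroup p S) (M : Set (Subgroup ↥S))
    (hM : ∀ A ∈ M, IsMulCommutative A)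
    (hrep : ∀ A ∈ M, ∀ P : Subgroup ↥S, Nat.card P = Nat.card A → IsMulCommutative P →
      Monoid.exponent P ∣ Monoid.exponent A → P ∈ M)
    (L : Subgroup G) [hLn : L.Normal] (hLS : L ≤ S)
    (hU : ∃ U ∈ M, ⁅L, L⁆ ≤ U.map S.subtype ∧ ¬ L ≤ U.map S.subtype) :
    ∃ A ∈ M, ¬ L ≤ A.map S.subtype ∧
      L ≤ Subgroup.normalizer ((A.map S.subtype : Subgroup G) : Set G) := by
  obtain ⟨U, hUM, hU1, hU2⟩ := hU
  have hU' : ∃ U ∈ M, ⁅L.subgroupOf S, L.subgroupOf S⁆ ≤ U ∧ ¬ L.subgroupOf S ≤ U := by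
    refine ⟨U, hUM, ?_, ?_⟩
    · rw [Subgroup.commutator_le]
      intro x hx y hy
      have h1 : ⁅(x : G), (y : G)⁆ ∈ U.map S.subtype :=
        hU1 (Subgroup.commutator_mem_commutator (Subgroup.mem_subgroupOf.mp hx)
          (Subgroup.mem_subgroupOf.mp hy))
      obtain ⟨u, hu, hue⟩ := h1
      have h2 : u = ⁅x, y⁆ := S.subtype_injective (by rw [hue]; simp [commutatorElement_def])
      rw [← h2]; exact hu
    · intro hle
      apply hU2
      intro l hl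
      exact ⟨⟨l, hLS hl⟩, hle (Subgroup.mem_subgroupOf.mpr hl), rfl⟩
  obtain ⟨A, hAM, -, hA2, hA3⟩ := H1GlaubFam.replacement_family hS hp M hM
    (fun A hA b P _ h1 h2 h3 => hrep A hA P h1 h2 h3) (L.subgroupOf S) hU'
  refine ⟨A, hAM, ?_, ?_⟩
  · intro hle
    apply hA2
    intro x hx
    obtain ⟨a, ha, hae⟩ := hle (Subgroup.mem_subgroupOf.mp hx)
    have h1 : a = x := S.subtype_injective hae
    rw [← h1]; exact ha
  · intro l hl
    apply Lib_helper1_Basic.mem_normalizer_of_conj_le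
    rintro _ ⟨a, ha, rfl⟩
    have hlN := hA3 (Subgroup.mem_subgroupOf.mpr hl : (⟨l, hLS hl⟩ : ↥S) ∈ L.subgroupOf S)
    have h1 := (Subgroup.mem_normalizer_iff.mp hlN a).mp ha
    exact ⟨_, h1, by simp⟩

theorem F8_ab {G : Type*} [Group G] [Finite G] (S : Subgroup G) :
    ∀ U ∈ ((fun A : Subgroup ↥S => A.map S.subtype) '' Cfsg.maxAbelianSubgroups ↥S),
      ∀ f : G →* G, Function.Injective f → U.map f ≤ S →
      U.map f ∈ ((fun A : Subgroup ↥S => A.map S.subtype) '' Cfsg.maxAbelianSubgroups ↥S) := by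
  rintro _ ⟨U₀, hU₀, rfl⟩ f hf hle
  refine ⟨((U₀.map S.subtype).map f).subgroupOf S,
    ⟨H1GlaubFam.subgroupOf_comm _ _ (map_comm f _ (map_comm _ _ hU₀.1)), ?_⟩,
    Subgroup.map_subgroupOf_eq_of_le hle⟩
  intro B₀ hB₀
  rw [Lib_helper1_Hall.card_subgroupOf_of_le hle, Subgroup.card_map_of_injective hf,
    Subgroup.card_map_of_injective S.subtype_injective]
  exact hU₀.2 B₀ hB₀

/-- Glauberman's ZJ-theorem for the abelian-version Thompson subgroup. -/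
theorem zj_A {G : Type*} [Group G] [Finite G] {p : ℕ} [Fact p.Prime] (hp : p ≠ 2)
    (hc : Subgroup.centralizer (Cfsg.pCore p G : Set G) ≤ Cfsg.pCore p G)
    (hst : ∀ (V : Subgroup G) [V.Normal], IsPGroup p V → Cfsg.IsPStableOn p V)
    (S : Sylow p G) : (Cfsg.centerThompsonAOf (S : Subgroup G)).Characteristic := by
  rw [ctA_eq]
  apply zj_final hc hst S _ ?ne ?F1 ?F5 (F8_ab (S : Subgroup G))
  case ne =>
    obtain ⟨U₀, hU₀⟩ := exists_maxAb ↥(S : Subgroup G)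
    exact ⟨_, U₀, hU₀, rfl⟩
  case F1 =>
    rintro _ ⟨U₀, hU₀, rfl⟩
    exact ⟨Subgroup.map_subtype_le U₀, comm_elem _ (map_comm _ _ hU₀.1)⟩
  case F5 =>
    intro L hLn hLS hU
    obtain ⟨_, ⟨U₀, hU₀, rfl⟩, h1, h2⟩ := hU
    obtain ⟨A₀, hA₀, h3, h4⟩ := F5_of_family hp (S : Subgroup G) S.isPGroup'
      (Cfsg.maxAbelianSubgroups ↥(S : Subgroup G)) (fun A hA => hA.1)
      (fun A hA P hcard hcomm _ => ⟨hcomm, fun B hB => hcard ▸ hA.2 B hB⟩) L hLS
      ⟨U₀, hU₀, h1, h2⟩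
    exact ⟨_, ⟨A₀, hA₀, rfl⟩, h3, h4⟩

end Cfsg.Agent.H1ZJ
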