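import Mathlib
import Cfsg.Prelude.Def_PLocal
import Cfsg.Agent.Lib_helper1_ZJ

set_option autoImplicit false

/-! Variants of the ZJ-theorem machinery with the stability hypothesis restricted to elements
of the Sylow subgroup, and functoriality of `Z(J(T))`. -/

namespace Cfsg.Agent.H1ZJ2

open scoped commutatorElement Pointwise
open Cfsg.Agent.H1ZJ

theorem claimX2 {G : Type*} [Group G] [Finite G] {p : ℕ} [Fact p.Prime]
    (P : Sylow p G)
    (hst : ∀ (V : Subgroup G) [V.Normal], IsPGroup p V → ∀ a ∈ (P : Subgroup G),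
      ⁅⁅V, Subgroup.zpowers a⁆, Subgroup.zpowers a⁆ = ⊥ →
      (QuotientGroup.mk a : G ⧸ Subgroup.centralizer (V : Set G)) ∈
        Cfsg.pCore p (G ⧸ Subgroup.centralizer (V : Set G))) (𝒜 : Set (Subgroup G))
    (hF1 : ∀ U ∈ 𝒜, U ≤ (P : Subgroup G) ∧ ∀ x ∈ U, ∀ y ∈ U, x * y = y * x)
    (hF7 : ∀ U ∈ 𝒜, ∀ g : G, (∀ u ∈ U, g * u * g⁻¹ ∈ (P : Subgroup G)) →
      U.map (MulAut.conj g).toMonoidHom ∈ 𝒜)
    (L : Subgroup G) [hLn : L.Normal] (hLp : IsPGroup p L) (Z₁ : Subgroup G)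
    (hZ₁ : Z₁ ≤ sInf 𝒜) (hL : L = Subgroup.normalClosure (Z₁ : Set G))
    (A : Subgroup G) (hA : A ∈ 𝒜) (hLNA : L ≤ Subgroup.normalizer (A : Set G)) : L ≤ A := by
  obtain ⟨hAP, hAc⟩ := hF1 A hA
  have hnorm : ∀ l ∈ L, ∀ x ∈ A, l * x * l⁻¹ ∈ A := fun l hl x hx =>
    (Subgroup.mem_normalizer_iff.mp (hLNA hl) x).mp hx
  have hZ₁L : Z₁ ≤ L := by rw [hL]; exact Subgroup.le_normalClosure
  have key : ∀ g : G, ∀ z ∈ Z₁, g * z * g⁻¹ ∈ A := by
    intro g z hz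
    have hD : A.map (MulAut.conj g⁻¹).toMonoidHom ≤
        (P : Subgroup G) ⊔ Subgroup.centralizer (L : Set G) := by
      rintro _ ⟨a, ha, rfl⟩
      have h1 := hst L hLp a (hAP ha) (quad L A hAc hnorm a ha)
      have h2 : (QuotientGroup.mk (g⁻¹ * a * g⁻¹⁻¹) : G ⧸ Subgroup.centralizer (L : Set G)) ∈
          Cfsg.pCore p (G ⧸ Subgroup.centralizer (L : Set G)) := by
        have h := (Lib_helper7_PCore.pCore_normal
          (G := G ⧸ Subgroup.centralizer (L : Set G)) p).conj_mem _ h1 (QuotientGroup.mk g⁻¹)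
        simpa using h
      have h3 := Lib_helper7_PCore.pCore_le_sylow
        (P.mapSurjective (QuotientGroup.mk'_surjective (Subgroup.centralizer (L : Set G)))) h2
      rw [Sylow.coe_mapSurjective] at h3
      obtain ⟨x, hx, hxe⟩ := h3
      have h4 : x⁻¹ * (g⁻¹ * a * g⁻¹⁻¹) ∈ Subgroup.centralizer (L : Set G) :=
        QuotientGroup.eq.mp hxe
      have e : (MulAut.conj g⁻¹).toMonoidHom a = x * (x⁻¹ * (g⁻¹ * a * g⁻¹⁻¹)) := by
        simp [MulAut.conj_apply]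
      rw [e]
      exact Subgroup.mul_mem _ (Subgroup.mem_sup_left hx) (Subgroup.mem_sup_right h4)
    have hDp : IsPGroup p (A.map (MulAut.conj g⁻¹).toMonoidHom) :=
      (P.isPGroup'.to_le hAP).map _
    obtain ⟨w, hw, hwD⟩ := Lib_helper7_SE2.exists_conj_le_of_le P _ le_sup_left _ hDp hD
    have hw' : w ∈ (((P : Subgroup G) ⊔ Subgroup.centralizer (L : Set G) : Subgroup G) :
        Set G) := hw
    rw [Subgroup.mul_normal] at hw'
    obtain ⟨x, hx, c, hc, rfl⟩ := Set.mem_mul.mp hw'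
    have h5 : ∀ a ∈ A, (c * g⁻¹) * a * (c * g⁻¹)⁻¹ ∈ (P : Subgroup G) := by
      intro a ha
      have h6 := hwD _ ⟨a, ha, rfl⟩
      have h7 := (P : Subgroup G).mul_mem
        ((P : Subgroup G).mul_mem ((P : Subgroup G).inv_mem hx) h6) hx
      have e : (c * g⁻¹) * a * (c * g⁻¹)⁻¹ =
          x⁻¹ * (x * c * ((MulAut.conj g⁻¹).toMonoidHom a) * (x * c)⁻¹) * x := by
        simp [MulAut.conj_apply, mul_assoc]
      rw [e]; exact h7
    have h8 := hF7 A hA (c * g⁻¹) h5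
    have h9 : z ∈ A.map (MulAut.conj (c * g⁻¹)).toMonoidHom :=
      (Subgroup.mem_sInf.mp (hZ₁ hz)) _ h8
    rw [Lib_helper7_Sylow.mem_map_conj] at h9
    have hcz : c * z = z * c := ((Subgroup.mem_centralizer_iff.mp hc) z (hZ₁L hz)).symm
    have e : g * z * g⁻¹ = (c * g⁻¹)⁻¹ * z * (c * g⁻¹) := by
      calc g * z * g⁻¹ = g * c⁻¹ * (c * z) * g⁻¹ := by group
        _ = g * c⁻¹ * (z * c) * g⁻¹ := by rw [hcz]
        _ = _ := by group
    rw [e]; exact h9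
  rw [hL]
  show Subgroup.closure (Group.conjugatesOfSet (Z₁ : Set G)) ≤ A
  rw [Subgroup.closure_le]
  intro y hy
  obtain ⟨z, hz, hconj⟩ := Group.mem_conjugatesOfSet_iff.mp hy
  obtain ⟨g, rfl⟩ := isConj_iff.mp hconj
  exact key g z hz

theorem zj_abs2 {G : Type*} [Group G] [Finite G] {p : ℕ} [Fact p.Prime]
    (P : Sylow p G)
    (hst : ∀ (V : Subgroup G) [V.Normal], IsPGroup p V → ∀ a ∈ (P : Subgroup G),
      ⁅⁅V, Subgroup.zpowers a⁆, Subgroup.zpowers a⁆ = ⊥ →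
      (QuotientGroup.mk a : G ⧸ Subgroup.centralizer (V : Set G)) ∈
        Cfsg.pCore p (G ⧸ Subgroup.centralizer (V : Set G))) (𝒜 : Set (Subgroup G))
    (hF1 : ∀ U ∈ 𝒜, U ≤ (P : Subgroup G) ∧ ∀ x ∈ U, ∀ y ∈ U, x * y = y * x)
    (hF5 : ∀ L : Subgroup G, L.Normal → L ≤ (P : Subgroup G) →
      (∃ U ∈ 𝒜, ⁅L, L⁆ ≤ U ∧ ¬ L ≤ U) →
      ∃ A ∈ 𝒜, ¬ L ≤ A ∧ L ≤ Subgroup.normalizer (A : Set G))
    (hF7 : ∀ U ∈ 𝒜, ∀ g : G, (∀ u ∈ U, g * u * g⁻¹ ∈ (P : Subgroup G)) →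
      U.map (MulAut.conj g).toMonoidHom ∈ 𝒜) :
    ∀ (n : ℕ) (B : Subgroup G), Nat.card B = n → B.Normal → IsPGroup p B →
      (sInf 𝒜 ⊓ B).Normal := by
  intro n
  induction n using Nat.strong_induction_on with
  | _ n ih =>
  intro B hBn hBnorm hBp
  have hZP := sInf_conj P 𝒜 hF1 hF7
  obtain ⟨L, hLe⟩ : ∃ L, L = Subgroup.normalClosure ((sInf 𝒜 ⊓ B : Subgroup G) : Set G) :=
    ⟨_, rfl⟩
  have hLn : L.Normal := hLe ▸ Subgroup.normalClosure_normal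
  have hLB : L ≤ B := by rw [hLe]; exact Subgroup.normalClosure_le_normal inf_le_right
  have hZ1L : sInf 𝒜 ⊓ B ≤ L := by rw [hLe]; exact Subgroup.le_normalClosure
  suffices hLZ : L ≤ sInf 𝒜 by
    have h : sInf 𝒜 ⊓ B = L := le_antisymm hZ1L (le_inf hLZ hLB)
    rw [h]; exact hLn
  apply le_sInf
  intro U hU
  by_contra hLU
  have hLp : IsPGroup p L := hBp.to_le hLB
  have hLP : L ≤ (P : Subgroup G) := Lib_helper1_SS.normal_pgroup_le_sylow P L hLp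
  have hLne : L ≠ ⊥ := fun h => hLU (h ▸ bot_le)
  have hL'n : (⁅L, L⁆).Normal := Subgroup.commutator_normal L L
  have hL'le : ⁅L, L⁆ ≤ L := Subgroup.commutator_le_left L L
  have hL'lt : Nat.card (⁅L, L⁆ : Subgroup G) < n := by
    have h1 : ⁅L, L⁆ ≠ L := Lib_helper1_Coprime.commutator_ne_self_of_pgroups p L L hLp hLp
      Subgroup.le_normalizer hLne
    have h2 : Nat.card (⁅L, L⁆ : Subgroup G) < Nat.card L := by
      by_contra hge
      exact h1 (Subgroup.eq_of_le_of_card_ge hL'le (not_lt.mp hge))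
    have h3 : Nat.card L ≤ Nat.card B := Subgroup.card_le_of_le hLB
    omega
  have hN : (sInf 𝒜 ⊓ ⁅L, L⁆).Normal := ih _ hL'lt ⁅L, L⁆ rfl hL'n (hLp.to_le hL'le)
  have hL'Z : ⁅L, L⁆ ≤ sInf 𝒜 := by
    obtain ⟨N, hNe⟩ : ∃ N, N = sInf 𝒜 ⊓ ⁅L, L⁆ := ⟨_, rfl⟩
    rw [← hNe] at hN
    haveI := hN
    haveI hmapn : (L.map (QuotientGroup.mk' N)).Normal :=
      hLn.map _ (QuotientGroup.mk'_surjective N)
    have hZC : sInf 𝒜 ⊓ B ≤ (Subgroup.centralizer
        ((L.map (QuotientGroup.mk' N) : Subgroup (G ⧸ N)) : Set (G ⧸ N))).comap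
          (QuotientGroup.mk' N) := by
      intro z hz
      rw [Subgroup.mem_comap, Subgroup.mem_centralizer_iff]
      rintro _ ⟨y, hy, rfl⟩
      have hzZ := (Subgroup.mem_inf.mp hz).1
      have hcomm : ⁅z, y⁆ ∈ N := by
        rw [hNe]
        refine Subgroup.mem_inf.mpr ⟨?_, Subgroup.commutator_mem_commutator (hZ1L hz) hy⟩
        have h1 := hZP y (hLP hy) z⁻¹ (inv_mem hzZ)
        have h2 := (sInf 𝒜).mul_mem hzZ h1
        have e : ⁅z, y⁆ = z * (y * z⁻¹ * y⁻¹) := by rw [commutatorElement_def]; group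
        rw [e]; exact h2
      have h3 : (QuotientGroup.mk' N) ⁅z, y⁆ = 1 := (QuotientGroup.eq_one_iff _).mpr hcomm
      rw [map_commutatorElement, commutatorElement_eq_one_iff_mul_comm] at h3
      exact h3.symm
    have hLC : L ≤ (Subgroup.centralizer
        ((L.map (QuotientGroup.mk' N) : Subgroup (G ⧸ N)) : Set (G ⧸ N))).comap
          (QuotientGroup.mk' N) := by
      exact hLe.le.trans (Subgroup.normalClosure_le_normal hZC)
    rw [Subgroup.commutator_le]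
    intro x hx y hy
    have h4 := hLC hx
    rw [Subgroup.mem_comap, Subgroup.mem_centralizer_iff] at h4
    have h5 := h4 _ ⟨y, hy, rfl⟩
    have h6 : (QuotientGroup.mk' N) ⁅x, y⁆ = 1 := by
      rw [map_commutatorElement, commutatorElement_eq_one_iff_mul_comm]
      exact h5.symm
    have h7 : ⁅x, y⁆ ∈ N := (QuotientGroup.eq_one_iff _).mp h6
    rw [hNe] at h7; exact (Subgroup.mem_inf.mp h7).1
  obtain ⟨A, hA, hLA, hLNA⟩ := hF5 L hLn hLP ⟨U, hU, hL'Z.trans (sInf_le hU), hLU⟩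
  exact hLA (claimX2 P hst 𝒜 hF1 hF7 L hLp (sInf 𝒜 ⊓ B) inf_le_left hLe A hA hLNA)

theorem zj_normal2 {G : Type*} [Group G] [Finite G] {p : ℕ} [Fact p.Prime]
    (hc : Subgroup.centralizer (Cfsg.pCore p G : Set G) ≤ Cfsg.pCore p G)
    (P : Sylow p G)
    (hst : ∀ (V : Subgroup G) [V.Normal], IsPGroup p V → ∀ a ∈ (P : Subgroup G),
      ⁅⁅V, Subgroup.zpowers a⁆, Subgroup.zpowers a⁆ = ⊥ →
      (QuotientGroup.mk a : G ⧸ Subgroup.centralizer (V : Set G)) ∈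
        Cfsg.pCore p (G ⧸ Subgroup.centralizer (V : Set G))) (𝒜 : Set (Subgroup G)) (hne : 𝒜.Nonempty)
    (hF1 : ∀ U ∈ 𝒜, U ≤ (P : Subgroup G) ∧ ∀ x ∈ U, ∀ y ∈ U, x * y = y * x)
    (hF5 : ∀ L : Subgroup G, L.Normal → L ≤ (P : Subgroup G) →
      (∃ U ∈ 𝒜, ⁅L, L⁆ ≤ U ∧ ¬ L ≤ U) →
      ∃ A ∈ 𝒜, ¬ L ≤ A ∧ L ≤ Subgroup.normalizer (A : Set G))
    (hF8 : ∀ U ∈ 𝒜, ∀ f : G →* G, Function.Injective f → U.map f ≤ (P : Subgroup G) →
      U.map f ∈ 𝒜) :
    (sInf 𝒜).Normal := by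
  have hF7 : ∀ U ∈ 𝒜, ∀ g : G, (∀ u ∈ U, g * u * g⁻¹ ∈ (P : Subgroup G)) →
      U.map (MulAut.conj g).toMonoidHom ∈ 𝒜 := by
    intro U hU g hg
    apply hF8 U hU _ (MulAut.conj g).injective
    rintro _ ⟨u, hu, rfl⟩
    exact hg u hu
  obtain ⟨U₀, hU₀⟩ := hne
  have hZU : sInf 𝒜 ≤ U₀ := sInf_le hU₀
  have hZc : ∀ x ∈ sInf 𝒜, ∀ y ∈ sInf 𝒜, x * y = y * x := fun x hx y hy =>
    (hF1 U₀ hU₀).2 x (hZU hx) y (hZU hy)
  have hZnP := sInf_conj P 𝒜 hF1 hF7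
  have hQn := Lib_helper7_PCore.pCore_normal (G := G) p
  have hQp := Lib_helper7_PCore.pCore_isPGroup (G := G) p
  have hQP : Cfsg.pCore p G ≤ P := Lib_helper7_PCore.pCore_le_sylow P
  have hZQ : sInf 𝒜 ≤ Cfsg.pCore p G := by
    intro z hz
    have hq := quad (Cfsg.pCore p G) (sInf 𝒜) hZc (fun l hl x hx => hZnP l (hQP hl) x hx) z hz
    have h1 := hst (Cfsg.pCore p G) hQp z ((hF1 U₀ hU₀).1 (hZU hz)) hq
    have hKp : IsPGroup p ((Cfsg.pCore p (G ⧸ Subgroup.centralizer (Cfsg.pCore p G : Set G))).comap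
        (QuotientGroup.mk' (Subgroup.centralizer (Cfsg.pCore p G : Set G)))) := by
      apply IsPGroup.comap_of_ker_isPGroup (Lib_helper7_PCore.pCore_isPGroup p)
      rw [QuotientGroup.ker_mk']
      exact hQp.to_le hc
    have hKn : ((Cfsg.pCore p (G ⧸ Subgroup.centralizer (Cfsg.pCore p G : Set G))).comap
        (QuotientGroup.mk' (Subgroup.centralizer (Cfsg.pCore p G : Set G)))).Normal :=
      (Lib_helper7_PCore.pCore_normal p).comap _
    exact Lib_helper7_PCore.le_pCore hKn hKp (Subgroup.mem_comap.mpr h1)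
  have h := zj_abs2 P hst 𝒜 hF1 hF5 hF7 _ (Cfsg.pCore p G) rfl hQn hQp
  rwa [inf_eq_left.mpr hZQ] at h

/-- Glauberman's ZJ-theorem (normality) with the stability hypothesis only for elements of the
Sylow subgroup. -/
theorem zjA_normal2 {G : Type*} [Group G] [Finite G] {p : ℕ} [Fact p.Prime] (hp : p ≠ 2)
    (hc : Subgroup.centralizer (Cfsg.pCore p G : Set G) ≤ Cfsg.pCore p G)
    (S : Sylow p G)
    (hst : ∀ (V : Subgroup G) [V.Normal], IsPGroup p V → ∀ a ∈ (S : Subgroup G),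
      ⁅⁅V, Subgroup.zpowers a⁆, Subgroup.zpowers a⁆ = ⊥ →
      (QuotientGroup.mk a : G ⧸ Subgroup.centralizer (V : Set G)) ∈
        Cfsg.pCore p (G ⧸ Subgroup.centralizer (V : Set G))) :
    (Cfsg.centerThompsonAOf (S : Subgroup G)).Normal := by
  rw [ctA_eq]
  apply zj_normal2 hc S hst _ ?ne ?F1 ?F5 (F8_ab (S : Subgroup G))
  case ne =>
    obtain ⟨U₀, hU₀⟩ := exists_maxAb ↥(S : Subgroup G)
    exact ⟨_, U₀, hU₀, rfl⟩
  case F1 =>
    rintro _ ⟨U₀, hU₀, rfl⟩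
    exact ⟨Subgroup.map_subtype_le U₀, comm_elem _ (map_comm _ _ hU₀.1)⟩
  case F5 =>
    intro L hLn hLS hU
    obtain ⟨_, ⟨U₀, hU₀, rfl⟩, h1, h2⟩ := hU
    obtain ⟨A₀, hA₀, h3, h4⟩ := F5_of_family hp (S : Subgroup G) S.isPGroup'
      (Cfsg.maxAbelianSubgroups ↥(S : Subgroup G)) (fun A hA => hA.1)
      (fun A hA P hcard hcomm _ => ⟨hcomm, fun B hB => hcard ▸ hA.2 B hB⟩) L hLS
      ⟨U₀, hU₀, h1, h2⟩
    exact ⟨_, ⟨A₀, hA₀, rfl⟩, h3, h4⟩

/-! ### Functoriality of `Z(J(T))` -/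

/-- `U` is an abelian subgroup of `S` of largest order. -/
def MaxAbIn {G : Type*} [Group G] (S U : Subgroup G) : Prop :=
  U ≤ S ∧ (∀ x ∈ U, ∀ y ∈ U, x * y = y * x) ∧
    ∀ B : Subgroup G, B ≤ S → (∀ x ∈ B, ∀ y ∈ B, x * y = y * x) → Nat.card B ≤ Nat.card U

theorem maxAbIn_of_maxAb {G : Type*} [Group G] (S : Subgroup G) (U₀ : Subgroup ↥S)
    (hU₀ : U₀ ∈ Cfsg.maxAbelianSubgroups ↥S) : MaxAbIn S (U₀.map S.subtype) := by
  refine ⟨Subgroup.map_subtype_le U₀, comm_elem _ (map_comm _ _ hU₀.1), ?_⟩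
  intro B hBS hBc
  have h1 := hU₀.2 (B.subgroupOf S) (H1GlaubFam.subgroupOf_comm _ _ (comm_of_elem B hBc))
  rw [Subgroup.card_subtype]
  rw [Lib_helper1_Hall.card_subgroupOf_of_le hBS] at h1
  exact h1

theorem maxAb_of_maxAbIn {G : Type*} [Group G] (S U : Subgroup G) (hU : MaxAbIn S U) :
    U.subgroupOf S ∈ Cfsg.maxAbelianSubgroups ↥S := by
  refine ⟨H1GlaubFam.subgroupOf_comm _ _ (comm_of_elem U hU.2.1), ?_⟩
  intro B₀ hB₀
  have h1 := hU.2.2 (B₀.map S.subtype) (Subgroup.map_subtype_le B₀)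
    (comm_elem _ (map_comm _ _ hB₀))
  rw [Subgroup.card_subtype] at h1
  rw [Lib_helper1_Hall.card_subgroupOf_of_le hU.1]
  exact h1

theorem mem_ctA_iff {G : Type*} [Group G] [Finite G] (S : Subgroup G) (x : G) :
    x ∈ Cfsg.centerThompsonAOf S ↔ ∀ U, MaxAbIn S U → x ∈ U := by
  rw [ctA_eq, Subgroup.mem_sInf]
  constructor
  · intro h U hU
    have h1 : x ∈ (U.subgroupOf S).map S.subtype := h _ ⟨_, maxAb_of_maxAbIn S U hU, rfl⟩
    rw [Subgroup.map_subgroupOf_eq_of_le hU.1] at h1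
    exact h1
  · rintro h _ ⟨U₀, hU₀, rfl⟩
    exact h _ (maxAbIn_of_maxAb S U₀ hU₀)

theorem exists_maxAbIn {G : Type*} [Group G] [Finite G] (S : Subgroup G) :
    ∃ U, MaxAbIn S U := by
  obtain ⟨U₀, hU₀⟩ := exists_maxAb ↥S
  exact ⟨_, maxAbIn_of_maxAb S U₀ hU₀⟩

theorem ctA_le {G : Type*} [Group G] [Finite G] (S : Subgroup G) :
    Cfsg.centerThompsonAOf S ≤ S := by
  intro x hx
  obtain ⟨U, hU⟩ := exists_maxAbIn S
  exact hU.1 ((mem_ctA_iff S x).mp hx U hU)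

theorem card_map_of_injOn {G G' : Type*} [Group G] [Group G'] (f : G →* G')
    (T B : Subgroup G) (hBT : B ≤ T) (hinj : ∀ x ∈ T, f x = 1 → x = 1) :
    Nat.card (B.map f) = Nat.card B := by
  have h1 : B.map f = (B.subgroupOf T).map (f.comp T.subtype) := by
    rw [← Subgroup.map_map, Subgroup.map_subgroupOf_eq_of_le hBT]
  have hinj' : Function.Injective (f.comp T.subtype) := by
    rw [injective_iff_map_eq_one]
    intro a ha
    exact Subtype.ext (hinj a.1 a.2 ha)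
  rw [h1, Subgroup.card_map_of_injective hinj', Lib_helper1_Hall.card_subgroupOf_of_le hBT]

theorem comap_inf_props {G G' : Type*} [Group G] [Group G'] (f : G →* G') (T : Subgroup G)
    (B' : Subgroup G') (hinj : ∀ x ∈ T, f x = 1 → x = 1) (hB' : B' ≤ T.map f)
    (hB'c : ∀ x ∈ B', ∀ y ∈ B', x * y = y * x) :
    (B'.comap f ⊓ T).map f = B' ∧
      ∀ x ∈ B'.comap f ⊓ T, ∀ y ∈ B'.comap f ⊓ T, x * y = y * x := by
  constructor
  · apply le_antisymm
    · rintro _ ⟨b, hb, rfl⟩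
      exact (Subgroup.mem_inf.mp hb).1
    · intro b' hb'
      obtain ⟨t, ht, rfl⟩ := hB' hb'
      exact ⟨t, Subgroup.mem_inf.mpr ⟨hb', ht⟩, rfl⟩
  · intro x hx y hy
    have hx' : f x ∈ B' := (Subgroup.mem_inf.mp hx).1
    have hy' : f y ∈ B' := (Subgroup.mem_inf.mp hy).1
    have hxT : x ∈ T := (Subgroup.mem_inf.mp hx).2
    have hyT : y ∈ T := (Subgroup.mem_inf.mp hy).2
    have h1 := hB'c _ hx' _ hy'
    have h2 : f (x * y * (y * x)⁻¹) = 1 := by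
      rw [map_mul, map_inv, map_mul, map_mul, h1, mul_inv_cancel]
    have h3 := hinj _ (T.mul_mem (T.mul_mem hxT hyT) (T.inv_mem (T.mul_mem hyT hxT))) h2
    exact mul_inv_eq_one.mp h3

theorem maxAbIn_map {G G' : Type*} [Group G] [Group G'] (f : G →* G') (T U : Subgroup G)
    (hinj : ∀ x ∈ T, f x = 1 → x = 1) (hU : MaxAbIn T U) : MaxAbIn (T.map f) (U.map f) := by
  refine ⟨Subgroup.map_mono hU.1, ?_, ?_⟩
  · rintro _ ⟨x, hx, rfl⟩ _ ⟨y, hy, rfl⟩
    rw [← map_mul, ← map_mul, hU.2.1 x hx y hy]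
  · intro B' hB' hB'c
    obtain ⟨h1, h2⟩ := comap_inf_props f T B' hinj hB' hB'c
    have h4 := hU.2.2 _ inf_le_right h2
    rw [card_map_of_injOn f T U hU.1 hinj, ← h1, card_map_of_injOn f T _ inf_le_right hinj]
    exact h4

theorem maxAbIn_comap {G G' : Type*} [Group G] [Group G'] (f : G →* G') (T : Subgroup G)
    (U' : Subgroup G') (hinj : ∀ x ∈ T, f x = 1 → x = 1) (hU' : MaxAbIn (T.map f) U') :
    MaxAbIn T (U'.comap f ⊓ T) := by
  obtain ⟨h1, h2⟩ := comap_inf_props f T U' hinj hU'.1 hU'.2.1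
  refine ⟨inf_le_right, h2, ?_⟩
  intro B hBT hBc
  have h3 := hU'.2.2 (B.map f) (Subgroup.map_mono hBT) (by
    rintro _ ⟨x, hx, rfl⟩ _ ⟨y, hy, rfl⟩
    rw [← map_mul, ← map_mul, hBc x hx y hy])
  rw [card_map_of_injOn f T B hBT hinj] at h3
  have h5 := card_map_of_injOn f T (U'.comap f ⊓ T) inf_le_right hinj
  rw [h1] at h5
  rw [← h5]; exact h3

/-- `Z(J(T))` is carried to `Z(J(f T))` by any homomorphism injective on `T`. -/
theorem ctA_map {G G' : Type*} [Group G] [Finite G] [Group G'] [Finite G'] (f : G →* G')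
    (T : Subgroup G) (hinj : ∀ x ∈ T, f x = 1 → x = 1) :
    (Cfsg.centerThompsonAOf T).map f = Cfsg.centerThompsonAOf (T.map f) := by
  ext x'
  rw [mem_ctA_iff]
  constructor
  · rintro ⟨x, hx, rfl⟩ U' hU'
    have h1 := maxAbIn_comap f T U' hinj hU'
    have h3 := (mem_ctA_iff T x).mp hx _ h1
    exact (Subgroup.mem_inf.mp h3).1
  · intro h
    obtain ⟨U₁, hU₁⟩ := exists_maxAbIn (T.map f)
    obtain ⟨x, hxT, rfl⟩ := hU₁.1 (h U₁ hU₁)
    refine ⟨x, ?_, rfl⟩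
    show x ∈ Cfsg.centerThompsonAOf T
    rw [mem_ctA_iff]
    intro U hU
    obtain ⟨u, hu, hue⟩ := h _ (maxAbIn_map f T U hinj hU)
    have h2 : f (u * x⁻¹) = 1 := by rw [map_mul, map_inv, hue, mul_inv_cancel]
    have h3 := hinj _ (T.mul_mem (hU.1 hu) (T.inv_mem hxT)) h2
    have h4 : u = x := mul_inv_eq_one.mp h3
    rw [← h4]; exact hu

theorem ctA_conj {G : Type*} [Group G] [Finite G] (T : Subgroup G) (g : G) :
    (Cfsg.centerThompsonAOf T).map (MulAut.conj g).toMonoidHom =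
      Cfsg.centerThompsonAOf (T.map (MulAut.conj g).toMonoidHom) :=
  ctA_map (MulAut.conj g).toMonoidHom T (fun x _ hx => by simpa using hx)

theorem ctA_normalizer {G : Type*} [Group G] [Finite G] (T : Subgroup G) :
    Subgroup.normalizer (T : Set G) ≤
      Subgroup.normalizer (Cfsg.centerThompsonAOf T : Set G) := by
  intro g hg
  apply Lib_helper1_Basic.mem_normalizer_of_conj_le
  intro z hz
  have h1 : T.map (MulAut.conj g).toMonoidHom = T := by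
    ext y
    rw [Lib_helper7_Sylow.mem_map_conj]
    exact ((Subgroup.mem_normalizer_iff''.mp hg y)).symm
  have h2 := ctA_conj T g
  rw [h1] at h2
  rw [← h2]
  exact ⟨z, hz, rfl⟩

theorem ctA_ne_bot {G : Type*} [Group G] [Finite G] {p : ℕ} [Fact p.Prime] (T : Subgroup G)
    (hT : IsPGroup p T) (hne : T ≠ ⊥) : Cfsg.centerThompsonAOf T ≠ ⊥ := by
  haveI : Nontrivial ↥T := (Subgroup.nontrivial_iff_ne_bot T).mpr hne
  haveI := hT.center_nontrivial
  obtain ⟨z, hz⟩ := exists_ne (1 : ↥(Subgroup.center ↥T))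
  intro hbot
  have hzmem : ((z : ↥T) : G) ∈ Cfsg.centerThompsonAOf T := by
    rw [mem_ctA_iff]
    intro U hU
    have h1 := maxAb_of_maxAbIn T U hU
    have h2 := mem_maxAb_of_centralizes _ h1 (z : ↥T)
      (fun u _ => (Subgroup.mem_center_iff.mp z.2 u))
    exact Subgroup.mem_subgroupOf.mp h2
  rw [hbot, Subgroup.mem_bot] at hzmem
  apply hz
  apply Subtype.ext; apply Subtype.ext
  exact hzmem

end Cfsg.Agent.H1ZJ2
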