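import Mathlib
import Cfsg.Prelude.Def_PLocal
import Cfsg.Prelude.Def_Local
import Cfsg.Agent.Lib_helper1_ZJ2
import Cfsg.Agent.Lib_helper1_Frobenius
import Cfsg.Agent.Lib_helper5_PSolv2

set_option autoImplicit false

/-! Helper lemmas for the Glauberman–Thompson normal `p`-complement theorem. -/

namespace Cfsg.Agent.H1GT

open Cfsg Cfsg.Agent.Lib_helper1_Frobenius
open scoped commutatorElement Pointwise

universe u

/-- The Frobenius condition inside a subgroup `K`. -/
def LocFrob (p : ℕ) {G : Type*} [Group G] (K : Subgroup G) : Prop :=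
  ∀ Q : Subgroup G, IsPGroup p Q → Q ≤ K → ∀ g ∈ K, g ∈ Subgroup.normalizer (Q : Set G) →
    (orderOf g).Coprime p → g ∈ Subgroup.centralizer (Q : Set G)

theorem locFrob_mono {G : Type*} [Group G] {p : ℕ} {K₁ K₂ : Subgroup G} (h : K₁ ≤ K₂)
    (h2 : LocFrob p K₂) : LocFrob p K₁ :=
  fun Q hQ hQK g hg hgn hgo => h2 Q hQ (hQK.trans h) g (h hg) hgn hgo

theorem frobHyp_of_locFrob_top {G : Type*} [Group G] {p : ℕ}
    (h : LocFrob p (⊤ : Subgroup G)) : FrobHyp p G :=
  fun Q hQ g hg hgo => h Q hQ le_top g (Subgroup.mem_top g) hg hgo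

theorem locFrob_of_frobHyp {G : Type*} [Group G] {p : ℕ} (K : Subgroup G)
    (h : FrobHyp p ↥K) : LocFrob p K :=
  fun Q hQ hQK g hg hgn hgo => frobHyp_apply_sub K h Q hQ hQK g hg hgn hgo

theorem coe_mem_normalizer_map {G : Type*} [Group G] (K : Subgroup G) (Z' : Subgroup ↥K)
    (x : ↥K) (hx : x ∈ Subgroup.normalizer (Z' : Set ↥K)) :
    (x : G) ∈ Subgroup.normalizer ((Z'.map K.subtype : Subgroup G) : Set G) := by
  rw [Subgroup.mem_normalizer_iff]
  intro y
  constructor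
  · rintro ⟨t, ht, rfl⟩
    exact ⟨x * t * x⁻¹, (Subgroup.mem_normalizer_iff.mp hx t).mp ht, rfl⟩
  · rintro ⟨t, ht, hte⟩
    refine ⟨x⁻¹ * t * x, (Subgroup.mem_normalizer_iff''.mp hx t).mp ht, ?_⟩
    show (x : G)⁻¹ * (t : G) * (x : G) = y
    have : (t : G) = (x : G) * y * (x : G)⁻¹ := hte
    rw [this]; group

theorem frobHyp_of_locFrob {G : Type*} [Group G] {p : ℕ} (K : Subgroup G)
    (h : LocFrob p K) : FrobHyp p ↥K := by
  intro Q hQ g hg hgo
  have h1 := h (Q.map K.subtype) (hQ.map K.subtype) (Subgroup.map_subtype_le Q) (g : G) g.2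
    (coe_mem_normalizer_map K Q g hg) (by rw [Subgroup.orderOf_coe]; exact hgo)
  rw [Subgroup.mem_centralizer_iff] at h1 ⊢
  intro t ht
  have := h1 (t : G) (Subgroup.mem_map_of_mem _ ht)
  exact Subtype.ext this

theorem npc_of_locFrob {G : Type u} [Group G] [Finite G] {p : ℕ} [Fact p.Prime]
    (K : Subgroup G) (h : LocFrob p K) : NPC p ↥K :=
  frobenius (frobHyp_of_locFrob K h)

theorem locFrob_of_npc {G : Type*} [Group G] {p : ℕ} (K : Subgroup G) (h : NPC p ↥K) :
    LocFrob p K :=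
  locFrob_of_frobHyp K (frobHyp_of_npc h)

theorem npc_of_surjective {A B : Type*} [Group A] [Group B] [Finite A] {p : ℕ} [Fact p.Prime]
    (f : A →* B) (hf : Function.Surjective f) (h : NPC p A) : NPC p B := by
  have hp : p.Prime := Fact.out
  obtain ⟨N, hN, hc, k, hk⟩ := h
  refine ⟨N.map f, hN.map f hf, ?_, ?_⟩
  · exact Nat.Coprime.coprime_dvd_left
      (Subgroup.card_dvd_of_surjective (f.subgroupMap N) (f.subgroupMap_surjective N)) hc
  · have h1 : (N.map f).index ∣ p ^ k := hk ▸ Subgroup.index_map_dvd N hf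
    obtain ⟨j, -, hj⟩ := (Nat.dvd_prime_pow hp).mp h1
    exact ⟨j, hj⟩

theorem locFrob_map {G : Type u} {G' : Type*} [Group G] [Finite G] [Group G'] {p : ℕ}
    [Fact p.Prime] (f : G →* G') (X : Subgroup G) (h : LocFrob p X) : LocFrob p (X.map f) :=
  locFrob_of_npc _ (npc_of_surjective (f.subgroupMap X) (f.subgroupMap_surjective X)
    (npc_of_locFrob X h))

theorem locFrob_sub {G : Type*} [Group G] {p : ℕ} (K : Subgroup G) (Z' : Subgroup ↥K)
    (h : LocFrob p (Subgroup.normalizer ((Z'.map K.subtype : Subgroup G) : Set G))) :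
    LocFrob p (Subgroup.normalizer (Z' : Set ↥K)) := by
  intro Q hQ hQN g hg hgn hgo
  have h1 := h (Q.map K.subtype) (hQ.map K.subtype) (by
      rintro _ ⟨q, hq, rfl⟩
      exact coe_mem_normalizer_map K Z' q (hQN hq)) (g : G)
    (coe_mem_normalizer_map K Z' g hg) (coe_mem_normalizer_map K Q g hgn)
    (by rw [Subgroup.orderOf_coe]; exact hgo)
  rw [Subgroup.mem_centralizer_iff] at h1 ⊢
  intro t ht
  have := h1 (t : G) (Subgroup.mem_map_of_mem _ ht)
  exact Subtype.ext this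

/-- Frattini-type lemma: normalizers of `p`-subgroups of a Sylow subgroup lift through a
quotient by a normal `p'`-subgroup. -/
theorem normalizer_map_le {G : Type*} [Group G] [Finite G] {p : ℕ} [Fact p.Prime]
    (P : Sylow p G) (O : Subgroup G) [hO : O.Normal] (hOc : (Nat.card O).Coprime p)
    (Z : Subgroup G) (hZP : Z ≤ P) :
    Subgroup.normalizer ((Z.map (QuotientGroup.mk' O) : Subgroup (G ⧸ O)) : Set (G ⧸ O)) ≤
      (Subgroup.normalizer (Z : Set G)).map (QuotientGroup.mk' O) := by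
  intro gbar hgbar
  obtain ⟨g, rfl⟩ := QuotientGroup.mk'_surjective O gbar
  have hD : Z.map (MulAut.conj g).toMonoidHom ≤ (P : Subgroup G) ⊔ O := by
    rintro _ ⟨z, hz, rfl⟩
    have h1 : (QuotientGroup.mk' O) (g * z * g⁻¹) ∈ Z.map (QuotientGroup.mk' O) := by
      have := (Subgroup.mem_normalizer_iff.mp hgbar ((QuotientGroup.mk' O) z)).mp
        (Subgroup.mem_map_of_mem _ hz)
      simpa using this
    obtain ⟨z', hz', hze⟩ := h1
    have h2 : z'⁻¹ * (g * z * g⁻¹) ∈ O := QuotientGroup.eq.mp hze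
    have e : (MulAut.conj g).toMonoidHom z = z' * (z'⁻¹ * (g * z * g⁻¹)) := by
      simp [MulAut.conj_apply]
    rw [e]
    exact Subgroup.mul_mem _ (Subgroup.mem_sup_left (hZP hz')) (Subgroup.mem_sup_right h2)
  have hDp : IsPGroup p (Z.map (MulAut.conj g).toMonoidHom) := (P.isPGroup'.to_le hZP).map _
  obtain ⟨w, hw, hwD⟩ := Lib_helper7_SE2.exists_conj_le_of_le P _ le_sup_left _ hDp hD
  have hw' : w ∈ (((P : Subgroup G) ⊔ O : Subgroup G) : Set G) := hw
  rw [Subgroup.mul_normal] at hw'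
  obtain ⟨x, hx, o, ho, rfl⟩ := Set.mem_mul.mp hw'
  have ho1 : (QuotientGroup.mk' O) o = 1 := (QuotientGroup.eq_one_iff o).mpr ho
  have hog : o * g ∈ Subgroup.normalizer (Z : Set G) := by
    apply Lib_helper1_Basic.mem_normalizer_of_conj_le
    intro z hz
    have h6 := hwD _ ⟨z, hz, rfl⟩
    have h7 : (o * g) * z * (o * g)⁻¹ ∈ (P : Subgroup G) := by
      have h8 := (P : Subgroup G).mul_mem
        ((P : Subgroup G).mul_mem ((P : Subgroup G).inv_mem hx) h6) hx
      have e : (o * g) * z * (o * g)⁻¹ =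
          x⁻¹ * (x * o * ((MulAut.conj g).toMonoidHom z) * (x * o)⁻¹) * x := by
        simp [MulAut.conj_apply, mul_assoc]
      rw [e]; exact h8
    have h9 : (QuotientGroup.mk' O) ((o * g) * z * (o * g)⁻¹) ∈
        Z.map (QuotientGroup.mk' O) := by
      have := (Subgroup.mem_normalizer_iff.mp hgbar ((QuotientGroup.mk' O) z)).mp
        (Subgroup.mem_map_of_mem _ hz)
      have e : (QuotientGroup.mk' O) ((o * g) * z * (o * g)⁻¹) =
          (QuotientGroup.mk' O) g * (QuotientGroup.mk' O) z * ((QuotientGroup.mk' O) g)⁻¹ := by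
        simp only [map_mul, map_inv, ho1, one_mul]
      rw [e]; exact this
    obtain ⟨z', hz', hze⟩ := h9
    have h10 : z'⁻¹ * ((o * g) * z * (o * g)⁻¹) ∈ O := QuotientGroup.eq.mp hze
    have h11 : z'⁻¹ * ((o * g) * z * (o * g)⁻¹) ∈ (P : Subgroup G) :=
      (P : Subgroup G).mul_mem ((P : Subgroup G).inv_mem (hZP hz')) h7
    have h12 := eq_one_of_coprime_of_pgroup O (P : Subgroup G) hOc P.isPGroup' h10 h11
    have h13 : (o * g) * z * (o * g)⁻¹ = z' := by
      have := congrArg (fun t => z' * t) h12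
      simpa using this
    rw [h13]; exact hz'
  refine ⟨o * g, hog, ?_⟩
  rw [map_mul, ho1, one_mul]

theorem mem_of_pow_mem_coprime {G : Type*} [Group G] (N : Subgroup G) (l : G) (a b : ℕ)
    (hab : a.Coprime b) (ha : l ^ a ∈ N) (hb : l ^ b ∈ N) : l ∈ N := by
  obtain ⟨u, v, huv⟩ := (Nat.isCoprime_iff_coprime.mpr hab)
  have h1 : l = (l ^ a) ^ u * (l ^ b) ^ v := by
    rw [← zpow_natCast, ← zpow_natCast, ← zpow_mul, ← zpow_mul, ← zpow_add, mul_comm (a : ℤ),
      mul_comm (b : ℤ), huv, zpow_one]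
  rw [h1]
  exact N.mul_mem (N.zpow_mem ha u) (N.zpow_mem hb v)

theorem eq_one_of_pow_eq_one_of_pgroup {G : Type*} [Group G] {p : ℕ} (Q : Subgroup G)
    (hQ : IsPGroup p Q) (x : G) (hx : x ∈ Q) (t : ℕ) (ht : t.Coprime p) (hxt : x ^ t = 1) :
    x = 1 := by
  obtain ⟨k, hk⟩ := hQ ⟨x, hx⟩
  have h2 : x ^ p ^ k = 1 := by
    have := congrArg Subtype.val hk
    simpa using this
  have h3 : orderOf x ∣ p ^ k := orderOf_dvd_of_pow_eq_one h2
  have h1 : orderOf x ∣ t := orderOf_dvd_of_pow_eq_one hxt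
  have h4 : (orderOf x).Coprime (p ^ k) :=
    Nat.Coprime.coprime_dvd_left h1 (Nat.Coprime.pow_right k ht)
  exact orderOf_eq_one_iff.mp (Nat.Coprime.eq_one_of_dvd h4 h3)

theorem isPSolvable_of_subsingleton (p : ℕ) (G : Type*) [Group G] [Subsingleton G] :
    IsPSolvable p G :=
  ⟨0, fun _ => ⊥, rfl, (Subgroup.eq_bot_of_subsingleton ⊤).symm, fun _ _ _ => le_rfl,
    fun _ => inferInstance, fun i => i.elim0⟩

theorem card_lt_of_ne_top {G : Type*} [Group G] [Finite G] (N : Subgroup G) (h : N ≠ ⊤) :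
    Nat.card ↥N < Nat.card G := by
  by_contra hge
  exact h (Subgroup.eq_top_of_card_eq N
    (le_antisymm (Subgroup.card_le_card_group N) (not_lt.mp hge)))

theorem card_quot_lt {G : Type*} [Group G] [Finite G] (H : Subgroup G) (hH : H ≠ ⊥) :
    Nat.card (G ⧸ H) < Nat.card G := by
  rw [← Subgroup.index_eq_card]
  have h1 := Subgroup.card_mul_index H
  have h2 : 1 < Nat.card H := (Subgroup.one_lt_card_iff_ne_bot H).mpr hH
  have h3 : 0 < H.index := Nat.pos_of_ne_zero Subgroup.index_ne_zero_of_finite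
  nlinarith

theorem measure_aux (a b c x y : ℕ) (hy : y ≤ c) (hab : b < a) :
    ¬ (a * (c + 1) + x ≤ b * (c + 1) + y) := by
  intro h
  have h1 : (b + 1) * (c + 1) ≤ a * (c + 1) := Nat.mul_le_mul_right _ hab
  nlinarith

theorem measure_aux2 (a b c x y : ℕ) (hab : b ≤ a) (hxy : y < x) :
    ¬ (a * (c + 1) + x ≤ b * (c + 1) + y) := by
  intro h
  have h1 : b * (c + 1) ≤ a * (c + 1) := Nat.mul_le_mul_right _ hab
  omega

theorem normalizer_conj_le {G : Type*} [Group G] [Finite G] (Z : Subgroup G) (g : G) :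
    Subgroup.normalizer ((Z.map (MulAut.conj g).toMonoidHom : Subgroup G) : Set G) ≤
      (Subgroup.normalizer (Z : Set G)).map (MulAut.conj g).toMonoidHom := by
  intro x hx
  rw [Lib_helper7_Sylow.mem_map_conj]
  apply Lib_helper1_Basic.mem_normalizer_of_conj_le
  intro z hz
  have h1 : g * z * g⁻¹ ∈ Z.map (MulAut.conj g).toMonoidHom := ⟨z, hz, rfl⟩
  have h2 := (Subgroup.mem_normalizer_iff.mp hx _).mp h1
  rw [Lib_helper7_Sylow.mem_map_conj] at h2
  have e : g⁻¹ * x * g * z * (g⁻¹ * x * g)⁻¹ = g⁻¹ * (x * (g * z * g⁻¹) * x⁻¹) * g := by group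
  rw [e]; exact h2

end Cfsg.Agent.H1GT
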