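import Mathlib

set_option autoImplicit false

/-! A ring-theoretic replacement for the "`SL(2,p)` is not involved" step: if `x` acts
quadratically on an abelian group of odd exponent and the two commutators
`x⁻¹ y⁻¹ x y`, `x⁻² y⁻¹ x² y` act as commuting operators of order prime to the exponent,
then the first commutator acts trivially. -/

namespace Cfsg.Agent.H1Quad

theorem nil_step {R : Type*} [Ring R] (q m : ℕ) (hqm : Nat.Coprime m q)
    (hq : ∀ r : R, (q : R) * r = 0) (f : R) (j : ℕ) (hj : f ^ (j + 2) = 0)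
    (hm : (1 + f) ^ m = 1) : f ^ (j + 1) = 0 := by
  have h0 : (1 + f) * f ^ (j + 1) = f ^ (j + 1) := by
    rw [add_mul, one_mul, ← pow_succ', hj, add_zero]
  have h1 : ∀ i : ℕ, (1 + f) ^ i * f ^ (j + 1) = f ^ (j + 1) := by
    intro i
    induction i with
    | zero => simp
    | succ i ih => rw [pow_succ, mul_assoc, h0, ih]
  have h2 : (∑ i ∈ Finset.range m, (1 + f) ^ i) * f = 0 := by
    have := geom_sum_mul (1 + f) m
    rw [hm] at this
    simpa using this
  have h3 : (∑ i ∈ Finset.range m, (1 + f) ^ i) * f ^ (j + 1) = 0 := by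
    rw [pow_succ', ← mul_assoc, h2, zero_mul]
  rw [Finset.sum_mul, Finset.sum_congr rfl (fun i _ => h1 i), Finset.sum_const,
    Finset.card_range, nsmul_eq_mul] at h3
  obtain ⟨u, v, huv⟩ := (Nat.isCoprime_iff_coprime.mpr hqm)
  have h4 : ((u : R) * (m : R) + (v : R) * (q : R)) = 1 := by
    have := congrArg (Int.cast : ℤ → R) huv
    push_cast at this
    exact this
  calc f ^ (j + 1) = ((u : R) * (m : R) + (v : R) * (q : R)) * f ^ (j + 1) := by
        rw [h4, one_mul]
    _ = (u : R) * ((m : R) * f ^ (j + 1)) + (v : R) * ((q : R) * f ^ (j + 1)) := by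
        rw [add_mul, mul_assoc, mul_assoc]
    _ = 0 := by rw [h3, hq, mul_zero, mul_zero, add_zero]

theorem two_cancel {R : Type*} [Ring R] (q : ℕ) (hodd : Odd q)
    (hq : ∀ r : R, (q : R) * r = 0) (x : R) (hx : x + x = 0) : x = 0 := by
  obtain ⟨k, hk⟩ := hodd
  have h1 : q • x = 0 := by rw [nsmul_eq_mul]; exact hq x
  rw [hk, add_nsmul, mul_nsmul, two_nsmul, hx, nsmul_zero, one_nsmul, zero_add] at h1
  exact h1

theorem ring_key {R : Type*} [Ring R] (q m' : ℕ) (hodd : Odd q) (hqm : Nat.Coprime m' q)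
    (hq : ∀ r : R, (q : R) * r = 0) (n m : R) (hn : n * n = 0) (hm : m * m = 0)
    (hcomm : ((1 - n) * (1 + m)) * ((1 - (n + n)) * (1 + (m + m))) =
      ((1 - (n + n)) * (1 + (m + m))) * ((1 - n) * (1 + m)))
    (hpow : ((1 - n) * (1 + m)) ^ m' = 1) : (1 - n) * (1 + m) = 1 := by
  have e1 : ((1 - n) * (1 + m)) * ((1 - (n + n)) * (1 + (m + m))) -
      ((1 - (n + n)) * (1 + (m + m))) * ((1 - n) * (1 + m)) =
      -((m * n * m + n * m * n) + (m * n * m + n * m * n)) + (n * (m * m) + n * (m * m))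
        + ((n * n) * m + (n * n) * m) := by noncomm_ring
  rw [hcomm, sub_self, hn, hm, mul_zero, zero_mul, add_zero, add_zero, add_zero] at e1
  have h2 : m * n * m + n * m * n = 0 :=
    two_cancel q hodd hq _ (neg_eq_zero.mp e1.symm)
  have h3 : m * n * m = -(n * m * n) := eq_neg_of_add_eq_zero_left h2
  have hnmnm : n * m * n * m = 0 := by
    calc n * m * n * m = n * (m * n * m) := by noncomm_ring
      _ = -((n * n) * m * n) := by rw [h3]; noncomm_ring
      _ = 0 := by rw [hn]; simp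
  have hmnmn : m * n * m * n = 0 := by
    calc m * n * m * n = (m * n * m) * n := by noncomm_ring
      _ = -(n * m * (n * n)) := by rw [h3]; noncomm_ring
      _ = 0 := by rw [hn]; simp
  obtain ⟨f, hf⟩ : ∃ f : R, f = m - n - n * m := ⟨_, rfl⟩
  have hK : (1 - n) * (1 + m) = 1 + f := by rw [hf]; noncomm_ring
  have hf2 : f * f = -(m * n) - n * m - m * n * m + n * m * n := by
    have e : f * f = -(m * n) - n * m - m * n * m + n * m * n +
        (m * m + n * n + (n * n) * m - n * (m * m) + n * m * n * m) := by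
      rw [hf]; noncomm_ring
    rw [e, hm, hn, hnmnm]; simp
  have hf3 : f * f * f = n * m * n - m * n * m := by
    have e : (-(m * n) - n * m - m * n * m + n * m * n) * f = n * m * n - m * n * m +
        (m * (n * n) + m * (n * n) * m - n * (m * m) + n * m * n * m - m * n * (m * m)
          + m * n * m * n + (m * n * m * n) * m + n * m * n * m - n * m * (n * n)
          - n * m * (n * n) * m) := by
      rw [hf]; noncomm_ring
    rw [hf2, e, hm, hn, hnmnm, hmnmn]; simp
  have hf4 : f ^ 4 = 0 := by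
    have e : (n * m * n - m * n * m) * f = n * m * n * m - n * m * (n * n) - n * m * (n * n) * m
        - m * n * (m * m) + m * n * m * n + (m * n * m * n) * m := by
      rw [hf]; noncomm_ring
    have e2 : f ^ 4 = f * f * f * f := by noncomm_ring
    rw [e2, hf3, e, hm, hn, hnmnm, hmnmn]; simp
  rw [hK] at hpow
  have g3 : f ^ 3 = 0 := nil_step q m' hqm hq f 2 hf4 hpow
  have g2 : f ^ 2 = 0 := nil_step q m' hqm hq f 1 g3 hpow
  have g1 : f ^ 1 = 0 := nil_step q m' hqm hq f 0 g2 hpow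
  rw [hK, pow_one] at *
  rw [g1, add_zero]

theorem aux1 {R : Type*} [Ring R] (n : R) : (1 + n) * (1 - n) = 1 - n * n := by noncomm_ring

theorem aux2 {R : Type*} [Ring R] (n : R) : (1 + n) * (1 + n) = 1 + (n + n) + n * n := by
  noncomm_ring

theorem aux3 {R : Type*} [Ring R] (n : R) : (1 - n) * (1 - n) = 1 - (n + n) + n * n := by
  noncomm_ring

theorem quad_act {X M : Type*} [Group X] [CommGroup M] (φ : X →* MulAut M) (q m' : ℕ)
    (hodd : Odd q) (hqm : Nat.Coprime m' q) (hMq : ∀ a : M, a ^ q = 1) (x y : X)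
    (hquad : ∀ w : M, φ x (φ x w / w) = φ x w / w)
    (hcomm : φ ((x⁻¹ * y⁻¹ * x * y) * (x⁻¹ * x⁻¹ * y⁻¹ * x * x * y)) =
      φ ((x⁻¹ * x⁻¹ * y⁻¹ * x * x * y) * (x⁻¹ * y⁻¹ * x * y)))
    (hpow : φ ((x⁻¹ * y⁻¹ * x * y) ^ m') = 1) : φ (x⁻¹ * y⁻¹ * x * y) = 1 := by
  obtain ⟨ρ, hρ⟩ : ∃ ρ : X →* AddMonoid.End (Additive M),
      ∀ (g : X) (w : Additive M), ρ g w = Additive.ofMul (φ g (Additive.toMul w)) :=
    ⟨{ toFun := fun g => MonoidHom.toAdditive (φ g).toMonoidHom
       map_one' := by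
         apply AddMonoidHom.ext; intro w
         show Additive.ofMul ((φ 1) (Additive.toMul w)) = w
         rw [map_one]; rfl
       map_mul' := by
         intro g h
         apply AddMonoidHom.ext; intro w
         show Additive.ofMul ((φ (g * h)) (Additive.toMul w)) =
           Additive.ofMul ((φ g) ((φ h) (Additive.toMul w)))
         rw [map_mul]; rfl }, fun g w => rfl⟩
  have hρeq : ∀ g h : X, φ g = φ h → ρ g = ρ h := by
    intro g h hgh
    apply AddMonoidHom.ext; intro w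
    exact (hρ g w).trans ((congrArg (fun ψ : MulAut M => Additive.ofMul (ψ (Additive.toMul w)))
      hgh).trans (hρ h w).symm)
  have hq : ∀ r : AddMonoid.End (Additive M), (q : AddMonoid.End (Additive M)) * r = 0 := by
    intro r
    apply AddMonoidHom.ext; intro w
    show (q : AddMonoid.End (Additive M)) (r w) = 0
    rw [AddMonoid.End.natCast_apply]
    have h1 := hMq (Additive.toMul (r w))
    have h2 : q • (r w) = Additive.ofMul ((Additive.toMul (r w)) ^ q) := rfl
    rw [h2, h1]; rfl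
  obtain ⟨n, hn⟩ : ∃ n : AddMonoid.End (Additive M), n = ρ x - 1 := ⟨_, rfl⟩
  have hnw : ∀ w : Additive M, n w = Additive.ofMul (φ x (Additive.toMul w) / Additive.toMul w) := by
    intro w
    rw [hn]
    show ρ x w - w = _
    rw [hρ]; rfl
  have hnn : n * n = 0 := by
    apply AddMonoidHom.ext; intro w
    show n (n w) = 0
    rw [hnw (n w), hnw w]
    show Additive.ofMul (φ x (φ x (Additive.toMul w) / Additive.toMul w) /
      (φ x (Additive.toMul w) / Additive.toMul w)) = 0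
    rw [hquad, div_self']; rfl
  have hx : ρ x = 1 + n := by rw [hn]; abel
  have hxi0 : ρ x⁻¹ * ρ x = 1 := by rw [← map_mul, inv_mul_cancel, map_one]
  have hxi : ρ x⁻¹ = 1 - n := by
    have h1 : (1 + n) * (1 - n) = 1 := by
      rw [aux1, hnn, sub_zero]
    calc ρ x⁻¹ = ρ x⁻¹ * ((1 + n) * (1 - n)) := by rw [h1, mul_one]
      _ = (ρ x⁻¹ * ρ x) * (1 - n) := by rw [hx, mul_assoc]
      _ = 1 - n := by rw [hxi0, one_mul]
  have hyy : ρ y⁻¹ * ρ y = 1 := by rw [← map_mul, inv_mul_cancel, map_one]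
  have hyy' : ρ y * ρ y⁻¹ = 1 := by rw [← map_mul, mul_inv_cancel, map_one]
  obtain ⟨m, hm⟩ : ∃ m : AddMonoid.End (Additive M), m = ρ y⁻¹ * n * ρ y := ⟨_, rfl⟩
  have hmm : m * m = 0 := by
    rw [hm]
    calc ρ y⁻¹ * n * ρ y * (ρ y⁻¹ * n * ρ y) = ρ y⁻¹ * (n * ((ρ y * ρ y⁻¹) * n)) * ρ y := by
          simp only [mul_assoc]
      _ = 0 := by rw [hyy', one_mul, hnn, mul_zero, zero_mul]
  have hk1 : ρ (x⁻¹ * y⁻¹ * x * y) = (1 - n) * (1 + m) := by
    have e : 1 + m = ρ y⁻¹ * (1 + n) * ρ y := by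
      rw [hm, mul_add, add_mul, mul_one, hyy]
    rw [e, map_mul, map_mul, map_mul, hxi, hx]
    simp only [mul_assoc]
  have hk2 : ρ (x⁻¹ * x⁻¹ * y⁻¹ * x * x * y) = (1 - (n + n)) * (1 + (m + m)) := by
    have e : 1 + (m + m) = ρ y⁻¹ * ((1 + n) * (1 + n)) * ρ y := by
      rw [aux2, hnn, add_zero, hm, mul_add, add_mul, mul_add, add_mul, mul_one, hyy]
    have e2 : 1 - (n + n) = (1 - n) * (1 - n) := by
      rw [aux3, hnn, add_zero]
    rw [e, e2, map_mul, map_mul, map_mul, map_mul, map_mul, hxi, hx]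
    simp only [mul_assoc]
  have hc : ((1 - n) * (1 + m)) * ((1 - (n + n)) * (1 + (m + m))) =
      ((1 - (n + n)) * (1 + (m + m))) * ((1 - n) * (1 + m)) := by
    rw [← hk1, ← hk2, ← map_mul, ← map_mul]
    exact hρeq _ _ hcomm
  have hp : ((1 - n) * (1 + m)) ^ m' = 1 := by
    rw [← hk1, ← map_pow, ← map_one ρ]
    exact hρeq _ _ (by rw [hpow, map_one])
  have hfin := ring_key q m' hodd hqm hq n m hnn hmm hc hp
  rw [← hk1] at hfin
  ext w
  have h1 := hρ (x⁻¹ * y⁻¹ * x * y) (Additive.ofMul w)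
  rw [hfin] at h1
  have h2 : Additive.ofMul w = Additive.ofMul (φ (x⁻¹ * y⁻¹ * x * y) w) := h1
  exact (Additive.ofMul.injective h2).symm

/-- Group version: `W` a normal abelian subgroup of `X` of odd exponent dividing `q`. -/
theorem quad_group {X : Type*} [Group X] (W : Subgroup X) [hWn : W.Normal]
    (hWc : ∀ a ∈ W, ∀ b ∈ W, a * b = b * a) (q m' : ℕ) (hodd : Odd q) (hqm : Nat.Coprime m' q)
    (hWq : ∀ a ∈ W, a ^ q = 1) (x y : X)
    (hquad : ∀ w ∈ W, x * (x * w * x⁻¹ * w⁻¹) = (x * w * x⁻¹ * w⁻¹) * x)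
    (hcomm : (x⁻¹ * y⁻¹ * x * y) * (x⁻¹ * x⁻¹ * y⁻¹ * x * x * y) *
      ((x⁻¹ * x⁻¹ * y⁻¹ * x * x * y) * (x⁻¹ * y⁻¹ * x * y))⁻¹ ∈
        Subgroup.centralizer (W : Set X))
    (hpow : (x⁻¹ * y⁻¹ * x * y) ^ m' ∈ Subgroup.centralizer (W : Set X)) :
    x⁻¹ * y⁻¹ * x * y ∈ Subgroup.centralizer (W : Set X) := by
  let _ : CommGroup ↥W :=
    { (inferInstance : Group ↥W) with
      mul_comm := fun a b => Subtype.ext (hWc a.1 a.2 b.1 b.2) }
  have hcent : ∀ g : X, g ∈ Subgroup.centralizer (W : Set X) →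
      (MulAut.conjNormal g : MulAut ↥W) = 1 := by
    intro g hg
    ext w
    rw [MulAut.conjNormal_apply]
    have h1 := Subgroup.mem_centralizer_iff.mp hg w.1 w.2
    show g * (w : X) * g⁻¹ = (w : X)
    rw [← h1]; group
  have key := quad_act (M := ↥W) (MulAut.conjNormal : X →* MulAut ↥W) q m' hodd hqm
    (fun a => Subtype.ext (by simpa using hWq a.1 a.2)) x y ?_ ?_ ?_
  · rw [Subgroup.mem_centralizer_iff]
    intro w hw
    have h1 := congrArg (fun f : MulAut ↥W => ((f ⟨w, hw⟩ : ↥W) : X)) key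
    simp only [MulAut.conjNormal_apply, MulAut.one_apply] at h1
    calc w * (x⁻¹ * y⁻¹ * x * y) = (x⁻¹ * y⁻¹ * x * y * w * (x⁻¹ * y⁻¹ * x * y)⁻¹)
          * (x⁻¹ * y⁻¹ * x * y) := by rw [h1]
      _ = _ := by group
  · intro w
    apply Subtype.ext
    have h1 := hquad w.1 w.2
    rw [MulAut.conjNormal_apply]
    show x * ((x * (w : X) * x⁻¹) / (w : X)) * x⁻¹ = (x * (w : X) * x⁻¹) / (w : X)
    rw [div_eq_mul_inv, h1]; group
  · have h1 := hcent _ hcomm
    rw [map_mul, map_inv, mul_inv_eq_one] at h1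
    exact h1
  · exact hcent _ hpow

end Cfsg.Agent.H1Quad
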