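import Mathlib
import Cfsg.Prelude.Def_Transfer
import Cfsg.Prelude.Def_SolvableStructure
import Cfsg.Agent.Lib_helper1_Frobenius

set_option autoImplicit false

namespace Cfsg.Agent.Lib_helper1_MinNonNil

open Cfsg Cfsg.Agent.Lib_helper1_Frobenius

universe u

theorem npc_of_nilpotent {G : Type u} [Group G] [Finite G] [Group.IsNilpotent G] (p : ℕ)
    [Fact p.Prime] : NPC p G := by
  apply Cfsg.Agent.Lib_helper1_Frobenius.frobenius
  intro Q hQ g hg hgo
  haveI : ((Q.subgroupOf (Subgroup.normalizer (Q : Set G)))).Normal :=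
    Subgroup.normal_in_normalizer
  have h1 := centralizes_of_nilpotent (G := Subgroup.normalizer (Q : Set G))
    (Q.subgroupOf _) hQ.comap_subtype ⟨g, hg⟩ (by rw [Subgroup.orderOf_mk]; exact hgo)
  rw [Subgroup.mem_centralizer_iff] at h1 ⊢
  intro t ht
  have := h1 ⟨t, Subgroup.le_normalizer ht⟩
    (by rw [SetLike.mem_coe, Subgroup.mem_subgroupOf]; exact ht)
  exact congrArg Subtype.val this

theorem pow_coprime_mem {G : Type*} [Group G] (C : Subgroup G) (g : G) {r d : ℕ}
    (hcop : Nat.Coprime r d) (hr : g ^ r ∈ C) (hd : g ^ d ∈ C) : g ∈ C := by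
  have h1 : (1 : ℤ) = (r : ℤ) * Int.gcdA r d + (d : ℤ) * Int.gcdB r d := by
    have := Int.gcd_eq_gcd_ab (r : ℤ) (d : ℤ)
    rw [Int.gcd_natCast_natCast, hcop] at this
    exact_mod_cast this
  have h2 : g = (g ^ r) ^ (Int.gcdA r d) * (g ^ d) ^ (Int.gcdB r d) := by
    rw [← zpow_natCast g r, ← zpow_natCast g d, ← zpow_mul, ← zpow_mul, ← zpow_add, ← h1,
      zpow_one]
  rw [h2]; exact mul_mem (zpow_mem hr _) (zpow_mem hd _)

/-- Structure of a minimal non-`p`-nilpotent group. -/
theorem ito_structure {G : Type u} [Group G] [Finite G] {p : ℕ} [Fact p.Prime] (h1 : ¬ NPC p G)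
    (h2 : ∀ H : Subgroup G, H ≠ ⊤ → NPC p H) :
    ∃ (Q : Subgroup G) (g : G), IsPGroup p Q ∧ Q.Normal ∧ Q ⊔ Subgroup.zpowers g = ⊤ ∧
      (orderOf g).Coprime p ∧ g ∉ Subgroup.centralizer (Q : Set G) ∧
      ∃ r k : ℕ, r.Prime ∧ orderOf g = r ^ k := by
  classical
  have hp : p.Prime := Fact.out
  have hnot : ¬ FrobHyp p G := fun hF => h1 (Cfsg.Agent.Lib_helper1_Frobenius.frobenius hF)
  unfold FrobHyp at hnot
  push_neg at hnot
  obtain ⟨Q, hQ, g₀, hg₀, hgo₀, hgC₀⟩ := hnot
  have hex : ∃ n : ℕ, ∃ g ∈ Subgroup.normalizer (Q : Set G), (orderOf g).Coprime p ∧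
      g ∉ Subgroup.centralizer (Q : Set G) ∧ orderOf g = n := ⟨_, g₀, hg₀, hgo₀, hgC₀, rfl⟩
  obtain ⟨g, hg, hgo, hgC, hgn⟩ := Nat.find_spec hex
  have hmin : ∀ g' ∈ Subgroup.normalizer (Q : Set G), (orderOf g').Coprime p →
      orderOf g' < orderOf g → g' ∈ Subgroup.centralizer (Q : Set G) := by
    intro g' hg' hgo' hlt
    by_contra hc
    exact Nat.find_min hex (hgn ▸ hlt) ⟨g', hg', hgo', hc, rfl⟩
  have htop : Q ⊔ Subgroup.zpowers g = ⊤ := by
    by_contra hne
    apply hgC
    exact frobHyp_apply_sub _ (frobHyp_of_npc (h2 _ hne)) Q hQ le_sup_left g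
      (le_sup_right (a := Q) (Subgroup.mem_zpowers g)) hg hgo
  have hQn : Q.Normal := by
    rw [← Subgroup.normalizer_eq_top_iff, eq_top_iff, ← htop]
    exact sup_le Subgroup.le_normalizer (by rw [Subgroup.zpowers_le]; exact hg)
  refine ⟨Q, g, hQ, hQn, htop, hgo, hgC, ?_⟩
  have hn1 : orderOf g ≠ 1 := by
    intro h
    rw [orderOf_eq_one_iff] at h
    apply hgC
    rw [h]; exact one_mem _
  have hpos : 0 < orderOf g := orderOf_pos g
  have hr : (orderOf g).minFac.Prime := Nat.minFac_prime hn1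
  refine ⟨(orderOf g).minFac, _, hr, Nat.eq_prime_pow_of_unique_prime_dvd hpos.ne' ?_⟩
  intro d hd hdn
  by_contra hne
  have hsmall : ∀ e : ℕ, e.Prime → e ∣ orderOf g → g ^ e ∈ Subgroup.centralizer (Q : Set G) := by
    intro e he hen
    apply hmin _ (pow_mem hg e)
    · exact Nat.Coprime.coprime_dvd_left (orderOf_pow_dvd e) hgo
    · rw [orderOf_pow' g he.ne_zero, Nat.gcd_eq_right hen]
      exact Nat.div_lt_self hpos he.one_lt
  apply hgC
  exact pow_coprime_mem _ g ((Nat.coprime_primes hd hr).mpr hne) (hsmall d hd hdn)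
    (hsmall _ hr (Nat.minFac_dvd _))

theorem isSolvable_of_normal {G : Type*} [Group G] (N : Subgroup G) [N.Normal]
    (h1 : Group.IsSolvable N) (h2 : Group.IsSolvable (G ⧸ N)) : Group.IsSolvable G :=
  Group.isSolvable_of_ker_le_range N.subtype (QuotientGroup.mk' N)
    (by rw [QuotientGroup.ker_mk', Subgroup.range_subtype])

theorem nilpotent_of_le {G : Type*} [Group G] {H M : Subgroup G} (hHM : H ≤ M)
    (hM : Group.IsNilpotent M) : Group.IsNilpotent H :=
  Group.nilpotent_of_mulEquiv (Subgroup.subgroupOfEquivOfLe hHM)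

/-- **Schmidt**: a finite group all of whose maximal subgroups are nilpotent is solvable. -/
theorem schmidt {G : Type u} [Group G] [Finite G]
    (h : ∀ M : Subgroup G, IsCoatom M → Group.IsNilpotent M) : Group.IsSolvable G := by
  have hprop : ∀ H : Subgroup G, H ≠ ⊤ → Group.IsNilpotent H := by
    intro H hH
    obtain ⟨M, hM, hHM⟩ := (eq_top_or_exists_le_coatom H).resolve_left hH
    exact nilpotent_of_le hHM (h M hM)
  by_cases hnil : Group.IsNilpotent G
  · infer_instance
  have hcard : Nat.card G ≠ 1 := by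
    intro h1
    apply hnil
    haveI : Subsingleton G := (Nat.card_eq_one_iff_unique.mp h1).1
    infer_instance
  have hp : (Nat.card G).minFac.Prime := Nat.minFac_prime hcard
  haveI : Fact (Nat.card G).minFac.Prime := ⟨hp⟩
  by_cases hnpc : NPC (Nat.card G).minFac G
  · obtain ⟨N, hN, hc, k, hk⟩ := hnpc
    haveI := hN
    have hNne : N ≠ ⊤ := by
      intro htop
      rw [htop, Subgroup.card_top] at hc
      exact (Nat.Prime.coprime_iff_not_dvd hp).mp hc.symm (Nat.minFac_dvd _)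
    haveI := hprop N hNne
    have hq : IsPGroup (Nat.card G).minFac (G ⧸ N) := by
      apply IsPGroup.of_card (n := k)
      rw [← Subgroup.index_eq_card, hk]
    haveI := hq.isNilpotent
    exact isSolvable_of_normal N inferInstance inferInstance
  · obtain ⟨Q, g, hQ, hQn, htop, -, -, -⟩ := ito_structure hnpc
      (fun H hH => by haveI := hprop H hH; exact npc_of_nilpotent _)
    haveI := hQn
    haveI := hQ.isNilpotent
    have hcomm : Group.IsSolvable (G ⧸ Q) := by
      apply Group.isSolvable_of_comm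
      intro a b
      obtain ⟨a, rfl⟩ := QuotientGroup.mk_surjective a
      obtain ⟨b, rfl⟩ := QuotientGroup.mk_surjective b
      have h1 := comm_mem_of_sup_zpowers Q g htop a b
      have h2 : (a : G ⧸ Q) * b * (a : G ⧸ Q)⁻¹ * (b : G ⧸ Q)⁻¹ = 1 :=
        (QuotientGroup.eq_one_iff _).mpr h1
      calc (a : G ⧸ Q) * b = ((a : G ⧸ Q) * b * (a : G ⧸ Q)⁻¹ * (b : G ⧸ Q)⁻¹) * (b * a) := by
            group
        _ = b * a := by rw [h2, one_mul]
    exact isSolvable_of_normal Q inferInstance hcomm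

/-- A finite group with a normal `q`-complement for every prime `q` is nilpotent. -/
theorem nilpotent_of_npc_all {G : Type*} [Group G] [Finite G]
    (h : ∀ q : ℕ, q.Prime → NPC q G) : Group.IsNilpotent G := by
  apply ((Group.isNilpotent_of_finite_tfae (G := G)).out 0 3).mpr
  intro q hq S
  have hqp : q.Prime := hq.out
  choose N hNn hNc hNk using h
  have hcomm : ∀ (r : ℕ), r.Prime → r ≠ q → ∀ s ∈ (S : Subgroup G), ∀ t : G,
      (∃ k : ℕ, t ^ r ^ k = 1) → s * t = t * s := by
    intro r hr hne s hs t ⟨k, hk⟩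
    obtain ⟨j, hj⟩ := S.2 ⟨s, hs⟩
    have hj' : s ^ q ^ j = 1 := by
      have := congrArg Subtype.val hj
      simpa using this
    have hc : ∀ (u : ℕ) (hu : u.Prime), s * t * s⁻¹ * t⁻¹ ∈ N u hu := by
      intro u hu
      haveI := hNn u hu
      obtain ⟨i, hi⟩ := hNk u hu
      by_cases huq : u = q
      · have ht : t ∈ N u hu := by
          apply mem_of_coprime_of_index _ hi t
          have h1 : orderOf t ∣ r ^ k := orderOf_dvd_of_pow_eq_one hk
          have h2 : (r ^ k).Coprime u :=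
            Nat.Coprime.pow_left k ((Nat.coprime_primes hr hu).mpr (fun h => hne (h.trans huq)))
          exact Nat.Coprime.coprime_dvd_left h1 h2
        exact mul_mem ((hNn u hu).conj_mem _ ht s) (inv_mem ht)
      · have hs' : s ∈ N u hu := by
          apply mem_of_coprime_of_index _ hi s
          have h1 : orderOf s ∣ q ^ j := orderOf_dvd_of_pow_eq_one hj'
          have h2 : (q ^ j).Coprime u :=
            Nat.Coprime.pow_left j ((Nat.coprime_primes hqp hu).mpr (fun h => huq h.symm))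
          exact Nat.Coprime.coprime_dvd_left h1 h2
        have : s * t * s⁻¹ * t⁻¹ = s * (t * s⁻¹ * t⁻¹) := by group
        rw [this]
        exact mul_mem hs' ((hNn u hu).conj_mem _ (inv_mem hs') t)
    have h1 : orderOf (s * t * s⁻¹ * t⁻¹) = 1 := by
      by_contra hne1
      have hu := Nat.minFac_prime hne1
      have hd1 : (orderOf (s * t * s⁻¹ * t⁻¹)).minFac ∣ Nat.card (N _ hu) :=
        dvd_trans (Nat.minFac_dvd _) (Subgroup.orderOf_dvd_natCard _ (hc _ hu))
      exact (Nat.Prime.coprime_iff_not_dvd hu).mp (hNc _ hu).symm hd1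
    rw [orderOf_eq_one_iff] at h1
    calc s * t = (s * t * s⁻¹ * t⁻¹) * (t * s) := by group
      _ = t * s := by rw [h1, one_mul]
  rw [← Subgroup.normalizer_eq_top_iff, ← Subgroup.index_eq_one]
  by_contra hne1
  have hu := Nat.minFac_prime hne1
  haveI : Fact (Subgroup.normalizer ((S : Subgroup G) : Set G)).index.minFac.Prime := ⟨hu⟩
  have hdvd := Nat.minFac_dvd (Subgroup.normalizer ((S : Subgroup G) : Set G)).index
  by_cases huq : (Subgroup.normalizer ((S : Subgroup G) : Set G)).index.minFac = q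
  · rw [huq] at hdvd
    exact S.not_dvd_index (dvd_trans hdvd (Subgroup.index_dvd_of_le Subgroup.le_normalizer))
  · obtain ⟨U⟩ : Nonempty (Sylow (Subgroup.normalizer ((S : Subgroup G) : Set G)).index.minFac G) :=
      inferInstance
    have hU : (U : Subgroup G) ≤ Subgroup.normalizer ((S : Subgroup G) : Set G) := by
      intro t ht
      apply Subgroup.centralizer_le_normalizer
      rw [Subgroup.mem_centralizer_iff]
      intro s hs
      obtain ⟨k, hk⟩ := U.2 ⟨t, ht⟩
      have hk' : t ^ (Subgroup.normalizer ((S : Subgroup G) : Set G)).index.minFac ^ k = 1 := by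
        have := congrArg Subtype.val hk
        simpa using this
      exact hcomm _ hu huq s hs t ⟨k, hk'⟩
    exact U.not_dvd_index (dvd_trans hdvd (Subgroup.index_dvd_of_le hU))

/-- Detailed structure of a minimal non-nilpotent group. -/
theorem minNonNil_data {G : Type u} [Group G] [Finite G] (hG : IsMinimalNonNilpotent G) :
    ∃ (q r : ℕ) (Q : Subgroup G) (g : G) (k a : ℕ), q.Prime ∧ r.Prime ∧ q ≠ r ∧
      IsPGroup q Q ∧ Q.Normal ∧ Q ⊔ Subgroup.zpowers g = ⊤ ∧ orderOf g = r ^ k ∧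
      g ∉ Subgroup.centralizer (Q : Set G) ∧ Nat.card Q = q ^ a ∧
      Nat.card G = q ^ a * r ^ k ∧ Q.index = r ^ k ∧ (Subgroup.zpowers g).index = q ^ a ∧
      Q ⊓ Subgroup.zpowers g = ⊥ := by
  obtain ⟨hnil, hprop⟩ := hG
  have hex : ∃ q : ℕ, q.Prime ∧ ¬ NPC q G := by
    by_contra hcon
    push_neg at hcon
    exact hnil (nilpotent_of_npc_all hcon)
  obtain ⟨q, hq, hnpc⟩ := hex
  haveI : Fact q.Prime := ⟨hq⟩
  obtain ⟨Q, g, hQ, hQn, htop, hgo, hgC, r, k, hr, hgr⟩ := ito_structure hnpc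
    (fun H hH => by haveI := hprop H hH; exact npc_of_nilpotent _)
  haveI := hQn
  have hne : q ≠ r := by
    intro h
    subst h
    rw [hgr] at hgo
    by_cases hk : k = 0
    · rw [hk, pow_zero, orderOf_eq_one_iff] at hgr
      apply hgC; rw [hgr]; exact one_mem _
    · exact hq.ne_one (Nat.Coprime.eq_one_of_dvd hgo.symm (dvd_pow_self q hk))
  obtain ⟨a, ha⟩ := hQ.exists_card_eq
  have hcardZ : Nat.card (Subgroup.zpowers g) = r ^ k := by rw [Nat.card_zpowers, hgr]
  have hinf : Q ⊓ Subgroup.zpowers g = ⊥ := by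
    apply Subgroup.inf_eq_bot_of_coprime
    rw [ha, hcardZ]
    exact Nat.Coprime.pow _ _ ((Nat.coprime_primes hq hr).mpr hne)
  have hcardG : Nat.card G = q ^ a * r ^ k := by
    have h3 := Cfsg.Agent.Lib_helper1_Fitting.card_sup_eq (Subgroup.zpowers g) Q
    rw [sup_comm, htop, Subgroup.card_top, ← Subgroup.inf_relIndex_right, hinf,
      Subgroup.relIndex_bot_left, ha, hcardZ] at h3
    exact h3
  refine ⟨q, r, Q, g, k, a, hq, hr, hne, hQ, hQn, htop, hgr, hgC, ha, hcardG, ?_, ?_, hinf⟩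
  · have h4 := Subgroup.card_mul_index Q
    rw [ha, hcardG] at h4
    exact Nat.eq_of_mul_eq_mul_left (pow_pos hq.pos a) h4
  · have h4 := Subgroup.card_mul_index (Subgroup.zpowers g)
    rw [hcardZ, hcardG, mul_comm (q ^ a)] at h4
    exact Nat.eq_of_mul_eq_mul_left (pow_pos hr.pos k) h4

theorem minNonNil_structure {G : Type u} [Group G] [Finite G] (hG : IsMinimalNonNilpotent G) :
    ∃ p q : ℕ, p.Prime ∧ q.Prime ∧ p ≠ q ∧ ∃ (P : Sylow p G) (Q : Sylow q G), IsCyclic P ∧
      (Q : Subgroup G).Normal ∧ (P : Subgroup G) ⊔ Q = ⊤ := by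
  obtain ⟨q, r, Q, g, k, a, hq, hr, hne, hQ, hQn, htop, hgr, hgC, ha, hcardG, hQi, hZi, hinf⟩ :=
    minNonNil_data hG
  haveI : Fact q.Prime := ⟨hq⟩
  haveI : Fact r.Prime := ⟨hr⟩
  have hZp : IsPGroup r (Subgroup.zpowers g) := by
    apply IsPGroup.of_card (n := k)
    rw [Nat.card_zpowers, hgr]
  have h1 : ¬ r ∣ (Subgroup.zpowers g).index := by
    rw [hZi]
    exact fun h => hne ((Nat.prime_dvd_prime_iff_eq hr hq).mp (hr.dvd_of_dvd_pow h)).symm
  have h2 : ¬ q ∣ Q.index := by
    rw [hQi]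
    exact fun h => hne ((Nat.prime_dvd_prime_iff_eq hq hr).mp (hq.dvd_of_dvd_pow h))
  refine ⟨r, q, hr, hq, hne.symm, hZp.toSylow h1, hQ.toSylow h2, ?_, ?_, ?_⟩
  · show IsCyclic (Subgroup.zpowers g)
    exact Subgroup.isCyclic_zpowers g
  · exact hQn
  · show Subgroup.zpowers g ⊔ Q = ⊤
    rw [sup_comm]; exact htop

end Cfsg.Agent.Lib_helper1_MinNonNil
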