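import Mathlib
import Cfsg.Agent.Lib_helper6_Conj
import Cfsg.Agent.Lib_helper5_Fitting

set_option autoImplicit false
open Cfsg.Agent.Lib_helper6_Conj

namespace Cfsg.Agent.Lib_helper1_MinNormalAux

/-- normalizer of `A.subgroupOf K` inside `K` vs. normalizer of `A` -/
theorem mem_normalizer_of_subgroupOf {G : Type*} [Group G] {A K : Subgroup G} (hAK : A ≤ K)
    (x : K) (hx : x ∈ Subgroup.normalizer ((A.subgroupOf K : Subgroup K) : Set K)) :
    (x : G) ∈ Subgroup.normalizer (A : Set G) := by
  rw [Subgroup.mem_normalizer_iff] at hx ⊢
  intro a
  constructor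
  · intro ha
    exact (hx ⟨a, hAK ha⟩).mp ha
  · intro ha
    have haK : a ∈ K := by
      have h1 : (x : G)⁻¹ * ((x : G) * a * (x : G)⁻¹) * (x : G) ∈ K :=
        K.mul_mem (K.mul_mem (K.inv_mem x.2) (hAK ha)) x.2
      have h2 : (x : G)⁻¹ * ((x : G) * a * (x : G)⁻¹) * (x : G) = a := by group
      rwa [h2] at h1
    exact (hx ⟨a, haK⟩).mpr ha

/-- A minimal normal subgroup of a finite group normalizes every subnormal subgroup. -/
theorem minNormal_le_normalizer.{u} (G : Type u) [Group G] [Finite G] (A N : Subgroup G)
    (hA : A.IsSubnormal) (hN : N.Normal)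
    (hmin : ∀ K : Subgroup G, K.Normal → K ≤ N → K = ⊥ ∨ K = N) :
    N ≤ Subgroup.normalizer (A : Set G) := by
  induction hn : Nat.card G using Nat.strong_induction_on generalizing G with
  | _ n ih =>
    by_cases htopA : A = ⊤
    · subst htopA
      intro x _
      rw [Subgroup.mem_normalizer_iff]
      intro h; simp
    · obtain ⟨K, hKn, hAK, hKtop⟩ := hA.exists_normal_and_le_and_lt_top_of_ne htopA
      haveI := hKn
      haveI := hN
      have hlt : Nat.card K < n := hn ▸ Cfsg.Agent.Lib_helper5_Fitting.card_lt_of_lt_top hKtop
      by_cases hd : N ⊓ K = ⊥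
      · -- N centralizes K
        intro x hx
        apply Subgroup.centralizer_le_normalizer
        rw [Subgroup.mem_centralizer_iff]
        intro a ha
        exact (Subgroup.commute_of_normal_of_disjoint N K hN hKn (disjoint_iff.mpr hd) x a hx
          (hAK ha)).eq.symm
      · have hNK : N ≤ K := by
          rcases hmin (N ⊓ K) inferInstance inf_le_left with h | h
          · exact absurd h hd
          · exact inf_eq_left.mp h
        have hNbot : N ≠ ⊥ := by
          intro h; apply hd; rw [h]; exact bot_inf_eq K
        -- choose a minimal K-invariant subgroup of N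
        let S₁ : Set (Subgroup G) :=
          {T | T ≠ ⊥ ∧ T ≤ N ∧ K ≤ Subgroup.normalizer (T : Set G)}
        have hS₁ne : S₁.Nonempty := ⟨N, hNbot, le_rfl, by
          rw [Subgroup.normalizer_eq_top_iff.mpr hN]; exact le_top⟩
        obtain ⟨N₁, hN₁, hN₁min⟩ := Set.exists_min_image S₁ (fun T : Subgroup G => Nat.card T)
          (Set.toFinite S₁) hS₁ne
        have hminimal : ∀ T ∈ S₁, T ≤ N₁ → T = N₁ := fun T hT hle =>
          Subgroup.eq_of_le_of_card_ge hle (hN₁min T hT)
        -- S₁ is closed under conjugation
        have hconj : ∀ T ∈ S₁, ∀ g : G, T.map (MulAut.conj g).toMonoidHom ∈ S₁ := by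
          rintro T ⟨hT1, hT2, hT3⟩ g
          refine ⟨?_, ?_, ?_⟩
          · intro h
            apply hT1
            rw [← conjMap_inv_conjMap T g, h, Subgroup.map_bot]
          · intro y hy
            rw [mem_conjMap] at hy
            have := hN.conj_mem _ (hT2 hy) g
            simpa [mul_assoc] using this
          · intro k hk
            rw [mem_normalizer_iff_conjMap, ← conjMap_mul]
            have h1 : g⁻¹ * k * g ∈ K := by
              have := hKn.conj_mem k hk g⁻¹
              simpa using this
            have h2 := hT3 h1
            rw [mem_normalizer_iff_conjMap] at h2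
            have h3 : k * g = g * (g⁻¹ * k * g) := by group
            rw [h3, conjMap_mul, h2]
        -- each conjugate of N₁ normalizes A
        have hstep : ∀ g : G, N₁.map (MulAut.conj g).toMonoidHom ≤ Subgroup.normalizer (A : Set G) := by
          intro g
          set T₀ := N₁.map (MulAut.conj g).toMonoidHom with hT₀
          have hT₀S : T₀ ∈ S₁ := hconj N₁ hN₁ g
          have hT₀K : T₀ ≤ K := hT₀S.2.1.trans hNK
          have hT₀min : ∀ T ∈ S₁, T ≤ T₀ → T = T₀ := by
            intro T hT hle
            have h1 : T.map (MulAut.conj g⁻¹).toMonoidHom ≤ N₁ := by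
              have := Subgroup.map_mono (f := (MulAut.conj g⁻¹).toMonoidHom) hle
              rwa [hT₀, conjMap_inv_conjMap] at this
            have h2 := hminimal _ (hconj T hT g⁻¹) h1
            rw [hT₀, ← h2, conjMap_conjMap_inv]
          have hnorm' : (T₀.subgroupOf K).Normal :=
            (Subgroup.normal_subgroupOf_iff_le_normalizer hT₀K).mpr hT₀S.2.2
          have key := ih (Nat.card K) hlt K (A.subgroupOf K) (T₀.subgroupOf K) hA.subgroupOf hnorm'
            (by
              intro T' hT'n hT'le
              by_cases hb : T' = ⊥
              · exact Or.inl hb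
              · right
                have hTK : T'.map K.subtype ≤ K := by
                  rintro _ ⟨y, _, rfl⟩; exact y.2
                have hsub : (T'.map K.subtype).subgroupOf K = T' :=
                  Subgroup.comap_map_eq_self_of_injective K.subtype_injective T'
                have hTle : T'.map K.subtype ≤ T₀ := by
                  rintro _ ⟨y, hy, rfl⟩
                  exact hT'le hy
                have hTS : T'.map K.subtype ∈ S₁ := by
                  refine ⟨?_, hTle.trans hT₀S.2.1, ?_⟩
                  · intro h
                    apply hb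
                    rw [← hsub, h]
                    exact Subgroup.bot_subgroupOf K
                  · rw [← Subgroup.normal_subgroupOf_iff_le_normalizer hTK, hsub]
                    exact hT'n
                rw [← hsub, hT₀min _ hTS hTle])
            rfl
          intro x hx
          exact mem_normalizer_of_subgroupOf hAK ⟨x, hT₀K hx⟩ (key (by
            rw [Subgroup.mem_subgroupOf]; exact hx))
        -- the normal closure of N₁ is N
        have hcl : Subgroup.normalClosure (N₁ : Set G) = N := by
          rcases hmin (Subgroup.normalClosure (N₁ : Set G)) inferInstance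
            (Subgroup.normalClosure_le_normal hN₁.2.1) with h | h
          · exfalso
            apply hN₁.1
            rw [eq_bot_iff, ← h]
            exact Subgroup.le_normalClosure
          · exact h
        rw [← hcl, Subgroup.normalClosure]
        rw [Subgroup.closure_le]
        intro a ha
        rw [Group.mem_conjugatesOfSet_iff] at ha
        obtain ⟨x, hx, hxa⟩ := ha
        rw [isConj_iff] at hxa
        obtain ⟨c, rfl⟩ := hxa
        apply hstep c
        rw [mem_conjMap]
        have : c⁻¹ * (c * x * c⁻¹) * c = x := by group
        rw [this]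
        exact hx

end Cfsg.Agent.Lib_helper1_MinNormalAux
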