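import Mathlib
import Cfsg.Prelude.Def_Local
import Cfsg.Agent.Lib_helper1_GT0
import Cfsg.Agent.Lib_helper1_Hall
import Cfsg.Agent.Lib_helper6_PCore
import Cfsg.Agent.Lib_helper7_PPrime

set_option autoImplicit false

/-! p-stability and the quotient by `O_{p'}`. -/

namespace Cfsg.Agent.H1PSQ

open Cfsg
open Cfsg.Agent.Lib_helper6_PCore

theorem pgroup_inf_triv {G : Type*} [Group G] [Finite G] {p : ℕ} [Fact p.Prime]
    (O : Subgroup G) (hOc : (Nat.card O).Coprime p) (P : Subgroup G) (hP : IsPGroup p P)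
    (x : G) (hxP : x ∈ P) (hxO : x ∈ O) : x = 1 := by
  obtain ⟨k, hk⟩ := hP ⟨x, hxP⟩
  have h1 : x ^ p ^ k = 1 := by simpa using congrArg Subtype.val hk
  have h2' : (⟨x, hxO⟩ : O) ^ Nat.card O = 1 := pow_card_eq_one'
  have h2 : x ^ Nat.card O = 1 := by
    have := congrArg Subtype.val h2'
    exact this
  have h3 : (Nat.card O).Coprime (p ^ k) := Nat.Coprime.pow_right k hOc
  have h4 : x ^ Nat.gcd (Nat.card O) (p ^ k) = 1 := pow_gcd_eq_one.mpr ⟨h2, h1⟩
  rw [Nat.Coprime.gcd_eq_one h3] at h4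
  simpa using h4

/-- lifting a `p`-subgroup through a homomorphism, inside a given subgroup. -/
theorem lift_pgroup {G H : Type*} [Group G] [Group H] [Finite G] {p : ℕ} [Fact p.Prime]
    (f : G →* H) (M : Subgroup G) (B : Subgroup H) (hB : IsPGroup p B) (hBM : B ≤ M.map f) :
    ∃ A : Subgroup G, IsPGroup p A ∧ A ≤ M ∧ A.map f = B := by
  classical
  obtain ⟨M', hM'⟩ : ∃ M' : Subgroup G, M' = M ⊓ B.comap f := ⟨_, rfl⟩
  have hM0 : M' ≤ M ⊓ B.comap f := hM'.le
  have hM1 : ∀ x : M', (x : G) ∈ M := fun x => (hM0 x.2).1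
  have hM2 : ∀ x : M', f (x : G) ∈ B := fun x => (hM0 x.2).2
  let f' : M' →* B := (f.comp M'.subtype).codRestrict B hM2
  have hf' : Function.Surjective f' := by
    rintro ⟨b, hb⟩
    obtain ⟨m, hm, rfl⟩ := hBM hb
    have hmM : m ∈ M' := by rw [hM']; exact ⟨hm, hb⟩
    exact ⟨⟨m, hmM⟩, rfl⟩
  obtain ⟨Q⟩ : Nonempty (Sylow p B) := inferInstance
  have hQ : (Q : Subgroup B) = ⊤ := (Q.is_maximal' (IsPGroup.to_subgroup hB ⊤) le_top).symm
  obtain ⟨A0, hA0⟩ := Sylow.mapSurjective_surjective hf' p Q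
  have h1 : (A0 : Subgroup M').map f' = ⊤ := by
    rw [← hQ, ← hA0]; rfl
  refine ⟨(A0 : Subgroup M').map M'.subtype, A0.isPGroup'.map _, ?_, ?_⟩
  · rintro _ ⟨x, -, rfl⟩
    exact hM1 x
  · apply le_antisymm
    · rintro _ ⟨_, ⟨x, -, rfl⟩, rfl⟩
      exact hM2 x
    · intro b hb
      have hb' : (⟨b, hb⟩ : B) ∈ (A0 : Subgroup M').map f' := by rw [h1]; trivial
      obtain ⟨x, hx, hxe⟩ := hb'
      exact ⟨(x : G), ⟨x, hx, rfl⟩, congrArg Subtype.val hxe⟩

theorem pPrimeCore_quot_bot {G : Type*} [Group G] [Finite G] (p : ℕ) [Fact p.Prime] :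
    Cfsg.pPrimeCore p (G ⧸ Cfsg.pPrimeCore p G) = ⊥ := by
  rw [eq_bot_iff]
  apply sSup_le
  rintro M ⟨hM, hMp⟩
  haveI := hM
  have h1 : M.comap (QuotientGroup.mk' (Cfsg.pPrimeCore p G)) ≤ Cfsg.pPrimeCore p G := by
    haveI : (M.comap (QuotientGroup.mk' (Cfsg.pPrimeCore p G))).Normal := Subgroup.Normal.comap hM _
    apply Lib_helper7_PPrime.le_pPrimeCore p _
    rw [Lib_helper1_Hall.card_comap_mk']
    exact Nat.Coprime.mul_left (Lib_helper7_PPrime.card_pPrimeCore_coprime p) hMp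
  intro x hx
  obtain ⟨g, rfl⟩ := QuotientGroup.mk'_surjective (Cfsg.pPrimeCore p G) x
  have : g ∈ Cfsg.pPrimeCore p G := h1 hx
  rw [Subgroup.mem_bot]
  exact (QuotientGroup.eq_one_iff g).mpr this

theorem pPrimePCore_eq_pCore {H : Type*} [Group H] [Finite H] (p : ℕ) [Fact p.Prime]
    (hb : Cfsg.pPrimeCore p H = ⊥) : Cfsg.pPrimePCore p H = Cfsg.pCore p H := by
  apply le_antisymm
  · apply le_pCore
    · unfold Cfsg.pPrimePCore
      exact Subgroup.Normal.comap inferInstance _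
    · intro g
      have hg : (QuotientGroup.mk' (Cfsg.pPrimeCore p H)) g.1 ∈
          Cfsg.pCore p (H ⧸ Cfsg.pPrimeCore p H) := g.2
      obtain ⟨k, hk⟩ := (pCore_isPGroup p) ⟨_, hg⟩
      refine ⟨k, Subtype.ext ?_⟩
      have h1 : (QuotientGroup.mk' (Cfsg.pPrimeCore p H)) (g.1 ^ p ^ k) = 1 := by
        have := congrArg Subtype.val hk
        simpa using this
      have h2 : g.1 ^ p ^ k ∈ Cfsg.pPrimeCore p H := (QuotientGroup.eq_one_iff _).mp h1
      rw [hb, Subgroup.mem_bot] at h2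
      simpa using h2
  · intro x hx
    show (QuotientGroup.mk' (Cfsg.pPrimeCore p H)) x ∈ Cfsg.pCore p (H ⧸ Cfsg.pPrimeCore p H)
    have : (Cfsg.pCore p H).map (QuotientGroup.mk' (Cfsg.pPrimeCore p H)) ≤
        Cfsg.pCore p (H ⧸ Cfsg.pPrimeCore p H) :=
      le_pCore (Subgroup.Normal.map inferInstance _ (QuotientGroup.mk'_surjective _))
        ((pCore_isPGroup p).map _)
    exact this ⟨x, hx, rfl⟩

section phi

variable {G : Type*} [Group G] (O : Subgroup G) [O.Normal] (P : Subgroup G)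

/-- restriction of the quotient map to normalizers -/
def resN : ↥(Subgroup.normalizer (P : Set G)) →*
    ↥(Subgroup.normalizer ((P.map (QuotientGroup.mk' O) : Subgroup (G ⧸ O)) : Set (G ⧸ O))) :=
  ((QuotientGroup.mk' O).comp (Subgroup.normalizer (P : Set G)).subtype).codRestrict _
    (fun n => Subgroup.le_normalizer_map (QuotientGroup.mk' O) ⟨n.1, n.2, rfl⟩)

theorem resN_cent (x : ↥(Subgroup.normalizer (P : Set G)))
    (hx : x ∈ (Subgroup.centralizer (P : Set G)).subgroupOf (Subgroup.normalizer (P : Set G))) :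
    resN O P x ∈ (Subgroup.centralizer
        ((P.map (QuotientGroup.mk' O) : Subgroup (G ⧸ O)) : Set (G ⧸ O))).subgroupOf
      (Subgroup.normalizer ((P.map (QuotientGroup.mk' O) : Subgroup (G ⧸ O)) : Set (G ⧸ O))) := by
  rw [Subgroup.mem_subgroupOf] at hx ⊢
  rw [Subgroup.mem_centralizer_iff] at hx ⊢
  rintro _ ⟨y, hy, rfl⟩
  have := hx y hy
  show (QuotientGroup.mk' O) y * (QuotientGroup.mk' O) (x : G) =
    (QuotientGroup.mk' O) (x : G) * (QuotientGroup.mk' O) y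
  rw [← map_mul, ← map_mul, this]

/-- the induced map `N_G(P)/C_G(P) → N(P̄)/C(P̄)` -/
def phi : (↥(Subgroup.normalizer (P : Set G)) ⧸
      (Subgroup.centralizer (P : Set G)).subgroupOf (Subgroup.normalizer (P : Set G))) →*
    (↥(Subgroup.normalizer ((P.map (QuotientGroup.mk' O) : Subgroup (G ⧸ O)) : Set (G ⧸ O))) ⧸
      (Subgroup.centralizer
        ((P.map (QuotientGroup.mk' O) : Subgroup (G ⧸ O)) : Set (G ⧸ O))).subgroupOf
        (Subgroup.normalizer ((P.map (QuotientGroup.mk' O) : Subgroup (G ⧸ O)) : Set (G ⧸ O)))) :=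
  QuotientGroup.map _ _ (resN O P) (fun x hx => resN_cent O P x hx)

theorem phi_injective [Finite G] {p : ℕ} [Fact p.Prime] (hOc : (Nat.card O).Coprime p)
    (hP : IsPGroup p P) : Function.Injective (phi O P) := by
  rw [injective_iff_map_eq_one]
  intro q hq
  obtain ⟨n, rfl⟩ := QuotientGroup.mk_surjective q
  have hq' : (QuotientGroup.mk (resN O P n) : _ ⧸ (Subgroup.centralizer
        ((P.map (QuotientGroup.mk' O) : Subgroup (G ⧸ O)) : Set (G ⧸ O))).subgroupOf
        (Subgroup.normalizer ((P.map (QuotientGroup.mk' O) : Subgroup (G ⧸ O)) : Set (G ⧸ O)))) = 1 := hq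
  rw [QuotientGroup.eq_one_iff] at hq' ⊢
  rw [Subgroup.mem_subgroupOf] at hq' ⊢
  rw [Subgroup.mem_centralizer_iff] at hq' ⊢
  intro x hx
  have h2 := hq' ((QuotientGroup.mk' O) x) ⟨x, hx, rfl⟩
  have h3 : (QuotientGroup.mk' O) (x * (n : G)) = (QuotientGroup.mk' O) ((n : G) * x) := by
    rw [map_mul, map_mul]; exact h2
  have h4 : ((n : G) * x)⁻¹ * (x * (n : G)) ∈ O := QuotientGroup.eq.mp h3.symm
  have h5 : ((n : G) * x)⁻¹ * (x * (n : G)) ∈ P := by
    have hn : (n : G)⁻¹ ∈ Subgroup.normalizer (P : Set G) := Subgroup.inv_mem _ n.2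
    have h51 := (Subgroup.mem_normalizer_iff.mp hn x).mp hx
    have e : ((n : G) * x)⁻¹ * (x * (n : G)) = x⁻¹ * ((n : G)⁻¹ * x * ((n : G)⁻¹)⁻¹) := by group
    rw [e]
    exact P.mul_mem (P.inv_mem hx) h51
  have h6 := pgroup_inf_triv O hOc P hP _ h5 h4
  exact (inv_mul_eq_one.mp h6).symm

theorem phi_surjective [Finite G] {p : ℕ} [Fact p.Prime] (hOc : (Nat.card O).Coprime p)
    (hP : IsPGroup p P) : Function.Surjective (phi O P) := by
  intro q
  obtain ⟨nb, rfl⟩ := QuotientGroup.mk_surjective q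
  obtain ⟨S, hPS⟩ := hP.exists_le_sylow
  obtain ⟨n, hn, hne⟩ := H1GT.normalizer_map_le S O hOc P hPS nb.2
  refine ⟨QuotientGroup.mk ⟨n, hn⟩, ?_⟩
  show (QuotientGroup.mk (resN O P ⟨n, hn⟩) : _ ⧸ (Subgroup.centralizer
        ((P.map (QuotientGroup.mk' O) : Subgroup (G ⧸ O)) : Set (G ⧸ O))).subgroupOf
        (Subgroup.normalizer ((P.map (QuotientGroup.mk' O) : Subgroup (G ⧸ O)) : Set (G ⧸ O)))) =
      QuotientGroup.mk nb
  exact congrArg _ (Subtype.ext hne)

theorem stab_pull [Finite G] {p : ℕ} [Fact p.Prime] (hOc : (Nat.card O).Coprime p)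
    (hP : IsPGroup p P) (A : Subgroup G)
    (h : ((A.map (QuotientGroup.mk' O)).subgroupOf
        (Subgroup.normalizer ((P.map (QuotientGroup.mk' O) : Subgroup (G ⧸ O)) : Set (G ⧸ O)))).map
        (QuotientGroup.mk' ((Subgroup.centralizer
          ((P.map (QuotientGroup.mk' O) : Subgroup (G ⧸ O)) : Set (G ⧸ O))).subgroupOf
          (Subgroup.normalizer ((P.map (QuotientGroup.mk' O) : Subgroup (G ⧸ O)) : Set (G ⧸ O)))))
        ≤ Cfsg.pCore p _) :
    (A.subgroupOf (Subgroup.normalizer (P : Set G))).map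
        (QuotientGroup.mk' ((Subgroup.centralizer (P : Set G)).subgroupOf
          (Subgroup.normalizer (P : Set G))))
      ≤ Cfsg.pCore p _ := by
  have hK : (Cfsg.pCore p _).comap (phi O P) ≤ Cfsg.pCore p _ :=
    le_pCore (Subgroup.Normal.comap inferInstance _)
      (IsPGroup.comap_of_injective (pCore_isPGroup p) (phi O P) (phi_injective O P hOc hP))
  rintro _ ⟨a, ha, rfl⟩
  apply hK
  show phi O P (QuotientGroup.mk a) ∈ Cfsg.pCore p _
  apply h
  refine ⟨resN O P a, ?_, rfl⟩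
  exact Subgroup.mem_subgroupOf.mpr ⟨(a : G), Subgroup.mem_subgroupOf.mp ha, rfl⟩

theorem stab_push [Finite G] {p : ℕ} [Fact p.Prime] (hOc : (Nat.card O).Coprime p)
    (hP : IsPGroup p P) (A : Subgroup G) (hA : A ≤ Subgroup.normalizer (P : Set G))
    (h : (A.subgroupOf (Subgroup.normalizer (P : Set G))).map
        (QuotientGroup.mk' ((Subgroup.centralizer (P : Set G)).subgroupOf
          (Subgroup.normalizer (P : Set G))))
      ≤ Cfsg.pCore p _) :
    ((A.map (QuotientGroup.mk' O)).subgroupOf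
        (Subgroup.normalizer ((P.map (QuotientGroup.mk' O) : Subgroup (G ⧸ O)) : Set (G ⧸ O)))).map
        (QuotientGroup.mk' ((Subgroup.centralizer
          ((P.map (QuotientGroup.mk' O) : Subgroup (G ⧸ O)) : Set (G ⧸ O))).subgroupOf
          (Subgroup.normalizer ((P.map (QuotientGroup.mk' O) : Subgroup (G ⧸ O)) : Set (G ⧸ O)))))
        ≤ Cfsg.pCore p _ := by
  have hK : (Cfsg.pCore p _).map (phi O P) ≤ Cfsg.pCore p _ :=
    le_pCore (Subgroup.Normal.map inferInstance _ (phi_surjective O P hOc hP))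
      ((pCore_isPGroup p).map _)
  rintro _ ⟨ab, hab, rfl⟩
  obtain ⟨a, ha, hae⟩ := Subgroup.mem_subgroupOf.mp hab
  apply hK
  refine ⟨QuotientGroup.mk ⟨a, hA ha⟩, h ⟨⟨a, hA ha⟩, Subgroup.mem_subgroupOf.mpr ha, rfl⟩, ?_⟩
  show (QuotientGroup.mk (resN O P ⟨a, hA ha⟩) : _ ⧸ (Subgroup.centralizer
        ((P.map (QuotientGroup.mk' O) : Subgroup (G ⧸ O)) : Set (G ⧸ O))).subgroupOf
        (Subgroup.normalizer ((P.map (QuotientGroup.mk' O) : Subgroup (G ⧸ O)) : Set (G ⧸ O)))) =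
      QuotientGroup.mk ab
  exact congrArg _ (Subtype.ext hae)

end phi

end Cfsg.Agent.H1PSQ
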