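import Cfsg.Agent.Lib_helper1_Coprime
import Cfsg.Agent.Lib_helper1_MinNormalAux

set_option autoImplicit false
set_option linter.style.haveILetI false

namespace Cfsg.Agent.Lib_helper1_Subnormal

open scoped Pointwise
open Cfsg.Agent.Lib_helper1_Basic Cfsg.Agent.Lib_helper1_SZ Cfsg.Agent.Lib_helper1_Hall
  Cfsg.Agent.Lib_helper1_SZConj Cfsg.Agent.Lib_helper1_Coprime

universe u

theorem normalizer_inf_le_normalizer_sup {G : Type*} [Group G] [Finite G] (A B : Subgroup G) :
    Subgroup.normalizer (A : Set G) ⊓ Subgroup.normalizer (B : Set G) ≤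
      Subgroup.normalizer ((A ⊔ B : Subgroup G) : Set G) := by
  rintro x ⟨hxA, hxB⟩
  apply mem_normalizer_of_conj_smul_eq
  rw [Subgroup.smul_sup, conj_smul_eq_of_mem_normalizer A x hxA,
    conj_smul_eq_of_mem_normalizer B x hxB]

/-- Wielandt: the join of two subnormal subgroups of a finite group is subnormal. -/
theorem sup_isSubnormal_aux (n : ℕ) : ∀ (G : Type u) [Group G] [Finite G], Nat.card G = n →
    ∀ A B : Subgroup G, A.IsSubnormal → B.IsSubnormal → (A ⊔ B).IsSubnormal := by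
  induction n using Nat.strong_induction_on with
  | _ n ih =>
  intro G _ _ hn A B hA hB
  by_cases htriv : Subsingleton G
  · have : A ⊔ B = ⊤ := Subsingleton.elim _ _
    rw [this]; exact Subgroup.IsSubnormal.top
  rw [not_subsingleton_iff_nontrivial] at htriv
  obtain ⟨M, ⟨hMn, hM1⟩, hMmin⟩ := exists_minimal_subgroup
    (fun M : Subgroup G => M.Normal ∧ M ≠ ⊥) ⟨⊤, inferInstance, top_ne_bot⟩
  haveI := hMn
  have hmin : ∀ K : Subgroup G, K.Normal → K ≤ M → K = ⊥ ∨ K = M := by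
    intro K hK hKM
    by_cases hKb : K = ⊥
    · exact Or.inl hKb
    · exact Or.inr (hMmin K ⟨hK, hKb⟩ hKM)
  have hfs : Function.Surjective (QuotientGroup.mk' M) := QuotientGroup.mk'_surjective M
  have hlt : Nat.card (G ⧸ M) < n := by
    have hcardG := Subgroup.card_eq_card_quotient_mul_card_subgroup M
    rw [hn] at hcardG
    have hpos : 0 < Nat.card (G ⧸ M) := Nat.card_pos
    have h1 : 2 ≤ Nat.card M := two_le_card_of_ne_bot M hM1
    nlinarith
  have h1 := ih _ hlt (G ⧸ M) rfl (A.map (QuotientGroup.mk' M)) (B.map (QuotientGroup.mk' M))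
    (hA.map hfs) (hB.map hfs)
  have h2 := h1.comap (QuotientGroup.mk' M)
  rw [← Subgroup.map_sup, QuotientGroup.comap_map_mk'] at h2
  have hMA := Cfsg.Agent.Lib_helper1_MinNormalAux.minNormal_le_normalizer G A M hA hMn hmin
  have hMB := Cfsg.Agent.Lib_helper1_MinNormalAux.minNormal_le_normalizer G B M hB hMn hmin
  have hle : A ⊔ B ≤ M ⊔ (A ⊔ B) := le_sup_right
  have hnorm : M ⊔ (A ⊔ B) ≤ Subgroup.normalizer ((A ⊔ B : Subgroup G) : Set G) :=
    sup_le ((le_inf hMA hMB).trans (normalizer_inf_le_normalizer_sup A B)) Subgroup.le_normalizer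
  exact Subgroup.IsSubnormal.step _ _ hle h2
    ((Subgroup.normal_subgroupOf_iff_le_normalizer hle).mpr hnorm)

theorem sup_isSubnormal {G : Type u} [Group G] [Finite G] (A B : Subgroup G)
    (hA : A.IsSubnormal) (hB : B.IsSubnormal) : (A ⊔ B).IsSubnormal :=
  sup_isSubnormal_aux _ G rfl A B hA hB

theorem sSup_isSubnormal {G : Type u} [Group G] [Finite G] (S : Set (Subgroup G))
    (hS : ∀ U ∈ S, U.IsSubnormal) : (sSup S).IsSubnormal := by
  have hfin : S.Finite := Set.toFinite S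
  induction S, hfin using Set.Finite.induction_on with
  | empty => rw [sSup_empty]; exact Subgroup.IsSubnormal.bot
  | @insert a s _ _ ih =>
    rw [sSup_insert]
    exact sup_isSubnormal _ _ (hS a (Set.mem_insert a s))
      (ih (fun U hU => hS U (Set.mem_insert_of_mem a hU)))

/-- A subnormal, non-normal subgroup `T` has a conjugate different from `T` normalizing `T`. -/
theorem exists_conj_le_normalizer {G : Type u} [Group G] [Finite G] (T : Subgroup G)
    (hT : T.IsSubnormal) (hn : ¬ T.Normal) :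
    ∃ g : G, MulAut.conj g • T ≠ T ∧ MulAut.conj g • T ≤ Subgroup.normalizer (T : Set G) := by
  classical
  obtain ⟨n, f, hmono, hf, hf0, hfn⟩ := Subgroup.IsSubnormal.isSubnormal_iff.mp hT
  have hex : ∃ j, ¬ f j ≤ Subgroup.normalizer (T : Set G) := by
    refine ⟨n, ?_⟩
    rw [hfn]
    intro h
    exact hn (Subgroup.normalizer_eq_top_iff.mp (top_le_iff.mp h))
  have hj := Nat.find_spec hex
  have hj0 : Nat.find hex ≠ 0 := by
    intro h0
    rw [h0, hf0] at hj
    exact hj Subgroup.le_normalizer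
  obtain ⟨i, hi⟩ := Nat.exists_eq_succ_of_ne_zero hj0
  have hfi : f i ≤ Subgroup.normalizer (T : Set G) := by
    by_contra hcon
    have := Nat.find_min' hex hcon
    omega
  rw [hi] at hj
  obtain ⟨g, hg, hgN⟩ := SetLike.not_le_iff_exists.mp hj
  refine ⟨g, fun h => hgN (mem_normalizer_of_conj_smul_eq T g h), ?_⟩
  have hTi : T ≤ f i := hf0 ▸ hmono (Nat.zero_le i)
  intro z hz
  rw [mem_conj_smul] at hz
  apply hfi
  have h1 := conj_mem_of_normal_subgroupOf (hmono (Nat.le_succ i)) (hf i) hg (hTi hz)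
  simpa [mul_assoc] using h1

/-- Let `S` be a conjugation-closed family of subnormal subgroups and `S₀` a proper subfamily.
Then some member of `S` outside `S₀` normalizes the join of `S₀`. -/
theorem exists_normalizing_join {G : Type u} [Group G] [Finite G] (S S₀ : Set (Subgroup G))
    (hS : ∀ U ∈ S, U.IsSubnormal) (hconj : ∀ U ∈ S, ∀ g : G, MulAut.conj g • U ∈ S)
    (h₀ : S₀ ⊂ S) :
    ∃ X ∈ S, X ∉ S₀ ∧ X ≤ Subgroup.normalizer ((sSup S₀ : Subgroup G) : Set G) := by
  set T : Subgroup G := sSup S₀ with hT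
  have hTs : T.IsSubnormal := sSup_isSubnormal S₀ (fun U hU => hS U (h₀.subset hU))
  by_cases hTn : T.Normal
  · obtain ⟨X, hXS, hXS₀⟩ := Set.exists_of_ssubset h₀
    refine ⟨X, hXS, hXS₀, ?_⟩
    rw [Subgroup.normalizer_eq_top_iff.mpr hTn]
    exact le_top
  · obtain ⟨g, hgT, hgN⟩ := exists_conj_le_normalizer T hTs hTn
    have hex : ∃ U ∈ S₀, ¬ MulAut.conj g • U ≤ T := by
      by_contra hcon
      push_neg at hcon
      apply hgT
      have hle : MulAut.conj g • T ≤ T := by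
        rw [Subgroup.pointwise_smul_subset_iff, hT]
        apply sSup_le
        intro U hU
        rw [← Subgroup.pointwise_smul_subset_iff]
        exact hcon U hU
      exact Subgroup.eq_of_le_of_card_ge hle (by rw [card_conj_smul])
    obtain ⟨U, hU, hUT⟩ := hex
    refine ⟨MulAut.conj g • U, hconj U (h₀.subset hU) g, ?_, ?_⟩
    · intro hmem
      exact hUT (le_sSup hmem)
    · refine le_trans ?_ hgN
      rw [Subgroup.pointwise_smul_le_pointwise_smul_iff]
      exact le_sSup hU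

/-! ### The zipper lemma -/

theorem subgroupOf_conj_smul {G : Type*} [Group G] (V B : Subgroup G) (v : V) :
    (MulAut.conj (v : G) • B).subgroupOf V = MulAut.conj v • (B.subgroupOf V) := by
  ext z
  rw [Subgroup.mem_subgroupOf, mem_conj_smul, mem_conj_smul, Subgroup.mem_subgroupOf]
  simp

/-- Relative form of `exists_normalizing_join`, inside a subgroup `V`. -/
theorem exists_normalizing_join_rel {G : Type u} [Group G] [Finite G] (V : Subgroup G)
    (Sg T₀ : Set (Subgroup G)) (hSg : ∀ B ∈ Sg, B ≤ V ∧ (B.subgroupOf V).IsSubnormal)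
    (hconj : ∀ B ∈ Sg, ∀ v ∈ V, MulAut.conj v • B ∈ Sg) (h₀ : T₀ ⊂ Sg) :
    ∃ X ∈ Sg, X ∉ T₀ ∧ X ≤ Subgroup.normalizer ((sSup T₀ : Subgroup G) : Set G) := by
  set S' : Set (Subgroup V) := {B' | B'.map V.subtype ∈ Sg} with hS'
  set S₀' : Set (Subgroup V) := {B' | B'.map V.subtype ∈ T₀} with hS₀'
  have hcm : ∀ B' : Subgroup V, (B'.map V.subtype).subgroupOf V = B' := fun B' =>
    Subgroup.comap_map_eq_self_of_injective V.subtype_injective B'
  have h1 : ∀ B' ∈ S', B'.IsSubnormal := by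
    intro B' hB'
    have := (hSg _ hB').2
    rwa [hcm] at this
  have h2 : ∀ B' ∈ S', ∀ v : V, MulAut.conj v • B' ∈ S' := by
    intro B' hB' v
    show (MulAut.conj v • B').map V.subtype ∈ Sg
    rw [map_conj_smul]
    exact hconj _ hB' v v.2
  have h3 : S₀' ⊂ S' := by
    rw [Set.ssubset_def]
    refine ⟨fun B' hB' => h₀.subset hB', fun hsub => ?_⟩
    obtain ⟨B, hB, hB₀⟩ := Set.exists_of_ssubset h₀
    have hBV := (hSg B hB).1
    have hmem : B.subgroupOf V ∈ S' := by
      show (B.subgroupOf V).map V.subtype ∈ Sg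
      rw [Subgroup.map_subgroupOf_eq_of_le hBV]; exact hB
    have h4 : (B.subgroupOf V).map V.subtype ∈ T₀ := hsub hmem
    apply hB₀
    rwa [Subgroup.map_subgroupOf_eq_of_le hBV] at h4
  obtain ⟨X', hX', hX'₀, hX'N⟩ := exists_normalizing_join S' S₀' h1 h2 h3
  refine ⟨X'.map V.subtype, hX', hX'₀, ?_⟩
  have hT : sSup T₀ = (sSup S₀').map V.subtype := by
    apply le_antisymm
    · apply sSup_le
      intro B hB
      have hBV := (hSg B (h₀.subset hB)).1
      rw [← Subgroup.map_subgroupOf_eq_of_le hBV]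
      apply Subgroup.map_mono
      apply le_sSup
      show (B.subgroupOf V).map V.subtype ∈ T₀
      rw [Subgroup.map_subgroupOf_eq_of_le hBV]; exact hB
    · rw [Subgroup.map_le_iff_le_comap]
      apply sSup_le
      intro B' hB'
      rw [← Subgroup.map_le_iff_le_comap]
      exact le_sSup hB'
  have hTV : sSup T₀ ≤ V := by
    rw [hT]; rintro _ ⟨y, _, rfl⟩; exact y.2
  rintro _ ⟨x', hx', rfl⟩
  apply Cfsg.Agent.Lib_helper1_MinNormalAux.mem_normalizer_of_subgroupOf hTV x'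
  rw [hT, hcm]
  exact hX'N hx'

/-- The zipper (uniqueness) lemma. -/
theorem zipper {G : Type u} [Group G] [Finite G] (A : Subgroup G) (U : Set (Subgroup G))
    (hU : U.Nonempty) (S : Subgroup G → Set (Subgroup G))
    (hS : ∀ V B : Subgroup G, B ∈ S V ↔
      (∃ g : G, B = MulAut.conj g • A) ∧ B ≤ V ∧ (B.subgroupOf V).IsSubnormal)
    (h2 : ∀ V ∈ U, ∀ W ∈ U, ∀ B ∈ S W, B ≤ V → B ∈ S V)
    (h3 : ∀ V ∈ U, ∀ W ∈ U, ∃ X ∈ U,
      Subgroup.normalizer ((sSup (S V ∩ S W) : Subgroup G) : Set G) ≤ X) :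
    ∃ M ∈ U, ∀ V ∈ U, V ≤ M := by
  classical
  have hUfin : U.Finite := Set.toFinite U
  have hmax : ∀ V ∈ U, ∃ M, V ≤ M ∧ Maximal (· ∈ U) M :=
    fun V hV => hUfin.exists_le_maximal hV
  by_contra hcon
  push_neg at hcon
  obtain ⟨V₀, hV₀⟩ := hU
  obtain ⟨M₁, -, hM₁⟩ := hmax V₀ hV₀
  obtain ⟨V₁, hV₁, hV₁M⟩ := hcon M₁ hM₁.prop
  obtain ⟨M₂, hV₁M₂, hM₂⟩ := hmax V₁ hV₁
  have hne : M₁ ≠ M₂ := fun h => hV₁M (h ▸ hV₁M₂)
  have hconjS : ∀ V : Subgroup G, ∀ B ∈ S V, ∀ v ∈ V, MulAut.conj v • B ∈ S V := by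
    intro V B hB v hv
    rw [hS] at hB ⊢
    obtain ⟨⟨g, rfl⟩, hBV, hBs⟩ := hB
    refine ⟨⟨v * g, conj_smul_conj_smul v g A⟩, ?_, ?_⟩
    · intro z hz
      rw [mem_conj_smul] at hz
      have := V.mul_mem (V.mul_mem hv (hBV hz)) (V.inv_mem hv)
      simpa [mul_assoc] using this
    · have := subgroupOf_conj_smul V (MulAut.conj g • A) ⟨v, hv⟩
      rw [this]
      exact hBs.smul _
  have hSV : ∀ V : Subgroup G, ∀ B ∈ S V, B ≤ V ∧ (B.subgroupOf V).IsSubnormal :=
    fun V B hB => ((hS V B).mp hB).2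
  have hF1 : ∀ V : Subgroup G,
      V ≤ Subgroup.normalizer ((sSup (S V) : Subgroup G) : Set G) := by
    intro V v hv
    apply mem_normalizer_of_conj_le
    intro m hm
    have hle : MulAut.conj v • sSup (S V) ≤ sSup (S V) := by
      rw [Subgroup.pointwise_smul_subset_iff]
      apply sSup_le
      intro B hB
      rw [← Subgroup.pointwise_smul_subset_iff]
      exact le_sSup (hconjS V B hB v hv)
    exact hle (conj_mem_conj_smul _ v m hm)
  let P : Set (Subgroup G × Subgroup G) :=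
    {p | Maximal (· ∈ U) p.1 ∧ Maximal (· ∈ U) p.2 ∧ p.1 ≠ p.2}
  obtain ⟨⟨U₁, U₂⟩, ⟨hU₁, hU₂, hU₁₂⟩, hPmax⟩ := Set.exists_max_image P
    (fun p => (S p.1 ∩ S p.2).ncard) (Set.toFinite P) ⟨(M₁, M₂), hM₁, hM₂, hne⟩
  obtain ⟨X₀, hX₀, hNX₀⟩ := h3 U₁ hU₁.prop U₂ hU₂.prop
  obtain ⟨X, hX₀X, hX⟩ := hmax X₀ hX₀
  have hNX : Subgroup.normalizer ((sSup (S U₁ ∩ S U₂) : Subgroup G) : Set G) ≤ X :=
    hNX₀.trans hX₀X
  have hSgX : ∀ C ∈ S U₁ ∩ S U₂, C ∈ S X := by
    intro C hC
    apply h2 X hX.prop U₁ hU₁.prop C hC.1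
    exact (le_sSup hC).trans (Subgroup.le_normalizer.trans hNX)
  have key : ∀ W : Subgroup G, Maximal (· ∈ U) W → S U₁ ∩ S U₂ ⊂ S W → X = W := by
    intro W hW hss
    obtain ⟨B, hB, hBSg, hBN⟩ := exists_normalizing_join_rel W (S W) (S U₁ ∩ S U₂) (hSV W)
      (hconjS W) hss
    have hBX : B ∈ S X := h2 X hX.prop W hW.prop B hB (hBN.trans hNX)
    by_contra hXW
    have hmem : ((W, X) : Subgroup G × Subgroup G) ∈ P := ⟨hW, hX, fun h => hXW h.symm⟩
    have hle := hPmax _ hmem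
    have hsub : insert B (S U₁ ∩ S U₂) ⊆ S W ∩ S X := by
      intro C hC
      rcases Set.mem_insert_iff.mp hC with rfl | hC
      · exact ⟨hB, hBX⟩
      · exact ⟨hss.subset hC, hSgX C hC⟩
    have hcard : (insert B (S U₁ ∩ S U₂)).ncard = (S U₁ ∩ S U₂).ncard + 1 :=
      Set.ncard_insert_of_notMem hBSg (Set.toFinite _)
    have h5 := Set.ncard_le_ncard hsub (Set.toFinite _)
    have h6 : (S W ∩ S X).ncard ≤ (S U₁ ∩ S U₂).ncard := hle
    omega
  have hX1 : X = U₁ := by
    by_cases hc : S U₁ ∩ S U₂ = S U₁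
    · have hle : U₁ ≤ X := by
        have h := hF1 U₁
        rw [← hc] at h
        exact h.trans hNX
      exact (hU₁.eq_of_le hX.prop hle).symm
    · exact key U₁ hU₁ (Set.ssubset_iff_subset_ne.mpr ⟨Set.inter_subset_left, hc⟩)
  have hX2 : X = U₂ := by
    by_cases hc : S U₁ ∩ S U₂ = S U₂
    · have hle : U₂ ≤ X := by
        have h := hF1 U₂
        rw [← hc] at h
        exact h.trans hNX
      exact (hU₂.eq_of_le hX.prop hle).symm
    · exact key U₂ hU₂ (Set.ssubset_iff_subset_ne.mpr ⟨Set.inter_subset_right, hc⟩)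
  exact hU₁₂ (hX1.symm.trans hX2)

/-! ### Wielandt's subnormality criterion -/

/-- Conjugation transports relative subnormality. -/
theorem subgroupOf_conj_isSubnormal {G : Type*} [Group G] (A K : Subgroup G) (g : G)
    (h : (A.subgroupOf K).IsSubnormal) :
    ((MulAut.conj g • A).subgroupOf (MulAut.conj g • K)).IsSubnormal := by
  let f : (MulAut.conj g • K : Subgroup G) →* K :=
    { toFun := fun z => ⟨g⁻¹ * z * g, (mem_conj_smul K g z).mp z.2⟩
      map_one' := by ext; simp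
      map_mul' := by intro x y; ext; simp [mul_assoc] }
  have e : (A.subgroupOf K).comap f = (MulAut.conj g • A).subgroupOf (MulAut.conj g • K) := by
    ext z
    rw [Subgroup.mem_comap, Subgroup.mem_subgroupOf, Subgroup.mem_subgroupOf, mem_conj_smul]
    rfl
  rw [← e]
  exact h.comap f

/-- Transfer of the hypothesis of Wielandt's criterion to a subgroup. -/
theorem wielandt_hyp_subgroup {G : Type*} [Group G] (B V : Subgroup G) (hBV : B ≤ V) (v : V)
    (hB : (B.subgroupOf (B ⊔ MulAut.conj (v : G) • B)).IsSubnormal) :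
    ((B.subgroupOf V).subgroupOf (B.subgroupOf V ⊔ MulAut.conj v • B.subgroupOf V)).IsSubnormal := by
  have hvBV : MulAut.conj (v : G) • B ≤ V := by
    intro z hz
    rw [mem_conj_smul] at hz
    have := V.mul_mem (V.mul_mem v.2 (hBV hz)) (V.inv_mem v.2)
    simpa [mul_assoc] using this
  have hJV : B ⊔ MulAut.conj (v : G) • B ≤ V := sup_le hBV hvBV
  have e : B.subgroupOf V ⊔ MulAut.conj v • B.subgroupOf V =
      (B ⊔ MulAut.conj (v : G) • B).subgroupOf V := by
    rw [← subgroupOf_conj_smul, ← Subgroup.subgroupOf_sup hBV hvBV]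
  rw [e]
  have e2 : (B.subgroupOf (B ⊔ MulAut.conj (v : G) • B)).comap
      (Subgroup.subgroupOfEquivOfLe hJV).toMonoidHom =
      (B.subgroupOf V).subgroupOf ((B ⊔ MulAut.conj (v : G) • B).subgroupOf V) := by
    ext z
    rfl
  rw [← e2]
  exact hB.comap _

theorem wielandt_aux (n : ℕ) : ∀ (G : Type u) [Group G] [Finite G], Nat.card G = n →
    ∀ A : Subgroup G, (∀ g : G, (A.subgroupOf (A ⊔ MulAut.conj g • A)).IsSubnormal) →
      A.IsSubnormal := by
  induction n using Nat.strong_induction_on with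
  | _ n ih =>
  intro G _ _ hn A h
  -- the hypothesis for conjugates
  have hconj : ∀ g x : G, ((MulAut.conj g • A).subgroupOf
      (MulAut.conj g • A ⊔ MulAut.conj x • MulAut.conj g • A)).IsSubnormal := by
    intro g x
    have h1 := subgroupOf_conj_isSubnormal _ _ g (h (g⁻¹ * x * g))
    have e : MulAut.conj g • (A ⊔ MulAut.conj (g⁻¹ * x * g) • A) =
        MulAut.conj g • A ⊔ MulAut.conj x • MulAut.conj g • A := by
      rw [Subgroup.smul_sup, conj_smul_conj_smul, conj_smul_conj_smul]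
      congr 3
      group
    rw [e] at h1
    exact h1
  -- Step 0
  have step0 : ∀ V : Subgroup G, V ≠ ⊤ → ∀ g : G, MulAut.conj g • A ≤ V →
      ((MulAut.conj g • A).subgroupOf V).IsSubnormal := by
    intro V hV g hgV
    have hlt : Nat.card V < n := hn ▸ card_lt_of_ne_top V hV
    apply ih _ hlt V rfl
    intro v
    exact wielandt_hyp_subgroup _ V hgV v (hconj g (v : G))
  have hA1 : MulAut.conj (1 : G) • A = A := conj_one_smul A
  have step0A : ∀ V : Subgroup G, V ≠ ⊤ → A ≤ V → (A.subgroupOf V).IsSubnormal := by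
    intro V hV hAV
    have := step0 V hV 1 (by rw [hA1]; exact hAV)
    rwa [hA1] at this
  by_cases hex : ∃ g : G, A ⊔ MulAut.conj g • A = ⊤
  · obtain ⟨g, hg⟩ := hex
    exact Subgroup.IsSubnormal.trans le_sup_left (h g) (hg ▸ Subgroup.IsSubnormal.top)
  push_neg at hex
  by_contra hfin
  let U : Set (Subgroup G) := {V | V ≠ ⊤ ∧ A ≤ V}
  let S : Subgroup G → Set (Subgroup G) := fun V =>
    {B | (∃ g : G, B = MulAut.conj g • A) ∧ B ≤ V ∧ (B.subgroupOf V).IsSubnormal}
  have hAtop : A ≠ ⊤ := by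
    have := hex 1
    rwa [hA1, sup_idem] at this
  have hUne : U.Nonempty := ⟨A, hAtop, le_rfl⟩
  have hAS : ∀ V ∈ U, A ∈ S V := by
    intro V hV
    exact ⟨⟨1, hA1.symm⟩, hV.2, step0A V hV.1 hV.2⟩
  obtain ⟨M, hM, hMmax⟩ := zipper A U hUne S (fun V B => Iff.rfl)
    (by
      rintro V hV W hW B ⟨⟨g, rfl⟩, -, -⟩ hBV
      exact ⟨⟨g, rfl⟩, hBV, step0 V hV.1 g hBV⟩)
    (by
      intro V hV W hW
      by_cases hN : Subgroup.normalizer ((sSup (S V ∩ S W) : Subgroup G) : Set G) = ⊤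
      · exfalso
        apply hfin
        have hTn : (sSup (S V ∩ S W) : Subgroup G).Normal := Subgroup.normalizer_eq_top_iff.mp hN
        have hTV : sSup (S V ∩ S W) ≤ V := sSup_le (fun B hB => hB.1.2.1)
        have hTtop : sSup (S V ∩ S W) ≠ ⊤ := fun hT => hV.1 (top_le_iff.mp (hT ▸ hTV))
        have hAT : A ≤ sSup (S V ∩ S W) := le_sSup ⟨hAS V hV, hAS W hW⟩
        exact Subgroup.IsSubnormal.trans hAT (step0A _ hTtop hAT) hTn.isSubnormal
      · refine ⟨_, ⟨hN, ?_⟩, le_rfl⟩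
        exact (le_sSup ⟨hAS V hV, hAS W hW⟩ : A ≤ sSup (S V ∩ S W)).trans Subgroup.le_normalizer)
  -- the normal closure of `A` lies in `M`
  set C : Subgroup G := ⨆ g : G, MulAut.conj g • A with hC
  have hCM : C ≤ M := by
    apply iSup_le
    intro g
    exact le_sup_right.trans (hMmax _ ⟨hex g, le_sup_left⟩)
  have hCn : C.Normal := by
    have hnorm : Subgroup.normalizer (C : Set G) = ⊤ := by
      apply top_le_iff.mp
      intro x _
      apply mem_normalizer_of_conj_le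
      intro m hm
      have hle : MulAut.conj x • C ≤ C := by
        rw [Subgroup.pointwise_smul_subset_iff]
        apply iSup_le
        intro g
        rw [← Subgroup.pointwise_smul_subset_iff, conj_smul_conj_smul]
        exact le_iSup (fun g : G => MulAut.conj g • A) (x * g)
      exact hle (conj_mem_conj_smul _ x m hm)
    exact Subgroup.normalizer_eq_top_iff.mp hnorm
  have hCtop : C ≠ ⊤ := fun hT => hM.1 (top_le_iff.mp (hT ▸ hCM))
  have hAC : A ≤ C := by
    have := le_iSup (fun g : G => MulAut.conj g • A) 1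
    rwa [hA1] at this
  exact hfin (Subgroup.IsSubnormal.trans hAC (step0A C hCtop hAC) hCn.isSubnormal)

/-- Wielandt's subnormality criterion. -/
theorem wielandt_criterion {G : Type u} [Group G] [Finite G] (A : Subgroup G)
    (h : ∀ g : G, (A.subgroupOf (A ⊔ MulAut.conj g • A)).IsSubnormal) : A.IsSubnormal :=
  wielandt_aux _ G rfl A h

/-! ### Weak closures normalized by a subgroup -/

theorem weak_closure_normalized {G : Type u} [Group G] [Finite G] (p : ℕ) [Fact p.Prime]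
    (Z Y : Subgroup G)
    (h : ∀ g : G, IsPGroup p ↥(⨆ y ∈ Y, MulAut.conj (y * g) • Z)) :
    ∃ P : Sylow p G, Y ≤ Subgroup.normalizer
      ((⨆ g ∈ {g : G | MulAut.conj g • Z ≤ (P : Subgroup G)}, MulAut.conj g • Z : Subgroup G) :
        Set G) := by
  -- `R g` : the `Y`-closure of a conjugate
  have hRnorm : ∀ g : G, Y ≤ Subgroup.normalizer
      ((⨆ y ∈ Y, MulAut.conj (y * g) • Z : Subgroup G) : Set G) := by
    intro g y' hy'
    apply mem_normalizer_of_conj_le
    intro m hm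
    have hle : MulAut.conj y' • (⨆ y ∈ Y, MulAut.conj (y * g) • Z) ≤
        ⨆ y ∈ Y, MulAut.conj (y * g) • Z := by
      rw [Subgroup.pointwise_smul_subset_iff]
      apply iSup₂_le
      intro y hy
      rw [← Subgroup.pointwise_smul_subset_iff, conj_smul_conj_smul, ← mul_assoc]
      exact le_iSup₂ (f := fun y (_ : y ∈ Y) => MulAut.conj (y * g) • Z) (y' * y)
        (Y.mul_mem hy' hy)
    exact hle (conj_mem_conj_smul _ y' m hm)
  let Q' : Set (Subgroup G) := {Q | IsPGroup p Q ∧ Y ≤ Subgroup.normalizer (Q : Set G) ∧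
    Q = sSup {B | (∃ g : G, B = MulAut.conj g • Z) ∧ B ≤ Q}}
  have hgen : ∀ g : G, (⨆ y ∈ Y, MulAut.conj (y * g) • Z : Subgroup G) ≤
      sSup {B | (∃ g' : G, B = MulAut.conj g' • Z) ∧
        B ≤ (⨆ y ∈ Y, MulAut.conj (y * g) • Z : Subgroup G)} := by
    intro g
    apply iSup₂_le
    intro y hy
    apply le_sSup
    exact ⟨⟨y * g, rfl⟩, le_iSup₂ (f := fun y (_ : y ∈ Y) => MulAut.conj (y * g) • Z) y hy⟩
  have hQ'ne : ∃ Q, Q ∈ Q' := by
    refine ⟨⨆ y ∈ Y, MulAut.conj (y * 1) • Z, h 1, hRnorm 1, ?_⟩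
    exact le_antisymm (hgen 1) (sSup_le (fun B hB => hB.2))
  obtain ⟨Q, ⟨hQp, hQY, hQgen⟩, hQmax⟩ := exists_maximal_subgroup (fun Q => Q ∈ Q') hQ'ne
  obtain ⟨P, hQP⟩ := hQp.exists_le_sylow
  refine ⟨P, ?_⟩
  set Sg : Set (Subgroup G) := {B | (∃ g : G, B = MulAut.conj g • Z) ∧ B ≤ (P : Subgroup G)}
    with hSg
  set T₀ : Set (Subgroup G) := {B | (∃ g : G, B = MulAut.conj g • Z) ∧ B ≤ Q} with hT₀
  have hsub : T₀ ⊆ Sg := fun B hB => ⟨hB.1, hB.2.trans hQP⟩
  have heq : T₀ = Sg := by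
    by_contra hne
    have hss : T₀ ⊂ Sg := Set.ssubset_iff_subset_ne.mpr ⟨hsub, hne⟩
    haveI : Group.IsNilpotent (P : Subgroup G) := P.2.isNilpotent
    obtain ⟨X, hX, hXT, hXN⟩ := exists_normalizing_join_rel (P : Subgroup G) Sg T₀
      (fun B hB => ⟨hB.2, Cfsg.Agent.Lib_helper5_Fitting.isSubnormal_of_isNilpotent _⟩)
      (by
        rintro B ⟨⟨g, rfl⟩, hBP⟩ v hv
        refine ⟨⟨v * g, conj_smul_conj_smul v g Z⟩, ?_⟩
        intro z hz
        rw [mem_conj_smul] at hz
        have := (P : Subgroup G).mul_mem ((P : Subgroup G).mul_mem hv (hBP hz))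
          ((P : Subgroup G).inv_mem hv)
        simpa [mul_assoc] using this)
      hss
    rw [← hQgen] at hXN
    obtain ⟨⟨g, rfl⟩, hXP⟩ := hX
    -- `R = ⟨X^Y⟩`
    set R : Subgroup G := ⨆ y ∈ Y, MulAut.conj (y * g) • Z with hR
    have hRQ : R ≤ Subgroup.normalizer (Q : Set G) := by
      apply iSup₂_le
      intro y hy z hz
      rw [← conj_smul_conj_smul, mem_conj_smul] at hz
      have h1 := hXN hz
      have h2 := (Subgroup.normalizer (Q : Set G)).mul_mem
        ((Subgroup.normalizer (Q : Set G)).mul_mem (hQY hy) h1)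
        ((Subgroup.normalizer (Q : Set G)).inv_mem (hQY hy))
      simpa [mul_assoc] using h2
    have hQRp : IsPGroup p (Q ⊔ R : Subgroup G) := IsPGroup.to_sup_of_normal_left' hQp (h g) hRQ
    have hQRY : Y ≤ Subgroup.normalizer ((Q ⊔ R : Subgroup G) : Set G) :=
      (le_inf hQY (hRnorm g)).trans (normalizer_inf_le_normalizer_sup Q R)
    have hQRgen : Q ⊔ R = sSup {B | (∃ g : G, B = MulAut.conj g • Z) ∧ B ≤ Q ⊔ R} := by
      apply le_antisymm _ (sSup_le (fun B hB => hB.2))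
      apply sup_le
      · conv_lhs => rw [hQgen]
        exact sSup_le_sSup (fun B hB => ⟨hB.1, hB.2.trans le_sup_left⟩)
      · exact (hgen g).trans (sSup_le_sSup (fun B hB => ⟨hB.1, hB.2.trans le_sup_right⟩))
    have hQR := hQmax (Q ⊔ R) ⟨hQRp, hQRY, hQRgen⟩ le_sup_left
    have hRleQ : R ≤ Q := hQR ▸ le_sup_right
    apply hXT
    refine ⟨⟨g, rfl⟩, le_trans ?_ hRleQ⟩
    have h5 := le_iSup₂ (f := fun y (_ : y ∈ Y) => MulAut.conj (y * g) • Z) 1 Y.one_mem
    rw [one_mul] at h5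
    exact h5
  have hfin : (⨆ g ∈ {g : G | MulAut.conj g • Z ≤ (P : Subgroup G)}, MulAut.conj g • Z :
      Subgroup G) = Q := by
    apply le_antisymm
    · apply iSup₂_le
      intro g hg
      have hmem : MulAut.conj g • Z ∈ Sg := ⟨⟨g, rfl⟩, hg⟩
      rw [← heq] at hmem
      exact hmem.2
    · conv_lhs => rw [hQgen]
      apply sSup_le
      rintro B ⟨⟨g, rfl⟩, hB⟩
      exact le_iSup₂ (f := fun g (_ : g ∈ {g : G | MulAut.conj g • Z ≤ (P : Subgroup G)}) =>
        MulAut.conj g • Z) g (hB.trans hQP)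
  rw [hfin]
  exact hQY

end Cfsg.Agent.Lib_helper1_Subnormal
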