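import Cfsg.Agent.Lib_helper1_SZConj

set_option autoImplicit false
set_option linter.style.haveILetI false

namespace Cfsg.Agent.Lib_helper1_SylowSystem

open scoped Pointwise
open Cfsg.Agent.Lib_helper1_Basic Cfsg.Agent.Lib_helper1_SZ Cfsg.Agent.Lib_helper1_Hall
  Cfsg.Agent.Lib_helper1_SZConj

universe u

theorem index_inf_of_coprime {G : Type*} [Group G] [Finite G] (H K : Subgroup G)
    (h : H.index.Coprime K.index) : (H ⊓ K).index = H.index * K.index := by
  have h1 : H.index ∣ (H ⊓ K).index := Subgroup.index_dvd_of_le inf_le_left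
  have h2 : K.index ∣ (H ⊓ K).index := Subgroup.index_dvd_of_le inf_le_right
  have h3 : H.index * K.index ∣ (H ⊓ K).index := Nat.Coprime.mul_dvd_of_dvd_of_dvd h h1 h2
  have h4 : (H ⊓ K).index ≠ 0 := Subgroup.index_ne_zero_of_finite
  exact Nat.le_antisymm Subgroup.index_inf_le (Nat.le_of_dvd (Nat.pos_of_ne_zero h4) h3)

theorem index_finset_inf {G : Type*} [Group G] [Finite G] (H : ℕ → Subgroup G) (v : ℕ → ℕ)
    (s : Finset ℕ) (hs : ∀ r ∈ s, r.Prime) (hH : ∀ r ∈ s, (H r).index = r ^ v r) :
    (s.inf H).index = ∏ r ∈ s, r ^ v r := by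
  classical
  induction s using Finset.induction_on with
  | empty => simp
  | insert a s ha ih =>
    rw [Finset.inf_insert, Finset.prod_insert ha]
    have ih' := ih (fun r hr => hs r (Finset.mem_insert_of_mem hr))
      (fun r hr => hH r (Finset.mem_insert_of_mem hr))
    have hcop : (H a).index.Coprime (s.inf H).index := by
      rw [hH a (Finset.mem_insert_self a s), ih']
      apply Nat.Coprime.prod_right
      intro r hr
      apply Nat.Coprime.pow
      exact (Nat.coprime_primes (hs a (Finset.mem_insert_self a s))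
        (hs r (Finset.mem_insert_of_mem hr))).mpr (fun h => ha (h ▸ hr))
    rw [index_inf_of_coprime _ _ hcop, hH a (Finset.mem_insert_self a s), ih']

/-- Two subgroups of `T` with coprime orders whose product of orders is `card T` have product
set `T`. -/
theorem mul_eq_of_card {G : Type*} [Group G] [Finite G] (A B T : Subgroup G) (hA : A ≤ T)
    (hB : B ≤ T) (hcard : Nat.card A * Nat.card B = Nat.card T)
    (hcop : (Nat.card A).Coprime (Nat.card B)) : (A : Set G) * (B : Set G) = (T : Set G) := by
  have hc : Subgroup.IsComplement' (A.subgroupOf T) (B.subgroupOf T) :=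
    Subgroup.isComplement'_of_coprime
      (by rw [card_subgroupOf_of_le hA, card_subgroupOf_of_le hB]; exact hcard)
      (by rw [card_subgroupOf_of_le hA, card_subgroupOf_of_le hB]; exact hcop)
  ext t
  constructor
  · rintro ⟨a, ha, b, hb, rfl⟩
    exact T.mul_mem (hA ha) (hB hb)
  · intro ht
    have : (⟨t, ht⟩ : T) ∈ ((A.subgroupOf T : Set T) * (B.subgroupOf T : Set T)) := by
      rw [Subgroup.IsComplement.mul_eq hc]; trivial
    obtain ⟨a, ha, b, hb, hab⟩ := this
    exact ⟨a, ha, b, hb, congrArg Subtype.val hab⟩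

/-- Sylow systems exist in finite solvable groups. -/
theorem sylow_system {G : Type u} [Group G] [Finite G] [Group.IsSolvable G] :
    ∃ S : (p : Nat.Primes) → Sylow (p : ℕ) G,
      ∀ p q : Nat.Primes, (S p : Set G) * (S q : Set G) = (S q : Set G) * (S p : Set G) := by
  classical
  have hnpos : Nat.card G ≠ 0 := Nat.card_pos.ne'
  -- Hall `r`-complements
  have hex : ∀ r : ℕ, ∃ X : Subgroup G, r.Prime →
      X.index = r ^ (Nat.card G).factorization r := by
    intro r
    by_cases hr : r.Prime
    · have h2 : Nat.card G / r ^ (Nat.card G).factorization r * r ^ (Nat.card G).factorization r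
          = Nat.card G := Nat.div_mul_cancel (Nat.ordProj_dvd (Nat.card G) r)
      obtain ⟨X, hX⟩ := hall_exists (G := G) (Nat.card G / r ^ (Nat.card G).factorization r)
        (r ^ (Nat.card G).factorization r) h2.symm
        ((Nat.coprime_ordCompl hr hnpos).symm.pow_right _)
      refine ⟨X, fun _ => ?_⟩
      have h1 := Subgroup.card_mul_index X
      rw [hX] at h1
      have hpos : 0 < Nat.card G / r ^ (Nat.card G).factorization r :=
        Nat.div_pos (Nat.le_of_dvd (Nat.pos_of_ne_zero hnpos) (Nat.ordProj_dvd (Nat.card G) r))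
          (pow_pos hr.pos _)
      exact Nat.eq_of_mul_eq_mul_left hpos (h1.trans h2.symm)
    · exact ⟨⊤, fun h => absurd h hr⟩
  choose H hH using hex
  have hprod : ∏ r ∈ (Nat.card G).primeFactors, r ^ (Nat.card G).factorization r
      = Nat.card G := by
    have := Nat.prod_factorization_pow_eq_self hnpos
    rwa [Finsupp.prod, Nat.support_factorization] at this
  have hPprime : ∀ r ∈ (Nat.card G).primeFactors, r.Prime :=
    fun r hr => Nat.prime_of_mem_primeFactors hr
  have hcard : ∀ s ⊆ (Nat.card G).primeFactors,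
      Nat.card (s.inf H : Subgroup G) * ∏ r ∈ s, r ^ (Nat.card G).factorization r
        = Nat.card G := by
    intro s hs
    rw [← index_finset_inf H (fun r => (Nat.card G).factorization r) s
      (fun r hr => hPprime r (hs hr)) (fun r hr => hH r (hPprime r (hs hr)))]
    exact Subgroup.card_mul_index _
  -- erasing a prime from a product
  have herase : ∀ (s : Finset ℕ) (q : ℕ), s ⊆ (Nat.card G).primeFactors → q.Prime →
      (q ∉ s → q ∉ (Nat.card G).primeFactors) →
      q ^ (Nat.card G).factorization q * ∏ r ∈ s.erase q, r ^ (Nat.card G).factorization r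
        = ∏ r ∈ s, r ^ (Nat.card G).factorization r := by
    intro s q hs hq hqs
    by_cases hqmem : q ∈ s
    · exact Finset.mul_prod_erase s (fun r => r ^ (Nat.card G).factorization r) hqmem
    · have h0 : (Nat.card G).factorization q = 0 := by
        apply Nat.factorization_eq_zero_of_not_dvd
        intro hd
        exact hqs hqmem (Nat.mem_primeFactors.mpr ⟨hq, hd, hnpos⟩)
      rw [Finset.erase_eq_of_notMem hqmem, h0, pow_zero, one_mul]
  have hposprod : ∀ s ⊆ (Nat.card G).primeFactors,
      0 < ∏ r ∈ s, r ^ (Nat.card G).factorization r :=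
    fun s hs => Finset.prod_pos (fun r hr => pow_pos (hPprime r (hs hr)).pos _)
  have hSp : ∀ p : ℕ, p.Prime →
      Nat.card (((Nat.card G).primeFactors.erase p).inf H : Subgroup G)
        = p ^ (Nat.card G).factorization p := by
    intro p hp
    have h1 := hcard ((Nat.card G).primeFactors.erase p) (Finset.erase_subset p _)
    have h2 := herase (Nat.card G).primeFactors p (Finset.Subset.refl _) hp (fun h => h)
    rw [hprod] at h2
    exact Nat.eq_of_mul_eq_mul_right (hposprod _ (Finset.erase_subset p _)) (h1.trans h2.symm)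
  refine ⟨fun p => haveI : Fact (p : ℕ).Prime := ⟨p.2⟩
    Sylow.ofCard (((Nat.card G).primeFactors.erase (p : ℕ)).inf H) (hSp p p.2), ?_⟩
  intro p q
  by_cases hpq : p = q
  · rw [hpq]
  have hpq' : (p : ℕ) ≠ (q : ℕ) := fun h => hpq (Subtype.ext h)
  show ((((Nat.card G).primeFactors.erase (p : ℕ)).inf H : Subgroup G) : Set G)
      * ((((Nat.card G).primeFactors.erase (q : ℕ)).inf H : Subgroup G) : Set G)
    = ((((Nat.card G).primeFactors.erase (q : ℕ)).inf H : Subgroup G) : Set G)
      * ((((Nat.card G).primeFactors.erase (p : ℕ)).inf H : Subgroup G) : Set G)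
  have hsub : ((Nat.card G).primeFactors.erase (p : ℕ)).erase (q : ℕ)
      ⊆ (Nat.card G).primeFactors :=
    (Finset.erase_subset _ _).trans (Finset.erase_subset _ _)
  have hA : ((Nat.card G).primeFactors.erase (p : ℕ)).inf H
      ≤ (((Nat.card G).primeFactors.erase (p : ℕ)).erase (q : ℕ)).inf H :=
    Finset.inf_mono (Finset.erase_subset _ _)
  have hB : ((Nat.card G).primeFactors.erase (q : ℕ)).inf H
      ≤ (((Nat.card G).primeFactors.erase (p : ℕ)).erase (q : ℕ)).inf H := by
    apply Finset.inf_mono
    rw [Finset.erase_right_comm]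
    exact Finset.erase_subset _ _
  have hT : Nat.card ((((Nat.card G).primeFactors.erase (p : ℕ)).erase (q : ℕ)).inf H
      : Subgroup G)
      = (p : ℕ) ^ (Nat.card G).factorization p * (q : ℕ) ^ (Nat.card G).factorization q := by
    have h1 := hcard _ hsub
    have h2 := herase ((Nat.card G).primeFactors.erase (p : ℕ)) q (Finset.erase_subset _ _) q.2
      (fun h hq => h (Finset.mem_erase.mpr ⟨fun e => hpq' e.symm, hq⟩))
    have h3 := herase (Nat.card G).primeFactors p (Finset.Subset.refl _) p.2 (fun h => h)
    rw [hprod, ← h2] at h3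
    have h4 : (p : ℕ) ^ (Nat.card G).factorization p * (q : ℕ) ^ (Nat.card G).factorization q
        * ∏ r ∈ ((Nat.card G).primeFactors.erase (p : ℕ)).erase (q : ℕ),
            r ^ (Nat.card G).factorization r = Nat.card G := by
      rw [mul_assoc]; exact h3
    exact Nat.eq_of_mul_eq_mul_right (hposprod _ hsub) (h1.trans h4.symm)
  have hcop : ((p : ℕ) ^ (Nat.card G).factorization p).Coprime
      ((q : ℕ) ^ (Nat.card G).factorization q) :=
    Nat.Coprime.pow _ _ ((Nat.coprime_primes p.2 q.2).mpr hpq')
  rw [mul_eq_of_card _ _ _ hA hB (by rw [hSp p p.2, hSp q q.2, hT])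
      (by rw [hSp p p.2, hSp q q.2]; exact hcop),
    mul_eq_of_card _ _ _ hB hA (by rw [hSp p p.2, hSp q q.2, hT, mul_comm])
      (by rw [hSp p p.2, hSp q q.2]; exact hcop.symm)]

end Cfsg.Agent.Lib_helper1_SylowSystem
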