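import Cfsg.Agent.Lib_helper1_SylowSystem
import Cfsg.Agent.Lib_helper1_Coprime
import Cfsg.Prelude.Def_SolvableStructure

set_option autoImplicit false
set_option linter.style.haveILetI false

namespace Cfsg.Agent.Lib_helper1_SysNorm

open scoped Pointwise commutatorElement
open Cfsg.Agent.Lib_helper1_Basic Cfsg.Agent.Lib_helper1_SZ Cfsg.Agent.Lib_helper1_Hall
  Cfsg.Agent.Lib_helper1_SZConj Cfsg.Agent.Lib_helper1_SylowSystem Cfsg.Agent.Lib_helper1_Coprime

universe u

/-- `relIndex` divides `index` when `D` normalizes `H`. -/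
theorem relIndex_dvd_index_of_le_normalizer {G : Type*} [Group G] (H D : Subgroup G)
    (h : D ≤ Subgroup.normalizer (H : Set G)) : H.relIndex D ∣ H.index := by
  have hHN : H ≤ Subgroup.normalizer (H : Set G) := Subgroup.le_normalizer
  haveI : (H.subgroupOf (Subgroup.normalizer (H : Set G))).Normal := Subgroup.normal_in_normalizer
  have h1 : (H.subgroupOf (Subgroup.normalizer (H : Set G))).relIndex
      (D.subgroupOf (Subgroup.normalizer (H : Set G))) ∣
      (H.subgroupOf (Subgroup.normalizer (H : Set G))).index :=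
    Subgroup.relIndex_dvd_index_of_normal _ _
  rw [Subgroup.relIndex_subgroupOf h] at h1
  exact h1.trans (Subgroup.relIndex_dvd_index_of_le hHN)

/-- Members of a complement system have order prime to the corresponding prime. -/
theorem complement_card_coprime {G : Type*} [Group G] [Finite G] (K : Nat.Primes → Subgroup G)
    (hK : Cfsg.IsComplementSystem K) (p : Nat.Primes) : (Nat.card (K p)).Coprime p := by
  have h1 := Subgroup.card_mul_index (K p)
  rw [hK p] at h1
  have hpos : Nat.card G ≠ 0 := Nat.card_pos.ne'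
  have h2 : Nat.card (K p) = Nat.card G / (p : ℕ) ^ (Nat.card G).factorization p :=
    (Nat.div_eq_of_eq_mul_left (pow_pos p.2.pos _) h1.symm).symm
  rw [h2]
  exact (Nat.coprime_ordCompl p.2 hpos).symm

theorem complement_card {G : Type*} [Group G] [Finite G] (K : Nat.Primes → Subgroup G)
    (hK : Cfsg.IsComplementSystem K) (p : Nat.Primes) :
    Nat.card (K p) = Nat.card G / (p : ℕ) ^ (Nat.card G).factorization p := by
  have h1 := Subgroup.card_mul_index (K p)
  rw [hK p] at h1
  exact (Nat.div_eq_of_eq_mul_left (pow_pos p.2.pos _) h1.symm).symm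

/-- A finite group with a normal `q`-complement for every prime `q` is nilpotent. -/
theorem isNilpotent_of_normal_complements {D : Type*} [Group D] [Finite D]
    (N : Nat.Primes → Subgroup D) (hN : ∀ q, (N q).Normal)
    (hcard : ∀ q : Nat.Primes, (Nat.card (N q)).Coprime q)
    (hidx : ∀ q : Nat.Primes, ∃ k, (N q).index = (q : ℕ) ^ k) : Group.IsNilpotent D := by
  apply ((Group.isNilpotent_of_finite_tfae (G := D)).out 0 3 rfl rfl).mpr
  intro p hp P
  let pp : Nat.Primes := ⟨p, hp.out⟩
  set M : Subgroup D := ⨅ q : {q : Nat.Primes // q ≠ pp}, N q with hM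
  have hMn : M.Normal := Subgroup.normal_iInf_normal (fun q => hN q)
  have hPM : (P : Subgroup D) ≤ M := by
    rw [hM]; apply le_iInf; rintro ⟨q, hq⟩
    haveI := hN q
    have h1 : Nat.card ((P : Subgroup D).map (QuotientGroup.mk' (N q))) ∣
        Nat.card (P : Subgroup D) := Subgroup.card_map_dvd _ _
    have h2 : Nat.card ((P : Subgroup D).map (QuotientGroup.mk' (N q))) ∣
        Nat.card (D ⧸ N q) := Subgroup.card_subgroup_dvd_card _
    obtain ⟨k, hk⟩ := hidx q
    obtain ⟨n, hn⟩ := IsPGroup.iff_card.mp P.2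
    rw [hn] at h1
    rw [← Subgroup.index_eq_card, hk] at h2
    have hpq : p ≠ (q : ℕ) := by
      intro h; apply hq; exact Subtype.ext h.symm
    have hcop : (p ^ n).Coprime ((q : ℕ) ^ k) :=
      Nat.Coprime.pow _ _ ((Nat.coprime_primes hp.out q.2).mpr hpq)
    have h3 : Nat.card ((P : Subgroup D).map (QuotientGroup.mk' (N q))) = 1 :=
      Nat.eq_one_of_dvd_coprimes hcop h1 h2
    have h4 : (P : Subgroup D).map (QuotientGroup.mk' (N q)) = ⊥ :=
      Subgroup.card_eq_one.mp h3
    intro x hx
    have h5 : QuotientGroup.mk' (N q) x ∈ (P : Subgroup D).map (QuotientGroup.mk' (N q)) :=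
      Subgroup.mem_map_of_mem _ hx
    rw [h4, Subgroup.mem_bot] at h5
    exact (QuotientGroup.eq_one_iff x).mp h5
  have hMp : IsPGroup p M := by
    have hpos : Nat.card M ≠ 0 := Nat.card_pos.ne'
    have hu : ∀ {d : ℕ}, d.Prime → d ∣ Nat.card M → d = p := by
      intro d hd hdvd
      by_contra hne
      let q : Nat.Primes := ⟨d, hd⟩
      have hq : q ≠ pp := by
        intro h; apply hne; exact congrArg Subtype.val h
      have hle : M ≤ N q := by
        rw [hM]; exact iInf_le (fun q : {q : Nat.Primes // q ≠ pp} => N q) ⟨q, hq⟩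
      have h1 : d ∣ Nat.card (N q) := hdvd.trans (Subgroup.card_dvd_of_le hle)
      have h2 := hcard q
      have h3 : d ∣ 1 := by
        have := Nat.dvd_gcd h1 (dvd_refl d)
        rwa [show Nat.gcd (Nat.card (N q)) d = 1 from h2] at this
      exact hd.one_lt.ne' (Nat.dvd_one.mp h3)
    exact IsPGroup.of_card (Nat.eq_prime_pow_of_unique_prime_dvd hpos hu)
  have h := P.3 hMp hPM
  rw [← h]; exact hMn

/-- The system normalizer normalizes each member of the system. -/
theorem systemNormalizer_le {G : Type*} [Group G] (K : Nat.Primes → Subgroup G) (p : Nat.Primes) :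
    Cfsg.systemNormalizer K ≤ Subgroup.normalizer (K p : Set G) :=
  iInf_le (fun p : Nat.Primes => Subgroup.normalizer (K p : Set G)) p

/-- System normalizers are nilpotent. -/
theorem systemNormalizer_isNilpotent {G : Type*} [Group G] [Finite G]
    (K : Nat.Primes → Subgroup G) (hK : Cfsg.IsComplementSystem K) :
    Group.IsNilpotent (Cfsg.systemNormalizer K) := by
  apply isNilpotent_of_normal_complements
    (fun q => (K q).subgroupOf (Cfsg.systemNormalizer K))
  · intro q
    exact Subgroup.normal_subgroupOf_of_le_normalizer (systemNormalizer_le K q)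
  · intro q
    have h1 : Nat.card ((K q).subgroupOf (Cfsg.systemNormalizer K)) ∣ Nat.card (K q) :=
      card_subgroupOf_dvd _ _
    exact Nat.Coprime.coprime_dvd_left h1 (complement_card_coprime K hK q)
  · intro q
    have h1 : (K q).relIndex (Cfsg.systemNormalizer K) ∣ (K q).index :=
      relIndex_dvd_index_of_le_normalizer _ _ (systemNormalizer_le K q)
    rw [hK q] at h1
    obtain ⟨k, _, hk⟩ := (Nat.dvd_prime_pow q.2).mp h1
    exact ⟨k, hk⟩

/-- Two subgroups with coprime indices have product the whole group. -/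
theorem exists_mul_of_coprime_index {G : Type*} [Group G] [Finite G] (A B : Subgroup G)
    (h : A.index.Coprime B.index) (g : G) : ∃ a ∈ A, ∃ b ∈ B, g = a * b := by
  classical
  have h1 : B.relIndex A = B.index := by
    have e1 := index_inf_of_coprime A B h
    have e2 := Subgroup.relIndex_mul_index (inf_le_left : A ⊓ B ≤ A)
    rw [Subgroup.inf_relIndex_left, e1, mul_comm] at e2
    exact Nat.eq_of_mul_eq_mul_left (Nat.pos_of_ne_zero Subgroup.index_ne_zero_of_finite) e2
  have hstab : MulAction.stabilizer A ((1 : G) : G ⧸ B) = B.subgroupOf A := by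
    ext a
    rw [MulAction.mem_stabilizer_iff, Subgroup.mem_subgroupOf]
    have e : a • ((1 : G) : G ⧸ B) = (((a : G) * 1 : G) : G ⧸ B) := rfl
    rw [e, QuotientGroup.eq]
    simp
  have hcard : (MulAction.orbit A ((1 : G) : G ⧸ B)).ncard = Nat.card (G ⧸ B) := by
    rw [← MulAction.index_stabilizer, hstab]; exact h1
  have huniv : MulAction.orbit A ((1 : G) : G ⧸ B) = Set.univ := by
    apply Set.eq_of_subset_of_ncard_le (Set.subset_univ _)
    rw [Set.ncard_univ, hcard]
  have hg : (g : G ⧸ B) ∈ MulAction.orbit A ((1 : G) : G ⧸ B) := by rw [huniv]; trivial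
  obtain ⟨a, ha⟩ := hg
  have e : a • ((1 : G) : G ⧸ B) = (((a : G) * 1 : G) : G ⧸ B) := rfl
  have ha' : (((a : G) * 1 : G) : G ⧸ B) = (g : G ⧸ B) := by rw [← e]; exact ha
  rw [QuotientGroup.eq] at ha'
  refine ⟨a, a.2, _, ha', ?_⟩
  group

/-- Members of a complement system at primes not dividing the order are the whole group. -/
theorem complement_eq_top {G : Type*} [Group G] [Finite G] (K : Nat.Primes → Subgroup G)
    (hK : Cfsg.IsComplementSystem K) (p : Nat.Primes) (hp : ¬ (p : ℕ) ∣ Nat.card G) :
    K p = ⊤ := by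
  have hfac : (Nat.card G).factorization p = 0 := Nat.factorization_eq_zero_of_not_dvd hp
  have := hK p
  rw [hfac, pow_zero] at this
  exact Subgroup.index_eq_one.mp this

/-- Any two Hall complement systems of a finite solvable group are simultaneously conjugate. -/
theorem complement_system_conj {G : Type u} [Group G] [Finite G] [Group.IsSolvable G]
    (K L : Nat.Primes → Subgroup G) (hK : Cfsg.IsComplementSystem K)
    (hL : Cfsg.IsComplementSystem L) :
    ∃ g : G, ∀ p : Nat.Primes, MulAut.conj g • K p = L p := by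
  classical
  let H : ℕ → Subgroup G := fun r =>
    if h : r.Prime then Subgroup.normalizer (L ⟨r, h⟩ : Set G) else ⊤
  have hHidx : ∀ r : ℕ, ∃ k : ℕ, r.Prime → (H r).index = r ^ k := by
    intro r
    by_cases h : r.Prime
    · have h1 : (H r).index ∣ (L ⟨r, h⟩).index := by
        simp only [H, dif_pos h]
        exact Subgroup.index_dvd_of_le Subgroup.le_normalizer
      rw [hL ⟨r, h⟩] at h1
      obtain ⟨k, _, hk⟩ := (Nat.dvd_prime_pow h).mp h1
      exact ⟨k, fun _ => hk⟩
    · exact ⟨0, fun h' => absurd h' h⟩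
  choose v hv using hHidx
  have key : ∀ s : Finset ℕ, (∀ r ∈ s, r.Prime) →
      ∃ g : G, ∀ p : Nat.Primes, (p : ℕ) ∈ s → MulAut.conj g • K p = L p := by
    intro s
    induction s using Finset.induction_on with
    | empty => intro _; exact ⟨1, fun p hp => absurd hp (Finset.notMem_empty _)⟩
    | insert a s ha ih =>
      intro hs
      obtain ⟨g, hg⟩ := ih (fun r hr => hs r (Finset.mem_insert_of_mem hr))
      have hap : a.Prime := hs a (Finset.mem_insert_self a s)
      let q : Nat.Primes := ⟨a, hap⟩
      have hcard1 : Nat.card (MulAut.conj g • K q : Subgroup G) =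
          Nat.card G / a ^ (Nat.card G).factorization a := by
        rw [card_conj_smul]; exact complement_card K hK q
      have hcard2 : Nat.card (L q) = Nat.card G / a ^ (Nat.card G).factorization a :=
        complement_card L hL q
      have hGmn : Nat.card G = (Nat.card G / a ^ (Nat.card G).factorization a) *
          a ^ (Nat.card G).factorization a :=
        (Nat.div_mul_cancel (Nat.ordProj_dvd _ _)).symm
      have hcop : (Nat.card G / a ^ (Nat.card G).factorization a).Coprime
          (a ^ (Nat.card G).factorization a) :=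
        (Nat.coprime_ordCompl hap Nat.card_pos.ne').symm.pow_right _
      obtain ⟨x, hx⟩ := hall_conj _ _ hGmn hcop _ _ hcard1 hcard2
      have hidx_s : (s.inf H).index = ∏ r ∈ s, r ^ v r :=
        index_finset_inf H v s (fun r hr => hs r (Finset.mem_insert_of_mem hr))
          (fun r hr => hv r (hs r (Finset.mem_insert_of_mem hr)))
      have hcop2 : (H a).index.Coprime (s.inf H).index := by
        rw [hv a hap, hidx_s]
        apply Nat.Coprime.prod_right
        intro r hr
        apply Nat.Coprime.pow
        exact (Nat.coprime_primes hap (hs r (Finset.mem_insert_of_mem hr))).mpr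
          (fun h => ha (h ▸ hr))
      obtain ⟨n, hn, h, hh, hxnh⟩ := exists_mul_of_coprime_index (H a) (s.inf H) hcop2 x
      refine ⟨h * g, fun p hp => ?_⟩
      rw [Finset.mem_insert] at hp
      rcases hp with hp | hp
      · have hpq : p = q := Subtype.ext hp
        rw [hpq, ← conj_smul_conj_smul]
        have h1 : MulAut.conj n • (MulAut.conj h • (MulAut.conj g • K q)) = L q := by
          rw [conj_smul_conj_smul n h, ← hxnh]; exact hx
        have hn' : n ∈ Subgroup.normalizer (L q : Set G) := by
          simpa only [H, dif_pos hap] using hn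
        have h2 : MulAut.conj n • L q = L q := conj_smul_eq_of_mem_normalizer _ _ hn'
        rw [← h2] at h1
        exact smul_left_cancel _ h1
      · rw [← conj_smul_conj_smul, hg p hp]
        have hle : s.inf H ≤ H p := Finset.inf_le hp
        have hh' : h ∈ Subgroup.normalizer (L p : Set G) := by
          have h3 := hle hh
          simp only [H, dif_pos p.2] at h3
          exact h3
        exact conj_smul_eq_of_mem_normalizer _ _ hh'
  obtain ⟨g, hg⟩ := key (Nat.card G).primeFactors (fun r hr => Nat.prime_of_mem_primeFactors hr)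
  refine ⟨g, fun p => ?_⟩
  by_cases hp : (p : ℕ) ∈ (Nat.card G).primeFactors
  · exact hg p hp
  · have hnd : ¬ (p : ℕ) ∣ Nat.card G :=
      fun h => hp (Nat.mem_primeFactors.mpr ⟨p.2, h, Nat.card_pos.ne'⟩)
    rw [complement_eq_top K hK p hnd, complement_eq_top L hL p hnd]
    ext z
    simp

/-! ### Quotients of complement systems -/

theorem relIndex_dvd_index_of_normal_right' {G : Type*} [Group G] [Finite G] (A N : Subgroup G)
    [N.Normal] : A.relIndex N ∣ A.index := by
  have e1 := Subgroup.relIndex_mul_index (inf_le_right : A ⊓ N ≤ N)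
  rw [Subgroup.inf_relIndex_right] at e1
  have e2 := Subgroup.relIndex_mul_index (inf_le_left : A ⊓ N ≤ A)
  rw [Subgroup.inf_relIndex_left] at e2
  have e3 := Subgroup.relIndex_mul_index (le_sup_right : N ≤ A ⊔ N)
  rw [Subgroup.relIndex_sup_right] at e3
  have hpos : 0 < N.relIndex A :=
    Nat.pos_of_ne_zero (Subgroup.index_ne_zero_of_finite (H := N.subgroupOf A))
  refine ⟨(A ⊔ N).index, ?_⟩
  have h : N.relIndex A * A.index = N.relIndex A * (A.relIndex N * (A ⊔ N).index) := by
    rw [e2, ← e1, ← e3]; ring
  exact Nat.eq_of_mul_eq_mul_left hpos h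

/-- For subgroups `A`, `B` of coprime indices and `N` normal, `AN ∩ BN = (A ∩ B)N`. -/
theorem sup_inf_sup_le_of_coprime {G : Type*} [Group G] [Finite G] (A B N : Subgroup G)
    [N.Normal] (h : A.index.Coprime B.index) : (A ⊔ N) ⊓ (B ⊔ N) ≤ (A ⊓ B) ⊔ N := by
  rintro x ⟨hxA, hxB⟩
  obtain ⟨a, ha, n₁, hn₁, rfl⟩ := Subgroup.mem_sup_of_normal_right.mp hxA
  obtain ⟨b, hb, n₂, hn₂, hx⟩ := Subgroup.mem_sup_of_normal_right.mp hxB
  have hz : a⁻¹ * b ∈ N := by
    have e : a⁻¹ * b = n₁ * n₂⁻¹ := by
      have := congrArg (fun t => a⁻¹ * t * n₂⁻¹) hx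
      simpa [mul_assoc] using this
    rw [e]; exact N.mul_mem hn₁ (N.inv_mem hn₂)
  have hcop : (A.subgroupOf N).index.Coprime (B.subgroupOf N).index := by
    apply Nat.Coprime.coprime_dvd_left (relIndex_dvd_index_of_normal_right' A N)
    exact Nat.Coprime.coprime_dvd_right (relIndex_dvd_index_of_normal_right' B N) h
  obtain ⟨α, hα, β, hβ, hαβ⟩ := exists_mul_of_coprime_index (A.subgroupOf N) (B.subgroupOf N)
    hcop ⟨a⁻¹ * b, hz⟩
  have hαA : (α : G) ∈ A := Subgroup.mem_subgroupOf.mp hα
  have hβB : (β : G) ∈ B := Subgroup.mem_subgroupOf.mp hβ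
  have e : a⁻¹ * b = (α : G) * (β : G) := congrArg Subtype.val hαβ
  have hc : a * (α : G) = b * (β : G)⁻¹ := by
    have := congrArg (fun t => a * t * (β : G)⁻¹) e
    simpa [mul_assoc] using this.symm
  have hcA : a * (α : G) ∈ A := A.mul_mem ha hαA
  have hcB : a * (α : G) ∈ B := by rw [hc]; exact B.mul_mem hb (B.inv_mem hβB)
  have e2 : a * n₁ = (a * (α : G)) * ((α : G)⁻¹ * n₁) := by group
  rw [e2]
  exact Subgroup.mul_mem_sup ⟨hcA, hcB⟩ (N.mul_mem (N.inv_mem α.2) hn₁)

/-- Conjugacy of Hall subgroups inside a subgroup of a solvable group. -/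
theorem hall_conj_rel {G : Type u} [Group G] [Finite G] [Group.IsSolvable G]
    (M H H' : Subgroup G) (hH : H ≤ M) (hH' : H' ≤ M) (hcard : Nat.card H' = Nat.card H)
    (hcop : (Nat.card H).Coprime (H.relIndex M)) : ∃ y ∈ M, MulAut.conj y • H = H' := by
  have h1 : Nat.card M = Nat.card H * H.relIndex M := by
    have := Subgroup.card_mul_index (H.subgroupOf M)
    rw [card_subgroupOf_of_le hH] at this
    exact this.symm
  obtain ⟨y, hy⟩ := hall_conj (G := M) (Nat.card H) (H.relIndex M) h1 hcop (H.subgroupOf M)
    (H'.subgroupOf M) (card_subgroupOf_of_le hH) (by rw [card_subgroupOf_of_le hH', hcard])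
  refine ⟨(y : G), y.2, ?_⟩
  have h2 := congrArg (Subgroup.map M.subtype) hy
  rw [map_conj_smul, Subgroup.map_subgroupOf_eq_of_le hH,
    Subgroup.map_subgroupOf_eq_of_le hH'] at h2
  exact h2

/-- Frattini argument for Hall subgroups of solvable groups. -/
theorem normalizer_sup_of_hall {G : Type u} [Group G] [Finite G] [Group.IsSolvable G]
    (H N : Subgroup G) [N.Normal] (hcop : (Nat.card H).Coprime H.index) :
    Subgroup.normalizer ((H ⊔ N : Subgroup G) : Set G) ≤ Subgroup.normalizer (H : Set G) ⊔ N := by
  intro x hx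
  have hHM : H ≤ H ⊔ N := le_sup_left
  have hxH : MulAut.conj x • H ≤ H ⊔ N := by
    intro z hz
    rw [mem_conj_smul] at hz
    have h1 := (Subgroup.mem_normalizer_iff.mp hx (x⁻¹ * z * x)).mp (hHM hz)
    simpa [mul_assoc] using h1
  have hcop' : (Nat.card H).Coprime (H.relIndex (H ⊔ N)) :=
    Nat.Coprime.coprime_dvd_right (Subgroup.relIndex_dvd_index_of_le hHM) hcop
  obtain ⟨y, hy, hyx⟩ := hall_conj_rel (H ⊔ N) H (MulAut.conj x • H) hHM hxH
    (card_conj_smul x H) hcop'
  have h2 : MulAut.conj (y⁻¹ * x) • H = H := by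
    rw [← conj_smul_conj_smul, ← hyx, conj_smul_conj_smul, inv_mul_cancel, conj_one_smul]
  have h3 : y⁻¹ * x ∈ Subgroup.normalizer (H : Set G) := mem_normalizer_of_conj_smul_eq H _ h2
  have hM_le : H ⊔ N ≤ Subgroup.normalizer (H : Set G) ⊔ N :=
    sup_le (Subgroup.le_normalizer.trans le_sup_left) le_sup_right
  have e : x = y * (y⁻¹ * x) := by group
  rw [e]
  exact Subgroup.mul_mem _ (hM_le hy) (Subgroup.mem_sup_left h3)

/-- The image of a complement system in a quotient is a complement system. -/
theorem complementSystem_map {G : Type*} [Group G] [Finite G] (K : Nat.Primes → Subgroup G)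
    (hK : Cfsg.IsComplementSystem K) (N : Subgroup G) [N.Normal] :
    Cfsg.IsComplementSystem (fun p => (K p).map (QuotientGroup.mk' N)) := by
  intro p
  have hfs : Function.Surjective (QuotientGroup.mk' N) := QuotientGroup.mk'_surjective N
  have h1 : ((K p).map (QuotientGroup.mk' N)).index ∣ (K p).index :=
    Subgroup.index_map_dvd _ hfs
  rw [hK p] at h1
  obtain ⟨j, _, hj⟩ := (Nat.dvd_prime_pow p.2).mp h1
  have h2 : Nat.card ((K p).map (QuotientGroup.mk' N)) ∣ Nat.card (K p) :=
    Subgroup.card_map_dvd _ _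
  have hcop : (Nat.card ((K p).map (QuotientGroup.mk' N))).Coprime p :=
    Nat.Coprime.coprime_dvd_left h2 (complement_card_coprime K hK p)
  have h3 := Subgroup.card_mul_index ((K p).map (QuotientGroup.mk' N))
  rw [hj] at h3
  have hnd : ¬ (p : ℕ) ∣ Nat.card ((K p).map (QuotientGroup.mk' N)) := fun hd =>
    p.2.one_lt.ne' (Nat.eq_one_of_dvd_coprimes hcop hd (dvd_refl _))
  show ((K p).map (QuotientGroup.mk' N)).index = (p : ℕ) ^ (Nat.card (G ⧸ N)).factorization p
  rw [hj, ← h3, Nat.factorization_mul Nat.card_pos.ne' (pow_ne_zero j p.2.pos.ne'),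
    Finsupp.add_apply, Nat.factorization_eq_zero_of_not_dvd hnd, zero_add,
    p.2.factorization_pow, Finsupp.single_eq_same]

/-- The system normalizer of the image system is the image of the system normalizer. -/
theorem systemNormalizer_map {G : Type u} [Group G] [Finite G] [Group.IsSolvable G]
    (K : Nat.Primes → Subgroup G) (hK : Cfsg.IsComplementSystem K) (N : Subgroup G) [N.Normal] :
    Cfsg.systemNormalizer (fun p => (K p).map (QuotientGroup.mk' N)) =
      (Cfsg.systemNormalizer K).map (QuotientGroup.mk' N) := by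
  classical
  have hfs : Function.Surjective (QuotientGroup.mk' N) := QuotientGroup.mk'_surjective N
  apply le_antisymm
  · intro xb hxb
    obtain ⟨x, rfl⟩ := hfs xb
    have h1 : ∀ p : Nat.Primes, x ∈ Subgroup.normalizer (K p : Set G) ⊔ N := by
      intro p
      have h2 : QuotientGroup.mk' N x ∈ Subgroup.normalizer
          (((K p).map (QuotientGroup.mk' N) : Subgroup (G ⧸ N)) : Set (G ⧸ N)) :=
        (Subgroup.mem_iInf.mp hxb) p
      have h3 : x ∈ (Subgroup.normalizer
          (((K p).map (QuotientGroup.mk' N) : Subgroup (G ⧸ N)) : Set (G ⧸ N))).comap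
            (QuotientGroup.mk' N) := h2
      rw [Subgroup.comap_normalizer_eq_of_surjective _ hfs, QuotientGroup.comap_map_mk',
        sup_comm] at h3
      refine normalizer_sup_of_hall (K p) N ?_ h3
      rw [hK p]
      exact Nat.Coprime.pow_right _ (complement_card_coprime K hK p)
    let H : ℕ → Subgroup G := fun r =>
      if h : r.Prime then Subgroup.normalizer (K ⟨r, h⟩ : Set G) else ⊤
    have hHidx : ∀ r : ℕ, ∃ k : ℕ, r.Prime → (H r).index = r ^ k := by
      intro r
      by_cases h : r.Prime
      · have h1 : (H r).index ∣ (K ⟨r, h⟩).index := by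
          simp only [H, dif_pos h]
          exact Subgroup.index_dvd_of_le Subgroup.le_normalizer
        rw [hK ⟨r, h⟩] at h1
        obtain ⟨k, _, hk⟩ := (Nat.dvd_prime_pow h).mp h1
        exact ⟨k, fun _ => hk⟩
      · exact ⟨0, fun h' => absurd h' h⟩
    choose v hv using hHidx
    have key : ∀ s : Finset ℕ, (∀ r ∈ s, r.Prime) →
        s.inf (fun r => H r ⊔ N) ≤ s.inf H ⊔ N := by
      intro s
      induction s using Finset.induction_on with
      | empty => intro _; simp
      | insert a s ha ih =>
        intro hs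
        have hap : a.Prime := hs a (Finset.mem_insert_self a s)
        rw [Finset.inf_insert, Finset.inf_insert]
        have ih' := ih (fun r hr => hs r (Finset.mem_insert_of_mem hr))
        have hidx_s : (s.inf H).index = ∏ r ∈ s, r ^ v r :=
          index_finset_inf H v s (fun r hr => hs r (Finset.mem_insert_of_mem hr))
            (fun r hr => hv r (hs r (Finset.mem_insert_of_mem hr)))
        have hcop2 : (H a).index.Coprime (s.inf H).index := by
          rw [hv a hap, hidx_s]
          apply Nat.Coprime.prod_right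
          intro r hr
          apply Nat.Coprime.pow
          exact (Nat.coprime_primes hap (hs r (Finset.mem_insert_of_mem hr))).mpr
            (fun h => ha (h ▸ hr))
        exact (inf_le_inf_left _ ih').trans (sup_inf_sup_le_of_coprime _ _ N hcop2)
    have hx_s : x ∈ (Nat.card G).primeFactors.inf (fun r => H r ⊔ N) := by
      have hle : Subgroup.zpowers x ≤ (Nat.card G).primeFactors.inf (fun r => H r ⊔ N) := by
        apply Finset.le_inf
        intro r hr
        rw [Subgroup.zpowers_le]
        have hrp : r.Prime := Nat.prime_of_mem_primeFactors hr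
        have := h1 ⟨r, hrp⟩
        simp only [H, dif_pos hrp]
        exact this
      exact hle (Subgroup.mem_zpowers x)
    have hx2 := key _ (fun r hr => Nat.prime_of_mem_primeFactors hr) hx_s
    have hD : (Nat.card G).primeFactors.inf H ≤ Cfsg.systemNormalizer K := by
      apply le_iInf
      intro p
      by_cases hp : (p : ℕ) ∈ (Nat.card G).primeFactors
      · have h3 : (Nat.card G).primeFactors.inf H ≤ H p := Finset.inf_le hp
        simp only [H, dif_pos p.2] at h3
        exact h3
      · have hnd : ¬ (p : ℕ) ∣ Nat.card G :=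
          fun h => hp (Nat.mem_primeFactors.mpr ⟨p.2, h, Nat.card_pos.ne'⟩)
        rw [complement_eq_top K hK p hnd, Subgroup.normalizer_eq_top]
        exact le_top
    obtain ⟨d, hd, n, hn, rfl⟩ := Subgroup.mem_sup_of_normal_right.mp hx2
    refine ⟨d, hD hd, ?_⟩
    have hn1 : QuotientGroup.mk' N n = 1 := (QuotientGroup.eq_one_iff n).mpr hn
    rw [map_mul, hn1, mul_one]
  · rw [Subgroup.map_le_iff_le_comap]
    intro d hd
    show QuotientGroup.mk' N d ∈ Cfsg.systemNormalizer _
    unfold Cfsg.systemNormalizer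
    rw [Subgroup.mem_iInf]
    intro p
    exact Subgroup.le_normalizer_map (QuotientGroup.mk' N)
      (Subgroup.mem_map_of_mem _ ((Subgroup.mem_iInf.mp hd) p))

/-- The normal closure of a system normalizer is the whole group. -/
theorem normalClosure_systemNormalizer {G : Type u} [Group G] [Finite G] [Group.IsSolvable G]
    (K : Nat.Primes → Subgroup G) (hK : Cfsg.IsComplementSystem K) :
    Subgroup.normalClosure ((Cfsg.systemNormalizer K : Subgroup G) : Set G) = ⊤ := by
  set M := Subgroup.normalClosure ((Cfsg.systemNormalizer K : Subgroup G) : Set G) with hM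
  by_contra hne
  haveI : Nontrivial (G ⧸ M) := QuotientGroup.nontrivial_iff.mpr hne
  set N : Subgroup G := (commutator (G ⧸ M)).comap (QuotientGroup.mk' M) with hN
  have hNn : N.Normal := by rw [hN]; infer_instance
  have hMN : M ≤ N := le_comap_mk'_of_le M _
  have hNtop : N ≠ ⊤ := by
    intro hT
    have h1 : commutator (G ⧸ M) = ⊤ := by
      apply Subgroup.comap_injective (QuotientGroup.mk'_surjective M)
      rw [← hN, hT, Subgroup.comap_top]
    exact (Group.IsSolvable.commutator_lt_top_of_nontrivial (G ⧸ M)).ne h1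
  have hcomm : ∀ a b : G, a⁻¹ * b⁻¹ * a * b ∈ N := by
    intro a b
    rw [hN, Subgroup.mem_comap]
    have h1 : QuotientGroup.mk' M (a⁻¹ * b⁻¹ * a * b) =
        ⁅(QuotientGroup.mk' M a)⁻¹, (QuotientGroup.mk' M b)⁻¹⁆ := by
      rw [commutatorElement_def, inv_inv, inv_inv, map_mul, map_mul, map_mul, map_inv, map_inv]
    rw [h1]
    exact Subgroup.commutator_mem_commutator (Subgroup.mem_top _) (Subgroup.mem_top _)
  have hab : ∀ x y : G ⧸ N, x * y = y * x := by
    intro x y
    induction x using QuotientGroup.induction_on with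
    | H a =>
    induction y using QuotientGroup.induction_on with
    | H b =>
    show ((a * b : G) : G ⧸ N) = ((b * a : G) : G ⧸ N)
    rw [QuotientGroup.eq]
    have := hcomm b a
    have e : (a * b)⁻¹ * (b * a) = b⁻¹ * a⁻¹ * b * a := by group
    rw [e]; exact this
  have h1 := systemNormalizer_map K hK N
  have h2 : (Cfsg.systemNormalizer K).map (QuotientGroup.mk' N) = ⊥ := by
    rw [eq_bot_iff]
    rintro _ ⟨d, hd, rfl⟩
    rw [Subgroup.mem_bot]
    exact (QuotientGroup.eq_one_iff d).mpr (hMN (Subgroup.subset_normalClosure hd))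
  have h3 : Cfsg.systemNormalizer (fun p => (K p).map (QuotientGroup.mk' N)) = ⊤ := by
    apply top_le_iff.mp
    intro x _
    unfold Cfsg.systemNormalizer
    rw [Subgroup.mem_iInf]
    intro p
    rw [Subgroup.mem_normalizer_iff]
    intro h
    rw [hab x h, mul_inv_cancel_right]
  rw [h2] at h1
  rw [h1] at h3
  haveI : Nontrivial (G ⧸ N) := QuotientGroup.nontrivial_iff.mpr hNtop
  exact bot_ne_top h3

end Cfsg.Agent.Lib_helper1_SysNorm
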