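import Cfsg.Statements.S0031
import Cfsg.Agent.Lib_helper1_Frobenius

set_option autoImplicit false
open Cfsg

namespace Cfsg.Agent.S0031

/-- A fixed-point-free automorphism of a finite group maps some Sylow p-subgroup to itself. -/
theorem result {G : Type*} [Group G] [Finite G] (φ : G ≃* G)
    (hφ : MonoidHom.FixedPointFree (φ : G →* G)) (p : ℕ) [Fact p.Prime] :
    ∃ P : Sylow p G, (P : Subgroup G).map (φ : G →* G) = P := by
  obtain ⟨P₀⟩ : Nonempty (Sylow p G) := inferInstance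
  have hinj : Function.Injective (φ : G →* G) := φ.injective
  have hcard : Nat.card ((P₀ : Subgroup G).map (φ : G →* G)) = p ^ (Nat.card G).factorization p := by
    rw [← Nat.card_congr ((P₀ : Subgroup G).equivMapOfInjective (φ : G →* G) hinj).toEquiv]
    exact P₀.card_eq_multiplicity
  obtain ⟨g, hg⟩ := MulAction.exists_smul_eq G P₀ (Sylow.ofCard _ hcard)
  have hg' : ∀ y : G, y ∈ (P₀ : Subgroup G).map (φ : G →* G) ↔ g⁻¹ * y * g ∈ (P₀ : Subgroup G) := by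
    intro y
    rw [← Cfsg.Agent.Lib_helper1_Frobenius.mem_smul_sylow, hg]
    rfl
  obtain ⟨k, hk⟩ := MonoidHom.FixedPointFree.commutatorMap_surjective hφ g⁻¹
  have hk' : k * (φ k)⁻¹ = g⁻¹ := by
    have : k / (φ : G →* G) k = g⁻¹ := hk
    rw [div_eq_mul_inv] at this
    exact this
  have hgk : g = φ k * k⁻¹ := by
    have : g = (k * (φ k)⁻¹)⁻¹ := by rw [hk', inv_inv]
    rw [this]; group
  refine ⟨k⁻¹ • P₀, ?_⟩
  apply Subgroup.eq_of_le_of_card_ge
  · rintro _ ⟨x, hx, rfl⟩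
    have hx' : k⁻¹⁻¹ * x * k⁻¹ ∈ (P₀ : Subgroup G) :=
      (Cfsg.Agent.Lib_helper1_Frobenius.mem_smul_sylow k⁻¹ x P₀).mp hx
    have h1 : (φ : G →* G) (k⁻¹⁻¹ * x * k⁻¹) ∈ (P₀ : Subgroup G).map (φ : G →* G) :=
      ⟨_, hx', rfl⟩
    rw [hg'] at h1
    show (φ : G →* G) x ∈ ((k⁻¹ • P₀ : Sylow p G) : Subgroup G)
    rw [Cfsg.Agent.Lib_helper1_Frobenius.mem_smul_sylow]
    have e : k⁻¹⁻¹ * (φ : G →* G) x * k⁻¹ = g⁻¹ * (φ : G →* G) (k⁻¹⁻¹ * x * k⁻¹) * g := by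
      rw [hgk]
      simp only [map_mul, map_inv, MonoidHom.coe_coe]
      group
    rw [e]; exact h1
  · rw [← Nat.card_congr (((k⁻¹ • P₀ : Sylow p G) : Subgroup G).equivMapOfInjective
      (φ : G →* G) hinj).toEquiv]

end Cfsg.Agent.S0031
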