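import Mathlib
import Cfsg.Agent.Lib_helper1_GT
import Cfsg.Agent.S0031
import Cfsg.Agent.S0032

set_option autoImplicit false
set_option maxHeartbeats 1600000

/-! Thompson's theorem: a finite group with a fixed-point-free automorphism of prime order is
nilpotent. -/

namespace Cfsg.Agent.H1Thompson

open Cfsg
open scoped Pointwise

universe u

/-- The counting ("trace") lemma. -/
theorem trace_lemma {Q R : Type*} [Group Q] [Fintype Q] [Ring R] (ρ : Q →* R) (Φ : R)
    (ψ : Q ≃* Q) (r : ℕ)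
    (hrel : ∀ u : Q, Φ * ρ u = ρ (ψ u) * Φ)
    (hfpf : ∀ j : ℕ, 0 < j → j < r → ∀ u : Q, (ψ ^ j) u = u → u = 1)
    (hr : 0 < r)
    (hS : ∑ j ∈ Finset.range r, Φ ^ j = 0) :
    ∑ y : Q, ρ y = (Fintype.card Q : R) := by
  have h1 : ∀ (j : ℕ) (u : Q), Φ ^ j * ρ u = ρ ((ψ ^ j) u) * Φ ^ j := by
    intro j
    induction j with
    | zero => intro u; simp
    | succ j ih =>
      intro u
      have e : (ψ ^ (j + 1)) u = (ψ ^ j) (ψ u) := by rw [pow_succ]; rfl
      rw [e, pow_succ, mul_assoc, hrel u, ← mul_assoc, ih (ψ u), mul_assoc]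
  have h2 : ∀ u : Q, ∑ j ∈ Finset.range r, ρ (u * ((ψ ^ j) u)⁻¹) * Φ ^ j = 0 := by
    intro u
    have e : ∑ j ∈ Finset.range r, ρ (u * ((ψ ^ j) u)⁻¹) * Φ ^ j =
        ρ u * (∑ j ∈ Finset.range r, Φ ^ j) * ρ u⁻¹ := by
      rw [Finset.mul_sum, Finset.sum_mul]
      apply Finset.sum_congr rfl
      intro j _
      rw [mul_assoc, h1 j u⁻¹, map_inv, ← mul_assoc, ← map_mul]
    rw [e, hS, mul_zero, zero_mul]
  have h3 : ∑ j ∈ Finset.range r, (∑ u : Q, ρ (u * ((ψ ^ j) u)⁻¹)) * Φ ^ j = 0 := by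
    have : ∑ u : Q, ∑ j ∈ Finset.range r, ρ (u * ((ψ ^ j) u)⁻¹) * Φ ^ j = 0 :=
      Finset.sum_eq_zero (fun u _ => h2 u)
    rw [Finset.sum_comm] at this
    rw [← this]
    apply Finset.sum_congr rfl
    intro j _
    rw [Finset.sum_mul]
  have h4 : ∀ j : ℕ, 0 < j → j < r → ∑ u : Q, ρ (u * ((ψ ^ j) u)⁻¹) = ∑ y : Q, ρ y := by
    intro j hj0 hjr
    apply Fintype.sum_bijective (fun u : Q => u * ((ψ ^ j) u)⁻¹) _ _ _ (fun u => rfl)
    rw [← Finite.injective_iff_bijective]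
    intro u w huw
    have huw' : u * ((ψ ^ j) u)⁻¹ = w * ((ψ ^ j) w)⁻¹ := huw
    have h5 : (ψ ^ j) (w⁻¹ * u) = w⁻¹ * u := by
      rw [map_mul, map_inv]
      calc ((ψ ^ j) w)⁻¹ * (ψ ^ j) u = w⁻¹ * (w * ((ψ ^ j) w)⁻¹) * (ψ ^ j) u := by group
        _ = w⁻¹ * (u * ((ψ ^ j) u)⁻¹) * (ψ ^ j) u := by rw [huw']
        _ = w⁻¹ * u := by group
    have h7 := hfpf j hj0 hjr _ h5
    calc u = w * (w⁻¹ * u) := by group
      _ = w := by rw [h7, mul_one]
  obtain ⟨r', rfl⟩ := Nat.exists_eq_succ_of_ne_zero hr.ne'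
  rw [Finset.sum_range_succ'] at h3 hS
  have h8 : ∑ j ∈ Finset.range r', (∑ u : Q, ρ (u * ((ψ ^ (j + 1)) u)⁻¹)) * Φ ^ (j + 1) =
      (∑ y : Q, ρ y) * ∑ j ∈ Finset.range r', Φ ^ (j + 1) := by
    rw [Finset.mul_sum]
    apply Finset.sum_congr rfl
    intro j hj
    rw [h4 (j + 1) (Nat.succ_pos j) (Nat.succ_lt_succ (Finset.mem_range.mp hj))]
  have h9 : ∑ u : Q, ρ (u * ((ψ ^ 0) u)⁻¹) = (Fintype.card Q : R) := by
    have : ∀ u : Q, ρ (u * ((ψ ^ 0) u)⁻¹) = 1 := by
      intro u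
      have e : u * ((ψ ^ 0) u)⁻¹ = 1 := by rw [pow_zero]; exact mul_inv_cancel u
      rw [e, map_one]
    rw [Finset.sum_congr rfl (fun u _ => this u), Finset.sum_const, Finset.card_univ,
      nsmul_eq_mul, mul_one]
  have h10 : ∑ j ∈ Finset.range r', Φ ^ (j + 1) = -1 := by
    rw [pow_zero] at hS
    exact eq_neg_of_add_eq_zero_left hS
  rw [h8, h9, h10, pow_zero, mul_one, mul_neg, mul_one] at h3
  exact (neg_add_eq_zero.mp h3)

theorem coprime_fpf_action {Q M : Type*} [Group Q] [Finite Q] [CommGroup M] (α : Q →* MulAut M)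
    (ψ : Q ≃* Q) (θ : MulAut M) (r : ℕ) (hr : 0 < r)
    (hcompat : ∀ (u : Q) (m : M), θ (α u m) = α (ψ u) (θ m))
    (hfpfQ : ∀ j : ℕ, 0 < j → j < r → ∀ u : Q, (ψ ^ j) u = u → u = 1)
    (hθr : ∀ m : M, (θ ^ r) m = m) (hθfpf : ∀ m : M, θ m = m → m = 1)
    (hcop : ∀ m : M, m ^ Nat.card Q = 1 → m = 1) : ∀ (z : Q) (m : M), α z m = m := by
  haveI := Fintype.ofFinite Q
  obtain ⟨ρ, hρ⟩ : ∃ ρ : Q →* AddMonoid.End (Additive M),
      ∀ (g : Q) (w : Additive M), ρ g w = Additive.ofMul (α g (Additive.toMul w)) :=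
    ⟨{ toFun := fun g => MonoidHom.toAdditive (α g).toMonoidHom
       map_one' := by
         apply AddMonoidHom.ext; intro w
         show Additive.ofMul ((α 1) (Additive.toMul w)) = w
         rw [map_one]; rfl
       map_mul' := by
         intro g h
         apply AddMonoidHom.ext; intro w
         show Additive.ofMul ((α (g * h)) (Additive.toMul w)) =
           Additive.ofMul ((α g) ((α h) (Additive.toMul w)))
         rw [map_mul]; rfl }, fun g w => rfl⟩
  obtain ⟨Φ, hΦ⟩ : ∃ Φ : AddMonoid.End (Additive M),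
      ∀ w : Additive M, Φ w = Additive.ofMul (θ (Additive.toMul w)) :=
    ⟨MonoidHom.toAdditive θ.toMonoidHom, fun w => rfl⟩
  have hΦpow : ∀ (j : ℕ) (w : Additive M),
      (Φ ^ j) w = Additive.ofMul ((θ ^ j) (Additive.toMul w)) := by
    intro j
    induction j with
    | zero => intro w; rfl
    | succ j ih =>
      intro w
      have e : (Φ ^ (j + 1)) w = (Φ ^ j) (Φ w) := by rw [pow_succ]; rfl
      rw [e, ih, hΦ, pow_succ]; rfl
  have hrel : ∀ u : Q, Φ * ρ u = ρ (ψ u) * Φ := by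
    intro u
    apply AddMonoidHom.ext; intro w
    show Φ (ρ u w) = ρ (ψ u) (Φ w)
    rw [hΦ, hρ, hρ, hΦ]
    exact congrArg Additive.ofMul (hcompat u _)
  have hΦr : Φ ^ r = 1 := by
    apply AddMonoidHom.ext; intro w
    have h0 := hΦpow r w
    rw [hθr] at h0
    exact h0
  have hS : ∑ j ∈ Finset.range r, Φ ^ j = 0 := by
    have h1 : Φ * ∑ j ∈ Finset.range r, Φ ^ j = ∑ j ∈ Finset.range r, Φ ^ j := by
      have h2 := Finset.sum_range_succ (fun j => Φ ^ j) r
      have h3 := Finset.sum_range_succ' (fun j => Φ ^ j) r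
      rw [h2, hΦr, pow_zero] at h3
      have h4 : ∑ j ∈ Finset.range r, Φ ^ (j + 1) = ∑ j ∈ Finset.range r, Φ ^ j :=
        (add_right_cancel h3).symm
      rw [Finset.mul_sum, ← h4]
      apply Finset.sum_congr rfl
      intro j _
      rw [pow_succ']
    apply AddMonoidHom.ext; intro w
    have h5 := congrArg (fun f : AddMonoid.End (Additive M) => f w) h1
    have h6 : Φ ((∑ j ∈ Finset.range r, Φ ^ j) w) = (∑ j ∈ Finset.range r, Φ ^ j) w := h5
    rw [hΦ] at h6
    have h7 := hθfpf _ (Additive.ofMul.injective h6)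
    exact h7
  have hT := trace_lemma ρ Φ ψ r hrel hfpfQ hr hS
  intro z m
  have hcor : ρ z * (Fintype.card Q : AddMonoid.End (Additive M)) =
      (Fintype.card Q : AddMonoid.End (Additive M)) := by
    rw [← hT, Finset.mul_sum]
    apply Fintype.sum_bijective (fun y : Q => z * y) (Group.mulLeft_bijective z)
    intro y
    rw [map_mul]
  have h5 : ρ z ((Fintype.card Q : AddMonoid.End (Additive M)) (Additive.ofMul m)) =
      (Fintype.card Q : AddMonoid.End (Additive M)) (Additive.ofMul m) :=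
    congrArg (fun f : AddMonoid.End (Additive M) => f (Additive.ofMul m)) hcor
  rw [AddMonoid.End.natCast_apply, hρ] at h5
  have h6 : α z (m ^ Fintype.card Q) = m ^ Fintype.card Q := Additive.ofMul.injective h5
  rw [map_pow] at h6
  have h7 : (α z m / m) ^ Nat.card Q = 1 := by
    rw [Nat.card_eq_fintype_card, div_pow, h6, div_self']
  exact div_eq_one.mp (hcop _ h7)

theorem fpf_pow {G : Type*} [Group G] (φ : G ≃* G) (r : ℕ) (hr : r.Prime)
    (hfpf : ∀ g, φ g = g → g = 1) (hφr : ∀ g, (φ ^ r) g = g) (j : ℕ) (hj0 : 0 < j)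
    (hjr : j < r) (g : G) (hg : (φ ^ j) g = g) : g = 1 := by
  have hφr' : φ ^ r = 1 := MulEquiv.ext hφr
  have hcop : Nat.Coprime j r :=
    Nat.Coprime.symm ((Nat.Prime.coprime_iff_not_dvd hr).mpr (Nat.not_dvd_of_pos_of_lt hj0 hjr))
  obtain ⟨m, -, hm⟩ := Nat.exists_mul_mod_eq_one_of_coprime hcop hr.one_lt
  have h1 : ∀ i : ℕ, ((φ ^ j) ^ i) g = g := by
    intro i
    induction i with
    | zero => rfl
    | succ i ih =>
      have e : ((φ ^ j) ^ (i + 1)) g = ((φ ^ j) ^ i) ((φ ^ j) g) := by rw [pow_succ]; rfl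
      rw [e, hg, ih]
  have h2 : φ ^ (j * m) = φ := by
    conv_lhs => rw [← Nat.div_add_mod (j * m) r, hm, pow_add, pow_mul, hφr', one_pow, one_mul,
      pow_one]
  have h3 := h1 m
  rw [← pow_mul, h2] at h3
  exact hfpf g h3

theorem exists_restrict {G : Type*} [Group G] [Finite G] (φ : G ≃* G) (K : Subgroup G)
    (hK : ∀ k ∈ K, φ k ∈ K) : ∃ ψ : ↥K ≃* ↥K, ∀ k : ↥K, ((ψ k : ↥K) : G) = φ k := by
  refine ⟨MulEquiv.ofBijective
    ((φ.toMonoidHom.comp K.subtype).codRestrict K (fun k => hK k.1 k.2)) ?_, fun k => rfl⟩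
  rw [← Finite.injective_iff_bijective]
  intro a b hab
  apply Subtype.ext
  apply φ.injective
  exact congrArg Subtype.val hab

theorem restrict_pow {G : Type*} [Group G] (φ : G ≃* G) (K : Subgroup G) (ψ : ↥K ≃* ↥K)
    (hψ : ∀ k : ↥K, ((ψ k : ↥K) : G) = φ k) :
    ∀ (j : ℕ) (k : ↥K), (((ψ ^ j) k : ↥K) : G) = (φ ^ j) k := by
  intro j
  induction j with
  | zero => intro k; rfl
  | succ j ih =>
    intro k
    have e : (ψ ^ (j + 1)) k = ψ ((ψ ^ j) k) := by rw [pow_succ']; rfl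
    have e' : (φ ^ (j + 1)) (k : G) = φ ((φ ^ j) (k : G)) := by rw [pow_succ']; rfl
    rw [e, hψ, ih, e']

theorem exists_quot {G : Type*} [Group G] [Finite G] (φ : G ≃* G) (N : Subgroup G) [N.Normal]
    (hN : ∀ n ∈ N, φ n ∈ N) :
    ∃ ψ : G ⧸ N ≃* G ⧸ N, ∀ g : G, ψ (QuotientGroup.mk' N g) = QuotientGroup.mk' N (φ g) := by
  have hmap : N.map (φ : G →* G) = N := by
    apply Subgroup.eq_of_le_of_card_ge
    · rintro _ ⟨n, hn, rfl⟩; exact hN n hn
    · rw [Subgroup.card_map_of_injective φ.injective]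
  exact ⟨QuotientGroup.congr N N φ hmap, fun g => QuotientGroup.congr_mk N N φ hmap g⟩

theorem quot_pow {G : Type*} [Group G] (φ : G ≃* G) (N : Subgroup G) [N.Normal]
    (ψ : G ⧸ N ≃* G ⧸ N)
    (hψ : ∀ g : G, ψ (QuotientGroup.mk' N g) = QuotientGroup.mk' N (φ g)) :
    ∀ (j : ℕ) (g : G), (ψ ^ j) (QuotientGroup.mk' N g) = QuotientGroup.mk' N ((φ ^ j) g) := by
  intro j
  induction j with
  | zero => intro g; rfl
  | succ j ih =>
    intro g
    have e : (ψ ^ (j + 1)) (QuotientGroup.mk' N g) = ψ ((ψ ^ j) (QuotientGroup.mk' N g)) := by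
      rw [pow_succ']; rfl
    have e' : (φ ^ (j + 1)) g = φ ((φ ^ j) g) := by rw [pow_succ']; rfl
    rw [e, ih, hψ, e']

/-- A `φ`-invariant subgroup of order prime to that of a `φ`-invariant abelian normal subgroup
`V` centralizes `V`, when `φ` is fixed-point-free of prime order. -/
theorem fpf_coprime_centralizes {G : Type*} [Group G] [Finite G] (φ : G ≃* G) (r : ℕ)
    (hr : r.Prime) (hfpf : ∀ g, φ g = g → g = 1) (hφr : ∀ g, (φ ^ r) g = g)
    (V : Subgroup G) [hVn : V.Normal] (hVc : ∀ a ∈ V, ∀ b ∈ V, a * b = b * a)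
    (hVφ : ∀ v ∈ V, φ v ∈ V) (Q : Subgroup G) (hQφ : ∀ x ∈ Q, φ x ∈ Q)
    (hcop : (Nat.card Q).Coprime (Nat.card V)) : ∀ z ∈ Q, ∀ v ∈ V, z * v = v * z := by
  obtain ⟨ψ, hψ⟩ := exists_restrict φ Q hQφ
  obtain ⟨θ, hθ⟩ := exists_restrict φ V hVφ
  let _ : CommGroup ↥V :=
    { (inferInstance : Group ↥V) with
      mul_comm := fun a b => Subtype.ext (hVc a.1 a.2 b.1 b.2) }
  have key := coprime_fpf_action (Q := ↥Q) (M := ↥V)
    ((MulAut.conjNormal : G →* MulAut ↥V).comp Q.subtype) ψ θ r hr.pos ?_ ?_ ?_ ?_ ?_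
  · intro z hz v hv
    have h1 := congrArg Subtype.val (key ⟨z, hz⟩ ⟨v, hv⟩)
    have h2 : z * v * z⁻¹ = v := h1
    calc z * v = z * v * z⁻¹ * z := by group
      _ = v * z := by rw [h2]
  · intro u m
    apply Subtype.ext
    rw [hθ]
    show φ ((u : G) * (m : G) * (u : G)⁻¹) =
      ((ψ u : ↥Q) : G) * ((θ m : ↥V) : G) * ((ψ u : ↥Q) : G)⁻¹
    rw [hψ, hθ, map_mul, map_mul, map_inv]
  · intro j hj0 hjr u hu
    apply Subtype.ext
    apply fpf_pow φ r hr hfpf hφr j hj0 hjr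
    rw [← restrict_pow φ Q ψ hψ, hu]
  · intro m
    apply Subtype.ext
    rw [restrict_pow φ V θ hθ, hφr]
  · intro m hm
    apply Subtype.ext
    apply hfpf
    rw [← hθ, hm]
  · intro m hm
    apply Subtype.ext
    have h1 : (m : G) ^ Nat.card ↥Q = 1 := congrArg Subtype.val hm
    have h2 : orderOf (m : G) ∣ Nat.card ↥Q := orderOf_dvd_of_pow_eq_one h1
    have h3 : orderOf (m : G) ∣ Nat.card ↥V := Subgroup.orderOf_dvd_natCard V m.2
    exact orderOf_eq_one_iff.mp (Nat.eq_one_of_dvd_coprimes hcop h2 h3)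

theorem thompson_aux (r : ℕ) (hr : r.Prime) (n : ℕ) :
    ∀ (G : Type u) [Group G] [Finite G], Nat.card G = n →
      ∀ φ : G ≃* G, (∀ g, φ g = g → g = 1) → (∀ g, (φ ^ r) g = g) → Group.IsNilpotent G := by
  induction n using Nat.strong_induction_on with
  | _ n ih =>
  intro G _ _ hn φ hfpf hφr
  have hsub : ∀ K : Subgroup G, K ≠ ⊤ → (∀ k ∈ K, φ k ∈ K) → Group.IsNilpotent ↥K := by
    intro K hK hKφ
    obtain ⟨ψ, hψ⟩ := exists_restrict φ K hKφ
    apply ih _ (hn ▸ H1GT.card_lt_of_ne_top K hK) ↥K rfl ψ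
    · intro k hk
      apply Subtype.ext
      apply hfpf
      rw [← hψ, hk]
    · intro k
      apply Subtype.ext
      rw [restrict_pow φ K ψ hψ, hφr]
  have hquot : ∀ (N : Subgroup G) [N.Normal], N ≠ ⊥ → (∀ k ∈ N, φ k ∈ N) →
      Group.IsNilpotent (G ⧸ N) := by
    intro N _ hN hNφ
    obtain ⟨ψ, hψ⟩ := exists_quot φ N hNφ
    apply ih _ (hn ▸ H1GT.card_quot_lt N hN) (G ⧸ N) rfl ψ
    · intro gb hgb
      obtain ⟨g, rfl⟩ := QuotientGroup.mk'_surjective N gb
      rw [hψ] at hgb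
      have h1 : (φ g)⁻¹ * g ∈ N := QuotientGroup.eq.mp hgb
      have h2 := S0032.result φ hfpf N hNφ g h1
      exact (QuotientGroup.eq_one_iff g).mpr h2
    · intro gb
      obtain ⟨g, rfl⟩ := QuotientGroup.mk'_surjective N gb
      rw [quot_pow φ N ψ hψ, hφr]
  -- Step II
  have key : ∀ (p : ℕ) [Fact p.Prime], Cfsg.pCore p G ≠ ⊥ → Group.IsNilpotent G := by
    intro p _ hcore
    have hpp : p.Prime := Fact.out
    obtain ⟨R, hRe⟩ : ∃ R, R = Cfsg.pCore p G := ⟨_, rfl⟩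
    rw [← hRe] at hcore
    haveI hRn : R.Normal := hRe ▸ Lib_helper7_PCore.pCore_normal p
    have hRp : IsPGroup p R := hRe ▸ Lib_helper7_PCore.pCore_isPGroup p
    have hRchar : ∀ f : G ≃* G, ∀ x ∈ R, f x ∈ R := by
      intro f x hx
      have h1 : R.map f.toMonoidHom ≤ Cfsg.pCore p G :=
        Lib_helper7_PCore.le_pCore (hRn.map _ f.surjective) (hRp.map _)
      rw [hRe]
      exact h1 (Subgroup.mem_map_of_mem _ hx)
    obtain ⟨V, hVe⟩ : ∃ V, V = R ⊓ Subgroup.centralizer (R : Set G) := ⟨_, rfl⟩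
    haveI hVn : V.Normal := hVe ▸ Subgroup.normal_inf_normal R (Subgroup.centralizer (R : Set G))
    have hVR : V ≤ R := hVe ▸ inf_le_left
    have hVp : IsPGroup p V := hRp.to_le hVR
    have hVc : ∀ a ∈ V, ∀ b ∈ V, a * b = b * a := by
      intro a ha b hb
      rw [hVe] at ha hb
      exact (Subgroup.mem_centralizer_iff.mp (Subgroup.mem_inf.mp hb).2 a
        (Subgroup.mem_inf.mp ha).1)
    have hVφ : ∀ v ∈ V, φ v ∈ V := by
      intro v hv
      rw [hVe] at hv ⊢
      obtain ⟨hv1, hv2⟩ := Subgroup.mem_inf.mp hv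
      refine Subgroup.mem_inf.mpr ⟨hRchar φ v hv1, ?_⟩
      rw [Subgroup.mem_centralizer_iff]
      intro t ht
      have ht' := hRchar φ.symm t ht
      have h1 := Subgroup.mem_centralizer_iff.mp hv2 _ ht'
      have h2 := congrArg φ h1
      rw [map_mul, map_mul, MulEquiv.apply_symm_apply] at h2
      exact h2
    have hVne : V ≠ ⊥ := by
      haveI : Nontrivial ↥R := (Subgroup.nontrivial_iff_ne_bot R).mpr hcore
      haveI := hRp.center_nontrivial
      obtain ⟨z, hz⟩ := exists_ne (1 : ↥(Subgroup.center ↥R))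
      intro hbot
      have hzV : ((z : ↥R) : G) ∈ V := by
        rw [hVe]
        refine Subgroup.mem_inf.mpr ⟨(z : ↥R).2, ?_⟩
        rw [Subgroup.mem_centralizer_iff]
        intro t ht
        have := Subgroup.mem_center_iff.mp z.2 ⟨t, ht⟩
        exact congrArg Subtype.val this
      rw [hbot, Subgroup.mem_bot] at hzV
      apply hz
      apply Subtype.ext; apply Subtype.ext
      exact hzV
    haveI hGV : Group.IsNilpotent (G ⧸ V) := hquot V hVne hVφ
    have hsylQ := ((Group.isNilpotent_of_finite_tfae (G := G ⧸ V)).out 0 3).mp hGV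
    apply ((Group.isNilpotent_of_finite_tfae (G := G)).out 0 3).mpr
    intro s hs S
    have hconj : ∀ (T : Sylow s G) (x : G), x ∈ (T : Subgroup G) → ∀ g : G,
        ∃ y ∈ (T : Subgroup G), y⁻¹ * (g * x * g⁻¹) ∈ V := by
      intro T x hx g
      have hTb := hsylQ s hs (T.mapSurjective (QuotientGroup.mk'_surjective V))
      have h2 : (QuotientGroup.mk' V) x ∈ ((T.mapSurjective (QuotientGroup.mk'_surjective V) :
          Sylow s (G ⧸ V)) : Subgroup (G ⧸ V)) := by
        rw [Sylow.coe_mapSurjective]; exact Subgroup.mem_map_of_mem _ hx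
      have h1 : (QuotientGroup.mk' V) (g * x * g⁻¹) ∈
          ((T.mapSurjective (QuotientGroup.mk'_surjective V) : Sylow s (G ⧸ V)) :
            Subgroup (G ⧸ V)) := by
        have := hTb.conj_mem _ h2 ((QuotientGroup.mk' V) g)
        simpa using this
      rw [Sylow.coe_mapSurjective] at h1
      obtain ⟨y, hy, hye⟩ := h1
      exact ⟨y, hy, QuotientGroup.eq.mp hye⟩
    by_cases hsp : s = p
    · subst hsp
      have hVS : V ≤ S := Lib_helper1_SS.normal_pgroup_le_sylow S V hVp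
      constructor
      intro x hx g
      obtain ⟨y, hy, h3⟩ := hconj S x hx g
      have h4 := (S : Subgroup G).mul_mem hy (hVS h3)
      simpa using h4
    · haveI := hs
      have hsprime : s.Prime := hs.out
      obtain ⟨Q, hQφ⟩ := S0031.result φ hfpf s
      have hQφ' : ∀ x ∈ (Q : Subgroup G), φ x ∈ (Q : Subgroup G) := by
        intro x hx
        have := Subgroup.mem_map_of_mem (φ : G →* G) hx
        rw [hQφ] at this
        exact this
      obtain ⟨a, ha⟩ := Q.isPGroup'.exists_card_eq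
      obtain ⟨b, hb⟩ := hVp.exists_card_eq
      have hsp' : s.Coprime p := (Nat.coprime_primes hsprime hpp).mpr hsp
      have hcop : (Nat.card (Q : Subgroup G)).Coprime (Nat.card V) := by
        rw [ha, hb]
        exact Nat.Coprime.pow _ _ hsp'
      have hQV := fpf_coprime_centralizes φ r hr hfpf hφr V hVc hVφ (Q : Subgroup G) hQφ' hcop
      have hQn : (Q : Subgroup G).Normal := by
        constructor
        intro x hx g
        obtain ⟨y, hy, h3⟩ := hconj Q x hx g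
        obtain ⟨v, hve⟩ : ∃ v, v = y⁻¹ * (g * x * g⁻¹) := ⟨_, rfl⟩
        rw [← hve] at h3
        have hyv : g * x * g⁻¹ = y * v := by rw [hve]; group
        have hcomm : Commute y v := hQV y hy v h3
        have hpowQ : ∀ t ∈ (Q : Subgroup G), t ^ s ^ a = 1 := by
          intro t ht
          have := pow_card_eq_one' (G := ↥(Q : Subgroup G)) (x := ⟨t, ht⟩)
          rw [ha] at this
          exact congrArg Subtype.val this
        have h5 : (g * x * g⁻¹) ^ s ^ a = 1 := by rw [conj_pow, hpowQ x hx]; simp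
        rw [hyv, hcomm.mul_pow, hpowQ y hy, one_mul] at h5
        have hv1 : v = 1 := H1GT.eq_one_of_pow_eq_one_of_pgroup V hVp v h3 (s ^ a)
          (Nat.Coprime.pow_left a hsp') h5
        rw [hyv, hv1, mul_one]; exact hy
      obtain ⟨g, hg⟩ := MulAction.exists_smul_eq G Q S
      haveI := hQn
      rw [← hg, Sylow.smul_eq_of_normal]
      exact hQn
  -- Step I
  by_cases h2 : ∃ p, p.Prime ∧ p ≠ 2 ∧ p ∣ Nat.card G
  swap
  · push_neg at h2
    have hcard : Nat.card G = 2 ^ (Nat.card G).primeFactorsList.length := by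
      apply Nat.eq_prime_pow_of_unique_prime_dvd Nat.card_pos.ne'
      intro d hd hdvd
      by_contra hne
      exact h2 d hd hne hdvd
    haveI : Fact (Nat.Prime 2) := ⟨Nat.prime_two⟩
    exact (IsPGroup.of_card hcard).isNilpotent
  obtain ⟨p, hpp, hp2, hpd⟩ := h2
  haveI : Fact p.Prime := ⟨hpp⟩
  obtain ⟨P, hPφ⟩ := S0031.result φ hfpf p
  have hPne : (P : Subgroup G) ≠ ⊥ := P.ne_bot_of_dvd_card hpd
  obtain ⟨Z, hZe⟩ : ∃ Z, Z = Cfsg.centerThompsonAOf (P : Subgroup G) := ⟨_, rfl⟩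
  have hZφ : Z.map (φ : G →* G) = Z := by
    rw [hZe, H1ZJ2.ctA_map (φ : G →* G) (P : Subgroup G) (fun x _ hx => by
      have : φ x = φ 1 := by rw [map_one]; exact hx
      exact φ.injective this), hPφ]
  have hZne : Z ≠ ⊥ := hZe ▸ H1ZJ2.ctA_ne_bot _ P.isPGroup' hPne
  have hZp : IsPGroup p Z := hZe ▸ P.isPGroup'.to_le (H1ZJ2.ctA_le _)
  obtain ⟨N, hNe⟩ : ∃ N, N = Subgroup.normalizer (Z : Set G) := ⟨_, rfl⟩
  have hNφ : ∀ x ∈ N, φ x ∈ N := by
    intro x hx
    rw [hNe] at hx ⊢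
    apply Lib_helper1_Basic.mem_normalizer_of_conj_le
    intro z hz
    rw [← hZφ] at hz
    obtain ⟨z', hz', rfl⟩ := hz
    have h1 := (Subgroup.mem_normalizer_iff.mp hx z').mp hz'
    have h2 := Subgroup.mem_map_of_mem (φ : G →* G) h1
    rw [hZφ] at h2
    simpa using h2
  by_cases hNtop : N = ⊤
  · have hZn : Z.Normal := Subgroup.normalizer_eq_top_iff.mp (hNe ▸ hNtop)
    apply key p
    intro hcore
    have := Lib_helper7_PCore.le_pCore hZn hZp
    rw [hcore] at this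
    exact hZne (le_bot_iff.mp this)
  · haveI hNnil : Group.IsNilpotent ↥N := hsub N hNtop hNφ
    have hFN : Lib_helper1_Frobenius.FrobHyp p ↥N := by
      obtain ⟨PN⟩ : Nonempty (Sylow p ↥N) := inferInstance
      have hsylN := ((Group.isNilpotent_of_finite_tfae (G := ↥N)).out 0 3).mp hNnil
      have hPNn : (PN : Subgroup ↥N).Normal := hsylN p inferInstance PN
      apply Lib_helper1_Frobenius.frobHyp_of_le_sylow PN
      intro Q hQ g _ hgo
      haveI := hPNn
      have h1 := Lib_helper1_Frobenius.centralizes_of_nilpotent (PN : Subgroup ↥N)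
        PN.isPGroup' g hgo
      exact Subgroup.centralizer_le hQ h1
    have hHN := Lib_helper1_Frobenius.hasNormalPComplement_of_npc
      (Lib_helper1_Frobenius.frobenius hFN)
    have hHN' : Cfsg.HasNormalPComplement p
        ↥(Subgroup.normalizer (Cfsg.centerThompsonAOf (P : Subgroup G) : Set G)) := by
      rw [← hZe, ← hNe]; exact hHN
    have hG := H1GT.gt_final hp2 P hHN'
    obtain ⟨K, hKn, hKc, k, hKk⟩ := Lib_helper1_Frobenius.npc_of_hasNormalPComplement hG
    haveI := hKn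
    have hKφ : ∀ x ∈ K, φ x ∈ K := by
      intro x hx
      apply Lib_helper1_Frobenius.mem_of_coprime_of_index K hKk
      rw [φ.orderOf_eq x]
      exact Nat.Coprime.coprime_dvd_left (Subgroup.orderOf_dvd_natCard K hx) hKc
    have hKtop : K ≠ ⊤ := by
      rintro rfl
      rw [Subgroup.card_top] at hKc
      exact hpp.one_lt.ne' (Nat.Coprime.eq_one_of_dvd hKc.symm hpd)
    haveI hKnil : Group.IsNilpotent ↥K := hsub K hKtop hKφ
    by_cases hKbot : K = ⊥
    · have hcard : Nat.card G = p ^ k := by rw [← hKk, hKbot, Subgroup.index_bot]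
      exact (IsPGroup.of_card hcard).isNilpotent
    · have hcardK : Nat.card ↥K ≠ 1 := fun h1 => hKbot (Subgroup.card_eq_one.mp h1)
      obtain ⟨q, hq, hqd⟩ := Nat.exists_prime_and_dvd hcardK
      haveI : Fact q.Prime := ⟨hq⟩
      obtain ⟨Q₀⟩ : Nonempty (Sylow q ↥K) := inferInstance
      have hsylK := ((Group.isNilpotent_of_finite_tfae (G := ↥K)).out 0 3).mp hKnil
      have hQ₀n : (Q₀ : Subgroup ↥K).Normal := hsylK q inferInstance Q₀
      obtain ⟨Q₁, hQ₁e⟩ : ∃ Q₁ : Subgroup G, Q₁ = (Q₀ : Subgroup ↥K).map K.subtype :=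
        ⟨_, rfl⟩
      have hQ₁p : IsPGroup q Q₁ := hQ₁e ▸ Q₀.isPGroup'.map _
      have hQ₁ne : Q₁ ≠ ⊥ := by
        rw [hQ₁e]
        intro h0
        rw [Subgroup.map_eq_bot_iff_of_injective _ K.subtype_injective] at h0
        exact Q₀.ne_bot_of_dvd_card hqd h0
      have hQ₁mem : ∀ y : G, y ∈ K → (∃ a : ℕ, y ^ q ^ a = 1) → y ∈ Q₁ := by
        intro y hy ⟨a, hya⟩
        have hD : IsPGroup q (Subgroup.zpowers (⟨y, hy⟩ : ↥K)) := by
          rintro ⟨d, hd⟩
          obtain ⟨i, rfl⟩ := Subgroup.mem_zpowers_iff.mp hd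
          refine ⟨a, Subtype.ext ?_⟩
          have h1 : (⟨y, hy⟩ : ↥K) ^ q ^ a = 1 := Subtype.ext hya
          show ((⟨y, hy⟩ : ↥K) ^ i) ^ q ^ a = 1
          rw [← zpow_natCast, ← zpow_mul, mul_comm, zpow_mul, zpow_natCast, h1, one_zpow]
        obtain ⟨w, -, hw⟩ := Lib_helper7_SE2.exists_conj_le_of_le Q₀ ⊤ le_top _ hD le_top
        have h2 := hw _ (Subgroup.mem_zpowers (⟨y, hy⟩ : ↥K))
        have h3 := hQ₀n.conj_mem _ h2 w⁻¹
        have h4 : (⟨y, hy⟩ : ↥K) ∈ (Q₀ : Subgroup ↥K) := by simpa [mul_assoc] using h3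
        rw [hQ₁e]
        exact ⟨_, h4, rfl⟩
      have hQ₁n : Q₁.Normal := by
        constructor
        intro x hx g
        have hx' := hx
        rw [hQ₁e] at hx'
        obtain ⟨x₀, hx₀, rfl⟩ := hx'
        obtain ⟨a, ha⟩ := Q₀.isPGroup' ⟨x₀, hx₀⟩
        have ha' : (x₀ : G) ^ q ^ a = 1 := by
          have := congrArg (fun t : ↥(Q₀ : Subgroup ↥K) => ((t : ↥K) : G)) ha
          simpa using this
        apply hQ₁mem _ (hKn.conj_mem _ x₀.2 g)
        refine ⟨a, ?_⟩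
        show (g * (x₀ : G) * g⁻¹) ^ q ^ a = 1
        rw [conj_pow, ha']; simp
      apply key q
      intro hcore
      have := Lib_helper7_PCore.le_pCore hQ₁n hQ₁p
      rw [hcore] at this
      exact hQ₁ne (le_bot_iff.mp this)

/-- **Thompson**: a finite group admitting a fixed-point-free automorphism of prime order is
nilpotent. -/
theorem thompson {G : Type u} [Group G] [Finite G] (φ : G ≃* G)
    (hφ : ∀ g, φ g = g → g = 1) (p : ℕ) (hp : p.Prime) (hord : orderOf φ = p) :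
    Group.IsNilpotent G := by
  apply thompson_aux p hp _ G rfl φ hφ
  intro g
  have h1 : φ ^ p = 1 := by rw [← hord]; exact pow_orderOf_eq_one φ
  rw [h1]; rfl

end Cfsg.Agent.H1Thompson
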