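import Mathlib
import Cfsg.Agent.Lib_helper1_ZJ
import Cfsg.Prelude.Def_Transfer

set_option autoImplicit false

/-! Glauberman's ZJ-theorem for the elementary abelian version of the Thompson subgroup. -/

namespace Cfsg.Agent.H1ZJE

open scoped commutatorElement Pointwise
open Cfsg.Agent.H1ZJ

theorem exists_maxEl (p : ℕ) (T : Type*) [Group T] [Finite T] :
    (Cfsg.maxElementaryAbelianSubgroups p T).Nonempty := by
  haveI : Nonempty {A : Subgroup T // Cfsg.IsElementaryAbelian p A} :=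
    ⟨⟨⊥, comm_of_elem _ (by
      intro x hx y hy
      rw [Subgroup.mem_bot] at hx hy; rw [hx, hy]), by
      intro a ha
      rw [Subgroup.mem_bot] at ha; rw [ha, one_pow]⟩⟩
  obtain ⟨⟨A, hA⟩, hmax⟩ := Finite.exists_max
    (fun X : {A : Subgroup T // Cfsg.IsElementaryAbelian p A} => Nat.card (X.1 : Subgroup T))
  exact ⟨A, hA, fun B hB => hmax ⟨B, hB⟩⟩

theorem mem_maxEl_of_centralizes {p : ℕ} {T : Type*} [Group T] [Finite T] (U : Subgroup T)
    (hU : U ∈ Cfsg.maxElementaryAbelianSubgroups p T) (z : T)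
    (hz : ∀ u ∈ U, u * z = z * u) (hzp : z ^ p = 1) : z ∈ U := by
  have hc := closure_insert_comm U hU.1.1 z hz
  have hVc := comm_of_elem _ hc
  have hVp : ∀ a ∈ Subgroup.closure ((U : Set T) ∪ {z}), a ^ p = 1 := by
    intro a ha
    induction ha using Subgroup.closure_induction with
    | mem x hx =>
      rcases hx with hx | hx
      · exact hU.1.2 x hx
      · rw [Set.mem_singleton_iff] at hx; rw [hx]; exact hzp
    | one => exact one_pow p
    | mul x y hx hy ihx ihy =>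
      have hxy : Commute x y := hc x hx y hy
      rw [hxy.mul_pow, ihx, ihy, one_mul]
    | inv x hx ih => rw [inv_pow, ih, inv_one]
  have hUV : U ≤ Subgroup.closure ((U : Set T) ∪ {z}) := fun u hu =>
    Subgroup.subset_closure (Or.inl hu)
  have h := Subgroup.eq_of_le_of_card_ge hUV (hU.2 _ ⟨hVc, hVp⟩)
  rw [h]
  exact Subgroup.subset_closure (Or.inr rfl)

theorem ctE_T (p : ℕ) (T : Type*) [Group T] [Finite T] (x : T) :
    x ∈ Cfsg.omegaCenterThompson p T ↔
      ∀ U ∈ Cfsg.maxElementaryAbelianSubgroups p T, x ∈ U := by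
  constructor
  · intro hx U hU
    have hle : Cfsg.omegaCenterThompson p T ≤ U := by
      show Subgroup.closure {y : T | y ∈ Cfsg.thompsonSubgroup p T ⊓
        Subgroup.centralizer (Cfsg.thompsonSubgroup p T : Set T) ∧ y ^ p = 1} ≤ U
      rw [Subgroup.closure_le]
      rintro y ⟨hy, hyp⟩
      obtain ⟨hyJ, hyC⟩ := Subgroup.mem_inf.mp hy
      apply mem_maxEl_of_centralizes U hU y _ hyp
      intro u hu
      exact Subgroup.mem_centralizer_iff.mp hyC u (le_sSup (α := Subgroup T) hU hu)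
    exact hle hx
  · intro hx
    obtain ⟨U₀, hU₀⟩ := exists_maxEl p T
    show x ∈ Subgroup.closure {y : T | y ∈ Cfsg.thompsonSubgroup p T ⊓
        Subgroup.centralizer (Cfsg.thompsonSubgroup p T : Set T) ∧ y ^ p = 1}
    apply Subgroup.subset_closure
    refine ⟨Subgroup.mem_inf.mpr ⟨le_sSup (α := Subgroup T) hU₀ (hx U₀ hU₀), ?_⟩,
      hU₀.1.2 x (hx U₀ hU₀)⟩
    have hle : Cfsg.thompsonSubgroup p T ≤ Subgroup.centralizer ({x} : Set T) := by
      apply sSup_le
      intro U hU u hu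
      rw [Subgroup.mem_centralizer_iff]
      intro h hh
      rw [Set.mem_singleton_iff] at hh; subst hh
      exact comm_elem U hU.1.1 h (hx U hU) u hu
    rw [Subgroup.mem_centralizer_iff]
    intro h hh
    exact (Subgroup.mem_centralizer_iff.mp (hle hh) x rfl).symm

theorem F8_el {G : Type*} [Group G] [Finite G] (p : ℕ) (S : Subgroup G) :
    ∀ U ∈ ((fun A : Subgroup ↥S => A.map S.subtype) ''
        Cfsg.maxElementaryAbelianSubgroups p ↥S),
      ∀ f : G →* G, Function.Injective f → U.map f ≤ S →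
      U.map f ∈ ((fun A : Subgroup ↥S => A.map S.subtype) ''
        Cfsg.maxElementaryAbelianSubgroups p ↥S) := by
  rintro _ ⟨U₀, hU₀, rfl⟩ f hf hle
  refine ⟨((U₀.map S.subtype).map f).subgroupOf S,
    ⟨⟨H1GlaubFam.subgroupOf_comm _ _ (map_comm f _ (map_comm _ _ hU₀.1.1)), ?_⟩, ?_⟩,
    Subgroup.map_subgroupOf_eq_of_le hle⟩
  · intro a ha
    obtain ⟨_, ⟨u, hu, rfl⟩, hue⟩ := Subgroup.mem_subgroupOf.mp ha
    apply Subtype.ext
    have h1 := hU₀.1.2 u hu
    have h2 : (f (S.subtype u)) ^ p = 1 := by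
      rw [← map_pow, ← map_pow, h1, map_one, map_one]
    rw [hue] at h2
    simpa using h2
  · intro B₀ hB₀
    rw [Lib_helper1_Hall.card_subgroupOf_of_le hle, Subgroup.card_map_of_injective hf,
      Subgroup.card_map_of_injective S.subtype_injective]
    exact hU₀.2 B₀ hB₀

/-- Glauberman's ZJ-theorem for `Ω₁(Z(J_e(S)))`. -/
theorem zj_E {G : Type*} [Group G] [Finite G] {p : ℕ} [Fact p.Prime] (hp : p ≠ 2)
    (hc : Subgroup.centralizer (Cfsg.pCore p G : Set G) ≤ Cfsg.pCore p G)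
    (hst : ∀ (V : Subgroup G) [V.Normal], IsPGroup p V → Cfsg.IsPStableOn p V)
    (S : Sylow p G) :
    ((Cfsg.omegaCenterThompson p ↥(S : Subgroup G)).map
      (S : Subgroup G).subtype).Characteristic := by
  rw [map_subtype_sInf (S : Subgroup G) _ _ (exists_maxEl p ↥(S : Subgroup G))
    (ctE_T p ↥(S : Subgroup G))]
  apply zj_final hc hst S _ ?ne ?F1 ?F5 (F8_el p (S : Subgroup G))
  case ne =>
    obtain ⟨U₀, hU₀⟩ := exists_maxEl p ↥(S : Subgroup G)
    exact ⟨_, U₀, hU₀, rfl⟩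
  case F1 =>
    rintro _ ⟨U₀, hU₀, rfl⟩
    exact ⟨Subgroup.map_subtype_le U₀, comm_elem _ (map_comm _ _ hU₀.1.1)⟩
  case F5 =>
    intro L hLn hLS hU
    obtain ⟨_, ⟨U₀, hU₀, rfl⟩, h1, h2⟩ := hU
    have hrep : ∀ A ∈ Cfsg.maxElementaryAbelianSubgroups p ↥(S : Subgroup G),
        ∀ P : Subgroup ↥(S : Subgroup G), Nat.card P = Nat.card A → IsMulCommutative P →
        Monoid.exponent P ∣ Monoid.exponent A →
        P ∈ Cfsg.maxElementaryAbelianSubgroups p ↥(S : Subgroup G) := by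
      intro A hA P hcard hcomm hexp
      refine ⟨⟨hcomm, ?_⟩, fun B hB => hcard ▸ hA.2 B hB⟩
      intro x hx
      have hAe : Monoid.exponent A ∣ p := by
        apply Monoid.exponent_dvd_of_forall_pow_eq_one
        rintro ⟨a, ha⟩
        apply Subtype.ext
        have h5 := hA.1.2 a ha
        simpa using h5
      have hP := (Monoid.exponent_dvd_iff_forall_pow_eq_one.mp (hexp.trans hAe)) ⟨x, hx⟩
      have h6 := congrArg Subtype.val hP
      simpa using h6
    obtain ⟨A₀, hA₀, h3, h4⟩ := F5_of_family hp (S : Subgroup G) S.isPGroup'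
      (Cfsg.maxElementaryAbelianSubgroups p ↥(S : Subgroup G)) (fun A hA => hA.1.1)
      hrep L hLS ⟨U₀, hU₀, h1, h2⟩
    exact ⟨_, ⟨A₀, hA₀, rfl⟩, h3, h4⟩

end Cfsg.Agent.H1ZJE
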