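import Mathlib

namespace Cfsg.Agent.Lib_helper2_P4c

open scoped commutatorElement

/-- `n ↦ [x, n]` modulo `[N, N]`, a homomorphism on the normal subgroup `N`. -/
def psi {P : Type*} [Group P] (N : Subgroup P) [N.Normal] (x : P) : N →* P ⧸ ⁅N, N⁆ :=
  MonoidHom.mk' (fun n => ((x * n * x⁻¹ * (n : P)⁻¹ : P) : P ⧸ ⁅N, N⁆)) (by
    intro n m
    show ((x * ((n * m : N) : P) * x⁻¹ * ((n * m : N) : P)⁻¹ : P) : P ⧸ ⁅N, N⁆)
      = ((x * n * x⁻¹ * (n : P)⁻¹ : P) : P ⧸ ⁅N, N⁆) * ((x * m * x⁻¹ * (m : P)⁻¹ : P) : P ⧸ ⁅N, N⁆)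
    rw [← QuotientGroup.mk_mul, QuotientGroup.eq]
    have hc : x * (m : P) * x⁻¹ * (m : P)⁻¹ ∈ N :=
      N.mul_mem (Subgroup.Normal.conj_mem inferInstance _ m.2 x) (N.inv_mem m.2)
    have e : (x * ((n * m : N) : P) * x⁻¹ * ((n * m : N) : P)⁻¹)⁻¹
        * ((x * n * x⁻¹ * (n : P)⁻¹) * (x * m * x⁻¹ * (m : P)⁻¹))
        = ⁅(n : P), (x * (m : P) * x⁻¹ * (m : P)⁻¹)⁻¹⁆ := by
      rw [commutatorElement_def, Subgroup.coe_mul]; group
    rw [e]
    exact Subgroup.commutator_mem_commutator n.2 (N.inv_mem hc))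

theorem psi_apply {P : Type*} [Group P] (N : Subgroup P) [N.Normal] (x : P) (n : N) :
    psi N x n = ((x * n * x⁻¹ * (n : P)⁻¹ : P) : P ⧸ ⁅N, N⁆) := rfl

theorem key_formula {P : Type*} [Group P] [Finite P] (p : ℕ) [Fact p.Prime] (N : Subgroup P)
    [N.Normal] (hN : N.index = p) (x : P) (hx : x ∉ N) :
    (commutator P).index * Nat.card (commutator N) = p * Nat.card
      {n : N // x * n * x⁻¹ * (n : P)⁻¹ ∈ (commutator N).map N.subtype} := by
  have hp := (Fact.out : p.Prime)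
  have hNn : N.Normal := inferInstance
  set D : Subgroup P := ⁅N, N⁆ with hD
  have hDn : D.Normal := by rw [hD]; infer_instance
  have hDmap : (commutator N).map N.subtype = D := Subgroup.map_subtype_commutator N
  have hDcard : Nat.card (commutator N) = Nat.card D := by
    rw [← hDmap]
    exact (Subgroup.card_map_of_injective N.subtype_injective).symm
  have hDN : D ≤ N := Subgroup.commutator_le_left N N
  have hDC : D ≤ commutator P := Subgroup.commutator_mono le_top le_top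
  set ψ : N →* P ⧸ D := psi N x with hψ
  have hψapp : ∀ n : N, ψ n = ((x * n * x⁻¹ * (n : P)⁻¹ : P) : P ⧸ D) := fun n => rfl
  have hc : Nat.card {n : N // x * n * x⁻¹ * (n : P)⁻¹ ∈ (commutator N).map N.subtype}
      = Nat.card ψ.ker := by
    apply Nat.card_congr
    apply Equiv.subtypeEquivRight
    intro n
    rw [hDmap, MonoidHom.mem_ker, hψapp, QuotientGroup.eq_one_iff]
  set R : Subgroup P := ψ.range.comap (QuotientGroup.mk' D) with hR
  have hRmem : ∀ r, r ∈ R ↔ ∃ n : N, ∃ d ∈ D, r = x * n * x⁻¹ * (n : P)⁻¹ * d := by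
    intro r
    rw [hR, Subgroup.mem_comap, MonoidHom.mem_range]
    constructor
    · rintro ⟨n, hn⟩
      rw [hψapp] at hn
      have h1 : (x * n * x⁻¹ * (n : P)⁻¹)⁻¹ * r ∈ D := QuotientGroup.eq.mp hn
      exact ⟨n, _, h1, by group⟩
    · rintro ⟨n, d, hd, rfl⟩
      refine ⟨n, ?_⟩
      rw [hψapp]
      apply QuotientGroup.eq.mpr
      have : (x * n * x⁻¹ * (n : P)⁻¹)⁻¹ * (x * n * x⁻¹ * (n : P)⁻¹ * d) = d := by group
      rw [this]; exact hd
  have hxN : ∀ n : N, x * n * x⁻¹ * (n : P)⁻¹ ∈ N := fun n =>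
    N.mul_mem (hNn.conj_mem _ n.2 x) (N.inv_mem n.2)
  have hRN : R ≤ N := by
    intro r hr
    obtain ⟨n, d, hd, rfl⟩ := (hRmem r).mp hr
    exact N.mul_mem (hxN n) (hDN hd)
  have hDR : D ≤ R := by
    intro d hd
    rw [hRmem]
    exact ⟨1, d, hd, by simp⟩
  have hxR : ∀ n : N, x * n * x⁻¹ * (n : P)⁻¹ ∈ R := by
    intro n
    rw [hRmem]
    exact ⟨n, 1, D.one_mem, by simp⟩
  have hcc : ∀ a b : P, a * b * a⁻¹ * b⁻¹ ∈ commutator P := by
    intro a b
    rw [commutator_eq_closure]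
    apply Subgroup.subset_closure
    rw [← commutatorElement_def]
    exact commutator_mem_commutatorSet a b
  have hRC : R ≤ commutator P := by
    intro r hr
    obtain ⟨n, d, hd, rfl⟩ := (hRmem r).mp hr
    exact (commutator P).mul_mem (hcc x n) (hDC hd)
  have hgen : ∀ K : Subgroup P, N ≤ K → x ∈ K → K = ⊤ := by
    intro K hNK hxK
    have h1 := Subgroup.relIndex_mul_index hNK
    rw [hN] at h1
    have hKd : K.index ∣ p := Dvd.intro_left _ h1
    rcases (Nat.dvd_prime hp).mp hKd with h | h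
    · exact Subgroup.index_eq_one.mp h
    · rw [h] at h1
      have h2 : N.relIndex K = 1 := by
        have : N.relIndex K * p = 1 * p := by rw [h1, one_mul]
        exact Nat.eq_of_mul_eq_mul_right hp.pos this
      exact absurd (Subgroup.relIndex_eq_one.mp h2 hxK) hx
  -- normality of R
  have hnormN : ∀ g ∈ N, ∀ r ∈ R, g * r * g⁻¹ ∈ R := by
    intro g hg r hr
    have : g * r * g⁻¹ = r * ⁅r⁻¹, g⁆ := by rw [commutatorElement_def]; group
    rw [this]
    exact R.mul_mem hr (hDR (Subgroup.commutator_mem_commutator (N.inv_mem (hRN hr)) hg))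
  have hnormx : ∀ r ∈ R, x * r * x⁻¹ ∈ R := by
    intro r hr
    obtain ⟨n, d, hd, rfl⟩ := (hRmem r).mp hr
    rw [hRmem]
    refine ⟨⟨x * n * x⁻¹, hNn.conj_mem _ n.2 x⟩, x * d * x⁻¹, hDn.conj_mem d hd x, ?_⟩
    show x * (x * n * x⁻¹ * (n : P)⁻¹ * d) * x⁻¹
      = x * (x * n * x⁻¹) * x⁻¹ * (x * n * x⁻¹)⁻¹ * (x * d * x⁻¹)
    group
  have hnormx' : ∀ r ∈ R, x⁻¹ * r * x ∈ R := by
    intro r hr
    obtain ⟨n, d, hd, rfl⟩ := (hRmem r).mp hr
    rw [hRmem]
    refine ⟨⟨x⁻¹ * n * x, by simpa using hNn.conj_mem _ n.2 x⁻¹⟩, x⁻¹ * d * x,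
      by simpa using hDn.conj_mem d hd x⁻¹, ?_⟩
    show x⁻¹ * (x * n * x⁻¹ * (n : P)⁻¹ * d) * x
      = x * (x⁻¹ * n * x) * x⁻¹ * (x⁻¹ * n * x)⁻¹ * (x⁻¹ * d * x)
    group
  let K : Subgroup P :=
    { carrier := {g | ∀ r ∈ R, g * r * g⁻¹ ∈ R ∧ g⁻¹ * r * g ∈ R}
      mul_mem' := by
        intro a b ha hb r hr
        constructor
        · have h1 := (ha _ ((hb r hr).1)).1
          have e : a * b * r * (a * b)⁻¹ = a * (b * r * b⁻¹) * a⁻¹ := by group
          rw [e]; exact h1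
        · have h1 := (hb _ ((ha r hr).2)).2
          have e : (a * b)⁻¹ * r * (a * b) = b⁻¹ * (a⁻¹ * r * a) * b := by group
          rw [e]; exact h1
      one_mem' := by
        intro r hr
        simp [hr]
      inv_mem' := by
        intro a ha r hr
        exact ⟨by simpa using (ha r hr).2, by simpa using (ha r hr).1⟩ }
  have hKtop : K = ⊤ := by
    apply hgen
    · intro g hg r hr
      exact ⟨hnormN g hg r hr, by simpa using hnormN g⁻¹ (N.inv_mem hg) r hr⟩
    · intro r hr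
      exact ⟨hnormx r hr, hnormx' r hr⟩
  haveI hRn : R.Normal := ⟨fun r hr g => ((hKtop ▸ Subgroup.mem_top g : g ∈ K) r hr).1⟩
  -- commutativity modulo R
  have hcomm_of : ∀ a b : P, a * b * a⁻¹ * b⁻¹ ∈ R →
      (a : P ⧸ R) * (b : P ⧸ R) = (b : P ⧸ R) * (a : P ⧸ R) := by
    intro a b h
    have h1 : ((a * b * a⁻¹ * b⁻¹ : P) : P ⧸ R) = 1 := (QuotientGroup.eq_one_iff _).mpr h
    simp only [QuotientGroup.mk_mul, QuotientGroup.mk_inv] at h1
    calc (a : P ⧸ R) * (b : P ⧸ R)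
        = ((a : P ⧸ R) * b * (a : P ⧸ R)⁻¹ * (b : P ⧸ R)⁻¹) * ((b : P ⧸ R) * a) := by group
      _ = (b : P ⧸ R) * a := by rw [h1, one_mul]
  have hcomm_nm : ∀ n ∈ N, ∀ m ∈ N,
      (n : P ⧸ R) * (m : P ⧸ R) = (m : P ⧸ R) * (n : P ⧸ R) := by
    intro n hn m hm
    apply hcomm_of
    rw [← commutatorElement_def]
    exact hDR (Subgroup.commutator_mem_commutator hn hm)
  have hcomm_xn : ∀ n ∈ N, (x : P ⧸ R) * (n : P ⧸ R) = (n : P ⧸ R) * (x : P ⧸ R) := by
    intro n hn
    apply hcomm_of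
    exact hxR ⟨n, hn⟩
  have hmemc : ∀ g h : P, g ∈ (Subgroup.centralizer {(h : P ⧸ R)}).comap (QuotientGroup.mk' R)
      ↔ (g : P ⧸ R) * (h : P ⧸ R) = (h : P ⧸ R) * (g : P ⧸ R) := by
    intro g h
    rw [Subgroup.mem_comap, Subgroup.mem_centralizer_singleton_iff]
    rfl
  have hxc : ∀ g : P, (g : P ⧸ R) * (x : P ⧸ R) = (x : P ⧸ R) * (g : P ⧸ R) := by
    have htop : (Subgroup.centralizer {(x : P ⧸ R)}).comap (QuotientGroup.mk' R) = ⊤ := by
      apply hgen
      · intro n hn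
        rw [hmemc]
        exact (hcomm_xn n hn).symm
      · rw [hmemc]
    intro g
    have hg : g ∈ (Subgroup.centralizer {(x : P ⧸ R)}).comap (QuotientGroup.mk' R) :=
      htop ▸ Subgroup.mem_top g
    exact (hmemc g x).mp hg
  have hnc : ∀ n ∈ N, ∀ g : P, (g : P ⧸ R) * (n : P ⧸ R) = (n : P ⧸ R) * (g : P ⧸ R) := by
    intro n hn
    have htop : (Subgroup.centralizer {(n : P ⧸ R)}).comap (QuotientGroup.mk' R) = ⊤ := by
      apply hgen
      · intro m hm
        rw [hmemc]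
        exact hcomm_nm m hm n hn
      · rw [hmemc]
        exact hcomm_xn n hn
    intro g
    have hg : g ∈ (Subgroup.centralizer {(n : P ⧸ R)}).comap (QuotientGroup.mk' R) :=
      htop ▸ Subgroup.mem_top g
    exact (hmemc g n).mp hg
  have hall : ∀ g h : P, (g : P ⧸ R) * (h : P ⧸ R) = (h : P ⧸ R) * (g : P ⧸ R) := by
    intro g h
    have htop : (Subgroup.centralizer {(h : P ⧸ R)}).comap (QuotientGroup.mk' R) = ⊤ := by
      apply hgen
      · intro m hm
        rw [hmemc]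
        exact (hnc m hm h).symm
      · rw [hmemc]
        exact (hxc h).symm
    have hg : g ∈ (Subgroup.centralizer {(h : P ⧸ R)}).comap (QuotientGroup.mk' R) :=
      htop ▸ Subgroup.mem_top g
    exact (hmemc g h).mp hg
  have hCR : commutator P = R := by
    apply le_antisymm _ hRC
    rw [commutator_eq_closure, Subgroup.closure_le]
    intro g hg
    obtain ⟨g1, g2, rfl⟩ := mem_commutatorSet_iff.mp hg
    show ⁅g1, g2⁆ ∈ R
    rw [commutatorElement_def, ← QuotientGroup.eq_one_iff]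
    simp only [QuotientGroup.mk_mul, QuotientGroup.mk_inv]
    rw [hall g1 g2]; group
  -- cardinalities
  have hI : R.index = ψ.range.index :=
    Subgroup.index_comap_of_surjective _ (QuotientGroup.mk'_surjective D)
  have h1 : Nat.card ψ.range * ψ.range.index = Nat.card (P ⧸ D) := Subgroup.card_mul_index _
  have h2 : Nat.card P = Nat.card (P ⧸ D) * Nat.card D :=
    Subgroup.card_eq_card_quotient_mul_card_subgroup D
  have h3 : Nat.card N * N.index = Nat.card P := Subgroup.card_mul_index N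
  have h4 : Nat.card ψ.ker * ψ.ker.index = Nat.card N := Subgroup.card_mul_index _
  have h5 : ψ.ker.index = Nat.card ψ.range := Subgroup.index_ker ψ
  rw [h5] at h4
  rw [hN] at h3
  rw [hCR, hI, hDcard, hc]
  have hrpos : 0 < Nat.card ψ.range := Nat.card_pos
  have e : Nat.card ψ.range * (ψ.range.index * Nat.card D)
      = Nat.card ψ.range * (p * Nat.card ψ.ker) := by
    calc Nat.card ψ.range * (ψ.range.index * Nat.card D)
        = Nat.card ψ.range * ψ.range.index * Nat.card D := by ring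
      _ = Nat.card P := by rw [h1, ← h2]
      _ = Nat.card ψ.ker * Nat.card ψ.range * p := by rw [h4, h3]
      _ = Nat.card ψ.range * (p * Nat.card ψ.ker) := by ring
  exact Nat.eq_of_mul_eq_mul_left hrpos e

theorem S4586_main {P : Type*} [Group P] [Finite P] (p : ℕ) [Fact p.Prime] (N : Subgroup P)
    [N.Normal] (hN : N.index = p) :
    ((commutator P).index = p ^ 2 ↔ ∀ x : P, x ∉ N →
        Nat.card {n : N // x * n * x⁻¹ * (n : P)⁻¹ ∈ (commutator N).map N.subtype}
          = p * Nat.card (commutator N)) ∧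
    ((commutator P).index = p ^ 2 ↔ ∃ x : P, x ∉ N ∧
        Nat.card {n : N // x * n * x⁻¹ * (n : P)⁻¹ ∈ (commutator N).map N.subtype}
          = p * Nat.card (commutator N)) := by
  have hp := (Fact.out : p.Prime)
  have hdpos : 0 < Nat.card (commutator N) := Nat.card_pos
  have hiff : ∀ x : P, x ∉ N → ((commutator P).index = p ^ 2 ↔
      Nat.card {n : N // x * n * x⁻¹ * (n : P)⁻¹ ∈ (commutator N).map N.subtype}
        = p * Nat.card (commutator N)) := by
    intro x hx
    have k := key_formula p N hN x hx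
    constructor
    · intro h
      rw [h] at k
      have : p * (p * Nat.card (commutator N)) = p * Nat.card
          {n : N // x * n * x⁻¹ * (n : P)⁻¹ ∈ (commutator N).map N.subtype} := by
        rw [← k]; ring
      exact (Nat.eq_of_mul_eq_mul_left hp.pos this).symm
    · intro h
      rw [h] at k
      have : (commutator P).index * Nat.card (commutator N)
          = p ^ 2 * Nat.card (commutator N) := by rw [k]; ring
      exact Nat.eq_of_mul_eq_mul_right hdpos this
  obtain ⟨x0, hx0⟩ : ∃ x : P, x ∉ N := by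
    by_contra h
    push Not at h
    have : N = ⊤ := (Subgroup.eq_top_iff' N).mpr h
    rw [this, Subgroup.index_top] at hN
    exact hp.one_lt.ne hN
  exact ⟨⟨fun h x hx => (hiff x hx).mp h, fun h => (hiff x0 hx0).mpr (h x0 hx0)⟩,
    ⟨fun h => ⟨x0, hx0, (hiff x0 hx0).mp h⟩, fun ⟨x, hx, h⟩ => (hiff x hx).mpr h⟩⟩

end Cfsg.Agent.Lib_helper2_P4c
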