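import Mathlib
import Cfsg.Prelude.Def_Transfer
import Cfsg.Agent.Lib_helper2_P4c

namespace Cfsg.Agent.Lib_helper2_AbIdx

open Cfsg.Agent.Lib_helper2_P4c

theorem max_of_index_prime {G : Type*} [Group G] {p : ℕ} (hp : p.Prime) (N : Subgroup G)
    (hN : N.index = p) (K : Subgroup G) (hNK : N ≤ K) {y : G} (hyK : y ∈ K) (hyN : y ∉ N) :
    K = ⊤ := by
  have h1 := Subgroup.relIndex_mul_index hNK
  rw [hN] at h1
  have hKd : K.index ∣ p := Dvd.intro_left _ h1
  rcases (Nat.dvd_prime hp).mp hKd with h | h
  · exact Subgroup.index_eq_one.mp h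
  · rw [h] at h1
    have h2 : N.relIndex K = 1 := by
      have : N.relIndex K * p = 1 * p := by rw [h1, one_mul]
      exact Nat.eq_of_mul_eq_mul_right hp.pos this
    exact absurd (Subgroup.relIndex_eq_one.mp h2 hyK) hyN

theorem mem_center_of_cent {G : Type*} [Group G] {p : ℕ} (hp : p.Prime) (N : Subgroup G)
    (hN : N.index = p) {y : G} (hyN : y ∉ N) {z : G} (h1 : ∀ n ∈ N, n * z = z * n)
    (h2 : y * z = z * y) : z ∈ Subgroup.center G := by
  have htop : Subgroup.centralizer {z} = ⊤ := by
    apply max_of_index_prime hp N hN _ _ (y := y) _ hyN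
    · intro n hn
      rw [Subgroup.mem_centralizer_singleton_iff]
      exact h1 n hn
    · rw [Subgroup.mem_centralizer_singleton_iff]
      exact h2
  rw [Subgroup.mem_center_iff]
  intro g
  have : g ∈ Subgroup.centralizer {z} := htop ▸ Subgroup.mem_top g
  rw [Subgroup.mem_centralizer_singleton_iff] at this
  exact this

theorem center_le_of_abelian_index {G : Type*} [Group G] {p : ℕ} (hp : p.Prime)
    (hna : ¬ IsMulCommutative G) (B : Subgroup G) (hB : IsMulCommutative ↥B) (hBi : B.index = p) :
    Subgroup.center G ≤ B := by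
  have hBab : ∀ a ∈ B, ∀ b ∈ B, a * b = b * a := fun a ha b hb =>
    congrArg Subtype.val (hB.is_comm.comm ⟨a, ha⟩ ⟨b, hb⟩)
  by_contra hnot
  obtain ⟨z, hzZ, hzB⟩ := Set.not_subset.mp hnot
  have hBZ : B ≤ Subgroup.center G := by
    intro b hb
    exact mem_center_of_cent hp B hBi hzB (fun n hn => hBab n hn b hb)
      ((Subgroup.mem_center_iff.mp hzZ b).symm)
  have htop : Subgroup.center G = ⊤ := max_of_index_prime hp B hBi _ hBZ hzZ hzB
  apply hna
  refine ⟨⟨fun a b => ?_⟩⟩
  have : b ∈ Subgroup.center G := htop ▸ Subgroup.mem_top b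
  exact Subgroup.mem_center_iff.mp this a

/-- A group of order `p^2` and exponent `p` has exactly `p + 1` subgroups of order `p`. -/
theorem card_subgroups_order_p {Q : Type*} [Group Q] [Finite Q] {p : ℕ} [Fact p.Prime]
    (hQ : Nat.card Q = p ^ 2) (hexp : ∀ q : Q, q ^ p = 1) :
    Nat.card {T : Subgroup Q // Nat.card T = p} = p + 1 := by
  classical
  have hp := (Fact.out : p.Prime)
  letI : Fintype Q := Fintype.ofFinite Q
  letI : Fintype (Subgroup Q) := Fintype.ofFinite _
  have hord : ∀ q : Q, q ≠ 1 → orderOf q = p := fun q hq => orderOf_eq_prime (hexp q) hq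
  have hzp : ∀ q : Q, q ≠ 1 → Nat.card (Subgroup.zpowers q) = p := fun q hq => by
    rw [Nat.card_zpowers, hord q hq]
  set s : Finset Q := Finset.univ.filter (fun q => q ≠ 1) with hs
  set t : Finset (Subgroup Q) := Finset.univ.filter (fun T => Nat.card T = p) with ht
  have hmaps : (s : Set Q).MapsTo (fun q => Subgroup.zpowers q) t := by
    intro q hq
    simp only [hs, Finset.coe_filter, Finset.mem_univ, true_and, Set.mem_ofPred_eq] at hq
    simp only [ht, Finset.coe_filter, Finset.mem_univ, true_and, Set.mem_ofPred_eq]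
    exact hzp q hq
  have h1 := Finset.card_eq_sum_card_fiberwise hmaps
  have hfib : ∀ T ∈ t, (s.filter (fun q => Subgroup.zpowers q = T)).card = p - 1 := by
    intro T hT
    simp only [ht, Finset.mem_filter, Finset.mem_univ, true_and] at hT
    have heq : s.filter (fun q => Subgroup.zpowers q = T)
        = (Finset.univ.filter (fun q => q ∈ T)).erase 1 := by
      ext q
      simp only [hs, Finset.mem_filter, Finset.mem_univ, true_and, Finset.mem_erase]
      constructor
      · rintro ⟨hq1, hqT⟩
        exact ⟨hq1, hqT ▸ Subgroup.mem_zpowers q⟩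
      · rintro ⟨hq1, hqT⟩
        refine ⟨hq1, ?_⟩
        apply Subgroup.eq_of_le_of_card_ge
        · rw [Subgroup.zpowers_le]; exact hqT
        · rw [hT, hzp q hq1]
    rw [heq, Finset.card_erase_of_mem (by simp [T.one_mem])]
    have : (Finset.univ.filter (fun q => q ∈ T)).card = p := by
      rw [← hT, Nat.card_eq_fintype_card, Fintype.card_subtype]
    rw [this]
  rw [Finset.sum_congr rfl hfib, Finset.sum_const, smul_eq_mul] at h1
  have hscard : s.card = p ^ 2 - 1 := by
    rw [hs, Finset.filter_ne', Finset.card_erase_of_mem (Finset.mem_univ _), Finset.card_univ,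
      ← Nat.card_eq_fintype_card, hQ]
  rw [hscard] at h1
  have htcard : Nat.card {T : Subgroup Q // Nat.card T = p} = t.card := by
    rw [Nat.card_eq_fintype_card, Fintype.card_subtype]
  rw [htcard]
  have hp2 := hp.two_le
  have h2 : (p + 1) * (p - 1) = p ^ 2 - 1 := by
    obtain ⟨m, rfl⟩ : ∃ m, p = m + 1 := ⟨p - 1, by omega⟩
    simp only [Nat.add_sub_cancel]
    have : (m + 1) ^ 2 = (m + 1 + 1) * m + 1 := by ring
    rw [this]; simp
  rw [← h2] at h1
  exact (Nat.eq_of_mul_eq_mul_right (by omega) h1).symm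

theorem S3807_main {S : Type*} [Group S] [Finite S] (p : ℕ) [Fact p.Prime] (hS : IsPGroup p S)
    (hna : ¬ IsMulCommutative S) (A : Subgroup S) (hA : IsMulCommutative ↥A)
    (hAi : A.index = p) :
    (Subgroup.center S).index = p * Nat.card (commutator S) ∧
      ((Nat.card (commutator S) = p ∧
          Cfsg.IsElementaryAbelian p (⊤ : Subgroup (S ⧸ Subgroup.center S)) ∧
          Nat.card (S ⧸ Subgroup.center S) = p ^ 2 ∧
          Nat.card {B : Subgroup S // IsMulCommutative ↥B ∧ B.index = p} = p + 1) ∨
        (p ^ 2 ≤ Nat.card (commutator S) ∧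
          ∀ B : Subgroup S, IsMulCommutative ↥B → B.index = p → B = A)) := by
  classical
  have hp := (Fact.out : p.Prime)
  obtain ⟨n, hn⟩ := IsPGroup.iff_card.mp hS
  have hn0 : n ≠ 0 := by
    intro h0
    rw [h0, pow_zero] at hn
    have h1 := Subgroup.index_dvd_card A
    rw [hAi, hn] at h1
    exact hp.one_lt.ne' (Nat.dvd_one.mp h1)
  haveI hAn : A.Normal := by
    apply Subgroup.normal_of_index_eq_minFac_card
    rw [hAi, hn, Nat.pow_minFac hn0, hp.minFac_eq]
  have hAab : ∀ a ∈ A, ∀ b ∈ A, a * b = b * a := fun a ha b hb =>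
    congrArg Subtype.val (hA.is_comm.comm ⟨a, ha⟩ ⟨b, hb⟩)
  obtain ⟨x, hx⟩ : ∃ x : S, x ∉ A := by
    by_contra h
    push Not at h
    have : A = ⊤ := (Subgroup.eq_top_iff' A).mpr h
    rw [this, Subgroup.index_top] at hAi
    exact hp.one_lt.ne hAi
  have hZA : Subgroup.center S ≤ A := center_le_of_abelian_index hp hna A hA hAi
  have hZmem : ∀ a ∈ A, (a ∈ Subgroup.center S ↔ x * a = a * x) := by
    intro a ha
    constructor
    · intro h
      exact Subgroup.mem_center_iff.mp h x
    · intro h
      exact mem_center_of_cent hp A hAi hx (fun n hn => hAab n hn a ha) h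
  have key := key_formula p A hAi x hx
  have hCA : commutator A = ⊥ := (commutator_eq_bot_iff A).mpr hA
  have hcount : Nat.card {n : A // x * n * x⁻¹ * (n : S)⁻¹ ∈ (commutator A).map A.subtype}
      = Nat.card (Subgroup.center S) := by
    rw [← Nat.card_congr (Subgroup.subgroupOfEquivOfLe hZA).toEquiv]
    apply Nat.card_congr
    apply Equiv.subtypeEquivRight
    intro a
    rw [hCA, Subgroup.map_bot, Subgroup.mem_bot, Subgroup.mem_subgroupOf, hZmem a a.2]
    constructor
    · intro h
      calc x * (a : S) = (x * a * x⁻¹ * (a : S)⁻¹) * (a * x) := by group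
        _ = a * x := by rw [h, one_mul]
    · intro h
      calc x * (a : S) * x⁻¹ * (a : S)⁻¹ = (x * a) * x⁻¹ * (a : S)⁻¹ := by group
        _ = (a * x) * x⁻¹ * (a : S)⁻¹ := by rw [h]
        _ = 1 := by group
  rw [hcount, hCA, Subgroup.card_bot, mul_one] at key
  -- key : (commutator S).index = p * Nat.card (center S)
  have hZpos : 0 < Nat.card (Subgroup.center S) := Nat.card_pos
  have hCpos : 0 < Nat.card (commutator S) := Nat.card_pos
  have hZidx : (Subgroup.center S).index = p * Nat.card (commutator S) := by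
    have h1 := Subgroup.card_mul_index (Subgroup.center S)
    have h2 := Subgroup.card_mul_index (commutator S)
    rw [key] at h2
    have : Nat.card (Subgroup.center S) * (Subgroup.center S).index
        = Nat.card (Subgroup.center S) * (p * Nat.card (commutator S)) := by
      rw [h1, ← h2]; ring
    exact Nat.eq_of_mul_eq_mul_left hZpos this
  refine ⟨hZidx, ?_⟩
  have hCne : commutator S ≠ ⊥ := fun h => hna ((commutator_eq_bot_iff S).mp h)
  have hCdvd : Nat.card (commutator S) ∣ p ^ n := hn ▸ Subgroup.card_subgroup_dvd_card _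
  obtain ⟨j, hjn, hj⟩ := (Nat.dvd_prime_pow hp).mp hCdvd
  have hj0 : j ≠ 0 := by
    intro h0
    rw [h0, pow_zero] at hj
    exact hCne (Subgroup.eq_bot_of_card_eq _ hj)
  rcases Nat.lt_or_ge j 2 with hj2 | hj2
  · -- |S'| = p
    left
    have hj1 : j = 1 := by omega
    have hCp : Nat.card (commutator S) = p := by rw [hj, hj1, pow_one]
    have hZidx2 : (Subgroup.center S).index = p ^ 2 := by rw [hZidx, hCp]; ring
    have hQ : Nat.card (S ⧸ Subgroup.center S) = p ^ 2 := by
      rw [← Subgroup.index_eq_card]; exact hZidx2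
    have hQc : ∀ a b : S ⧸ Subgroup.center S, a * b = b * a :=
      (IsPGroup.isMulCommutative_of_card_eq_prime_sq hQ).is_comm.comm
    have hexp : ∀ q : S ⧸ Subgroup.center S, q ^ p = 1 := by
      intro q
      have hd : orderOf q ∣ p ^ 2 := hQ ▸ orderOf_dvd_natCard q
      obtain ⟨i, hi2, hi⟩ := (Nat.dvd_prime_pow hp).mp hd
      have hi2' : i ≠ 2 := by
        intro h2
        haveI : IsCyclic (S ⧸ Subgroup.center S) :=
          isCyclic_of_orderOf_eq_card q (by rw [hi, h2, hQ])
        exact hna (isMulCommutative_of_isCyclic_quotient_center_self S)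
      have hi1 : i ≤ 1 := by omega
      apply orderOf_dvd_iff_pow_eq_one.mp
      rw [hi]
      calc p ^ i ∣ p ^ 1 := Nat.pow_dvd_pow p hi1
        _ = p := pow_one p
    refine ⟨hCp, ⟨⟨⟨fun a b => Subtype.ext (hQc a.1 b.1)⟩⟩, fun a _ => hexp a⟩, hQ, ?_⟩
    rw [← card_subgroups_order_p hQ hexp]
    have hsurj : Function.Surjective (QuotientGroup.mk' (Subgroup.center S)) :=
      QuotientGroup.mk'_surjective _
    have hker : (QuotientGroup.mk' (Subgroup.center S)).ker = Subgroup.center S :=
      QuotientGroup.ker_mk' _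
    apply Nat.card_congr
    refine
      { toFun := fun B => ⟨B.1.map (QuotientGroup.mk' (Subgroup.center S)), ?_⟩
        invFun := fun T => ⟨T.1.comap (QuotientGroup.mk' (Subgroup.center S)), ?_, ?_⟩
        left_inv := ?_
        right_inv := ?_ }
    · have hZB : Subgroup.center S ≤ B.1 := center_le_of_abelian_index hp hna B.1 B.2.1 B.2.2
      have hi : (B.1.map (QuotientGroup.mk' (Subgroup.center S))).index = p :=
        (Subgroup.index_map_eq B.1 hsurj (by rw [hker]; exact hZB)).trans B.2.2
      have h1 := Subgroup.card_mul_index (B.1.map (QuotientGroup.mk' (Subgroup.center S)))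
      rw [hi, hQ] at h1
      have : Nat.card (B.1.map (QuotientGroup.mk' (Subgroup.center S))) * p = p * p := by
        rw [h1]; ring
      exact Nat.eq_of_mul_eq_mul_right hp.pos this
    · -- abelian
      haveI : Fact p.Prime := ⟨hp⟩
      haveI : IsCyclic T.1 := isCyclic_of_prime_card T.2
      apply ((QuotientGroup.mk' (Subgroup.center S)).subgroupComap T.1).isMulCommutative_of_isCyclic_of_ker_le_center
      intro b hb
      rw [MonoidHom.mem_ker] at hb
      have hb1 : ((b : S) : S ⧸ Subgroup.center S) = 1 := congrArg Subtype.val hb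
      have hbZ : (b : S) ∈ Subgroup.center S := (QuotientGroup.eq_one_iff _).mp hb1
      rw [Subgroup.mem_center_iff]
      intro g
      apply Subtype.ext
      exact Subgroup.mem_center_iff.mp hbZ (g : S)
    · have hi : (T.1.comap (QuotientGroup.mk' (Subgroup.center S))).index = T.1.index :=
        Subgroup.index_comap_of_surjective _ hsurj
      rw [hi]
      have h1 := Subgroup.card_mul_index T.1
      rw [T.2, hQ] at h1
      have : p * T.1.index = p * p := by rw [h1]; ring
      exact Nat.eq_of_mul_eq_mul_left hp.pos this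
    · intro B
      apply Subtype.ext
      have hZB : Subgroup.center S ≤ B.1 := center_le_of_abelian_index hp hna B.1 B.2.1 B.2.2
      exact Subgroup.comap_map_eq_self (by rw [hker]; exact hZB)
    · intro T
      apply Subtype.ext
      exact Subgroup.map_comap_eq_self_of_surjective hsurj T.1
  · right
    have hC2 : p ^ 2 ≤ Nat.card (commutator S) := by
      rw [hj]; exact Nat.pow_le_pow_right hp.pos hj2
    refine ⟨hC2, ?_⟩
    intro B hB hBi
    by_contra hne
    have hBab : ∀ a ∈ B, ∀ b ∈ B, a * b = b * a := fun a ha b hb =>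
      congrArg Subtype.val (hB.is_comm.comm ⟨a, ha⟩ ⟨b, hb⟩)
    have hBA : ¬ B ≤ A := by
      intro hle
      apply hne
      apply Subgroup.eq_of_le_of_card_ge hle
      have h1 := Subgroup.card_mul_index A
      have h2 := Subgroup.card_mul_index B
      rw [hAi] at h1
      rw [hBi, ← h1] at h2
      exact (Nat.eq_of_mul_eq_mul_right hp.pos h2).ge
    obtain ⟨y, hyB, hyA⟩ := Set.not_subset.mp hBA
    have hABZ : A ⊓ B ≤ Subgroup.center S := by
      rintro z ⟨hzA, hzB⟩
      exact mem_center_of_cent hp A hAi hyA (fun n hn => hAab n hn z hzA) (hBab y hyB z hzB)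
    have h1 : (Subgroup.center S).index ∣ (A ⊓ B).index := Subgroup.index_dvd_of_le hABZ
    have h2 : (A ⊓ B).index ≤ p * p := by
      calc (A ⊓ B).index ≤ A.index * B.index := Subgroup.index_inf_le
        _ = p * p := by rw [hAi, hBi]
    have h3 : (A ⊓ B).index ≠ 0 := Subgroup.index_ne_zero_of_finite
    have h4 : (Subgroup.center S).index ≤ p * p :=
      (Nat.le_of_dvd (Nat.pos_of_ne_zero h3) h1).trans h2
    rw [hZidx] at h4
    have h5 : Nat.card (commutator S) ≤ p := Nat.le_of_mul_le_mul_left h4 hp.pos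
    have h6 : p < p ^ 2 := by
      have := hp.one_lt
      nlinarith
    omega

end Cfsg.Agent.Lib_helper2_AbIdx
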