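import Mathlib

namespace Cfsg.Agent.Lib_helper2_CN

/-- In a nilpotent group, elements of coprime orders commute. -/
theorem nilpotent_coprime_comm (G : Type*) [Group G] [Group.IsNilpotent G] :
    ∀ x y : G, (orderOf x).Coprime (orderOf y) → x * y = y * x := by
  refine Group.nilpotent_center_quotient_ind
    (P := fun G _ _ => ∀ x y : G, (orderOf x).Coprime (orderOf y) → x * y = y * x) G ?_ ?_
  · intro G _ _ x y _
    exact Subsingleton.elim _ _
  · intro G _ _ ih x y hxy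
    have h1 : orderOf (QuotientGroup.mk x : G ⧸ Subgroup.center G) ∣ orderOf x := by
      apply orderOf_dvd_of_pow_eq_one
      rw [← QuotientGroup.mk_pow, pow_orderOf_eq_one]; rfl
    have h2 : orderOf (QuotientGroup.mk y : G ⧸ Subgroup.center G) ∣ orderOf y := by
      apply orderOf_dvd_of_pow_eq_one
      rw [← QuotientGroup.mk_pow, pow_orderOf_eq_one]; rfl
    have h3 := ih _ _ (Nat.Coprime.coprime_dvd_left h1 (Nat.Coprime.coprime_dvd_right h2 hxy))
    have h4 : (y * x)⁻¹ * (x * y) ∈ Subgroup.center G := by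
      have : (QuotientGroup.mk (y * x) : G ⧸ Subgroup.center G) = QuotientGroup.mk (x * y) := by
        rw [QuotientGroup.mk_mul, QuotientGroup.mk_mul]; exact h3.symm
      exact QuotientGroup.eq.mp this
    obtain ⟨c, hc⟩ : ∃ c : G, c = (y * x)⁻¹ * (x * y) := ⟨_, rfl⟩
    rw [← hc] at h4
    have hcc : ∀ g : G, g * c = c * g := fun g => Subgroup.mem_center_iff.mp h4 g
    have e1 : y⁻¹ * x * y = x * c := by rw [hc]; group
    have e2 : x⁻¹ * y⁻¹ * x = c * y⁻¹ := by rw [hc]; group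
    have e3 : (y⁻¹ * x * y) ^ (orderOf x) = 1 := by
      have : y⁻¹ * x * y = MulAut.conj y⁻¹ x := by simp
      rw [this, ← map_pow, pow_orderOf_eq_one, map_one]
    have e4 : (x⁻¹ * y⁻¹ * x) ^ (orderOf y) = 1 := by
      have : x⁻¹ * y⁻¹ * x = MulAut.conj x⁻¹ y⁻¹ := by simp
      rw [this, ← map_pow, inv_pow, pow_orderOf_eq_one, inv_one, map_one]
    have e5 : c ^ (orderOf x) = 1 := by
      rw [e1, Commute.mul_pow (hcc x), pow_orderOf_eq_one, one_mul] at e3
      exact e3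
    have e6 : c ^ (orderOf y) = 1 := by
      rw [e2, Commute.mul_pow (hcc y⁻¹).symm, inv_pow, pow_orderOf_eq_one, inv_one, mul_one] at e4
      exact e4
    have e7 : orderOf c ∣ 1 := by
      have := Nat.dvd_gcd (orderOf_dvd_of_pow_eq_one e5) (orderOf_dvd_of_pow_eq_one e6)
      rwa [Nat.Coprime.gcd_eq_one hxy] at this
    have e8 : c = 1 := orderOf_eq_one_iff.mp (Nat.dvd_one.mp e7)
    rw [e8] at hc
    exact (inv_mul_eq_one.mp hc.symm).symm

variable {G : Type*} [Group G]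

/-- Subgroup version: in a nilpotent subgroup, elements of coprime orders commute. -/
theorem nilpotent_coprime_comm' (H : Subgroup G) (hH : Group.IsNilpotent H) {x y : G}
    (hx : x ∈ H) (hy : y ∈ H) (h : (orderOf x).Coprime (orderOf y)) : x * y = y * x := by
  haveI := hH
  have h1 := nilpotent_coprime_comm H ⟨x, hx⟩ ⟨y, hy⟩ (by
    rw [Subgroup.orderOf_mk, Subgroup.orderOf_mk]; exact h)
  exact congrArg (fun w : H => (w : G)) h1

/-- Decomposition of an element into its `p`-part and `p'`-part. -/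
theorem exists_p_decomp [Finite G] (p : ℕ) (hp : p.Prime) (h : G) :
    ∃ a ∈ Subgroup.zpowers h, ∃ b ∈ Subgroup.zpowers h, a * b = h ∧ (∃ k : ℕ, a ^ (p ^ k) = 1) ∧
      (orderOf b).Coprime p := by
  have hn : orderOf h ≠ 0 := (orderOf_pos h).ne'
  obtain ⟨k, m, hm, hkm⟩ := Nat.exists_eq_pow_mul_and_not_dvd hn p hp.ne_one
  have hpm : Nat.Coprime p m := (Nat.Prime.coprime_iff_not_dvd hp).mpr hm
  have hcop : Nat.gcd (p ^ k) m = 1 := Nat.Coprime.pow_left k hpm
  have hb := Nat.gcd_eq_gcd_ab (p ^ k) m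
  rw [hcop] at hb
  have hord : h ^ (((p ^ k : ℕ) : ℤ) * (m : ℤ)) = 1 := by
    rw [← Nat.cast_mul, ← hkm, zpow_natCast, pow_orderOf_eq_one]
  refine ⟨h ^ ((m : ℤ) * Nat.gcdB (p ^ k) m), ⟨_, rfl⟩,
    h ^ (((p ^ k : ℕ) : ℤ) * Nat.gcdA (p ^ k) m), ⟨_, rfl⟩, ?_, ⟨k, ?_⟩, ?_⟩
  · rw [← zpow_add]
    have : (m : ℤ) * Nat.gcdB (p ^ k) m + ((p ^ k : ℕ) : ℤ) * Nat.gcdA (p ^ k) m = 1 := by
      rw [add_comm]; exact hb.symm
    rw [this, zpow_one]
  · rw [← zpow_natCast, ← zpow_mul]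
    have : (m : ℤ) * Nat.gcdB (p ^ k) m * ((p ^ k : ℕ) : ℤ)
        = ((p ^ k : ℕ) : ℤ) * (m : ℤ) * Nat.gcdB (p ^ k) m := by ring
    rw [this, zpow_mul, hord, one_zpow]
  · have hbm : (h ^ (((p ^ k : ℕ) : ℤ) * Nat.gcdA (p ^ k) m)) ^ m = 1 := by
      rw [← zpow_natCast, ← zpow_mul]
      have : ((p ^ k : ℕ) : ℤ) * Nat.gcdA (p ^ k) m * (m : ℤ)
          = ((p ^ k : ℕ) : ℤ) * (m : ℤ) * Nat.gcdA (p ^ k) m := by ring
      rw [this, zpow_mul, hord, one_zpow]
    exact Nat.Coprime.coprime_dvd_left (orderOf_dvd_of_pow_eq_one hbm) hpm.symm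

/-- A nilpotent subgroup has a `p`-subgroup containing all its `p`-elements. -/
theorem exists_sylow_nilpotent [Finite G] (H : Subgroup G) (hH : Group.IsNilpotent H) (p : ℕ)
    [Fact p.Prime] :
    ∃ Q : Subgroup G, Q ≤ H ∧ IsPGroup p Q ∧ ∀ a ∈ H, (∃ k : ℕ, a ^ (p ^ k) = 1) → a ∈ Q := by
  haveI := hH
  obtain ⟨Q₀⟩ : Nonempty (Sylow p H) := inferInstance
  have hQn : (Q₀ : Subgroup H).Normal := inferInstance
  refine ⟨(Q₀ : Subgroup H).map H.subtype, ?_, ?_, ?_⟩
  · rintro x ⟨y, _, rfl⟩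
    exact y.2
  · exact Q₀.isPGroup'.map H.subtype
  · rintro a ha ⟨k, hk⟩
    have hz : IsPGroup p (Subgroup.zpowers (⟨a, ha⟩ : H)) := by
      rintro ⟨g, hg⟩
      obtain ⟨n, rfl⟩ := Subgroup.mem_zpowers_iff.mp hg
      refine ⟨k, Subtype.ext ?_⟩
      apply Subtype.ext
      show ((a ^ n) ^ (p ^ k) : G) = 1
      rw [← zpow_natCast, ← zpow_mul, mul_comm, zpow_mul, zpow_natCast, hk, one_zpow]
    obtain ⟨Q₁, hQ₁⟩ := hz.exists_le_sylow
    haveI := Sylow.unique_of_normal Q₀ hQn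
    have : Q₁ = Q₀ := Subsingleton.elim _ _
    rw [this] at hQ₁
    exact ⟨⟨a, ha⟩, hQ₁ (Subgroup.mem_zpowers _), rfl⟩

/-- A Sylow subgroup of the whole group inside a nilpotent subgroup contains all the
`p`-elements of that subgroup. -/
theorem mem_sylow_of_nilpotent [Finite G] (C : Subgroup G) (hC : Group.IsNilpotent C) (p : ℕ)
    [Fact p.Prime] (S : Sylow p G) (hS : (S : Subgroup G) ≤ C) {a : G} (ha : a ∈ C)
    (hap : ∃ k : ℕ, a ^ (p ^ k) = 1) : a ∈ (S : Subgroup G) := by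
  obtain ⟨Q, hQC, hQp, hQ⟩ := exists_sylow_nilpotent C hC p
  have hSQ : (S : Subgroup G) ≤ Q := by
    intro s hs
    obtain ⟨k, hk⟩ := S.isPGroup' ⟨s, hs⟩
    exact hQ s (hS hs) ⟨k, congrArg (fun w : (S : Subgroup G) => (w : G)) hk⟩
  have := S.is_maximal' hQp hSQ
  rw [← this]
  exact hQ a ha hap

/-- A `p`-element of a nilpotent subgroup commuting with all its `p`-elements is central. -/
theorem central_of_comm_pelts [Finite G] (H : Subgroup G) (hH : Group.IsNilpotent H) (p : ℕ)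
    (hp : p.Prime) (u : G) (hu : u ∈ H) (hup : ∃ k : ℕ, u ^ (p ^ k) = 1)
    (hcomm : ∀ a ∈ H, (∃ k : ℕ, a ^ (p ^ k) = 1) → a * u = u * a) :
    ∀ h ∈ H, h * u = u * h := by
  intro h hh
  obtain ⟨a, ha, b, hb, hab, hap, hbp⟩ := exists_p_decomp p hp h
  have hzH : Subgroup.zpowers h ≤ H := by
    rw [Subgroup.zpowers_le]; exact hh
  have h1 := hcomm a (hzH ha) hap
  obtain ⟨k, hk⟩ := hup
  have hcop : (orderOf b).Coprime (orderOf u) := by
    have h2 : orderOf u ∣ p ^ k := orderOf_dvd_of_pow_eq_one hk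
    exact Nat.Coprime.coprime_dvd_right h2 (Nat.Coprime.pow_right k hbp)
  have h2 := nilpotent_coprime_comm' H hH (hzH hb) hu hcop
  rw [← hab, mul_assoc, h2, ← mul_assoc, h1, mul_assoc]

section CN

variable [Finite G] (hCN : ∀ g : G, g ≠ 1 → Group.IsNilpotent (Subgroup.centralizer ({g} : Set G)))
  (H : Subgroup G) (hH : Group.IsNilpotent H)
  (hmax : ∀ L : Subgroup G, Group.IsNilpotent L → H ≤ L → L = H)

include hCN hmax in
/-- The centralizer of a nontrivial central element of a maximal nilpotent subgroup `H` of a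
CN-group is `H`. -/
theorem cn_cent_eq {z : G} (hz1 : z ≠ 1) (hzc : ∀ h ∈ H, h * z = z * h) :
    Subgroup.centralizer ({z} : Set G) = H := by
  apply hmax _ (hCN z hz1)
  intro h hh
  apply Subgroup.mem_centralizer_iff.mpr
  intro w hw
  rw [Set.mem_singleton_iff] at hw
  rw [hw]
  exact (hzc h hh).symm

include hCN hH hmax in
/-- A maximal nilpotent subgroup of a CN-group contains a Sylow `p`-subgroup of the whole group
for every prime `p` dividing its order, together with an element whose centralizer is `H`. -/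
theorem cn_sylow (p : ℕ) [hp : Fact p.Prime] (hpH : p ∣ Nat.card H) :
    ∃ S : Sylow p G, (S : Subgroup G) ≤ H ∧ ∃ z ∈ (S : Subgroup G), z ≠ 1 ∧
      Subgroup.centralizer ({z} : Set G) = H := by
  obtain ⟨Q, hQH, hQp, hQ⟩ := exists_sylow_nilpotent H hH p
  obtain ⟨a₀, ha₀⟩ := exists_prime_orderOf_dvd_card' (G := H) p hpH
  have ha₀Q : (a₀ : G) ∈ Q := by
    apply hQ _ a₀.2
    refine ⟨1, ?_⟩
    rw [pow_one]
    have h1 := pow_orderOf_eq_one a₀
    rw [ha₀] at h1
    exact congrArg (fun w : H => (w : G)) h1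
  have ha₀1 : (a₀ : G) ≠ 1 := by
    intro h
    have : orderOf (a₀ : G) = 1 := by rw [h, orderOf_one]
    rw [Subgroup.orderOf_coe, ha₀] at this
    exact hp.out.one_lt.ne' this
  obtain ⟨P, hQP⟩ := hQp.exists_le_sylow
  -- a nontrivial central element of Q
  haveI : Nontrivial Q := ⟨⟨⟨(a₀ : G), ha₀Q⟩, 1, fun h => ha₀1 (congrArg (fun w : Q => (w : G)) h)⟩⟩
  haveI := hQp.center_nontrivial
  obtain ⟨⟨z, hzc⟩, hz1⟩ := exists_ne (1 : Subgroup.center Q)
  have hzc' : ∀ y ∈ Q, y * (z : G) = (z : G) * y := by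
    intro y hy
    have := Subgroup.mem_center_iff.mp hzc ⟨y, hy⟩
    exact congrArg (fun w : Q => (w : G)) this
  have hz1' : (z : G) ≠ 1 := by
    intro h
    apply hz1
    apply Subtype.ext
    apply Subtype.ext
    exact h
  have hzp : ∃ k : ℕ, (z : G) ^ (p ^ k) = 1 := by
    obtain ⟨k, hk⟩ := hQp z
    exact ⟨k, congrArg (fun w : Q => (w : G)) hk⟩
  have hzH : (z : G) ∈ H := hQH z.2
  have hzcent : Subgroup.centralizer ({(z : G)} : Set G) = H :=
    cn_cent_eq hCN H hmax hz1' (central_of_comm_pelts H hH p hp.out (z : G) hzH hzp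
      (fun a ha hap => hzc' a (hQ a ha hap)))
  -- a nontrivial central element of P
  haveI : Nontrivial (P : Subgroup G) :=
    ⟨⟨⟨(a₀ : G), hQP ha₀Q⟩, 1, fun h => ha₀1 (congrArg (fun w : (P : Subgroup G) => (w : G)) h)⟩⟩
  haveI := P.isPGroup'.center_nontrivial
  obtain ⟨⟨u, huc⟩, hu1⟩ := exists_ne (1 : Subgroup.center (P : Subgroup G))
  have huc' : ∀ y ∈ (P : Subgroup G), y * (u : G) = (u : G) * y := by
    intro y hy
    have := Subgroup.mem_center_iff.mp huc ⟨y, hy⟩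
    exact congrArg (fun w : (P : Subgroup G) => (w : G)) this
  have hu1' : (u : G) ≠ 1 := by
    intro h
    apply hu1
    apply Subtype.ext
    apply Subtype.ext
    exact h
  have hup : ∃ k : ℕ, (u : G) ^ (p ^ k) = 1 := by
    obtain ⟨k, hk⟩ := P.isPGroup' u
    exact ⟨k, congrArg (fun w : (P : Subgroup G) => (w : G)) hk⟩
  have huH : (u : G) ∈ H := by
    rw [← hzcent]
    apply Subgroup.mem_centralizer_iff.mpr
    intro w hw
    rw [Set.mem_singleton_iff] at hw
    rw [hw]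
    exact huc' (z : G) (hQP z.2)
  have hucent : Subgroup.centralizer ({(u : G)} : Set G) = H :=
    cn_cent_eq hCN H hmax hu1' (central_of_comm_pelts H hH p hp.out (u : G) huH hup
      (fun a ha hap => huc' a (hQP (hQ a ha hap))))
  refine ⟨P, ?_, (u : G), u.2, hu1', hucent⟩
  intro y hy
  rw [← hucent]
  apply Subgroup.mem_centralizer_iff.mpr
  intro w hw
  rw [Set.mem_singleton_iff] at hw
  rw [hw]
  exact (huc' y hy).symm

include hCN hH hmax in
/-- A maximal nilpotent subgroup of a CN-group is a Hall subgroup. -/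
theorem cn_hall : (Nat.card H).Coprime H.index := by
  by_contra hcon
  obtain ⟨p, hp, hp1, hp2⟩ := Nat.Prime.not_coprime_iff_dvd.mp hcon
  haveI : Fact p.Prime := ⟨hp⟩
  obtain ⟨S, hSH, -⟩ := cn_sylow hCN H hH hmax p hp1
  exact S.not_dvd_index (hp2.trans (Subgroup.index_dvd_of_le hSH))

include hCN hH hmax in
/-- If a nilpotent subgroup `K` containing Sylow subgroups of `G` for all the primes dividing
`|H|` meets `H` nontrivially, with `|H|` not a prime power, then `K ≤ H`. -/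
theorem cn_le_of_inter (hnpp : ¬ IsPrimePow (Nat.card H)) (K : Subgroup G)
    (hK : Group.IsNilpotent K)
    (hKS : ∀ q : ℕ, ∀ _ : Fact q.Prime, q ∣ Nat.card H → ∃ S' : Sylow q G, (S' : Subgroup G) ≤ K)
    {x : G} (hxH : x ∈ H) (hxK : x ∈ K) (hx1 : x ≠ 1) : K ≤ H := by
  -- a power of x of prime order
  have hox : orderOf x ≠ 1 := fun h => hx1 (orderOf_eq_one_iff.mp h)
  obtain ⟨p, hp, hpx⟩ := Nat.exists_prime_and_dvd hox
  obtain ⟨x₁, hx₁def⟩ : ∃ x₁ : G, x₁ = x ^ (orderOf x / p) := ⟨_, rfl⟩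
  have hx₁o : orderOf x₁ = p := by
    rw [hx₁def]; exact orderOf_pow_orderOf_div (orderOf_pos x).ne' hpx
  have hx₁1 : x₁ ≠ 1 := by
    intro h
    rw [h, orderOf_one] at hx₁o
    exact hp.one_lt.ne' hx₁o.symm
  have hx₁H : x₁ ∈ H := by rw [hx₁def]; exact pow_mem hxH _
  have hx₁K : x₁ ∈ K := by rw [hx₁def]; exact pow_mem hxK _
  -- a prime q ≠ p dividing |H|
  have hH1 : Nat.card H ≠ 1 := by
    intro h
    have := (Subgroup.card_eq_one.mp h)
    rw [this, Subgroup.mem_bot] at hxH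
    exact hx1 hxH
  obtain ⟨q, hq, hqH, hqp⟩ : ∃ q : ℕ, q.Prime ∧ q ∣ Nat.card H ∧ q ≠ p := by
    by_contra hcon
    push Not at hcon
    have h1 := Nat.eq_prime_pow_of_unique_prime_dvd (n := Nat.card H) (p := p)
      Nat.card_pos.ne' (fun {d} hd hdn => hcon d hd hdn)
    apply hnpp
    rw [isPrimePow_nat_iff]
    refine ⟨p, (Nat.card H).primeFactorsList.length, hp, ?_, h1.symm⟩
    rcases Nat.eq_zero_or_pos (Nat.card H).primeFactorsList.length with h0 | h0
    · rw [h0, pow_zero] at h1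
      exact absurd h1 hH1
    · exact h0
  haveI : Fact q.Prime := ⟨hq⟩
  obtain ⟨S, hSH, z, hzS, hz1, hzcent⟩ := cn_sylow hCN H hH hmax q hqH
  obtain ⟨S', hS'K⟩ := hKS q ⟨hq⟩ hqH
  have hC := hCN x₁ hx₁1
  have hcopq : ∀ s : G, (∃ k : ℕ, s ^ (q ^ k) = 1) → (orderOf s).Coprime (orderOf x₁) := by
    rintro s ⟨k, hk⟩
    rw [hx₁o]
    have h2 : orderOf s ∣ q ^ k := orderOf_dvd_of_pow_eq_one hk
    exact Nat.Coprime.coprime_dvd_left h2
      (Nat.Coprime.pow_left k ((Nat.coprime_primes hq hp).mpr hqp))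
  have hSq : ∀ s ∈ (S : Subgroup G), ∃ k : ℕ, s ^ (q ^ k) = 1 := by
    intro s hs
    obtain ⟨k, hk⟩ := S.isPGroup' ⟨s, hs⟩
    exact ⟨k, congrArg (fun w : (S : Subgroup G) => (w : G)) hk⟩
  have hS'q : ∀ s ∈ (S' : Subgroup G), ∃ k : ℕ, s ^ (q ^ k) = 1 := by
    intro s hs
    obtain ⟨k, hk⟩ := S'.isPGroup' ⟨s, hs⟩
    exact ⟨k, congrArg (fun w : (S' : Subgroup G) => (w : G)) hk⟩
  have hSC : (S : Subgroup G) ≤ Subgroup.centralizer ({x₁} : Set G) := by
    intro s hs
    apply Subgroup.mem_centralizer_iff.mpr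
    intro w hw
    rw [Set.mem_singleton_iff] at hw
    rw [hw]
    exact (nilpotent_coprime_comm' H hH (hSH hs) hx₁H (hcopq s (hSq s hs))).symm
  have hS'C : (S' : Subgroup G) ≤ Subgroup.centralizer ({x₁} : Set G) := by
    intro s hs
    apply Subgroup.mem_centralizer_iff.mpr
    intro w hw
    rw [Set.mem_singleton_iff] at hw
    rw [hw]
    exact (nilpotent_coprime_comm' K hK (hS'K hs) hx₁K (hcopq s (hS'q s hs))).symm
  have hzS' : z ∈ (S' : Subgroup G) :=
    mem_sylow_of_nilpotent _ hC q S' hS'C (hSC hzS) (hSq z hzS)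
  have hzK : z ∈ K := hS'K hzS'
  have hzcK : ∀ k ∈ K, k * z = z * k := by
    apply central_of_comm_pelts K hK q hq z hzK (hSq z hzS)
    intro a ha haq
    have haS' : a ∈ (S' : Subgroup G) := mem_sylow_of_nilpotent K hK q S' hS'K ha haq
    have haS : a ∈ (S : Subgroup G) := mem_sylow_of_nilpotent _ hC q S hSC (hS'C haS') haq
    have haH : a ∈ Subgroup.centralizer ({z} : Set G) := by rw [hzcent]; exact hSH haS
    exact (Subgroup.mem_centralizer_iff.mp haH z rfl).symm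
  intro k hk
  rw [← hzcent]
  apply Subgroup.mem_centralizer_iff.mpr
  intro w hw
  rw [Set.mem_singleton_iff] at hw
  rw [hw]
  exact (hzcK k hk).symm

include hCN hH hmax in
/-- An element centralizing a nontrivial element of `H` and normalizing `H` lies in `H`. -/
theorem cn_cent_le {x g : G} (hxH : x ∈ H) (hx1 : x ≠ 1)
    (hgx : g ∈ Subgroup.centralizer ({x} : Set G)) (hgN : g ∈ Subgroup.normalizer (H : Set G)) : g ∈ H := by
  have hH1 : Nat.card H ≠ 1 := by
    intro h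
    have := (Subgroup.card_eq_one.mp h)
    rw [this, Subgroup.mem_bot] at hxH
    exact hx1 hxH
  obtain ⟨p, hp, hpH⟩ := Nat.exists_prime_and_dvd hH1
  haveI : Fact p.Prime := ⟨hp⟩
  obtain ⟨S, hSH, z, hzS, hz1, hzcent⟩ := cn_sylow hCN H hH hmax p hpH
  obtain ⟨a, ha, b, hb, hab, hap, hbp⟩ := exists_p_decomp p hp g
  have hzN : Subgroup.zpowers g ≤ Subgroup.normalizer (H : Set G) := by
    rw [Subgroup.zpowers_le]; exact hgN
  have hzC : Subgroup.zpowers g ≤ Subgroup.centralizer ({x} : Set G) := by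
    rw [Subgroup.zpowers_le]; exact hgx
  have hSp : ∀ s ∈ (S : Subgroup G), ∃ k : ℕ, s ^ (p ^ k) = 1 := by
    intro s hs
    obtain ⟨k, hk⟩ := S.isPGroup' ⟨s, hs⟩
    exact ⟨k, congrArg (fun w : (S : Subgroup G) => (w : G)) hk⟩
  -- b ∈ H
  have hbH : b ∈ H := by
    have hzx : z ∈ Subgroup.centralizer ({x} : Set G) := by
      apply Subgroup.mem_centralizer_iff.mpr
      intro w hw
      rw [Set.mem_singleton_iff] at hw
      rw [hw]
      have hxz : x ∈ Subgroup.centralizer ({z} : Set G) := by rw [hzcent]; exact hxH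
      exact (Subgroup.mem_centralizer_iff.mp hxz z rfl).symm
    obtain ⟨k, hk⟩ := hSp z hzS
    have hcop : (orderOf b).Coprime (orderOf z) :=
      Nat.Coprime.coprime_dvd_right (orderOf_dvd_of_pow_eq_one hk) (Nat.Coprime.pow_right k hbp)
    have hbz := nilpotent_coprime_comm' _ (hCN x hx1) (hzC hb) hzx hcop
    rw [← hzcent]
    apply Subgroup.mem_centralizer_iff.mpr
    intro w hw
    rw [Set.mem_singleton_iff] at hw
    rw [hw]
    exact hbz.symm
  -- a ∈ S
  have haN : a ∈ Subgroup.normalizer (H : Set G) := hzN ha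
  have haS : a ∈ (S : Subgroup G) := by
    obtain ⟨k, hk⟩ := hap
    have hza : IsPGroup p (Subgroup.zpowers a) := by
      rintro ⟨y, hy⟩
      obtain ⟨n, rfl⟩ := Subgroup.mem_zpowers_iff.mp hy
      refine ⟨k, Subtype.ext ?_⟩
      show ((a ^ n) ^ (p ^ k) : G) = 1
      rw [← zpow_natCast, ← zpow_mul, mul_comm, zpow_mul, zpow_natCast, hk, one_zpow]
    have haNS : a ∈ Subgroup.normalizer ((S : Subgroup G) : Set G) := by
      rw [Subgroup.mem_normalizer_iff]
      intro s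
      constructor
      · intro hs
        obtain ⟨j, hj⟩ := hSp s hs
        apply mem_sylow_of_nilpotent H hH p S hSH ((Subgroup.mem_normalizer_iff.mp haN s).mp (hSH hs))
        refine ⟨j, ?_⟩
        rw [conj_pow, hj, mul_one, mul_inv_cancel]
      · intro hs
        obtain ⟨j, hj⟩ := hSp _ hs
        apply mem_sylow_of_nilpotent H hH p S hSH ((Subgroup.mem_normalizer_iff.mp haN s).mpr (hSH hs))
        refine ⟨j, ?_⟩
        rw [conj_pow] at hj
        have h2 : s ^ (p ^ j) = a⁻¹ * (a * s ^ (p ^ j) * a⁻¹) * a := by group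
        rw [h2, hj, mul_one, inv_mul_cancel]
    have hsup : IsPGroup p (Subgroup.zpowers a ⊔ (S : Subgroup G) : Subgroup G) :=
      IsPGroup.to_sup_of_normal_right' hza S.isPGroup' (by rw [Subgroup.zpowers_le]; exact haNS)
    have := S.is_maximal' hsup le_sup_right
    rw [← this]
    exact (le_sup_left : Subgroup.zpowers a ≤ _) (Subgroup.mem_zpowers a)
  rw [← hab]
  exact mul_mem (hSH haS) hbH

end CN

end Cfsg.Agent.Lib_helper2_CN
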