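import Mathlib
import Cfsg.Prelude.Def_Transfer
import Cfsg.Agent.Lib_helper1_Frobenius
import Cfsg.Agent.Lib_helper1_Basic
import Cfsg.Agent.Lib_helper2_Cyc
import Cfsg.Agent.Lib_helper2_Thompson
import Cfsg.Agent.Lib_helper2_Dihedral

set_option autoImplicit false

namespace Cfsg.Agent.Lib_helper2_DihSyl

open Cfsg.Agent.Lib_helper2_Cyc Cfsg.Agent.Lib_helper2_Thompson Cfsg.Agent.Lib_helper2_Dihedral
open Cfsg.Agent.Lib_helper1_Frobenius Cfsg.Agent.Lib_helper1_Basic

variable {X : Type*} [Group X]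

theorem pow_conj_mul {g x c : X} (hc : g * c * g⁻¹ = c) (hx : g * x * g⁻¹ = x * c) :
    ∀ k : ℕ, g ^ k * x * (g ^ k)⁻¹ = x * c ^ k := by
  intro k
  induction k with
  | zero => simp
  | succ k ih =>
    have hck : g * c ^ k * g⁻¹ = c ^ k := by
      rw [← conj_pow, hc]
    calc g ^ (k + 1) * x * (g ^ (k + 1))⁻¹ = g * (g ^ k * x * (g ^ k)⁻¹) * g⁻¹ := by
          rw [pow_succ', mul_inv_rev]; simp only [mul_assoc]
      _ = g * (x * c ^ k) * g⁻¹ := by rw [ih]
      _ = (g * x * g⁻¹) * (g * c ^ k * g⁻¹) := by group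
      _ = x * c ^ (k + 1) := by rw [hx, hck, pow_succ', mul_assoc]

theorem eq_one_of_odd_conj {g x c : X} (hg : (orderOf g).Coprime 2) (hc : g * c * g⁻¹ = c)
    (hx : g * x * g⁻¹ = x * c) {e : ℕ} (he : c ^ (2 ^ e) = 1) : c = 1 := by
  have h1 := pow_conj_mul hc hx (orderOf g)
  rw [pow_orderOf_eq_one] at h1
  have h2 : c ^ orderOf g = 1 := by
    have : x * c ^ orderOf g = x * 1 := by rw [← h1]; simp
    exact mul_left_cancel this
  have d1 : orderOf c ∣ orderOf g := orderOf_dvd_of_pow_eq_one h2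
  have d2 : orderOf c ∣ 2 ^ e := orderOf_dvd_of_pow_eq_one he
  have hcop : (orderOf c).Coprime (2 ^ e) := (Nat.Coprime.coprime_dvd_left d1 hg).pow_right e
  have : orderOf c = 1 := Nat.Coprime.eq_one_of_dvd hcop d2
  exact orderOf_eq_one_iff.mp this

theorem exists_gen (Q : Subgroup X) [IsCyclic Q] :
    ∃ q₀ ∈ Q, ∀ y ∈ Q, y ∈ Subgroup.zpowers q₀ := by
  obtain ⟨g, hg⟩ := IsCyclic.exists_generator (α := Q)
  refine ⟨g, g.2, fun y hy => ?_⟩
  obtain ⟨k, hk⟩ := hg ⟨y, hy⟩
  refine ⟨k, ?_⟩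
  have := congrArg Subtype.val hk
  simpa using this

/-- An element of odd order normalizing a cyclic `2`-group centralizes it. -/
theorem centralizes_cyclic (Q : Subgroup X) [IsCyclic Q]
    (h2 : ∀ q ∈ Q, ∃ e : ℕ, q ^ (2 ^ e) = 1)
    {g : X} (hgQ : ∀ q ∈ Q, g * q * g⁻¹ ∈ Q) (hg : (orderOf g).Coprime 2) :
    ∀ q ∈ Q, g * q * g⁻¹ = q := by
  obtain ⟨q₀, hq₀, hgen⟩ := exists_gen Q
  have key : ∀ e : ℕ, ∀ q ∈ Q, q ^ (2 ^ e) = 1 → g * q * g⁻¹ = q := by
    intro e
    induction e with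
    | zero =>
      intro q _ hq1
      rw [pow_zero, pow_one] at hq1
      rw [hq1]; simp
    | succ e ih =>
      intro q hq hq1
      have hqq : (q * q) ^ (2 ^ e) = 1 := by
        rw [← pow_two, ← pow_mul, ← pow_succ']; exact hq1
      have hfix : g * (q * q) * g⁻¹ = q * q := ih (q * q) (Q.mul_mem hq hq) hqq
      obtain ⟨q', hq'⟩ : ∃ q', q' = g * q * g⁻¹ := ⟨_, rfl⟩
      have hq'Q : q' ∈ Q := by rw [hq']; exact hgQ q hq
      have hsq : q' * q' = q * q := by
        rw [hq', ← hfix]; group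
      obtain ⟨c, hc⟩ : ∃ c, c = q⁻¹ * q' := ⟨_, rfl⟩
      have hcQ : c ∈ Q := by rw [hc]; exact Q.mul_mem (Q.inv_mem hq) hq'Q
      have h3 : q' * q⁻¹ = q⁻¹ * q' := cyclic_comm' Q hq'Q (Q.inv_mem hq)
      have hcc : c * c = 1 := by
        calc c * c = q⁻¹ * (q' * q⁻¹) * q' := by rw [hc]; group
          _ = q⁻¹ * (q⁻¹ * q') * q' := by rw [h3]
          _ = (q * q)⁻¹ * (q' * q') := by group
          _ = 1 := by rw [hsq]; group
      have hgc : g * c * g⁻¹ = c := by
        by_cases hc1 : c = 1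
        · rw [hc1]; simp
        · have ho : orderOf c = 2 := orderOf_eq_two_iff'.mpr ⟨hc1, hcc⟩
          have ho' : orderOf (g * c * g⁻¹) = 2 := by
            rw [orderOf_eq_two_iff']
            refine ⟨fun h => hc1 ?_, ?_⟩
            · calc c = g⁻¹ * (g * c * g⁻¹) * g := by group
                _ = 1 := by rw [h]; group
            · calc g * c * g⁻¹ * (g * c * g⁻¹) = g * (c * c) * g⁻¹ := by group
                _ = 1 := by rw [hcc]; group
          exact involution_mem_zpowers_unique ho' ho (hgen _ (hgQ c hcQ)) (hgen _ hcQ)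
      have hx : g * q * g⁻¹ = q * c := by rw [hc, ← hq']; group
      have hc2 : c ^ (2 ^ 1) = 1 := by rw [pow_one, pow_two]; exact hcc
      have := eq_one_of_odd_conj hg hgc hx hc2
      rw [hx, this, mul_one]
  intro q hq
  obtain ⟨e, he⟩ := h2 q hq
  exact key e q hq he

theorem dih_mem_of_r {m : ℕ} (S : Subgroup X) (e : S ≃* DihedralGroup m) {x : X} (hx : x ∈ S)
    {i : ZMod m} (h : e ⟨x, hx⟩ = DihedralGroup.r i) :
    x ∈ Subgroup.zpowers ((e.symm (DihedralGroup.r 1) : S) : X) := by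
  refine ⟨(ZMod.cast i : ℤ), ?_⟩
  have h1 : (⟨x, hx⟩ : S) = (e.symm (DihedralGroup.r 1)) ^ (ZMod.cast i : ℤ) := by
    rw [← map_zpow, DihedralGroup.r_one_zpow, ZMod.intCast_zmod_cast, ← h, e.symm_apply_apply]
  have := congrArg Subtype.val h1
  simpa using this.symm

theorem dih_sq {m : ℕ} (S : Subgroup X) (e : S ≃* DihedralGroup m) {x : X} (hx : x ∈ S)
    (hxn : x ∉ Subgroup.zpowers ((e.symm (DihedralGroup.r 1) : S) : X)) : x * x = 1 := by
  cases h : e ⟨x, hx⟩ with
  | r i => exact absurd (dih_mem_of_r S e hx h) hxn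
  | sr i =>
    have h1 : e (⟨x, hx⟩ * ⟨x, hx⟩) = e 1 := by
      rw [map_mul, h, DihedralGroup.sr_mul_self, map_one]
    have h2 := e.injective h1
    exact congrArg Subtype.val h2

theorem dih_mul {m : ℕ} (S : Subgroup X) (e : S ≃* DihedralGroup m) {x y : X} (hx : x ∈ S)
    (hy : y ∈ S)
    (hxn : x ∉ Subgroup.zpowers ((e.symm (DihedralGroup.r 1) : S) : X))
    (hyn : y ∉ Subgroup.zpowers ((e.symm (DihedralGroup.r 1) : S) : X)) :
    x * y ∈ Subgroup.zpowers ((e.symm (DihedralGroup.r 1) : S) : X) := by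
  cases h : e ⟨x, hx⟩ with
  | r i => exact absurd (dih_mem_of_r S e hx h) hxn
  | sr i =>
    cases h' : e ⟨y, hy⟩ with
    | r j => exact absurd (dih_mem_of_r S e hy h') hyn
    | sr j =>
      have h1 : e ⟨x * y, S.mul_mem hx hy⟩ = DihedralGroup.r (j - i) := by
        have : (⟨x * y, S.mul_mem hx hy⟩ : S) = ⟨x, hx⟩ * ⟨y, hy⟩ := rfl
        rw [this, map_mul, h, h', DihedralGroup.sr_mul_sr]
      exact dih_mem_of_r S e (S.mul_mem hx hy) h1

theorem mem_sup_centralizer (Q T : Subgroup X) (hT : T ≤ Subgroup.normalizer (Q : Set X)) {g : X}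
    (hg : g ∈ Subgroup.centralizer (Q : Set X) ⊔ T) :
    ∃ c ∈ Subgroup.centralizer (Q : Set X), ∃ s ∈ T, c * s = g := by
  have hC : Subgroup.centralizer (Q : Set X) ≤ Subgroup.normalizer (Q : Set X) :=
    Subgroup.centralizer_le_normalizer _
  have hgN : g ∈ Subgroup.normalizer (Q : Set X) := (sup_le hC hT) hg
  have h1 : (⟨g, hgN⟩ : Subgroup.normalizer (Q : Set X)) ∈
      (Subgroup.centralizer (Q : Set X) ⊔ T).subgroupOf (Subgroup.normalizer (Q : Set X)) := by
    rw [Subgroup.mem_subgroupOf]; exact hg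
  rw [Subgroup.subgroupOf_sup hC hT] at h1
  obtain ⟨y, hy, z, hz, hyz⟩ := Subgroup.mem_sup_of_normal_left.mp h1
  refine ⟨y, hy, z, hz, ?_⟩
  exact congrArg Subtype.val hyz

theorem conj_pow_eq (Q : Subgroup X) {g s : X} (hs : ∀ u ∈ Q, s * u * s⁻¹ ∈ Q)
    (h : ∀ u ∈ Q, g * u * g⁻¹ = s * u * s⁻¹) :
    ∀ k : ℕ, ∀ u ∈ Q, g ^ k * u * (g ^ k)⁻¹ = s ^ k * u * (s ^ k)⁻¹ := by
  intro k
  induction k with
  | zero => intro u _; simp
  | succ k ih =>
    intro u hu
    calc g ^ (k + 1) * u * (g ^ (k + 1))⁻¹ = g ^ k * (g * u * g⁻¹) * (g ^ k)⁻¹ := by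
          rw [pow_succ, mul_inv_rev]; simp only [mul_assoc]
      _ = g ^ k * (s * u * s⁻¹) * (g ^ k)⁻¹ := by rw [h u hu]
      _ = s ^ k * (s * u * s⁻¹) * (s ^ k)⁻¹ := ih _ (hs u hu)
      _ = s ^ (k + 1) * u * (s ^ (k + 1))⁻¹ := by
          rw [pow_succ, mul_inv_rev]; simp only [mul_assoc]

theorem frobHyp_of_klein [Finite X] (S : Sylow 2 X) (m : ℕ)
    (e : (S : Subgroup X) ≃* DihedralGroup m)
    (hK : ∀ U : Subgroup X, U ≤ S → IsKleinFour U → Subgroup.normalizer (U : Set X) =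
      Subgroup.centralizer (U : Set X) ⊔ ((S : Subgroup X) ⊓ Subgroup.normalizer (U : Set X))) :
    FrobHyp 2 X := by
  haveI : Fact (Nat.Prime 2) := ⟨Nat.prime_two⟩
  apply frobHyp_of_le_sylow S
  intro Q hQS g hgN hgo
  obtain ⟨ρ, hρ⟩ : ∃ ρ : X, ρ = ((e.symm (DihedralGroup.r 1) : (S : Subgroup X)) : X) := ⟨_, rfl⟩
  have D1 : ∀ x ∈ (S : Subgroup X), x ∉ Subgroup.zpowers ρ → x * x = 1 := by
    intro x hx hxn; rw [hρ] at hxn; exact dih_sq _ e hx hxn
  have D2 : ∀ x ∈ (S : Subgroup X), ∀ y ∈ (S : Subgroup X), x ∉ Subgroup.zpowers ρ →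
      y ∉ Subgroup.zpowers ρ → x * y ∈ Subgroup.zpowers ρ := by
    intro x hx y hy hxn hyn; rw [hρ] at hxn hyn ⊢; exact dih_mul _ e hx hy hxn hyn
  have h2S : ∀ q ∈ (S : Subgroup X), ∃ k : ℕ, q ^ (2 ^ k) = 1 := by
    intro q hq
    obtain ⟨k, hk⟩ := S.2 ⟨q, hq⟩
    exact ⟨k, by simpa using congrArg Subtype.val hk⟩
  have hconj : ∀ q ∈ Q, g * q * g⁻¹ ∈ Q :=
    fun q hq => (Subgroup.mem_normalizer_iff.mp hgN q).mp hq
  rw [Subgroup.mem_centralizer_iff]
  suffices hmain : ∀ q ∈ Q, g * q * g⁻¹ = q by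
    intro q hq
    have := hmain q hq
    calc q * g = (g * q * g⁻¹) * g := by rw [this]
      _ = g * q := by group
  by_cases hQR : Q ≤ Subgroup.zpowers ρ
  · haveI : IsCyclic Q := Subgroup.isCyclic_of_le hQR
    exact centralizes_cyclic Q (fun q hq => h2S q (hQS hq)) hconj hgo
  · obtain ⟨t, htQ, htR⟩ := SetLike.not_le_iff_exists.mp hQR
    obtain ⟨Q₀, hQ₀⟩ : ∃ Q₀ : Subgroup X, Q₀ = Q ⊓ Subgroup.zpowers ρ := ⟨_, rfl⟩
    have hQ₀Q : Q₀ ≤ Q := by rw [hQ₀]; exact inf_le_left
    have hQ₀R : Q₀ ≤ Subgroup.zpowers ρ := by rw [hQ₀]; exact inf_le_right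
    have hmemQ₀ : ∀ x ∈ Q, x ∈ Subgroup.zpowers ρ → x ∈ Q₀ := by
      intro x hx hxR; rw [hQ₀]; exact ⟨hx, hxR⟩
    haveI : IsCyclic Q₀ := Subgroup.isCyclic_of_le hQ₀R
    have step : (∀ q ∈ Q₀, g * q * g⁻¹ = q) → ∀ q ∈ Q, g * q * g⁻¹ = q := by
      intro hc0 x hx
      by_cases hxR : x ∈ Subgroup.zpowers ρ
      · exact hc0 x (hmemQ₀ x hx hxR)
      · obtain ⟨y, hy⟩ : ∃ y, y = g * x * g⁻¹ := ⟨_, rfl⟩
        have hyQ : y ∈ Q := by rw [hy]; exact hconj x hx
        have hyR : y ∉ Subgroup.zpowers ρ := by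
          intro hyR
          have h1 := hc0 y (hmemQ₀ y hyQ hyR)
          have h2 : y = x := by
            have : g * y * g⁻¹ = g * x * g⁻¹ := by rw [h1, hy]
            exact mul_left_cancel (mul_right_cancel this)
          exact hxR (h2 ▸ hyR)
        have hcR := D2 x (hQS hx) y (hQS hyQ) hxR hyR
        have hcQ₀ : x * y ∈ Q₀ := hmemQ₀ _ (Q.mul_mem hx hyQ) hcR
        have hxx := D1 x (hQS hx) hxR
        have hgc := hc0 _ hcQ₀
        have hgx : g * x * g⁻¹ = x * (x * y) := by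
          rw [← mul_assoc, hxx, one_mul, hy]
        obtain ⟨k, hk⟩ := h2S (x * y) (hQS (hQ₀Q hcQ₀))
        have hc1 := eq_one_of_odd_conj hgo hgc hgx hk
        rw [hgx, hc1, mul_one]
    by_cases hex : ∃ q ∈ Q₀, q * q ≠ 1
    · obtain ⟨q, hqQ₀, hqq⟩ := hex
      obtain ⟨q₀, hq₀, hgen⟩ := exists_gen Q₀
      have hq₀q₀ : q₀ * q₀ ≠ 1 := by
        intro h
        obtain ⟨k, hk⟩ := hgen q hqQ₀
        apply hqq
        have hk' : q₀ ^ k = q := hk
        rw [← hk', ← zpow_add, ← two_mul, zpow_mul, zpow_two, h, one_zpow]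
      have hgq₀ : g * q₀ * g⁻¹ ∈ Q₀ := by
        apply hmemQ₀ _ (hconj q₀ (hQ₀Q hq₀))
        by_contra hn
        have := D1 _ (hQS (hconj q₀ (hQ₀Q hq₀))) hn
        apply hq₀q₀
        have h3 : g * (q₀ * q₀) * g⁻¹ = 1 := by rw [← this]; group
        calc q₀ * q₀ = g⁻¹ * (g * (q₀ * q₀) * g⁻¹) * g := by group
          _ = 1 := by rw [h3]; group
      have hgQ₀ : ∀ y ∈ Q₀, g * y * g⁻¹ ∈ Q₀ := by
        intro y hy
        obtain ⟨k, hk⟩ := hgen y hy
        have hk' : q₀ ^ k = y := hk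
        rw [← hk', ← conj_zpow]
        exact Q₀.zpow_mem hgq₀ k
      exact step (centralizes_cyclic Q₀ (fun q hq => h2S q (hQS (hQ₀Q hq))) hgQ₀ hgo)
    · push Not at hex
      have hsq : ∀ x ∈ Q, x * x = 1 := by
        intro x hx
        by_cases hxR : x ∈ Subgroup.zpowers ρ
        · exact hex x (hmemQ₀ x hx hxR)
        · exact D1 x (hQS hx) hxR
      by_cases hbot : ∀ x ∈ Q₀, x = 1
      · apply step
        intro q hq; rw [hbot q hq]; simp
      · push Not at hbot
        obtain ⟨w, hwQ₀, hw1⟩ := hbot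
        have hwo : orderOf w = 2 := orderOf_eq_two_iff'.mpr ⟨hw1, hex w hwQ₀⟩
        have hQ₀eq : Q₀ = Subgroup.zpowers w := by
          apply le_antisymm
          · intro y hy
            by_cases hy1 : y = 1
            · rw [hy1]; exact Subgroup.one_mem _
            · have hyo : orderOf y = 2 := orderOf_eq_two_iff'.mpr ⟨hy1, hex y hy⟩
              rw [involution_mem_zpowers_unique hyo hwo (hQ₀R hy) (hQ₀R hwQ₀)]
              exact Subgroup.mem_zpowers w
          · exact (Subgroup.zpowers_le).mpr hwQ₀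
        have hcardQ₀ : Nat.card Q₀ = 2 := by
          rw [hQ₀eq, Nat.card_zpowers, hwo]
        have hidx : (Q₀.subgroupOf Q).index = 2 := by
          rw [Subgroup.index_eq_two_iff]
          refine ⟨⟨t, htQ⟩, fun b => ?_⟩
          have hbQ : (b : X) ∈ Q := b.2
          by_cases hbR : (b : X) ∈ Subgroup.zpowers ρ
          · right
            refine ⟨?_, ?_⟩
            · rw [Subgroup.mem_subgroupOf]; exact hmemQ₀ _ hbQ hbR
            · rw [Subgroup.mem_subgroupOf]
              intro h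
              apply htR
              have h4 : (b : X) * t ∈ Subgroup.zpowers ρ := hQ₀R h
              have : t = (b : X)⁻¹ * ((b : X) * t) := by group
              rw [this]
              exact Subgroup.mul_mem _ (Subgroup.inv_mem _ hbR) h4
          · left
            refine ⟨?_, ?_⟩
            · rw [Subgroup.mem_subgroupOf]
              exact hmemQ₀ _ (Q.mul_mem hbQ htQ) (D2 _ (hQS hbQ) _ (hQS htQ) hbR htR)
            · rw [Subgroup.mem_subgroupOf]
              intro h; exact hbR (hQ₀R h)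
        have hcardQ : Nat.card Q = 4 := by
          rw [← Subgroup.card_mul_index (Q₀.subgroupOf Q), hidx,
            Nat.card_congr (Subgroup.subgroupOfEquivOfLe hQ₀Q).toEquiv, hcardQ₀]
        have hKQ : IsKleinFour Q := by
          haveI : Nontrivial Q := by
            rw [← Finite.one_lt_card_iff_nontrivial, hcardQ]; norm_num
          refine ⟨hcardQ, ?_⟩
          rw [Monoid.exponent_eq_prime_iff Nat.prime_two]
          intro x hx1
          rw [orderOf_eq_two_iff']
          exact ⟨hx1, Subtype.ext (hsq x x.2)⟩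
        have hN := hK Q hQS hKQ
        rw [hN] at hgN
        obtain ⟨c, hc, s, hs, hcs⟩ := mem_sup_centralizer Q _ inf_le_right hgN
        have hsQ : ∀ u ∈ Q, s * u * s⁻¹ ∈ Q :=
          fun u hu => (Subgroup.mem_normalizer_iff.mp hs.2 u).mp hu
        have hgs : ∀ u ∈ Q, g * u * g⁻¹ = s * u * s⁻¹ := by
          intro u hu
          have h5 := (Subgroup.mem_centralizer_iff.mp hc) _ (hsQ u hu)
          rw [← hcs]
          calc c * s * u * (c * s)⁻¹ = c * (s * u * s⁻¹) * c⁻¹ := by group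
            _ = (s * u * s⁻¹) * c * c⁻¹ := by rw [h5]
            _ = s * u * s⁻¹ := by group
        have hpow := conj_pow_eq Q hsQ hgs (orderOf g)
        rw [pow_orderOf_eq_one] at hpow
        obtain ⟨k, hk⟩ := h2S s hs.1
        have hcop : (orderOf g).Coprime (orderOf s) :=
          Nat.Coprime.coprime_dvd_right (orderOf_dvd_of_pow_eq_one hk) (hgo.pow_right k)
        obtain ⟨j, hj⟩ := exists_pow_eq_self_of_coprime hcop
        have hsn : s ^ orderOf g ∈ Subgroup.centralizer (Q : Set X) := by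
          rw [Subgroup.mem_centralizer_iff]
          intro u hu
          have h6 := hpow u hu
          calc u * s ^ orderOf g
              = (s ^ orderOf g * u * (s ^ orderOf g)⁻¹) * s ^ orderOf g := by
                rw [← h6]; simp
            _ = s ^ orderOf g * u := by group
        have hsC : s ∈ Subgroup.centralizer (Q : Set X) := by
          rw [← hj]; exact Subgroup.pow_mem _ hsn j
        intro u hu
        rw [hgs u hu]
        have h7 := (Subgroup.mem_centralizer_iff.mp hsC) u hu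
        rw [← h7]; group

theorem dihedral_npc_iff [Finite X] (S : Sylow 2 X) (m : ℕ)
    (e : (S : Subgroup X) ≃* DihedralGroup m) :
    Cfsg.HasNormalPComplement 2 X ↔ ∀ U : Subgroup X, U ≤ S → IsKleinFour U →
      Subgroup.normalizer (U : Set X) =
      Subgroup.centralizer (U : Set X) ⊔ ((S : Subgroup X) ⊓ Subgroup.normalizer (U : Set X)) := by
  haveI : Fact (Nat.Prime 2) := ⟨Nat.prime_two⟩
  constructor
  · intro h U hUS _
    obtain ⟨N, hN, hc, k, hk⟩ := npc_of_hasNormalPComplement h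
    have hcompl := isComplement'_of_npc N hc hk S
    have hdisj : ∀ y ∈ N, y ∈ (S : Subgroup X) → y = 1 := by
      intro y hyN hyS
      have := hcompl.disjoint
      rw [Subgroup.disjoint_def] at this
      exact this hyN hyS
    apply le_antisymm
    · intro x hx
      obtain ⟨⟨⟨n, hn⟩, ⟨s, hs⟩⟩, hns⟩ := hcompl.2 x
      have hns' : n * s = x := hns
      have hnN : n ∈ N := hn
      have hsS : s ∈ (S : Subgroup X) := hs
      have hxU : ∀ u ∈ U, x * u * x⁻¹ ∈ U :=
        fun u hu => (Subgroup.mem_normalizer_iff.mp hx u).mp hu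
      have key : ∀ v ∈ (S : Subgroup X), n * v * n⁻¹ ∈ (S : Subgroup X) → n * v * n⁻¹ = v := by
        intro v hv hnv
        have h1 : n * v * n⁻¹ * v⁻¹ ∈ N := by
          have : n * v * n⁻¹ * v⁻¹ = n * (v * n⁻¹ * v⁻¹) := by group
          rw [this]
          exact N.mul_mem hnN (hN.conj_mem _ (N.inv_mem hnN) v)
        have h2 : n * v * n⁻¹ * v⁻¹ ∈ (S : Subgroup X) :=
          Subgroup.mul_mem _ hnv (Subgroup.inv_mem _ hv)
        have h3 := hdisj _ h1 h2
        exact mul_inv_eq_one.mp h3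
      have hsu : ∀ u ∈ U, s * u * s⁻¹ = x * u * x⁻¹ := by
        intro u hu
        have hv : s * u * s⁻¹ ∈ (S : Subgroup X) :=
          Subgroup.mul_mem _ (Subgroup.mul_mem _ hsS (hUS hu)) (Subgroup.inv_mem _ hsS)
        have hxe : x * u * x⁻¹ = n * (s * u * s⁻¹) * n⁻¹ := by rw [← hns']; group
        have := key _ hv (by rw [← hxe]; exact hUS (hxU u hu))
        rw [hxe, this]
      have hsN : s ∈ Subgroup.normalizer (U : Set X) :=
        mem_normalizer_of_conj_le U s (fun u hu => by rw [hsu u hu]; exact hxU u hu)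
      have hnC : n ∈ Subgroup.centralizer (U : Set X) := by
        rw [Subgroup.mem_centralizer_iff]
        intro u hu
        have hs' : s⁻¹ * u * s ∈ U := by
          have := (Subgroup.mem_normalizer_iff.mp (Subgroup.inv_mem _ hsN) u).mp hu
          simpa using this
        have hnu : n * u * n⁻¹ ∈ U := by
          have : n * u * n⁻¹ = x * (s⁻¹ * u * s) * x⁻¹ := by rw [← hns']; group
          rw [this]; exact hxU _ hs'
        have := key u (hUS hu) (hUS hnu)
        calc u * n = (n * u * n⁻¹) * n := by rw [this]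
          _ = n * u := by group
      rw [← hns']
      exact Subgroup.mul_mem _
        ((le_sup_left : Subgroup.centralizer (U : Set X) ≤ Subgroup.centralizer (U : Set X) ⊔
          ((S : Subgroup X) ⊓ Subgroup.normalizer (U : Set X))) hnC)
        ((le_sup_right : ((S : Subgroup X) ⊓ Subgroup.normalizer (U : Set X)) ≤
          Subgroup.centralizer (U : Set X) ⊔
          ((S : Subgroup X) ⊓ Subgroup.normalizer (U : Set X))) ⟨hsS, hsN⟩)
    · exact sup_le (Subgroup.centralizer_le_normalizer _) inf_le_right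
  · intro hK
    exact hasNormalPComplement_of_npc (frobenius (frobHyp_of_klein S m e hK))

end Cfsg.Agent.Lib_helper2_DihSyl
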