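import Mathlib
import Cfsg.Prelude.Def_Transfer
import Cfsg.Agent.Lib_helper2_DihSyl
import Cfsg.Agent.Lib_helper2_DihSyl2

set_option autoImplicit false

namespace Cfsg.Agent.Lib_helper2_Dih3

open Cfsg.Agent.Lib_helper2_Klein Cfsg.Agent.Lib_helper2_Isolated Cfsg.Agent.Lib_helper2_Dihedral
open Cfsg.Agent.Lib_helper2_DihSyl Cfsg.Agent.Lib_helper2_DihSyl2
open Cfsg.Agent.Lib_helper1_Frobenius Cfsg.Agent.Lib_helper1_Basic
open DihedralGroup

variable {X : Type*} [Group X]

theorem el_e {m : ℕ} {S : Subgroup X} (e : S ≃* DihedralGroup m) (d : DihedralGroup m) :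
    e ⟨el e d, el_mem e d⟩ = d :=
  e.apply_symm_apply d

theorem el_inv {m : ℕ} {S : Subgroup X} (e : S ≃* DihedralGroup m) (d : DihedralGroup m) :
    (el e d)⁻¹ = el e d⁻¹ := by
  unfold el; rw [map_inv]; rfl

theorem conj_r_sr {m : ℕ} {S : Subgroup X} (e : S ≃* DihedralGroup m) (i j : ZMod m) :
    el e (r j) * el e (sr i) * (el e (r j))⁻¹ = el e (sr (i - j - j)) := by
  rw [mul_inv_eq_iff_eq_mul, ← el_mul, ← el_mul, r_mul_sr, sr_mul_r, sub_add_cancel]

theorem comm_r_sr {m : ℕ} {S : Subgroup X} (e : S ≃* DihedralGroup m) (i j : ZMod m) :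
    el e (r j) * el e (sr i) * (el e (r j))⁻¹ * (el e (sr i))⁻¹ = el e (r (j + j)) := by
  rw [conj_r_sr, mul_inv_eq_iff_eq_mul, ← el_mul, r_mul_sr, sub_sub]

theorem eps_zero' {m : ℕ} : eps (0 : ZMod m) = 1 := by
  unfold eps; rw [ZMod.val_zero, pow_zero]

theorem par_cases {m : ℕ} [NeZero m] (h2 : 2 ∣ m) (hm2 : 2 ≤ m) (δ : ℤˣ) (i_f : ZMod m)
    (hδf : δ * eps i_f = 1) (i : ZMod m) :
    (∃ j : ZMod m, i = j + j + i_f) ∨ δ * eps i = -1 := by
  obtain ⟨j, hj | hj⟩ := parity m (i - i_f)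
  · left; exact ⟨j, by rw [← hj, sub_add_cancel]⟩
  · right
    have hi : i = (j + j + 1) + i_f := by rw [← hj, sub_add_cancel]
    rw [hi, eps_add h2, eps_double_one h2 hm2, mul_left_comm, hδf, mul_one]

/-- every involution is conjugate to one of three standard involutions -/
theorem inv_conj [Finite X] (S : Sylow 2 X) (m : ℕ) [NeZero m]
    (e : (S : Subgroup X) ≃* DihedralGroup m) {h : ZMod m}
    (hh : ∀ i : ZMod m, i + i = 0 → i ≠ 0 → i = h) {x : X} (hx : orderOf x = 2) :
    IsConj x (el e (r h)) ∨ IsConj x (el e (sr 0)) ∨ IsConj x (el e (sr 1)) := by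
  haveI : Fact (Nat.Prime 2) := ⟨Nat.prime_two⟩
  obtain ⟨k, hk⟩ := exists_conj_mem_sylow S hx
  have hxc : IsConj x (k * x * k⁻¹) := isConj_iff.mpr ⟨k, rfl⟩
  rcases inv_cases e hh hk (orderOf_conj_two hx) with h' | ⟨i, hi⟩
  · left; rw [← h']; exact hxc
  · obtain ⟨j, hj | hj⟩ := parity m i
    · right; left
      have h3 := conj_sr e 0 j
      rw [add_zero, ← hj, ← hi] at h3
      exact hxc.trans h3.symm
    · right; right
      have h3 := conj_sr e 1 j
      rw [← hj, ← hi] at h3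
      exact hxc.trans h3.symm

/-- four-subgroups of a dihedral group contain the central involution -/
theorem klein_struct {m : ℕ} [NeZero m] {S : Subgroup X} (e : S ≃* DihedralGroup m) {h : ZMod m}
    (hh : ∀ i : ZMod m, i + i = 0 → i ≠ 0 → i = h) (U : Subgroup X) (hUS : U ≤ S)
    (hU : IsKleinFour U) :
    ∃ i : ZMod m, el e (r h) ∈ U ∧ el e (sr i) ∈ U ∧
      ∀ u ∈ U, u = 1 ∨ u = el e (r h) ∨ u = el e (sr i) ∨ u = el e (r h) * el e (sr i) := by
  obtain ⟨hsq, hcomm, a, b, haU, hbU, ha1, hb1, hab, hall⟩ := klein_facts U hU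
  have hao : orderOf a = 2 := orderOf_eq_two_iff'.mpr ⟨ha1, hsq a haU⟩
  have hbo : orderOf b = 2 := orderOf_eq_two_iff'.mpr ⟨hb1, hsq b hbU⟩
  rcases inv_cases e hh (hUS haU) hao with ha | ⟨i, hi⟩
  · rcases inv_cases e hh (hUS hbU) hbo with hb | ⟨i', hi'⟩
    · exact absurd (ha.trans hb.symm) hab
    · refine ⟨i', ?_, ?_, ?_⟩
      · rw [← ha]; exact haU
      · rw [← hi']; exact hbU
      · intro u hu
        rw [← ha, ← hi']
        exact hall u hu
  · rcases inv_cases e hh (hUS hbU) hbo with hb | ⟨i', hi'⟩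
    · refine ⟨i, ?_, ?_, ?_⟩
      · rw [← hb]; exact hbU
      · rw [← hi]; exact haU
      · intro u hu
        rw [← hb, ← hi]
        rcases hall u hu with h1 | h1 | h1 | h1
        · exact Or.inl h1
        · exact Or.inr (Or.inr (Or.inl h1))
        · exact Or.inr (Or.inl h1)
        · exact Or.inr (Or.inr (Or.inr (h1.trans (hcomm a haU b hbU))))
    · have hc := hcomm a haU b hbU
      have hc' := hc
      rw [hi, hi', ← el_mul, ← el_mul, sr_mul_sr, sr_mul_sr] at hc'
      have hc2 : i' - i = i - i' := r.inj (el_inj e hc')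
      have hne : i' - i ≠ 0 := by
        intro h0
        apply hab
        rw [hi, hi', sub_eq_zero.mp h0]
      have hd : i' - i = h := by
        apply hh _ _ hne
        calc (i' - i) + (i' - i) = (i' - i) + (i - i') := by rw [← hc2]
          _ = 0 := by ring
      have hz : a * b = el e (r h) := by rw [hi, hi', ← el_mul, sr_mul_sr, hd]
      have hzb : a * b * a = b := by rw [hc, mul_assoc, hsq a haU, mul_one]
      refine ⟨i, ?_, ?_, ?_⟩
      · rw [← hz]; exact U.mul_mem haU hbU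
      · rw [← hi]; exact haU
      · intro u hu
        rw [← hz, ← hi, hzb]
        rcases hall u hu with h1 | h1 | h1 | h1
        · exact Or.inl h1
        · exact Or.inr (Or.inr (Or.inl h1))
        · exact Or.inr (Or.inr (Or.inr h1))
        · exact Or.inr (Or.inl h1)

theorem two_class [Finite X] (S : Sylow 2 X) (m : ℕ) [NeZero m] (h2 : 2 ∣ m) (hm2 : 2 ≤ m)
    (e : (S : Subgroup X) ≃* DihedralGroup m) {h k : ZMod m}
    (hh : ∀ i : ZMod m, i + i = 0 → i ≠ 0 → i = h) (hk : k + k = h)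
    (δ : ℤˣ) (i_f i_t : ZMod m) (hδf : δ * eps i_f = 1)
    (hfz : IsConj (el e (sr i_f)) (el e (r h)))
    (htz : ¬ IsConj (el e (sr i_t)) (el e (r h))) :
    (∃ N : Subgroup X, N.Normal ∧ N.index = 2) ∧ ∀ N : Subgroup X, N.Normal → N.index ≠ 4 := by
  haveI : Fact (Nat.Prime 2) := ⟨Nat.prime_two⟩
  obtain ⟨t, ht⟩ : ∃ t : X, t = el e (sr i_t) := ⟨_, rfl⟩
  have hto : orderOf t = 2 := by rw [ht]; exact el_sr_involution e i_t
  rw [← ht] at htz
  constructor
  · obtain ⟨H, hH⟩ := thompson_transfer_char S ((dchar h2 δ).comp e.toMonoidHom) t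
      (by rw [pow_two]; exact sq_eq_one_of_orderOf_two hto) (by
        intro g hg
        show dchar h2 δ (e ⟨g⁻¹ * t * g, hg⟩) = -1
        have hxo : orderOf (g⁻¹ * t * g) = 2 := by
          have h5 := orderOf_conj_two (g := g⁻¹) hto
          rwa [inv_inv] at h5
        have hcj : IsConj t (g⁻¹ * t * g) := isConj_iff.mpr ⟨g⁻¹, by rw [inv_inv]⟩
        have hxe := el_apply e hg
        cases hd : e ⟨g⁻¹ * t * g, hg⟩ with
        | r i =>
          exfalso
          rcases inv_cases e hh hg hxo with h' | ⟨i', hi'⟩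
          · apply htz; rw [← h']; exact hcj
          · rw [hd] at hxe
            rw [← hxe] at hi'
            have h5 := el_inj e hi'
            cases h5
        | sr i =>
          rw [hd] at hxe
          rw [dchar_sr]
          rcases par_cases h2 hm2 δ i_f hδf i with ⟨j, hj⟩ | h'
          · exfalso
            apply htz
            have hc := conj_sr e i_f j
            rw [← hj, hxe] at hc
            exact (hcj.trans hc.symm).trans hfz
          · exact h')
    exact ⟨H, Subgroup.normal_of_index_eq_two hH, hH⟩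
  · intro N hN hN4
    have hq : Nat.card (X ⧸ N) = 2 ^ 2 := by rw [← Subgroup.index_eq_card]; exact hN4
    have hcommq : ∀ a b : X ⧸ N, a * b = b * a :=
      (IsPGroup.isMulCommutative_of_card_eq_prime_sq hq).is_comm.comm
    have hcm : ∀ a b : X, a * b * a⁻¹ * b⁻¹ ∈ N := by
      intro a b
      rw [← QuotientGroup.eq_one_iff]
      have h5 := hcommq (a : X ⧸ N) (b : X ⧸ N)
      rw [QuotientGroup.mk_mul, QuotientGroup.mk_mul, QuotientGroup.mk_mul, QuotientGroup.mk_inv,
        QuotientGroup.mk_inv, h5, mul_assoc, ← mul_inv_rev, mul_inv_cancel]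
    have hrN : ∀ j : ZMod m, el e (r (j + j)) ∈ N := by
      intro j
      rw [← comm_r_sr e 0 j]
      exact hcm _ _
    have hzN : el e (r h) ∈ N := by rw [← hk]; exact hrN k
    have hfN : ∀ j : ZMod m, el e (sr (j + j + i_f)) ∈ N := by
      intro j
      obtain ⟨c1, hc1⟩ := isConj_iff.mp ((conj_sr e i_f j).symm.trans hfz)
      have h5 : el e (sr (j + j + i_f)) = c1⁻¹ * el e (r h) * c1⁻¹⁻¹ := by rw [← hc1]; group
      rw [h5]
      exact hN.conj_mem _ hzN _
    have hker : ∀ x (hx : x ∈ (S : Subgroup X)), dchar h2 δ (e ⟨x, hx⟩) = 1 → x ∈ N := by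
      intro x hx hϕ
      have hxe := el_apply e hx
      cases hd : e ⟨x, hx⟩ with
      | r i =>
        rw [hd] at hxe hϕ
        rw [dchar_r] at hϕ
        obtain ⟨j, hj | hj⟩ := parity m i
        · rw [← hxe, hj]; exact hrN j
        · exfalso
          rw [hj, eps_double_one h2 hm2] at hϕ
          exact absurd hϕ (by decide)
      | sr i =>
        rw [hd] at hxe hϕ
        rw [dchar_sr] at hϕ
        rcases par_cases h2 hm2 δ i_f hδf i with ⟨j, hj⟩ | h'
        · rw [← hxe, hj]; exact hfN j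
        · exfalso
          rw [h'] at hϕ
          exact absurd hϕ (by decide)
    have hle : ((dchar h2 δ).comp e.toMonoidHom).ker ≤ N.subgroupOf (S : Subgroup X) := by
      intro x hx
      rw [Subgroup.mem_subgroupOf]
      exact hker x.1 x.2 (MonoidHom.mem_ker.mp hx)
    have hd1 : (N.subgroupOf (S : Subgroup X)).index ∣
        ((dchar h2 δ).comp e.toMonoidHom).ker.index := Subgroup.index_dvd_of_le hle
    have hd2 : ((dchar h2 δ).comp e.toMonoidHom).ker.index ∣ 2 := by
      rw [Subgroup.index_ker]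
      have h5 := Subgroup.card_subgroup_dvd_card ((dchar h2 δ).comp e.toMonoidHom).range
      rwa [Nat.card_eq_fintype_card (α := ℤˣ), Fintype.card_units_int] at h5
    have hrel : N.relIndex (S : Subgroup X) ∣ 2 := hd1.trans hd2
    have h3 : N.relIndex ((S : Subgroup X) ⊔ N) = N.relIndex (S : Subgroup X) :=
      Subgroup.relIndex_sup_right _ _
    have h4 : N.relIndex ((S : Subgroup X) ⊔ N) * ((S : Subgroup X) ⊔ N).index = N.index :=
      Subgroup.relIndex_mul_index le_sup_right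
    have h5 : ((S : Subgroup X) ⊔ N).index ∣ (S : Subgroup X).index :=
      Subgroup.index_dvd_of_le le_sup_left
    have h6 : ¬ 2 ∣ (S : Subgroup X).index := S.not_dvd_index
    rw [h3, hN4] at h4
    have h7 : ¬ 2 ∣ ((S : Subgroup X) ⊔ N).index := fun h' => h6 (h'.trans h5)
    rcases (Nat.dvd_prime Nat.prime_two).mp hrel with h8 | h8
    · rw [h8, one_mul] at h4; apply h7; rw [h4]; norm_num
    · rw [h8] at h4; apply h7; omega

theorem no_fusion [Finite X] (S : Sylow 2 X) (m : ℕ) [NeZero m] (h2 : 2 ∣ m) (hm2 : 2 ≤ m)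
    (e : (S : Subgroup X) ≃* DihedralGroup m) {h k : ZMod m} (hh0 : h + h = 0) (h0 : h ≠ 0)
    (hh : ∀ i : ZMod m, i + i = 0 → i ≠ 0 → i = h) (hk : k + k = h)
    (hbz : ¬ IsConj (el e (sr 0)) (el e (r h)))
    (hcz : ¬ IsConj (el e (sr 1)) (el e (r h))) :
    Cfsg.HasNormalPComplement 2 X ∧ ¬ IsConj (el e (sr 0)) (el e (sr 1)) := by
  haveI : Fact (Nat.Prime 2) := ⟨Nat.prime_two⟩
  have hnh : -h = h := neg_eq_of_add_eq_zero_left hh0
  have hsrz : ∀ i : ZMod m, ¬ IsConj (el e (sr i)) (el e (r h)) := by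
    intro i hi
    obtain ⟨j, hj | hj⟩ := parity m i
    · apply hbz
      have h3 := conj_sr e 0 j
      rw [add_zero, ← hj] at h3
      exact h3.trans hi
    · apply hcz
      have h3 := conj_sr e 1 j
      rw [← hj] at h3
      exact h3.trans hi
  have hnpc : Cfsg.HasNormalPComplement 2 X := by
    rw [dihedral_npc_iff S m e]
    intro U hUS hUK
    apply le_antisymm
    · intro g hg
      obtain ⟨i, hzU, hsU, hall⟩ := klein_struct e hh U hUS hUK
      have hzs0 : el e (r h) * el e (sr i) = el e (sr (i - h)) := by rw [← el_mul, r_mul_sr]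
      have hsz0 : el e (sr i) * el e (r h) = el e (sr (i + h)) := by rw [← el_mul, sr_mul_r]
      have hsrz' := hsrz i
      have hsrz'' := hsrz (i - h)
      rw [← hzs0] at hsrz''
      have hzo : orderOf (el e (r h)) = 2 := el_r_involution e h0 hh0
      have hso : orderOf (el e (sr i)) = 2 := el_sr_involution e i
      have hwz0 : el e (r k) * el e (r h) * (el e (r k))⁻¹ = el e (r h) := by
        rw [mul_inv_eq_iff_eq_mul, ← el_mul, ← el_mul, r_mul_r, r_mul_r, add_comm]
      have hws0 : el e (r k) * el e (sr i) * (el e (r k))⁻¹ = el e (r h) * el e (sr i) := by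
        rw [conj_r_sr, hzs0, sub_sub, hk]
      have hwS : el e (r k) ∈ (S : Subgroup X) := el_mem e _
      obtain ⟨z, hz⟩ : ∃ z : X, z = el e (r h) := ⟨_, rfl⟩
      obtain ⟨s, hs⟩ : ∃ s : X, s = el e (sr i) := ⟨_, rfl⟩
      obtain ⟨w, hw⟩ : ∃ w : X, w = el e (r k) := ⟨_, rfl⟩
      rw [← hz, ← hs] at hall hsrz' hsrz'' hws0
      rw [← hz] at hzU hzo hwz0
      rw [← hs] at hsU hso
      rw [← hw] at hwz0 hws0 hwS
      have hzz : z * z = 1 := sq_eq_one_of_orderOf_two hzo
      have hgz : g * z * g⁻¹ = z := by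
        have hmem : g * z * g⁻¹ ∈ U := (Subgroup.mem_normalizer_iff.mp hg z).mp hzU
        have hne1 : g * z * g⁻¹ ≠ 1 := ne_one_of_orderOf_two (orderOf_conj_two hzo)
        rcases hall _ hmem with h' | h' | h' | h'
        · exact absurd h' hne1
        · exact h'
        · exfalso
          exact hsrz' (isConj_iff.mpr ⟨g⁻¹, by rw [← h']; group⟩)
        · exfalso
          exact hsrz'' (isConj_iff.mpr ⟨g⁻¹, by rw [← h']; group⟩)
      have hgs : g * s * g⁻¹ = s ∨ g * s * g⁻¹ = z * s := by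
        have hmem : g * s * g⁻¹ ∈ U := (Subgroup.mem_normalizer_iff.mp hg s).mp hsU
        have hne1 : g * s * g⁻¹ ≠ 1 := ne_one_of_orderOf_two (orderOf_conj_two hso)
        rcases hall _ hmem with h' | h' | h' | h'
        · exact absurd h' hne1
        · exfalso; exact hsrz' (isConj_iff.mpr ⟨g, h'⟩)
        · exact Or.inl h'
        · exact Or.inr h'
      have centr : ∀ y : X, y * z * y⁻¹ = z → y * s * y⁻¹ = s →
          y ∈ Subgroup.centralizer (U : Set X) := by
        intro y hyz hys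
        rw [Subgroup.mem_centralizer_iff]
        intro u hu
        have hzc : z * y = y * z := by
          calc z * y = (y * z * y⁻¹) * y := by rw [hyz]
            _ = y * z := by group
        have hsc : s * y = y * s := by
          calc s * y = (y * s * y⁻¹) * y := by rw [hys]
            _ = y * s := by group
        rcases hall u hu with h' | h' | h' | h'
        · rw [h', one_mul, mul_one]
        · rw [h']; exact hzc
        · rw [h']; exact hsc
        · rw [h', mul_assoc, hsc, ← mul_assoc, hzc, mul_assoc]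
      rcases hgs with hgs | hgs
      · exact (le_sup_left : _ ≤ Subgroup.centralizer (U : Set X) ⊔
          ((S : Subgroup X) ⊓ Subgroup.normalizer (U : Set X))) (centr g hgz hgs)
      · have hwN : w ∈ Subgroup.normalizer (U : Set X) := by
          apply mem_normalizer_of_conj_le U w
          intro u hu
          rcases hall u hu with h' | h' | h' | h'
          · rw [h', mul_one, mul_inv_cancel]; exact U.one_mem
          · rw [h', hwz0]; exact hzU
          · rw [h', hws0]; exact U.mul_mem hzU hsU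
          · rw [h']
            have h5 : w * (z * s) * w⁻¹ = (w * z * w⁻¹) * (w * s * w⁻¹) := by group
            rw [h5, hwz0, hws0, ← mul_assoc, hzz, one_mul]; exact hsU
        have hwg : w⁻¹ * g ∈ Subgroup.centralizer (U : Set X) := by
          apply centr
          · calc w⁻¹ * g * z * (w⁻¹ * g)⁻¹ = w⁻¹ * (g * z * g⁻¹) * w := by group
              _ = w⁻¹ * (w * z * w⁻¹) * w := by rw [hgz, hwz0]
              _ = z := by group
          · calc w⁻¹ * g * s * (w⁻¹ * g)⁻¹ = w⁻¹ * (g * s * g⁻¹) * w := by group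
              _ = w⁻¹ * (w * s * w⁻¹) * w := by rw [hgs, hws0]
              _ = s := by group
        have h5 : g = w * (w⁻¹ * g) := by group
        rw [h5]
        exact Subgroup.mul_mem _
          ((le_sup_right : _ ≤ Subgroup.centralizer (U : Set X) ⊔
            ((S : Subgroup X) ⊓ Subgroup.normalizer (U : Set X))) ⟨hwS, hwN⟩)
          ((le_sup_left : _ ≤ Subgroup.centralizer (U : Set X) ⊔
            ((S : Subgroup X) ⊓ Subgroup.normalizer (U : Set X))) hwg)
    · exact sup_le (Subgroup.centralizer_le_normalizer _) inf_le_right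
  refine ⟨hnpc, ?_⟩
  intro hbc
  obtain ⟨N, hN, hc, k', hk'⟩ := npc_of_hasNormalPComplement hnpc
  have hcompl := isComplement'_of_npc N hc hk' S
  have hdisj : ∀ y ∈ N, y ∈ (S : Subgroup X) → y = 1 := by
    intro y hyN hyS
    have h5 := hcompl.disjoint
    rw [Subgroup.disjoint_def] at h5
    exact h5 hyN hyS
  obtain ⟨g, hg⟩ := isConj_iff.mp hbc
  obtain ⟨⟨⟨n, hn⟩, ⟨s, hs⟩⟩, hns⟩ := hcompl.2 g
  have hns' : n * s = g := hns
  have hnN : n ∈ N := hn
  have hsS : s ∈ (S : Subgroup X) := hs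
  have hbS : el e (sr 0) ∈ (S : Subgroup X) := el_mem e _
  obtain ⟨b, hb⟩ : ∃ b : X, b = el e (sr 0) := ⟨_, rfl⟩
  rw [← hb] at hg hbS
  have hvS : s * b * s⁻¹ ∈ (S : Subgroup X) :=
    Subgroup.mul_mem _ (Subgroup.mul_mem _ hsS hbS) (Subgroup.inv_mem _ hsS)
  have hcS : n * (s * b * s⁻¹) * n⁻¹ ∈ (S : Subgroup X) := by
    have h5 : n * (s * b * s⁻¹) * n⁻¹ = g * b * g⁻¹ := by rw [← hns']; group
    rw [h5, hg]; exact el_mem e _
  have h1 : n * (s * b * s⁻¹) * n⁻¹ * (s * b * s⁻¹)⁻¹ ∈ N := by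
    have h5 : n * (s * b * s⁻¹) * n⁻¹ * (s * b * s⁻¹)⁻¹ =
        n * ((s * b * s⁻¹) * n⁻¹ * (s * b * s⁻¹)⁻¹) := by group
    rw [h5]
    exact N.mul_mem hnN (hN.conj_mem _ (N.inv_mem hnN) _)
  have h2' : n * (s * b * s⁻¹) * n⁻¹ * (s * b * s⁻¹)⁻¹ ∈ (S : Subgroup X) :=
    Subgroup.mul_mem _ hcS (Subgroup.inv_mem _ hvS)
  have h3 := mul_inv_eq_one.mp (hdisj _ h1 h2')
  have h4 : s * b * s⁻¹ = el e (sr 1) := by
    rw [← h3, ← hg, ← hns']; group
  have h5 : dchar h2 1 (e ⟨s * b * s⁻¹, hvS⟩) = dchar h2 1 (e ⟨b, hbS⟩) := by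
    have h6 : (⟨s * b * s⁻¹, hvS⟩ : (S : Subgroup X)) = ⟨s, hsS⟩ * ⟨b, hbS⟩ * ⟨s, hsS⟩⁻¹ := rfl
    rw [h6, map_mul, map_mul, map_inv, map_mul, map_mul, map_inv, mul_comm, ← mul_assoc,
      inv_mul_cancel, one_mul]
  have h6 : e ⟨b, hbS⟩ = sr 0 := by
    have h7 : (⟨b, hbS⟩ : (S : Subgroup X)) = ⟨el e (sr 0), el_mem e _⟩ := Subtype.ext hb
    rw [h7]; exact el_e e _
  have h7 : e ⟨s * b * s⁻¹, hvS⟩ = sr 1 := by
    have h8 : (⟨s * b * s⁻¹, hvS⟩ : (S : Subgroup X)) = ⟨el e (sr 1), el_mem e _⟩ :=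
      Subtype.ext h4
    rw [h8]; exact el_e e _
  rw [h6, h7, dchar_sr, dchar_sr, one_mul, one_mul, eps_one hm2, eps_zero'] at h5
  exact absurd h5 (by decide)

theorem dih_trichotomy [Finite X] (S : Sylow 2 X) (m : ℕ) [NeZero m] (h4 : 4 ∣ m)
    (e : (S : Subgroup X) ≃* DihedralGroup m) :
    (Nat.card {C : ConjClasses X // ∃ g : X, ConjClasses.mk g = C ∧ orderOf g = 2} = 1 ∧
      ∀ N : Subgroup X, N.Normal → N.index ≠ 2) ∨
    (Nat.card {C : ConjClasses X // ∃ g : X, ConjClasses.mk g = C ∧ orderOf g = 2} = 2 ∧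
      (∃ N : Subgroup X, N.Normal ∧ N.index = 2) ∧ ∀ N : Subgroup X, N.Normal → N.index ≠ 4) ∨
    (Nat.card {C : ConjClasses X // ∃ g : X, ConjClasses.mk g = C ∧ orderOf g = 2} = 3 ∧
      Cfsg.HasNormalPComplement 2 X) := by
  haveI : Fact (Nat.Prime 2) := ⟨Nat.prime_two⟩
  have h2 : 2 ∣ m := Dvd.dvd.trans (by norm_num) h4
  have hm0 : m ≠ 0 := NeZero.ne m
  have hm2 : 2 ≤ m := by
    obtain ⟨c, hc⟩ := h4
    omega
  obtain ⟨h, hh0, h0, huniq⟩ := half_spec m h2
  obtain ⟨k, hk⟩ : ∃ k : ZMod m, k + k = h := by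
    obtain ⟨c, hc⟩ := h4
    refine ⟨((c : ℕ) : ZMod m), ?_⟩
    apply huniq
    · rw [← Nat.cast_add, ← Nat.cast_add, ZMod.natCast_eq_zero_iff]
      exact ⟨1, by omega⟩
    · rw [← Nat.cast_add, Ne, ZMod.natCast_eq_zero_iff]
      rintro ⟨d, hd⟩
      have hd0 : d ≠ 0 := by rintro rfl; omega
      have : m * 1 ≤ m * d := Nat.mul_le_mul_left m (by omega)
      omega
  have hset : {C : ConjClasses X | ∃ g : X, ConjClasses.mk g = C ∧ orderOf g = 2} =
      {ConjClasses.mk (el e (r h)), ConjClasses.mk (el e (sr 0)),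
        ConjClasses.mk (el e (sr 1))} := by
    ext C
    simp only [Set.mem_insert_iff, Set.mem_singleton_iff]
    constructor
    · rintro ⟨g, rfl, hg⟩
      rcases inv_conj S m e huniq hg with h' | h' | h'
      · exact Or.inl (ConjClasses.mk_eq_mk_iff_isConj.mpr h')
      · exact Or.inr (Or.inl (ConjClasses.mk_eq_mk_iff_isConj.mpr h'))
      · exact Or.inr (Or.inr (ConjClasses.mk_eq_mk_iff_isConj.mpr h'))
    · rintro (rfl | rfl | rfl)
      · exact ⟨_, rfl, el_r_involution e h0 hh0⟩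
      · exact ⟨_, rfl, el_sr_involution e 0⟩
      · exact ⟨_, rfl, el_sr_involution e 1⟩
  have hcard : Nat.card {C : ConjClasses X // ∃ g : X, ConjClasses.mk g = C ∧ orderOf g = 2} =
      ({ConjClasses.mk (el e (r h)), ConjClasses.mk (el e (sr 0)),
        ConjClasses.mk (el e (sr 1))} : Set (ConjClasses X)).ncard := by
    rw [← hset]
    exact Nat.card_coe_set_eq _
  rw [hcard]
  have hmk : ∀ {a b : X}, IsConj a b → ConjClasses.mk a = ConjClasses.mk b :=
    fun h => ConjClasses.mk_eq_mk_iff_isConj.mpr h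
  have hmk' : ∀ {a b : X}, ConjClasses.mk a = ConjClasses.mk b → IsConj a b :=
    fun h => ConjClasses.mk_eq_mk_iff_isConj.mp h
  have heps1 : eps (1 : ZMod m) = -1 := eps_one hm2
  by_cases hb : IsConj (el e (sr 0)) (el e (r h))
  · by_cases hc : IsConj (el e (sr 1)) (el e (r h))
    · left
      constructor
      · rw [hmk hb, hmk hc]
        simp
      · intro N _
        have hP : ∀ a b : X, orderOf a = 2 → orderOf b = 2 → IsConj a b := by
          have key : ∀ x : X, orderOf x = 2 → IsConj x (el e (r h)) := by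
            intro x hx
            rcases inv_conj S m e huniq hx with h' | h' | h'
            · exact h'
            · exact h'.trans hb
            · exact h'.trans hc
          intro a b ha hb'
          exact (key a ha).trans (key b hb').symm
        exact (conj_case S m h2 e hP).1 N
    · right; left
      obtain ⟨hN2, hN4⟩ := two_class S m h2 hm2 e huniq hk 1 0 1
        (by rw [eps_zero', mul_one]) hb hc
      refine ⟨?_, hN2, hN4⟩
      rw [hmk hb, Set.insert_eq_of_mem (Set.mem_insert _ _)]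
      exact Set.ncard_pair (fun h' => hc (hmk' h').symm)
  · by_cases hc : IsConj (el e (sr 1)) (el e (r h))
    · right; left
      obtain ⟨hN2, hN4⟩ := two_class S m h2 hm2 e huniq hk (-1) 1 0
        (by rw [heps1]; rfl) hc hb
      refine ⟨?_, hN2, hN4⟩
      rw [hmk hc, Set.pair_comm (ConjClasses.mk (el e (sr 0))),
        Set.insert_eq_of_mem (Set.mem_insert _ _)]
      exact Set.ncard_pair (fun h' => hb (hmk' h').symm)
    · right; right
      obtain ⟨hnpc, hbc⟩ := no_fusion S m h2 hm2 e hh0 h0 huniq hk hb hc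
      refine ⟨?_, hnpc⟩
      rw [Set.ncard_eq_three]
      exact ⟨_, _, _, fun h' => hb (hmk' h').symm, fun h' => hc (hmk' h').symm,
        fun h' => hbc (hmk' h'), rfl⟩

theorem S3864_main {G : Type*} [Group G] [Finite G] (P : Sylow 2 G) (n : ℕ) (hn : 3 ≤ n)
    (hdih : Nonempty (↥(P : Subgroup G) ≃* DihedralGroup (2 ^ (n - 1)))) :
    (Nat.card {C : ConjClasses G // ∃ g : G, ConjClasses.mk g = C ∧ orderOf g = 2} = 1 ∧
      ∀ N : Subgroup G, N.Normal → N.index ≠ 2) ∨
    (Nat.card {C : ConjClasses G // ∃ g : G, ConjClasses.mk g = C ∧ orderOf g = 2} = 2 ∧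
      (∃ N : Subgroup G, N.Normal ∧ N.index = 2) ∧ ∀ N : Subgroup G, N.Normal → N.index ≠ 4) ∨
    (Nat.card {C : ConjClasses G // ∃ g : G, ConjClasses.mk g = C ∧ orderOf g = 2} = 3 ∧
      Cfsg.HasNormalPComplement 2 G) := by
  obtain ⟨e⟩ := hdih
  haveI : NeZero (2 ^ (n - 1)) := ⟨by positivity⟩
  have h4 : 4 ∣ 2 ^ (n - 1) := by
    have h5 : (4 : ℕ) = 2 ^ 2 := by norm_num
    rw [h5]
    exact pow_dvd_pow 2 (by omega)
  exact dih_trichotomy P (2 ^ (n - 1)) h4 e

end Cfsg.Agent.Lib_helper2_Dih3
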