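import Mathlib
import Cfsg.Agent.Lib_helper2_Dih3

set_option autoImplicit false

namespace Cfsg.Agent.Lib_helper2_DihGrp

open Cfsg.Agent.Lib_helper2_DihSyl2 Cfsg.Agent.Lib_helper2_Dih3
open DihedralGroup

theorem r_nsmul_mem {n : ℕ} (H : Subgroup (DihedralGroup n)) {j : ZMod n} (hj : r j ∈ H)
    (k : ℕ) : r ((k : ZMod n) * j) ∈ H := by
  induction k with
  | zero => rw [Nat.cast_zero, zero_mul, ← one_def]; exact H.one_mem
  | succ k ih =>
    have h1 : ((k + 1 : ℕ) : ZMod n) * j = (k : ZMod n) * j + j := by push_cast; ring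
    rw [h1, ← r_mul_r]; exact H.mul_mem ih hj

theorem nonab_has {n : ℕ} (H : Subgroup (DihedralGroup n)) (hH : ¬ IsMulCommutative H) :
    (∃ i, sr i ∈ H) ∧ ∃ j, r j ∈ H ∧ j + j ≠ 0 := by
  constructor
  · by_contra hcon
    push Not at hcon
    apply hH
    refine ⟨⟨fun x y => Subtype.ext ?_⟩⟩
    obtain ⟨x, hx⟩ := x
    obtain ⟨y, hy⟩ := y
    show x * y = y * x
    cases x with
    | r a =>
      cases y with
      | r b => rw [r_mul_r, r_mul_r, add_comm]
      | sr b => exact absurd hy (hcon b)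
    | sr a => exact absurd hx (hcon a)
  · by_contra hcon
    push Not at hcon
    apply hH
    refine ⟨⟨fun x y => Subtype.ext ?_⟩⟩
    obtain ⟨x, hx⟩ := x
    obtain ⟨y, hy⟩ := y
    show x * y = y * x
    cases x with
    | r a =>
      have ha := hcon a hx
      have hna : -a = a := neg_eq_of_add_eq_zero_left ha
      cases y with
      | r b => rw [r_mul_r, r_mul_r, add_comm]
      | sr b => rw [r_mul_sr, sr_mul_r, sub_eq_add_neg, hna]
    | sr a =>
      cases y with
      | r b =>
        have hb := hcon b hy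
        have hnb : -b = b := neg_eq_of_add_eq_zero_left hb
        rw [r_mul_sr, sr_mul_r, sub_eq_add_neg, hnb]
      | sr b =>
        have h1 : r (b - a) ∈ H := by rw [← sr_mul_sr]; exact H.mul_mem hx hy
        have h2 := hcon _ h1
        rw [sr_mul_sr, sr_mul_sr]
        congr 1
        linear_combination h2

theorem S4074_main (n : ℕ) (hn : 2 < n) :
    (∀ H : Subgroup (DihedralGroup n), ¬ IsMulCommutative H →
      Subgroup.normalizer (H : Set (DihedralGroup n)) = H) ↔
    (n = 4 ∨ Odd n) := by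
  haveI : NeZero n := ⟨by omega⟩
  constructor
  · intro hall
    by_contra hcon
    push Not at hcon
    obtain ⟨hn4, hodd⟩ := hcon
    have heven : Even n := Nat.not_odd_iff_even.mp hodd
    have h2 : 2 ∣ n := even_iff_two_dvd.mp heven
    have hn6 : 6 ≤ n := by obtain ⟨c, hc⟩ := h2; omega
    have hH : ¬ IsMulCommutative (dchar h2 1).ker := by
      intro hc
      have h1 : (r 2 : DihedralGroup n) ∈ (dchar h2 1).ker := by
        rw [MonoidHom.mem_ker, dchar_r]
        have h5 : (2 : ZMod n) = 1 + 1 := by norm_num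
        rw [h5, eps_double h2]
      have h3 : (sr 0 : DihedralGroup n) ∈ (dchar h2 1).ker := by
        rw [MonoidHom.mem_ker, dchar_sr, one_mul, eps_zero']
      have h5 := hc.is_comm.comm (⟨r 2, h1⟩ : (dchar h2 1).ker) ⟨sr 0, h3⟩
      have h6 : (r 2 : DihedralGroup n) * sr 0 = sr 0 * r 2 := congrArg Subtype.val h5
      rw [r_mul_sr, sr_mul_r] at h6
      have h7 : (0 : ZMod n) - 2 = 0 + 2 := sr.inj h6
      have h8 : ((4 : ℕ) : ZMod n) = 0 := by push_cast; linear_combination -h7
      rw [ZMod.natCast_eq_zero_iff] at h8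
      have := Nat.le_of_dvd (by norm_num) h8
      omega
    have h5 := hall _ hH
    have h6 : (sr 1 : DihedralGroup n) ∈ Subgroup.normalizer
        (((dchar h2 1).ker : Subgroup (DihedralGroup n)) : Set (DihedralGroup n)) := by
      rw [Subgroup.mem_normalizer_iff]
      intro x
      rw [MonoidHom.mem_ker, MonoidHom.mem_ker, map_mul, map_mul, map_inv, mul_comm, ← mul_assoc,
        inv_mul_cancel, one_mul]
    rw [h5, MonoidHom.mem_ker, dchar_sr, one_mul, eps_one (by omega)] at h6
    exact absurd h6 (by decide)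
  · intro hn' H hH
    apply le_antisymm _ Subgroup.le_normalizer
    obtain ⟨⟨i, hi⟩, j, hj, hjj⟩ := nonab_has H hH
    have hrot : ∀ a : ZMod n, r a ∈ Subgroup.normalizer (H : Set (DihedralGroup n)) → r a ∈ H := by
      intro a ha
      rcases hn' with h4 | hodd
      · subst h4
        have key : ∀ j : ZMod 4, j + j ≠ 0 → j = 1 ∨ j = 3 := by decide
        have h1 : (r 1 : DihedralGroup 4) ∈ H := by
          rcases key j hjj with h' | h'
          · rw [← h']; exact hj
          · have h5 := r_nsmul_mem H hj 3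
            rw [h'] at h5
            have h6 : ((3 : ℕ) : ZMod 4) * 3 = 1 := by decide
            rwa [h6] at h5
        have h5 := r_nsmul_mem H h1 a.val
        rwa [ZMod.natCast_zmod_val, mul_one] at h5
      · have h1 : r a * sr i * (r a)⁻¹ ∈ H := (Subgroup.mem_normalizer_iff.mp ha (sr i)).mp hi
        have h2 : r a * sr i * (r a)⁻¹ = sr (i - a - a) := by
          rw [mul_inv_eq_iff_eq_mul, r_mul_sr, sr_mul_r, sub_add_cancel]
        rw [h2] at h1
        have h3 : r (i - a - a - i) ∈ H := by rw [← sr_mul_sr]; exact H.mul_mem hi h1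
        obtain ⟨t, ht⟩ := hodd
        have h4 := r_nsmul_mem H h3 t
        have h5 : ((2 * t + 1 : ℕ) : ZMod n) = 0 := by rw [← ht]; exact ZMod.natCast_self n
        push_cast at h5
        have h6 : (t : ZMod n) * (i - a - a - i) = a := by linear_combination (-a) * h5
        rwa [h6] at h4
    intro g hg
    cases g with
    | r a => exact hrot a hg
    | sr a =>
      have h1 : sr a = sr i * r (a - i) := by rw [sr_mul_r]; congr 1; ring
      have h2 : r (a - i) ∈ Subgroup.normalizer (H : Set (DihedralGroup n)) := by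
        have h3 : r (a - i) = (sr i)⁻¹ * sr a := by rw [h1]; group
        rw [h3]
        exact Subgroup.mul_mem _ (Subgroup.inv_mem _ (Subgroup.le_normalizer hi)) hg
      rw [h1]
      exact H.mul_mem hi (hrot _ h2)

theorem noncyc_has {n : ℕ} [NeZero n] (H : Subgroup (DihedralGroup n)) (hH : ¬ IsCyclic H) :
    (∃ i, sr i ∈ H) ∧ ∃ j, r j ∈ H ∧ j ≠ 0 := by
  constructor
  · by_contra hcon
    push Not at hcon
    apply hH
    have hle : H ≤ Subgroup.zpowers (r 1 : DihedralGroup n) := by
      intro x hx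
      cases x with
      | r a =>
        rw [Subgroup.mem_zpowers_iff]
        refine ⟨(a.val : ℤ), ?_⟩
        rw [zpow_natCast, r_one_pow, ZMod.natCast_zmod_val]
      | sr a => exact absurd hx (hcon a)
    exact Subgroup.isCyclic_of_le hle
  · by_contra hcon
    push Not at hcon
    apply hH
    by_cases hex : ∃ i, sr i ∈ H
    · obtain ⟨i, hi⟩ := hex
      have hle : H ≤ Subgroup.zpowers (sr i : DihedralGroup n) := by
        intro x hx
        cases x with
        | r a =>
          have h1 := hcon a hx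
          rw [h1, ← one_def]; exact Subgroup.one_mem _
        | sr a =>
          have h1 : r (a - i) ∈ H := by rw [← sr_mul_sr]; exact H.mul_mem hi hx
          have h2 := hcon _ h1
          rw [sub_eq_zero.mp h2]; exact Subgroup.mem_zpowers _
      exact Subgroup.isCyclic_of_le hle
    · push Not at hex
      have hle : H ≤ Subgroup.zpowers (r 1 : DihedralGroup n) := by
        intro x hx
        cases x with
        | r a =>
          have h1 := hcon a hx
          rw [h1, ← one_def]; exact Subgroup.one_mem _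
        | sr a => exact absurd hx (hex a)
      exact Subgroup.isCyclic_of_le hle

theorem r_half_mem {n : ℕ} [NeZero n] {k : ℕ} (hk : n = 2 ^ k) (H : Subgroup (DihedralGroup n))
    {j h : ZMod n} (hj : r j ∈ H) (hj0 : j ≠ 0)
    (hh : ∀ i : ZMod n, i + i = 0 → i ≠ 0 → i = h) : r h ∈ H := by
  classical
  have hex : ∃ l : ℕ, ((2 ^ l : ℕ) : ZMod n) * j = 0 :=
    ⟨k, by rw [← hk, ZMod.natCast_self, zero_mul]⟩
  have hl0 : Nat.find hex ≠ 0 := by
    intro h0
    have h1 := Nat.find_spec hex
    rw [h0, pow_zero, Nat.cast_one, one_mul] at h1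
    exact hj0 h1
  obtain ⟨l, hl⟩ : ∃ l, Nat.find hex = l + 1 := ⟨Nat.find hex - 1, by omega⟩
  have h1 := Nat.find_spec hex
  rw [hl] at h1
  have h2 : ¬ ((2 ^ l : ℕ) : ZMod n) * j = 0 := Nat.find_min hex (by omega)
  have h3 : ((2 ^ l : ℕ) : ZMod n) * j = h := by
    apply hh _ _ h2
    have h4 : ((2 ^ (l + 1) : ℕ) : ZMod n) * j =
        ((2 ^ l : ℕ) : ZMod n) * j + ((2 ^ l : ℕ) : ZMod n) * j := by
      rw [pow_succ]; push_cast; ring
    rw [← h4]; exact h1
  rw [← h3]; exact r_nsmul_mem H hj _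

/-- the dihedral subgroup of `DihedralGroup n` of rotations and reflections with index
divisible by `d` -/
def evenSub (n d : ℕ) : Subgroup (DihedralGroup n) where
  carrier := {x | ∃ t : ZMod n, x = r ((d : ZMod n) * t) ∨ x = sr ((d : ZMod n) * t)}
  one_mem' := ⟨0, Or.inl (by rw [mul_zero, one_def])⟩
  mul_mem' := by
    rintro x y ⟨t, rfl | rfl⟩ ⟨t', rfl | rfl⟩
    · exact ⟨t + t', Or.inl (by rw [r_mul_r, mul_add])⟩
    · exact ⟨t' - t, Or.inr (by rw [r_mul_sr, mul_sub])⟩
    · exact ⟨t + t', Or.inr (by rw [sr_mul_r, mul_add])⟩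
    · exact ⟨t' - t, Or.inl (by rw [sr_mul_sr, mul_sub])⟩
  inv_mem' := by
    rintro x ⟨t, rfl | rfl⟩
    · exact ⟨-t, Or.inl (by rw [mul_neg]; rfl)⟩
    · exact ⟨t, Or.inr rfl⟩

theorem S3920_main (n : ℕ) (hn : 3 ≤ n) :
    (∀ H : Subgroup (DihedralGroup n), ¬ IsCyclic ↥H →
      Subgroup.centralizer (H : Set (DihedralGroup n)) ≤ H) ↔
    (Odd n ∨ ∃ k : ℕ, n = 2 ^ k) := by
  haveI : NeZero n := ⟨by omega⟩
  constructor
  · intro hall
    by_contra hcon
    push Not at hcon
    obtain ⟨hodd, hpow⟩ := hcon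
    obtain ⟨a, b, hb, hab⟩ := Nat.exists_eq_two_pow_mul_odd (NeZero.ne n)
    have ha : a ≠ 0 := by
      rintro rfl
      rw [pow_zero, one_mul] at hab
      exact hodd (hab ▸ hb)
    have hb1 : b ≠ 1 := by
      rintro rfl
      rw [mul_one] at hab
      exact hpow a hab
    obtain ⟨a', rfl⟩ : ∃ a', a = a' + 1 := ⟨a - 1, by omega⟩
    have hnc : ¬ IsCyclic (evenSub n (2 ^ (a' + 1))) := by
      intro hcyc
      obtain ⟨g, hg⟩ := IsCyclic.exists_generator (α := evenSub n (2 ^ (a' + 1)))
      have h1 : (r ((2 ^ (a' + 1) : ℕ) : ZMod n) : DihedralGroup n) ∈ evenSub n (2 ^ (a' + 1)) :=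
        ⟨1, Or.inl (by rw [mul_one])⟩
      have h2 : (sr 0 : DihedralGroup n) ∈ evenSub n (2 ^ (a' + 1)) :=
        ⟨0, Or.inr (by rw [mul_zero])⟩
      obtain ⟨u, hu⟩ := Subgroup.mem_zpowers_iff.mp (hg ⟨_, h1⟩)
      obtain ⟨v, hv⟩ := Subgroup.mem_zpowers_iff.mp (hg ⟨_, h2⟩)
      have h3 : (⟨_, h1⟩ : evenSub n (2 ^ (a' + 1))) * ⟨_, h2⟩ = ⟨_, h2⟩ * ⟨_, h1⟩ := by
        rw [← hu, ← hv]; exact (Commute.zpow_zpow_self g u v).eq
      have h4 : r ((2 ^ (a' + 1) : ℕ) : ZMod n) * sr 0 =
          sr 0 * r ((2 ^ (a' + 1) : ℕ) : ZMod n) := congrArg Subtype.val h3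
      rw [r_mul_sr, sr_mul_r] at h4
      have h5 := sr.inj h4
      have h6 : ((2 ^ (a' + 1) * 2 : ℕ) : ZMod n) = 0 := by
        rw [Nat.cast_mul]; push_cast at h5 ⊢; linear_combination -h5
      rw [ZMod.natCast_eq_zero_iff] at h6
      rw [hab] at h6
      have h7 : b ∣ 2 := Nat.dvd_of_mul_dvd_mul_left (by positivity) h6
      have h8 : b ≤ 2 := Nat.le_of_dvd (by norm_num) h7
      obtain ⟨c, hc⟩ := hb
      omega
    have hH := hall _ hnc
    have h2n' : n / 2 + n / 2 = n := by
      have h5 : 2 ∣ n := ⟨2 ^ a' * b, by rw [hab, pow_succ]; ring⟩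
      omega
    have h2n : ((n / 2 : ℕ) : ZMod n) + ((n / 2 : ℕ) : ZMod n) = 0 := by
      rw [← Nat.cast_add, h2n', ZMod.natCast_self]
    have hneg : -((n / 2 : ℕ) : ZMod n) = ((n / 2 : ℕ) : ZMod n) :=
      neg_eq_of_add_eq_zero_left h2n
    have hc : r ((n / 2 : ℕ) : ZMod n) ∈ Subgroup.centralizer
        ((evenSub n (2 ^ (a' + 1)) : Subgroup (DihedralGroup n)) : Set (DihedralGroup n)) := by
      rw [Subgroup.mem_centralizer_iff]
      intro x _
      cases x with
      | r i => rw [r_mul_r, r_mul_r, add_comm]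
      | sr i => rw [sr_mul_r, r_mul_sr, sub_eq_add_neg, hneg]
    obtain ⟨t, ht | ht⟩ := hH hc
    · have h1 : ((n / 2 : ℕ) : ZMod n) = ((2 ^ (a' + 1) : ℕ) : ZMod n) * t := r.inj ht
      have ht' : t = ((t.val : ℕ) : ZMod n) := (ZMod.natCast_zmod_val t).symm
      rw [ht', ← Nat.cast_mul, ZMod.natCast_eq_natCast_iff] at h1
      have hd : 2 ^ (a' + 1) ∣ n := ⟨b, hab⟩
      have h2 := Nat.ModEq.of_dvd hd h1
      have h3 : 2 ^ (a' + 1) ∣ n / 2 := by
        rw [← Nat.modEq_zero_iff_dvd]
        exact h2.trans (Nat.modEq_zero_iff_dvd.mpr (dvd_mul_right _ _))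
      have h4 : n / 2 = 2 ^ a' * b := by
        have h5 : n = 2 * (2 ^ a' * b) := by rw [hab, pow_succ]; ring
        omega
      rw [h4, pow_succ] at h3
      have h5 : 2 ∣ b := Nat.dvd_of_mul_dvd_mul_left (by positivity) h3
      obtain ⟨c, hc⟩ := hb
      omega
    · cases ht
  · intro hn' H hH g hg
    obtain ⟨⟨i, hi⟩, j, hj, hj0⟩ := noncyc_has H hH
    have hgi := (Subgroup.mem_centralizer_iff.mp hg) (sr i) hi
    have hgj := (Subgroup.mem_centralizer_iff.mp hg) (r j) hj
    rcases hn' with hodd | ⟨k, hk⟩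
    · obtain ⟨t, ht⟩ := hodd
      have h5 : (2 * (t : ZMod n) + 1) = 0 := by
        have h6 : ((2 * t + 1 : ℕ) : ZMod n) = 0 := by rw [← ht]; exact ZMod.natCast_self n
        push_cast at h6; exact h6
      have hzero : ∀ a : ZMod n, a + a = 0 → a = 0 := by
        intro a ha
        linear_combination (-a) * h5 + ((t : ZMod n) + 1) * ha
      cases g with
      | r a =>
        rw [sr_mul_r, r_mul_sr] at hgi
        have h6 := sr.inj hgi
        have h7 : a = 0 := hzero a (by linear_combination h6)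
        rw [h7, ← one_def]; exact H.one_mem
      | sr a =>
        exfalso
        rw [r_mul_sr, sr_mul_r] at hgj
        have h6 := sr.inj hgj
        exact hj0 (hzero j (by linear_combination -h6))
    · have h2 : 2 ∣ n := by
        rw [hk]
        exact dvd_pow_self 2 (by rintro rfl; rw [pow_zero] at hk; omega)
      obtain ⟨h, hh0, h0, huniq⟩ := half_spec n h2
      have hrh : r h ∈ H := r_half_mem hk H hj hj0 huniq
      cases g with
      | r a =>
        rw [sr_mul_r, r_mul_sr] at hgi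
        have h6 := sr.inj hgi
        have h7 : a + a = 0 := by linear_combination h6
        by_cases ha0 : a = 0
        · rw [ha0, ← one_def]; exact H.one_mem
        · rw [huniq a h7 ha0]; exact hrh
      | sr a =>
        rw [sr_mul_sr, sr_mul_sr] at hgi
        have h6 := r.inj hgi
        have h7 : (a - i) + (a - i) = 0 := by linear_combination h6
        by_cases ha0 : a - i = 0
        · rw [sub_eq_zero.mp ha0]; exact hi
        · have h8 := huniq _ h7 ha0
          have h9 : sr a = sr i * r h := by rw [sr_mul_r, ← h8]; congr 1; ring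
          rw [h9]; exact H.mul_mem hi hrh

end Cfsg.Agent.Lib_helper2_DihGrp
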