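import Cfsg.Statements.S0095


set_option autoImplicit false
open Cfsg

namespace Cfsg.Agent.S0095

universe u

def commHom {P : Type*} [Group P]
    (hcl : ∀ a b : P, a * b * a⁻¹ * b⁻¹ ∈ Subgroup.center P) (a : P) :
    P →* Subgroup.center P where
  toFun g := ⟨a * g * a⁻¹ * g⁻¹, hcl a g⟩
  map_one' := Subtype.ext (by simp)
  map_mul' g h := Subtype.ext (by
    show a * (g * h) * a⁻¹ * (g * h)⁻¹ = (a * g * a⁻¹ * g⁻¹) * (a * h * a⁻¹ * h⁻¹)
    have hc := Subgroup.mem_center_iff.mp (hcl a h) g⁻¹
    calc a * (g * h) * a⁻¹ * (g * h)⁻¹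
        = a * g * a⁻¹ * ((a * h * a⁻¹ * h⁻¹) * g⁻¹) := by group
      _ = a * g * a⁻¹ * (g⁻¹ * (a * h * a⁻¹ * h⁻¹)) := by rw [← hc]
      _ = (a * g * a⁻¹ * g⁻¹) * (a * h * a⁻¹ * h⁻¹) := by group)

theorem commHom_eq_one_iff {P : Type*} [Group P]
    (hcl : ∀ a b : P, a * b * a⁻¹ * b⁻¹ ∈ Subgroup.center P) (a g : P) :
    commHom hcl a g = 1 ↔ a * g = g * a := by
  constructor
  · intro h
    have h1 : a * g * a⁻¹ * g⁻¹ = 1 := congrArg Subtype.val h
    exact mul_inv_eq_iff_eq_mul.mp (mul_inv_eq_one.mp h1)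
  · intro h
    apply Subtype.ext
    show a * g * a⁻¹ * g⁻¹ = 1
    rw [h]; group

theorem card_aux (p : ℕ) [hp : Fact p.Prime] (N : ℕ) : ∀ (P : Type u) [Group P] [Finite P],
    Nat.card P ≤ N → (∀ a b : P, a * b * a⁻¹ * b⁻¹ ∈ Subgroup.center P) →
    Nat.card (Subgroup.center P) = p → ∃ n : ℕ, Nat.card P = p ^ (2 * n + 1) := by
  induction N with
  | zero =>
    intro P _ _ h
    have := Nat.card_pos (α := P)
    omega
  | succ N ih =>
    intro P _ _ hN hcl hZ
    by_cases hZtop : Subgroup.center P = ⊤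
    · refine ⟨0, ?_⟩
      rw [← Subgroup.card_top (G := P), ← hZtop, hZ]; simp
    · obtain ⟨x, hx⟩ : ∃ x : P, x ∉ Subgroup.center P := by
        by_contra hcon
        push Not at hcon
        exact hZtop (eq_top_iff.mpr fun g _ => hcon g)
      obtain ⟨y, hxy⟩ : ∃ y : P, x * y ≠ y * x := by
        by_contra hcon
        push Not at hcon
        exact hx (Subgroup.mem_center_iff.mpr fun g => (hcon g).symm)
      have hzx : commHom hcl x y ≠ 1 := fun h => hxy ((commHom_eq_one_iff hcl x y).mp h)
      have hzy : commHom hcl y x ≠ 1 :=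
        fun h => hxy ((commHom_eq_one_iff hcl y x).mp h).symm
      have hself : ∀ (a : P) (j : ℕ), commHom hcl a (a ^ j) = 1 := by
        intro a j
        rw [commHom_eq_one_iff]
        exact ((Commute.refl a).pow_right j).eq
      have hgen : ∀ z : Subgroup.center P, z ≠ 1 → ∀ w : Subgroup.center P,
          ∃ i : ℕ, z ^ i = w := by
        intro z hz w
        exact mem_powers_of_prime_card hZ hz
      have hpair : ∀ u v : Subgroup.center P, ∃ i j : ℕ,
          commHom hcl x (y ^ i * x ^ j) = u ∧ commHom hcl y (y ^ i * x ^ j) = v := by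
        intro u v
        obtain ⟨i, hi⟩ := hgen _ hzx u
        obtain ⟨j, hj⟩ := hgen _ hzy v
        refine ⟨i, j, ?_, ?_⟩
        · rw [map_mul, map_pow, hself, mul_one, hi]
        · rw [map_mul, hself, one_mul, map_pow, hj]
      have hsurj : Function.Surjective ((commHom hcl x).prod (commHom hcl y)) := by
        rintro ⟨u, v⟩
        obtain ⟨i, j, h1, h2⟩ := hpair u v
        exact ⟨y ^ i * x ^ j, Prod.ext h1 h2⟩
      have hker : ∀ g : P, g ∈ ((commHom hcl x).prod (commHom hcl y)).ker ↔
          x * g = g * x ∧ y * g = g * y := by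
        intro g
        rw [MonoidHom.mem_ker, MonoidHom.prod_apply, Prod.mk_eq_one, commHom_eq_one_iff,
          commHom_eq_one_iff]
      have hidx : ((commHom hcl x).prod (commHom hcl y)).ker.index = p ^ 2 := by
        rw [Subgroup.index_ker, MonoidHom.range_eq_top.mpr hsurj, Subgroup.card_top,
          Nat.card_prod, hZ, sq]
      have hcardP : Nat.card P = p ^ 2 * Nat.card ((commHom hcl x).prod (commHom hcl y)).ker := by
        rw [← hidx]; exact (Subgroup.index_mul_card _).symm
      have hp2 : 2 ≤ p := hp.out.two_le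
      have hlt : Nat.card ((commHom hcl x).prod (commHom hcl y)).ker ≤ N := by
        have h1 : 0 < Nat.card ((commHom hcl x).prod (commHom hcl y)).ker := Nat.card_pos
        have h2 : 4 ≤ p ^ 2 := by nlinarith
        nlinarith
      have hclH : ∀ a b : ((commHom hcl x).prod (commHom hcl y)).ker,
          a * b * a⁻¹ * b⁻¹ ∈ Subgroup.center ((commHom hcl x).prod (commHom hcl y)).ker := by
        intro a b
        rw [Subgroup.mem_center_iff]
        intro g
        apply Subtype.ext
        exact Subgroup.mem_center_iff.mp (hcl a b) g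
      have hcenH : Subgroup.center ((commHom hcl x).prod (commHom hcl y)).ker =
          (Subgroup.center P).subgroupOf ((commHom hcl x).prod (commHom hcl y)).ker := by
        ext h
        rw [Subgroup.mem_subgroupOf, Subgroup.mem_center_iff, Subgroup.mem_center_iff]
        constructor
        · intro hh g
          obtain ⟨i, j, h1, h2⟩ := hpair (commHom hcl x g) (commHom hcl y g)
          have hk : g * (y ^ i * x ^ j)⁻¹ ∈ ((commHom hcl x).prod (commHom hcl y)).ker := by
            rw [MonoidHom.mem_ker, map_mul, map_inv, mul_inv_eq_one, MonoidHom.prod_apply,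
              MonoidHom.prod_apply, h1, h2]
          have hxh := ((hker h).mp h.2).1
          have hyh := ((hker h).mp h.2).2
          have e1 := hh ⟨_, hk⟩
          have e1' : g * (y ^ i * x ^ j)⁻¹ * (h : P) = (h : P) * (g * (y ^ i * x ^ j)⁻¹) :=
            congrArg Subtype.val e1
          have e2 : (y ^ i * x ^ j) * (h : P) = (h : P) * (y ^ i * x ^ j) := by
            have cx : Commute x (h : P) := hxh
            have cy : Commute y (h : P) := hyh
            exact ((cy.pow_left i).mul_left (cx.pow_left j)).eq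
          calc g * (h : P) = g * (y ^ i * x ^ j)⁻¹ * ((y ^ i * x ^ j) * (h : P)) := by group
            _ = g * (y ^ i * x ^ j)⁻¹ * ((h : P) * (y ^ i * x ^ j)) := by rw [e2]
            _ = (g * (y ^ i * x ^ j)⁻¹ * (h : P)) * (y ^ i * x ^ j) := by group
            _ = ((h : P) * (g * (y ^ i * x ^ j)⁻¹)) * (y ^ i * x ^ j) := by rw [e1']
            _ = (h : P) * g := by group
        · intro hh g
          exact Subtype.ext (hh g)
      have hZH : Nat.card (Subgroup.center ((commHom hcl x).prod (commHom hcl y)).ker) = p := by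
        rw [hcenH]
        have hle : Subgroup.center P ≤ ((commHom hcl x).prod (commHom hcl y)).ker := by
          intro c hc
          rw [hker]
          exact ⟨Subgroup.mem_center_iff.mp hc x, Subgroup.mem_center_iff.mp hc y⟩
        rw [Nat.card_congr (Subgroup.subgroupOfEquivOfLe hle).toEquiv, hZ]
      obtain ⟨n, hn⟩ := ih ((commHom hcl x).prod (commHom hcl y)).ker hlt hclH hZH
      refine ⟨n + 1, ?_⟩
      rw [hcardP, hn]; ring



/-- The order of an extraspecial p-group is an odd power p^(2n+1) of p with n ≥ 1. -/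
theorem result {P : Type*} [Group P] [Finite P] {p : ℕ} [Fact p.Prime] (h : Cfsg.IsExtraspecial p P) : ∃ n : ℕ, 1 ≤ n ∧ Nat.card P = p ^ (2 * n + 1) := by
  obtain ⟨⟨hP, hfr, hcomm⟩, hZ⟩ := h
  have hcl : ∀ a b : P, a * b * a⁻¹ * b⁻¹ ∈ Subgroup.center P := by
    intro a b
    rw [← hcomm]
    exact Subgroup.commutator_mem_commutator (Subgroup.mem_top a) (Subgroup.mem_top b)
  obtain ⟨n, hn⟩ := card_aux p (Nat.card P) P le_rfl hcl hZ
  refine ⟨n, ?_, hn⟩
  by_contra hn0
  have hn0' : n = 0 := by omega
  subst hn0'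
  have htop : Subgroup.center P = ⊤ := Subgroup.eq_top_of_card_eq _ (by rw [hZ, hn]; simp)
  have hbot : commutator P = ⊥ := (commutator_eq_bot_iff_center_eq_top P).mpr htop
  rw [hbot] at hcomm
  rw [← hcomm, Subgroup.card_bot] at hZ
  exact (Fact.out : p.Prime).one_lt.ne hZ

end Cfsg.Agent.S0095
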