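import Mathlib
import Cfsg.Prelude.Def_Transfer
import Cfsg.Agent.Lib_helper1_PGroup
import Cfsg.Agent.S0095

namespace Cfsg.Agent.Lib_helper2_ExIdx

open scoped commutatorElement

theorem S3809_main {S : Type*} [Group S] [Finite S] (p : ℕ) [Fact p.Prime] (hS : IsPGroup p S)
    (Q : Subgroup S) (hQ : Cfsg.IsExtraspecial p ↥Q) (hQi : Q.index = p) :
    (∃ n : ℕ, 1 ≤ n ∧ Nat.card S = p ^ (2 + 2 * n)) ∧ derivedSeries S 3 = ⊥ ∧
      ∀ x : S, x ^ (p ^ 3) = 1 := by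
  have hp := (Fact.out : p.Prime)
  obtain ⟨n, hn1, hQcard⟩ := Cfsg.Agent.S0095.result hQ
  obtain ⟨⟨hQP, hfr, hcm⟩, hZc⟩ := hQ
  have hScard : Nat.card S = p ^ (2 + 2 * n) := by
    rw [← Subgroup.card_mul_index Q, hQcard, hQi]; ring
  haveI hQn : Q.Normal := by
    apply Subgroup.normal_of_index_eq_minFac_card
    rw [hQi, hScard, Nat.pow_minFac (by omega), hp.minFac_eq]
  have hQq : Nat.card (S ⧸ Q) = p := by
    rw [← Subgroup.index_eq_card]; exact hQi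
  haveI : IsCyclic (S ⧸ Q) := isCyclic_of_prime_card hQq
  have hqc : ∀ a b : S ⧸ Q, a * b = b * a := by
    obtain ⟨g, hg⟩ := IsCyclic.exists_generator (α := S ⧸ Q)
    intro a b
    obtain ⟨i, rfl⟩ := Subgroup.mem_zpowers_iff.mp (hg a)
    obtain ⟨j, rfl⟩ := Subgroup.mem_zpowers_iff.mp (hg b)
    rw [← zpow_add, ← zpow_add, add_comm]
  have hCQ : commutator S ≤ Q := by
    rw [commutator_eq_closure, Subgroup.closure_le]
    intro g hg
    obtain ⟨g1, g2, rfl⟩ := mem_commutatorSet_iff.mp hg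
    show ⁅g1, g2⁆ ∈ Q
    rw [commutatorElement_def, ← QuotientGroup.eq_one_iff]
    simp only [QuotientGroup.mk_mul, QuotientGroup.mk_inv]
    rw [hqc (g1 : S ⧸ Q) g2]; group
  set Z0 : Subgroup S := (Subgroup.center ↥Q).map Q.subtype with hZ0
  have hQQ : ⁅Q, Q⁆ = Z0 := by
    rw [← Subgroup.map_subtype_commutator Q, hcm]
  have hZ0comm : ∀ a ∈ Z0, ∀ b ∈ Z0, a * b = b * a := by
    rintro _ ⟨a, ha, rfl⟩ _ ⟨b, hb, rfl⟩
    have := Subgroup.mem_center_iff.mp hb a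
    exact congrArg Subtype.val this
  have hD1 : derivedSeries S 1 ≤ Q := by
    rw [derivedSeries_one]; exact hCQ
  have hD2 : derivedSeries S 2 ≤ Z0 := by
    rw [derivedSeries_succ, ← hQQ]
    exact Subgroup.commutator_mono hD1 hD1
  have hD3 : derivedSeries S 3 = ⊥ := by
    rw [derivedSeries_succ, ← le_bot_iff]
    have hbot : ⁅Z0, Z0⁆ = ⊥ := by
      rw [Subgroup.commutator_eq_bot_iff_le_centralizer]
      intro a ha
      rw [Subgroup.mem_centralizer_iff]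
      intro b hb
      exact hZ0comm b hb a ha
    rw [← hbot]
    exact Subgroup.commutator_mono hD2 hD2
  refine ⟨⟨n, hn1, hScard⟩, hD3, ?_⟩
  intro x
  have hxp : x ^ p ∈ Q := by
    rw [← QuotientGroup.eq_one_iff, QuotientGroup.mk_pow]
    have h5 : (x : S ⧸ Q) ^ Nat.card (S ⧸ Q) = 1 := pow_card_eq_one'
    rwa [hQq] at h5
  have h1 : (⟨x ^ p, hxp⟩ : Q) ^ p ∈ Subgroup.center ↥Q := by
    rw [← hfr]
    exact Cfsg.Agent.Lib_helper1_PGroup.pow_p_mem_frattini hQP _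
  have h2 : ((⟨x ^ p, hxp⟩ : Q) ^ p) ^ p = 1 := by
    have hzp : ∀ z : Subgroup.center ↥Q, z ^ p = 1 := by
      intro z
      have h5 : z ^ Nat.card (Subgroup.center ↥Q) = 1 := pow_card_eq_one'
      rwa [hZc] at h5
    have h3 : (⟨(⟨x ^ p, hxp⟩ : Q) ^ p, h1⟩ : Subgroup.center ↥Q) ^ p = 1 := hzp _
    exact congrArg Subtype.val h3
  have h4 : ((x ^ p) ^ p) ^ p = 1 := by
    have := congrArg Subtype.val h2
    simpa using this
  calc x ^ (p ^ 3) = ((x ^ p) ^ p) ^ p := by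
        rw [← pow_mul, ← pow_mul]; congr 1; ring
    _ = 1 := h4

end Cfsg.Agent.Lib_helper2_ExIdx
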