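import Mathlib
import Cfsg.Agent.Lib_helper3_Burnside

set_option autoImplicit false

namespace Cfsg.Agent.Lib_helper3_Burnside2

open Cfsg
open Cfsg.Agent.Lib_helper3_Burnside

universe u

theorem solvable_of_prime_card {G : Type u} [Group G] [Finite G] (h : (Nat.card G).Prime) :
    Group.IsSolvable G := by
  have := Fact.mk h
  have hP : IsPGroup (Nat.card G) G := IsPGroup.of_card (n := 1) (by rw [pow_one])
  have := hP.isNilpotent
  infer_instance

theorem solvable_of_card_prime_pow {G : Type u} [Group G] [Finite G] (p k : ℕ) (hp : p.Prime)
    (h : Nat.card G = p ^ k) : Group.IsSolvable G := by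
  have := Fact.mk hp
  have hP : IsPGroup p G := IsPGroup.of_card h
  have := hP.isNilpotent
  infer_instance

/-- Burnside's `p^a q^b` theorem, in the form: a finite group whose order has at most two
prime divisors is solvable. -/
theorem solvable_of_prime_factors (p q : ℕ) (hp : p.Prime) (hq : q.Prime) :
    ∀ (n : ℕ) (G : Type u) [Group G] [Finite G], Nat.card G = n →
      (∀ r : ℕ, r.Prime → r ∣ n → r = p ∨ r = q) → Group.IsSolvable G := by
  intro n
  induction n using Nat.strong_induction_on with
  | _ n ih =>
    intro G _ _ hcard hP
    by_cases hsimple : IsSimpleGroup G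
    · have := Fact.mk hq
      by_cases hqdvd : q ∣ Nat.card G
      · obtain ⟨Q⟩ : Nonempty (Sylow q G) := inferInstance
        have hQne : (Q : Subgroup G) ≠ ⊥ := Q.ne_bot_of_dvd_card hqdvd
        have hQnt : Nontrivial (Q : Subgroup G) := (Subgroup.nontrivial_iff_ne_bot _).mpr hQne
        have hQp : IsPGroup q (Q : Subgroup G) := Q.isPGroup'
        have hcnt := IsPGroup.center_nontrivial hQp
        obtain ⟨z, hz⟩ := exists_ne (1 : Subgroup.center (Q : Subgroup G))
        let g : G := ((z : (Q : Subgroup G)) : G)
        have hg : g ≠ 1 := by
          intro h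
          apply hz
          apply Subtype.ext
          apply Subtype.ext
          exact h
        have hle : (Q : Subgroup G) ≤ Subgroup.centralizer {g} := by
          intro x hx
          rw [Subgroup.mem_centralizer_iff]
          intro y hy
          rw [Set.mem_singleton_iff] at hy
          subst hy
          have h1 := Subgroup.mem_center_iff.mp z.2 ⟨x, hx⟩
          exact (congrArg Subtype.val h1).symm
        have hdvd : (Subgroup.centralizer {g}).index ∣ (Q : Subgroup G).index :=
          Subgroup.index_dvd_of_le hle
        have hQidx : ∃ m, (Q : Subgroup G).index = p ^ m := by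
          refine ⟨_, Nat.eq_prime_pow_of_unique_prime_dvd ?_ ?_⟩
          · exact Subgroup.index_ne_zero_of_finite
          · intro d hd hdd
            have h1 : d ∣ Nat.card G := hdd.trans (Subgroup.index_dvd_card _)
            rcases hP d hd (hcard ▸ h1) with h | h
            · exact h
            · exfalso
              rw [h] at hdd
              exact Q.not_dvd_index hdd
        obtain ⟨m, hm⟩ := hQidx
        rw [hm] at hdvd
        obtain ⟨k, hk, hk'⟩ := (Nat.dvd_prime_pow hp).mp hdvd
        have hprime := prime_card_of_prime_power_class p k hp g hg hk'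
        exact solvable_of_prime_card hprime
      · have hpow : Nat.card G = p ^ (Nat.card G).primeFactorsList.length := by
          apply Nat.eq_prime_pow_of_unique_prime_dvd Nat.card_pos.ne'
          intro d hd hdd
          rcases hP d hd (hcard ▸ hdd) with h | h
          · exact h
          · exfalso
            rw [h] at hdd
            exact hqdvd hdd
        exact solvable_of_card_prime_pow p _ hp hpow
    · by_cases hnt : Nontrivial G
      · have hex : ∃ H : Subgroup G, H.Normal ∧ H ≠ ⊥ ∧ H ≠ ⊤ := by
          by_contra hcon
          push Not at hcon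
          apply hsimple
          refine ⟨fun H hH => ?_⟩
          by_cases h : H = ⊥
          · exact Or.inl h
          · exact Or.inr (hcon H hH h)
        obtain ⟨H, hHn, hH1, hH2⟩ := hex
        have hHcard : Nat.card H ∣ Nat.card G := Subgroup.card_subgroup_dvd_card H
        have hQcard : Nat.card (G ⧸ H) ∣ Nat.card G := by
          rw [← Subgroup.index_eq_card]
          exact Subgroup.index_dvd_card H
        have hmul : Nat.card H * H.index = Nat.card G := Subgroup.card_mul_index H
        have hH1' : 1 < Nat.card H := (Subgroup.one_lt_card_iff_ne_bot (H := H)).mpr hH1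
        have hidx1 : 1 < H.index := by
          have h0 : H.index ≠ 0 := Subgroup.index_ne_zero_of_finite
          have h1 : H.index ≠ 1 := fun h => hH2 (Subgroup.index_eq_one.mp h)
          omega
        have hHpos : 0 < Nat.card H := Nat.card_pos
        have h1 : Nat.card H < n := by
          rw [← hcard, ← hmul]
          nlinarith
        have h2 : Nat.card (G ⧸ H) < n := by
          rw [← hcard, ← hmul, ← Subgroup.index_eq_card]
          nlinarith
        have s1 : Group.IsSolvable H :=
          ih (Nat.card H) h1 H rfl (fun r hr hrd => hP r hr (hcard ▸ hrd.trans hHcard))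
        have s2 : Group.IsSolvable (G ⧸ H) :=
          ih (Nat.card (G ⧸ H)) h2 (G ⧸ H) rfl
            (fun r hr hrd => hP r hr (hcard ▸ hrd.trans hQcard))
        exact Group.isSolvable_of_ker_le_range H.subtype (QuotientGroup.mk' H) (by simp)
      · rw [not_nontrivial_iff_subsingleton] at hnt
        infer_instance

theorem burnside_paqb {G : Type u} [Group G] [Finite G] (p q a b : ℕ) (hp : p.Prime)
    (hq : q.Prime) (hcard : Nat.card G = p ^ a * q ^ b) : Group.IsSolvable G := by
  apply solvable_of_prime_factors p q hp hq (Nat.card G) G rfl
  intro r hr hrd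
  rw [hcard] at hrd
  rcases (Nat.Prime.dvd_mul hr).mp hrd with h | h
  · left
    exact (Nat.prime_dvd_prime_iff_eq hr hp).mp (hr.dvd_of_dvd_pow h)
  · right
    exact (Nat.prime_dvd_prime_iff_eq hr hq).mp (hr.dvd_of_dvd_pow h)

end Cfsg.Agent.Lib_helper3_Burnside2
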