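import Mathlib
import Cfsg.Prelude.Def_Characters
import Cfsg.Agent.Lib_helper3_CharBasic
import Cfsg.Agent.Lib_helper3_CharDiag
import Cfsg.Agent.Lib_helper3_IntLemmas

set_option autoImplicit false

namespace Cfsg.Agent.Lib_helper3_CharCongr

open Cfsg
open Cfsg.Agent.Lib_helper3_CharBasic Cfsg.Agent.Lib_helper3_CharDiag
open Cfsg.Agent.Lib_helper3_IntLemmas
open scoped ComplexConjugate

universe u v

variable {G : Type u} [Group G] [Finite G]

/-- Simultaneous eigenvalues of two commuting elements. -/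
theorem exists_eigen_pair {χ : G → ℂ} (hχ : IsCharacter G χ) (x y : G) (hxy : x * y = y * x) :
    ∃ (ι : Type) (_ : Fintype ι) (a b : ι → ℂ),
      (∀ i, a i ^ orderOf x = 1) ∧ (∀ i, b i ^ orderOf y = 1) ∧
      (∀ m n : ℕ, χ (x ^ m * y ^ n) = ∑ i, a i ^ m * b i ^ n) := by
  classical
  obtain ⟨n, ρ, rfl⟩ := hχ
  have hcomm : IsMulCommutative (Subgroup.closure ({x, y} : Set G)) := by
    apply Subgroup.isMulCommutative_closure
    intro u hu v hv
    simp only [Set.mem_insert_iff, Set.mem_singleton_iff] at hu hv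
    rcases hu with rfl | rfl <;> rcases hv with rfl | rfl
    · rfl
    · exact hxy
    · exact hxy.symm
    · rfl
  let A := Subgroup.closure ({x, y} : Set G)
  have hxA : x ∈ A := Subgroup.subset_closure (by simp)
  have hyA : y ∈ A := Subgroup.subset_closure (by simp)
  let σ : Representation ℂ A (Fin n → ℂ) := ρ.comp A.subtype
  obtain ⟨ι, _, b, lam, hb⟩ := exists_diag σ
  refine ⟨ι, inferInstance, fun i => (lam i ⟨x, hxA⟩ : ℂ), fun i => (lam i ⟨y, hyA⟩ : ℂ), ?_, ?_, ?_⟩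
  · intro i
    have h1 : (⟨x, hxA⟩ : A) ^ orderOf x = 1 := by
      apply Subtype.ext
      simp [pow_orderOf_eq_one]
    have h2 : (lam i ⟨x, hxA⟩) ^ orderOf x = 1 := by rw [← map_pow, h1, map_one]
    have h3 := congrArg (Units.val) h2
    simpa using h3
  · intro i
    have h1 : (⟨y, hyA⟩ : A) ^ orderOf y = 1 := by
      apply Subtype.ext
      simp [pow_orderOf_eq_one]
    have h2 : (lam i ⟨y, hyA⟩) ^ orderOf y = 1 := by rw [← map_pow, h1, map_one]
    have h3 := congrArg (Units.val) h2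
    simpa using h3
  · intro m k
    have h1 := char_eq_sum_of_diag σ b lam hb ((⟨x, hxA⟩ : A) ^ m * (⟨y, hyA⟩ : A) ^ k)
    have h2 : σ.character ((⟨x, hxA⟩ : A) ^ m * (⟨y, hyA⟩ : A) ^ k) = ρ.character (x ^ m * y ^ k) := rfl
    rw [← h2, h1]
    apply Finset.sum_congr rfl
    intro i _
    rw [map_mul, map_pow, map_pow, Units.val_mul, Units.val_pow_eq_pow_val,
      Units.val_pow_eq_pow_val]

theorem isIntegral_of_pow_eq_one {z : ℂ} {n : ℕ} (hn : 0 < n) (h : z ^ n = 1) : IsIntegral ℤ z :=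
  ⟨Polynomial.X ^ n - 1, Polynomial.monic_X_pow_sub_C 1 hn.ne', by simp [h]⟩

/-- If `x` has prime order `p` and commutes with `y` then `χ(xy) - χ(y)` is divisible by `1 - ε`
in the ring of algebraic integers, for a character `χ`. -/
theorem char_mul_sub_char {χ : G → ℂ} (hχ : IsCharacter G χ) (p : ℕ) (hp : p.Prime) (x y : G)
    (hx : orderOf x = p) (hxy : x * y = y * x) :
    ∃ ω : ℂ, IsIntegral ℤ ω ∧
      χ (x * y) - χ y = (1 - Complex.exp (2 * Real.pi * Complex.I / p)) * ω := by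
  classical
  have hpne : NeZero p := ⟨hp.ne_zero⟩
  have hε : IsPrimitiveRoot (Complex.exp (2 * Real.pi * Complex.I / p)) p :=
    Complex.isPrimitiveRoot_exp p hp.ne_zero
  set ε := Complex.exp (2 * Real.pi * Complex.I / p) with hεdef
  obtain ⟨ι, _, a, b, ha, hb, hsum⟩ := exists_eigen_pair hχ x y hxy
  rw [hx] at ha
  have hk : ∀ i, ∃ k : ℕ, ε ^ k = a i := by
    intro i
    obtain ⟨k, _, hk⟩ := hε.eq_pow_of_pow_eq_one (ha i)
    exact ⟨k, hk⟩
  choose k hk using hk
  have h1 := hsum 1 1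
  have h2 := hsum 0 1
  simp only [pow_one, pow_zero, one_mul] at h1 h2
  have hεint : IsIntegral ℤ ε := hε.isIntegral hp.pos
  refine ⟨∑ i, -(∑ j ∈ Finset.range (k i), ε ^ j) * b i, ?_, ?_⟩
  · apply IsIntegral.sum
    intro i _
    apply IsIntegral.mul
    · apply IsIntegral.neg
      apply IsIntegral.sum
      intro j _
      exact hεint.pow j
    · exact isIntegral_of_pow_eq_one (orderOf_pos y) (hb i)
  · rw [h1, h2, ← Finset.sum_sub_distrib, Finset.mul_sum]
    apply Finset.sum_congr rfl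
    intro i _
    rw [← hk i]
    have := mul_neg_geom_sum ε (k i)
    linear_combination (b i) * this

theorem genChar_mul_sub_char {χ : G → ℂ} (hχ : IsGeneralizedCharacter G χ) (p : ℕ) (hp : p.Prime)
    (x y : G) (hx : orderOf x = p) (hxy : x * y = y * x) :
    ∃ ω : ℂ, IsIntegral ℤ ω ∧
      χ (x * y) - χ y = (1 - Complex.exp (2 * Real.pi * Complex.I / p)) * ω := by
  obtain ⟨χ₁, χ₂, h1, h2, rfl⟩ := hχ
  obtain ⟨ω₁, hω₁, e₁⟩ := char_mul_sub_char h1 p hp x y hx hxy
  obtain ⟨ω₂, hω₂, e₂⟩ := char_mul_sub_char h2 p hp x y hx hxy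
  refine ⟨ω₁ - ω₂, hω₁.sub hω₂, ?_⟩
  simp only [Pi.sub_apply]
  linear_combination e₁ - e₂

end Cfsg.Agent.Lib_helper3_CharCongr
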