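import Mathlib
import Cfsg.Prelude.Def_Characters
import Cfsg.Agent.Lib_helper3_CharBasic
import Cfsg.Agent.Lib_helper3_CharDiag
import Cfsg.Agent.Lib_helper3_CharCongr

set_option autoImplicit false

namespace Cfsg.Agent.Lib_helper3_Galois

open Cfsg
open Cfsg.Agent.Lib_helper3_CharBasic Cfsg.Agent.Lib_helper3_CharDiag
open Cfsg.Agent.Lib_helper3_CharCongr
open scoped ComplexConjugate

universe u v

/-- The standard primitive `N`-th root of unity. -/
noncomputable def zetaN (N : ℕ) : ℂ := Complex.exp (2 * Real.pi * Complex.I / N)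

theorem zetaN_prim (N : ℕ) (hN : N ≠ 0) : IsPrimitiveRoot (zetaN N) N :=
  Complex.isPrimitiveRoot_exp N hN

/-- The `N`-th cyclotomic field inside `ℂ`. -/
noncomputable def KN (N : ℕ) : IntermediateField ℚ ℂ := IntermediateField.adjoin ℚ {zetaN N}

theorem zetaN_mem (N : ℕ) : zetaN N ∈ KN N :=
  IntermediateField.subset_adjoin ℚ _ (Set.mem_singleton _)

theorem mem_KN_of_pow_eq_one {N : ℕ} (hN : N ≠ 0) {w : ℂ} (hw : w ^ N = 1) : w ∈ KN N := by
  have : NeZero N := ⟨hN⟩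
  obtain ⟨i, _, hi⟩ := (zetaN_prim N hN).eq_pow_of_pow_eq_one hw
  rw [← hi]
  exact pow_mem (zetaN_mem N) i

theorem isIntegral_zetaN {N : ℕ} (hN : N ≠ 0) : IsIntegral ℚ (zetaN N) :=
  ⟨Polynomial.X ^ N - 1, Polynomial.monic_X_pow_sub_C 1 hN, by
    simp [(zetaN_prim N hN).pow_eq_one]⟩

theorem finiteDimensional_KN {N : ℕ} (hN : N ≠ 0) : FiniteDimensional ℚ (KN N) :=
  IntermediateField.adjoin.finiteDimensional (isIntegral_zetaN hN)

/-- Every embedding of the cyclotomic field raises roots of unity to a fixed power prime to `N`. -/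
theorem exists_pow_of_algHom {N : ℕ} (hN : N ≠ 0) (φ : KN N →ₐ[ℚ] ℂ) :
    ∃ k : ℕ, Nat.Coprime k N ∧ ∀ w : KN N, w ^ N = 1 → φ w = ((w : KN N) : ℂ) ^ k := by
  have : NeZero N := ⟨hN⟩
  let z : KN N := ⟨zetaN N, zetaN_mem N⟩
  have hz : IsPrimitiveRoot z N :=
    IsPrimitiveRoot.of_map_of_injective (f := (KN N).val) (zetaN_prim N hN) (KN N).val.injective
  have hφz : IsPrimitiveRoot (φ z) N := hz.map_of_injective φ.injective
  obtain ⟨k, hk, hkz⟩ := (zetaN_prim N hN).eq_pow_of_pow_eq_one hφz.pow_eq_one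
  have hcop : Nat.Coprime k N := by
    rw [← hkz] at hφz
    exact ((zetaN_prim N hN).pow_iff_coprime (Nat.pos_of_ne_zero hN) k).mp hφz
  refine ⟨k, hcop, ?_⟩
  intro w hw
  obtain ⟨j, _, hj⟩ := hz.eq_pow_of_pow_eq_one hw
  rw [← hj, map_pow, ← hkz]
  show (zetaN N ^ k) ^ j = (((z ^ j : KN N) : KN N) : ℂ) ^ k
  have : (((z ^ j : KN N) : KN N) : ℂ) = zetaN N ^ j := by simp [z]
  rw [this, ← pow_mul, ← pow_mul, mul_comm]

section Char

variable {G : Type u} [Group G] [Finite G]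

/-- Character values lie in the cyclotomic field and embeddings act through power maps. -/
theorem exists_val {χ : G → ℂ} (hχ : IsCharacter G χ) (x : G) :
    ∃ a : KN (Nat.card G), ((a : KN (Nat.card G)) : ℂ) = χ x ∧ IsIntegral ℤ a ∧
      ∀ (φ : KN (Nat.card G) →ₐ[ℚ] ℂ) (k : ℕ),
        (∀ w : KN (Nat.card G), w ^ Nat.card G = 1 → φ w = ((w : KN (Nat.card G)) : ℂ) ^ k) →
        φ a = χ (x ^ k) := by
  classical
  have hN : Nat.card G ≠ 0 := Nat.card_pos.ne'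
  obtain ⟨n, ρ, rfl⟩ := hχ
  obtain ⟨ι, _, b, ε, h1, h2, h3, h4, h5⟩ := exists_eigen ρ x
  have hεN : ∀ i, ε i ^ Nat.card G = 1 := by
    intro i
    obtain ⟨m, hm⟩ := orderOf_dvd_natCard x
    rw [hm, pow_mul, h2 i, one_pow]
  let e : ι → KN (Nat.card G) := fun i => ⟨ε i, mem_KN_of_pow_eq_one hN (hεN i)⟩
  have heN : ∀ i, e i ^ Nat.card G = 1 := fun i => Subtype.ext (by simp [e, hεN i])
  refine ⟨∑ i, e i, ?_, ?_, ?_⟩
  · have := h4 1
    simp only [pow_one] at this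
    rw [this]
    simp [e]
  · apply IsIntegral.sum
    intro i _
    exact ⟨Polynomial.X ^ Nat.card G - 1, Polynomial.monic_X_pow_sub_C 1 hN, by simp [heN i]⟩
  · intro φ k hφ
    rw [map_sum, h4 k]
    apply Finset.sum_congr rfl
    intro i _
    rw [hφ (e i) (heN i)]

end Char

section KeyLemma

theorem sum_pow_coprime {G : Type u} [Group G] [Fintype G] [DecidableEq G] (S : Finset G) (k : ℕ)
    (hk : Nat.Coprime k (Nat.card G)) (hS : ∀ x ∈ S, x ^ k ∈ S) (f : G → ℝ) :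
    ∑ x ∈ S, f (x ^ k) = ∑ x ∈ S, f x := by
  have hinj : Function.Injective (fun x : G => x ^ k) := (powCoprime hk.symm).injective
  have himg : S.image (fun x => x ^ k) = S := by
    apply Finset.eq_of_subset_of_card_le
    · intro y hy
      obtain ⟨x, hx, rfl⟩ := Finset.mem_image.mp hy
      exact hS x hx
    · rw [Finset.card_image_of_injective _ hinj]
  conv_rhs => rw [← himg]
  rw [Finset.sum_image (fun x _ y _ h => hinj h)]

/-- AM-GM in the form: nonnegative reals with product at least one have sum at least their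
number. -/
theorem card_le_sum_of_one_le_prod {ι : Type*} [Fintype ι] (z : ι → ℝ) (hz : ∀ i, 0 ≤ z i)
    (h : 1 ≤ ∏ i, z i) : (Fintype.card ι : ℝ) ≤ ∑ i, z i := by
  rcases isEmpty_or_nonempty ι with h0 | h0
  · simp
  have hm : (0 : ℝ) < Fintype.card ι := by exact_mod_cast Fintype.card_pos
  have h2 := Real.geom_mean_le_arith_mean_weighted Finset.univ
    (fun _ => (Fintype.card ι : ℝ)⁻¹) z (fun _ _ => by positivity)
    (by simp) (fun i _ => hz i)
  rw [Real.finsetProd_rpow _ _ (fun i _ => hz i)] at h2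
  have h1 : (1 : ℝ) ≤ (∏ i, z i) ^ (Fintype.card ι : ℝ)⁻¹ := Real.one_le_rpow h (by positivity)
  rw [← Finset.mul_sum] at h2
  have h3 := h1.trans h2
  rwa [inv_mul_eq_div, le_div_iff₀ hm, one_mul] at h3

/-- Burnside's argument: on a set closed under coprime powers, the sum of the `p`-th powers of
the absolute values of a character is at least the number of its non-zeros. -/
theorem card_nonzero_le_sum {G : Type u} [Group G] [Fintype G] {χ : G → ℂ} (hχ : IsCharacter G χ)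
    (S : Finset G) (hS : ∀ k : ℕ, Nat.Coprime k (Nat.card G) → ∀ x ∈ S, x ^ k ∈ S) (p : ℕ) :
    ((S.filter (fun x => χ x ≠ 0)).card : ℝ) ≤ ∑ x ∈ S, ‖χ x‖ ^ p := by
  classical
  have hN : Nat.card G ≠ 0 := Nat.card_pos.ne'
  have hfd := finiteDimensional_KN hN
  have hne : Nonempty (KN (Nat.card G) →ₐ[ℚ] ℂ) := ⟨(KN (Nat.card G)).val⟩
  choose a ha1 ha2 ha3 using (fun x => exists_val hχ x)
  choose k hk1 hk2 using (fun φ : KN (Nat.card G) →ₐ[ℚ] ℂ => exists_pow_of_algHom hN φ)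
  have hφa : ∀ (φ : KN (Nat.card G) →ₐ[ℚ] ℂ) (x : G), φ (a x) = χ (x ^ k φ) :=
    fun φ x => ha3 x φ (k φ) (hk2 φ)
  have hi : ∀ x : G, χ x ≠ 0 → (Fintype.card (KN (Nat.card G) →ₐ[ℚ] ℂ) : ℝ) ≤
      ∑ φ : KN (Nat.card G) →ₐ[ℚ] ℂ, ‖χ (x ^ k φ)‖ ^ p := by
    intro x hx
    apply card_le_sum_of_one_le_prod
    · intro φ; positivity
    · have hax : a x ≠ 0 := by
        intro h0
        apply hx
        rw [← ha1 x, h0]
        simp
      have hnorm_int : IsIntegral ℤ (Algebra.norm ℚ (a x)) := Algebra.isIntegral_norm ℚ (ha2 x)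
      obtain ⟨m, hm⟩ := IsIntegrallyClosed.isIntegral_iff.mp hnorm_int
      have hprod := Algebra.norm_eq_prod_embeddings ℚ ℂ (a x)
      have hm0 : m ≠ 0 := by
        intro h0
        rw [h0, map_zero] at hm
        exact hax (Algebra.norm_eq_zero_iff.mp hm.symm)
      have h1 : (1 : ℝ) ≤ ‖∏ φ : KN (Nat.card G) →ₐ[ℚ] ℂ, φ (a x)‖ := by
        rw [← hprod, ← hm]
        have h7 : ‖((algebraMap ℚ ℂ) ((algebraMap ℤ ℚ) m))‖ = |(m : ℝ)| := by simp
        rw [h7]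
        have h8 : (1 : ℤ) ≤ |m| := Int.one_le_abs hm0
        exact_mod_cast h8
      rw [Finset.prod_pow]
      apply one_le_pow₀
      rw [norm_prod] at h1
      simpa only [hφa] using h1
  have hii : ∀ φ : KN (Nat.card G) →ₐ[ℚ] ℂ, ∑ x ∈ S, ‖χ (x ^ k φ)‖ ^ p = ∑ x ∈ S, ‖χ x‖ ^ p :=
    fun φ => sum_pow_coprime S (k φ) (hk1 φ) (hS (k φ) (hk1 φ)) (fun x => ‖χ x‖ ^ p)
  have hsum : ∑ x ∈ S, ∑ φ : KN (Nat.card G) →ₐ[ℚ] ℂ, ‖χ (x ^ k φ)‖ ^ p =
      (Fintype.card (KN (Nat.card G) →ₐ[ℚ] ℂ) : ℝ) * ∑ x ∈ S, ‖χ x‖ ^ p := by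
    rw [Finset.sum_comm]
    simp only [hii]
    simp
  have hge : ((S.filter (fun x => χ x ≠ 0)).card : ℝ) *
      (Fintype.card (KN (Nat.card G) →ₐ[ℚ] ℂ) : ℝ) ≤
      ∑ x ∈ S, ∑ φ : KN (Nat.card G) →ₐ[ℚ] ℂ, ‖χ (x ^ k φ)‖ ^ p := by
    calc ((S.filter (fun x => χ x ≠ 0)).card : ℝ) *
          (Fintype.card (KN (Nat.card G) →ₐ[ℚ] ℂ) : ℝ)
        = ∑ x ∈ S.filter (fun x => χ x ≠ 0), (Fintype.card (KN (Nat.card G) →ₐ[ℚ] ℂ) : ℝ) := by
          simp
      _ ≤ ∑ x ∈ S.filter (fun x => χ x ≠ 0),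
            ∑ φ : KN (Nat.card G) →ₐ[ℚ] ℂ, ‖χ (x ^ k φ)‖ ^ p :=
          Finset.sum_le_sum (fun x hx => hi x (Finset.mem_filter.mp hx).2)
      _ ≤ ∑ x ∈ S, ∑ φ : KN (Nat.card G) →ₐ[ℚ] ℂ, ‖χ (x ^ k φ)‖ ^ p :=
          Finset.sum_le_sum_of_subset_of_nonneg (Finset.filter_subset _ _)
            (fun x _ _ => Finset.sum_nonneg (fun φ _ => by positivity))
  rw [hsum] at hge
  have hE : (0 : ℝ) < Fintype.card (KN (Nat.card G) →ₐ[ℚ] ℂ) := by
    exact_mod_cast Fintype.card_pos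
  rw [mul_comm] at hge
  exact le_of_mul_le_mul_left hge hE

end KeyLemma

end Cfsg.Agent.Lib_helper3_Galois
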