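import Mathlib
import Cfsg.Prelude.Def_Characters
import Cfsg.Agent.Lib_helper3_CharBasic
import Cfsg.Agent.Lib_helper3_CharMore
import Cfsg.Agent.Lib_helper3_CharDiag
import Cfsg.Agent.Lib_helper3_Galois

set_option autoImplicit false

namespace Cfsg.Agent.Lib_helper3_Galois2

open Cfsg
open Cfsg.Agent.Lib_helper3_CharBasic Cfsg.Agent.Lib_helper3_CharDiag
open Cfsg.Agent.Lib_helper3_CharMore Cfsg.Agent.Lib_helper3_Galois
open scoped ComplexConjugate

universe u v

variable {G : Type u} [Group G]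

theorem pow_ne_one_of_coprime [Finite G] {x : G} (hx : x ≠ 1) {k : ℕ}
    (hk : Nat.Coprime k (Nat.card G)) : x ^ k ≠ 1 := by
  intro h
  apply hx
  have h1 : orderOf x ∣ k := orderOf_dvd_of_pow_eq_one h
  have h2 : orderOf x ∣ Nat.card G := orderOf_dvd_natCard x
  have h3 : orderOf x ∣ 1 := by
    have := Nat.dvd_gcd h1 h2
    rwa [hk] at this
  exact orderOf_eq_one_iff.mp (Nat.dvd_one.mp h3)

/-- The sum of squared absolute values of an irreducible character is the group order. -/
theorem sum_norm_sq_irr [Fintype G] {χ : G → ℂ} (hχ : IsIrrCharacter G χ) :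
    ∑ x : G, ‖χ x‖ ^ 2 = (Nat.card G : ℝ) := by
  have h1 := irr_inner_self hχ
  rw [classInner_self_eq] at h1
  have hG0 := card_ne_zero (G := G)
  have h2 : ((∑ g : G, ‖χ g‖ ^ 2 : ℝ) : ℂ) = (Nat.card G : ℂ) := by
    field_simp at h1
    exact h1
  exact_mod_cast h2

/-- Burnside: a non-linear irreducible character vanishes somewhere. -/
theorem exists_zero_of_irr [Finite G] {χ : G → ℂ} (hχ : IsIrrCharacter G χ) {d : ℕ}
    (hd : χ 1 = d) (hd1 : 1 < d) : ∃ g : G, χ g = 0 := by
  classical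
  have := Fintype.ofFinite G
  by_contra hcon
  push Not at hcon
  have hsum := sum_norm_sq_irr hχ
  have hKL := card_nonzero_le_sum (isCharacter_of_irr hχ) (Finset.univ.erase (1 : G))
    (fun k hk x hx => by
      rw [Finset.mem_erase] at hx ⊢
      exact ⟨pow_ne_one_of_coprime hx.1 hk, Finset.mem_univ _⟩) 2
  have hfilter : (Finset.univ.erase (1 : G)).filter (fun x => χ x ≠ 0) = Finset.univ.erase (1 : G) := by
    apply Finset.filter_true_of_mem
    intro x _
    exact hcon x
  rw [hfilter, Finset.card_erase_of_mem (Finset.mem_univ _), Finset.card_univ] at hKL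
  rw [← Finset.add_sum_erase Finset.univ _ (Finset.mem_univ (1 : G)), hd] at hsum
  have hN : 1 ≤ Fintype.card G := Fintype.card_pos
  have h1 : ((Fintype.card G - 1 : ℕ) : ℝ) = (Fintype.card G : ℝ) - 1 := by
    rw [Nat.cast_sub hN]; simp
  rw [h1] at hKL
  have h2 : ‖((d : ℂ))‖ ^ 2 = (d : ℝ) ^ 2 := by simp
  rw [h2, Nat.card_eq_fintype_card] at hsum
  have h3 : (2 : ℝ) ≤ d := by exact_mod_cast hd1
  nlinarith

end Cfsg.Agent.Lib_helper3_Galois2
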