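import Mathlib

set_option autoImplicit false

namespace Cfsg.Agent.Lib_helper4_Card

open Matrix

variable {ι F : Type*} [Fintype ι] [DecidableEq ι] [Field F]

lemma range_toGL_eq_ker_det :
    (SpecialLinearGroup.toGL : SpecialLinearGroup ι F →* GL ι F).range =
      (GeneralLinearGroup.det : GL ι F →* Fˣ).ker := by
  ext g
  constructor
  · rintro ⟨s, rfl⟩
    rw [MonoidHom.mem_ker]
    apply Units.ext
    simp
  · intro hg
    rw [MonoidHom.mem_ker] at hg
    have hdet : (g : Matrix ι ι F).det = 1 := by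
      have := congrArg (fun u : Fˣ => (u : F)) hg
      simpa using this
    exact ⟨⟨(g : Matrix ι ι F), hdet⟩, Units.ext rfl⟩

lemma card_SL_mul [Finite F] [Nonempty ι] :
    Nat.card (SpecialLinearGroup ι F) * Nat.card Fˣ = Nat.card (GL ι F) := by
  have h1 : Nat.card (SpecialLinearGroup ι F) =
      Nat.card (GeneralLinearGroup.det : GL ι F →* Fˣ).ker := by
    rw [← range_toGL_eq_ker_det]
    exact Nat.card_congr (Equiv.ofInjective _ SpecialLinearGroup.toGL_injective)
  have h2 : (GeneralLinearGroup.det : GL ι F →* Fˣ).ker.index = Nat.card Fˣ := by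
    rw [Subgroup.index_ker, MonoidHom.range_eq_top.mpr GeneralLinearGroup.det_surjective]
    exact Nat.card_congr Subgroup.topEquiv.toEquiv
  rw [h1, ← h2, Subgroup.card_mul_index]

/-- `(q - 1) |SL_n(q)| = ∏ (q^n - q^i)`. -/
theorem card_SL [Fintype F] {q : ℕ} (hF : Fintype.card F = q) (n : ℕ) (hn : 1 ≤ n) :
    (q - 1) * Nat.card (SpecialLinearGroup (Fin n) F) = ∏ i : Fin n, (q ^ n - q ^ (i : ℕ)) := by
  have : Nonempty (Fin n) := ⟨⟨0, hn⟩⟩
  rw [← hF, ← Matrix.card_GL_field, ← card_SL_mul, Nat.card_units, Nat.card_eq_fintype_card (α := F), mul_comm]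

/-- The centre of `SL_n(q)` has order `gcd(n, q - 1)`. -/
theorem card_center_SL [Fintype F] {q : ℕ} (hF : Fintype.card F = q) (n : ℕ) (hn : 1 ≤ n) :
    Nat.card (Subgroup.center (SpecialLinearGroup (Fin n) F)) = Nat.gcd n (q - 1) := by
  rw [Nat.card_congr (SpecialLinearGroup.center_equiv_rootsOfUnity (n := Fin n) (R := F)).toEquiv]
  have h1 : max (Fintype.card (Fin n)) 1 = n := by simp; omega
  rw [h1]
  have h2 : (rootsOfUnity n F : Subgroup Fˣ) = (powMonoidHom n : Fˣ →* Fˣ).ker := by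
    ext x; simp [mem_rootsOfUnity, MonoidHom.mem_ker]
  rw [h2, IsCyclic.card_powMonoidHom_ker, Nat.card_units, Nat.card_eq_fintype_card (α := F), hF, Nat.gcd_comm]

/-- `gcd(n, q-1) (q - 1) |PSL_n(q)| = ∏ (q^n - q^i)`. -/
theorem card_PSL [Fintype F] {q : ℕ} (hF : Fintype.card F = q) (n : ℕ) (hn : 1 ≤ n) :
    Nat.gcd n (q - 1) * ((q - 1) * Nat.card (Matrix.ProjectiveSpecialLinearGroup (Fin n) F)) =
      ∏ i : Fin n, (q ^ n - q ^ (i : ℕ)) := by
  rw [← card_SL hF n hn, ← card_center_SL hF n hn]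
  have := Subgroup.card_eq_card_quotient_mul_card_subgroup
    (Subgroup.center (SpecialLinearGroup (Fin n) F))
  rw [this]
  change _ * (_ * Nat.card (SpecialLinearGroup (Fin n) F ⧸ Subgroup.center (SpecialLinearGroup (Fin n) F))) = _
  ring

end Cfsg.Agent.Lib_helper4_Card

namespace Cfsg.Agent.Lib_helper4_Card

open Matrix

/-- `|PGL_n(q)| = |SL_n(q)|`. -/
theorem card_PGL_eq_card_SL {F : Type*} [Field F] [Fintype F] (n : ℕ) :
    Nat.card (Matrix.ProjGenLinGroup (Fin n) F) = Nat.card (Matrix.SpecialLinearGroup (Fin n) F) := by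
  rcases Nat.eq_zero_or_pos n with rfl | hn
  · have h1 : Subsingleton (GL (Fin 0) F) := ⟨fun a b => Units.ext (Subsingleton.elim _ _)⟩
    have h2 : Subsingleton (Matrix.ProjGenLinGroup (Fin 0) F) :=
      Matrix.ProjGenLinGroup.mk_surjective.subsingleton
    have h3 : Subsingleton (Matrix.SpecialLinearGroup (Fin 0) F) :=
      ⟨fun a b => Subtype.ext (Subsingleton.elim _ _)⟩
    rw [Nat.card_of_subsingleton (1 : Matrix.ProjGenLinGroup (Fin 0) F),
      Nat.card_of_subsingleton (1 : Matrix.SpecialLinearGroup (Fin 0) F)]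
  · have : Nonempty (Fin n) := ⟨⟨0, hn⟩⟩
    have hq := Subgroup.card_eq_card_quotient_mul_card_subgroup
      (Subgroup.center (GL (Fin n) F))
    have hc : Nat.card (Subgroup.center (GL (Fin n) F)) = Nat.card Fˣ := by
      rw [GeneralLinearGroup.center_eq_range_scalar]
      refine (Nat.card_congr (Equiv.ofInjective _ ?_)).symm
      intro a b hab
      have h1 := congrArg (fun g : GL (Fin n) F => (g : Matrix (Fin n) (Fin n) F) ⟨0, hn⟩ ⟨0, hn⟩) hab
      simp only [GeneralLinearGroup.coe_scalar, Matrix.scalar_apply, Matrix.diagonal_apply_eq] at h1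
      exact Units.ext h1
    rw [hc, ← card_SL_mul] at hq
    have hpos : 0 < Nat.card Fˣ := Nat.card_pos
    exact (Nat.eq_of_mul_eq_mul_right hpos hq).symm

lemma prod_card_GL_factor (q n : ℕ) (_hq : 1 ≤ q) :
    ∏ i : Fin n, (q ^ n - q ^ (i : ℕ)) =
      q ^ (n * (n - 1) / 2) * ∏ i : Fin n, (q ^ (n - (i : ℕ)) - 1) := by
  have h1 : ∀ i : Fin n, q ^ n - q ^ (i : ℕ) = q ^ (i : ℕ) * (q ^ (n - (i : ℕ)) - 1) := by
    intro i
    have hi : (i : ℕ) ≤ n := i.2.le
    rw [Nat.mul_sub, mul_one, ← pow_add, Nat.add_sub_cancel' hi]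
  simp_rw [h1]
  rw [Finset.prod_mul_distrib, Finset.prod_pow_eq_pow_sum]
  congr 2
  rw [Fin.sum_univ_eq_sum_range (fun i => i) n, Finset.sum_range_id]

/-- A Sylow `p`-subgroup of `GL_n(q)` in the defining characteristic has order `q^(n(n-1)/2)`. -/
theorem card_sylow_GL {F : Type*} [Field F] [Fintype F] {q : ℕ} (hF : Fintype.card F = q) (p : ℕ)
    [Fact p.Prime] [CharP F p] (n : ℕ) (P : Sylow p (GL (Fin n) F)) :
    Nat.card P = q ^ (n * (n - 1) / 2) := by
  have hp : p.Prime := Fact.out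
  obtain ⟨k, -, hk⟩ := FiniteField.card F p
  rw [hF] at hk
  have hq1 : 1 ≤ q := by rw [hk]; exact Nat.one_le_pow _ _ hp.pos
  have hcard := Subgroup.card_mul_index (P : Subgroup (GL (Fin n) F))
  have hG : Nat.card (GL (Fin n) F) =
      q ^ (n * (n - 1) / 2) * ∏ i : Fin n, (q ^ (n - (i : ℕ)) - 1) := by
    rw [Matrix.card_GL_field, hF, prod_card_GL_factor q n hq1]
  obtain ⟨m, hm⟩ := IsPGroup.iff_card.mp P.isPGroup'
  have hcop2 : Nat.Coprime p (∏ i : Fin n, (q ^ (n - (i : ℕ)) - 1)) := by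
    apply Nat.Coprime.prod_right
    intro i _
    have hi : 1 ≤ n - (i : ℕ) := by have := i.2; omega
    have hdvd : p ∣ q ^ (n - (i : ℕ)) := by
      rw [hk, ← pow_mul]
      exact dvd_pow_self p (by positivity)
    have hpos : 1 ≤ q ^ (n - (i : ℕ)) := Nat.one_le_pow _ _ hq1
    rw [hp.coprime_iff_not_dvd]
    intro h
    have h1 := Nat.dvd_sub hdvd h
    have h2 : q ^ (n - (i : ℕ)) - (q ^ (n - (i : ℕ)) - 1) = 1 := by omega
    rw [h2] at h1
    exact hp.one_lt.ne' (Nat.dvd_one.mp h1)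
  have hqe : q ^ (n * (n - 1) / 2) = p ^ ((k : ℕ) * (n * (n - 1) / 2)) := by rw [hk, pow_mul]
  apply Nat.dvd_antisymm
  · have h1 : Nat.card P ∣ q ^ (n * (n - 1) / 2) * ∏ i : Fin n, (q ^ (n - (i : ℕ)) - 1) := by
      rw [← hG]; exact Subgroup.card_subgroup_dvd_card _
    refine (Nat.Coprime.dvd_of_dvd_mul_right ?_ h1)
    rw [hm]
    exact Nat.Coprime.pow_left _ hcop2
  · rw [hqe]
    apply P.pow_dvd_card_of_pow_dvd_card
    rw [← hqe, hG]
    exact Dvd.intro _ rfl

end Cfsg.Agent.Lib_helper4_Card
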