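import Mathlib

set_option autoImplicit false

/-! A finite group with no proper nontrivial subgroup invariant under a group of automorphisms
is a direct power of a simple group. -/

namespace Cfsg.Agent.Lib_helper4_CharSimple

/-- internal direct product of two disjoint normal subgroups -/
theorem nonempty_sup_equiv_prod {G : Type*} [Group G] (A B : Subgroup G) (hA : A.Normal)
    (hB : B.Normal) (h : Disjoint A B) : Nonempty (↥(A ⊔ B) ≃* A × B) := by
  have comm : ∀ (a : A) (b : B), Commute (A.subtype a) (B.subtype b) :=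
    fun a b => Subgroup.commute_of_normal_of_disjoint A B hA hB h a b a.2 b.2
  have hinj : Function.Injective (MonoidHom.noncommCoprod A.subtype B.subtype comm) := by
    rw [MonoidHom.noncommCoprod_injective]
    refine ⟨A.subtype_injective, B.subtype_injective, ?_⟩
    rw [Subgroup.range_subtype, Subgroup.range_subtype]
    exact h
  have hrange : (MonoidHom.noncommCoprod A.subtype B.subtype comm).range = A ⊔ B := by
    rw [MonoidHom.noncommCoprod_range, Subgroup.range_subtype, Subgroup.range_subtype]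
  exact ⟨((MonoidHom.ofInjective hinj).trans (MulEquiv.subgroupCongr hrange)).symm⟩

/-- `(Fin m → T) × T ≃* (Fin (m+1) → T)` -/
def snocEquiv (T : Type*) [Group T] (m : ℕ) : (Fin m → T) × T ≃* (Fin (m + 1) → T) where
  toFun p := Fin.cons p.2 p.1
  invFun g := (Fin.tail g, g 0)
  left_inv p := by simp
  right_inv g := by simp
  map_mul' p q := by
    funext i
    refine Fin.cases ?_ (fun j => ?_) i <;> simp

theorem exists_equiv_pi {G : Type*} [Group G] [Finite G] [Nontrivial G] (A : Subgroup (MulAut G))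
    (hA : ∀ K : Subgroup G, (∀ φ ∈ A, K.map (φ : G ≃* G).toMonoidHom ≤ K) → K = ⊥ ∨ K = ⊤) :
    ∃ (T : Subgroup G) (m : ℕ), IsSimpleGroup T ∧ 0 < m ∧ Nonempty (G ≃* (Fin m → T)) := by
  classical
  have hex : ∃ T : Subgroup G, T.Normal ∧ T ≠ ⊥ := ⟨⊤, inferInstance, top_ne_bot⟩
  obtain ⟨T, ⟨hTn, hT0⟩, hTmin⟩ := WellFounded.has_min
    (measure (fun T : Subgroup G => Nat.card T)).wf {T : Subgroup G | T.Normal ∧ T ≠ ⊥} hex
  have hTmin' : ∀ K : Subgroup G, K.Normal → K ≠ ⊥ → Nat.card T ≤ Nat.card K :=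
    fun K hK hK0 => not_lt.mp (hTmin K ⟨hK, hK0⟩)
  have hbot : (⊥ : Subgroup G) ∈ {M : Subgroup G | M.Normal ∧ ∃ m : ℕ, Nonempty (M ≃* (Fin m → T))} := by
    refine ⟨inferInstance, 0, ⟨?_⟩⟩
    exact
      { toFun := fun _ => 1
        invFun := fun _ => 1
        left_inv := fun x => Subsingleton.elim _ _
        right_inv := fun x => Subsingleton.elim _ _
        map_mul' := fun _ _ => (one_mul 1).symm }
  obtain ⟨M, ⟨hMn, m, ⟨e⟩⟩, hMmax⟩ := WellFounded.has_min (wellFounded_gt (α := Subgroup G))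
    {M : Subgroup G | M.Normal ∧ ∃ m : ℕ, Nonempty (M ≃* (Fin m → T))} ⟨⊥, hbot⟩
  have hMtop : M = ⊤ := by
    by_contra hMne
    have hex2 : ∃ φ ∈ A, ¬ T.map (φ : G ≃* G).toMonoidHom ≤ M := by
      by_contra hcon
      push Not at hcon
      have hS : ∀ ψ ∈ A, (⨆ φ : A, T.map ((φ : MulAut G) : G ≃* G).toMonoidHom).map
          (ψ : G ≃* G).toMonoidHom ≤ ⨆ φ : A, T.map ((φ : MulAut G) : G ≃* G).toMonoidHom := by
        intro ψ hψ
        rw [Subgroup.map_iSup]
        apply iSup_le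
        intro φ
        rw [Subgroup.map_map]
        exact le_iSup (fun φ : A => T.map ((φ : MulAut G) : G ≃* G).toMonoidHom)
          ⟨ψ * φ, A.mul_mem hψ φ.2⟩
      have hTS : T ≤ ⨆ φ : A, T.map ((φ : MulAut G) : G ≃* G).toMonoidHom := by
        have h1 := le_iSup (fun φ : A => T.map ((φ : MulAut G) : G ≃* G).toMonoidHom)
          ⟨1, A.one_mem⟩
        have h2 : T.map (((1 : MulAut G) : G ≃* G)).toMonoidHom = T := by
          ext x
          simp
        calc T = T.map (((1 : MulAut G) : G ≃* G)).toMonoidHom := h2.symm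
          _ ≤ _ := h1
      rcases hA _ hS with h | h
      · rw [h] at hTS
        exact hT0 (le_bot_iff.mp hTS)
      · apply hMne
        rw [eq_top_iff, ← h]
        exact iSup_le (fun φ => hcon φ φ.2)
    obtain ⟨φ, hφ, hφM⟩ := hex2
    have hT'n : (T.map (φ : G ≃* G).toMonoidHom).Normal :=
      Subgroup.Normal.map hTn _ (φ : G ≃* G).surjective
    have hT'card : Nat.card (T.map (φ : G ≃* G).toMonoidHom) = Nat.card T :=
      Nat.card_congr ((φ : G ≃* G).subgroupMap T).symm.toEquiv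
    have hdis : Disjoint M (T.map (φ : G ≃* G).toMonoidHom) := by
      rw [disjoint_iff]
      by_contra hne
      have h1 := hTmin' (M ⊓ T.map (φ : G ≃* G).toMonoidHom) inferInstance hne
      have h3 : M ⊓ T.map (φ : G ≃* G).toMonoidHom = T.map (φ : G ≃* G).toMonoidHom :=
        Subgroup.eq_of_le_of_card_ge inf_le_right (by rw [hT'card]; exact h1)
      exact hφM (h3 ▸ inf_le_left)
    obtain ⟨e1⟩ := nonempty_sup_equiv_prod M (T.map (φ : G ≃* G).toMonoidHom) hMn hT'n hdis
    have hmem : M ⊔ T.map (φ : G ≃* G).toMonoidHom ∈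
        {M : Subgroup G | M.Normal ∧ ∃ m : ℕ, Nonempty (M ≃* (Fin m → T))} :=
      ⟨inferInstance, m + 1, ⟨(e1.trans (MulEquiv.prodCongr e
        ((φ : G ≃* G).subgroupMap T).symm)).trans (snocEquiv T m)⟩⟩
    exact hMmax _ hmem (lt_of_le_of_ne le_sup_left
      (fun h => hφM (by rw [h]; exact le_sup_right)))
  subst hMtop
  have hm : 0 < m := by
    by_contra h0
    have hm0 : m = 0 := by omega
    subst hm0
    have h1 : Subsingleton G := by
      constructor
      intro a b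
      have ha : (⟨a, trivial⟩ : (⊤ : Subgroup G)) = ⟨b, trivial⟩ := e.injective (Subsingleton.elim _ _)
      exact congrArg Subtype.val ha
    exact not_subsingleton G h1
  obtain ⟨e', -⟩ : ∃ e' : G ≃* (Fin m → T), True := ⟨Subgroup.topEquiv.symm.trans e, trivial⟩
  refine ⟨T, m, ?_, hm, ⟨e'⟩⟩
  have : Nontrivial T := (Subgroup.nontrivial_iff_ne_bot T).mpr hT0
  refine ⟨fun K hK => ?_⟩
  by_contra hcon
  push Not at hcon
  obtain ⟨hK0, hKtop⟩ := hcon
  obtain ⟨K', hK'mem⟩ : ∃ K' : Subgroup (Fin m → T), ∀ f : Fin m → T,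
      f ∈ K' ↔ (f ⟨0, hm⟩ ∈ K ∧ ∀ i, i ≠ ⟨0, hm⟩ → f i = 1) :=
    ⟨{ carrier := {f : Fin m → T | f ⟨0, hm⟩ ∈ K ∧ ∀ i, i ≠ ⟨0, hm⟩ → f i = 1}
       mul_mem' := by
         intro f g hf hg
         refine ⟨K.mul_mem hf.1 hg.1, fun i hi => ?_⟩
         show f i * g i = 1
         rw [hf.2 i hi, hg.2 i hi, one_mul]
       one_mem' := ⟨K.one_mem, fun i _ => rfl⟩
       inv_mem' := by
         intro f hf
         refine ⟨K.inv_mem hf.1, fun i hi => ?_⟩
         show (f i)⁻¹ = 1
         rw [hf.2 i hi, inv_one] }, fun f => Iff.rfl⟩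
  have hK'n : K'.Normal := by
    constructor
    intro f hf g
    rw [hK'mem] at hf ⊢
    refine ⟨?_, ?_⟩
    · show g ⟨0, hm⟩ * f ⟨0, hm⟩ * (g ⟨0, hm⟩)⁻¹ ∈ K
      exact hK.conj_mem _ hf.1 _
    · intro i hi
      show g i * f i * (g i)⁻¹ = 1
      rw [hf.2 i hi]; simp
  have hLmem : ∀ g : G, g ∈ K'.comap e'.toMonoidHom ↔ e' g ∈ K' := fun g => Iff.rfl
  have hLn : (K'.comap e'.toMonoidHom).Normal := hK'n.comap _
  have hL0 : K'.comap e'.toMonoidHom ≠ ⊥ := by
    obtain ⟨k, hk, hk1⟩ : ∃ k ∈ K, k ≠ 1 := by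
      by_contra hc
      push Not at hc
      exact hK0 (eq_bot_iff.mpr (fun k hk => Subgroup.mem_bot.mpr (hc k hk)))
    intro hL
    have hmem : e'.symm (Pi.mulSingle (⟨0, hm⟩ : Fin m) k) ∈ (⊥ : Subgroup G) := by
      rw [← hL, hLmem, MulEquiv.apply_symm_apply, hK'mem]
      exact ⟨by simpa using hk, fun i hi => by simp [Pi.mulSingle_apply, hi]⟩
    rw [Subgroup.mem_bot] at hmem
    have h1 : Pi.mulSingle (⟨0, hm⟩ : Fin m) k = (1 : Fin m → T) := by
      have := congrArg e' hmem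
      simpa using this
    have h2 := congrFun h1 ⟨0, hm⟩
    simp at h2
    exact hk1 h2
  have hcard := Nat.card_le_card_of_injective
    (fun l : K'.comap e'.toMonoidHom =>
      (⟨e' l.1 ⟨0, hm⟩, ((hK'mem _).mp ((hLmem _).mp l.2)).1⟩ : K))
    (by
      intro l l' h
      have h1 : e' l.1 ⟨0, hm⟩ = e' l'.1 ⟨0, hm⟩ := congrArg Subtype.val h
      apply Subtype.ext
      apply e'.injective
      funext i
      by_cases hi : i = ⟨0, hm⟩
      · rw [hi]; exact h1
      · rw [((hK'mem _).mp ((hLmem _).mp l.2)).2 i hi, ((hK'mem _).mp ((hLmem _).mp l'.2)).2 i hi])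
  have hKlt : Nat.card K < Nat.card T := by
    by_contra hge
    push Not at hge
    exact hKtop (Subgroup.eq_top_of_le_card K hge)
  have := hTmin' _ hLn hL0
  omega

end Cfsg.Agent.Lib_helper4_CharSimple

namespace Cfsg.Agent.Lib_helper4_CharSimple

/-- a finite group has a copy in `Type`. -/
theorem exists_small (T' : Type*) [Group T'] [Finite T'] :
    ∃ (T : Type) (_ : Group T), Nonempty (T' ≃* T) := by
  have : Small.{0} T' := Countable.toSmall T'
  exact ⟨Shrink.{0} T', inferInstance, ⟨(Shrink.mulEquiv (α := T')).symm⟩⟩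

/-- the universe-zero version of `exists_equiv_pi`. -/
theorem exists_equiv_pi' {G : Type*} [Group G] [Finite G] [Nontrivial G] (A : Subgroup (MulAut G))
    (hA : ∀ K : Subgroup G, (∀ φ ∈ A, K.map (φ : G ≃* G).toMonoidHom ≤ K) → K = ⊥ ∨ K = ⊤) :
    ∃ (T : Type) (_ : Group T) (m : ℕ), IsSimpleGroup T ∧ 0 < m ∧ Nonempty (G ≃* (Fin m → T)) := by
  obtain ⟨T', m, hT', hm, ⟨e⟩⟩ := exists_equiv_pi A hA
  obtain ⟨T, hT, ⟨f⟩⟩ := exists_small T'
  exact ⟨T, hT, m, (MulEquiv.isSimpleGroup_congr f).mp hT', hm,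
    ⟨e.trans (MulEquiv.piCongrRight (fun _ => f))⟩⟩

end Cfsg.Agent.Lib_helper4_CharSimple
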