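import Mathlib

/-! An anisotropic binary quadratic form `z₁² + a z₁ z₂ + b z₂²` over a finite field with `q` elements takes
every nonzero value exactly `q + 1` times. -/

namespace Cfsg.Agent.Lib_helper4_Conic

variable {F : Type*} [Field F]

/-- The binary form. -/
def g₂ (a b : F) (p : F × F) : F := p.1 ^ 2 + a * p.1 * p.2 + b * p.2 ^ 2

/-- Its polar form. -/
def B₂ (a b : F) (w d : F × F) : F := 2 * w.1 * d.1 + a * (w.1 * d.2 + w.2 * d.1) + 2 * b * w.2 * d.2

lemma g₂_add (a b : F) (w d : F × F) : g₂ a b (w + d) = g₂ a b w + g₂ a b d + B₂ a b w d := by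
  unfold g₂ B₂
  simp only [Prod.fst_add, Prod.snd_add]
  ring

/-- The discriminant of an anisotropic form over a finite field is nonzero. -/
lemma disc_ne_zero [Finite F] (a b : F)
    (hab : ∀ z₁ z₂ : F, z₁ ^ 2 + a * z₁ * z₂ + b * z₂ ^ 2 = 0 → z₁ = 0 ∧ z₂ = 0) :
    4 * b - a ^ 2 ≠ 0 := by
  intro h
  by_cases h2 : (2 : F) = 0
  · have h4 : (4 : F) = 0 := by
      have : (4 : F) = 2 * 2 := by norm_num
      rw [this, h2, mul_zero]
    rw [h4, zero_mul, zero_sub, neg_eq_zero] at h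
    have ha : a = 0 := pow_eq_zero_iff (two_ne_zero) |>.mp h
    have : CharP F 2 := CharTwo.of_one_ne_zero_of_two_eq_zero one_ne_zero h2
    obtain ⟨x, hx⟩ := isSquare_of_charTwo' b
    have h5 := hab x 1 (by
      rw [ha, hx]
      have : x ^ 2 + 0 * x * 1 + x * x * 1 ^ 2 = 2 * (x * x) := by ring
      rw [this, h2, zero_mul])
    exact one_ne_zero h5.2
  · have h5 := hab a (-2) (by linear_combination h)
    exact h2 (neg_eq_zero.mp h5.2)

variable [Fintype F] {q : ℕ}

lemma card_affine_line (hF : Fintype.card F = q) (L1 L2 c : F) (h : L1 ≠ 0 ∨ L2 ≠ 0) :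
    Nat.card {w : F × F // c + w.1 * L1 + w.2 * L2 = 0} = q := by
  rw [← hF, ← Nat.card_eq_fintype_card]
  rcases h with h | h
  · apply Nat.card_congr
    refine
      { toFun := fun w => w.1.2
        invFun := fun t => ⟨(-(c + t * L2) / L1, t), ?_⟩
        left_inv := ?_
        right_inv := fun t => rfl }
    · show c + -(c + t * L2) / L1 * L1 + t * L2 = 0
      field_simp
      ring
    · rintro ⟨⟨w1, w2⟩, hw⟩
      apply Subtype.ext
      refine Prod.ext ?_ rfl
      show -(c + w2 * L2) / L1 = w1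
      have hw' : c + w1 * L1 + w2 * L2 = 0 := hw
      field_simp
      linear_combination -hw'
  · apply Nat.card_congr
    refine
      { toFun := fun w => w.1.1
        invFun := fun t => ⟨(t, -(c + t * L1) / L2), ?_⟩
        left_inv := ?_
        right_inv := fun t => rfl }
    · show c + t * L1 + -(c + t * L1) / L2 * L2 = 0
      field_simp
      ring
    · rintro ⟨⟨w1, w2⟩, hw⟩
      apply Subtype.ext
      refine Prod.ext rfl ?_
      show -(c + w1 * L1) / L2 = w2
      have hw' : c + w1 * L1 + w2 * L2 = 0 := hw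
      field_simp
      linear_combination -hw'

lemma card_pairs (hF : Fintype.card F = q) (a b : F) (hD : 4 * b - a ^ 2 ≠ 0) :
    Nat.card {p : (F × F) × (F × F) // g₂ a b p.1 = g₂ a b p.2} + q = q ^ 3 + q ^ 2 := by
  classical
  have e1 : {p : (F × F) × (F × F) // g₂ a b p.1 = g₂ a b p.2}
      ≃ {p : (F × F) × (F × F) // g₂ a b p.1 + B₂ a b p.2 p.1 = 0} :=
    { toFun := fun p => ⟨(p.1.1 - p.1.2, p.1.2), by
        have h := p.2
        have h2 := g₂_add a b p.1.2 (p.1.1 - p.1.2)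
        rw [add_sub_cancel] at h2
        show g₂ a b (p.1.1 - p.1.2) + B₂ a b p.1.2 (p.1.1 - p.1.2) = 0
        linear_combination h - h2⟩
      invFun := fun p => ⟨(p.1.2 + p.1.1, p.1.2), by
        have h := p.2
        show g₂ a b (p.1.2 + p.1.1) = g₂ a b p.1.2
        rw [g₂_add]
        linear_combination h⟩
      left_inv := fun p => Subtype.ext (Prod.ext (by simp) rfl)
      right_inv := fun p => Subtype.ext (Prod.ext (by simp) rfl) }
  have e2 : {p : (F × F) × (F × F) // g₂ a b p.1 + B₂ a b p.2 p.1 = 0}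
      ≃ Σ d : F × F, {w : F × F // g₂ a b d + B₂ a b w d = 0} :=
    Equiv.subtypeProdEquivSigmaSubtype (fun (d w : F × F) => g₂ a b d + B₂ a b w d = 0)
  rw [Nat.card_congr (e1.trans e2), Nat.card_sigma]
  have hterm : ∀ d : F × F, Nat.card {w : F × F // g₂ a b d + B₂ a b w d = 0}
      = if d = 0 then q ^ 2 else q := by
    intro d
    by_cases hd : d = 0
    · rw [if_pos hd, hd]
      have : ∀ w : F × F, g₂ a b 0 + B₂ a b w 0 = 0 := by
        intro w
        simp [g₂, B₂]
      rw [Nat.card_congr (Equiv.subtypeUnivEquiv this), Nat.card_prod, Nat.card_eq_fintype_card, hF, sq]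
    · rw [if_neg hd]
      have hL : 2 * d.1 + a * d.2 ≠ 0 ∨ a * d.1 + 2 * b * d.2 ≠ 0 := by
        by_contra hcon
        rw [not_or, not_not, not_not] at hcon
        apply hd
        have h1 : (4 * b - a ^ 2) * d.2 = 0 := by linear_combination 2 * hcon.2 - a * hcon.1
        have h2 : (4 * b - a ^ 2) * d.1 = 0 := by linear_combination 2 * b * hcon.1 - a * hcon.2
        exact Prod.ext ((mul_eq_zero.mp h2).resolve_left hD) ((mul_eq_zero.mp h1).resolve_left hD)
      rw [← card_affine_line hF (2 * d.1 + a * d.2) (a * d.1 + 2 * b * d.2) (g₂ a b d) hL]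
      apply Nat.card_congr
      refine Equiv.subtypeEquivRight (fun w => ?_)
      unfold B₂
      constructor
      · intro h
        linear_combination h
      · intro h
        linear_combination h
  rw [Finset.sum_congr rfl (fun d _ => hterm d), Finset.sum_ite, Finset.sum_const, Finset.sum_const,
    smul_eq_mul, smul_eq_mul, Finset.filter_eq' Finset.univ (0 : F × F), if_pos (Finset.mem_univ _),
    Finset.card_singleton, one_mul]
  have hc : ((Finset.univ : Finset (F × F)).filter (fun x => ¬ x = 0)).card + 1 = q ^ 2 := by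
    have h3 := Finset.card_filter_add_card_filter_not (s := (Finset.univ : Finset (F × F)))
      (fun x => x = 0)
    rw [Finset.filter_eq' Finset.univ (0 : F × F), if_pos (Finset.mem_univ _), Finset.card_singleton,
      Finset.card_univ, Fintype.card_prod, hF] at h3
    rw [add_comm, h3, sq]
  have hq : 1 ≤ q := by
    rw [← hF]
    exact Fintype.card_pos
  obtain ⟨r, hr⟩ : ∃ r, ((Finset.univ : Finset (F × F)).filter (fun x => ¬ x = 0)).card = r := ⟨_, rfl⟩
  rw [hr] at hc ⊢
  have : q ^ 3 = (r + 1) * q := by rw [hc]; ring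
  rw [this]
  ring

/-- Number of representations of `c`. -/
noncomputable def N (a b : F) (c : F) : ℕ := Nat.card {p : F × F // g₂ a b p = c}

lemma sum_N (hF : Fintype.card F = q) (a b : F) : ∑ c : F, N a b c = q ^ 2 := by
  unfold N
  rw [← Nat.card_sigma, Nat.card_congr (Equiv.sigmaFiberEquiv (g₂ a b)), Nat.card_prod,
    Nat.card_eq_fintype_card, hF, sq]

lemma sum_N_sq (a b : F) :
    ∑ c : F, N a b c * N a b c = Nat.card {p : (F × F) × (F × F) // g₂ a b p.1 = g₂ a b p.2} := by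
  unfold N
  have e : {p : (F × F) × (F × F) // g₂ a b p.1 = g₂ a b p.2}
      ≃ Σ c : F, {p : F × F // g₂ a b p = c} × {p : F × F // g₂ a b p = c} :=
    { toFun := fun p => ⟨g₂ a b p.1.1, (⟨p.1.1, rfl⟩, ⟨p.1.2, p.2.symm⟩)⟩
      invFun := fun s => ⟨(s.2.1.1, s.2.2.1), s.2.1.2.trans s.2.2.2.symm⟩
      left_inv := fun p => rfl
      right_inv := by
        rintro ⟨c, ⟨z, hz⟩, ⟨w, hw⟩⟩
        subst hz
        rfl }
  rw [Nat.card_congr e, Nat.card_sigma]
  refine Finset.sum_congr rfl (fun c _ => ?_)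
  rw [Nat.card_prod]

lemma N_zero (a b : F)
    (hab : ∀ z₁ z₂ : F, z₁ ^ 2 + a * z₁ * z₂ + b * z₂ ^ 2 = 0 → z₁ = 0 ∧ z₂ = 0) : N a b 0 = 1 := by
  unfold N
  rw [Nat.card_eq_one_iff_unique]
  constructor
  · constructor
    rintro ⟨⟨z1, z2⟩, hz⟩ ⟨⟨w1, w2⟩, hw⟩
    have h1 := hab z1 z2 hz
    have h2 := hab w1 w2 hw
    apply Subtype.ext
    exact Prod.ext (h1.1.trans h2.1.symm) (h1.2.trans h2.2.symm)
  · exact ⟨⟨(0, 0), by simp [g₂]⟩⟩

/-- Every nonzero value is taken exactly `q + 1` times. -/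
theorem card_conic (hF : Fintype.card F = q) (a b : F)
    (hab : ∀ z₁ z₂ : F, z₁ ^ 2 + a * z₁ * z₂ + b * z₂ ^ 2 = 0 → z₁ = 0 ∧ z₂ = 0) (c : F) (hc : c ≠ 0) :
    Nat.card {p : F × F // p.1 ^ 2 + a * p.1 * p.2 + b * p.2 ^ 2 = c} = q + 1 := by
  classical
  have hD := disc_ne_zero a b hab
  have h1 : (∑ x : F, (N a b x : ℤ)) = (q : ℤ) ^ 2 := by exact_mod_cast sum_N hF a b
  have h2 : (∑ x : F, (N a b x : ℤ) * (N a b x : ℤ)) + (q : ℤ) = (q : ℤ) ^ 3 + (q : ℤ) ^ 2 := by
    have := card_pairs hF a b hD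
    rw [← sum_N_sq] at this
    exact_mod_cast this
  have h0 : (N a b 0 : ℤ) = 1 := by exact_mod_cast N_zero a b hab
  have hcard : ((Finset.univ : Finset F).card : ℤ) = q := by
    rw [Finset.card_univ, hF]
  have h3 : ∑ x : F, ((N a b x : ℤ) - ((q : ℤ) + 1)) ^ 2 = (q : ℤ) ^ 2 := by
    have : ∀ x : F, ((N a b x : ℤ) - ((q : ℤ) + 1)) ^ 2
        = (N a b x : ℤ) * (N a b x : ℤ) - 2 * ((q : ℤ) + 1) * (N a b x : ℤ) + ((q : ℤ) + 1) ^ 2 := by
      intro x
      ring
    rw [Finset.sum_congr rfl (fun x _ => this x), Finset.sum_add_distrib, Finset.sum_sub_distrib,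
      ← Finset.mul_sum, Finset.sum_const, nsmul_eq_mul, hcard, h1]
    linear_combination h2
  have h4 : ∑ x ∈ (Finset.univ : Finset F).erase 0, ((N a b x : ℤ) - ((q : ℤ) + 1)) ^ 2 = 0 := by
    have h5 := Finset.add_sum_erase (Finset.univ : Finset F)
      (fun x => ((N a b x : ℤ) - ((q : ℤ) + 1)) ^ 2) (Finset.mem_univ (0 : F))
    rw [h3, h0] at h5
    linear_combination h5
  have h6 := (Finset.sum_eq_zero_iff_of_nonneg (fun x _ => sq_nonneg _)).mp h4 c
    (Finset.mem_erase.mpr ⟨hc, Finset.mem_univ _⟩)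
  have h7 : (N a b c : ℤ) = (q : ℤ) + 1 := by
    have := pow_eq_zero_iff (two_ne_zero) |>.mp h6
    linarith
  have h8 : N a b c = q + 1 := by exact_mod_cast h7
  exact h8

end Cfsg.Agent.Lib_helper4_Conic
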