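import Mathlib
import Cfsg.Prelude.Def_ClassicalGeometry

/-! Basic API for the Hermitian form `Cfsg.hermForm n F q` over a field with `q ^ 2` elements. -/

namespace Cfsg.Agent.Lib_helper4_Herm
open Matrix

variable {F : Type*} [Field F] [Fintype F] {q : ℕ}

lemma exists_char_pow (hF : Fintype.card F = q ^ 2) :
    ∃ (p k : ℕ), p.Prime ∧ CharP F p ∧ q = p ^ k := by
  obtain ⟨p, hp⟩ := CharP.exists F
  have hp' := hp
  obtain ⟨f, hprime, hf⟩ := FiniteField.card F p
  have hdvd : q ∣ p ^ (f : ℕ) := by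
    rw [← hf, hF]
    exact dvd_pow_self q two_ne_zero
  obtain ⟨k, _, hk⟩ := (Nat.dvd_prime_pow hprime).1 hdvd
  exact ⟨p, k, hprime, hp, hk⟩

lemma q_pos (hF : Fintype.card F = q ^ 2) : 1 ≤ q := by
  rcases Nat.eq_zero_or_pos q with h | h
  · subst h
    have : 0 < Fintype.card F := Fintype.card_pos
    omega
  · exact h

lemma frob_add (hF : Fintype.card F = q ^ 2) (a b : F) : (a + b) ^ q = a ^ q + b ^ q := by
  obtain ⟨p, k, hp, hchar, rfl⟩ := exists_char_pow hF
  have hchar' := hchar
  have hfact : Fact p.Prime := ⟨hp⟩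
  exact add_pow_char_pow a b p k

lemma frob_sum (hF : Fintype.card F = q ^ 2) {ι : Type*} (s : Finset ι) (f : ι → F) :
    (∑ i ∈ s, f i) ^ q = ∑ i ∈ s, f i ^ q := by
  obtain ⟨p, k, hp, hchar, rfl⟩ := exists_char_pow hF
  have hchar' := hchar
  have hfact : Fact p.Prime := ⟨hp⟩
  exact sum_pow_char_pow p k s f

lemma frob_frob (hF : Fintype.card F = q ^ 2) (a : F) : (a ^ q) ^ q = a := by
  rw [← pow_mul, ← sq, ← hF]
  exact FiniteField.pow_card a

lemma frob_neg (hF : Fintype.card F = q ^ 2) (a : F) : (-a) ^ q = -(a ^ q) := by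
  have h := frob_add hF a (-a)
  rw [add_neg_cancel, zero_pow (by have := q_pos hF; omega)] at h
  exact eq_neg_of_add_eq_zero_right h.symm

variable {n : ℕ}

omit [Fintype F] in
lemma herm_add_left (x x' y : Fin n → F) :
    Cfsg.hermForm n F q (x + x') y = Cfsg.hermForm n F q x y + Cfsg.hermForm n F q x' y := by
  unfold Cfsg.hermForm
  rw [← Finset.sum_add_distrib]
  refine Finset.sum_congr rfl fun i _ => ?_
  rw [Pi.add_apply, add_mul]

omit [Fintype F] in
lemma herm_smul_left (a : F) (x y : Fin n → F) :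
    Cfsg.hermForm n F q (a • x) y = a * Cfsg.hermForm n F q x y := by
  unfold Cfsg.hermForm
  rw [Finset.mul_sum]
  refine Finset.sum_congr rfl fun i _ => ?_
  rw [Pi.smul_apply, smul_eq_mul, mul_assoc]

lemma herm_add_right (hF : Fintype.card F = q ^ 2) (x y y' : Fin n → F) :
    Cfsg.hermForm n F q x (y + y') = Cfsg.hermForm n F q x y + Cfsg.hermForm n F q x y' := by
  unfold Cfsg.hermForm
  rw [← Finset.sum_add_distrib]
  refine Finset.sum_congr rfl fun i _ => ?_
  rw [Pi.add_apply, frob_add hF, mul_add]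

omit [Fintype F] in
lemma herm_smul_right (a : F) (x y : Fin n → F) :
    Cfsg.hermForm n F q x (a • y) = a ^ q * Cfsg.hermForm n F q x y := by
  unfold Cfsg.hermForm
  rw [Finset.mul_sum]
  refine Finset.sum_congr rfl fun i _ => ?_
  rw [Pi.smul_apply, smul_eq_mul, mul_pow]
  ring

lemma herm_conj (hF : Fintype.card F = q ^ 2) (x y : Fin n → F) :
    (Cfsg.hermForm n F q x y) ^ q = Cfsg.hermForm n F q y x := by
  unfold Cfsg.hermForm
  rw [frob_sum hF]
  refine Finset.sum_congr rfl fun i _ => ?_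
  rw [mul_pow, frob_frob hF, mul_comm]

omit [Fintype F] in
lemma unitaryTransvection_mulVec (v : Fin n → F) (c : F) (x : Fin n → F) :
    Cfsg.unitaryTransvection n q v c *ᵥ x = x + (c * Cfsg.hermForm n F q x v) • v := by
  unfold Cfsg.unitaryTransvection
  rw [Matrix.add_mulVec, Matrix.one_mulVec, Matrix.smul_mulVec, Matrix.vecMulVec_mulVec]
  have h : (fun j => v j ^ q) ⬝ᵥ x = Cfsg.hermForm n F q x v := by
    unfold Cfsg.hermForm dotProduct
    refine Finset.sum_congr rfl fun i _ => ?_
    rw [mul_comm]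
  rw [h, op_smul_eq_smul, smul_smul]

lemma herm_transvection (hF : Fintype.card F = q ^ 2) (v : Fin n → F) (c : F) (x y : Fin n → F) :
    Cfsg.hermForm n F q (Cfsg.unitaryTransvection n q v c *ᵥ x)
        (Cfsg.unitaryTransvection n q v c *ᵥ y)
      = Cfsg.hermForm n F q x y + (c ^ q + c) * (Cfsg.hermForm n F q x v * Cfsg.hermForm n F q v y)
        + c * c ^ q * (Cfsg.hermForm n F q x v * Cfsg.hermForm n F q v y) * Cfsg.hermForm n F q v v := by
  rw [unitaryTransvection_mulVec, unitaryTransvection_mulVec, herm_add_left, herm_add_right hF,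
    herm_add_right hF, herm_smul_left, herm_smul_left, herm_smul_right, herm_smul_right, mul_pow,
    herm_conj hF y v]
  ring

end Cfsg.Agent.Lib_helper4_Herm
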