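import Cfsg.Statements.S0754
import Mathlib

set_option autoImplicit false
open Cfsg

namespace Cfsg.Agent.S0754

/-- In a field F with q^2 elements, every non-zero μ with μ^q = μ (that is, μ in the subfield of order q) has exactly q + 1 solutions λ of λ^(q+1) = μ. -/
theorem result {F : Type*} [Field F] [Fintype F] {q : ℕ} (hF : Fintype.card F = q ^ 2) (μ : F) (hμ : μ ≠ 0) (hμq : μ ^ q = μ) : Nat.card {x : F // x ^ (q + 1) = μ} = q + 1 := by
  classical
  have hq1 : 1 ≤ q := by
    rcases Nat.eq_zero_or_pos q with h | h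
    · subst h
      have : 0 < Fintype.card F := Fintype.card_pos
      omega
    · exact h
  have hcardU : Nat.card Fˣ = (q - 1) * (q + 1) := by
    rw [Nat.card_eq_fintype_card, Fintype.card_units, hF]
    obtain ⟨r, rfl⟩ : ∃ r, q = r + 1 := ⟨q - 1, by omega⟩
    have h1 : (r + 1) ^ 2 = r * (r + 1 + 1) + 1 := by ring
    rw [h1]
    simp
  have hker : Nat.card (powMonoidHom (q + 1) : Fˣ →* Fˣ).ker = q + 1 := by
    rw [IsCyclic.card_powMonoidHom_ker, hcardU]
    exact Nat.gcd_eq_right (Dvd.intro_left _ rfl)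
  have hrange : Nat.card (powMonoidHom (q + 1) : Fˣ →* Fˣ).range = q - 1 := by
    have h1 := Subgroup.card_mul_index (powMonoidHom (q + 1) : Fˣ →* Fˣ).ker
    rw [Subgroup.index_ker, hker, hcardU] at h1
    have h2 : (q + 1) * Nat.card (powMonoidHom (q + 1) : Fˣ →* Fˣ).range = (q + 1) * (q - 1) := by
      rw [h1]
      ring
    exact Nat.eq_of_mul_eq_mul_left (by omega) h2
  have hS : Nat.card (powMonoidHom (q - 1) : Fˣ →* Fˣ).ker = q - 1 := by
    rw [IsCyclic.card_powMonoidHom_ker, hcardU]
    exact Nat.gcd_eq_right (Dvd.intro _ rfl)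
  have hle : (powMonoidHom (q + 1) : Fˣ →* Fˣ).range ≤ (powMonoidHom (q - 1) : Fˣ →* Fˣ).ker := by
    rintro _ ⟨x, rfl⟩
    rw [MonoidHom.mem_ker]
    show (x ^ (q + 1)) ^ (q - 1) = 1
    rw [← pow_mul, mul_comm, ← hcardU]
    exact pow_card_eq_one'
  have heq : (powMonoidHom (q + 1) : Fˣ →* Fˣ).range = (powMonoidHom (q - 1) : Fˣ →* Fˣ).ker :=
    Subgroup.eq_of_le_of_card_ge hle (by rw [hS, hrange])
  have hu : Units.mk0 μ hμ ∈ (powMonoidHom (q + 1) : Fˣ →* Fˣ).range := by
    rw [heq, MonoidHom.mem_ker]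
    apply Units.ext
    simp only [powMonoidHom_apply, Units.val_pow_eq_pow_val, Units.val_mk0, Units.val_one]
    have h1 : μ ^ (q - 1) * μ = 1 * μ := by
      rw [← pow_succ, one_mul]
      have : q - 1 + 1 = q := by omega
      rw [this, hμq]
    exact mul_right_cancel₀ hμ h1
  obtain ⟨x0, hx0⟩ := hu
  have hx0' : (x0 : F) ^ (q + 1) = μ := by
    have h1 := congrArg Units.val hx0
    simpa using h1
  have key : Nat.card {x : F // x ^ (q + 1) = μ} = Nat.card (powMonoidHom (q + 1) : Fˣ →* Fˣ).ker := by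
    apply Nat.card_congr
    refine
      { toFun := fun x => ⟨Units.mk0 x.1 (by
            rintro h
            have h1 := x.2
            rw [h, zero_pow (by omega)] at h1
            exact hμ h1.symm) * x0⁻¹, ?_⟩
        invFun := fun k => ⟨((k.1 * x0 : Fˣ) : F), ?_⟩
        left_inv := ?_
        right_inv := ?_ }
    · rw [MonoidHom.mem_ker]
      apply Units.ext
      simp only [powMonoidHom_apply, Units.val_pow_eq_pow_val, Units.val_mul, Units.val_mk0,
        Units.val_one, mul_pow, Units.val_inv_eq_inv_val, inv_pow, hx0']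
      rw [x.2]
      exact mul_inv_cancel₀ hμ
    · have h1 : (k.1 : Fˣ) ^ (q + 1) = 1 := k.2
      have h2 : ((k.1 : Fˣ) : F) ^ (q + 1) = 1 := by
        have h3 := congrArg Units.val h1
        simpa using h3
      rw [Units.val_mul, mul_pow, h2, hx0', one_mul]
    · intro x
      apply Subtype.ext
      simp
    · intro k
      apply Subtype.ext
      apply Units.ext
      simp
  rw [key, hker]

end Cfsg.Agent.S0754
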