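import Mathlib
import Cfsg.Prelude.Def_ClassicalGeometry
import Cfsg.Agent.Lib_helper4_Herm
import Cfsg.Agent.S0754

/-! Counting the vectors of given norm for the standard Hermitian form over a field with `q ^ 2` elements. -/

namespace Cfsg.Agent.Lib_helper4_HermCount
open Cfsg.Agent.Lib_helper4_Herm

variable {F : Type*} [Field F] [Fintype F] {q : ℕ}

/-- Number of `v ∈ F^n` with `h(v, v) = μ`. -/
noncomputable def N (F : Type*) [Field F] (q n : ℕ) (μ : F) : ℕ :=
  Nat.card {v : Fin n → F // Cfsg.hermForm n F q v v = μ}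

omit [Fintype F] in
lemma herm_self_succ (n : ℕ) (v : Fin (n + 1) → F) :
    Cfsg.hermForm (n + 1) F q v v
      = v 0 ^ (q + 1) + Cfsg.hermForm n F q (Fin.tail v) (Fin.tail v) := by
  unfold Cfsg.hermForm
  rw [Fin.sum_univ_succ, pow_succ']
  rfl

lemma N_succ (n : ℕ) (μ : F) : N F q (n + 1) μ = ∑ x : F, N F q n (μ - x ^ (q + 1)) := by
  unfold N
  have e : {v : Fin (n + 1) → F // Cfsg.hermForm (n + 1) F q v v = μ}
      ≃ Σ x : F, {w : Fin n → F // Cfsg.hermForm n F q w w = μ - x ^ (q + 1)} :=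
    ((Fin.consEquiv (fun _ : Fin (n + 1) => F)).symm.subtypeEquiv (fun v => by
      rw [herm_self_succ]
      show _ ↔ Cfsg.hermForm n F q (Fin.tail v) (Fin.tail v) = μ - v 0 ^ (q + 1)
      constructor
      · intro h
        rw [← h]
        ring
      · intro h
        rw [h]
        ring)).trans
      (Equiv.subtypeProdEquivSigmaSubtype
        (fun (x : F) (w : Fin n → F) => Cfsg.hermForm n F q w w = μ - x ^ (q + 1)))
  rw [Nat.card_congr e, Nat.card_sigma]

lemma norm_frob (hF : Fintype.card F = q ^ 2) (x : F) : (x ^ (q + 1)) ^ q = x ^ (q + 1) := by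
  rw [pow_succ, mul_pow, frob_frob hF, mul_comm]

lemma N_scale (hF : Fintype.card F = q ^ 2) (n : ℕ) (μ : F) (hμ : μ ≠ 0) (hμq : μ ^ q = μ) :
    N F q n μ = N F q n 1 := by
  have hc := Cfsg.Agent.S0754.result hF μ hμ hμq
  have hne : Nonempty {x : F // x ^ (q + 1) = μ} := by
    by_contra hcon
    rw [not_nonempty_iff] at hcon
    rw [Nat.card_of_isEmpty] at hc
    omega
  obtain ⟨⟨l, hl⟩⟩ := hne
  have hl0 : l ≠ 0 := by
    rintro rfl
    rw [zero_pow (by omega)] at hl
    exact hμ hl.symm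
  unfold N
  apply Nat.card_congr
  refine
    { toFun := fun v => ⟨l⁻¹ • v.1, ?_⟩
      invFun := fun w => ⟨l • w.1, ?_⟩
      left_inv := fun v => Subtype.ext (by simp [smul_smul, hl0])
      right_inv := fun w => Subtype.ext (by simp [smul_smul, hl0]) }
  · rw [herm_smul_left, herm_smul_right, v.2, ← hl, inv_pow]
    have hq0 : l ^ q ≠ 0 := pow_ne_zero _ hl0
    rw [pow_succ]
    field_simp
  · rw [herm_smul_left, herm_smul_right, w.2, ← hl, pow_succ]
    ring

lemma N_of_frob [DecidableEq F] (hF : Fintype.card F = q ^ 2) (n : ℕ) (t : F) (ht : t ^ q = t) :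
    N F q n t = if t = 0 then N F q n 0 else N F q n 1 := by
  by_cases h : t = 0
  · rw [if_pos h, h]
  · rw [if_neg h]
    exact N_scale hF n t h ht

/-- Recursion for the number of isotropic vectors (subtraction-free form). -/
lemma N_zero_succ (hF : Fintype.card F = q ^ 2) (n : ℕ) :
    N F q (n + 1) 0 + N F q n 1 = N F q n 0 + q ^ 2 * N F q n 1 := by
  classical
  have hq1 := q_pos hF
  rw [N_succ]
  have h1 : ∀ x : F, N F q n (0 - x ^ (q + 1)) = if x = 0 then N F q n 0 else N F q n 1 := by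
    intro x
    rw [N_of_frob hF n _ (by rw [zero_sub, frob_neg hF, norm_frob hF])]
    by_cases hx : x = 0
    · have h0 : (0 : F) - x ^ (q + 1) = 0 := by rw [hx, zero_pow (by omega), sub_zero]
      rw [if_pos hx, if_pos h0]
    · have h0 : ¬ ((0 : F) - x ^ (q + 1) = 0) := by
        rw [zero_sub, neg_eq_zero]
        exact pow_ne_zero _ hx
      rw [if_neg hx, if_neg h0]
  rw [Finset.sum_congr rfl (fun x _ => h1 x), Finset.sum_ite, Finset.sum_const, Finset.sum_const,
    smul_eq_mul, smul_eq_mul, Finset.filter_eq' Finset.univ (0 : F), if_pos (Finset.mem_univ _),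
    Finset.card_singleton, one_mul]
  have hc : ((Finset.univ : Finset F).filter (fun x => ¬ x = 0)).card + 1 = q ^ 2 := by
    rw [← hF, ← Finset.card_univ,
      ← Finset.card_filter_add_card_filter_not (s := (Finset.univ : Finset F)) (fun x => x = 0),
      Finset.filter_eq' Finset.univ (0 : F), if_pos (Finset.mem_univ _), Finset.card_singleton,
      add_comm]
  rw [← hc]
  ring

/-- Recursion for the number of vectors of norm one (subtraction-free form). -/
lemma N_one_succ (hF : Fintype.card F = q ^ 2) (n : ℕ) :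
    N F q (n + 1) 1 + (q + 1) * N F q n 1 = (q + 1) * N F q n 0 + q ^ 2 * N F q n 1 := by
  classical
  have hq1 := q_pos hF
  rw [N_succ]
  have h1 : ∀ x : F, N F q n (1 - x ^ (q + 1))
      = if x ^ (q + 1) = 1 then N F q n 0 else N F q n 1 := by
    intro x
    have hfr : (1 - x ^ (q + 1)) ^ q = 1 - x ^ (q + 1) := by
      rw [sub_eq_add_neg, frob_add hF, frob_neg hF, norm_frob hF, one_pow]
    rw [N_of_frob hF n _ hfr]
    by_cases hx : x ^ (q + 1) = 1
    · have h0 : (1 : F) - x ^ (q + 1) = 0 := by rw [hx, sub_self]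
      rw [if_pos hx, if_pos h0]
    · have h0 : ¬ ((1 : F) - x ^ (q + 1) = 0) := by
        intro h
        apply hx
        rw [sub_eq_zero] at h
        exact h.symm
      rw [if_neg hx, if_neg h0]
  rw [Finset.sum_congr rfl (fun x _ => h1 x), Finset.sum_ite, Finset.sum_const, Finset.sum_const,
    smul_eq_mul, smul_eq_mul]
  have hc1 : ((Finset.univ : Finset F).filter (fun x => x ^ (q + 1) = 1)).card = q + 1 := by
    have h2 := Cfsg.Agent.S0754.result hF (1 : F) one_ne_zero (one_pow q)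
    rw [Nat.card_eq_fintype_card, Fintype.card_subtype] at h2
    exact h2
  have hc : ((Finset.univ : Finset F).filter (fun x => x ^ (q + 1) = 1)).card
      + ((Finset.univ : Finset F).filter (fun x => ¬ x ^ (q + 1) = 1)).card = q ^ 2 := by
    rw [Finset.card_filter_add_card_filter_not, Finset.card_univ, hF]
  rw [hc1] at hc ⊢
  rw [← hc]
  ring

lemma N_zero_zero : N F q 0 (0 : F) = 1 := by
  unfold N
  rw [Nat.card_eq_one_iff_unique]
  exact ⟨inferInstance, ⟨⟨0, by simp [Cfsg.hermForm]⟩⟩⟩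

lemma N_zero_one : N F q 0 (1 : F) = 0 := by
  unfold N
  rw [Nat.card_eq_zero]
  left
  constructor
  rintro ⟨v, hv⟩
  simp [Cfsg.hermForm] at hv

/-- Closed forms, multiplied by `q` and stated over `ℤ`. -/
lemma closed (hF : Fintype.card F = q ^ 2) (n : ℕ) :
    (q : ℤ) * (N F q n 1 : ℤ) = (q : ℤ) ^ (2 * n) - (-1) ^ n * (q : ℤ) ^ n ∧
    (q : ℤ) * (N F q n 0 : ℤ)
      = (q : ℤ) ^ (2 * n) + (-1) ^ n * (q : ℤ) ^ (n + 1) - (-1) ^ n * (q : ℤ) ^ n := by
  induction n with
  | zero =>
    rw [N_zero_zero, N_zero_one]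
    constructor
    · simp
    · simp
  | succ n ih =>
    obtain ⟨ih1, ih0⟩ := ih
    have r0 : ((N F q (n + 1) 0 : ℕ) : ℤ) + (N F q n 1 : ℤ)
        = (N F q n 0 : ℤ) + (q : ℤ) ^ 2 * (N F q n 1 : ℤ) := by
      exact_mod_cast N_zero_succ hF n
    have r1 : ((N F q (n + 1) 1 : ℕ) : ℤ) + ((q : ℤ) + 1) * (N F q n 1 : ℤ)
        = ((q : ℤ) + 1) * (N F q n 0 : ℤ) + (q : ℤ) ^ 2 * (N F q n 1 : ℤ) := by
      exact_mod_cast N_one_succ hF n
    constructor
    · linear_combination (q : ℤ) * r1 + ((q : ℤ) + 1) * ih0 + ((q : ℤ) ^ 2 - (q : ℤ) - 1) * ih1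
    · linear_combination (q : ℤ) * r0 + ih0 + ((q : ℤ) ^ 2 - 1) * ih1

end Cfsg.Agent.Lib_helper4_HermCount
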