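import Mathlib
import Cfsg.Prelude.Def_ClassicalGeometry
import Cfsg.Prelude.Def_LieClassical
import Cfsg.Agent.Lib_helper4_Herm
import Cfsg.Agent.Lib_helper4_HermCount

/-! The general unitary group: basic API, transitivity on vectors of norm one, and its order. -/

namespace Cfsg.Agent.Lib_helper4_GU
open Matrix Cfsg.Agent.Lib_helper4_Herm Cfsg.Agent.Lib_helper4_HermCount

variable {F : Type*} [Field F] [Fintype F] {n q : ℕ}

omit [Fintype F] in
lemma herm_single_right (hq : q ≠ 0) (v : Fin n → F) (i : Fin n) :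
    Cfsg.hermForm n F q v (Pi.single i 1) = v i := by
  classical
  unfold Cfsg.hermForm
  rw [Finset.sum_eq_single i]
  · rw [Pi.single_eq_same, one_pow, mul_one]
  · intro j _ hj
    rw [Pi.single_eq_of_ne hj, zero_pow hq, mul_zero]
  · intro h
    exact absurd (Finset.mem_univ i) h

omit [Fintype F] in
lemma herm_single_left (v : Fin n → F) (i : Fin n) :
    Cfsg.hermForm n F q (Pi.single i 1) v = v i ^ q := by
  classical
  unfold Cfsg.hermForm
  rw [Finset.sum_eq_single i]
  · rw [Pi.single_eq_same, one_mul]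
  · intro j _ hj
    rw [Pi.single_eq_of_ne hj, zero_mul]
  · intro h
    exact absurd (Finset.mem_univ i) h

omit [Fintype F] in
lemma herm_zero_left (y : Fin n → F) : Cfsg.hermForm n F q 0 y = 0 := by
  unfold Cfsg.hermForm
  simp

omit [Fintype F] in
lemma herm_sub_left (x x' y : Fin n → F) :
    Cfsg.hermForm n F q (x - x') y = Cfsg.hermForm n F q x y - Cfsg.hermForm n F q x' y := by
  unfold Cfsg.hermForm
  rw [← Finset.sum_sub_distrib]
  refine Finset.sum_congr rfl fun i _ => ?_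
  rw [Pi.sub_apply, sub_mul]

lemma frob_sub (hF : Fintype.card F = q ^ 2) (a b : F) : (a - b) ^ q = a ^ q - b ^ q := by
  rw [sub_eq_add_neg, frob_add hF, frob_neg hF, ← sub_eq_add_neg]

lemma herm_sub_right (hF : Fintype.card F = q ^ 2) (x y y' : Fin n → F) :
    Cfsg.hermForm n F q x (y - y') = Cfsg.hermForm n F q x y - Cfsg.hermForm n F q x y' := by
  unfold Cfsg.hermForm
  rw [← Finset.sum_sub_distrib]
  refine Finset.sum_congr rfl fun i _ => ?_
  rw [Pi.sub_apply, frob_sub hF, mul_sub]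

omit [Fintype F] in
lemma mem_GU_iff (A : GL (Fin n) F) : A ∈ Cfsg.GU n F q ↔
    ∀ u v, Cfsg.hermForm n F q ((A : Matrix (Fin n) (Fin n) F) *ᵥ u)
      ((A : Matrix (Fin n) (Fin n) F) *ᵥ v) = Cfsg.hermForm n F q u v := Iff.rfl

/-- A matrix preserving the Hermitian form is invertible, hence in `GU`. -/
lemma exists_GU_of_preserves (hF : Fintype.card F = q ^ 2) (M : Matrix (Fin n) (Fin n) F)
    (hM : ∀ x y, Cfsg.hermForm n F q (M *ᵥ x) (M *ᵥ y) = Cfsg.hermForm n F q x y) :
    ∃ A : Cfsg.GU n F q, ((A : GL (Fin n) F) : Matrix (Fin n) (Fin n) F) = M := by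
  have hq : q ≠ 0 := Nat.pos_iff_ne_zero.mp (q_pos hF)
  have hinj : Function.Injective M.mulVec := by
    intro x y hxy
    have h0 : M *ᵥ (x - y) = 0 := by
      rw [Matrix.mulVec_sub]
      exact sub_eq_zero.mpr hxy
    have h1 : x - y = 0 := by
      funext i
      have h2 := hM (x - y) (Pi.single i 1)
      rw [h0, herm_single_right hq, herm_zero_left] at h2
      exact h2.symm
    exact sub_eq_zero.mp h1
  have hu : IsUnit M := Matrix.mulVec_injective_iff_isUnit.mp hinj
  obtain ⟨U, hU⟩ := hu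
  refine ⟨⟨U, ?_⟩, hU⟩
  rw [mem_GU_iff, hU]
  exact hM

/-- The elements of `GU` fixing `e_i` for `i ≥ k`. -/
def H (n : ℕ) (F : Type*) [Field F] (q k : ℕ) : Subgroup (Cfsg.GU n F q) where
  carrier := {A | ∀ i : Fin n, k ≤ i.val →
    ((A : GL (Fin n) F) : Matrix (Fin n) (Fin n) F) *ᵥ Pi.single i 1 = Pi.single i 1}
  mul_mem' := by
    intro A B hA hB i hi
    rw [Subgroup.coe_mul, Units.val_mul, ← mulVec_mulVec, hB i hi]
    exact hA i hi
  one_mem' := by
    intro i _
    exact one_mulVec _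
  inv_mem' := by
    intro A hA i hi
    have h : (((A⁻¹ * A : Cfsg.GU n F q) : GL (Fin n) F) : Matrix (Fin n) (Fin n) F) = 1 := by
      rw [inv_mul_cancel]
      rfl
    rw [Subgroup.coe_mul, Units.val_mul] at h
    have h1 := congrArg (fun M => M *ᵥ (Pi.single i 1 : Fin n → F)) h
    simp only [← mulVec_mulVec, one_mulVec] at h1
    rw [hA i hi] at h1
    exact h1

omit [Fintype F] in
lemma mem_H (k : ℕ) (A : Cfsg.GU n F q) :
    A ∈ H n F q k ↔ ∀ i : Fin n, k ≤ i.val →
      ((A : GL (Fin n) F) : Matrix (Fin n) (Fin n) F) *ᵥ Pi.single i 1 = Pi.single i 1 := Iff.rfl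

omit [Fintype F] in
lemma H_mono {k l : ℕ} (h : k ≤ l) : H n F q k ≤ H n F q l := fun _ hA i hi => hA i (le_trans h hi)

omit [Fintype F] in
lemma H_top : H n F q n = ⊤ := by
  rw [eq_top_iff]
  intro A _ i hi
  exact absurd i.2 (not_lt.mpr hi)

omit [Fintype F] in
lemma H_zero : H n F q 0 = ⊥ := by
  rw [Subgroup.eq_bot_iff_forall]
  intro A hA
  apply Subtype.ext
  apply Units.ext
  apply Matrix.ext_of_mulVec_single
  intro i
  have := hA i (Nat.zero_le _)
  show ((A : GL (Fin n) F) : Matrix (Fin n) (Fin n) F) *ᵥ Pi.single i 1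
    = (1 : Matrix (Fin n) (Fin n) F) *ᵥ Pi.single i 1
  rw [this, one_mulVec]

/-- The action of `GU` on vectors. -/
@[reducible] def vecAction (n : ℕ) (F : Type*) [Field F] (q : ℕ) :
    MulAction (Cfsg.GU n F q) (Fin n → F) where
  smul A v := ((A : GL (Fin n) F) : Matrix (Fin n) (Fin n) F) *ᵥ v
  one_smul v := by
    show (1 : Matrix (Fin n) (Fin n) F) *ᵥ v = v
    rw [one_mulVec]
  mul_smul A B v := by
    show (((A * B : Cfsg.GU n F q) : GL (Fin n) F) : Matrix (Fin n) (Fin n) F) *ᵥ v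
      = ((A : GL (Fin n) F) : Matrix (Fin n) (Fin n) F) *ᵥ
        (((B : GL (Fin n) F) : Matrix (Fin n) (Fin n) F) *ᵥ v)
    rw [Subgroup.coe_mul, Units.val_mul, mulVec_mulVec]

attribute [local instance] vecAction

/-- One step: a unitary (quasi-)reflection taking `u` to `v`. -/
lemma exists_map_of_ne (hF : Fintype.card F = q ^ 2) (k : ℕ) (u v : Fin n → F)
    (hu : ∀ i : Fin n, k ≤ i.val → u i = 0) (hv : ∀ i : Fin n, k ≤ i.val → v i = 0)
    (hu1 : Cfsg.hermForm n F q u u = 1) (hv1 : Cfsg.hermForm n F q v v = 1)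
    (huv : Cfsg.hermForm n F q u v ≠ 1) :
    ∃ A : Cfsg.GU n F q, A ∈ H n F q k ∧
      ((A : GL (Fin n) F) : Matrix (Fin n) (Fin n) F) *ᵥ u = v := by
  have hq : q ≠ 0 := Nat.pos_iff_ne_zero.mp (q_pos hF)
  set a := Cfsg.hermForm n F q u v with ha
  have hb : Cfsg.hermForm n F q v u = a ^ q := (herm_conj hF u v).symm
  have hd : (1 : F) - a ≠ 0 := by
    intro h
    apply huv
    rw [sub_eq_zero] at h
    exact h.symm
  have hdq : (1 : F) - a ^ q ≠ 0 := by
    have h1 : (1 : F) - a ^ q = (1 - a) ^ q := by rw [frob_sub hF, one_pow]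
    rw [h1]
    exact pow_ne_zero _ hd
  have hxw : ∀ x, Cfsg.hermForm n F q x (u - v)
      = Cfsg.hermForm n F q x u - Cfsg.hermForm n F q x v := fun x => herm_sub_right hF x u v
  have hww : Cfsg.hermForm n F q (u - v) (u - v) = (1 - a) + (1 - a ^ q) := by
    rw [herm_sub_left, hxw, hxw, hu1, hv1, hb]
    ring
  have hc : (-(1 - a)⁻¹ : F) ^ q = -(1 - a ^ q)⁻¹ := by
    rw [frob_neg hF, inv_pow, frob_sub hF, one_pow]
  obtain ⟨A, hA⟩ := exists_GU_of_preserves hF (Cfsg.unitaryTransvection n q (u - v) (-(1 - a)⁻¹))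
    (by
      intro x y
      rw [herm_transvection hF, hww, hc]
      field_simp
      ring)
  refine ⟨A, ?_, ?_⟩
  · intro i hi
    rw [hA, unitaryTransvection_mulVec, herm_single_left, Pi.sub_apply, hu i hi, hv i hi,
      sub_zero, zero_pow hq, mul_zero, zero_smul, add_zero]
  · rw [hA, unitaryTransvection_mulVec, hxw, hu1]
    have h1 : -(1 - a)⁻¹ * (1 - a) = -1 := by
      field_simp
    rw [h1, neg_one_smul]
    abel


lemma exists_norm_one_ne_one (hF : Fintype.card F = q ^ 2) : ∃ l : F, l ^ (q + 1) = 1 ∧ l ≠ 1 := by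
  by_contra hcon
  push_neg at hcon
  have hc := Cfsg.Agent.S0754.result hF (1 : F) one_ne_zero (one_pow q)
  have hsub : Subsingleton {x : F // x ^ (q + 1) = 1} :=
    ⟨fun x y => Subtype.ext ((hcon x.1 x.2).trans (hcon y.1 y.2).symm)⟩
  have h1 := Finite.card_le_one_iff_subsingleton.mpr hsub
  have := q_pos hF
  omega

omit [Fintype F] in
lemma smul_def (A : Cfsg.GU n F q) (v : Fin n → F) :
    A • v = ((A : GL (Fin n) F) : Matrix (Fin n) (Fin n) F) *ᵥ v := rfl

lemma orbit_eq (hF : Fintype.card F = q ^ 2) (k : ℕ) (hk : k < n) :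
    MulAction.orbit (H n F q (k + 1)) (Pi.single (⟨k, hk⟩ : Fin n) (1 : F) : Fin n → F)
      = {v | (∀ i : Fin n, k + 1 ≤ i.val → v i = 0) ∧ Cfsg.hermForm n F q v v = 1} := by
  have hq : q ≠ 0 := Nat.pos_iff_ne_zero.mp (q_pos hF)
  have hek : ∀ i : Fin n, k + 1 ≤ i.val → (Pi.single (⟨k, hk⟩ : Fin n) (1 : F) : Fin n → F) i = 0 := by
    intro i hi
    apply Pi.single_eq_of_ne
    intro h
    rw [h] at hi
    simp at hi
  have hek1 : Cfsg.hermForm n F q (Pi.single (⟨k, hk⟩ : Fin n) (1 : F))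
      (Pi.single (⟨k, hk⟩ : Fin n) (1 : F)) = 1 := by
    rw [herm_single_right hq, Pi.single_eq_same]
  ext v
  constructor
  · rintro ⟨A, rfl⟩
    have hA : ∀ x y, Cfsg.hermForm n F q (((A.1 : GL (Fin n) F) : Matrix (Fin n) (Fin n) F) *ᵥ x)
        (((A.1 : GL (Fin n) F) : Matrix (Fin n) (Fin n) F) *ᵥ y) = Cfsg.hermForm n F q x y :=
      (mem_GU_iff _).mp A.1.2
    refine ⟨?_, ?_⟩
    · intro i hi
      show (((A.1 : GL (Fin n) F) : Matrix (Fin n) (Fin n) F) *ᵥ Pi.single (⟨k, hk⟩ : Fin n) (1 : F)) i = 0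
      have h5 := hA (Pi.single (⟨k, hk⟩ : Fin n) (1 : F)) (Pi.single i (1 : F))
      rw [A.2 i hi, herm_single_right hq, herm_single_right hq] at h5
      rw [h5]
      exact hek i hi
    · show Cfsg.hermForm n F q (((A.1 : GL (Fin n) F) : Matrix (Fin n) (Fin n) F) *ᵥ _)
        (((A.1 : GL (Fin n) F) : Matrix (Fin n) (Fin n) F) *ᵥ _) = 1
      rw [hA, hek1]
  · rintro ⟨hv, hv1⟩
    by_cases h1 : Cfsg.hermForm n F q (Pi.single (⟨k, hk⟩ : Fin n) (1 : F)) v = 1
    · obtain ⟨l, hl, hl1⟩ := exists_norm_one_ne_one hF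
      have hlq : l ^ q ≠ 1 := by
        intro h
        apply hl1
        rw [pow_succ, h, one_mul] at hl
        exact hl
      obtain ⟨A, hA, hAe⟩ := exists_map_of_ne hF (k + 1) (Pi.single (⟨k, hk⟩ : Fin n) (1 : F))
        (l • Pi.single (⟨k, hk⟩ : Fin n) (1 : F)) hek
        (by
          intro i hi
          rw [Pi.smul_apply, hek i hi, smul_zero])
        hek1
        (by rw [herm_smul_left, herm_smul_right, hek1, mul_one, ← pow_succ', hl])
        (by rw [herm_smul_right, hek1, mul_one]; exact hlq)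
      obtain ⟨B, hB, hBe⟩ := exists_map_of_ne hF (k + 1)
        (l • Pi.single (⟨k, hk⟩ : Fin n) (1 : F)) v
        (by
          intro i hi
          rw [Pi.smul_apply, hek i hi, smul_zero])
        hv
        (by rw [herm_smul_left, herm_smul_right, hek1, mul_one, ← pow_succ', hl])
        hv1
        (by rw [herm_smul_left, h1, mul_one]; exact hl1)
      refine ⟨⟨B * A, (H n F q (k + 1)).mul_mem hB hA⟩, ?_⟩
      show (((B * A : Cfsg.GU n F q) : GL (Fin n) F) : Matrix (Fin n) (Fin n) F) *ᵥ _ = v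
      rw [Subgroup.coe_mul, Units.val_mul, ← mulVec_mulVec, hAe, hBe]
    · obtain ⟨A, hA, hAe⟩ := exists_map_of_ne hF (k + 1) (Pi.single (⟨k, hk⟩ : Fin n) (1 : F)) v
        hek hv hek1 hv1 h1
      exact ⟨⟨A, hA⟩, hAe⟩

omit [Fintype F] in
lemma stabilizer_eq (k : ℕ) (hk : k < n) :
    MulAction.stabilizer (H n F q (k + 1)) (Pi.single (⟨k, hk⟩ : Fin n) (1 : F) : Fin n → F)
      = (H n F q k).subgroupOf (H n F q (k + 1)) := by
  ext A
  rw [MulAction.mem_stabilizer_iff, Subgroup.mem_subgroupOf]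
  constructor
  · intro h i hi
    rcases Nat.eq_or_lt_of_le hi with h3 | h3
    · have hi' : i = ⟨k, hk⟩ := Fin.ext h3.symm
      rw [hi']
      exact h
    · exact A.2 i h3
  · intro h
    exact h ⟨k, hk⟩ le_rfl

omit [Fintype F] in
lemma herm_castLE {j : ℕ} (hj : j ≤ n) (v : Fin n → F)
    (hv : ∀ i : Fin n, j ≤ i.val → v i = 0) :
    Cfsg.hermForm n F q v v
      = Cfsg.hermForm j F q (fun i => v (Fin.castLE hj i)) (fun i => v (Fin.castLE hj i)) := by
  unfold Cfsg.hermForm
  symm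
  have h0 : ∑ i : Fin j, (fun i => v (Fin.castLE hj i)) i * (fun i => v (Fin.castLE hj i)) i ^ q
      = ∑ i ∈ Finset.univ.map (Fin.castLEEmb hj), v i * v i ^ q := by
    rw [Finset.sum_map]
    rfl
  rw [h0]
  apply Finset.sum_subset (Finset.subset_univ _)
  intro i _ hi
  have : j ≤ i.val := by
    by_contra hlt
    rw [not_le] at hlt
    apply hi
    rw [Finset.mem_map]
    exact ⟨⟨i.val, hlt⟩, Finset.mem_univ _, Fin.ext rfl⟩
  rw [hv i this, zero_mul]

omit [Fintype F] in
lemma card_supp_norm {j : ℕ} (hj : j ≤ n) (μ : F) :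
    Nat.card {v : Fin n → F // (∀ i : Fin n, j ≤ i.val → v i = 0) ∧ Cfsg.hermForm n F q v v = μ}
      = N F q j μ := by
  unfold N
  apply Nat.card_congr
  have hsupp : ∀ w : Fin j → F, ∀ i : Fin n, j ≤ i.val →
      (fun i : Fin n => if h : i.val < j then w ⟨i.val, h⟩ else 0) i = 0 := by
    intro w i hi
    exact dif_neg (not_lt.mpr hi)
  have hres : ∀ w : Fin j → F,
      (fun i : Fin j => (fun i : Fin n => if h : i.val < j then w ⟨i.val, h⟩ else 0) (Fin.castLE hj i)) = w := by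
    intro w
    funext i
    exact dif_pos i.2
  refine
    { toFun := fun v => ⟨fun i => v.1 (Fin.castLE hj i), by
        rw [← herm_castLE hj v.1 v.2.1]
        exact v.2.2⟩
      invFun := fun w => ⟨fun i => if h : i.val < j then w.1 ⟨i.val, h⟩ else 0, hsupp w.1, by
        rw [herm_castLE hj _ (hsupp w.1), hres]
        exact w.2⟩
      left_inv := ?_
      right_inv := ?_ }
  · intro v
    apply Subtype.ext
    funext i
    show (if h : i.val < j then v.1 (Fin.castLE hj ⟨i.val, h⟩) else 0) = v.1 i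
    by_cases h : i.val < j
    · rw [dif_pos h]
      rfl
    · rw [dif_neg h]
      exact (v.2.1 i (not_lt.mp h)).symm
  · intro w
    apply Subtype.ext
    exact hres w.1

lemma card_H_succ (hF : Fintype.card F = q ^ 2) (k : ℕ) (hk : k < n) :
    Nat.card (H n F q (k + 1)) = Nat.card (H n F q k) * N F q (k + 1) 1 := by
  have h1 := Subgroup.card_mul_index (MulAction.stabilizer (H n F q (k + 1))
    (Pi.single (⟨k, hk⟩ : Fin n) (1 : F) : Fin n → F))
  rw [MulAction.index_stabilizer] at h1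
  rw [orbit_eq hF k hk] at h1
  rw [stabilizer_eq (F := F) k hk,
    Nat.card_congr (Subgroup.subgroupOfEquivOfLe (H_mono (Nat.le_succ k))).toEquiv] at h1
  rw [← h1]
  congr 1
  exact card_supp_norm (Nat.succ_le_of_lt hk) 1

theorem card_H (hF : Fintype.card F = q ^ 2) (k : ℕ) (hk : k ≤ n) :
    Nat.card (H n F q k) = ∏ i ∈ Finset.range k, N F q (i + 1) 1 := by
  induction k with
  | zero =>
    rw [H_zero]
    simp
  | succ k ih =>
    rw [card_H_succ hF k hk, ih (Nat.le_of_succ_le hk), Finset.prod_range_succ]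

lemma N_succ_one (hF : Fintype.card F = q ^ 2) (i : ℕ) :
    N F q (i + 1) 1 = q ^ i * (if Even i then q ^ (i + 1) + 1 else q ^ (i + 1) - 1) := by
  have hq := q_pos hF
  have h := (closed hF (i + 1)).1
  have hqz : (q : ℤ) ≠ 0 := by
    intro h0
    have : q = 0 := by exact_mod_cast h0
    omega
  have hpow : 1 ≤ q ^ (i + 1) := Nat.one_le_pow _ _ hq
  by_cases he : Even i
  · rw [if_pos he]
    have h2 : ((-1 : ℤ)) ^ (i + 1) = -1 := by
      rw [pow_succ, he.neg_one_pow]
      norm_num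
    rw [h2] at h
    have h3 : (q : ℤ) * (N F q (i + 1) 1 : ℤ) = (q : ℤ) * ((q : ℤ) ^ i * ((q : ℤ) ^ (i + 1) + 1)) := by
      rw [h]
      ring
    have h4 := mul_left_cancel₀ hqz h3
    exact_mod_cast h4
  · rw [if_neg he]
    have ho : Odd i := Nat.not_even_iff_odd.mp he
    have h2 : ((-1 : ℤ)) ^ (i + 1) = 1 := by
      rw [pow_succ, ho.neg_one_pow]
      norm_num
    rw [h2] at h
    have h3 : (q : ℤ) * (N F q (i + 1) 1 : ℤ) = (q : ℤ) * ((q : ℤ) ^ i * ((q : ℤ) ^ (i + 1) - 1)) := by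
      rw [h]
      ring
    have h4 := mul_left_cancel₀ hqz h3
    have h5 : ((q ^ i * (q ^ (i + 1) - 1) : ℕ) : ℤ) = (q : ℤ) ^ i * ((q : ℤ) ^ (i + 1) - 1) := by
      rw [Nat.cast_mul, Nat.cast_sub hpow]
      push_cast
      ring
    rw [← h5] at h4
    exact_mod_cast h4

/-- The order of the general unitary group. -/
theorem card_GU (hF : Fintype.card F = q ^ 2) (n : ℕ) :
    Nat.card (Cfsg.GU n F q) = q ^ (n * (n - 1) / 2) *
      ∏ i ∈ Finset.range n, (if Even i then q ^ (i + 1) + 1 else q ^ (i + 1) - 1) := by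
  have h1 : Nat.card (Cfsg.GU n F q) = Nat.card (H n F q n) := by
    rw [H_top]
    exact (Nat.card_congr Subgroup.topEquiv.toEquiv).symm
  rw [h1, card_H hF n le_rfl, Finset.prod_congr rfl (fun i _ => N_succ_one hF i),
    Finset.prod_mul_distrib, Finset.prod_pow_eq_pow_sum, Finset.sum_range_id]

end Cfsg.Agent.Lib_helper4_GU
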