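import Mathlib

set_option autoImplicit false

/-! Hermitian forms over finite fields: trace/norm surjectivity and orthonormal bases. -/

namespace Cfsg.Agent.Lib_helper4_HermBasis
open Module

section Field
variable {F : Type*} [Field F] (σ : F →+* F)

lemma exists_trace_ne (hσ : σ ≠ RingHom.id F) : ∃ e : F, e + σ e ≠ 0 := by
  by_cases h2 : (1 : F) + 1 = 0
  · have : ∃ e, σ e ≠ e := by
      by_contra h
      push Not at h
      exact hσ (RingHom.ext h)
    obtain ⟨e, he⟩ := this
    refine ⟨e, fun h => he ?_⟩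
    have h1 : σ e = -e := by rw [eq_neg_iff_add_eq_zero, add_comm]; exact h
    have h3 : e + e = 0 := by
      have : (1 + 1) * e = 0 := by rw [h2, zero_mul]
      rw [← this]; ring
    rw [h1, neg_eq_iff_add_eq_zero, h3]
  · exact ⟨1, by rw [map_one]; exact h2⟩

lemma trace_surj (hσ : σ ≠ RingHom.id F) (hσ2 : ∀ a : F, σ (σ a) = a) (d : F) (hd : d ≠ 0)
    (t : F) (ht : σ t = t) : ∃ a : F, a * d + σ (a * d) = t := by
  obtain ⟨e, he⟩ := exists_trace_ne σ hσ
  refine ⟨e * t / (e + σ e) / d, ?_⟩
  have hs : σ (e + σ e) = e + σ e := by rw [map_add, hσ2, add_comm]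
  rw [div_mul_cancel₀ _ hd, map_div₀, map_mul, ht, hs]
  field_simp

lemma norm_surj [Finite F] (hσ : σ ≠ RingHom.id F) (hσ2 : ∀ a : F, σ (σ a) = a) (d : F)
    (hd : σ d = d) (hd0 : d ≠ 0) : ∃ c : F, σ c * c = d := by
  classical
  let σu : Fˣ →* Fˣ := Units.map σ
  have hσu2 : ∀ a : Fˣ, σu (σu a) = a := fun a => Units.ext (hσ2 a)
  let N : Fˣ →* Fˣ :=
    { toFun := fun a => σu a * a
      map_one' := by simp
      map_mul' := fun a b => by rw [map_mul]; exact mul_mul_mul_comm _ _ _ _ }
  let T : Fˣ →* Fˣ :=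
    { toFun := fun b => b * (σu b)⁻¹
      map_one' := by simp
      map_mul' := fun a b => by rw [map_mul, mul_inv]; exact mul_mul_mul_comm _ _ _ _ }
  have h1 : N.ker ≤ T.range := by
    intro a ha
    rw [MonoidHom.mem_ker] at ha
    have ha' : σ (a : F) * (a : F) = 1 := by
      have := congrArg (fun u : Fˣ => (u : F)) ha
      simpa [N, σu] using this
    have hex : ∃ c : F, c + a * σ c ≠ 0 := by
      by_contra h
      push Not at h
      have h1 := h 1
      rw [map_one, mul_one] at h1
      have ha1 : (a : F) = -1 := by rw [eq_neg_iff_add_eq_zero, add_comm]; exact h1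
      apply hσ
      ext c
      have := h c
      rw [ha1] at this
      rw [RingHom.id_apply]
      linear_combination -this
    obtain ⟨c, hc⟩ := hex
    refine ⟨Units.mk0 _ hc, ?_⟩
    apply Units.ext
    have hb : (a : F) * σ (c + a * σ c) = c + a * σ c := by
      rw [map_add, map_mul, hσ2]
      linear_combination c * ha'
    have hσb : σ (c + a * σ c) ≠ 0 := by
      intro h0
      rw [h0, mul_zero] at hb
      exact hc hb.symm
    simp only [T, σu, MonoidHom.coe_mk, OneHom.coe_mk, Units.val_mul, Units.val_mk0,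
      Units.val_inv_eq_inv_val, Units.coe_map, MonoidHom.coe_coe]
    rw [← div_eq_mul_inv, div_eq_iff hσb]
    exact hb.symm
  have h2 : T.range ≤ N.ker := by
    rintro _ ⟨b, rfl⟩
    rw [MonoidHom.mem_ker]
    change σu (b * (σu b)⁻¹) * (b * (σu b)⁻¹) = 1
    rw [map_mul, map_inv, hσu2]
    group
  have h3 : N.range ≤ T.ker := by
    rintro _ ⟨a, rfl⟩
    rw [MonoidHom.mem_ker]
    change σu a * a * (σu (σu a * a))⁻¹ = 1
    rw [map_mul, hσu2, mul_comm a (σu a)]
    exact mul_inv_cancel _
  have hkr : T.range = N.ker := le_antisymm h2 h1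
  have c1 : Nat.card T.ker * Nat.card T.range = Nat.card Fˣ := by
    rw [← Subgroup.index_ker]; exact Subgroup.card_mul_index _
  have c2 : Nat.card N.ker * Nat.card N.range = Nat.card Fˣ := by
    rw [← Subgroup.index_ker]; exact Subgroup.card_mul_index _
  rw [hkr] at c1
  have hpos : 0 < Nat.card N.ker := Nat.card_pos
  have c3 : Nat.card T.ker = Nat.card N.range := by
    have : Nat.card N.ker * Nat.card T.ker = Nat.card N.ker * Nat.card N.range := by
      rw [c2, mul_comm, c1]
    exact Nat.eq_of_mul_eq_mul_left hpos this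
  have hrange : N.range = T.ker := Subgroup.eq_of_le_of_card_ge h3 c3.le
  have hdk : Units.mk0 d hd0 ∈ T.ker := by
    rw [MonoidHom.mem_ker]
    apply Units.ext
    simp only [T, σu, MonoidHom.coe_mk, OneHom.coe_mk, Units.val_mul, Units.val_mk0,
      Units.val_inv_eq_inv_val, Units.coe_map, MonoidHom.coe_coe, hd, Units.val_one]
    exact mul_inv_cancel₀ hd0
  rw [← hrange] at hdk
  obtain ⟨c, hc⟩ := hdk
  refine ⟨(c : F), ?_⟩
  have := congrArg (fun u : Fˣ => (u : F)) hc
  simpa [N, σu] using this

end Field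

section Form
variable {F V : Type*} [Field F] [AddCommGroup V] [Module F V] {σ : F →+* F}
  (B : V →ₛₗ[σ] V →ₗ[F] F)

lemma smul_left (c : F) (x y : V) : B (c • x) y = σ c * B x y := by
  rw [map_smulₛₗ, LinearMap.smul_apply, smul_eq_mul]

lemma exists_self_ne (hS : B.IsSymm) (hσ : σ ≠ RingHom.id F) (U : Submodule F V) (y z : V)
    (hy : y ∈ U) (hz : z ∈ U) (h : B y z ≠ 0) : ∃ v ∈ U, B v v ≠ 0 := by
  by_contra hcon
  push Not at hcon
  obtain ⟨e, he⟩ := exists_trace_ne σ hσ
  have h1 := hcon (y + (e / B y z) • z) (U.add_mem hy (U.smul_mem _ hz))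
  have hexp : ∀ c : F, B (y + c • z) (y + c • z)
      = B y y + c * B y z + σ c * B z y + σ c * c * B z z := by
    intro c
    simp only [map_add, LinearMap.add_apply, smul_left, map_smul, smul_eq_mul]; ring
  rw [hexp, hcon y hy, hcon z hz, ← hS.eq y z, map_div₀] at h1
  apply he
  have hne : σ (B y z) ≠ 0 := by
    intro h0
    apply h
    have := hS.eq y z
    rw [h0] at this
    exact (hS.eq_iff).1 this.symm
  rw [← h1]
  field_simp
  ring

lemma exists_unit [Finite F] (hS : B.IsSymm) (hσ : σ ≠ RingHom.id F) (hσ2 : ∀ a : F, σ (σ a) = a)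
    (U : Submodule F V) (y z : V) (hy : y ∈ U) (hz : z ∈ U) (h : B y z ≠ 0) :
    ∃ w ∈ U, B w w = 1 := by
  obtain ⟨v, hvU, hv⟩ := exists_self_ne B hS hσ U y z hy hz h
  have hfix : σ (B v v)⁻¹ = (B v v)⁻¹ := by rw [map_inv₀, hS.eq]
  obtain ⟨c, hc⟩ := norm_surj σ hσ hσ2 (B v v)⁻¹ hfix (inv_ne_zero hv)
  refine ⟨c • v, U.smul_mem _ hvU, ?_⟩
  rw [smul_left, map_smul, smul_eq_mul, ← mul_assoc, hc, inv_mul_cancel₀ hv]

end Form

section Basis
variable {F : Type*} [Field F] [Finite F] {σ : F →+* F}

theorem exists_orthonormal_type (hσ : σ ≠ RingHom.id F) (hσ2 : ∀ a : F, σ (σ a) = a) :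
    ∀ (n : ℕ) {V : Type*} [AddCommGroup V] [Module F V] [FiniteDimensional F V]
      (B : V →ₛₗ[σ] V →ₗ[F] F) (_ : B.IsSymm) (_ : B.Nondegenerate), finrank F V = n →
      ∃ (ι : Type) (_ : Fintype ι) (_ : DecidableEq ι) (b : Module.Basis ι F V),
        ∀ i j : ι, B (b i) (b j) = if i = j then 1 else 0 := by
  intro n
  induction n using Nat.strong_induction_on with
  | _ n ih =>
    intro V _ _ _ B hS hB hn
    classical
    by_cases hB0 : ∀ x y : V, B x y = 0
    · have hsub : Subsingleton V := ⟨fun x y => by rw [hB.1 x (hB0 x), hB.1 y (hB0 y)]⟩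
      exact ⟨Empty, inferInstance, inferInstance, Module.Basis.empty V, fun i => i.elim⟩
    · push Not at hB0
      obtain ⟨y, z, hyz⟩ := hB0
      obtain ⟨w, -, hw⟩ := exists_unit B hS hσ hσ2 ⊤ y z trivial trivial hyz
      let g : Unit → V := fun _ => w
      have hw0 : w ≠ 0 := by
        rintro rfl
        simp at hw
      have hli : LinearIndependent F g := LinearIndependent.of_subsingleton () hw0
      let H : Submodule F V := Submodule.span F (Set.range g)
      let bH : Module.Basis Unit F H := Module.Basis.span hli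
      let W : Submodule F V := LinearMap.ker (B w)
      have hWmem : ∀ x, x ∈ W ↔ B w x = 0 := fun x => LinearMap.mem_ker
      have hwH : w ∈ H := Submodule.subset_span ⟨(), rfl⟩
      have hHmem : ∀ x ∈ H, ∃ a : F, x = a • w := by
        intro x hx
        have hH : H = Submodule.span F {w} := by
          simp [H, g]
        rw [hH] at hx
        obtain ⟨a, rfl⟩ := Submodule.mem_span_singleton.1 hx
        exact ⟨a, rfl⟩
      have hcompl : IsCompl H W := by
        constructor
        · rw [Submodule.disjoint_def]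
          intro x hxH hxW
          obtain ⟨a, rfl⟩ := hHmem x hxH
          have := (hWmem _).1 hxW
          rw [map_smul, smul_eq_mul, hw, mul_one] at this
          rw [this, zero_smul]
        · rw [codisjoint_iff, eq_top_iff]
          intro x _
          have hx : x = (B w x) • w + (x - (B w x) • w) := by abel
          rw [hx]
          refine Submodule.add_mem_sup (H.smul_mem _ hwH) ?_
          rw [hWmem, map_sub, map_smul, smul_eq_mul, hw, mul_one, sub_self]
      have hfin := Submodule.finrank_add_eq_of_isCompl hcompl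
      have hHpos : 0 < finrank F H := by
        rw [finrank_eq_card_basis bH]; simp
      have hWw : ∀ x : W, B w x = 0 := fun x => (hWmem _).1 x.2
      have hWw' : ∀ x : W, B x w = 0 := fun x => (hS.eq_iff).1 (hWw x)
      have hsepL : (B.domRestrict₁₂ W W).SeparatingLeft := by
        intro x hx
        apply Subtype.ext
        apply hB.1
        intro y
        obtain ⟨h, hh, y', hy', rfl⟩ := Submodule.mem_sup.1
          (show y ∈ H ⊔ W by rw [hcompl.sup_eq_top]; trivial)
        obtain ⟨a, rfl⟩ := hHmem h hh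
        rw [map_add, map_smul, hWw' x, smul_zero, zero_add]
        exact hx ⟨y', hy'⟩
      have hS' := hS.domRestrict W
      have hsepR : (B.domRestrict₁₂ W W).SeparatingRight := by
        intro y hy
        apply hsepL
        intro x
        exact (hS'.eq_iff).1 (hy x)
      obtain ⟨ι, _, _, b', h1⟩ :=
        ih (finrank F W) (by omega) (B.domRestrict₁₂ W W) hS' ⟨hsepL, hsepR⟩ rfl
      let b₀ : Module.Basis (Unit ⊕ ι) F V :=
        (bH.prod b').map (Submodule.prodEquivOfIsCompl H W hcompl)
      have hb₀l : ∀ a, b₀ (Sum.inl a) = w := by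
        intro a
        simp only [b₀, bH, Module.Basis.map_apply, Submodule.coe_prodEquivOfIsCompl',
          Module.Basis.prod_apply_inl_fst, Module.Basis.prod_apply_inl_snd, Submodule.coe_zero,
          add_zero]
        exact congrArg Subtype.val (Module.Basis.span_apply hli a)
      have hb₀r : ∀ c, b₀ (Sum.inr c) = (b' c : V) := by
        intro c
        simp [b₀, Submodule.coe_prodEquivOfIsCompl']
      refine ⟨Unit ⊕ ι, inferInstance, inferInstance, b₀, ?_⟩
      rintro (_ | i) (_ | j)
      · simp [hb₀l, hw]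
      · simp [hb₀l, hb₀r, hWw]
      · simp [hb₀l, hb₀r, hWw']
      · have e : B (b' i : V) (b' j : V) = if i = j then 1 else 0 := h1 i j
        simp [hb₀r, e]

theorem exists_orthonormal (hσ : σ ≠ RingHom.id F) (hσ2 : ∀ a : F, σ (σ a) = a)
    {V : Type*} [AddCommGroup V] [Module F V] [FiniteDimensional F V]
    (B : V →ₛₗ[σ] V →ₗ[F] F) (hS : B.IsSymm) (hB : B.Nondegenerate) :
    ∃ b : Module.Basis (Fin (finrank F V)) F V,
      ∀ i j, B (b i) (b j) = if i = j then 1 else 0 := by
  obtain ⟨ι, _, _, b, h⟩ := exists_orthonormal_type hσ hσ2 (finrank F V) B hS hB rfl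
  have hcard : Fintype.card ι = finrank F V := (finrank_eq_card_basis b).symm
  let e : ι ≃ Fin (finrank F V) := Fintype.equivFinOfCardEq hcard
  refine ⟨b.reindex e, ?_⟩
  intro i j
  simp only [Module.Basis.reindex_apply, h]
  by_cases hij : i = j
  · simp [hij]
  · simp [hij]

end Basis

end Cfsg.Agent.Lib_helper4_HermBasis
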