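import Mathlib

/-! `SL_2(q)`: Cayley–Hamilton by hand, orders of elements prime to the characteristic, involutions. -/

namespace Cfsg.Agent.Lib_helper4_SL2
open Matrix

variable {F : Type*} [Field F]

lemma cayley (M : Matrix (Fin 2) (Fin 2) F) (hdet : M.det = 1) : M * M = M.trace • M - 1 := by
  rw [Matrix.det_fin_two] at hdet
  ext i j
  fin_cases i <;> fin_cases j
  · simp [Matrix.mul_apply, Fin.sum_univ_two, Matrix.trace]
    linear_combination (-1 : F) * hdet
  · simp [Matrix.mul_apply, Fin.sum_univ_two, Matrix.trace]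
    ring
  · simp [Matrix.mul_apply, Fin.sum_univ_two, Matrix.trace]
    ring
  · simp [Matrix.mul_apply, Fin.sum_univ_two, Matrix.trace]
    linear_combination (-1 : F) * hdet

lemma pow_form (M : Matrix (Fin 2) (Fin 2) F) (hdet : M.det = 1) (n : ℕ) :
    ∃ a b : F, M ^ n = a • (1 : Matrix (Fin 2) (Fin 2) F) + b • M := by
  induction n with
  | zero => exact ⟨1, 0, by simp⟩
  | succ n ih =>
    obtain ⟨a, b, h⟩ := ih
    refine ⟨-b, a + b * M.trace, ?_⟩
    rw [pow_succ, h, add_mul, smul_mul_assoc, smul_mul_assoc, one_mul, cayley M hdet]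
    module

lemma isUnit_of_noEigen (M : Matrix (Fin 2) (Fin 2) F)
    (hne : ∀ v : Fin 2 → F, v ≠ 0 → ∀ l : F, M *ᵥ v ≠ l • v) (a b : F)
    (hX : a • (1 : Matrix (Fin 2) (Fin 2) F) + b • M ≠ 0) :
    IsUnit (a • (1 : Matrix (Fin 2) (Fin 2) F) + b • M) := by
  rw [Matrix.isUnit_iff_isUnit_det, isUnit_iff_ne_zero]
  intro hdet
  obtain ⟨v, hv, hXv⟩ := Matrix.exists_mulVec_eq_zero_iff.mpr hdet
  rw [Matrix.add_mulVec, Matrix.smul_mulVec, Matrix.smul_mulVec, Matrix.one_mulVec] at hXv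
  by_cases hb : b = 0
  · rw [hb, zero_smul, add_zero] at hXv
    rcases smul_eq_zero.mp hXv with h | h
    · apply hX
      rw [h, hb, zero_smul, zero_smul, add_zero]
    · exact hv h
  · apply hne v hv (-a / b)
    have h1 : b • M *ᵥ v = -(a • v) := eq_neg_of_add_eq_zero_right hXv
    have h2 : M *ᵥ v = b⁻¹ • (b • M *ᵥ v) := by rw [smul_smul, inv_mul_cancel₀ hb, one_smul]
    rw [h2, h1, smul_neg, smul_smul, ← neg_smul]
    congr 1
    field_simp

lemma pow_mulVec_eigen (M : Matrix (Fin 2) (Fin 2) F) (v : Fin 2 → F) (l : F) (h : M *ᵥ v = l • v)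
    (k : ℕ) : (M ^ k) *ᵥ v = l ^ k • v := by
  induction k with
  | zero => simp
  | succ k ih =>
    rw [pow_succ, ← Matrix.mulVec_mulVec, h, Matrix.mulVec_smul, ih, smul_smul, pow_succ, mul_comm]

lemma factor (h M N : Matrix (Fin 2) (Fin 2) F) (t : F) (hhh : h * h = t • h - 1)
    (hN : h * N = t • h - M * h) (hMN : M * N = 1) : (h - M) * (h - N) = 0 := by
  rw [sub_mul, mul_sub, mul_sub, hN, hMN, hhh]
  abel

/-- Orders of elements of `SL_2(q)` prime to the characteristic divide `q - 1` or `q + 1`. -/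
theorem orderOf_dvd [Fintype F] {q : ℕ} (hF : Fintype.card F = q) (p : ℕ) [Fact p.Prime] [CharP F p]
    (g : Matrix.SpecialLinearGroup (Fin 2) F) (hg : Nat.Coprime (orderOf g) p) :
    orderOf g ∣ q - 1 ∨ orderOf g ∣ q + 1 := by
  classical
  have hp : p.Prime := Fact.out
  have hdet : (g : Matrix (Fin 2) (Fin 2) F).det = 1 := g.2
  obtain ⟨n, -, hn⟩ := FiniteField.card F p
  rw [hF] at hn
  have hq1 : 1 ≤ q := by
    rw [hn]
    exact Nat.one_le_pow _ _ hp.pos
  by_cases hE : ∃ v : Fin 2 → F, v ≠ 0 ∧ ∃ l : F, (g : Matrix (Fin 2) (Fin 2) F) *ᵥ v = l • v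
  · left
    obtain ⟨v, hv, l, hl⟩ := hE
    have hl0 : l ≠ 0 := by
      rintro rfl
      rw [zero_smul] at hl
      have h1 := Matrix.exists_mulVec_eq_zero_iff.mp ⟨v, hv, hl⟩
      rw [hdet] at h1
      exact one_ne_zero h1
    have hlq : l ^ (q - 1) = 1 := by
      rw [← hF]
      exact FiniteField.pow_card_sub_one_eq_one l hl0
    have hKv : ((g : Matrix (Fin 2) (Fin 2) F) ^ (q - 1)) *ᵥ v = v := by
      rw [pow_mulVec_eigen _ v l hl, hlq, one_smul]
    have hKdet : ((g : Matrix (Fin 2) (Fin 2) F) ^ (q - 1)).det = 1 := by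
      rw [Matrix.det_pow, hdet, one_pow]
    have hc := cayley _ hKdet
    have ht : ((g : Matrix (Fin 2) (Fin 2) F) ^ (q - 1)).trace = 2 := by
      have h1 := congrArg (fun X : Matrix (Fin 2) (Fin 2) F => X *ᵥ v) hc
      simp only [← Matrix.mulVec_mulVec, Matrix.sub_mulVec, Matrix.smul_mulVec, Matrix.one_mulVec,
        hKv] at h1
      have h2 : (((g : Matrix (Fin 2) (Fin 2) F) ^ (q - 1)).trace - 2) • v = 0 := by
        rw [sub_smul, two_smul]
        have h3 : ((g : Matrix (Fin 2) (Fin 2) F) ^ (q - 1)).trace • v = v + v := by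
          rw [eq_sub_iff_add_eq] at h1
          exact h1.symm
        rw [h3, sub_self]
      rcases smul_eq_zero.mp h2 with h | h
      · exact sub_eq_zero.mp h
      · exact absurd h hv
    rw [ht] at hc
    have hN : ((g : Matrix (Fin 2) (Fin 2) F) ^ (q - 1) - 1) * ((g : Matrix (Fin 2) (Fin 2) F) ^ (q - 1) - 1) = 0 := by
      rw [sub_mul, mul_sub, mul_sub, hc, mul_one, one_mul, one_mul, two_smul]
      abel
    have hKp : ((g : Matrix (Fin 2) (Fin 2) F) ^ (q - 1)) ^ p = 1 := by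
      have h1 : (g : Matrix (Fin 2) (Fin 2) F) ^ (q - 1)
          = 1 + ((g : Matrix (Fin 2) (Fin 2) F) ^ (q - 1) - 1) := by abel
      rw [h1, add_pow_char_of_commute _ (Commute.one_left _), one_pow]
      have h2 : ((g : Matrix (Fin 2) (Fin 2) F) ^ (q - 1) - 1) ^ p = 0 := by
        obtain ⟨k, hk⟩ : ∃ k, p = 2 + k := ⟨p - 2, by have := hp.two_le; omega⟩
        rw [hk, pow_add, pow_two, hN, zero_mul]
      rw [h2, add_zero]
    have hgp : g ^ ((q - 1) * p) = 1 := by
      apply Subtype.ext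
      rw [Matrix.SpecialLinearGroup.coe_pow, pow_mul, hKp]
      rfl
    exact Nat.Coprime.dvd_of_dvd_mul_right hg (orderOf_dvd_of_pow_eq_one hgp)
  · have hne : ∀ v : Fin 2 → F, v ≠ 0 → ∀ l : F, (g : Matrix (Fin 2) (Fin 2) F) *ᵥ v ≠ l • v := by
      intro v hv l hl
      exact hE ⟨v, hv, l, hl⟩
    have hc := cayley _ hdet
    have hfrob : (g : Matrix (Fin 2) (Fin 2) F) ^ q * (g : Matrix (Fin 2) (Fin 2) F) ^ q
        = (g : Matrix (Fin 2) (Fin 2) F).trace • (g : Matrix (Fin 2) (Fin 2) F) ^ q - 1 := by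
      have h1 : ((g : Matrix (Fin 2) (Fin 2) F) * (g : Matrix (Fin 2) (Fin 2) F)) ^ q
          = ((g : Matrix (Fin 2) (Fin 2) F).trace • (g : Matrix (Fin 2) (Fin 2) F) - 1) ^ q := by
        rw [hc]
      rw [(Commute.refl (g : Matrix (Fin 2) (Fin 2) F)).mul_pow] at h1
      rw [h1, hn, sub_pow_char_pow_of_commute _ _ (Commute.one_right _), one_pow, smul_pow]
      congr 2
      rw [← hn, ← hF]
      exact FiniteField.pow_card _
    have hcomm : (g : Matrix (Fin 2) (Fin 2) F) ^ q * (g : Matrix (Fin 2) (Fin 2) F)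
        = (g : Matrix (Fin 2) (Fin 2) F) * (g : Matrix (Fin 2) (Fin 2) F) ^ q := by
      rw [← pow_succ, ← pow_succ']
    have hNM : ((g : Matrix (Fin 2) (Fin 2) F).trace • (1 : Matrix (Fin 2) (Fin 2) F)
        - (g : Matrix (Fin 2) (Fin 2) F)) * (g : Matrix (Fin 2) (Fin 2) F) = 1 := by
      rw [sub_mul, smul_mul_assoc, one_mul, hc]
      abel
    have hMN : (g : Matrix (Fin 2) (Fin 2) F) * ((g : Matrix (Fin 2) (Fin 2) F).trace • (1 : Matrix (Fin 2) (Fin 2) F)
        - (g : Matrix (Fin 2) (Fin 2) F)) = 1 := by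
      rw [mul_sub, mul_smul_comm, mul_one, hc]
      abel
    have e1 : (g : Matrix (Fin 2) (Fin 2) F) ^ q * ((g : Matrix (Fin 2) (Fin 2) F).trace • (1 : Matrix (Fin 2) (Fin 2) F)
        - (g : Matrix (Fin 2) (Fin 2) F))
        = (g : Matrix (Fin 2) (Fin 2) F).trace • (g : Matrix (Fin 2) (Fin 2) F) ^ q
          - (g : Matrix (Fin 2) (Fin 2) F) * (g : Matrix (Fin 2) (Fin 2) F) ^ q := by
      rw [mul_sub, mul_smul_comm, mul_one, hcomm]
    have e : ((g : Matrix (Fin 2) (Fin 2) F) ^ q - (g : Matrix (Fin 2) (Fin 2) F))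
        * ((g : Matrix (Fin 2) (Fin 2) F) ^ q - ((g : Matrix (Fin 2) (Fin 2) F).trace • (1 : Matrix (Fin 2) (Fin 2) F)
        - (g : Matrix (Fin 2) (Fin 2) F))) = 0 := by
      exact factor _ _ _ _ hfrob e1 hMN
    obtain ⟨a, b, hab⟩ := pow_form (g : Matrix (Fin 2) (Fin 2) F) hdet q
    by_cases hz : (g : Matrix (Fin 2) (Fin 2) F) ^ q - (g : Matrix (Fin 2) (Fin 2) F) = 0
    · left
      have h1 : g ^ q = g := by
        apply Subtype.ext
        rw [Matrix.SpecialLinearGroup.coe_pow]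
        exact sub_eq_zero.mp hz
      have h2 : g ^ (q - 1) * g = g := by
        rw [← pow_succ]
        have : q - 1 + 1 = q := by omega
        rw [this, h1]
      have h3 : g ^ (q - 1) = 1 := by
        have h4 := congrArg (fun x => x * g⁻¹) h2
        simp only [mul_inv_cancel_right, mul_inv_cancel] at h4
        exact h4
      exact orderOf_dvd_of_pow_eq_one h3
    · right
      have hform : (g : Matrix (Fin 2) (Fin 2) F) ^ q - (g : Matrix (Fin 2) (Fin 2) F)
          = a • (1 : Matrix (Fin 2) (Fin 2) F) + (b - 1) • (g : Matrix (Fin 2) (Fin 2) F) := by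
        rw [hab]
        module
      have hunit : IsUnit ((g : Matrix (Fin 2) (Fin 2) F) ^ q - (g : Matrix (Fin 2) (Fin 2) F)) := by
        rw [hform]
        apply isUnit_of_noEigen _ hne
        rw [← hform]
        exact hz
      have h1 := (hunit.mul_right_eq_zero).mp e
      have h2 : (g : Matrix (Fin 2) (Fin 2) F) ^ q = (g : Matrix (Fin 2) (Fin 2) F).trace • (1 : Matrix (Fin 2) (Fin 2) F)
        - (g : Matrix (Fin 2) (Fin 2) F) := sub_eq_zero.mp h1
      have h3 : g ^ (q + 1) = 1 := by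
        apply Subtype.ext
        rw [Matrix.SpecialLinearGroup.coe_pow, pow_succ, h2, hNM]
        rfl
      exact orderOf_dvd_of_pow_eq_one h3

end Cfsg.Agent.Lib_helper4_SL2
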