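import Mathlib
import Cfsg.Agent.Lib_helper4_Card

set_option autoImplicit false

/-! Sylow `r`-subgroups of `SL_2(q)` for odd `r` prime to `q` are cyclic. -/

namespace Cfsg.Agent.Lib_helper4_SL2Cyc
open Matrix

variable {F : Type*} [Field F]

/-- If a cyclic subgroup has order divisible by the order of a Sylow subgroup, the Sylow subgroups are
cyclic. -/
lemma sylow_cyclic_of_cyclic {G : Type*} [Group G] [Finite G] (r : ℕ) [Fact r.Prime]
    (C : Subgroup G) [IsCyclic C] (R : Sylow r G) (h : Nat.card R ∣ Nat.card C) : IsCyclic R := by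
  rw [Sylow.card_eq_multiplicity] at h
  obtain ⟨K, hK⟩ := Sylow.exists_subgroup_card_pow_prime r h
  have hK' : Nat.card (K.map C.subtype) = r ^ (Nat.card G).factorization r := by
    rw [Subgroup.card_map_of_injective C.subtype_injective, hK]
  have hP : IsPGroup r (K.map C.subtype) := IsPGroup.of_card hK'
  obtain ⟨R', hR'⟩ := hP.exists_le_sylow
  have heq : K.map C.subtype = (R' : Subgroup G) := by
    apply Subgroup.eq_of_le_of_card_ge hR'
    rw [hK', Sylow.card_eq_multiplicity]
  have hcyc : IsCyclic (R' : Subgroup G) := by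
    rw [← heq]
    exact isCyclic_of_surjective (K.equivMapOfInjective C.subtype C.subtype_injective)
      (MulEquiv.surjective _)
  obtain ⟨g, hg⟩ := MulAction.exists_smul_eq G R' R
  have e : (R : Subgroup G) = (R' : Subgroup G).map (MulAut.conj g).toMonoidHom := by
    rw [← hg]; rfl
  rw [e]
  exact isCyclic_of_surjective ((R' : Subgroup G).equivMapOfInjective (MulAut.conj g).toMonoidHom
    (MulEquiv.injective (MulAut.conj g))) (MulEquiv.surjective _)

/-- The split torus. -/
def torusHom : Fˣ →* SpecialLinearGroup (Fin 2) F where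
  toFun t := ⟨!![(t : F), 0; 0, ((t⁻¹ : Fˣ) : F)], by simp [Matrix.det_fin_two]⟩
  map_one' := by
    apply Subtype.ext
    simp [Matrix.one_fin_two]
  map_mul' := by
    intro s t
    apply Subtype.ext
    show !![((s * t : Fˣ) : F), 0; 0, (((s * t)⁻¹ : Fˣ) : F)]
      = !![(s : F), 0; 0, ((s⁻¹ : Fˣ) : F)] * !![(t : F), 0; 0, ((t⁻¹ : Fˣ) : F)]
    simp [Matrix.mul_fin_two, mul_comm]

lemma torusHom_injective : Function.Injective (torusHom : Fˣ →* SpecialLinearGroup (Fin 2) F) := by
  intro s t h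
  have := congrArg (fun g : SpecialLinearGroup (Fin 2) F => (g : Matrix (Fin 2) (Fin 2) F) 0 0) h
  apply Units.ext
  exact this

lemma card_torus [Fintype F] :
    Nat.card (torusHom : Fˣ →* SpecialLinearGroup (Fin 2) F).range = Fintype.card F - 1 := by
  rw [← Nat.card_congr (MonoidHom.ofInjective (torusHom_injective (F := F))).toEquiv, Nat.card_units,
    Nat.card_eq_fintype_card]

instance [Fintype F] : IsCyclic (torusHom : Fˣ →* SpecialLinearGroup (Fin 2) F).range :=
  isCyclic_of_surjective (torusHom : Fˣ →* SpecialLinearGroup (Fin 2) F).rangeRestrict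
    (MonoidHom.rangeRestrict_surjective _)

lemma card_SL2 [Fintype F] : Nat.card (SpecialLinearGroup (Fin 2) F)
    = Fintype.card F * ((Fintype.card F - 1) * (Fintype.card F + 1)) := by
  set q := Fintype.card F with hq
  have hq1 : 1 < q := Fintype.one_lt_card
  have hS := Cfsg.Agent.Lib_helper4_Card.card_SL (F := F) (q := q) rfl 2 (by norm_num)
  rw [Fin.prod_univ_two] at hS
  obtain ⟨r, hr⟩ : ∃ r, q = r + 1 := ⟨q - 1, by omega⟩
  have hr1 : 1 ≤ r := by omega
  have e1 : q ^ 2 - q ^ ((0 : Fin 2) : ℕ) = r * (r + 2) := by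
    have : (r + 1) ^ 2 = r * (r + 2) + 1 := by ring
    simp only [Fin.val_zero, pow_zero, hr]
    omega
  have e2 : q ^ 2 - q ^ ((1 : Fin 2) : ℕ) = r * (r + 1) := by
    have : (r + 1) ^ 2 = r * (r + 1) + (r + 1) := by ring
    simp only [Fin.val_one, pow_one, hr]
    omega
  have e3 : q - 1 = r := by omega
  rw [e1, e2, e3] at hS
  rw [e3]
  have : r * Nat.card (SpecialLinearGroup (Fin 2) F) = r * (q * (r * (q + 1))) := by
    rw [hS, hr]; ring
  exact Nat.eq_of_mul_eq_mul_left (by omega) this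

/-- Case `r ∣ q - 1`. -/
lemma cyclic_of_dvd [Fintype F] (p : ℕ) [Fact p.Prime] [CharP F p] (r : ℕ) [Fact r.Prime]
    (hr : r ≠ 2) (hrp : r ≠ p) (hdvd : r ∣ Fintype.card F - 1)
    (R : Sylow r (SpecialLinearGroup (Fin 2) F)) :
    IsCyclic (R : Subgroup (SpecialLinearGroup (Fin 2) F)) := by
  have hrP : r.Prime := Fact.out
  have hpP : p.Prime := Fact.out
  apply sylow_cyclic_of_cyclic r (torusHom : Fˣ →* SpecialLinearGroup (Fin 2) F).range R
  rw [card_torus]
  obtain ⟨m, hm⟩ := IsPGroup.iff_card.mp R.isPGroup'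
  have h1 : Nat.card R ∣ Fintype.card F * ((Fintype.card F - 1) * (Fintype.card F + 1)) := by
    rw [← card_SL2]; exact Subgroup.card_subgroup_dvd_card _
  rw [hm] at h1 ⊢
  obtain ⟨k, -, hk⟩ := FiniteField.card F p
  have hq1 : 1 < Fintype.card F := Fintype.one_lt_card
  have c1 : Nat.Coprime (r ^ m) (Fintype.card F) := by
    apply Nat.Coprime.pow_left
    rw [hk]
    apply Nat.Coprime.pow_right
    exact (Nat.coprime_primes hrP hpP).mpr hrp
  have c2 : Nat.Coprime (r ^ m) (Fintype.card F + 1) := by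
    apply Nat.Coprime.pow_left
    rw [hrP.coprime_iff_not_dvd]
    intro h2
    have h3 : r ∣ (Fintype.card F + 1) - (Fintype.card F - 1) := Nat.dvd_sub h2 hdvd
    have h4 : (Fintype.card F + 1) - (Fintype.card F - 1) = 2 := by omega
    rw [h4] at h3
    exact hr ((Nat.prime_dvd_prime_iff_eq hrP Nat.prime_two).mp h3)
  exact c2.dvd_of_dvd_mul_right (c1.dvd_of_dvd_mul_left h1)

/-- Cayley–Hamilton for `2 × 2` matrices. -/
lemma sq_eq (z : Matrix (Fin 2) (Fin 2) F) :
    z * z = z.trace • z - z.det • (1 : Matrix (Fin 2) (Fin 2) F) := by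
  ext i j
  fin_cases i <;> fin_cases j <;>
    simp [Matrix.mul_apply, Fin.sum_univ_two, Matrix.trace_fin_two, Matrix.det_fin_two] <;> ring

/-- The algebra `F[z]` for a `2 × 2` matrix `z`. -/
def D (z : Matrix (Fin 2) (Fin 2) F) : Subalgebra F (Matrix (Fin 2) (Fin 2) F) where
  carrier := {M | ∃ a b : F, M = a • (1 : Matrix (Fin 2) (Fin 2) F) + b • z}
  mul_mem' := by
    rintro _ _ ⟨a, b, rfl⟩ ⟨c, d, rfl⟩
    refine ⟨a * c - b * d * z.det, a * d + b * c + b * d * z.trace, ?_⟩
    have h := sq_eq z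
    simp only [add_mul, mul_add, smul_mul_assoc, mul_smul_comm, one_mul, mul_one, h, smul_sub,
      smul_smul]
    module
  add_mem' := by
    rintro _ _ ⟨a, b, rfl⟩ ⟨c, d, rfl⟩
    exact ⟨a + c, b + d, by module⟩
  algebraMap_mem' := by
    intro r
    exact ⟨r, 0, by simp [Algebra.algebraMap_eq_smul_one]⟩

lemma mem_D (z M : Matrix (Fin 2) (Fin 2) F) :
    M ∈ D z ↔ ∃ a b : F, M = a • (1 : Matrix (Fin 2) (Fin 2) F) + b • z := Iff.rfl

/-- Matrices commuting with a matrix without eigenvalues in `F` lie in `F[z]`. -/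
lemma mem_D_of_commute (z g : Matrix (Fin 2) (Fin 2) F)
    (hNE : ∀ l : F, l ^ 2 - z.trace * l + z.det ≠ 0) (h : g * z = z * g) : g ∈ D z := by
  have hz01 : z 0 1 ≠ 0 := by
    intro h0
    apply hNE (z 0 0)
    rw [Matrix.trace_fin_two, Matrix.det_fin_two, h0]
    ring
  have h00 := congrFun (congrFun h 0) 0
  have h01 := congrFun (congrFun h 0) 1
  simp only [Matrix.mul_apply, Fin.sum_univ_two] at h00 h01
  refine ⟨g 0 0 - g 0 1 / z 0 1 * z 0 0, g 0 1 / z 0 1, ?_⟩
  ext i j
  fin_cases i <;> fin_cases j <;> simp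
  · field_simp
  · field_simp
    first | linear_combination h00 | linear_combination -h00
  · field_simp
    first | linear_combination h01 | linear_combination -h01

lemma det_D (z : Matrix (Fin 2) (Fin 2) F) (a b : F) :
    (a • (1 : Matrix (Fin 2) (Fin 2) F) + b • z).det = a ^ 2 + a * b * z.trace + b ^ 2 * z.det := by
  simp [Matrix.det_fin_two, Matrix.trace_fin_two]
  ring

lemma det_ne_zero_of_mem_D (z : Matrix (Fin 2) (Fin 2) F)
    (hNE : ∀ l : F, l ^ 2 - z.trace * l + z.det ≠ 0) (M : Matrix (Fin 2) (Fin 2) F) (hM : M ∈ D z)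
    (hM0 : M ≠ 0) : M.det ≠ 0 := by
  obtain ⟨a, b, rfl⟩ := hM
  rw [det_D]
  by_cases hb : b = 0
  · subst hb
    have ha : a ≠ 0 := by
      rintro rfl
      apply hM0
      simp
    simp [ha]
  · have := hNE (-a / b)
    intro h0
    apply this
    field_simp
    linear_combination h0

/-- A finite subgroup of `SL_2(F)` inside `F[z]`, `z` without eigenvalues, is cyclic. -/
lemma cyclic_of_subalgebra (R : Subgroup (SpecialLinearGroup (Fin 2) F)) [Finite R]
    (z : Matrix (Fin 2) (Fin 2) F) (hNE : ∀ l : F, l ^ 2 - z.trace * l + z.det ≠ 0)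
    (hR : ∀ g ∈ R, (g : Matrix (Fin 2) (Fin 2) F) ∈ D z) : IsCyclic R := by
  letI : CommRing (D z) :=
    { (inferInstance : Ring (D z)) with
      mul_comm := by
        rintro ⟨_, a, b, rfl⟩ ⟨_, c, d, rfl⟩
        apply Subtype.ext
        show (a • (1 : Matrix (Fin 2) (Fin 2) F) + b • z) * (c • (1 : Matrix (Fin 2) (Fin 2) F) + d • z)
          = (c • (1 : Matrix (Fin 2) (Fin 2) F) + d • z) * (a • (1 : Matrix (Fin 2) (Fin 2) F) + b • z)
        simp only [add_mul, mul_add, smul_mul_assoc, mul_smul_comm, one_mul, mul_one, smul_smul]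
        module }
  haveI : IsDomain (D z) := by
    haveI : NoZeroDivisors (D z) := by
      constructor
      intro x y hxy
      by_cases hx : x = 0
      · exact Or.inl hx
      · right
        have hx' : (x : Matrix (Fin 2) (Fin 2) F) ≠ 0 := fun h => hx (Subtype.ext h)
        have hdet := det_ne_zero_of_mem_D z hNE _ x.2 hx'
        have h1 : (x : Matrix (Fin 2) (Fin 2) F) * (y : Matrix (Fin 2) (Fin 2) F) = 0 :=
          congrArg Subtype.val hxy
        have h2 : (y : Matrix (Fin 2) (Fin 2) F) = 0 := by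
          have h3 := congrArg (fun M => (x : Matrix (Fin 2) (Fin 2) F)⁻¹ * M) h1
          simp only [mul_zero] at h3
          rwa [← Matrix.mul_assoc, Matrix.nonsing_inv_mul _ (isUnit_iff_ne_zero.mpr hdet),
            Matrix.one_mul] at h3
        exact Subtype.ext h2
    exact NoZeroDivisors.to_isDomain _
  let f : R →* D z :=
    { toFun := fun g => ⟨((g : SpecialLinearGroup (Fin 2) F) : Matrix (Fin 2) (Fin 2) F), hR g g.2⟩
      map_one' := by
        apply Subtype.ext
        rfl
      map_mul' := by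
        intro g h
        apply Subtype.ext
        rfl }
  have hf : Function.Injective f := by
    intro g h hgh
    apply Subtype.ext
    apply Subtype.ext
    have h3 : ((f g : D z) : Matrix (Fin 2) (Fin 2) F) = ((f h : D z) : Matrix (Fin 2) (Fin 2) F) :=
      congrArg Subtype.val hgh
    exact h3
  exact isCyclic_of_injective_ringHom f hf

lemma pow_eq_of_sq_zero (N : Matrix (Fin 2) (Fin 2) F) (h : N * N = 0) (n : ℕ) :
    (1 + N) ^ n = 1 + n • N := by
  induction n with
  | zero => simp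
  | succ n ih =>
    rw [pow_succ, ih, add_mul, mul_add, mul_add, one_mul, mul_one, smul_mul_assoc, h, smul_zero,
      add_zero, succ_nsmul, one_mul]
    abel

/-- A non-trivial element of `r`-power order, `r` prime to `p (q - 1)`, has no eigenvalue in `F`. -/
lemma no_eig [Fintype F] (p : ℕ) [Fact p.Prime] [CharP F p] (r : ℕ) [Fact r.Prime] (hrp : r ≠ p)
    (hdvd : ¬ r ∣ Fintype.card F - 1) (z : SpecialLinearGroup (Fin 2) F) (hz : z ≠ 1) (j : ℕ)
    (hord : z ^ (r ^ j) = 1) :
    ∀ l : F, l ^ 2 - (z : Matrix (Fin 2) (Fin 2) F).trace * l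
      + (z : Matrix (Fin 2) (Fin 2) F).det ≠ 0 := by
  intro l hl
  have hrP : r.Prime := Fact.out
  have hpP : p.Prime := Fact.out
  have hdet : (z : Matrix (Fin 2) (Fin 2) F).det = 1 := z.2
  rw [hdet] at hl
  have h1 : ((z : Matrix (Fin 2) (Fin 2) F) - l • (1 : Matrix (Fin 2) (Fin 2) F)).det = 0 := by
    have hd2 := hdet
    rw [Matrix.det_fin_two] at hd2 ⊢
    rw [Matrix.trace_fin_two] at hl
    simp only [Matrix.sub_apply, Matrix.smul_apply, Matrix.one_apply_eq, smul_eq_mul, mul_one,
      Matrix.one_apply_ne (show (0 : Fin 2) ≠ 1 by decide),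
      Matrix.one_apply_ne (show (1 : Fin 2) ≠ 0 by decide), mul_zero, sub_zero]
    linear_combination hl + hd2
  obtain ⟨v, hv0, hv⟩ := Matrix.exists_mulVec_eq_zero_iff.mpr h1
  have hv' : (z : Matrix (Fin 2) (Fin 2) F) *ᵥ v = l • v := by
    rw [Matrix.sub_mulVec, Matrix.smul_mulVec, Matrix.one_mulVec, sub_eq_zero] at hv
    exact hv
  have hpow : ∀ n : ℕ, ((z : Matrix (Fin 2) (Fin 2) F) ^ n) *ᵥ v = l ^ n • v := by
    intro n
    induction n with
    | zero => simp
    | succ n ih =>
      rw [pow_succ, ← Matrix.mulVec_mulVec, hv', Matrix.mulVec_smul, ih, smul_smul, pow_succ,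
        mul_comm]
  have hZpow : (z : Matrix (Fin 2) (Fin 2) F) ^ (r ^ j) = 1 := by
    have := congrArg (fun g : SpecialLinearGroup (Fin 2) F => (g : Matrix (Fin 2) (Fin 2) F)) hord
    simpa using this
  have hl1 : l ^ (r ^ j) = 1 := by
    have h2 := hpow (r ^ j)
    rw [hZpow, Matrix.one_mulVec] at h2
    by_contra hne
    apply hv0
    have h3 : (1 - l ^ (r ^ j)) • v = 0 := by rw [sub_smul, one_smul, ← h2, sub_self]
    rcases smul_eq_zero.mp h3 with h4 | h4
    · exact absurd (sub_eq_zero.mp h4).symm hne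
    · exact h4
  have hl0 : l ≠ 0 := by
    rintro rfl
    simp at hl
  have hl2 : l ^ (Fintype.card F - 1) = 1 := FiniteField.pow_card_sub_one_eq_one l hl0
  have hl3 : l = 1 := by
    have hcop : Nat.Coprime (r ^ j) (Fintype.card F - 1) :=
      Nat.Coprime.pow_left _ (hrP.coprime_iff_not_dvd.mpr hdvd)
    have h4 : orderOf l ∣ Nat.gcd (r ^ j) (Fintype.card F - 1) :=
      Nat.dvd_gcd (orderOf_dvd_of_pow_eq_one hl1) (orderOf_dvd_of_pow_eq_one hl2)
    rw [hcop] at h4
    exact orderOf_eq_one_iff.mp (Nat.dvd_one.mp h4)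
  subst hl3
  have htr : (z : Matrix (Fin 2) (Fin 2) F).trace = 2 := by linear_combination -hl
  have hN : ((z : Matrix (Fin 2) (Fin 2) F) - 1) * ((z : Matrix (Fin 2) (Fin 2) F) - 1) = 0 := by
    have h5 := sq_eq (z : Matrix (Fin 2) (Fin 2) F)
    rw [htr, hdet] at h5
    rw [sub_mul, mul_sub, mul_sub, h5, one_mul, mul_one, one_mul, one_smul, two_smul]
    abel
  have hp : (z : Matrix (Fin 2) (Fin 2) F) ^ p = 1 := by
    have h5 := pow_eq_of_sq_zero ((z : Matrix (Fin 2) (Fin 2) F) - 1) hN p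
    rw [add_sub_cancel] at h5
    rw [h5]
    have h6 : (p : ℕ) • ((z : Matrix (Fin 2) (Fin 2) F) - 1) = 0 := by
      rw [← Nat.cast_smul_eq_nsmul F, CharP.cast_eq_zero, zero_smul]
    rw [h6, add_zero]
  have hzp : z ^ p = 1 := by
    apply Subtype.ext
    simpa using hp
  have hcop2 : Nat.Coprime (r ^ j) p :=
    Nat.Coprime.pow_left _ ((Nat.coprime_primes hrP hpP).mpr hrp)
  have h6 : orderOf z ∣ Nat.gcd (r ^ j) p :=
    Nat.dvd_gcd (orderOf_dvd_of_pow_eq_one hord) (orderOf_dvd_of_pow_eq_one hzp)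
  rw [hcop2] at h6
  exact hz (orderOf_eq_one_iff.mp (Nat.dvd_one.mp h6))

/-- Sylow `r`-subgroups of `SL_2(q)`, `r` odd and prime to `q`, are cyclic. -/
theorem sylow_cyclic [Fintype F] (p : ℕ) [Fact p.Prime] [CharP F p] (r : ℕ) [Fact r.Prime]
    (hr : r ≠ 2) (hrp : r ≠ p) (R : Sylow r (SpecialLinearGroup (Fin 2) F)) :
    IsCyclic (R : Subgroup (SpecialLinearGroup (Fin 2) F)) := by
  by_cases hdvd : r ∣ Fintype.card F - 1
  · exact cyclic_of_dvd p r hr hrp hdvd R
  · by_cases hnt : Nontrivial (R : Subgroup (SpecialLinearGroup (Fin 2) F))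
    · have hc := IsPGroup.center_nontrivial (R.isPGroup')
      obtain ⟨z', hz'⟩ := exists_ne (1 : Subgroup.center (R : Subgroup (SpecialLinearGroup (Fin 2) F)))
      obtain ⟨j, hj⟩ := R.isPGroup' (z' : (R : Subgroup (SpecialLinearGroup (Fin 2) F)))
      have hne : (((z' : (R : Subgroup (SpecialLinearGroup (Fin 2) F))) : SpecialLinearGroup (Fin 2) F)) ≠ 1 := by
        intro h1
        apply hz'
        apply Subtype.ext
        apply Subtype.ext
        exact h1
      have hpow : (((z' : (R : Subgroup (SpecialLinearGroup (Fin 2) F))) : SpecialLinearGroup (Fin 2) F)) ^ (r ^ j) = 1 := by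
        have := congrArg (fun g : (R : Subgroup (SpecialLinearGroup (Fin 2) F)) => (g : SpecialLinearGroup (Fin 2) F)) hj
        simpa using this
      have hNE := no_eig p r hrp hdvd _ hne j hpow
      apply cyclic_of_subalgebra _ _ hNE
      intro g hg
      apply mem_D_of_commute _ _ hNE
      have h1 := Subgroup.mem_center_iff.mp z'.2 ⟨g, hg⟩
      have h2 := congrArg (fun g : (R : Subgroup (SpecialLinearGroup (Fin 2) F)) =>
        ((g : SpecialLinearGroup (Fin 2) F) : Matrix (Fin 2) (Fin 2) F)) h1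
      simpa using h2
    · rw [not_nontrivial_iff_subsingleton] at hnt
      exact isCyclic_of_subsingleton

end Cfsg.Agent.Lib_helper4_SL2Cyc
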