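import Mathlib

set_option autoImplicit false

/-! Classification of nondegenerate symmetric bilinear forms over finite fields of odd
characteristic. -/

namespace Cfsg.Agent.Lib_helper4_SymBasis
open Module Polynomial

section Field
variable {F : Type*} [Field F] [Finite F]

omit [Finite F] in
lemma ringChar_ne_two (h2 : (2 : F) ≠ 0) : ringChar F ≠ 2 := by
  intro h
  apply h2
  have := ringChar.Nat.cast_ringChar (R := F)
  rw [h] at this
  exact_mod_cast this

lemma exists_sq_sum (h2 : (2 : F) ≠ 0) (a b : F) (ha : a ≠ 0) (hb : b ≠ 0) :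
    ∃ x y : F, a * x ^ 2 + b * y ^ 2 = 1 := by
  classical
  haveI : Fintype F := Fintype.ofFinite F
  have hodd : Fintype.card F % 2 = 1 :=
    FiniteField.odd_card_of_char_ne_two (ringChar_ne_two h2)
  have hf : (C a * X ^ 2 - 1 : F[X]).degree = 2 := by
    rw [degree_sub_eq_left_of_degree_lt]
    · exact degree_C_mul_X_pow 2 ha
    · rw [degree_C_mul_X_pow 2 ha, degree_one]; norm_num
  have hg : (C b * X ^ 2 : F[X]).degree = 2 := degree_C_mul_X_pow 2 hb
  obtain ⟨x, y, hxy⟩ := FiniteField.exists_root_sum_quadratic hf hg hodd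
  refine ⟨x, y, ?_⟩
  simp only [eval_sub, eval_mul, eval_C, eval_pow, eval_X, eval_one] at hxy
  linear_combination hxy

lemma isSquare_or (h2 : (2 : F) ≠ 0) (α : F) (hα : ¬ IsSquare α) (d : F) (hd : d ≠ 0) :
    IsSquare d ∨ IsSquare (d / α) := by
  classical
  haveI : Fintype F := Fintype.ofFinite F
  have hc := ringChar_ne_two h2
  have hα0 : α ≠ 0 := by
    rintro rfl
    exact hα IsSquare.zero
  by_cases hds : IsSquare d
  · exact Or.inl hds
  · right
    rw [FiniteField.isSquare_iff hc (div_ne_zero hd hα0), div_pow]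
    have h1 := (FiniteField.pow_dichotomy hc hd).resolve_left
      (fun h => hds ((FiniteField.isSquare_iff hc hd).2 h))
    have h2' := (FiniteField.pow_dichotomy hc hα0).resolve_left
      (fun h => hα ((FiniteField.isSquare_iff hc hα0).2 h))
    rw [h1, h2']
    norm_num

end Field

section Form
variable {F V : Type*} [Field F] [AddCommGroup V] [Module F V]

lemma exists_self_ne (h2 : (2 : F) ≠ 0) (B : LinearMap.BilinForm F V) (hS : B.IsSymm)
    (U : Submodule F V) (y z : V) (hy : y ∈ U) (hz : z ∈ U) (h : B y z ≠ 0) :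
    ∃ v ∈ U, B v v ≠ 0 := by
  by_contra hcon
  push Not at hcon
  have h1 := hcon (y + z) (U.add_mem hy hz)
  have hzy : B z y = B y z := by
    have := hS.eq y z
    simpa using this.symm
  simp only [map_add, LinearMap.add_apply, hcon y hy, hcon z hz, hzy] at h1
  apply h
  have : (2 : F) * B y z = 0 := by linear_combination h1
  exact (mul_eq_zero.1 this).resolve_left h2

end Form

section Basis
variable {F : Type*} [Field F] [Finite F]

theorem exists_basis_type (h2 : (2 : F) ≠ 0) (α : F) (hα : ¬ IsSquare α) :
    ∀ (n : ℕ) {V : Type*} [AddCommGroup V] [Module F V] [FiniteDimensional F V]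
      (B : LinearMap.BilinForm F V) (_ : B.IsSymm) (_ : B.Nondegenerate), finrank F V = n + 1 →
      ∃ (ι : Type) (_ : Fintype ι) (_ : DecidableEq ι) (b : Module.Basis (ι ⊕ Unit) F V),
        (∀ i j, i ≠ j → B (b i) (b j) = 0) ∧
        (∀ i : ι, B (b (Sum.inl i)) (b (Sum.inl i)) = 1) ∧
        (B (b (Sum.inr ())) (b (Sum.inr ())) = 1 ∨ B (b (Sum.inr ())) (b (Sum.inr ())) = α) := by
  intro n
  induction n with
  | zero =>
    intro V _ _ _ B hS hB hn
    classical
    let b₁ : Module.Basis (Fin 1) F V := Module.finBasisOfFinrankEq F V hn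
    set u := b₁ 0 with hu
    have hu0 : u ≠ 0 := b₁.ne_zero 0
    have hrep : ∀ y : V, ∃ c : F, y = c • u := by
      intro y
      refine ⟨b₁.repr y 0, ?_⟩
      have := b₁.sum_repr y
      simpa using this.symm
    have hd : B u u ≠ 0 := by
      intro h0
      apply hu0
      apply hB.1
      intro y
      obtain ⟨c, rfl⟩ := hrep y
      rw [map_smul, h0, smul_zero]
    have key : ∀ c : F, c ≠ 0 → ∃ b : Module.Basis (Empty ⊕ Unit) F V,
        b (Sum.inr ()) = c⁻¹ • u := by
      intro c hc
      let e : Fin 1 ≃ Empty ⊕ Unit := finOneEquiv.trans (Equiv.emptySum Empty Unit).symm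
      refine ⟨(b₁.isUnitSMul (w := fun _ => c⁻¹) (fun _ => (isUnit_iff_ne_zero.2
        (inv_ne_zero hc)))).reindex e, ?_⟩
      rw [Module.Basis.reindex_apply, Module.Basis.isUnitSMul_apply]
      have : e.symm (Sum.inr ()) = 0 := Subsingleton.elim _ _
      rw [this]
    have horth : ∀ (b : Module.Basis (Empty ⊕ Unit) F V) (i j : Empty ⊕ Unit), i ≠ j →
        B (b i) (b j) = 0 := by
      rintro b (i | _) (j | _) hij
      · exact i.elim
      · exact i.elim
      · exact j.elim
      · exact absurd rfl hij
    rcases isSquare_or h2 α hα (B u u) hd with ⟨c, hc⟩ | ⟨c, hc⟩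
    · have hc0 : c ≠ 0 := by
        rintro rfl
        rw [mul_zero] at hc
        exact hd hc
      obtain ⟨b, hb⟩ := key c hc0
      refine ⟨Empty, inferInstance, inferInstance, b, horth b, fun i => i.elim, Or.inl ?_⟩
      rw [hb]
      simp only [map_smul, LinearMap.smul_apply, smul_eq_mul, hc]
      field_simp
    · have hα0 : α ≠ 0 := by
        rintro rfl
        exact hα IsSquare.zero
      have hc0 : c ≠ 0 := by
        rintro rfl
        rw [mul_zero, div_eq_zero_iff] at hc
        rcases hc with h | h
        · exact hd h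
        · exact hα0 h
      obtain ⟨b, hb⟩ := key c hc0
      refine ⟨Empty, inferInstance, inferInstance, b, horth b, fun i => i.elim, Or.inr ?_⟩
      rw [hb]
      have : B u u = c * c * α := by
        rw [← hc]; field_simp
      simp only [map_smul, LinearMap.smul_apply, smul_eq_mul, this]
      field_simp
  | succ n ih =>
    intro V _ _ _ B hS hB hn
    classical
    have hsymm : ∀ x y, B x y = B y x := fun x y => by
      have := hS.eq y x
      simpa using this.symm
    -- a vector u with B u u ≠ 0
    have hVnt : Nontrivial V := by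
      apply Module.nontrivial_of_finrank_pos (R := F)
      omega
    obtain ⟨u₀, hu₀⟩ := exists_ne (0 : V)
    obtain ⟨z₀, hz₀⟩ : ∃ z, B u₀ z ≠ 0 := by
      by_contra h
      push Not at h
      exact hu₀ (hB.1 _ h)
    obtain ⟨u, -, hu⟩ := exists_self_ne h2 B hS ⊤ u₀ z₀ trivial trivial hz₀
    -- a vector in u^⊥ with nonzero norm
    obtain ⟨y, hy⟩ : ∃ y, y ∉ Submodule.span F {u} := by
      by_contra h
      push Not at h
      have htop : Submodule.span F {u} = ⊤ := Submodule.eq_top_iff'.2 h
      have hu0 : u ≠ 0 := by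
        rintro rfl
        simp at hu
      have h1 : finrank F (Submodule.span F {u}) = 1 := finrank_span_singleton hu0
      rw [htop, finrank_top] at h1
      omega
    let P : V → V := fun x => x - (B u x / B u u) • u
    have hP : ∀ x, B u (P x) = 0 := by
      intro x
      simp only [P, map_sub, map_smul, smul_eq_mul]
      field_simp
      ring
    have hPy : P y ≠ 0 := by
      intro h0
      apply hy
      have : y = (B u y / B u u) • u := sub_eq_zero.1 h0
      rw [this]
      exact Submodule.smul_mem _ _ (Submodule.mem_span_singleton_self u)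
    obtain ⟨z, hz⟩ : ∃ z, B (P y) z ≠ 0 := by
      by_contra h
      push Not at h
      exact hPy (hB.1 _ h)
    have hz' : B (P y) (P z) ≠ 0 := by
      have : B (P y) (P z) = B (P y) z := by
        have h1 : B (P y) u = 0 := by rw [hsymm]; exact hP y
        generalize P y = y₀ at h1 ⊢
        show B y₀ (z - (B u z / B u u) • u) = B y₀ z
        rw [map_sub, map_smul, h1, smul_zero, sub_zero]
      rw [this]; exact hz
    obtain ⟨u', hu'U, hu'⟩ := exists_self_ne h2 B hS (LinearMap.ker (B u)) (P y) (P z)
      (LinearMap.mem_ker.2 (hP y)) (LinearMap.mem_ker.2 (hP z)) hz'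
    have huu' : B u u' = 0 := LinearMap.mem_ker.1 hu'U
    obtain ⟨x₁, x₂, hx⟩ := exists_sq_sum h2 (B u u) (B u' u') hu hu'
    set w := x₁ • u + x₂ • u' with hwdef
    have hw : B w w = 1 := by
      simp only [hwdef, map_add, map_smul, LinearMap.add_apply, LinearMap.smul_apply,
        smul_eq_mul, huu', hsymm u' u]
      linear_combination hx
    -- decomposition V = ⟨w⟩ ⊕ w^⊥
    let g : Unit → V := fun _ => w
    have hw0 : w ≠ 0 := by
      intro h0
      rw [h0] at hw
      simp at hw
    have hli : LinearIndependent F g := LinearIndependent.of_subsingleton () hw0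
    let H : Submodule F V := Submodule.span F (Set.range g)
    let bH : Module.Basis Unit F H := Module.Basis.span hli
    let W : Submodule F V := LinearMap.ker (B w)
    have hWmem : ∀ x, x ∈ W ↔ B w x = 0 := fun x => LinearMap.mem_ker
    have hwH : w ∈ H := Submodule.subset_span ⟨(), rfl⟩
    have hHmem : ∀ x ∈ H, ∃ a : F, x = a • w := by
      intro x hx
      have hH : H = Submodule.span F {w} := by
        simp [H, g]
      rw [hH] at hx
      obtain ⟨a, rfl⟩ := Submodule.mem_span_singleton.1 hx
      exact ⟨a, rfl⟩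
    have hcompl : IsCompl H W := by
      constructor
      · rw [Submodule.disjoint_def]
        intro x hxH hxW
        obtain ⟨a, rfl⟩ := hHmem x hxH
        have := (hWmem _).1 hxW
        rw [map_smul, smul_eq_mul, hw, mul_one] at this
        rw [this, zero_smul]
      · rw [codisjoint_iff, eq_top_iff]
        intro x _
        have hx : x = (B w x) • w + (x - (B w x) • w) := by abel
        rw [hx]
        refine Submodule.add_mem_sup (H.smul_mem _ hwH) ?_
        rw [hWmem, map_sub, map_smul, smul_eq_mul, hw, mul_one, sub_self]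
    have hfin := Submodule.finrank_add_eq_of_isCompl hcompl
    have hH1 : finrank F H = 1 := by
      rw [finrank_eq_card_basis bH]; simp
    have hWw : ∀ x : W, B w x = 0 := fun x => (hWmem _).1 x.2
    have hWw' : ∀ x : W, B x w = 0 := fun x => by rw [hsymm]; exact hWw x
    have hS' : (B.restrict W).IsSymm := ⟨fun x y => hS.eq x y⟩
    have hsepL : (B.restrict W).SeparatingLeft := by
      intro x hx
      apply Subtype.ext
      apply hB.1
      intro y
      obtain ⟨h, hh, y', hy', rfl⟩ := Submodule.mem_sup.1
        (show y ∈ H ⊔ W by rw [hcompl.sup_eq_top]; trivial)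
      obtain ⟨a, rfl⟩ := hHmem h hh
      rw [map_add, map_smul, hWw' x, smul_zero, zero_add]
      exact hx ⟨y', hy'⟩
    have hsepR : (B.restrict W).SeparatingRight := by
      intro y hy
      apply hsepL
      intro x
      exact (hS'.eq_iff).1 (hy x)
    obtain ⟨ι, _, _, b', h1, h3, h4⟩ :=
      ih (B.restrict W) hS' ⟨hsepL, hsepR⟩ (by omega)
    let b₀ : Module.Basis (Unit ⊕ (ι ⊕ Unit)) F V :=
      (bH.prod b').map (Submodule.prodEquivOfIsCompl H W hcompl)
    have hb₀l : ∀ a, b₀ (Sum.inl a) = w := by
      intro a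
      simp only [b₀, bH, Module.Basis.map_apply, Submodule.coe_prodEquivOfIsCompl',
        Module.Basis.prod_apply_inl_fst, Module.Basis.prod_apply_inl_snd, Submodule.coe_zero,
        add_zero]
      exact congrArg Subtype.val (Module.Basis.span_apply hli a)
    have hb₀r : ∀ c, b₀ (Sum.inr c) = (b' c : V) := by
      intro c
      simp [b₀, Submodule.coe_prodEquivOfIsCompl']
    have h1' : ∀ i j : ι ⊕ Unit, i ≠ j → B (b' i : V) (b' j : V) = 0 := fun i j hij => h1 i j hij
    have h3' : ∀ i : ι, B (b' (Sum.inl i) : V) (b' (Sum.inl i) : V) = 1 := fun i => h3 i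
    have h4' : B (b' (Sum.inr ()) : V) (b' (Sum.inr ()) : V) = 1 ∨
        B (b' (Sum.inr ()) : V) (b' (Sum.inr ()) : V) = α := h4
    refine ⟨Unit ⊕ ι, inferInstance, inferInstance,
      b₀.reindex (Equiv.sumAssoc Unit ι Unit).symm, ?_, ?_, ?_⟩
    · rintro ((_ | i) | _) ((_ | j) | _) hij
      · exact absurd rfl hij
      · simp [Module.Basis.reindex_apply, hb₀l, hb₀r, hWw]
      · simp [Module.Basis.reindex_apply, hb₀l, hb₀r, hWw]
      · simp [Module.Basis.reindex_apply, hb₀l, hb₀r, hWw']
      · have hne : (Sum.inl i : ι ⊕ Unit) ≠ Sum.inl j := by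
          intro h; apply hij; rw [Sum.inl.inj h]
        simp [Module.Basis.reindex_apply, hb₀r, h1' _ _ hne]
      · simp [Module.Basis.reindex_apply, hb₀r, h1' (Sum.inl i) (Sum.inr ()) (by simp)]
      · simp [Module.Basis.reindex_apply, hb₀l, hb₀r, hWw']
      · simp [Module.Basis.reindex_apply, hb₀r, h1' (Sum.inr ()) (Sum.inl j) (by simp)]
      · exact absurd rfl hij
    · rintro (_ | i)
      · simp [Module.Basis.reindex_apply, hb₀l, hw]
      · simp [Module.Basis.reindex_apply, hb₀r, h3']
    · simpa [Module.Basis.reindex_apply, hb₀r] using h4'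

theorem exists_basis (h2 : (2 : F) ≠ 0) {V : Type*} [AddCommGroup V] [Module F V]
    [FiniteDimensional F V] (B : LinearMap.BilinForm F V) (hS : B.IsSymm) (hB : B.Nondegenerate)
    {n : ℕ} (hn : finrank F V = n + 1) (α : F) (hα : ¬ IsSquare α) :
    ∃ b : Module.Basis (Fin (n + 1)) F V, (∀ i j, i ≠ j → B (b i) (b j) = 0) ∧
      (∀ i, i ≠ Fin.last n → B (b i) (b i) = 1) ∧
      (B (b (Fin.last n)) (b (Fin.last n)) = 1 ∨ B (b (Fin.last n)) (b (Fin.last n)) = α) := by
  classical
  obtain ⟨ι, _, _, b, h1, h3, h4⟩ := exists_basis_type h2 α hα n B hS hB hn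
  have hcard : Fintype.card ι = n := by
    have := finrank_eq_card_basis b
    rw [hn, Fintype.card_sum, Fintype.card_unit] at this
    omega
  let e₁ : ι ≃ Fin n := Fintype.equivFinOfCardEq hcard
  let e : ι ⊕ Unit ≃ Fin (n + 1) :=
    (Equiv.sumCongr e₁ (Equiv.refl Unit)).trans
      ((finSuccEquivLast.trans (Equiv.optionEquivSumPUnit (Fin n))).symm)
  have he_last : e (Sum.inr ()) = Fin.last n := by
    simp [e]
  have he_symm_last : e.symm (Fin.last n) = Sum.inr () := by
    rw [← he_last, Equiv.symm_apply_apply]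
  refine ⟨b.reindex e, ?_, ?_, ?_⟩
  · intro i j hij
    rw [Module.Basis.reindex_apply, Module.Basis.reindex_apply]
    exact h1 _ _ (fun h => hij (e.symm.injective h))
  · intro i hi
    rw [Module.Basis.reindex_apply]
    rcases hx : e.symm i with k | _
    · exact h3 k
    · exfalso
      apply hi
      rw [← he_last, ← hx, Equiv.apply_symm_apply]
  · rw [Module.Basis.reindex_apply, he_symm_last]
    exact h4

end Basis

end Cfsg.Agent.Lib_helper4_SymBasis
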