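import Mathlib
import Cfsg.Agent.Lib_helper4_Card
import Cfsg.Agent.Lib_helper4_SL2Cyc
import Cfsg.Agent.Lib_helper4_QuatHom
import Cfsg.Agent.Lib_helper4_SymBasis

set_option autoImplicit false

/-! Sylow 2-subgroups of `SL_2(q)`, `q` odd, are generalised quaternion. -/

namespace Cfsg.Agent.Lib_helper4_SL2Quat
open Matrix Cfsg.Agent.Lib_helper4_SL2Cyc Cfsg.Agent.Lib_helper4_QuatHom

variable {F : Type*} [Field F]

lemma mul_entries (g h : SpecialLinearGroup (Fin 2) F) (i j : Fin 2) :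
    ((g * h : SpecialLinearGroup (Fin 2) F) : Matrix (Fin 2) (Fin 2) F) i j
      = (g : Matrix (Fin 2) (Fin 2) F) i 0 * (h : Matrix (Fin 2) (Fin 2) F) 0 j
        + (g : Matrix (Fin 2) (Fin 2) F) i 1 * (h : Matrix (Fin 2) (Fin 2) F) 1 j := by
  show ((g : Matrix (Fin 2) (Fin 2) F) * (h : Matrix (Fin 2) (Fin 2) F)) i j = _
  rw [Matrix.mul_apply, Fin.sum_univ_two]

lemma ext2 (g h : SpecialLinearGroup (Fin 2) F)
    (h00 : (g : Matrix (Fin 2) (Fin 2) F) 0 0 = (h : Matrix (Fin 2) (Fin 2) F) 0 0)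
    (h01 : (g : Matrix (Fin 2) (Fin 2) F) 0 1 = (h : Matrix (Fin 2) (Fin 2) F) 0 1)
    (h10 : (g : Matrix (Fin 2) (Fin 2) F) 1 0 = (h : Matrix (Fin 2) (Fin 2) F) 1 0)
    (h11 : (g : Matrix (Fin 2) (Fin 2) F) 1 1 = (h : Matrix (Fin 2) (Fin 2) F) 1 1) : g = h := by
  apply Subtype.ext
  ext i j
  fin_cases i <;> fin_cases j
  · exact h00
  · exact h01
  · exact h10
  · exact h11

lemma det_eq (g : SpecialLinearGroup (Fin 2) F) :
    (g : Matrix (Fin 2) (Fin 2) F) 0 0 * (g : Matrix (Fin 2) (Fin 2) F) 1 1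
      - (g : Matrix (Fin 2) (Fin 2) F) 0 1 * (g : Matrix (Fin 2) (Fin 2) F) 1 0 = 1 := by
  have := g.2
  rwa [Matrix.det_fin_two] at this

lemma one_entries : ((1 : SpecialLinearGroup (Fin 2) F) : Matrix (Fin 2) (Fin 2) F) 0 0 = 1 ∧
    ((1 : SpecialLinearGroup (Fin 2) F) : Matrix (Fin 2) (Fin 2) F) 0 1 = 0 ∧
    ((1 : SpecialLinearGroup (Fin 2) F) : Matrix (Fin 2) (Fin 2) F) 1 0 = 0 ∧
    ((1 : SpecialLinearGroup (Fin 2) F) : Matrix (Fin 2) (Fin 2) F) 1 1 = 1 := by
  simp

/-- The element `-1` of `SL_2`. -/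
def negOne : SpecialLinearGroup (Fin 2) F := ⟨!![-1, 0; 0, -1], by simp [Matrix.det_fin_two]⟩

lemma negOne_00 : ((negOne : SpecialLinearGroup (Fin 2) F) : Matrix (Fin 2) (Fin 2) F) 0 0 = -1 := rfl
lemma negOne_01 : ((negOne : SpecialLinearGroup (Fin 2) F) : Matrix (Fin 2) (Fin 2) F) 0 1 = 0 := rfl
lemma negOne_10 : ((negOne : SpecialLinearGroup (Fin 2) F) : Matrix (Fin 2) (Fin 2) F) 1 0 = 0 := rfl
lemma negOne_11 : ((negOne : SpecialLinearGroup (Fin 2) F) : Matrix (Fin 2) (Fin 2) F) 1 1 = -1 := rfl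

/-- In odd characteristic the only involution of `SL_2(F)` is `-1`. -/
lemma eq_negOne_of_sq (h2 : (2 : F) ≠ 0) (g : SpecialLinearGroup (Fin 2) F) (hg : g * g = 1)
    (hg1 : g ≠ 1) : g = negOne := by
  obtain ⟨o1, o2, o3, o4⟩ := one_entries (F := F)
  have e00 := congrArg (fun k : SpecialLinearGroup (Fin 2) F => (k : Matrix (Fin 2) (Fin 2) F) 0 0) hg
  have e01 := congrArg (fun k : SpecialLinearGroup (Fin 2) F => (k : Matrix (Fin 2) (Fin 2) F) 0 1) hg
  have e10 := congrArg (fun k : SpecialLinearGroup (Fin 2) F => (k : Matrix (Fin 2) (Fin 2) F) 1 0) hg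
  have e11 := congrArg (fun k : SpecialLinearGroup (Fin 2) F => (k : Matrix (Fin 2) (Fin 2) F) 1 1) hg
  simp only [mul_entries, o1, o2, o3, o4] at e00 e01 e10 e11
  have hd := det_eq g
  set a := (g : Matrix (Fin 2) (Fin 2) F) 0 0 with ha
  set b := (g : Matrix (Fin 2) (Fin 2) F) 0 1 with hb
  set c := (g : Matrix (Fin 2) (Fin 2) F) 1 0 with hc
  set d := (g : Matrix (Fin 2) (Fin 2) F) 1 1 with hd'
  -- a^2 + bc = 1, b(a+d) = 0, c(a+d) = 0, bc + d^2 = 1, ad - bc = 1
  have hsum : a + d ≠ 0 := by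
    intro h0
    have hd0 : d = -a := by linear_combination h0
    rw [hd0] at hd
    have : (2 : F) = 0 := by linear_combination -(e00 + hd)
    exact h2 this
  have hb0 : b = 0 := by
    have : b * (a + d) = 0 := by linear_combination e01
    rcases mul_eq_zero.mp this with h | h
    · exact h
    · exact absurd h hsum
  have hc0 : c = 0 := by
    have : c * (a + d) = 0 := by linear_combination e10
    rcases mul_eq_zero.mp this with h | h
    · exact h
    · exact absurd h hsum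
  rw [hb0, hc0] at e00 hd
  have ha2 : (a - 1) * (a + 1) = 0 := by linear_combination e00
  have had : a = d := by
    have h3 : a * (a - d) = 0 := by linear_combination e00 - hd
    have ha0 : a ≠ 0 := by
      rintro h
      rw [h] at e00
      simp at e00
    rcases mul_eq_zero.mp h3 with h | h
    · exact absurd h ha0
    · linear_combination h
  rcases mul_eq_zero.mp ha2 with h | h
  · exfalso
    apply hg1
    have ha1 : a = 1 := by linear_combination h
    apply ext2
    · rw [o1, ← ha, ha1]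
    · rw [o2, ← hb, hb0]
    · rw [o3, ← hc, hc0]
    · rw [o4, ← hd', ← had, ha1]
  · have ha1 : a = -1 := by linear_combination h
    apply ext2
    · rw [negOne_00, ← ha, ha1]
    · rw [negOne_01, ← hb, hb0]
    · rw [negOne_10, ← hc, hc0]
    · rw [negOne_11, ← hd', ← had, ha1]

/-- Assembly: a cyclic subgroup `C` of order divisible by `|P| / 2`, inverted by `y` with `y² = -1`. -/
lemma quat_of_cyclic [Fintype F] (h2 : (2 : F) ≠ 0) (P : Sylow 2 (SpecialLinearGroup (Fin 2) F))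
    (m : ℕ) (hm : 3 ≤ m) (hP : Nat.card P = 2 ^ m)
    (C : Subgroup (SpecialLinearGroup (Fin 2) F)) [IsCyclic C] (hC : 2 ^ (m - 1) ∣ Nat.card C)
    (y : SpecialLinearGroup (Fin 2) F) (hy : ∀ c ∈ C, y * c * y⁻¹ = c⁻¹) (hy2 : y * y = negOne) :
    ∃ k : ℕ, 1 ≤ k ∧ Nonempty ((P : Subgroup (SpecialLinearGroup (Fin 2) F)) ≃* QuaternionGroup (2 ^ k)) := by
  obtain ⟨x', hx'⟩ := exists_orderOf_eq (C := C) (2 ^ (m - 1)) hC
  have hordx : orderOf (x' : SpecialLinearGroup (Fin 2) F) = 2 * 2 ^ (m - 2) := by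
    rw [Subgroup.orderOf_coe, hx']
    have : m - 1 = (m - 2) + 1 := by omega
    rw [this, pow_succ, mul_comm]
  set x : SpecialLinearGroup (Fin 2) F := (x' : SpecialLinearGroup (Fin 2) F) with hx
  have hxn : x ^ (2 ^ (m - 2)) = negOne := by
    apply eq_negOne_of_sq h2
    · rw [← pow_add, ← two_mul, ← hordx]
      exact pow_orderOf_eq_one x
    · intro h1
      have h3 := orderOf_dvd_of_pow_eq_one h1
      rw [hordx] at h3
      have h4 := Nat.le_of_dvd (by positivity) h3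
      have : 0 < 2 ^ (m - 2) := by positivity
      omega
  haveI : NeZero (2 ^ (m - 2)) := ⟨by positivity⟩
  have hn2 : 2 ≤ 2 ^ (m - 2) := by
    have : 2 ^ 1 ≤ 2 ^ (m - 2) := Nat.pow_le_pow_right (by norm_num) (by omega)
    simpa using this
  have hinj := quatHom_injective (2 ^ (m - 2)) hn2 x y hordx (hy x x'.2) (hy2.trans hxn.symm)
  refine ⟨m - 2, by omega, ?_⟩
  apply sylow_equiv_of_injective 2 P _ hinj
  rw [Nat.card_eq_fintype_card, QuaternionGroup.card, hP]
  have : m = (m - 2) + 2 := by omega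
  conv_rhs => rw [this, pow_add]
  ring

/-! ### Arithmetic -/

lemma eight_dvd (q : ℕ) (hq : Odd q) : 2 ^ 3 ∣ q * ((q - 1) * (q + 1)) := by
  obtain ⟨j, rfl⟩ := hq
  have h1 : (2 * j + 1 - 1) * (2 * j + 1 + 1) = 4 * (j * (j + 1)) := by
    rw [Nat.add_sub_cancel]; ring
  rw [h1]
  obtain ⟨e, he⟩ := (Nat.even_mul_succ_self j).two_dvd
  rw [he]
  exact ⟨(2 * j + 1) * e, by ring⟩

lemma arith (q m : ℕ) (hq : Odd q) (hdvd : 2 ^ m ∣ q * ((q - 1) * (q + 1))) :
    (q % 4 = 1 → 2 ^ (m - 1) ∣ q - 1) ∧ (q % 4 = 3 → 2 ^ (m - 1) ∣ q + 1) := by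
  have hcop : Nat.Coprime (2 ^ m) q := Nat.Coprime.pow_left m (Nat.coprime_two_left.mpr hq)
  have h1 : 2 ^ m ∣ (q - 1) * (q + 1) := hcop.dvd_of_dvd_mul_left hdvd
  constructor
  · intro h4
    have hs : (q + 1) / 2 % 2 = 1 := by omega
    have e : (q - 1) * (q + 1) = (q - 1) * 2 * ((q + 1) / 2) := by
      have : q + 1 = 2 * ((q + 1) / 2) := by omega
      conv_lhs => rw [this]
      ring
    rw [e] at h1
    have hcop2 : Nat.Coprime (2 ^ m) ((q + 1) / 2) :=
      Nat.Coprime.pow_left m (Nat.coprime_two_left.mpr (Nat.odd_iff.mpr hs))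
    have h2 := hcop2.dvd_of_dvd_mul_right h1
    rcases m with _ | m'
    · simp
    · rw [pow_succ] at h2
      exact Nat.dvd_of_mul_dvd_mul_right (by norm_num) h2
  · intro h4
    have hs : (q - 1) / 2 % 2 = 1 := by omega
    have e : (q - 1) * (q + 1) = (q + 1) * 2 * ((q - 1) / 2) := by
      have : q - 1 = 2 * ((q - 1) / 2) := by omega
      conv_lhs => rw [this]
      ring
    rw [e] at h1
    have hcop2 : Nat.Coprime (2 ^ m) ((q - 1) / 2) :=
      Nat.Coprime.pow_left m (Nat.coprime_two_left.mpr (Nat.odd_iff.mpr hs))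
    have h2 := hcop2.dvd_of_dvd_mul_right h1
    rcases m with _ | m'
    · simp
    · rw [pow_succ] at h2
      exact Nat.dvd_of_mul_dvd_mul_right (by norm_num) h2

/-! ### The split case -/

/-- The Weyl element. -/
def y0 : SpecialLinearGroup (Fin 2) F := ⟨!![0, 1; -1, 0], by simp [Matrix.det_fin_two]⟩

lemma y0_sq : (y0 : SpecialLinearGroup (Fin 2) F) * y0 = negOne := by
  apply ext2 <;> rw [mul_entries] <;> simp [y0, negOne]

lemma conj_of_mul {G : Type*} [Group G] (c y : G) (h : c * y * c = y) : y * c * y⁻¹ = c⁻¹ := by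
  calc y * c * y⁻¹ = c⁻¹ * (c * y * c) * y⁻¹ := by group
    _ = c⁻¹ * y * y⁻¹ := by rw [h]
    _ = c⁻¹ := by group

lemma y0_conj (c : SpecialLinearGroup (Fin 2) F)
    (hc : c ∈ (torusHom : Fˣ →* SpecialLinearGroup (Fin 2) F).range) : y0 * c * y0⁻¹ = c⁻¹ := by
  obtain ⟨t, rfl⟩ := hc
  apply conj_of_mul
  have ht := t.mul_inv
  have ht' := t.inv_mul
  have t00 : ((torusHom t : SpecialLinearGroup (Fin 2) F) : Matrix (Fin 2) (Fin 2) F) 0 0 = (t : F) := rfl
  have t01 : ((torusHom t : SpecialLinearGroup (Fin 2) F) : Matrix (Fin 2) (Fin 2) F) 0 1 = 0 := rfl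
  have t10 : ((torusHom t : SpecialLinearGroup (Fin 2) F) : Matrix (Fin 2) (Fin 2) F) 1 0 = 0 := rfl
  have t11 : ((torusHom t : SpecialLinearGroup (Fin 2) F) : Matrix (Fin 2) (Fin 2) F) 1 1
      = ((t⁻¹ : Fˣ) : F) := rfl
  have y00 : ((y0 : SpecialLinearGroup (Fin 2) F) : Matrix (Fin 2) (Fin 2) F) 0 0 = 0 := rfl
  have y01 : ((y0 : SpecialLinearGroup (Fin 2) F) : Matrix (Fin 2) (Fin 2) F) 0 1 = 1 := rfl
  have y10 : ((y0 : SpecialLinearGroup (Fin 2) F) : Matrix (Fin 2) (Fin 2) F) 1 0 = -1 := rfl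
  have y11 : ((y0 : SpecialLinearGroup (Fin 2) F) : Matrix (Fin 2) (Fin 2) F) 1 1 = 0 := rfl
  apply ext2 <;> simp only [mul_entries, t00, t01, t10, t11, y00, y01, y10, y11]
  · ring
  · linear_combination ht
  · linear_combination -ht'
  · ring

/-! ### The non-split case -/

/-- The rotation by a quarter turn. -/
def J0 : SpecialLinearGroup (Fin 2) F := ⟨!![0, -1; 1, 0], by simp [Matrix.det_fin_two]⟩

lemma J0_00 : ((J0 : SpecialLinearGroup (Fin 2) F) : Matrix (Fin 2) (Fin 2) F) 0 0 = 0 := rfl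
lemma J0_01 : ((J0 : SpecialLinearGroup (Fin 2) F) : Matrix (Fin 2) (Fin 2) F) 0 1 = -1 := rfl
lemma J0_10 : ((J0 : SpecialLinearGroup (Fin 2) F) : Matrix (Fin 2) (Fin 2) F) 1 0 = 1 := rfl
lemma J0_11 : ((J0 : SpecialLinearGroup (Fin 2) F) : Matrix (Fin 2) (Fin 2) F) 1 1 = 0 := rfl

lemma mem_cent_iff (g : SpecialLinearGroup (Fin 2) F) :
    g ∈ Subgroup.centralizer ({J0} : Set (SpecialLinearGroup (Fin 2) F)) ↔
      (g : Matrix (Fin 2) (Fin 2) F) 0 0 = (g : Matrix (Fin 2) (Fin 2) F) 1 1 ∧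
        (g : Matrix (Fin 2) (Fin 2) F) 0 1 = -(g : Matrix (Fin 2) (Fin 2) F) 1 0 := by
  rw [Subgroup.mem_centralizer_singleton_iff]
  constructor
  · intro h
    have e00 := congrArg (fun k : SpecialLinearGroup (Fin 2) F => (k : Matrix (Fin 2) (Fin 2) F) 0 0) h
    have e10 := congrArg (fun k : SpecialLinearGroup (Fin 2) F => (k : Matrix (Fin 2) (Fin 2) F) 1 0) h
    simp only [mul_entries, J0_00, J0_01, J0_10, J0_11] at e00 e10
    constructor
    · linear_combination -e10
    · linear_combination e00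
  · rintro ⟨h1, h2⟩
    apply ext2 <;> simp only [mul_entries, J0_00, J0_01, J0_10, J0_11, h1, h2] <;> ring

lemma circle (g : SpecialLinearGroup (Fin 2) F)
    (hg : g ∈ Subgroup.centralizer ({J0} : Set (SpecialLinearGroup (Fin 2) F))) :
    (g : Matrix (Fin 2) (Fin 2) F) 0 0 ^ 2 + (g : Matrix (Fin 2) (Fin 2) F) 1 0 ^ 2 = 1 := by
  obtain ⟨h1, h2⟩ := (mem_cent_iff g).mp hg
  have hd := det_eq g
  rw [h2, ← h1] at hd
  linear_combination hd

lemma cent_cyclic [Fintype F] (h3 : Fintype.card F % 4 = 3) :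
    IsCyclic (Subgroup.centralizer ({J0} : Set (SpecialLinearGroup (Fin 2) F))) := by
  have hNE : ∀ l : F, l ^ 2 - ((J0 : SpecialLinearGroup (Fin 2) F) : Matrix (Fin 2) (Fin 2) F).trace * l
      + ((J0 : SpecialLinearGroup (Fin 2) F) : Matrix (Fin 2) (Fin 2) F).det ≠ 0 := by
    intro l hl
    have htr : ((J0 : SpecialLinearGroup (Fin 2) F) : Matrix (Fin 2) (Fin 2) F).trace = 0 := by
      rw [Matrix.trace_fin_two, J0_00, J0_11, add_zero]
    have hdet : ((J0 : SpecialLinearGroup (Fin 2) F) : Matrix (Fin 2) (Fin 2) F).det = 1 := J0.2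
    rw [htr, hdet] at hl
    have hsq : IsSquare (-1 : F) := ⟨l, by linear_combination -hl⟩
    exact (FiniteField.isSquare_neg_one_iff.mp hsq) h3
  apply cyclic_of_subalgebra _ _ hNE
  intro g hg
  apply mem_D_of_commute _ _ hNE
  have := Subgroup.mem_centralizer_singleton_iff.mp hg
  exact congrArg Subtype.val this

/-- The rotation matrix with first column `(u, v)`. -/
def rot (u v : F) (h : u ^ 2 + v ^ 2 = 1) : SpecialLinearGroup (Fin 2) F :=
  ⟨!![u, -v; v, u], by rw [Matrix.det_fin_two_of]; linear_combination h⟩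

lemma rot_mem (u v : F) (h : u ^ 2 + v ^ 2 = 1) :
    rot u v h ∈ Subgroup.centralizer ({J0} : Set (SpecialLinearGroup (Fin 2) F)) :=
  (mem_cent_iff _).mpr ⟨rfl, rfl⟩

lemma negOne_mem : (negOne : SpecialLinearGroup (Fin 2) F)
    ∈ Subgroup.centralizer ({J0} : Set (SpecialLinearGroup (Fin 2) F)) :=
  (mem_cent_iff _).mpr ⟨rfl, by rw [negOne_01, negOne_10, neg_zero]⟩

lemma param (t : F) (ht : 1 + t ^ 2 ≠ 0) :
    ((1 - t ^ 2) / (1 + t ^ 2)) ^ 2 + (2 * t / (1 + t ^ 2)) ^ 2 = 1 := by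
  field_simp
  ring

open Classical in
/-- The rational parametrisation of the circle. -/
noncomputable def circEquiv (h2 : (2 : F) ≠ 0) (hns : ∀ t : F, 1 + t ^ 2 ≠ 0) :
    Option F ≃ {g : SpecialLinearGroup (Fin 2) F //
      g ∈ Subgroup.centralizer ({J0} : Set (SpecialLinearGroup (Fin 2) F))} where
  toFun o := match o with
    | none => ⟨negOne, negOne_mem⟩
    | some t => ⟨rot ((1 - t ^ 2) / (1 + t ^ 2)) (2 * t / (1 + t ^ 2)) (param t (hns t)), rot_mem _ _ _⟩
  invFun g := if (g.1 : Matrix (Fin 2) (Fin 2) F) 0 0 = -1 then none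
    else some ((g.1 : Matrix (Fin 2) (Fin 2) F) 1 0 / (1 + (g.1 : Matrix (Fin 2) (Fin 2) F) 0 0))
  left_inv := by
    rintro (_ | t)
    · show (if ((negOne : SpecialLinearGroup (Fin 2) F) : Matrix (Fin 2) (Fin 2) F) 0 0 = -1 then none
        else some _) = none
      rw [if_pos negOne_00]
    · have ht := hns t
      show (if (1 - t ^ 2) / (1 + t ^ 2) = -1 then none
        else some (2 * t / (1 + t ^ 2) / (1 + (1 - t ^ 2) / (1 + t ^ 2)))) = some t
      have hne : (1 - t ^ 2) / (1 + t ^ 2) ≠ -1 := by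
        intro h
        rw [div_eq_iff ht] at h
        apply h2
        linear_combination h
      rw [if_neg hne]
      congr 1
      have h3 : 1 + (1 - t ^ 2) / (1 + t ^ 2) = 2 / (1 + t ^ 2) := by
        field_simp
        ring
      rw [h3]
      field_simp
  right_inv := by
    rintro ⟨g, hg⟩
    obtain ⟨h1, h2'⟩ := (mem_cent_iff g).mp hg
    have hc := circle g hg
    by_cases hu : (g : Matrix (Fin 2) (Fin 2) F) 0 0 = -1
    · show (match (if (g : Matrix (Fin 2) (Fin 2) F) 0 0 = -1 then none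
        else some ((g : Matrix (Fin 2) (Fin 2) F) 1 0 / (1 + (g : Matrix (Fin 2) (Fin 2) F) 0 0))) with
        | none => (⟨negOne, negOne_mem⟩ : {g : SpecialLinearGroup (Fin 2) F //
            g ∈ Subgroup.centralizer ({J0} : Set (SpecialLinearGroup (Fin 2) F))})
        | some t => ⟨rot ((1 - t ^ 2) / (1 + t ^ 2)) (2 * t / (1 + t ^ 2)) (param t (hns t)), rot_mem _ _ _⟩)
        = ⟨g, hg⟩
      rw [if_pos hu]
      apply Subtype.ext
      have hv : (g : Matrix (Fin 2) (Fin 2) F) 1 0 = 0 := by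
        rw [hu] at hc
        have : (g : Matrix (Fin 2) (Fin 2) F) 1 0 ^ 2 = 0 := by linear_combination hc
        exact pow_eq_zero_iff (by norm_num) |>.mp this
      apply ext2
      · rw [negOne_00, hu]
      · rw [negOne_01, h2', hv, neg_zero]
      · rw [negOne_10, hv]
      · rw [negOne_11, ← h1, hu]
    · show (match (if (g : Matrix (Fin 2) (Fin 2) F) 0 0 = -1 then none
        else some ((g : Matrix (Fin 2) (Fin 2) F) 1 0 / (1 + (g : Matrix (Fin 2) (Fin 2) F) 0 0))) with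
        | none => (⟨negOne, negOne_mem⟩ : {g : SpecialLinearGroup (Fin 2) F //
            g ∈ Subgroup.centralizer ({J0} : Set (SpecialLinearGroup (Fin 2) F))})
        | some t => ⟨rot ((1 - t ^ 2) / (1 + t ^ 2)) (2 * t / (1 + t ^ 2)) (param t (hns t)), rot_mem _ _ _⟩)
        = ⟨g, hg⟩
      rw [if_neg hu]
      apply Subtype.ext
      set u := (g : Matrix (Fin 2) (Fin 2) F) 0 0 with hu'
      set v := (g : Matrix (Fin 2) (Fin 2) F) 1 0 with hv'
      have hu1 : 1 + u ≠ 0 := by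
        intro h
        apply hu
        linear_combination h
      have hden : 1 + (v / (1 + u)) ^ 2 = 2 / (1 + u) := by
        field_simp
        linear_combination hc
      have hden0 : (2 : F) / (1 + u) ≠ 0 := div_ne_zero h2 hu1
      have e1 : (1 - (v / (1 + u)) ^ 2) / (1 + (v / (1 + u)) ^ 2) = u := by
        rw [hden]
        field_simp
        linear_combination -hc
      have e2 : 2 * (v / (1 + u)) / (1 + (v / (1 + u)) ^ 2) = v := by
        rw [hden]
        field_simp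
      apply ext2
      · exact e1
      · show -(2 * (v / (1 + u)) / (1 + (v / (1 + u)) ^ 2)) = _
        rw [e2, h2']
      · exact e2
      · show (1 - (v / (1 + u)) ^ 2) / (1 + (v / (1 + u)) ^ 2) = _
        rw [e1, ← h1]

lemma card_cent [Fintype F] (h3 : Fintype.card F % 4 = 3) :
    Nat.card (Subgroup.centralizer ({J0} : Set (SpecialLinearGroup (Fin 2) F)))
      = Fintype.card F + 1 := by
  have hns : ∀ t : F, 1 + t ^ 2 ≠ 0 := by
    intro t ht
    have hsq : IsSquare (-1 : F) := ⟨t, by linear_combination -ht⟩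
    exact (FiniteField.isSquare_neg_one_iff.mp hsq) h3
  have h2 : (2 : F) ≠ 0 := by
    intro h
    have hch : ringChar F = 2 := CharP.ringChar_of_prime_eq_zero Nat.prime_two (by exact_mod_cast h)
    have := FiniteField.even_card_of_char_two hch
    omega
  have e := Nat.card_congr (circEquiv h2 hns)
  rw [Nat.card_eq_fintype_card, Fintype.card_option] at e
  exact e.symm

/-- The reflection-type element inverting the rotations. -/
def yrot (s t : F) (h : s ^ 2 + t ^ 2 = -1) : SpecialLinearGroup (Fin 2) F :=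
  ⟨!![s, t; t, -s], by rw [Matrix.det_fin_two_of]; linear_combination -h⟩

lemma yrot_sq (s t : F) (h : s ^ 2 + t ^ 2 = -1) : yrot s t h * yrot s t h = negOne := by
  apply ext2 <;> rw [mul_entries] <;> simp only [yrot, negOne] <;> simp
  · linear_combination h
  · ring
  · ring
  · linear_combination h

lemma yrot_conj (s t : F) (h : s ^ 2 + t ^ 2 = -1) (c : SpecialLinearGroup (Fin 2) F)
    (hc : c ∈ Subgroup.centralizer ({J0} : Set (SpecialLinearGroup (Fin 2) F))) :
    yrot s t h * c * (yrot s t h)⁻¹ = c⁻¹ := by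
  apply conj_of_mul
  obtain ⟨h1, h2⟩ := (mem_cent_iff c).mp hc
  have hci := circle c hc
  have y00 : ((yrot s t h : SpecialLinearGroup (Fin 2) F) : Matrix (Fin 2) (Fin 2) F) 0 0 = s := rfl
  have y01 : ((yrot s t h : SpecialLinearGroup (Fin 2) F) : Matrix (Fin 2) (Fin 2) F) 0 1 = t := rfl
  have y10 : ((yrot s t h : SpecialLinearGroup (Fin 2) F) : Matrix (Fin 2) (Fin 2) F) 1 0 = t := rfl
  have y11 : ((yrot s t h : SpecialLinearGroup (Fin 2) F) : Matrix (Fin 2) (Fin 2) F) 1 1 = -s := rfl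
  apply ext2 <;> simp only [mul_entries, y00, y01, y10, y11, h2, ← h1]
  · linear_combination s * hci
  · linear_combination t * hci
  · linear_combination t * hci
  · linear_combination (-s) * hci

/-- Sylow 2-subgroups of `SL_2(q)`, `q` odd, are generalised quaternion. -/
theorem sylow_quat [Fintype F] (hF : Odd (Fintype.card F))
    (P : Sylow 2 (SpecialLinearGroup (Fin 2) F)) :
    ∃ k : ℕ, 1 ≤ k ∧
      Nonempty ((P : Subgroup (SpecialLinearGroup (Fin 2) F)) ≃* QuaternionGroup (2 ^ k)) := by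
  have h2 : (2 : F) ≠ 0 := by
    intro h
    have hch : ringChar F = 2 := CharP.ringChar_of_prime_eq_zero Nat.prime_two (by exact_mod_cast h)
    have := FiniteField.even_card_of_char_two hch
    obtain ⟨j, hj⟩ := hF
    omega
  obtain ⟨m, hm⟩ := IsPGroup.iff_card.mp P.isPGroup'
  have hdvd : 2 ^ m ∣ Fintype.card F * ((Fintype.card F - 1) * (Fintype.card F + 1)) := by
    rw [← hm, ← card_SL2]
    exact Subgroup.card_subgroup_dvd_card _
  have hm3 : 3 ≤ m := by
    have h8 := eight_dvd (Fintype.card F) hF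
    rw [← card_SL2] at h8
    have h9 := P.pow_dvd_card_of_pow_dvd_card h8
    rw [hm] at h9
    exact (Nat.pow_dvd_pow_iff_le_right (by norm_num)).mp h9
  obtain ⟨a1, a2⟩ := arith (Fintype.card F) m hF hdvd
  have hq4 : Fintype.card F % 4 = 1 ∨ Fintype.card F % 4 = 3 := by
    obtain ⟨j, hj⟩ := hF
    omega
  rcases hq4 with h4 | h4
  · exact quat_of_cyclic h2 P m hm3 hm (torusHom : Fˣ →* SpecialLinearGroup (Fin 2) F).range
      (by rw [card_torus]; exact a1 h4) y0 y0_conj y0_sq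
  · haveI := cent_cyclic (F := F) h4
    obtain ⟨s, t, hst⟩ := Cfsg.Agent.Lib_helper4_SymBasis.exists_sq_sum h2 (-1 : F) (-1 : F)
      (neg_ne_zero.mpr one_ne_zero) (neg_ne_zero.mpr one_ne_zero)
    have hst' : s ^ 2 + t ^ 2 = -1 := by linear_combination -hst
    exact quat_of_cyclic h2 P m hm3 hm
      (Subgroup.centralizer ({J0} : Set (SpecialLinearGroup (Fin 2) F)))
      (by rw [card_cent h4]; exact a2 h4) (yrot s t hst') (yrot_conj s t hst') (yrot_sq s t hst')

end Cfsg.Agent.Lib_helper4_SL2Quat
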