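import Mathlib
import Cfsg.Agent.Lib_helper4_Card

set_option autoImplicit false

/-! Sylow `p`-subgroups of `SL_2(q)` in the defining characteristic: two distinct ones generate. -/

namespace Cfsg.Agent.Lib_helper4_SL2Syl
open Matrix

variable {F : Type*} [Field F]

lemma mul_entries (g h : SpecialLinearGroup (Fin 2) F) (i j : Fin 2) :
    ((g * h : SpecialLinearGroup (Fin 2) F) : Matrix (Fin 2) (Fin 2) F) i j
      = (g : Matrix (Fin 2) (Fin 2) F) i 0 * (h : Matrix (Fin 2) (Fin 2) F) 0 j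
        + (g : Matrix (Fin 2) (Fin 2) F) i 1 * (h : Matrix (Fin 2) (Fin 2) F) 1 j := by
  show ((g : Matrix (Fin 2) (Fin 2) F) * (h : Matrix (Fin 2) (Fin 2) F)) i j = _
  rw [Matrix.mul_apply, Fin.sum_univ_two]

lemma ext2 (g h : SpecialLinearGroup (Fin 2) F)
    (h00 : (g : Matrix (Fin 2) (Fin 2) F) 0 0 = (h : Matrix (Fin 2) (Fin 2) F) 0 0)
    (h01 : (g : Matrix (Fin 2) (Fin 2) F) 0 1 = (h : Matrix (Fin 2) (Fin 2) F) 0 1)
    (h10 : (g : Matrix (Fin 2) (Fin 2) F) 1 0 = (h : Matrix (Fin 2) (Fin 2) F) 1 0)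
    (h11 : (g : Matrix (Fin 2) (Fin 2) F) 1 1 = (h : Matrix (Fin 2) (Fin 2) F) 1 1) : g = h := by
  apply Subtype.ext
  ext i j
  fin_cases i <;> fin_cases j
  · exact h00
  · exact h01
  · exact h10
  · exact h11

lemma det_eq (g : SpecialLinearGroup (Fin 2) F) :
    (g : Matrix (Fin 2) (Fin 2) F) 0 0 * (g : Matrix (Fin 2) (Fin 2) F) 1 1
      - (g : Matrix (Fin 2) (Fin 2) F) 0 1 * (g : Matrix (Fin 2) (Fin 2) F) 1 0 = 1 := by
  have := g.2
  rwa [Matrix.det_fin_two] at this

/-- The lower unitriangular element with entry `b`. -/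
def um (b : F) : SpecialLinearGroup (Fin 2) F :=
  ⟨!![1, 0; b, 1], by simp [Matrix.det_fin_two]⟩

/-- The upper unitriangular element with entry `b`. -/
def up (b : F) : SpecialLinearGroup (Fin 2) F :=
  ⟨!![1, b; 0, 1], by simp [Matrix.det_fin_two]⟩

lemma um_00 (b : F) : ((um b : SpecialLinearGroup (Fin 2) F) : Matrix (Fin 2) (Fin 2) F) 0 0 = 1 := rfl
lemma um_01 (b : F) : ((um b : SpecialLinearGroup (Fin 2) F) : Matrix (Fin 2) (Fin 2) F) 0 1 = 0 := rfl
lemma um_10 (b : F) : ((um b : SpecialLinearGroup (Fin 2) F) : Matrix (Fin 2) (Fin 2) F) 1 0 = b := rfl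
lemma um_11 (b : F) : ((um b : SpecialLinearGroup (Fin 2) F) : Matrix (Fin 2) (Fin 2) F) 1 1 = 1 := rfl
lemma up_00 (b : F) : ((up b : SpecialLinearGroup (Fin 2) F) : Matrix (Fin 2) (Fin 2) F) 0 0 = 1 := rfl
lemma up_01 (b : F) : ((up b : SpecialLinearGroup (Fin 2) F) : Matrix (Fin 2) (Fin 2) F) 0 1 = b := rfl
lemma up_10 (b : F) : ((up b : SpecialLinearGroup (Fin 2) F) : Matrix (Fin 2) (Fin 2) F) 1 0 = 0 := rfl
lemma up_11 (b : F) : ((up b : SpecialLinearGroup (Fin 2) F) : Matrix (Fin 2) (Fin 2) F) 1 1 = 1 := rfl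

lemma one_entries : ((1 : SpecialLinearGroup (Fin 2) F) : Matrix (Fin 2) (Fin 2) F) 0 0 = 1 ∧
    ((1 : SpecialLinearGroup (Fin 2) F) : Matrix (Fin 2) (Fin 2) F) 0 1 = 0 ∧
    ((1 : SpecialLinearGroup (Fin 2) F) : Matrix (Fin 2) (Fin 2) F) 1 0 = 0 ∧
    ((1 : SpecialLinearGroup (Fin 2) F) : Matrix (Fin 2) (Fin 2) F) 1 1 = 1 := by
  simp

lemma um_add (a b : F) : um a * um b = um (a + b) := by
  apply ext2 <;> rw [mul_entries] <;> simp only [um_00, um_01, um_10, um_11] <;> ring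

lemma um_zero : um (0 : F) = 1 := by
  obtain ⟨h1, h2, h3, h4⟩ := one_entries (F := F)
  apply ext2
  · rw [um_00, h1]
  · rw [um_01, h2]
  · rw [um_10, h3]
  · rw [um_11, h4]

lemma um_inv (a : F) : (um a)⁻¹ = um (-a) := by
  rw [inv_eq_iff_mul_eq_one, um_add, add_neg_cancel, um_zero]

lemma um_injective : Function.Injective (um : F → SpecialLinearGroup (Fin 2) F) := by
  intro a b h
  have := congrArg (fun g : SpecialLinearGroup (Fin 2) F => (g : Matrix (Fin 2) (Fin 2) F) 1 0) h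
  simpa [um_10] using this

/-- The lower unitriangular subgroup. -/
def U : Subgroup (SpecialLinearGroup (Fin 2) F) where
  carrier := Set.range um
  mul_mem' := by
    rintro _ _ ⟨a, rfl⟩ ⟨b, rfl⟩
    exact ⟨a + b, (um_add a b).symm⟩
  one_mem' := ⟨0, um_zero⟩
  inv_mem' := by
    rintro _ ⟨a, rfl⟩
    exact ⟨-a, (um_inv a).symm⟩

lemma um_mem (b : F) : um b ∈ (U : Subgroup (SpecialLinearGroup (Fin 2) F)) := ⟨b, rfl⟩

lemma card_U [Fintype F] : Nat.card (U : Subgroup (SpecialLinearGroup (Fin 2) F)) = Fintype.card F := by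
  rw [← Nat.card_eq_fintype_card]
  exact (Nat.card_congr (Equiv.ofInjective um um_injective)).symm

/-- `SL_2` is generated by the lower and upper unitriangular elements. -/
lemma mem_closure (g : SpecialLinearGroup (Fin 2) F) :
    g ∈ Subgroup.closure (Set.range (um : F → SpecialLinearGroup (Fin 2) F) ∪ Set.range up) := by
  have hum : ∀ b : F, um b ∈ Subgroup.closure (Set.range (um : F → SpecialLinearGroup (Fin 2) F) ∪ Set.range up) :=
    fun b => Subgroup.subset_closure (Or.inl ⟨b, rfl⟩)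
  have hup : ∀ b : F, up b ∈ Subgroup.closure (Set.range (um : F → SpecialLinearGroup (Fin 2) F) ∪ Set.range up) :=
    fun b => Subgroup.subset_closure (Or.inr ⟨b, rfl⟩)
  have key : ∀ g : SpecialLinearGroup (Fin 2) F, (g : Matrix (Fin 2) (Fin 2) F) 1 0 ≠ 0 →
      g ∈ Subgroup.closure (Set.range (um : F → SpecialLinearGroup (Fin 2) F) ∪ Set.range up) := by
    intro g hc
    have hd := det_eq g
    have e : g = up (((g : Matrix (Fin 2) (Fin 2) F) 0 0 - 1) / (g : Matrix (Fin 2) (Fin 2) F) 1 0)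
        * um ((g : Matrix (Fin 2) (Fin 2) F) 1 0)
        * up (((g : Matrix (Fin 2) (Fin 2) F) 1 1 - 1) / (g : Matrix (Fin 2) (Fin 2) F) 1 0) := by
      apply ext2 <;>
        simp only [mul_entries, um_00, um_01, um_10, um_11, up_00, up_01, up_10, up_11]
      · field_simp
        ring
      · field_simp
        linear_combination -hd
      · ring
      · field_simp
        ring
    rw [e]
    exact Subgroup.mul_mem _ (Subgroup.mul_mem _ (hup _) (hum _)) (hup _)
  by_cases hc : (g : Matrix (Fin 2) (Fin 2) F) 1 0 = 0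
  · have hd := det_eq g
    rw [hc, mul_zero, sub_zero] at hd
    have h0 : (g : Matrix (Fin 2) (Fin 2) F) 0 0 ≠ 0 := left_ne_zero_of_mul_eq_one hd
    have h1 : (um 1 * g) ∈ Subgroup.closure (Set.range (um : F → SpecialLinearGroup (Fin 2) F) ∪ Set.range up) := by
      apply key
      rw [mul_entries, um_10, um_11, hc]
      simpa using h0
    have e : g = um (-1) * (um 1 * g) := by
      rw [← mul_assoc, um_add, neg_add_cancel, um_zero, one_mul]
    rw [e]
    exact Subgroup.mul_mem _ (hum _) h1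
  · exact key g hc

lemma diag_mul (g : SpecialLinearGroup (Fin 2) F) (h : (g : Matrix (Fin 2) (Fin 2) F) 0 1 = 0) :
    (g : Matrix (Fin 2) (Fin 2) F) 0 0 * (g : Matrix (Fin 2) (Fin 2) F) 1 1 = 1 := by
  have hd := det_eq g
  rwa [h, zero_mul, sub_zero] at hd

/-- Conjugating `U` by a lower triangular matrix. -/
lemma conj_mem_U (g : SpecialLinearGroup (Fin 2) F) (h : (g : Matrix (Fin 2) (Fin 2) F) 0 1 = 0)
    (x : SpecialLinearGroup (Fin 2) F) (hx : x ∈ (U : Subgroup (SpecialLinearGroup (Fin 2) F))) :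
    g * x * g⁻¹ ∈ (U : Subgroup (SpecialLinearGroup (Fin 2) F)) := by
  obtain ⟨b, rfl⟩ := hx
  have hd := diag_mul g h
  have h0 : (g : Matrix (Fin 2) (Fin 2) F) 0 0 ≠ 0 := left_ne_zero_of_mul_eq_one hd
  have key : g * um b = um (b * (g : Matrix (Fin 2) (Fin 2) F) 1 1 / (g : Matrix (Fin 2) (Fin 2) F) 0 0) * g := by
    apply ext2 <;> rw [mul_entries, mul_entries] <;> simp only [um_00, um_01, um_10, um_11, h]
    · ring
    · ring
    · field_simp
      ring
    · ring
  rw [key, mul_inv_cancel_right]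
  exact um_mem _

lemma map_conj_eq_U [Fintype F] (g : SpecialLinearGroup (Fin 2) F)
    (h : (g : Matrix (Fin 2) (Fin 2) F) 0 1 = 0) :
    (U : Subgroup (SpecialLinearGroup (Fin 2) F)).map (MulAut.conj g).toMonoidHom = U := by
  apply Subgroup.eq_of_le_of_card_ge
  · rintro _ ⟨x, hx, rfl⟩
    exact conj_mem_U g h x hx
  · rw [Subgroup.card_map_of_injective (MulEquiv.injective (MulAut.conj g))]

/-- `U` is (the carrier of) a Sylow `p`-subgroup. -/
lemma exists_sylow_eq_U [Fintype F] (p : ℕ) [Fact p.Prime] [CharP F p] :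
    ∃ Q : Sylow p (SpecialLinearGroup (Fin 2) F), (Q : Subgroup (SpecialLinearGroup (Fin 2) F)) = U := by
  have hp : p.Prime := Fact.out
  obtain ⟨k, -, hk⟩ := FiniteField.card F p
  have hU : IsPGroup p (U : Subgroup (SpecialLinearGroup (Fin 2) F)) :=
    IsPGroup.of_card (n := k) (by rw [card_U, hk])
  obtain ⟨Q, hQ⟩ := hU.exists_le_sylow
  refine ⟨Q, (Subgroup.eq_of_le_of_card_ge hQ ?_).symm⟩
  rw [card_U]
  set q := Fintype.card F with hq
  have hq1 : 1 < q := Fintype.one_lt_card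
  have hS := Cfsg.Agent.Lib_helper4_Card.card_SL (F := F) (q := q) rfl 2 (by norm_num)
  rw [Fin.prod_univ_two] at hS
  obtain ⟨r, hr⟩ : ∃ r, q = r + 1 := ⟨q - 1, by omega⟩
  have hr1 : 1 ≤ r := by omega
  have e1 : q ^ 2 - q ^ ((0 : Fin 2) : ℕ) = r * (r + 2) := by
    have : (r + 1) ^ 2 = r * (r + 2) + 1 := by ring
    simp only [Fin.val_zero, pow_zero, hr]
    omega
  have e2 : q ^ 2 - q ^ ((1 : Fin 2) : ℕ) = r * (r + 1) := by
    have : (r + 1) ^ 2 = r * (r + 1) + (r + 1) := by ring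
    simp only [Fin.val_one, pow_one, hr]
    omega
  have e3 : q - 1 = r := by omega
  rw [e1, e2, e3] at hS
  have hS' : Nat.card (SpecialLinearGroup (Fin 2) F) = q * (r * (r + 2)) := by
    have : r * Nat.card (SpecialLinearGroup (Fin 2) F) = r * (q * (r * (r + 2))) := by
      rw [hS, hr]; ring
    exact Nat.eq_of_mul_eq_mul_left (by omega) this
  obtain ⟨m, hm⟩ := IsPGroup.iff_card.mp Q.isPGroup'
  have hdvd : Nat.card Q ∣ q * (r * (r + 2)) := by
    rw [← hS']; exact Subgroup.card_subgroup_dvd_card _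
  have hcop : Nat.Coprime (p ^ m) (r * (r + 2)) := by
    apply Nat.Coprime.pow_left
    rw [hp.coprime_iff_not_dvd]
    intro hd
    have h1 : p ∣ q := by rw [hk]; exact dvd_pow_self p (by
      intro h0
      rw [h0, pow_zero] at hk
      omega)
    have h2 : p ∣ q * q := Dvd.dvd.mul_right h1 q
    have h3 : q * q = r * (r + 2) + 1 := by rw [hr]; ring
    rw [h3] at h2
    have h4 := (Nat.dvd_add_right hd).mp h2
    exact hp.one_lt.ne' (Nat.dvd_one.mp h4)
  rw [hm] at hdvd ⊢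
  exact Nat.le_of_dvd (by omega) (hcop.dvd_of_dvd_mul_right hdvd)

/-- Every Sylow `p`-subgroup is a conjugate of `U`. -/
lemma exists_conj [Fintype F] (p : ℕ) [Fact p.Prime] [CharP F p]
    (P : Sylow p (SpecialLinearGroup (Fin 2) F)) :
    ∃ g : SpecialLinearGroup (Fin 2) F, (P : Subgroup (SpecialLinearGroup (Fin 2) F))
      = (U : Subgroup (SpecialLinearGroup (Fin 2) F)).map (MulAut.conj g).toMonoidHom := by
  obtain ⟨Q, hQ⟩ := exists_sylow_eq_U (F := F) p
  obtain ⟨g, hg⟩ := MulAction.exists_smul_eq (SpecialLinearGroup (Fin 2) F) Q P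
  refine ⟨g, ?_⟩
  rw [← hg, ← hQ]
  rfl

/-- `U` and a conjugate by a matrix that is not lower triangular generate `SL_2`. -/
lemma sup_conj_eq_top (k : SpecialLinearGroup (Fin 2) F)
    (hk : (k : Matrix (Fin 2) (Fin 2) F) 0 1 ≠ 0) :
    (U : Subgroup (SpecialLinearGroup (Fin 2) F)) ⊔ U.map (MulAut.conj k).toMonoidHom = ⊤ := by
  rw [eq_top_iff]
  intro g _
  have hg := mem_closure g
  refine (Subgroup.closure_le _).mpr ?_ hg
  rintro x (⟨b, rfl⟩ | ⟨x, rfl⟩)
  · exact Subgroup.mem_sup_left (um_mem b)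
  · set β := (k : Matrix (Fin 2) (Fin 2) F) 0 1 with hβ
    set δ := (k : Matrix (Fin 2) (Fin 2) F) 1 1 with hδ
    have hd := det_eq k
    rw [← hβ, ← hδ] at hd
    have e1 : up x * (um (-δ / β) * k) = (um (-δ / β) * k) * um (-x / β ^ 2) := by
      apply ext2 <;>
        simp only [mul_entries, um_00, um_01, um_10, um_11, up_00, up_01, up_10, up_11, ← hβ, ← hδ]
      · field_simp
        linear_combination (-β * x) * hd
      · field_simp
        ring
      · field_simp
        ring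
      · ring
    have e : up x = um (-δ / β) * (k * um (-x / β ^ 2) * k⁻¹) * (um (-δ / β))⁻¹ := by
      have e2 : um (-δ / β) * (k * um (-x / β ^ 2) * k⁻¹) * (um (-δ / β))⁻¹
          = (um (-δ / β) * k) * um (-x / β ^ 2) * (um (-δ / β) * k)⁻¹ := by group
      rw [e2, ← e1, mul_inv_cancel_right]
    rw [e]
    refine Subgroup.mul_mem _ (Subgroup.mul_mem _ (Subgroup.mem_sup_left (um_mem _)) ?_)
      (Subgroup.inv_mem _ (Subgroup.mem_sup_left (um_mem _)))
    apply Subgroup.mem_sup_right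
    exact ⟨um (-x / β ^ 2), um_mem _, by simp [MulAut.conj_apply]⟩

end Cfsg.Agent.Lib_helper4_SL2Syl
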