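import Mathlib
import Cfsg.Agent.Lib_helper4_SL2

/-! Involutions of `SL_2(F)` in characteristic not two. -/

namespace Cfsg.Agent.Lib_helper4_SL2b
open Matrix Cfsg.Agent.Lib_helper4_SL2

variable {F : Type*} [Field F]

lemma eq_one_or_neg_one (H : Matrix (Fin 2) (Fin 2) F) (hdet : H.det = 1) (hH : H * H = 1)
    (h2 : (2 : F) ≠ 0) : H = 1 ∨ H = -1 := by
  have hc := cayley H hdet
  rw [hH] at hc
  have h1 : H.trace • H = (2 : F) • (1 : Matrix (Fin 2) (Fin 2) F) := by
    rw [two_smul]
    rw [eq_sub_iff_add_eq] at hc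
    exact hc.symm
  have ht : H.trace ≠ 0 := by
    intro h0
    rw [h0, zero_smul] at h1
    have h3 := congrFun (congrFun h1 0) 0
    simp at h3
    exact h2 h3.symm
  have h4 : H = (2 / H.trace) • (1 : Matrix (Fin 2) (Fin 2) F) := by
    calc H = H.trace⁻¹ • (H.trace • H) := by rw [smul_smul, inv_mul_cancel₀ ht, one_smul]
      _ = H.trace⁻¹ • ((2 : F) • (1 : Matrix (Fin 2) (Fin 2) F)) := by rw [h1]
      _ = (2 / H.trace) • (1 : Matrix (Fin 2) (Fin 2) F) := by
        rw [smul_smul]
        congr 1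
        field_simp
  have h6 : (2 / H.trace) * (2 / H.trace) = 1 := by
    have h7 : ((2 / H.trace) • (1 : Matrix (Fin 2) (Fin 2) F)).det = 1 := by
      rw [← h4]
      exact hdet
    rw [Matrix.det_smul, Matrix.det_one, mul_one, Fintype.card_fin, pow_two] at h7
    exact h7
  rcases mul_self_eq_one_iff.mp h6 with h | h
  · left
    rw [h4, h, one_smul]
  · right
    rw [h4, h, neg_smul, one_smul]

end Cfsg.Agent.Lib_helper4_SL2b
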