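import Mathlib
import Cfsg.Prelude.Def_ClassicalGeometry
import Cfsg.Prelude.Def_LieClassical
import Cfsg.Agent.Lib_helper4_Herm
import Cfsg.Agent.Lib_helper4_GU

/-! The special unitary group: determinant on `GU`, and the order of `SU`. -/

namespace Cfsg.Agent.Lib_helper4_SU
open Matrix Cfsg.Agent.Lib_helper4_Herm Cfsg.Agent.Lib_helper4_GU

variable {F : Type*} [Field F] [Fintype F] {n q : ℕ}

omit [Fintype F] in
/-- The matrix identity `Aᵀ * A^(q) = 1` for a matrix preserving the Hermitian form. -/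
lemma transpose_mul_map (p k : ℕ) [Fact p.Prime] [CharP F p] (A : Matrix (Fin n) (Fin n) F)
    (hA : ∀ u v, Cfsg.hermForm n F (p ^ k) (A *ᵥ u) (A *ᵥ v) = Cfsg.hermForm n F (p ^ k) u v) :
    Aᵀ * A.map (iterateFrobenius F p k) = 1 := by
  ext i j
  have h := hA (Pi.single i 1) (Pi.single j 1)
  rw [herm_single_left] at h
  rw [Matrix.mul_apply, Matrix.one_apply]
  have h2 : ∑ l, Aᵀ i l * (A.map (iterateFrobenius F p k)) l j
      = Cfsg.hermForm n F (p ^ k) (A *ᵥ Pi.single i 1) (A *ᵥ Pi.single j 1) := by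
    unfold Cfsg.hermForm
    refine Finset.sum_congr rfl fun l _ => ?_
    rw [Matrix.mulVec_single_one, Matrix.mulVec_single_one]
    rfl
  rw [h2, h]
  by_cases hij : i = j
  · rw [if_pos hij, hij, Pi.single_eq_same, one_pow]
  · rw [if_neg hij, Pi.single_eq_of_ne hij, zero_pow]
    exact pow_ne_zero _ (Fact.out : p.Prime).ne_zero

lemma det_pow_of_preserves (hF : Fintype.card F = q ^ 2) (A : Matrix (Fin n) (Fin n) F)
    (hA : ∀ u v, Cfsg.hermForm n F q (A *ᵥ u) (A *ᵥ v) = Cfsg.hermForm n F q u v) :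
    A.det ^ (q + 1) = 1 := by
  obtain ⟨p, k, hp, hchar, rfl⟩ := exists_char_pow hF
  have hchar' := hchar
  have hfact : Fact p.Prime := ⟨hp⟩
  have h := congrArg Matrix.det (transpose_mul_map p k A hA)
  have h3 : (A.map (iterateFrobenius F p k)).det = A.det ^ p ^ k :=
    (RingHom.map_det (iterateFrobenius F p k) A).symm
  rw [Matrix.det_mul, Matrix.det_transpose, Matrix.det_one, h3] at h
  rw [pow_succ, mul_comm]
  exact h

/-- The determinant on `GU`. -/
noncomputable def detHom (n : ℕ) (F : Type*) [Field F] (q : ℕ) : Cfsg.GU n F q →* Fˣ :=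
  (GeneralLinearGroup.det : GL (Fin n) F →* Fˣ).comp (Cfsg.GU n F q).subtype

omit [Fintype F] in
lemma detHom_val (A : Cfsg.GU n F q) :
    ((detHom n F q A : Fˣ) : F) = ((A : GL (Fin n) F) : Matrix (Fin n) (Fin n) F).det := rfl

lemma range_detHom (hF : Fintype.card F = q ^ 2) (hn : 1 ≤ n) :
    (detHom n F q).range = (powMonoidHom (q + 1) : Fˣ →* Fˣ).ker := by
  ext x
  rw [MonoidHom.mem_ker, powMonoidHom_apply]
  constructor
  · rintro ⟨A, rfl⟩
    apply Units.ext
    rw [Units.val_pow_eq_pow_val, detHom_val]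
    exact det_pow_of_preserves hF _ ((mem_GU_iff _).mp A.2)
  · intro hx
    have hx' : (x : F) ^ (q + 1) = 1 := by
      have := congrArg (fun u : Fˣ => (u : F)) hx
      simpa using this
    obtain ⟨A, hA⟩ := exists_GU_of_preserves hF
      (Matrix.diagonal (fun i : Fin n => if i = ⟨0, hn⟩ then (x : F) else 1))
      (by
        intro u v
        unfold Cfsg.hermForm
        refine Finset.sum_congr rfl fun i _ => ?_
        rw [Matrix.mulVec_diagonal, Matrix.mulVec_diagonal]
        by_cases hi : i = ⟨0, hn⟩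
        · rw [if_pos hi, mul_pow]
          have : (x : F) * u i * ((x : F) ^ q * v i ^ q) = (x : F) ^ (q + 1) * (u i * v i ^ q) := by
            ring
          rw [this, hx', one_mul]
        · rw [if_neg hi, one_mul, one_mul])
    refine ⟨A, ?_⟩
    apply Units.ext
    rw [detHom_val, hA, Matrix.det_diagonal, Finset.prod_ite_eq' Finset.univ (⟨0, hn⟩ : Fin n)]
    simp

lemma card_range_detHom (hF : Fintype.card F = q ^ 2) (hn : 1 ≤ n) :
    Nat.card (detHom n F q).range = q + 1 := by
  rw [range_detHom hF hn, IsCyclic.card_powMonoidHom_ker, Nat.card_units,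
    Nat.card_eq_fintype_card (α := F), hF]
  apply Nat.gcd_eq_right
  have hq := q_pos hF
  refine ⟨q - 1, ?_⟩
  have h1 : q ^ 2 = (q - 1) * (q + 1) + 1 := by
    obtain ⟨r, rfl⟩ : ∃ r, q = r + 1 := ⟨q - 1, by omega⟩
    simp only [Nat.add_sub_cancel]
    ring
  rw [h1, Nat.add_sub_cancel, mul_comm]

/-- `SU` inside `GU`. -/
def toGU (n : ℕ) (F : Type*) [Field F] (q : ℕ) (S : Cfsg.SU n F q) : Cfsg.GU n F q :=
  ⟨SpecialLinearGroup.toGL S.1, S.2⟩

omit [Fintype F] in
lemma toGU_injective : Function.Injective (toGU n F q) := by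
  intro S T h
  apply Subtype.ext
  apply SpecialLinearGroup.toGL_injective
  exact congrArg Subtype.val h

omit [Fintype F] in
lemma range_toGU : Set.range (toGU n F q) = ((detHom n F q).ker : Set (Cfsg.GU n F q)) := by
  ext g
  constructor
  · rintro ⟨S, rfl⟩
    rw [SetLike.mem_coe, MonoidHom.mem_ker]
    apply Units.ext
    rw [detHom_val]
    exact S.1.2
  · intro hg
    rw [SetLike.mem_coe, MonoidHom.mem_ker] at hg
    have hdet : ((g : GL (Fin n) F) : Matrix (Fin n) (Fin n) F).det = 1 := by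
      rw [← detHom_val, hg]
      rfl
    exact ⟨⟨⟨((g : GL (Fin n) F) : Matrix (Fin n) (Fin n) F), hdet⟩, g.2⟩,
      Subtype.ext (Units.ext rfl)⟩

lemma card_SU_mul (hF : Fintype.card F = q ^ 2) (hn : 1 ≤ n) :
    (q + 1) * Nat.card (Cfsg.SU n F q) = Nat.card (Cfsg.GU n F q) := by
  have h1 : Nat.card (Cfsg.SU n F q) = Nat.card (detHom n F q).ker := by
    rw [Nat.card_congr (Equiv.ofInjective _ (toGU_injective (n := n) (F := F) (q := q))),
      range_toGU]
    rfl
  have h2 : (detHom n F q).ker.index = q + 1 := by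
    rw [Subgroup.index_ker, card_range_detHom hF hn]
  rw [h1, ← h2, mul_comm, Subgroup.card_mul_index]

end Cfsg.Agent.Lib_helper4_SU
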