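import Mathlib
import Cfsg.Prelude.Def_GeometricClasses

/-! Transvections `1 + x φᵀ` as elements of `GL ι F`, and their use to separate subspace stabilisers. -/

namespace Cfsg.Agent.Lib_helper4_Transv
open Matrix

variable {ι : Type} [Fintype ι] [DecidableEq ι] {F : Type*} [Field F]

lemma det_one_add_vecMulVec (x φ : ι → F) : (1 + vecMulVec x φ).det = 1 + φ ⬝ᵥ x := by
  rw [Matrix.vecMulVec_eq Unit, Matrix.det_one_add_replicateCol_mul_replicateRow]

lemma one_add_vecMulVec_mulVec (x φ v : ι → F) :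
    (1 + vecMulVec x φ) *ᵥ v = v + (φ ⬝ᵥ v) • x := by
  rw [Matrix.add_mulVec, Matrix.one_mulVec, Matrix.vecMulVec_mulVec]
  simp

/-- The transvection `1 + x φᵀ` as an element of `GL` when `φ ⬝ᵥ x = 0`. -/
noncomputable def tv (x φ : ι → F) (h : φ ⬝ᵥ x = 0) : GL ι F :=
  Matrix.GeneralLinearGroup.mk'' (1 + vecMulVec x φ)
    (by rw [det_one_add_vecMulVec, h, add_zero]; exact isUnit_one)

lemma tv_coe (x φ : ι → F) (h : φ ⬝ᵥ x = 0) :
    ((tv x φ h : GL ι F) : Matrix ι ι F) = 1 + vecMulVec x φ := rfl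

lemma tv_mem_specialLinear (x φ : ι → F) (h : φ ⬝ᵥ x = 0) :
    tv x φ h ∈ Cfsg.Geo.specialLinear ι F := by
  unfold Cfsg.Geo.specialLinear
  rw [MonoidHom.mem_ker]
  apply Units.ext
  rw [Matrix.GeneralLinearGroup.val_det_apply, tv_coe, det_one_add_vecMulVec, h, add_zero]
  rfl

/-- Given a subspace `W`, a vector `x` and a vector `u` outside `W + ⟨x⟩`, there is an element of the
special linear group fixing `W` pointwise and sending `u` to `u + x`. -/
lemma exists_tv (W : Submodule F (ι → F)) (x u : ι → F) (hu : u ∉ W ⊔ Submodule.span F {x}) :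
    ∃ g : GL ι F, g ∈ Cfsg.Geo.specialLinear ι F ∧ (∀ w ∈ W, (g : Matrix ι ι F) *ᵥ w = w) ∧
      (g : Matrix ι ι F) *ᵥ u = u + x := by
  obtain ⟨f, hfu, hf⟩ := Submodule.exists_dual_map_eq_bot_of_notMem hu inferInstance
  let φ : ι → F := fun i => (f u)⁻¹ * f (fun j => if i = j then 1 else 0)
  have hφ : ∀ v, φ ⬝ᵥ v = (f u)⁻¹ * f v := by
    intro v
    rw [LinearMap.pi_apply_eq_sum_univ f v, Finset.mul_sum]
    simp only [dotProduct, φ, smul_eq_mul]
    apply Finset.sum_congr rfl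
    intro i _
    ring
  have hfW : ∀ w ∈ W ⊔ Submodule.span F {x}, f w = 0 := by
    intro w hw
    have h1 : f w ∈ (W ⊔ Submodule.span F {x}).map f := Submodule.mem_map_of_mem hw
    rw [hf] at h1
    simpa using h1
  have hx : φ ⬝ᵥ x = 0 := by
    rw [hφ, hfW x (Submodule.mem_sup_right (Submodule.mem_span_singleton_self x)), mul_zero]
  refine ⟨tv x φ hx, tv_mem_specialLinear x φ hx, ?_, ?_⟩
  · intro w hw
    rw [tv_coe, one_add_vecMulVec_mulVec, hφ, hfW w (Submodule.mem_sup_left hw), mul_zero, zero_smul,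
      add_zero]
  · rw [tv_coe, one_add_vecMulVec_mulVec, hφ, inv_mul_cancel₀ hfu, one_smul]

lemma mem_subspaceStabilizer_iff (g : GL ι F) (W : Submodule F (ι → F)) :
    g ∈ Cfsg.Geo.subspaceStabilizer W ↔ ∀ v, v ∈ W ↔ (g : Matrix ι ι F) *ᵥ v ∈ W := Iff.rfl

/-- An element fixing `W` pointwise stabilises `W`. -/
lemma mem_subspaceStabilizer_of_fix (g : GL ι F) (W : Submodule F (ι → F))
    (h : ∀ w ∈ W, (g : Matrix ι ι F) *ᵥ w = w) : g ∈ Cfsg.Geo.subspaceStabilizer W := by
  rw [mem_subspaceStabilizer_iff]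
  intro v
  constructor
  · intro hv
    rw [h v hv]
    exact hv
  · intro hv
    have h1 := h _ hv
    have h2 : (g : Matrix ι ι F) *ᵥ v = v := by
      have h3 := congrArg (fun z => ((g⁻¹ : GL ι F) : Matrix ι ι F) *ᵥ z) h1
      simp only [Matrix.mulVec_mulVec] at h3
      rw [← Units.val_mul, ← Units.val_mul, ← Units.val_mul, inv_mul_cancel_left, inv_mul_cancel,
        Units.val_one, Matrix.one_mulVec] at h3
      exact h3
    rw [← h2]
    exact hv

/-- For a proper non-zero subspace, some element of the special linear group does not stabilise it. -/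
lemma exists_not_mem_subspaceStabilizer (W : Submodule F (ι → F)) (h0 : W ≠ ⊥) (h1 : W ≠ ⊤) :
    ∃ g : GL ι F, g ∈ Cfsg.Geo.specialLinear ι F ∧ g ∉ Cfsg.Geo.subspaceStabilizer W := by
  obtain ⟨w, hw, hw0⟩ := (Submodule.ne_bot_iff W).mp h0
  obtain ⟨x, hx⟩ : ∃ x : ι → F, x ∉ W := by
    by_contra hcon
    apply h1
    rw [eq_top_iff]
    intro x _
    by_contra hx
    exact hcon ⟨x, hx⟩
  have hu : w ∉ (⊥ : Submodule F (ι → F)) ⊔ Submodule.span F {x} := by
    rw [bot_sup_eq, Submodule.mem_span_singleton]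
    rintro ⟨c, hc⟩
    have hc0 : c ≠ 0 := by
      rintro rfl
      rw [zero_smul] at hc
      exact hw0 hc.symm
    apply hx
    have : x = c⁻¹ • w := by rw [← hc, smul_smul, inv_mul_cancel₀ hc0, one_smul]
    rw [this]
    exact W.smul_mem _ hw
  obtain ⟨g, hg, -, hgu⟩ := exists_tv ⊥ x w hu
  refine ⟨g, hg, ?_⟩
  intro hmem
  rw [mem_subspaceStabilizer_iff] at hmem
  have h2 := (hmem w).mp hw
  rw [hgu] at h2
  exact hx ((W.add_mem_iff_right hw).mp h2)

end Cfsg.Agent.Lib_helper4_Transv
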