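import Mathlib
import Cfsg.Prelude.Def_ClassicalGeometry
import Cfsg.Prelude.Def_LieClassical
import Cfsg.Agent.Lib_helper4_Herm
import Cfsg.Agent.Lib_helper4_GU
import Cfsg.Agent.Lib_helper4_Transv

/-! The centre of the special unitary group `SU_n(q)`: scalars, of order `gcd(n, q + 1)`. -/

namespace Cfsg.Agent.Lib_helper4_SUCenter
open Matrix Cfsg.Agent.Lib_helper4_Herm Cfsg.Agent.Lib_helper4_GU

variable {F : Type*} [Field F] [Fintype F] {n q : ℕ}

omit [Fintype F] in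
lemma mem_SU_iff (S : SpecialLinearGroup (Fin n) F) : S ∈ Cfsg.SU n F q ↔
    ∀ u v, Cfsg.hermForm n F q ((S : Matrix (Fin n) (Fin n) F) *ᵥ u)
      ((S : Matrix (Fin n) (Fin n) F) *ᵥ v) = Cfsg.hermForm n F q u v := Iff.rfl

lemma two_le_q (hF : Fintype.card F = q ^ 2) : 2 ≤ q := by
  have h1 := q_pos hF
  have h2 : 1 < Fintype.card F := Fintype.one_lt_card
  rcases Nat.eq_or_lt_of_le h1 with h | h
  · rw [← h] at hF
    omega
  · exact h

/-- There is a nonzero `c` with `c ^ q + c = 0`. -/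
lemma exists_trace_zero (hF : Fintype.card F = q ^ 2) : ∃ c : F, c ≠ 0 ∧ c ^ q + c = 0 := by
  have hq := two_le_q hF
  obtain ⟨g, hg⟩ := IsCyclic.exists_ofOrder_eq_natCard (α := Fˣ)
  rw [Nat.card_units, Nat.card_eq_fintype_card (α := F), hF] at hg
  have hne : ((g : F)) ^ q ≠ (g : F) := by
    intro h
    have h1 : g ^ (q - 1) = 1 := by
      apply Units.ext
      rw [Units.val_pow_eq_pow_val, Units.val_one]
      have h2 : (g : F) ^ (q - 1) * (g : F) = 1 * (g : F) := by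
        rw [← pow_succ, one_mul, Nat.sub_add_cancel (by omega)]
        exact h
      exact mul_right_cancel₀ g.ne_zero h2
    have h3 := orderOf_dvd_of_pow_eq_one h1
    rw [hg] at h3
    have h4 := Nat.le_of_dvd (by omega) h3
    have h5 : q < q ^ 2 := by nlinarith
    omega
  refine ⟨(g : F) - (g : F) ^ q, sub_ne_zero.mpr (Ne.symm hne), ?_⟩
  rw [frob_sub hF, frob_frob hF]
  ring

/-- The unitary transvection along an isotropic vector, as an element of `SU`. -/
lemma exists_SU_transvection (hF : Fintype.card F = q ^ 2) (v : Fin n → F)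
    (hv : Cfsg.hermForm n F q v v = 0) (c : F) (hc : c ^ q + c = 0) :
    ∃ S : Cfsg.SU n F q,
      ((S : SpecialLinearGroup (Fin n) F) : Matrix (Fin n) (Fin n) F)
        = Cfsg.unitaryTransvection n q v c := by
  have hdet : (Cfsg.unitaryTransvection n q v c).det = 1 := by
    unfold Cfsg.unitaryTransvection
    rw [← Matrix.smul_vecMulVec, Cfsg.Agent.Lib_helper4_Transv.det_one_add_vecMulVec]
    have h1 : (fun j => v j ^ q) ⬝ᵥ (c • v) = c * Cfsg.hermForm n F q v v := by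
      unfold Cfsg.hermForm dotProduct
      rw [Finset.mul_sum]
      refine Finset.sum_congr rfl fun i _ => ?_
      rw [Pi.smul_apply, smul_eq_mul]
      ring
    rw [h1, hv, mul_zero, add_zero]
  refine ⟨⟨(⟨Cfsg.unitaryTransvection n q v c, hdet⟩ : SpecialLinearGroup (Fin n) F), ?_⟩, rfl⟩
  apply (mem_SU_iff _).mpr
  intro x y
  show Cfsg.hermForm n F q (Cfsg.unitaryTransvection n q v c *ᵥ x)
    (Cfsg.unitaryTransvection n q v c *ᵥ y) = _
  rw [herm_transvection hF, hc, hv]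
  ring

lemma exists_three_norm_neg_one (hF : Fintype.card F = q ^ 2) :
    ∃ l₁ l₂ l₃ : F, l₁ ^ (q + 1) = -1 ∧ l₂ ^ (q + 1) = -1 ∧ l₃ ^ (q + 1) = -1 ∧
      l₁ ≠ l₂ ∧ l₁ ≠ l₃ ∧ l₂ ≠ l₃ := by
  classical
  have hc := Cfsg.Agent.S0754.result hF (-1 : F) (neg_ne_zero.mpr one_ne_zero)
    (by rw [frob_neg hF, one_pow])
  have hq := two_le_q hF
  have h3 : 2 < Fintype.card {x : F // x ^ (q + 1) = -1} := by
    rw [← Nat.card_eq_fintype_card, hc]
    omega
  obtain ⟨x, y, z, hxy, hxz, hyz⟩ := Fintype.two_lt_card_iff.mp h3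
  exact ⟨x.1, y.1, z.1, x.2, y.2, z.2, fun h => hxy (Subtype.ext h), fun h => hxz (Subtype.ext h),
    fun h => hyz (Subtype.ext h)⟩

omit [Fintype F] in
lemma quad_zero (a b c l₁ l₂ l₃ : F) (h₁ : a * l₁ ^ 2 + b * l₁ + c = 0)
    (h₂ : a * l₂ ^ 2 + b * l₂ + c = 0) (h₃ : a * l₃ ^ 2 + b * l₃ + c = 0)
    (h12 : l₁ ≠ l₂) (h13 : l₁ ≠ l₃) (h23 : l₂ ≠ l₃) : a = 0 ∧ b = 0 ∧ c = 0 := by
  have e1 : (l₁ - l₂) * (a * (l₁ + l₂) + b) = 0 := by linear_combination h₁ - h₂
  have e2 : (l₁ - l₃) * (a * (l₁ + l₃) + b) = 0 := by linear_combination h₁ - h₃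
  have e1' : a * (l₁ + l₂) + b = 0 := (mul_eq_zero.mp e1).resolve_left (sub_ne_zero.mpr h12)
  have e2' : a * (l₁ + l₃) + b = 0 := (mul_eq_zero.mp e2).resolve_left (sub_ne_zero.mpr h13)
  have e3 : (l₂ - l₃) * a = 0 := by linear_combination e1' - e2'
  have ha : a = 0 := (mul_eq_zero.mp e3).resolve_left (sub_ne_zero.mpr h23)
  have hb : b = 0 := by
    rw [ha] at e1'
    linear_combination e1'
  have hc : c = 0 := by
    rw [ha, hb] at h₁
    linear_combination h₁
  exact ⟨ha, hb, hc⟩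

/-- Key: a matrix commuting with all unitary transvections in `SU` satisfies, for `i ≠ j` and
`l ^ (q + 1) = -1`, `Z (e_i + l e_j) = μ (e_i + l e_j)`. -/
lemma eigen_of_comm (hF : Fintype.card F = q ^ 2) (Z : Matrix (Fin n) (Fin n) F)
    (hZ : ∀ S : Cfsg.SU n F q, Z * ((S : SpecialLinearGroup (Fin n) F) : Matrix (Fin n) (Fin n) F)
      = ((S : SpecialLinearGroup (Fin n) F) : Matrix (Fin n) (Fin n) F) * Z)
    (i j : Fin n) (hij : i ≠ j) (l : F) (hl : l ^ (q + 1) = -1) :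
    ∃ μ : F, ∀ k : Fin n, Z k i + l * Z k j
      = μ * ((Pi.single i (1 : F) : Fin n → F) k + l * (Pi.single j (1 : F) : Fin n → F) k) := by
  have hq : q ≠ 0 := Nat.pos_iff_ne_zero.mp (q_pos hF)
  obtain ⟨c, hc0, hc⟩ := exists_trace_zero hF
  set v : Fin n → F := Pi.single i 1 + l • Pi.single j 1 with hvdef
  have hiv : Cfsg.hermForm n F q (Pi.single i 1) v = 1 := by
    rw [herm_single_left, hvdef, Pi.add_apply, Pi.smul_apply, Pi.single_eq_same,
      Pi.single_eq_of_ne hij, smul_zero, add_zero, one_pow]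
  have hjv : Cfsg.hermForm n F q (Pi.single j 1) v = l ^ q := by
    rw [herm_single_left, hvdef, Pi.add_apply, Pi.smul_apply, Pi.single_eq_same,
      Pi.single_eq_of_ne (Ne.symm hij), zero_add, smul_eq_mul, mul_one]
  have hv : Cfsg.hermForm n F q v v = 0 := by
    conv_lhs => rw [hvdef]
    rw [herm_add_left, herm_smul_left, hiv, hjv, ← pow_succ', hl]
    ring
  obtain ⟨S, hS⟩ := exists_SU_transvection hF v hv c hc
  have h1 := congrArg (fun M : Matrix (Fin n) (Fin n) F => M *ᵥ (Pi.single i (1 : F) : Fin n → F)) (hZ S)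
  simp only [hS, ← mulVec_mulVec] at h1
  rw [unitaryTransvection_mulVec, unitaryTransvection_mulVec, hiv, mul_one, Matrix.mulVec_add,
    Matrix.mulVec_smul] at h1
  have h2 : c • Z *ᵥ v = (c * Cfsg.hermForm n F q (Z *ᵥ Pi.single i 1) v) • v := add_left_cancel h1
  have h3 : Z *ᵥ v = Cfsg.hermForm n F q (Z *ᵥ Pi.single i 1) v • v := by
    rw [mul_smul] at h2
    exact smul_right_injective _ hc0 h2
  obtain ⟨μ, hμ⟩ : ∃ μ : F, Z *ᵥ v = μ • v := ⟨_, h3⟩
  refine ⟨μ, fun k => ?_⟩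
  have h4 := congrFun hμ k
  rw [hvdef, Matrix.mulVec_add, Matrix.mulVec_smul, Matrix.mulVec_single_one,
    Matrix.mulVec_single_one] at h4
  simp only [Pi.add_apply, Pi.smul_apply, smul_eq_mul] at h4
  exact h4

lemma quad_of_comm (hF : Fintype.card F = q ^ 2) (Z : Matrix (Fin n) (Fin n) F)
    (hZ : ∀ S : Cfsg.SU n F q, Z * ((S : SpecialLinearGroup (Fin n) F) : Matrix (Fin n) (Fin n) F)
      = ((S : SpecialLinearGroup (Fin n) F) : Matrix (Fin n) (Fin n) F) * Z)
    (i j : Fin n) (hij : i ≠ j) (l : F) (hl : l ^ (q + 1) = -1) :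
    Z i j * l ^ 2 + (Z i i - Z j j) * l + (-Z j i) = 0 := by
  obtain ⟨μ, h⟩ := eigen_of_comm hF Z hZ i j hij l hl
  have e₁ := h i
  have e₂ := h j
  rw [Pi.single_eq_same, Pi.single_eq_of_ne hij, mul_zero, add_zero, mul_one] at e₁
  rw [Pi.single_eq_same, Pi.single_eq_of_ne (Ne.symm hij), zero_add, mul_one, ← e₁] at e₂
  linear_combination -e₂

/-- A matrix commuting with `SU` is scalar. -/
lemma scalar_of_comm (hF : Fintype.card F = q ^ 2) (hn : 1 ≤ n) (Z : Matrix (Fin n) (Fin n) F)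
    (hZ : ∀ S : Cfsg.SU n F q, Z * ((S : SpecialLinearGroup (Fin n) F) : Matrix (Fin n) (Fin n) F)
      = ((S : SpecialLinearGroup (Fin n) F) : Matrix (Fin n) (Fin n) F) * Z) :
    Z = Z ⟨0, by omega⟩ ⟨0, by omega⟩ • (1 : Matrix (Fin n) (Fin n) F) := by
  obtain ⟨l₁, l₂, l₃, hl₁, hl₂, hl₃, h12, h13, h23⟩ := exists_three_norm_neg_one hF
  have hall : ∀ i j : Fin n, i ≠ j → Z i j = 0 ∧ Z i i - Z j j = 0 ∧ -Z j i = 0 := by
    intro i j hij
    exact quad_zero _ _ _ l₁ l₂ l₃ (quad_of_comm hF Z hZ i j hij l₁ hl₁)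
      (quad_of_comm hF Z hZ i j hij l₂ hl₂) (quad_of_comm hF Z hZ i j hij l₃ hl₃) h12 h13 h23
  ext k j
  rw [Matrix.smul_apply, Matrix.one_apply, smul_eq_mul]
  by_cases hkj : k = j
  · rw [if_pos hkj, mul_one, hkj]
    by_cases hj0 : j = (⟨0, by omega⟩ : Fin n)
    · rw [← hj0]
    · exact sub_eq_zero.mp (hall j _ hj0).2.1
  · rw [if_neg hkj, mul_zero]
    exact (hall k j hkj).1

lemma card_pow_eq_one {Q : ℕ} (hF : Fintype.card F = Q) (g : ℕ) (hg : g ∣ Q - 1) (hg0 : 0 < g) :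
    Nat.card {c : F // c ^ g = 1} = g := by
  have e : {c : F // c ^ g = 1} ≃ (powMonoidHom g : Fˣ →* Fˣ).ker :=
    { toFun := fun c => ⟨Units.mk0 c.1 (by
          intro h
          have h2 := c.2
          rw [h, zero_pow (Nat.pos_iff_ne_zero.mp hg0)] at h2
          exact zero_ne_one h2), by
        rw [MonoidHom.mem_ker, powMonoidHom_apply]
        apply Units.ext
        rw [Units.val_pow_eq_pow_val]
        exact c.2⟩
      invFun := fun u => ⟨((u : Fˣ) : F), by
        have h := u.2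
        rw [MonoidHom.mem_ker, powMonoidHom_apply] at h
        have h2 := congrArg Units.val h
        rw [Units.val_pow_eq_pow_val] at h2
        exact h2⟩
      left_inv := fun c => Subtype.ext rfl
      right_inv := fun u => Subtype.ext (Units.ext rfl) }
  rw [Nat.card_congr e, IsCyclic.card_powMonoidHom_ker, Nat.card_units,
    Nat.card_eq_fintype_card (α := F), hF]
  exact Nat.gcd_eq_right hg

/-- The centre of `SU_n(q)` for `n ≥ 1`. -/
theorem card_center_SU (hF : Fintype.card F = q ^ 2) (hn : 1 ≤ n) :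
    Nat.card (Subgroup.center (Cfsg.SU n F q)) = Nat.gcd n (q + 1) := by
  have hq := q_pos hF
  have hqne : q ≠ 0 := Nat.pos_iff_ne_zero.mp hq
  have hgpos : 0 < Nat.gcd n (q + 1) := Nat.gcd_pos_of_pos_right _ (Nat.succ_pos q)
  have hgdvd : Nat.gcd n (q + 1) ∣ q ^ 2 - 1 := by
    refine dvd_trans (Nat.gcd_dvd_right n (q + 1)) ⟨q - 1, ?_⟩
    obtain ⟨r, rfl⟩ : ∃ r, q = r + 1 := ⟨q - 1, by omega⟩
    simp only [Nat.add_sub_cancel]
    have h1 : (r + 1) ^ 2 = (r + 1 + 1) * r + 1 := by ring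
    rw [h1, Nat.add_sub_cancel]
  rw [← card_pow_eq_one hF (Nat.gcd n (q + 1)) hgdvd hgpos]
  apply Nat.card_congr
  have hscal : ∀ z : Subgroup.center (Cfsg.SU n F q),
      (((z : Cfsg.SU n F q) : SpecialLinearGroup (Fin n) F) : Matrix (Fin n) (Fin n) F)
        = (((z : Cfsg.SU n F q) : SpecialLinearGroup (Fin n) F) : Matrix (Fin n) (Fin n) F)
            ⟨0, by omega⟩ ⟨0, by omega⟩ • (1 : Matrix (Fin n) (Fin n) F) := by
    intro z
    apply scalar_of_comm hF hn
    intro S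
    have h1 := Subgroup.mem_center_iff.mp z.2 S
    have h2 := congrArg (fun s : Cfsg.SU n F q =>
      ((s : SpecialLinearGroup (Fin n) F) : Matrix (Fin n) (Fin n) F)) h1
    exact h2.symm
  refine
    { toFun := fun z => ⟨(((z : Cfsg.SU n F q) : SpecialLinearGroup (Fin n) F) :
          Matrix (Fin n) (Fin n) F) ⟨0, by omega⟩ ⟨0, by omega⟩, ?_⟩
      invFun := fun c => ⟨⟨(⟨c.1 • (1 : Matrix (Fin n) (Fin n) F), ?_⟩ :
        SpecialLinearGroup (Fin n) F), ?_⟩, ?_⟩
      left_inv := ?_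
      right_inv := ?_ }
  · -- c ^ gcd = 1
    rw [pow_gcd_eq_one]
    set c := (((z : Cfsg.SU n F q) : SpecialLinearGroup (Fin n) F) :
          Matrix (Fin n) (Fin n) F) ⟨0, by omega⟩ ⟨0, by omega⟩ with hcdef
    constructor
    · have hdet := (z : Cfsg.SU n F q).1.2
      rw [hscal z, Matrix.det_smul, Matrix.det_one, mul_one, Fintype.card_fin] at hdet
      exact hdet
    · have hpres := (mem_SU_iff _).mp (z : Cfsg.SU n F q).2 (Pi.single ⟨0, by omega⟩ 1)
        (Pi.single ⟨0, by omega⟩ 1)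
      rw [hscal z, Matrix.smul_mulVec, Matrix.one_mulVec, herm_smul_left, herm_smul_right,
        herm_single_right hqne, Pi.single_eq_same, mul_one, ← pow_succ'] at hpres
      exact hpres
  · -- det
    have hc := (pow_gcd_eq_one (a := c.1)).mp c.2
    rw [Matrix.det_smul, Matrix.det_one, mul_one, Fintype.card_fin]
    exact hc.1
  · -- preserving
    have hc := (pow_gcd_eq_one (a := c.1)).mp c.2
    apply (mem_SU_iff _).mpr
    intro u v
    show Cfsg.hermForm n F q ((c.1 • (1 : Matrix (Fin n) (Fin n) F)) *ᵥ u)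
      ((c.1 • (1 : Matrix (Fin n) (Fin n) F)) *ᵥ v) = _
    rw [Matrix.smul_mulVec, Matrix.one_mulVec, Matrix.smul_mulVec, Matrix.one_mulVec,
      herm_smul_left, herm_smul_right, ← mul_assoc, ← pow_succ', hc.2, one_mul]
  · -- central
    rw [Subgroup.mem_center_iff]
    intro S
    apply Subtype.ext
    apply Subtype.ext
    show ((S : SpecialLinearGroup (Fin n) F) : Matrix (Fin n) (Fin n) F)
        * (c.1 • (1 : Matrix (Fin n) (Fin n) F))
      = (c.1 • (1 : Matrix (Fin n) (Fin n) F))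
        * ((S : SpecialLinearGroup (Fin n) F) : Matrix (Fin n) (Fin n) F)
    rw [Matrix.mul_smul, Matrix.smul_mul, mul_one, one_mul]
  · intro z
    apply Subtype.ext
    apply Subtype.ext
    apply Subtype.ext
    exact (hscal z).symm
  · intro c
    apply Subtype.ext
    show (c.1 • (1 : Matrix (Fin n) (Fin n) F)) ⟨0, by omega⟩ ⟨0, by omega⟩ = c.1
    rw [Matrix.smul_apply, Matrix.one_apply_eq, smul_eq_mul, mul_one]

end Cfsg.Agent.Lib_helper4_SUCenter
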