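import Cfsg.Statements.S0989
import Mathlib

set_option autoImplicit false
open Cfsg

namespace Cfsg.Agent.S0989

/-- In the symmetric group on p or p + 1 letters, p a prime, the normalizer of a Sylow p-subgroup has order p * (p - 1). -/
theorem result {α : Type*} [Fintype α] [DecidableEq α] (p : ℕ) [Fact p.Prime] (hα : Fintype.card α = p ∨ Fintype.card α = p + 1) (P : Sylow p (Equiv.Perm α)) : Nat.card ↥(Subgroup.normalizer ((P : Subgroup (Equiv.Perm α)) : Set (Equiv.Perm α))) = p * (p - 1) := by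
  classical
  have hp := (Fact.out : p.Prime)
  have hp2 : 2 ≤ p := hp.two_le
  have hcardS : Nat.card (Equiv.Perm α) = (Fintype.card α).factorial := by
    rw [Nat.card_eq_fintype_card, Fintype.card_perm]
  have hdvd : p ∣ (Fintype.card α).factorial := by
    rw [hp.dvd_factorial]; rcases hα with h | h <;> omega
  have hndvd : ¬ p ^ 2 ∣ (Fintype.card α).factorial := by
    intro h
    rcases hα with h1 | h1
    · rw [h1] at h
      have e : p.factorial = p * (p - 1).factorial := by
        obtain ⟨m, rfl⟩ : ∃ m, p = m + 1 := ⟨p - 1, by omega⟩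
        rw [Nat.factorial_succ]; simp
      rw [e, sq] at h
      have h2 := Nat.dvd_of_mul_dvd_mul_left hp.pos h
      rw [hp.dvd_factorial] at h2
      omega
    · rw [h1] at h
      have e : (p + 1).factorial = p * ((p + 1) * (p - 1).factorial) := by
        obtain ⟨m, rfl⟩ : ∃ m, p = m + 1 := ⟨p - 1, by omega⟩
        rw [Nat.factorial_succ, Nat.factorial_succ]; simp; ring
      rw [e, sq] at h
      have h2 := Nat.dvd_of_mul_dvd_mul_left hp.pos h
      rcases (hp.dvd_mul).mp h2 with h3 | h3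
      · have h4 := (Nat.dvd_add_right (dvd_refl p)).mp h3
        have := Nat.le_of_dvd one_pos h4
        omega
      · rw [hp.dvd_factorial] at h3; omega
  have hcardP : Nat.card (P : Subgroup (Equiv.Perm α)) = p := by
    rw [Sylow.card_eq_multiplicity, hcardS]
    have h1 : 1 ≤ (Fintype.card α).factorial.factorization p :=
      hp.factorization_pos_of_dvd (Nat.factorial_ne_zero _) hdvd
    have h2 : (Fintype.card α).factorial.factorization p < 2 := by
      by_contra hge
      push Not at hge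
      exact hndvd ((pow_dvd_pow p hge).trans (Nat.ordProj_dvd _ _))
    have : (Fintype.card α).factorial.factorization p = 1 := by omega
    rw [this, pow_one]
  obtain ⟨σ0, hσ0⟩ : ∃ x : ↥(P : Subgroup (Equiv.Perm α)), x ≠ 1 := by
    haveI : Nontrivial ↥(P : Subgroup (Equiv.Perm α)) := by
      rw [← Finite.one_lt_card_iff_nontrivial, hcardP]; omega
    exact exists_ne 1
  obtain ⟨σ, hσP⟩ := σ0
  have hσ1 : σ ≠ 1 := fun h => hσ0 (Subtype.ext h)
  have hord : ∀ τ ∈ (P : Subgroup (Equiv.Perm α)), τ ≠ 1 → orderOf τ = p := by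
    intro τ hτ hτ1
    have h1 : orderOf (⟨τ, hτ⟩ : ↥(P : Subgroup (Equiv.Perm α))) ∣ Nat.card ↥(P : Subgroup (Equiv.Perm α)) :=
      orderOf_dvd_natCard _
    rw [hcardP] at h1
    rw [Subgroup.orderOf_mk] at h1
    rcases (Nat.dvd_prime hp).mp h1 with h | h
    · exact absurd (orderOf_eq_one_iff.mp h) hτ1
    · exact h
  have hgen : ∀ τ ∈ (P : Subgroup (Equiv.Perm α)), τ ≠ 1 →
      Subgroup.zpowers τ = (P : Subgroup (Equiv.Perm α)) := by
    intro τ hτ hτ1
    apply Subgroup.eq_of_le_of_card_ge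
    · rw [Subgroup.zpowers_le]; exact hτ
    · rw [Nat.card_zpowers, hord τ hτ hτ1, hcardP]
  have hct : ∀ τ ∈ (P : Subgroup (Equiv.Perm α)), τ ≠ 1 → τ.cycleType = {p} := by
    intro τ hτ hτ1
    have ho := hord τ hτ hτ1
    obtain ⟨m, hm⟩ := Equiv.Perm.cycleType_prime_order (σ := τ) (by rw [ho]; exact hp)
    rw [ho] at hm
    have hs := Equiv.Perm.sum_cycleType_le τ
    rw [hm, Multiset.sum_replicate, smul_eq_mul] at hs
    have hm0 : m = 0 := by
      by_contra hm0
      have : 2 * p ≤ (m + 1) * p := Nat.mul_le_mul_right p (by omega)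
      rcases hα with h | h <;> omega
    rw [hm, hm0]; rfl
  have hcent : Subgroup.centralizer {σ} = (P : Subgroup (Equiv.Perm α)) := by
    rw [← hgen σ hσP hσ1]
    symm
    apply Subgroup.eq_of_le_of_card_ge
    · rw [Subgroup.zpowers_le]
      exact Subgroup.mem_centralizer_singleton_iff.mpr rfl
    · rw [Equiv.Perm.nat_card_centralizer, hct σ hσP hσ1, Nat.card_zpowers, hord σ hσP hσ1]
      rcases hα with h | h <;> simp [h]
  have hPN : (P : Subgroup (Equiv.Perm α)) ≤ Subgroup.normalizer ((P : Subgroup (Equiv.Perm α)) : Set (Equiv.Perm α)) := Subgroup.le_normalizer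
  let φ : ↥(Subgroup.normalizer ((P : Subgroup (Equiv.Perm α)) : Set (Equiv.Perm α))) → {τ : Equiv.Perm α // τ ∈ (P : Subgroup (Equiv.Perm α)) ∧ τ ≠ 1} := fun g =>
    ⟨g.1 * σ * g.1⁻¹, (Subgroup.mem_normalizer_iff.mp g.2 σ).mp hσP, fun h => hσ1 (conj_eq_one_iff.mp h)⟩
  have hfib : ∀ τ, Nat.card {g // φ g = τ} = p := by
    intro τ
    have hc : IsConj σ τ.1 := by
      rw [Equiv.Perm.isConj_iff_cycleType_eq, hct σ hσP hσ1, hct τ.1 τ.2.1 τ.2.2]
    obtain ⟨c, hc⟩ := isConj_iff.mp hc
    have hcN : c ∈ Subgroup.normalizer ((P : Subgroup (Equiv.Perm α)) : Set (Equiv.Perm α)) := by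
      rw [Subgroup.mem_normalizer_iff]
      intro x
      constructor
      · intro hx
        rw [← hgen σ hσP hσ1] at hx
        obtain ⟨k, rfl⟩ := Subgroup.mem_zpowers_iff.mp hx
        have : c * σ ^ k * c⁻¹ = τ.1 ^ k := by rw [← hc, conj_zpow]
        rw [this]; exact Subgroup.zpow_mem _ τ.2.1 k
      · intro hx
        rw [← hgen τ.1 τ.2.1 τ.2.2] at hx
        obtain ⟨k, hk⟩ := Subgroup.mem_zpowers_iff.mp hx
        have : x = σ ^ k := by
          have h2 : c * σ ^ k * c⁻¹ = τ.1 ^ k := by rw [← hc, conj_zpow]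
          rw [← h2] at hk
          exact (mul_left_cancel (mul_right_cancel hk)).symm
        rw [this]; exact Subgroup.zpow_mem _ hσP k
    have hmemP : ∀ x : Equiv.Perm α, x ∈ (P : Subgroup (Equiv.Perm α)) ↔ σ * x = x * σ := by
      intro x
      rw [← hcent, Subgroup.mem_centralizer_singleton_iff]
      exact eq_comm
    have hto : ∀ g : {g // φ g = τ}, c⁻¹ * g.1.1 ∈ (P : Subgroup (Equiv.Perm α)) := by
      intro g
      have h1 : g.1.1 * σ * g.1.1⁻¹ = τ.1 := congrArg Subtype.val g.2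
      rw [hmemP]
      have h2 : g.1.1 * σ = c * σ * c⁻¹ * g.1.1 := by rw [hc, ← h1]; group
      rw [mul_assoc, h2]; group
    have hinv : ∀ z : ↥(P : Subgroup (Equiv.Perm α)), φ ⟨c * z.1, Subgroup.mul_mem _ hcN (hPN z.2)⟩ = τ := by
      intro z
      have hz := (hmemP z.1).mp z.2
      apply Subtype.ext
      show c * z.1 * σ * (c * z.1)⁻¹ = τ.1
      rw [← hc, mul_assoc c z.1 σ, ← hz]; group
    refine (Nat.card_congr (β := ↥(P : Subgroup (Equiv.Perm α)))
      { toFun := fun g => ⟨c⁻¹ * g.1.1, hto g⟩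
        invFun := fun z => ⟨⟨c * z.1, Subgroup.mul_mem _ hcN (hPN z.2)⟩, hinv z⟩
        left_inv := ?_
        right_inv := ?_ }).trans hcardP
    · intro g
      apply Subtype.ext; apply Subtype.ext
      show c * (c⁻¹ * g.1.1) = g.1.1
      group
    · intro z
      apply Subtype.ext
      show c⁻¹ * (c * z.1) = z.1
      group
  haveI : Fintype {τ : Equiv.Perm α // τ ∈ (P : Subgroup (Equiv.Perm α)) ∧ τ ≠ 1} := Fintype.ofFinite _
  have hsum := Nat.card_congr (Equiv.sigmaFiberEquiv φ)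
  rw [Nat.card_sigma] at hsum
  simp only [hfib, Finset.sum_const, Finset.card_univ, smul_eq_mul] at hsum
  have hcnt : Fintype.card {τ : Equiv.Perm α // τ ∈ (P : Subgroup (Equiv.Perm α)) ∧ τ ≠ 1} = p - 1 := by
    rw [← Nat.card_eq_fintype_card]
    have h1 : Nat.card {τ : Equiv.Perm α // τ ∈ (P : Subgroup (Equiv.Perm α)) ∧ τ ≠ 1}
        = (((P : Subgroup (Equiv.Perm α)) : Set (Equiv.Perm α)) \ {1}).ncard := by
      rw [← Nat.card_coe_set_eq]; rfl
    rw [h1, Set.ncard_diff_singleton_of_mem (one_mem _), ← Nat.card_coe_set_eq]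
    show Nat.card ↥(P : Subgroup (Equiv.Perm α)) - 1 = p - 1
    rw [hcardP]
  rw [← hsum, hcnt, mul_comm]

end Cfsg.Agent.S0989
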