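import Cfsg.Statements.S0990
import Mathlib

set_option autoImplicit false
open Cfsg

namespace Cfsg.Agent.S0990

/-- Let p be an odd prime and P a Sylow p-subgroup of the symmetric group on a finite set with at least two elements. Then P is contained in the alternating group, and twice the order of the normalizer of P inside the alternating group equals the order of the normalizer of P in the symmetric group. -/
theorem result {α : Type*} [Fintype α] [DecidableEq α] (hα : 2 ≤ Fintype.card α) (p : ℕ) [Fact p.Prime] (hp : p ≠ 2) (P : Sylow p (Equiv.Perm α)) : (P : Subgroup (Equiv.Perm α)) ≤ alternatingGroup α ∧ 2 * Nat.card ↥(Subgroup.normalizer ((((P : Subgroup (Equiv.Perm α)).subgroupOf (alternatingGroup α) : Subgroup ↥(alternatingGroup α)) : Set ↥(alternatingGroup α)))) = Nat.card ↥(Subgroup.normalizer ((P : Subgroup (Equiv.Perm α)) : Set (Equiv.Perm α))) := by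
  classical
  have hpp := (Fact.out : p.Prime)
  have hodd : Odd p := hpp.odd_of_ne_two hp
  haveI : Nontrivial α := Fintype.one_lt_card_iff_nontrivial.mp (by omega)
  have hPA : (P : Subgroup (Equiv.Perm α)) ≤ alternatingGroup α := by
    intro g hg
    rw [Equiv.Perm.mem_alternatingGroup]
    obtain ⟨n, hn⟩ := P.2 ⟨g, hg⟩
    have hn' : g ^ p ^ n = 1 := congrArg Subtype.val hn
    have hs : (Equiv.Perm.sign g) ^ p ^ n = 1 := by rw [← map_pow, hn', map_one]
    rcases Int.units_eq_one_or (Equiv.Perm.sign g) with h1 | h1
    · exact h1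
    · rw [h1, Odd.neg_one_pow (hodd.pow)] at hs
      exact absurd hs (by decide)
  refine ⟨hPA, ?_⟩
  have hfr : Subgroup.normalizer ((P : Subgroup (Equiv.Perm α)) : Set (Equiv.Perm α)) ⊔ alternatingGroup α = ⊤ :=
    Sylow.normalizer_sup_eq_top' P hPA
  rw [← Subgroup.subgroupOf_normalizer_eq hPA]
  have e1 : Nat.card ↥((Subgroup.normalizer ((P : Subgroup (Equiv.Perm α)) : Set (Equiv.Perm α))).subgroupOf (alternatingGroup α))
      = Nat.card ↥((alternatingGroup α).subgroupOf (Subgroup.normalizer ((P : Subgroup (Equiv.Perm α)) : Set (Equiv.Perm α)))) := by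
    rw [← Subgroup.inf_subgroupOf_right, ← Subgroup.inf_subgroupOf_left (alternatingGroup α)]
    rw [Nat.card_congr (Subgroup.subgroupOfEquivOfLe inf_le_right).toEquiv,
      Nat.card_congr (Subgroup.subgroupOfEquivOfLe inf_le_left).toEquiv, inf_comm]
  rw [e1, ← Subgroup.card_mul_index ((alternatingGroup α).subgroupOf (Subgroup.normalizer ((P : Subgroup (Equiv.Perm α)) : Set (Equiv.Perm α)))), mul_comm]
  congr 1
  show 2 = (alternatingGroup α).relIndex _
  have hdvd : (alternatingGroup α).relIndex (Subgroup.normalizer ((P : Subgroup (Equiv.Perm α)) : Set (Equiv.Perm α))) ∣ 2 := by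
    rw [← alternatingGroup.index_eq_two (α := α)]
    exact Subgroup.relIndex_dvd_index_of_normal _ _
  have hne : (alternatingGroup α).relIndex (Subgroup.normalizer ((P : Subgroup (Equiv.Perm α)) : Set (Equiv.Perm α))) ≠ 1 := by
    intro h1
    rw [Subgroup.relIndex_eq_one] at h1
    rw [sup_eq_right.mpr h1] at hfr
    have := alternatingGroup.index_eq_two (α := α)
    rw [hfr, Subgroup.index_top] at this
    omega
  rcases (Nat.dvd_prime Nat.prime_two).mp hdvd with h | h
  · exact absurd h hne
  · exact h.symm

end Cfsg.Agent.S0990
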