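import Mathlib
import Cfsg.Agent.S0989
import Cfsg.Agent.S0990

set_option autoImplicit false

/-! Tools for excluding simple groups of small order: Sylow counting, embedding into symmetric
groups, normalisers of subgroups of prime order in symmetric groups of degree `p`, `p + 1`. -/

namespace Cfsg.Agent.Lib_helper4_SmallSimple

variable {G : Type*} [Group G] [Finite G]

lemma card_sylow_of_card {p k m : ℕ} [Fact p.Prime] (hcard : Nat.card G = p ^ k * m) (hm : ¬ p ∣ m)
    (P : Sylow p G) : Nat.card (P : Subgroup G) = p ^ k := by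
  have hp := (Fact.out : p.Prime)
  rw [Sylow.card_eq_multiplicity, hcard]
  congr 1
  have hm0 : m ≠ 0 := by rintro rfl; exact hm (dvd_zero p)
  rw [Nat.factorization_mul (pow_ne_zero _ hp.ne_zero) hm0]
  simp [hp.factorization_pow, Nat.factorization_eq_zero_of_not_dvd hm]

lemma index_sylow_of_card {p k m : ℕ} [Fact p.Prime] (hcard : Nat.card G = p ^ k * m) (hm : ¬ p ∣ m)
    (P : Sylow p G) : (P : Subgroup G).index = m := by
  have h1 := Subgroup.card_mul_index (P : Subgroup G)
  rw [card_sylow_of_card hcard hm, hcard] at h1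
  exact Nat.eq_of_mul_eq_mul_left (pow_pos (Fact.out : p.Prime).pos k) h1

lemma card_sylow_dvd {p k m : ℕ} [Fact p.Prime] (hcard : Nat.card G = p ^ k * m) (hm : ¬ p ∣ m) :
    Nat.card (Sylow p G) ∣ m := by
  obtain ⟨P⟩ : Nonempty (Sylow p G) := inferInstance
  rw [← index_sylow_of_card hcard hm P]
  exact Sylow.card_dvd_index P

lemma card_normalizer_sylow {p : ℕ} [Fact p.Prime] (P : Sylow p G) :
    Nat.card (Subgroup.normalizer ((P : Subgroup G) : Set G)) * Nat.card (Sylow p G) = Nat.card G := by
  rw [Sylow.card_eq_index_normalizer P]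
  exact Subgroup.card_mul_index _

/-- In a simple group a proper nontrivial Sylow subgroup is not unique. -/
lemma card_sylow_ne_one [IsSimpleGroup G] {p k m : ℕ} [Fact p.Prime]
    (hcard : Nat.card G = p ^ k * m) (hm : ¬ p ∣ m) (hk : k ≠ 0) (hm1 : m ≠ 1) :
    Nat.card (Sylow p G) ≠ 1 := by
  intro h1
  obtain ⟨P⟩ : Nonempty (Sylow p G) := inferInstance
  haveI : Subsingleton (Sylow p G) := (Nat.card_eq_one_iff_unique.mp h1).1
  have hn : (P : Subgroup G).Normal := Sylow.normal_of_subsingleton P
  have hc := card_sylow_of_card hcard hm P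
  have hp := (Fact.out : p.Prime)
  rcases hn.eq_bot_or_eq_top with h | h
  · rw [h, Subgroup.card_bot] at hc
    have : 1 < p ^ k := Nat.one_lt_pow hk hp.one_lt
    omega
  · rw [h, Subgroup.card_top, hcard] at hc
    have hpos : 0 < p ^ k := pow_pos hp.pos k
    have : m = 1 := by
      have : p ^ k * m = p ^ k * 1 := by rw [hc, mul_one]
      exact Nat.eq_of_mul_eq_mul_left hpos this
    exact hm1 this

/-- A simple group embeds into the symmetric group on the cosets of a proper subgroup. -/
lemma toPermHom_injective [IsSimpleGroup G] (H : Subgroup G) (hH : H ≠ ⊤) :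
    Function.Injective (MulAction.toPermHom G (G ⧸ H)) := by
  rw [← MonoidHom.ker_eq_bot_iff, ← Subgroup.normalCore_eq_ker]
  rcases (Subgroup.normalCore_normal H).eq_bot_or_eq_top with h | h
  · exact h
  · exact absurd (top_le_iff.mp (h ▸ Subgroup.normalCore_le H)) hH

lemma card_dvd_factorial_index [IsSimpleGroup G] (H : Subgroup G) (hH : H ≠ ⊤) :
    Nat.card G ∣ (H.index).factorial := by
  classical
  have hinj := toPermHom_injective H hH
  haveI : Fintype (G ⧸ H) := Fintype.ofFinite _
  have h1 : Nat.card (MulAction.toPermHom G (G ⧸ H)).range = Nat.card G :=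
    (Nat.card_congr (MonoidHom.ofInjective hinj).toEquiv).symm
  have h2 := Subgroup.card_subgroup_dvd_card (MulAction.toPermHom G (G ⧸ H)).range
  rw [h1, Nat.card_eq_fintype_card (α := Equiv.Perm (G ⧸ H)), Fintype.card_perm,
    ← Nat.card_eq_fintype_card] at h2
  exact h2

/-- A subgroup of order `p` of a group embedded in the symmetric group of degree `p` or `p + 1`
maps onto a Sylow subgroup. -/
lemma exists_sylow_eq_map {α : Type*} [Fintype α] [DecidableEq α] {p : ℕ} [Fact p.Prime]
    (hα : Fintype.card α = p ∨ Fintype.card α = p + 1) (f : G →* Equiv.Perm α)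
    (hf : Function.Injective f) (P : Subgroup G) (hP : Nat.card P = p) :
    ∃ Q : Sylow p (Equiv.Perm α), P.map f = (Q : Subgroup (Equiv.Perm α)) := by
  have hp := (Fact.out : p.Prime)
  have hcm : Nat.card (P.map f) = p := by
    rw [← hP]; exact Nat.card_congr (P.equivMapOfInjective f hf).symm.toEquiv
  have hpg : IsPGroup p (P.map f) := IsPGroup.of_card (n := 1) (by rw [hcm, pow_one])
  obtain ⟨Q, hQ⟩ := hpg.exists_le_sylow
  have hNQ := Cfsg.Agent.S0989.result p hα Q
  have hQc : Nat.card (Q : Subgroup (Equiv.Perm α)) = p := by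
    obtain ⟨n, hn⟩ := IsPGroup.iff_card.mp Q.2
    have h1 : Nat.card (Q : Subgroup (Equiv.Perm α)) ∣ p * (p - 1) := by
      rw [← hNQ]
      exact Subgroup.card_dvd_of_le Subgroup.le_normalizer
    have h2 : p ∣ Nat.card (Q : Subgroup (Equiv.Perm α)) := by
      have := Subgroup.card_dvd_of_le hQ
      rwa [hcm] at this
    rw [hn] at h1 h2 ⊢
    have hn1 : n ≠ 0 := by
      rintro rfl
      rw [pow_zero] at h2
      exact hp.one_lt.ne' (Nat.dvd_one.mp h2)
    have hn2 : n < 2 := by
      by_contra hge
      push Not at hge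
      have h3 : p ^ 2 ∣ p * (p - 1) := (pow_dvd_pow p hge).trans h1
      rw [sq] at h3
      have h4 := Nat.dvd_of_mul_dvd_mul_left hp.pos h3
      have h5 := hp.two_le
      have := Nat.le_of_dvd (by omega) h4
      omega
    have : n = 1 := by omega
    rw [this, pow_one]
  exact ⟨Q, Subgroup.eq_of_le_of_card_ge hQ (by rw [hQc, hcm])⟩

/-- If `G` embeds in the symmetric group of degree `p` or `p + 1`, the normaliser of a subgroup
of order `p` has order dividing `p (p - 1)`. -/
lemma card_normalizer_dvd {α : Type*} [Fintype α] [DecidableEq α] {p : ℕ} [Fact p.Prime]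
    (hα : Fintype.card α = p ∨ Fintype.card α = p + 1) (f : G →* Equiv.Perm α)
    (hf : Function.Injective f) (P : Subgroup G) (hP : Nat.card P = p) :
    Nat.card (Subgroup.normalizer (P : Set G)) ∣ p * (p - 1) := by
  obtain ⟨Q, hQeq⟩ := exists_sylow_eq_map hα f hf P hP
  have hNQ := Cfsg.Agent.S0989.result p hα Q
  have h3 : (Subgroup.normalizer (P : Set G)).map f
      ≤ Subgroup.normalizer ((Q : Subgroup (Equiv.Perm α)) : Set (Equiv.Perm α)) := by
    rw [← hQeq]; exact Subgroup.le_normalizer_map f
  have h4 : Nat.card ((Subgroup.normalizer (P : Set G)).map f)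
      = Nat.card (Subgroup.normalizer (P : Set G)) :=
    Nat.card_congr ((Subgroup.normalizer (P : Set G)).equivMapOfInjective f hf).symm.toEquiv
  rw [← h4, ← hNQ]
  exact Subgroup.card_dvd_of_le h3

/-- The same inside the alternating group. -/
lemma two_mul_card_normalizer_dvd {α : Type*} [Fintype α] [DecidableEq α] {p : ℕ} [Fact p.Prime]
    (hp2 : p ≠ 2) (hα : Fintype.card α = p ∨ Fintype.card α = p + 1) (f : G →* Equiv.Perm α)
    (hf : Function.Injective f) (hsign : ∀ g, Equiv.Perm.sign (f g) = 1)
    (P : Subgroup G) (hP : Nat.card P = p) :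
    2 * Nat.card (Subgroup.normalizer (P : Set G)) ∣ p * (p - 1) := by
  have hp := (Fact.out : p.Prime)
  obtain ⟨Q, hQeq⟩ := exists_sylow_eq_map hα f hf P hP
  have hNQ := Cfsg.Agent.S0989.result p hα Q
  have hα2 : 2 ≤ Fintype.card α := by have := hp.two_le; rcases hα with h | h <;> omega
  obtain ⟨hQA, hA⟩ := Cfsg.Agent.S0990.result hα2 p hp2 Q
  rw [← Subgroup.subgroupOf_normalizer_eq hQA, ← Subgroup.inf_subgroupOf_right,
    Nat.card_congr (Subgroup.subgroupOfEquivOfLe inf_le_right).toEquiv, hNQ] at hA
  have h3 : (Subgroup.normalizer (P : Set G)).map f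
      ≤ Subgroup.normalizer ((Q : Subgroup (Equiv.Perm α)) : Set (Equiv.Perm α)) ⊓ alternatingGroup α := by
    refine le_inf ?_ ?_
    · rw [← hQeq]; exact Subgroup.le_normalizer_map f
    · rintro _ ⟨g, -, rfl⟩
      exact Equiv.Perm.mem_alternatingGroup.mpr (hsign g)
  have h4 : Nat.card ((Subgroup.normalizer (P : Set G)).map f)
      = Nat.card (Subgroup.normalizer (P : Set G)) :=
    Nat.card_congr ((Subgroup.normalizer (P : Set G)).equivMapOfInjective f hf).symm.toEquiv
  rw [← hA, ← h4]
  exact Nat.mul_dvd_mul_left 2 (Subgroup.card_dvd_of_le h3)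

/-- Homomorphisms from a simple group with more than two elements to a symmetric group land in
the alternating group. -/
lemma sign_eq_one [IsSimpleGroup G] (hG : 2 < Nat.card G) {α : Type*} [Fintype α] [DecidableEq α]
    (f : G →* Equiv.Perm α) (g : G) : Equiv.Perm.sign (f g) = 1 := by
  rcases ((Equiv.Perm.sign.comp f).normal_ker).eq_bot_or_eq_top with h | h
  · exfalso
    have hinj : Function.Injective (Equiv.Perm.sign.comp f) := (MonoidHom.ker_eq_bot_iff _).mp h
    have := Nat.card_le_card_of_injective _ hinj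
    rw [Nat.card_eq_fintype_card (α := ℤˣ), Fintype.card_units_int] at this
    omega
  · have : g ∈ (Equiv.Perm.sign.comp f).ker := by rw [h]; trivial
    exact MonoidHom.mem_ker.mp this

end Cfsg.Agent.Lib_helper4_SmallSimple
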