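import Mathlib
import Cfsg.Agent.Lib_helper4_HermBasis

set_option autoImplicit false

/-! Witt's extension lemma for nondegenerate Hermitian forms over finite fields. -/

namespace Cfsg.Agent.Lib_helper4_WittHerm
open Module Cfsg.Agent.Lib_helper4_HermBasis

variable {F V : Type*} [Field F] [Finite F] [AddCommGroup V] [Module F V] [FiniteDimensional F V]
  {σ : F →+* F}

/-- `Φ` restricted to `X` is an injective isometry. -/
def Good (B : V →ₛₗ[σ] V →ₗ[F] F) (X : Submodule F V) (Φ : V →ₗ[F] V) : Prop :=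
  (∀ x ∈ X, ∀ x' ∈ X, B (Φ x) (Φ x') = B x x') ∧ (∀ x ∈ X, Φ x = 0 → x = 0)

omit [Finite F] [FiniteDimensional F V] in
lemma self_fixed (B : V →ₛₗ[σ] V →ₗ[F] F) (hS : B.IsSymm) (x : V) : σ (B x x) = B x x :=
  hS.eq x x

/-- Riesz representation in the semilinear slot. -/
lemma riesz (B : V →ₛₗ[σ] V →ₗ[F] F) (hB : B.Nondegenerate) (μ : V →ₗ[F] F) :
    ∃ w₀ : V, ∀ y, B w₀ y = μ y := by
  have hinj : Function.Injective (fun w : V => (B w : V →ₗ[F] F)) := by
    intro a b hab
    have h1 : ∀ y, B (a - b) y = 0 := by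
      intro y
      rw [map_sub, LinearMap.sub_apply]
      have := congrArg (fun f : V →ₗ[F] F => f y) hab
      exact sub_eq_zero.2 this
    exact sub_eq_zero.1 (hB.1 _ h1)
  haveI : Finite V := Module.finite_of_finite F
  have e : V ≃ (V →ₗ[F] F) := (Module.Basis.toDualEquiv (Module.finBasis F V)).toEquiv
  have hsurj := (Finite.injective_iff_surjective_of_equiv e).1 hinj
  obtain ⟨w₀, hw₀⟩ := hsurj μ
  exact ⟨w₀, fun y => congrArg (fun f : V →ₗ[F] F => f y) hw₀⟩

omit [FiniteDimensional F V] in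
/-- A unit vector orthogonal to a proper subspace spanned by an orthonormal family. -/
lemma exists_perp_unit (B : V →ₛₗ[σ] V →ₗ[F] F) (hS : B.IsSymm) (hB : B.Nondegenerate)
    (hσ : σ ≠ RingHom.id F) (hσ2 : ∀ a : F, σ (σ a) = a)
    {ι : Type*} [Fintype ι] [DecidableEq ι] (e : ι → V)
    (he : ∀ i j, B (e i) (e j) = if i = j then 1 else 0)
    (hU : Submodule.span F (Set.range e) ≠ ⊤) :
    ∃ v, B v v = 1 ∧ ∀ i, B (e i) v = 0 := by
  let P : V → V := fun u => u - ∑ i, B (e i) u • e i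
  have hP : ∀ u j, B (e j) (P u) = 0 := by
    intro u j
    simp only [P, map_sub, map_sum, map_smul, smul_eq_mul, he]
    simp
  let U' : Submodule F V := ⨅ i, LinearMap.ker (B (e i))
  have hU'mem : ∀ y, y ∈ U' ↔ ∀ i, B (e i) y = 0 := by
    intro y; simp [U', Submodule.mem_iInf]
  obtain ⟨u, hu⟩ : ∃ u, u ∉ Submodule.span F (Set.range e) := by
    by_contra h
    push Not at h
    exact hU (Submodule.eq_top_iff'.2 h)
  have hy₀ : P u ≠ 0 := by
    intro h0
    apply hu
    have : u = ∑ i, B (e i) u • e i := by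
      have := h0
      simp only [P] at this
      exact sub_eq_zero.1 this
    rw [this]
    exact Submodule.sum_mem _ (fun i _ => Submodule.smul_mem _ _
      (Submodule.subset_span ⟨i, rfl⟩))
  obtain ⟨z, hz⟩ : ∃ z, B (P u) z ≠ 0 := by
    by_contra h
    push Not at h
    exact hy₀ (hB.1 _ h)
  have hz' : B (P u) (P z) ≠ 0 := by
    have : B (P u) (P z) = B (P u) z := by
      have h1 : ∀ i, B (P u) (e i) = 0 := fun i => (hS.eq_iff).1 (hP u i)
      generalize P u = y₀ at h1 ⊢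
      show B y₀ (z - ∑ i, B (e i) z • e i) = B y₀ z
      rw [map_sub, map_sum]
      simp [h1]
    rw [this]; exact hz
  obtain ⟨v, hvU, hv⟩ := exists_unit B hS hσ hσ2 U' (P u) (P z)
    ((hU'mem _).2 (hP u)) ((hU'mem _).2 (hP z)) hz'
  exact ⟨v, hv, (hU'mem v).1 hvU⟩

theorem step (B : V →ₛₗ[σ] V →ₗ[F] F) (hS : B.IsSymm) (hB : B.Nondegenerate)
    (hσ : σ ≠ RingHom.id F) (hσ2 : ∀ a : F, σ (σ a) = a)
    (X : Submodule F V) (Φ : V →ₗ[F] V) (hG : Good B X Φ) (hX : X ≠ ⊤) :
    ∃ (v : V) (Φ' : V →ₗ[F] V), v ∉ X ∧ (∀ x ∈ X, Φ' x = Φ x) ∧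
      Good B (X ⊔ Submodule.span F {v}) Φ' := by
  classical
  have hiso := hG.1
  have hinj := hG.2
  -- find v and w
  obtain ⟨v, w, hv, hw1, hw2, hw3⟩ : ∃ v w : V, v ∉ X ∧ (∀ x ∈ X, B (Φ x) w = B x v) ∧
      B w w = B v v ∧ w ∉ X.map Φ := by
    by_cases hrad : ∃ r ∈ X, r ≠ 0 ∧ ∀ x ∈ X, B x r = 0
    · obtain ⟨r, hrX, hr0, hr⟩ := hrad
      obtain ⟨v, hvr⟩ : ∃ v, B v r ≠ 0 := by
        by_contra h
        push Not at h
        exact hr0 (hB.2 _ h)
      have hvX : v ∉ X := fun h => hvr (hr v h)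
      have hker : LinearMap.ker (Φ.domRestrict X) = ⊥ := by
        rw [LinearMap.ker_eq_bot']
        intro x hx
        exact Subtype.ext (hinj x x.2 hx)
      obtain ⟨g, hg⟩ := LinearMap.exists_leftInverse_of_injective (Φ.domRestrict X) hker
      let μ : V →ₗ[F] F := (B v) ∘ₗ X.subtype ∘ₗ g
      obtain ⟨w₀, hw₀⟩ := riesz B hB μ
      have h1 : ∀ x ∈ X, B w₀ (Φ x) = B v x := by
        intro x hx
        rw [hw₀]
        have h2 : g (Φ x) = ⟨x, hx⟩ := by
          have := congrArg (fun f : X →ₗ[F] X => f ⟨x, hx⟩) hg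
          simpa using this
        simp [μ, h2]
      set s := Φ r with hs
      have hss : B s s = 0 := by rw [hiso r hrX r hrX]; exact hr r hrX
      have hd : B w₀ s = B v r := h1 r hrX
      have hsw : B s w₀ = σ (B v r) := by rw [← hd, hS.eq]
      have ht : σ (B v v - B w₀ w₀) = B v v - B w₀ w₀ := by
        rw [map_sub, self_fixed B hS, self_fixed B hS]
      obtain ⟨a, ha⟩ := trace_surj σ hσ hσ2 (B v r) hvr _ ht
      refine ⟨v, w₀ + a • s, hvX, ?_, ?_, ?_⟩
      · intro x hx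
        rw [map_add, map_smul, hiso x hx r hrX, hr x hx, smul_zero, add_zero, ← hS.eq,
          h1 x hx, hS.eq]
      · have : B (w₀ + a • s) (w₀ + a • s) = B w₀ w₀ + a * B w₀ s + σ a * B s w₀
            + σ a * a * B s s := by
          simp only [map_add, LinearMap.add_apply, smul_left, map_smul, smul_eq_mul]; ring
        rw [this, hss, hd, hsw, ← map_mul, mul_zero, add_zero, add_assoc, ha]; ring
      · rintro ⟨x₀, hx₀, hx₀'⟩
        have h3 : B (w₀ + a • s) s = B v r := by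
          rw [map_add, LinearMap.add_apply, smul_left, hss, mul_zero, add_zero, hd]
        rw [← hx₀', hiso x₀ hx₀ r hrX, hr x₀ hx₀] at h3
        exact hvr h3.symm
    · push Not at hrad
      -- X is nondegenerate
      have hsepR : (B.domRestrict₁₂ X X).SeparatingRight := by
        intro y hy
        apply Subtype.ext
        by_contra hne
        obtain ⟨x, hx, hne'⟩ := hrad y y.2 hne
        exact hne' (hy ⟨x, hx⟩)
      have hS' := hS.domRestrict X
      have hsepL : (B.domRestrict₁₂ X X).SeparatingLeft := by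
        intro x hx
        apply hsepR
        intro y
        exact (hS'.eq_iff).1 (hx y)
      obtain ⟨b, hb⟩ := exists_orthonormal hσ hσ2 (B.domRestrict₁₂ X X) hS' ⟨hsepL, hsepR⟩
      let e : Fin (finrank F X) → V := fun i => (b i : V)
      have he : ∀ i j, B (e i) (e j) = if i = j then 1 else 0 := fun i j => hb i j
      have hspan : Submodule.span F (Set.range e) = X := by
        have h1 : Set.range e = X.subtype '' Set.range b := by
          rw [← Set.range_comp]; rfl
        rw [h1, Submodule.span_image, b.span_eq, Submodule.map_top, Submodule.range_subtype]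
      obtain ⟨v, hv1, hv2⟩ := exists_perp_unit B hS hB hσ hσ2 e he (by rw [hspan]; exact hX)
      have hXv : ∀ x ∈ X, B x v = 0 := by
        intro x hx
        rw [← hspan] at hx
        refine Submodule.span_induction ?_ ?_ ?_ ?_ hx
        · rintro _ ⟨i, rfl⟩; exact hv2 i
        · simp
        · intro x y _ _ h1 h2; rw [map_add, LinearMap.add_apply, h1, h2, add_zero]
        · intro c x _ h1; rw [smul_left, h1, mul_zero]
      have he' : ∀ i j, B (Φ (e i)) (Φ (e j)) = if i = j then 1 else 0 := by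
        intro i j
        rw [hiso _ (b i).2 _ (b j).2]; exact he i j
      have hspan' : Submodule.span F (Set.range (fun i => Φ (e i))) = X.map Φ := by
        have : Set.range (fun i => Φ (e i)) = Φ '' Set.range e := by
          rw [← Set.range_comp]; rfl
        rw [this, Submodule.span_image, hspan]
      have hM : X.map Φ ≠ ⊤ := by
        intro h
        have h1 := Submodule.finrank_map_le Φ X
        rw [h, finrank_top] at h1
        have h2 := Submodule.finrank_lt hX
        omega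
      obtain ⟨w, hw1, hw2⟩ := exists_perp_unit B hS hB hσ hσ2 (fun i => Φ (e i)) he'
        (by rw [hspan']; exact hM)
      have hMw : ∀ x ∈ X, B (Φ x) w = 0 := by
        intro x hx
        rw [← hspan] at hx
        refine Submodule.span_induction ?_ ?_ ?_ ?_ hx
        · rintro _ ⟨i, rfl⟩; exact hw2 i
        · simp
        · intro x y _ _ h1 h2; rw [map_add, map_add, LinearMap.add_apply, h1, h2, add_zero]
        · intro c x _ h1; rw [map_smul, smul_left, h1, mul_zero]
      refine ⟨v, w, ?_, ?_, ?_, ?_⟩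
      · intro h
        have := hXv v h
        rw [hv1] at this
        exact one_ne_zero this
      · intro x hx; rw [hMw x hx, hXv x hx]
      · rw [hw1, hv1]
      · rintro ⟨x₀, hx₀, hx₀'⟩
        have := hMw x₀ hx₀
        rw [hx₀', hw1] at this
        exact one_ne_zero this
  -- now build Φ'
  obtain ⟨ℓ, hℓv, hℓX⟩ : ∃ ℓ : V →ₗ[F] F, ℓ v = 1 ∧ ∀ x ∈ X, ℓ x = 0 := by
    obtain ⟨f, hf, hfX⟩ := Submodule.exists_dual_map_eq_bot_of_notMem hv inferInstance
    refine ⟨(f v)⁻¹ • f, by simp [hf], ?_⟩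
    intro x hx
    have : f x ∈ X.map f := ⟨x, hx, rfl⟩
    rw [hfX] at this
    simp [(Submodule.mem_bot F).1 this]
  let Φ' : V →ₗ[F] V := Φ + ℓ.smulRight (w - Φ v)
  have hΦ'X : ∀ x ∈ X, Φ' x = Φ x := by
    intro x hx; simp [Φ', hℓX x hx]
  have hΦ'v : Φ' v = w := by simp [Φ', hℓv]
  refine ⟨v, Φ', hv, hΦ'X, ?_, ?_⟩
  · intro y hy y' hy'
    obtain ⟨x, hx, z, hz, rfl⟩ := Submodule.mem_sup.1 hy
    obtain ⟨c, rfl⟩ := Submodule.mem_span_singleton.1 hz
    obtain ⟨x', hx', z', hz', rfl⟩ := Submodule.mem_sup.1 hy'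
    obtain ⟨c', rfl⟩ := Submodule.mem_span_singleton.1 hz'
    have e1 : B w (Φ x') = B v x' := by rw [← hS.eq, hw1 x' hx', hS.eq]
    simp only [map_add, map_smul, hΦ'X x hx, hΦ'X x' hx', hΦ'v, LinearMap.add_apply,
      smul_left, smul_eq_mul]
    rw [hiso x hx x' hx', hw1 x hx, hw2, e1]
  · intro y hy h0
    obtain ⟨x, hx, z, hz, rfl⟩ := Submodule.mem_sup.1 hy
    obtain ⟨c, rfl⟩ := Submodule.mem_span_singleton.1 hz
    rw [map_add, map_smul, hΦ'X x hx, hΦ'v] at h0
    by_cases hc : c = 0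
    · subst hc
      simp only [zero_smul, add_zero] at h0 ⊢
      exact hinj x hx h0
    · exfalso
      apply hw3
      refine ⟨-(c⁻¹ • x), X.neg_mem (X.smul_mem _ hx), ?_⟩
      have h1 : c • w = -Φ x := by
        rw [eq_neg_iff_add_eq_zero, add_comm]; exact h0
      have h2 : w = c⁻¹ • (c • w) := by rw [smul_smul, inv_mul_cancel₀ hc, one_smul]
      rw [h2, h1, map_neg, map_smul, smul_neg]

omit [Finite F] in
lemma of_top (B : V →ₛₗ[σ] V →ₗ[F] F) (Φ : V →ₗ[F] V) (hG : Good B ⊤ Φ) :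
    ∃ g : V ≃ₗ[F] V, (∀ u v : V, B (g u) (g v) = B u v) ∧ ∀ x : V, g x = Φ x := by
  have hinj : Function.Injective Φ := by
    rw [← LinearMap.ker_eq_bot, LinearMap.ker_eq_bot']
    intro x hx
    exact hG.2 x trivial hx
  exact ⟨LinearEquiv.ofInjectiveEndo Φ hinj, fun u v => hG.1 u trivial v trivial, fun x => rfl⟩

theorem extend (B : V →ₛₗ[σ] V →ₗ[F] F) (hS : B.IsSymm) (hB : B.Nondegenerate)
    (hσ : σ ≠ RingHom.id F) (hσ2 : ∀ a : F, σ (σ a) = a) :
    ∀ (n : ℕ) (X : Submodule F V) (Φ : V →ₗ[F] V), Good B X Φ →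
      finrank F V - finrank F X ≤ n →
      ∃ g : V ≃ₗ[F] V, (∀ u v : V, B (g u) (g v) = B u v) ∧ ∀ x ∈ X, g x = Φ x := by
  intro n
  induction n with
  | zero =>
    intro X Φ hG hfin
    have hle := Submodule.finrank_le X
    have hX : X = ⊤ := Submodule.eq_top_of_finrank_eq (by omega)
    subst hX
    obtain ⟨g, hg1, hg2⟩ := of_top B Φ hG
    exact ⟨g, hg1, fun x _ => hg2 x⟩
  | succ n ih =>
    intro X Φ hG hfin
    by_cases hX : X = ⊤
    · subst hX
      obtain ⟨g, hg1, hg2⟩ := of_top B Φ hG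
      exact ⟨g, hg1, fun x _ => hg2 x⟩
    · obtain ⟨v, Φ', hv, hΦ', hG'⟩ := step B hS hB hσ hσ2 X Φ hG hX
      have hlt : X < X ⊔ Submodule.span F {v} := by
        refine lt_of_le_of_ne le_sup_left ?_
        intro h
        apply hv
        rw [h]
        exact Submodule.mem_sup_right (Submodule.mem_span_singleton_self v)
      have hfl := Submodule.finrank_lt_finrank_of_lt hlt
      obtain ⟨g, hg1, hg2⟩ := ih _ Φ' hG' (by omega)
      exact ⟨g, hg1, fun x hx => (hg2 x (Submodule.mem_sup_left hx)).trans (hΦ' x hx)⟩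

/-- **Witt's lemma** for nondegenerate Hermitian forms over finite fields. -/
theorem witt (B : V →ₛₗ[σ] V →ₗ[F] F) (hS : B.IsSymm) (hB : B.Nondegenerate)
    (hσ : σ ≠ RingHom.id F) (hσ2 : ∀ a : F, σ (σ a) = a)
    (X Y : Submodule F V) (φ : X ≃ₗ[F] Y)
    (hφ : ∀ x x' : X, B (φ x : V) (φ x' : V) = B (x : V) (x' : V)) :
    ∃ g : V ≃ₗ[F] V, (∀ u v : V, B (g u) (g v) = B u v) ∧ ∀ x : X, g (x : V) = (φ x : V) := by
  obtain ⟨Φ, hΦ⟩ := LinearMap.exists_extend (Y.subtype ∘ₗ φ.toLinearMap)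
  have hΦ' : ∀ x : X, Φ (x : V) = (φ x : V) := by
    intro x
    have := congrArg (fun f : X →ₗ[F] V => f x) hΦ
    simpa using this
  have hG : Good B X Φ := by
    constructor
    · intro x hx x' hx'
      rw [hΦ' ⟨x, hx⟩, hΦ' ⟨x', hx'⟩, hφ]
    · intro x hx h0
      rw [hΦ' ⟨x, hx⟩] at h0
      have : φ ⟨x, hx⟩ = 0 := Subtype.ext h0
      have h2 := φ.map_eq_zero_iff.1 this
      exact congrArg Subtype.val h2
  obtain ⟨g, hg1, hg2⟩ := extend B hS hB hσ hσ2 _ X Φ hG le_rfl
  exact ⟨g, hg1, fun x => (hg2 x x.2).trans (hΦ' x)⟩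

end Cfsg.Agent.Lib_helper4_WittHerm
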