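import Mathlib

set_option autoImplicit false

namespace Cfsg.Agent.Lib_helper5_AutP

open scoped IsMulCommutative

/-- an automorphism of exponent `r` prime to `p` of an abelian `p`-group that is trivial on the
elements of order dividing `p` is trivial -/
theorem aut_trivial_of_omega {A : Type*} [Group A] [IsMulCommutative A] {p r : ℕ}
    (hcop : Nat.Coprime r p) (hA : IsPGroup p A) (α : MulAut A) (hαr : ∀ x, (α ^ r) x = x)
    (h : ∀ x : A, x ^ p = 1 → α x = x) : ∀ x : A, α x = x := by
  have key : ∀ k : ℕ, ∀ x : A, x ^ p ^ k = 1 → α x = x := by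
    intro k
    induction k with
    | zero =>
      intro x hx
      rw [pow_zero, pow_one] at hx
      rw [hx, map_one]
    | succ k ih =>
      intro x hx
      have h1 : α (x ^ p) = x ^ p := ih (x ^ p) (by rw [← pow_mul, ← pow_succ']; exact hx)
      have hzp : (α x * x⁻¹) ^ p = 1 := by
        rw [mul_pow, inv_pow, ← map_pow, h1, mul_inv_cancel]
      have hαz : α (α x * x⁻¹) = α x * x⁻¹ := h _ hzp
      have hαx : α x = (α x * x⁻¹) * x := by group
      have hpow : ∀ j : ℕ, (α ^ j) x = (α x * x⁻¹) ^ j * x := by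
        intro j
        induction j with
        | zero => simp
        | succ j ihj =>
          rw [pow_succ', MulAut.mul_apply, ihj, map_mul, map_pow, hαz, pow_succ]
          group
      have hzr : (α x * x⁻¹) ^ r = 1 := by
        have := hpow r
        rw [hαr] at this
        exact mul_eq_right.mp this.symm
      have hz1 : α x * x⁻¹ = 1 := by
        have h2 : orderOf (α x * x⁻¹) ∣ Nat.gcd r p :=
          Nat.dvd_gcd (orderOf_dvd_of_pow_eq_one hzr) (orderOf_dvd_of_pow_eq_one hzp)
        rw [hcop.gcd_eq_one, Nat.dvd_one] at h2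
        exact orderOf_eq_one_iff.mp h2
      exact mul_inv_eq_one.mp hz1
  intro x
  obtain ⟨k, hk⟩ := hA x
  exact key k x hk

/-- a nontrivial automorphism of prime order `r ≠ p` of a finite abelian `p`-group of rank `d`
forces `r ∣ p ^ i - 1` for some `1 ≤ i ≤ d` -/
theorem aut_prime_dvd {A : Type*} [Group A] [Finite A] [IsMulCommutative A] {p r : ℕ}
    [Fact p.Prime] (hr : r.Prime) (hrp : r ≠ p) (hA : IsPGroup p A) (α : MulAut A)
    (hα1 : ∃ x, α x ≠ x) (hαr : ∀ x, (α ^ r) x = x) :
    ∃ i, 1 ≤ i ∧ i ≤ Group.rank A ∧ r ∣ p ^ i - 1 := by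
  classical
  have hp := Fact.out (p := p.Prime)
  haveI : Fact r.Prime := ⟨hr⟩
  have hcop : Nat.Coprime r p := (Nat.coprime_primes hr hp).mpr hrp
  set Ω : Subgroup A := (powMonoidHom p : A →* A).ker with hΩ
  have hmemΩ : ∀ x, x ∈ Ω ↔ x ^ p = 1 := fun x => by
    rw [hΩ, MonoidHom.mem_ker]; rfl
  set Φ : Subgroup A := Ω ⊓ (α.toMonoidHom.eqLocus (MonoidHom.id A)) with hΦ
  have hmemΦ : ∀ x, x ∈ Φ ↔ x ^ p = 1 ∧ α x = x := fun x => by
    rw [hΦ, Subgroup.mem_inf, hmemΩ]; rfl
  have hΦΩ : Φ ≤ Ω := inf_le_left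
  have hne : Φ ≠ Ω := by
    intro heq
    obtain ⟨x, hx⟩ := hα1
    apply hx
    apply aut_trivial_of_omega hcop hA α hαr
    intro y hy
    have : y ∈ Φ := by rw [heq]; exact (hmemΩ y).mpr hy
    exact ((hmemΦ y).mp this).2
  obtain ⟨e, he⟩ := IsPGroup.iff_card.mp (hA.to_subgroup Ω)
  obtain ⟨c, hc⟩ := IsPGroup.iff_card.mp (hA.to_subgroup Φ)
  have hce : c < e := by
    by_contra hge
    push Not at hge
    apply hne
    apply Subgroup.eq_of_le_of_card_ge hΦΩ
    rw [he, hc]; exact Nat.pow_le_pow_right hp.pos hge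
  -- counting
  let E := {x : A // x ^ p = 1}
  haveI : Fintype E := Fintype.ofFinite E
  let f : Function.End E := fun x => ⟨α x.1, by rw [← map_pow, x.2, map_one]⟩
  have hfpow : ∀ (j : ℕ) (x : E), ((f ^ j) x).1 = (α ^ j) x.1 := by
    intro j
    induction j with
    | zero => intro x; rfl
    | succ j ih =>
      intro x
      rw [pow_succ', pow_succ', MulAut.mul_apply, ← ih]
      rfl
  have hf : f ^ r ^ 1 = 1 := by
    rw [pow_one]
    funext x
    apply Subtype.ext
    rw [hfpow, hαr]
    rfl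
  have hmod := Equiv.Perm.card_fixedPoints_modEq (p := r) (n := 1) hf
  have hcardE : Fintype.card E = p ^ e := by
    rw [← he, ← Nat.card_eq_fintype_card]
    apply Nat.card_congr
    exact (Equiv.subtypeEquivRight (fun x => (hmemΩ x).symm))
  have hcardF : Fintype.card (Function.fixedPoints f) = p ^ c := by
    rw [← hc, ← Nat.card_eq_fintype_card]
    apply Nat.card_congr
    exact
      { toFun := fun x => ⟨x.1.1, (hmemΦ _).mpr ⟨x.1.2, congrArg Subtype.val x.2⟩⟩
        invFun := fun y => ⟨⟨y.1, ((hmemΦ _).mp y.2).1⟩, Subtype.ext ((hmemΦ _).mp y.2).2⟩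
        left_inv := fun x => rfl
        right_inv := fun y => rfl }
  rw [hcardE, hcardF] at hmod
  have hdvd : r ∣ p ^ (e - c) - 1 := by
    have h1 : p ^ e = p ^ c * p ^ (e - c) := by
      rw [← pow_add]; congr 1; omega
    have h2 : r ∣ p ^ e - p ^ c :=
      (Nat.modEq_iff_dvd' (Nat.pow_le_pow_right hp.pos hce.le)).mp hmod.symm
    have h3 : p ^ e - p ^ c = p ^ c * (p ^ (e - c) - 1) := by
      rw [h1, Nat.mul_sub, mul_one]
    rw [h3] at h2
    exact (Nat.Coprime.dvd_mul_left (Nat.Coprime.pow_right c hcop)).mp h2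
  have hrank : e ≤ Group.rank A := by
    set R : Subgroup A := (powMonoidHom p : A →* A).range with hR
    have h1 : Nat.card Ω * Nat.card R = Nat.card A := by
      rw [hΩ, hR, ← Subgroup.index_ker, Subgroup.card_mul_index]
    have h2 : Nat.card R * R.index = Nat.card A := Subgroup.card_mul_index R
    have h3 : R.index = p ^ e := by
      have : Nat.card R * R.index = Nat.card R * Nat.card Ω := by rw [h2, mul_comm, h1]
      rw [← he]; exact Nat.eq_of_mul_eq_mul_left Nat.card_pos this
    have h4 : Nat.card (A ⧸ R) ∣ p ^ Group.rank (A ⧸ R) := by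
      apply card_dvd_exponent_pow_rank'
      intro q
      induction q using QuotientGroup.induction_on with
      | H a =>
        rw [← QuotientGroup.mk_pow, QuotientGroup.eq_one_iff]
        exact ⟨a, rfl⟩
    have h5 : Group.rank (A ⧸ R) ≤ Group.rank A :=
      Group.rank_le_of_surjective (QuotientGroup.mk' R) (QuotientGroup.mk'_surjective R)
    rw [← Subgroup.index_eq_card, h3] at h4
    exact le_trans ((Nat.pow_dvd_pow_iff_le_right hp.one_lt).mp h4) h5
  exact ⟨e - c, by omega, le_trans (Nat.sub_le e c) hrank, hdvd⟩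

end Cfsg.Agent.Lib_helper5_AutP
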