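import Mathlib
import Cfsg.Agent.Lib_helper5_AutP
import Cfsg.Agent.Lib_helper1_Coprime

set_option autoImplicit false

namespace Cfsg.Agent.Lib_helper5_AutP2

variable {G : Type*} [Group G]

theorem conjNormalizer_pow (K : Subgroup G) (g : G) (hg : g ∈ Subgroup.normalizer (K : Set G))
    (j : ℕ) (x : K) :
    ((((Cfsg.Agent.Lib_helper1_Coprime.conjNormalizer K g hg : MulAut K) ^ j) x : K) : G)
      = g ^ j * x * (g ^ j)⁻¹ := by
  induction j generalizing x with
  | zero => simp
  | succ j ih =>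
    rw [pow_succ', MulAut.mul_apply, Cfsg.Agent.Lib_helper1_Coprime.conjNormalizer_coe, ih,
      pow_succ']
    group

/-- a `p`-element normalizing a Sylow `p`-subgroup lies in it -/
theorem mem_sylow_of_mem_normalizer [Finite G] {p : ℕ} [Fact p.Prime] (P : Sylow p G) (u : G)
    (hu : ∃ k : ℕ, orderOf u = p ^ k) (huN : u ∈ Subgroup.normalizer ((P : Subgroup G) : Set G)) :
    u ∈ (P : Subgroup G) := by
  obtain ⟨k, hk⟩ := hu
  have hz : IsPGroup p (Subgroup.zpowers u) := by
    apply IsPGroup.of_card (n := k)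
    rw [Nat.card_zpowers]; exact hk
  have h2 := hz.inf_normalizer_sylow P
  have h3 : u ∈ Subgroup.zpowers u ⊓ Subgroup.normalizer ((P : Subgroup G) : Set G) :=
    ⟨Subgroup.mem_zpowers u, huN⟩
  have h4 : u ∈ Subgroup.zpowers u ⊓ (P : Subgroup G) := h2.le h3
  exact h4.2

/-- an element normalizing an abelian Sylow `p`-subgroup `P` and centralizing every element of
`P` of order dividing `p` centralizes `P` -/
theorem centralizes_of_omega [Finite G] {p : ℕ} [Fact p.Prime] (P : Sylow p G)
    (hab : IsMulCommutative (P : Subgroup G)) (c : G)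
    (hcN : c ∈ Subgroup.normalizer ((P : Subgroup G) : Set G))
    (h : ∀ y ∈ (P : Subgroup G), y ^ p = 1 → c * y * c⁻¹ = y) :
    ∀ y ∈ (P : Subgroup G), c * y * c⁻¹ = y := by
  have hp := Fact.out (p := p.Prime)
  obtain ⟨a, m, hm, hn⟩ := Nat.exists_eq_pow_mul_and_not_dvd (orderOf_pos c).ne' p hp.ne_one
  have hcop : Nat.Coprime m p := ((Nat.Prime.coprime_iff_not_dvd hp).mpr hm).symm
  have hcm : c ^ m ∈ (P : Subgroup G) := by
    apply mem_sylow_of_mem_normalizer P _ _ (Subgroup.pow_mem _ hcN m)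
    have h1 : orderOf (c ^ m) ∣ p ^ a := by
      apply orderOf_dvd_of_pow_eq_one
      rw [← pow_mul, mul_comm, ← hn, pow_orderOf_eq_one]
    obtain ⟨j, -, hj⟩ := (Nat.dvd_prime_pow hp).mp h1
    exact ⟨j, hj⟩
  let α : MulAut (P : Subgroup G) :=
    Cfsg.Agent.Lib_helper1_Coprime.conjNormalizer (P : Subgroup G) c hcN
  have key := Cfsg.Agent.Lib_helper5_AutP.aut_trivial_of_omega hcop P.2 α (by
      intro x
      apply Subtype.ext
      rw [conjNormalizer_pow]
      have := hab.is_comm.comm (⟨c ^ m, hcm⟩ : (P : Subgroup G)) x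
      have h2 : c ^ m * (x : G) = x * c ^ m := congrArg Subtype.val this
      rw [h2]; group) (by
      intro x hx
      apply Subtype.ext
      rw [Cfsg.Agent.Lib_helper1_Coprime.conjNormalizer_coe]
      apply h x x.2
      have := congrArg Subtype.val hx
      rwa [Subgroup.coe_pow] at this)
  intro y hy
  have := congrArg Subtype.val (key ⟨y, hy⟩)
  rwa [Cfsg.Agent.Lib_helper1_Coprime.conjNormalizer_coe] at this

end Cfsg.Agent.Lib_helper5_AutP2
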