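import Mathlib

set_option autoImplicit false

namespace Cfsg.Agent.Lib_helper5_Basic

theorem orderOf_conj' {G : Type*} [Group G] (x g : G) : orderOf (x * g * x⁻¹) = orderOf g := by
  have := MulEquiv.orderOf_eq (MulAut.conj x) g
  rwa [MulAut.conj_apply] at this

/-- A subgroup normalized by a generating set is normal. -/
theorem normal_of_gens {G : Type*} [Group G] (S : Set G) (hS : Subgroup.closure S = ⊤)
    (D : Subgroup G) (h : ∀ s ∈ S, s ∈ Subgroup.normalizer (D : Set G)) : D.Normal := by
  rw [← Subgroup.normalizer_eq_top_iff, eq_top_iff, ← hS, Subgroup.closure_le]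
  exact h

/-- If the generators commute modulo a normal subgroup `D`, then `G' ≤ D`. -/
theorem commutator_le_of_gens {G : Type*} [Group G] (S : Set G) (hS : Subgroup.closure S = ⊤)
    (D : Subgroup G) [D.Normal] (h : ∀ s ∈ S, ∀ t ∈ S, s * t * s⁻¹ * t⁻¹ ∈ D) :
    commutator G ≤ D := by
  have hT : ∀ s ∈ S, ∀ t ∈ S, Commute (QuotientGroup.mk' D s) (QuotientGroup.mk' D t) := by
    intro s hs t ht
    have h2 : QuotientGroup.mk' D (s * t * s⁻¹ * t⁻¹) = 1 :=
      (QuotientGroup.eq_one_iff _).mpr (h s hs t ht)
    simp only [map_mul, map_inv] at h2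
    show QuotientGroup.mk' D s * QuotientGroup.mk' D t = QuotientGroup.mk' D t * QuotientGroup.mk' D s
    calc QuotientGroup.mk' D s * QuotientGroup.mk' D t
        = (QuotientGroup.mk' D s * QuotientGroup.mk' D t * (QuotientGroup.mk' D s)⁻¹ *
            (QuotientGroup.mk' D t)⁻¹) * (QuotientGroup.mk' D t * QuotientGroup.mk' D s) := by group
      _ = QuotientGroup.mk' D t * QuotientGroup.mk' D s := by rw [h2, one_mul]
  have hcl : ∀ y : G, y ∈ Subgroup.closure S := fun y => by rw [hS]; trivial
  have h1 : ∀ s ∈ S, ∀ y : G, Commute (QuotientGroup.mk' D s) (QuotientGroup.mk' D y) := by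
    intro s hs y
    induction hcl y using Subgroup.closure_induction with
    | mem t ht => exact hT s hs t ht
    | one => rw [map_one]; exact Commute.one_right _
    | mul a b _ _ iha ihb => rw [map_mul]; exact iha.mul_right ihb
    | inv a _ iha => rw [map_inv]; exact iha.inv_right
  have h2 : ∀ x y : G, Commute (QuotientGroup.mk' D x) (QuotientGroup.mk' D y) := by
    intro x y
    induction hcl x using Subgroup.closure_induction with
    | mem t ht => exact h1 t ht y
    | one => rw [map_one]; exact Commute.one_left _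
    | mul a b _ _ iha ihb => rw [map_mul]; exact iha.mul_left ihb
    | inv a _ iha => rw [map_inv]; exact iha.inv_left
  rw [commutator_def, Subgroup.commutator_le]
  intro g _ k _
  rw [← QuotientGroup.eq_one_iff (N := D), commutatorElement_def]
  have := h2 g k
  show QuotientGroup.mk' D (g * k * g⁻¹ * k⁻¹) = 1
  simp only [map_mul, map_inv]
  rw [this.eq]; group

end Cfsg.Agent.Lib_helper5_Basic
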