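import Mathlib
import Cfsg.Agent.Lib_helper5_Real
import Cfsg.Agent.Lib_helper6_Sylow
import Cfsg.Agent.Lib_helper9_Derangement

set_option autoImplicit false

namespace Cfsg.Agent.Lib_helper5_Class

variable {G : Type*} [Group G]

/-- the size of a conjugacy class is the index of the centralizer -/
theorem carrier_ncard [Finite G] (x : G) :
    (ConjClasses.mk x).carrier.ncard = (Subgroup.centralizer ({x} : Set G)).index := by
  rw [← ConjAct.orbit_eq_carrier_conjClasses, ← Nat.card_coe_set_eq]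
  exact Cfsg.Agent.Lib_helper5_Real.orbit_card_eq_index x

/-- a `p`-element of a subgroup `H` of index prime to `p` lies in a Sylow `p`-subgroup of `G`
contained in `H` -/
theorem exists_sylow_le_of_mem [Finite G] {p : ℕ} [Fact p.Prime] (H : Subgroup G)
    (hH : ¬ p ∣ H.index) (u : G) (huH : u ∈ H) (hu : ∃ k : ℕ, orderOf u = p ^ k) :
    ∃ P : Sylow p G, (P : Subgroup G) ≤ H ∧ u ∈ (P : Subgroup G) := by
  have hu' : ∃ k : ℕ, orderOf (⟨u, huH⟩ : H) = p ^ k := by
    obtain ⟨k, hk⟩ := hu
    exact ⟨k, by rw [Subgroup.orderOf_mk, hk]⟩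
  obtain ⟨Q, hQ⟩ := Cfsg.Agent.Lib_helper6_Sylow.pElem_mem_sylow hu'
  have hp : IsPGroup p ((Q : Subgroup H).map H.subtype) := Q.2.map H.subtype
  obtain ⟨R, hR⟩ := hp.exists_le_sylow
  have hcard : Nat.card ((Q : Subgroup H).map H.subtype) = Nat.card R := by
    rw [Subgroup.card_map_of_injective H.subtype_injective, Sylow.card_eq_multiplicity,
      Sylow.card_eq_multiplicity]
    congr 1
    rw [← Subgroup.card_mul_index H]
    rw [Nat.factorization_mul Nat.card_pos.ne' Subgroup.index_ne_zero_of_finite]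
    simp [Nat.factorization_eq_zero_of_not_dvd hH]
  have heq : (Q : Subgroup H).map H.subtype = R :=
    Subgroup.eq_of_le_of_card_ge hR hcard.ge
  refine ⟨R, ?_, ?_⟩
  · rw [← heq]; exact Subgroup.map_subtype_le _
  · rw [← heq]; exact ⟨⟨u, huH⟩, hQ, rfl⟩

/-- Jordan: a finite transitive action in which every element has a fixed point is on at most
one point -/
theorem subsingleton_of_forall_fixed {Ω : Type*} [MulAction G Ω] [Finite G] [Finite Ω]
    (htrans : MulAction.IsPretransitive G Ω) (h : ∀ g : G, ∃ ω : Ω, g • ω = ω) :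
    Subsingleton Ω := by
  have hbot : Cfsg.Agent.Lib_helper9_Derangement.derSub G Ω = ⊥ := by
    unfold Cfsg.Agent.Lib_helper9_Derangement.derSub
    rw [Subgroup.closure_eq_bot_iff]
    intro g hg
    obtain ⟨ω, hω⟩ := h g
    exact absurd hω (hg ω)
  obtain ⟨htr, -⟩ := Cfsg.Agent.Lib_helper9_Derangement.key (G := G) (Ω := Ω) htrans
  refine ⟨fun a b => ?_⟩
  obtain ⟨g, hg⟩ := htr.exists_smul_eq a b
  have hg1 : (g : G) = 1 := by
    have h2 : (g : G) ∈ (⊥ : Subgroup G) := hbot ▸ g.2
    exact Subgroup.mem_bot.mp h2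
  have : (g : G) • a = b := hg
  rw [hg1, one_smul] at this
  exact this

/-- an element is a product of powers of its `m`-th and `n`-th powers when `m`, `n` are coprime -/
theorem mem_of_pow_mem_of_coprime' (K : Subgroup G) (g : G) {m n : ℕ} (hc : Nat.Coprime m n)
    (h1 : g ^ m ∈ K) (h2 : g ^ n ∈ K) : g ∈ K := by
  obtain ⟨a, b, hab⟩ := Nat.isCoprime_iff_coprime.mpr hc
  have : g = (g ^ m) ^ a * (g ^ n) ^ b := by
    rw [← zpow_natCast g m, ← zpow_natCast g n, ← zpow_mul, ← zpow_mul, ← zpow_add,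
      mul_comm (m : ℤ), mul_comm (n : ℤ), hab, zpow_one]
  rw [this]
  exact K.mul_mem (K.zpow_mem h1 a) (K.zpow_mem h2 b)

end Cfsg.Agent.Lib_helper5_Class
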