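import Mathlib

set_option autoImplicit false

namespace Cfsg.Agent.Lib_helper5_IrrOrder

/-- upper bound: an irreducible `F`-module `W` of exponent `q` with `F ^ p = 1` and
`q ^ e ≡ 1 (mod p)` has at most `q ^ e` elements -/
theorem irr_upper {W : Type*} [AddCommGroup W] [Finite W] {p q e : ℕ} (hq : q.Prime)
    (hexp : ∀ w : W, q • w = 0) (F : AddMonoid.End W) (hFp : F ^ p = 1)
    (hirr : ∀ B : AddSubgroup W, (∀ b ∈ B, F b ∈ B) → B = ⊥ ∨ B = ⊤)
    (a : W) (ha : a ≠ 0) (he : q ^ e % p = 1) (he1 : 1 ≤ e) : Nat.card W ≤ q ^ e := by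
  classical
  haveI : Fact q.Prime := ⟨hq⟩
  haveI : Finite (AddMonoid.End W) :=
    Finite.of_injective (fun g : AddMonoid.End W => (g : W → W)) DFunLike.coe_injective
  let R : Subring (AddMonoid.End W) := Subring.closure {F}
  letI : CommRing ↥R := Subring.closureCommRingOfComm (by
    intro x hx y hy
    rw [Set.mem_singleton_iff] at hx hy
    rw [hx, hy])
  have hFR : F ∈ R := Subring.subset_closure rfl
  have hcomm : ∀ ρ : ↥R, (ρ : AddMonoid.End W) * F = F * ρ := by
    intro ρ
    have := mul_comm ρ (⟨F, hFR⟩ : ↥R)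
    exact congrArg Subtype.val this
  have hinj : ∀ ρ : ↥R, ρ ≠ 0 → ∀ w : W, (ρ : AddMonoid.End W) w = 0 → w = 0 := by
    intro ρ hρ w hw
    let K : AddSubgroup W :=
      { carrier := {v | (ρ : AddMonoid.End W) v = 0}
        zero_mem' := map_zero _
        add_mem' := by
          intro x y hx hy
          show (ρ : AddMonoid.End W) (x + y) = 0
          rw [map_add, hx, hy, add_zero]
        neg_mem' := by
          intro x hx
          show (ρ : AddMonoid.End W) (-x) = 0
          rw [map_neg, hx, neg_zero] }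
    have hker := hirr K (by
      intro b hb
      have hb' : (ρ : AddMonoid.End W) b = 0 := hb
      show (ρ : AddMonoid.End W) (F b) = 0
      have h1 : (ρ : AddMonoid.End W) (F b) = ((ρ : AddMonoid.End W) * F) b := rfl
      rw [h1, hcomm ρ]
      show F ((ρ : AddMonoid.End W) b) = 0
      rw [hb', map_zero])
    rcases hker with h | h
    · have : w ∈ K := hw
      rw [h] at this
      exact AddSubgroup.mem_bot.mp this
    · exfalso
      apply hρ
      apply Subtype.ext
      apply AddMonoidHom.ext
      intro v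
      have : v ∈ K := by rw [h]; trivial
      exact this
  haveI : Nontrivial ↥R := by
    refine ⟨⟨1, 0, ?_⟩⟩
    intro h
    have h1 : (1 : AddMonoid.End W) = 0 := congrArg Subtype.val h
    have h2 : (1 : AddMonoid.End W) a = (0 : AddMonoid.End W) a := by rw [h1]
    exact ha h2
  haveI : NoZeroDivisors ↥R := by
    refine ⟨fun {x y} hxy => ?_⟩
    by_contra hcon
    push Not at hcon
    obtain ⟨hx, hy⟩ := hcon
    apply hy
    apply Subtype.ext
    apply AddMonoidHom.ext
    intro v
    have h1 : ((x * y : ↥R) : AddMonoid.End W) v = 0 := by rw [hxy]; rfl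
    exact hinj x hx _ h1
  haveI : IsDomain ↥R := NoZeroDivisors.to_isDomain _
  have hq0 : (q : ↥R) = 0 := by
    apply Subtype.ext
    apply AddMonoidHom.ext
    intro v
    show ((q : ↥R) : AddMonoid.End W) v = 0
    rw [Subring.coe_natCast, AddMonoid.End.natCast_apply]
    exact hexp v
  haveI : CharP ↥R q := (CharP.charP_iff_prime_eq_zero hq).mpr hq0
  have hφ : ∀ x : ↥R, iterateFrobenius ↥R q e x = x ^ q ^ e :=
    fun x => iterateFrobenius_def q e x
  have hφF : iterateFrobenius ↥R q e ⟨F, hFR⟩ = ⟨F, hFR⟩ := by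
    rw [hφ]
    apply Subtype.ext
    show F ^ q ^ e = F
    have h1 : q ^ e = p * (q ^ e / p) + 1 := by
      have := Nat.div_add_mod (q ^ e) p
      omega
    rw [h1, pow_succ, pow_mul, hFp, one_pow, one_mul]
  have hφall : ∀ x : ↥R, iterateFrobenius ↥R q e x = x := by
    rintro ⟨x, hx⟩
    induction hx using Subring.closure_induction with
    | mem x hx =>
      rw [Set.mem_singleton_iff] at hx
      subst hx
      exact hφF
    | zero => exact map_zero _
    | one => exact map_one _
    | add x y hx hy ihx ihy =>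
      have : (⟨x + y, add_mem hx hy⟩ : ↥R) = ⟨x, hx⟩ + ⟨y, hy⟩ := rfl
      rw [this, map_add, ihx, ihy]
    | neg x hx ihx =>
      have : (⟨-x, neg_mem hx⟩ : ↥R) = -⟨x, hx⟩ := rfl
      rw [this, map_neg, ihx]
    | mul x y hx hy ihx ihy =>
      have : (⟨x * y, mul_mem hx hy⟩ : ↥R) = ⟨x, hx⟩ * ⟨y, hy⟩ := rfl
      rw [this, map_mul, ihx, ihy]
  haveI : Fintype ↥R := Fintype.ofFinite _
  have hq1 : 1 < q ^ e := Nat.one_lt_pow (by omega) hq.one_lt
  have hdeg : (Polynomial.X ^ (q ^ e) - Polynomial.X : Polynomial ↥R).natDegree = q ^ e := by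
    rw [Polynomial.natDegree_sub_eq_left_of_natDegree_lt, Polynomial.natDegree_X_pow]
    rw [Polynomial.natDegree_X_pow, Polynomial.natDegree_X]
    exact hq1
  have hne : (Polynomial.X ^ (q ^ e) - Polynomial.X : Polynomial ↥R) ≠ 0 := by
    intro h
    rw [h, Polynomial.natDegree_zero] at hdeg
    omega
  have hroots : (Finset.univ : Finset ↥R).val ⊆
      (Polynomial.X ^ (q ^ e) - Polynomial.X : Polynomial ↥R).roots := by
    intro x _
    rw [Polynomial.mem_roots hne, Polynomial.IsRoot.def]
    simp only [Polynomial.eval_sub, Polynomial.eval_pow, Polynomial.eval_X]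
    rw [← hφ, hφall, sub_self]
  have hcardR : Nat.card ↥R ≤ q ^ e := by
    have := Polynomial.card_le_degree_of_subset_roots hroots
    rw [hdeg, Finset.card_univ] at this
    rwa [Nat.card_eq_fintype_card]
  have hsurj : Function.Surjective (fun ρ : ↥R => (ρ : AddMonoid.End W) a) := by
    let B : AddSubgroup W :=
      { carrier := Set.range (fun ρ : ↥R => (ρ : AddMonoid.End W) a)
        zero_mem' := ⟨0, rfl⟩
        add_mem' := by
          rintro _ _ ⟨ρ, rfl⟩ ⟨σ, rfl⟩
          exact ⟨ρ + σ, rfl⟩
        neg_mem' := by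
          rintro _ ⟨ρ, rfl⟩
          exact ⟨-ρ, rfl⟩ }
    have hB := hirr B (by
      rintro _ ⟨ρ, rfl⟩
      exact ⟨⟨F, hFR⟩ * ρ, rfl⟩)
    rcases hB with h | h
    · exfalso
      have : a ∈ B := ⟨1, rfl⟩
      rw [h] at this
      exact ha (AddSubgroup.mem_bot.mp this)
    · intro w
      have : w ∈ B := by rw [h]; trivial
      exact this
  calc Nat.card W ≤ Nat.card ↥R := Nat.card_le_card_of_surjective _ hsurj
    _ ≤ q ^ e := hcardR

/-- multiplicative form for commutative groups -/
theorem irr_card' {W : Type*} [CommGroup W] [Finite W] {p q : ℕ}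
    [Fact p.Prime] (hq : q.Prime) (hpq : q ≠ p)
    (hexp : ∀ w : W, w ^ q = 1) (f : W →* W) (hfp : ∀ w, (f^[p]) w = w) (w0 : W)
    (hf1 : f w0 ≠ w0)
    (hirr : ∀ B : Subgroup W, (∀ b ∈ B, f b ∈ B) → B = ⊥ ∨ B = ⊤) :
    Nat.card W = q ^ orderOf (q : ZMod p) := by
  classical
  have hp := (Fact.out : p.Prime)
  haveI : Fact q.Prime := ⟨hq⟩
  have hfix : ∀ w, f w = w → w = 1 := by
    intro w hw
    let B : Subgroup W :=
      { carrier := {v | f v = v}
        one_mem' := map_one f
        mul_mem' := by
          intro x y hx hy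
          show f (x * y) = x * y
          rw [map_mul, hx, hy]
        inv_mem' := by
          intro x hx
          show f x⁻¹ = x⁻¹
          rw [map_inv, hx] }
    rcases hirr B (by
      intro b hb
      have hb' : f b = b := hb
      show f (f b) = f b
      exact congrArg f hb') with h | h
    · have : w ∈ B := hw
      rw [h] at this
      exact Subgroup.mem_bot.mp this
    · exfalso
      have : w0 ∈ B := by rw [h]; trivial
      exact hf1 this
  have hPG : IsPGroup q W := fun w => ⟨1, by rw [pow_one]; exact hexp w⟩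
  obtain ⟨m, hm⟩ := IsPGroup.iff_card.mp hPG
  have hqne : (q : ZMod p) ≠ 0 := by
    rw [Ne, ZMod.natCast_eq_zero_iff]
    exact fun h => hpq ((Nat.prime_dvd_prime_iff_eq hp hq).mp h).symm
  have hferm : (q : ZMod p) ^ (p - 1) = 1 := ZMod.pow_card_sub_one_eq_one hqne
  have he_pos : 0 < orderOf (q : ZMod p) := by
    rw [orderOf_pos_iff]
    exact isOfFinOrder_iff_pow_eq_one.mpr ⟨p - 1, by have := hp.two_le; omega, hferm⟩
  have hemod : q ^ orderOf (q : ZMod p) % p = 1 := by
    have h1 : ((q ^ orderOf (q : ZMod p) : ℕ) : ZMod p) = ((1 : ℕ) : ZMod p) := by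
      push_cast
      exact pow_orderOf_eq_one _
    have h2 := (ZMod.natCast_eq_natCast_iff' _ _ _).mp h1
    rw [h2]
    exact Nat.mod_eq_of_lt hp.one_lt
  -- lower bound
  have hm1 : 1 ≤ m := by
    by_contra hm0
    have : m = 0 := by omega
    rw [this, pow_zero] at hm
    haveI : Subsingleton W := (Nat.card_eq_one_iff_unique.mp hm).1
    exact hf1 (Subsingleton.elim _ _)
  have hdvd : orderOf (q : ZMod p) ∣ m := by
    haveI : Fintype W := Fintype.ofFinite W
    have h1 := Equiv.Perm.card_fixedPoints_modEq (f := (⇑f : Function.End W)) (p := p) (n := 1) (by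
      rw [pow_one]
      have h1 := hom_coe_pow (fun g : Function.End W ↦ g) rfl (fun g h ↦ rfl) (⇑f) p
      refine h1.trans ?_
      funext w
      exact hfp w)
    rw [(Fintype.card_eq_one_iff (α := ↥(Function.fixedPoints ⇑f))).mpr
        ⟨⟨1, map_one f⟩, fun ⟨y, hy⟩ => Subtype.ext (hfix y hy)⟩,
      ← Nat.card_eq_fintype_card, hm] at h1
    have h2 : ((q ^ m : ℕ) : ZMod p) = ((1 : ℕ) : ZMod p) :=
      (ZMod.natCast_eq_natCast_iff _ _ _).mpr h1
    push_cast at h2
    exact orderOf_dvd_of_pow_eq_one h2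
  have hle : orderOf (q : ZMod p) ≤ m := Nat.le_of_dvd (by omega) hdvd
  -- upper bound
  let F : AddMonoid.End (Additive W) := MonoidHom.toAdditive f
  have hFp : F ^ p = 1 := by
    have h1 : ∀ (n : ℕ) (w : Additive W), (F ^ n) w = Additive.ofMul ((f^[n]) w.toMul) := by
      intro n
      induction n with
      | zero => intro w; rfl
      | succ n ih =>
        intro w
        rw [pow_succ']
        show F ((F ^ n) w) = _
        rw [ih, Function.iterate_succ_apply']
        rfl
    have key : ∀ w : Additive W, (F ^ p) w = w := by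
      intro w
      rw [h1, hfp]
      rfl
    exact AddMonoidHom.ext key
  have hU := irr_upper (W := Additive W) (p := p) (q := q) (e := orderOf (q : ZMod p)) hq
    (fun w => hexp w.toMul) F hFp
    (by
      intro B hB
      let B' : Subgroup W :=
        { carrier := {w | Additive.ofMul w ∈ B}
          one_mem' := B.zero_mem
          mul_mem' := fun ha hb => B.add_mem ha hb
          inv_mem' := fun ha => B.neg_mem ha }
      rcases hirr B' (fun b hb => hB _ hb) with h | h
      · left
        rw [eq_bot_iff]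
        intro b hb
        have : b.toMul ∈ B' := hb
        rw [h] at this
        have h2 : b.toMul = 1 := Subgroup.mem_bot.mp this
        have h3 : b = 0 := h2
        exact AddSubgroup.mem_bot.mpr h3
      · right
        rw [eq_top_iff]
        intro b _
        have : b.toMul ∈ B' := by rw [h]; trivial
        exact this)
    (Additive.ofMul w0)
    (by
      intro h
      apply hf1
      have : w0 = 1 := h
      rw [this, map_one])
    hemod he_pos
  have hcardA : Nat.card (Additive W) = Nat.card W := Nat.card_congr Additive.toMul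
  rw [hcardA, hm] at hU
  have hle2 : m ≤ orderOf (q : ZMod p) := (Nat.pow_le_pow_iff_right hq.one_lt).mp hU
  rw [hm, le_antisymm hle2 hle]

/-- multiplicative form -/
theorem irr_card {W : Type*} [Group W] [Finite W] (hcomm : ∀ a b : W, a * b = b * a) {p q : ℕ}
    [Fact p.Prime] (hq : q.Prime) (hpq : q ≠ p)
    (hexp : ∀ w : W, w ^ q = 1) (f : W →* W) (hfp : ∀ w, (f^[p]) w = w) (w0 : W)
    (hf1 : f w0 ≠ w0)
    (hirr : ∀ B : Subgroup W, (∀ b ∈ B, f b ∈ B) → B = ⊥ ∨ B = ⊤) :
    Nat.card W = q ^ orderOf (q : ZMod p) := by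
  letI : CommGroup W := { (inferInstance : Group W) with mul_comm := hcomm }
  exact irr_card' hq hpq hexp f hfp w0 hf1 hirr

end Cfsg.Agent.Lib_helper5_IrrOrder
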