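import Cfsg.Prelude
import Cfsg.Agent.Lib_helper1_Coprime
import Cfsg.Agent.Lib_helper2_Comp
import Cfsg.Agent.Lib_helper5_PParts
import Cfsg.Agent.Lib_helper6_Conj
import Cfsg.Agent.Lib_helper5_Fitting

set_option autoImplicit false

namespace Cfsg.Agent.Lib_helper5_MinNormal

/-! ### Restored lemmas (original content of this file; do not remove) -/

section Restored

open Cfsg.Agent.Lib_helper6_Conj

/-- normalizer of `A.subgroupOf K` inside `K` vs. normalizer of `A` -/
theorem mem_normalizer_of_subgroupOf {G : Type*} [Group G] {A K : Subgroup G} (hAK : A ≤ K)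
    (x : K) (hx : x ∈ Subgroup.normalizer ((A.subgroupOf K : Subgroup K) : Set K)) :
    (x : G) ∈ Subgroup.normalizer (A : Set G) := by
  rw [Subgroup.mem_normalizer_iff] at hx ⊢
  intro a
  constructor
  · intro ha
    exact (hx ⟨a, hAK ha⟩).mp ha
  · intro ha
    have haK : a ∈ K := by
      have h1 : (x : G)⁻¹ * ((x : G) * a * (x : G)⁻¹) * (x : G) ∈ K :=
        K.mul_mem (K.mul_mem (K.inv_mem x.2) (hAK ha)) x.2
      have h2 : (x : G)⁻¹ * ((x : G) * a * (x : G)⁻¹) * (x : G) = a := by group
      rwa [h2] at h1
    exact (hx ⟨a, haK⟩).mpr ha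

/-- A minimal normal subgroup of a finite group normalizes every subnormal subgroup. -/
theorem minNormal_le_normalizer.{u} (G : Type u) [Group G] [Finite G] (A N : Subgroup G)
    (hA : A.IsSubnormal) (hN : N.Normal)
    (hmin : ∀ K : Subgroup G, K.Normal → K ≤ N → K = ⊥ ∨ K = N) :
    N ≤ Subgroup.normalizer (A : Set G) := by
  induction hn : Nat.card G using Nat.strong_induction_on generalizing G with
  | _ n ih =>
    by_cases htopA : A = ⊤
    · subst htopA
      intro x _
      rw [Subgroup.mem_normalizer_iff]
      intro h; simp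
    · obtain ⟨K, hKn, hAK, hKtop⟩ := hA.exists_normal_and_le_and_lt_top_of_ne htopA
      haveI := hKn
      haveI := hN
      have hlt : Nat.card K < n := hn ▸ Cfsg.Agent.Lib_helper5_Fitting.card_lt_of_lt_top hKtop
      by_cases hd : N ⊓ K = ⊥
      · -- N centralizes K
        intro x hx
        apply Subgroup.centralizer_le_normalizer
        rw [Subgroup.mem_centralizer_iff]
        intro a ha
        exact (Subgroup.commute_of_normal_of_disjoint N K hN hKn (disjoint_iff.mpr hd) x a hx
          (hAK ha)).eq.symm
      · have hNK : N ≤ K := by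
          rcases hmin (N ⊓ K) inferInstance inf_le_left with h | h
          · exact absurd h hd
          · exact inf_eq_left.mp h
        have hNbot : N ≠ ⊥ := by
          intro h; apply hd; rw [h]; exact bot_inf_eq K
        -- choose a minimal K-invariant subgroup of N
        let S₁ : Set (Subgroup G) :=
          {T | T ≠ ⊥ ∧ T ≤ N ∧ K ≤ Subgroup.normalizer (T : Set G)}
        have hS₁ne : S₁.Nonempty := ⟨N, hNbot, le_rfl, by
          rw [Subgroup.normalizer_eq_top_iff.mpr hN]; exact le_top⟩
        obtain ⟨N₁, hN₁, hN₁min⟩ := Set.exists_min_image S₁ (fun T : Subgroup G => Nat.card T)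
          (Set.toFinite S₁) hS₁ne
        have hminimal : ∀ T ∈ S₁, T ≤ N₁ → T = N₁ := fun T hT hle =>
          Subgroup.eq_of_le_of_card_ge hle (hN₁min T hT)
        -- S₁ is closed under conjugation
        have hconj : ∀ T ∈ S₁, ∀ g : G, T.map (MulAut.conj g).toMonoidHom ∈ S₁ := by
          rintro T ⟨hT1, hT2, hT3⟩ g
          refine ⟨?_, ?_, ?_⟩
          · intro h
            apply hT1
            rw [← conjMap_inv_conjMap T g, h, Subgroup.map_bot]
          · intro y hy
            rw [mem_conjMap] at hy
            have := hN.conj_mem _ (hT2 hy) g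
            simpa [mul_assoc] using this
          · intro k hk
            rw [mem_normalizer_iff_conjMap, ← conjMap_mul]
            have h1 : g⁻¹ * k * g ∈ K := by
              have := hKn.conj_mem k hk g⁻¹
              simpa using this
            have h2 := hT3 h1
            rw [mem_normalizer_iff_conjMap] at h2
            have h3 : k * g = g * (g⁻¹ * k * g) := by group
            rw [h3, conjMap_mul, h2]
        -- each conjugate of N₁ normalizes A
        have hstep : ∀ g : G, N₁.map (MulAut.conj g).toMonoidHom ≤ Subgroup.normalizer (A : Set G) := by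
          intro g
          set T₀ := N₁.map (MulAut.conj g).toMonoidHom with hT₀
          have hT₀S : T₀ ∈ S₁ := hconj N₁ hN₁ g
          have hT₀K : T₀ ≤ K := hT₀S.2.1.trans hNK
          have hT₀min : ∀ T ∈ S₁, T ≤ T₀ → T = T₀ := by
            intro T hT hle
            have h1 : T.map (MulAut.conj g⁻¹).toMonoidHom ≤ N₁ := by
              have := Subgroup.map_mono (f := (MulAut.conj g⁻¹).toMonoidHom) hle
              rwa [hT₀, conjMap_inv_conjMap] at this
            have h2 := hminimal _ (hconj T hT g⁻¹) h1
            rw [hT₀, ← h2, conjMap_conjMap_inv]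
          have hnorm' : (T₀.subgroupOf K).Normal :=
            (Subgroup.normal_subgroupOf_iff_le_normalizer hT₀K).mpr hT₀S.2.2
          have key := ih (Nat.card K) hlt K (A.subgroupOf K) (T₀.subgroupOf K) hA.subgroupOf hnorm'
            (by
              intro T' hT'n hT'le
              by_cases hb : T' = ⊥
              · exact Or.inl hb
              · right
                have hTK : T'.map K.subtype ≤ K := by
                  rintro _ ⟨y, _, rfl⟩; exact y.2
                have hsub : (T'.map K.subtype).subgroupOf K = T' :=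
                  Subgroup.comap_map_eq_self_of_injective K.subtype_injective T'
                have hTle : T'.map K.subtype ≤ T₀ := by
                  rintro _ ⟨y, hy, rfl⟩
                  exact hT'le hy
                have hTS : T'.map K.subtype ∈ S₁ := by
                  refine ⟨?_, hTle.trans hT₀S.2.1, ?_⟩
                  · intro h
                    apply hb
                    rw [← hsub, h]
                    exact Subgroup.bot_subgroupOf K
                  · rw [← Subgroup.normal_subgroupOf_iff_le_normalizer hTK, hsub]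
                    exact hT'n
                rw [← hsub, hT₀min _ hTS hTle])
            rfl
          intro x hx
          exact mem_normalizer_of_subgroupOf hAK ⟨x, hT₀K hx⟩ (key (by
            rw [Subgroup.mem_subgroupOf]; exact hx))
        -- the normal closure of N₁ is N
        have hcl : Subgroup.normalClosure (N₁ : Set G) = N := by
          rcases hmin (Subgroup.normalClosure (N₁ : Set G)) inferInstance
            (Subgroup.normalClosure_le_normal hN₁.2.1) with h | h
          · exfalso
            apply hN₁.1
            rw [eq_bot_iff, ← h]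
            exact Subgroup.le_normalClosure
          · exact h
        rw [← hcl, Subgroup.normalClosure]
        rw [Subgroup.closure_le]
        intro a ha
        rw [Group.mem_conjugatesOfSet_iff] at ha
        obtain ⟨x, hx, hxa⟩ := ha
        rw [isConj_iff] at hxa
        obtain ⟨c, rfl⟩ := hxa
        apply hstep c
        rw [mem_conjMap]
        have : c⁻¹ * (c * x * c⁻¹) * c = x := by group
        rw [this]
        exact hx

end Restored

universe u

/-- a minimal normal subgroup that is a `q`-group is elementary abelian -/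
theorem min_normal_ea {G : Type*} [Group G] [Finite G] {q : ℕ} [Fact q.Prime] (N : Subgroup G)
    [N.Normal] (hN0 : N ≠ ⊥)
    (hmin : ∀ B : Subgroup G, B.Normal → B ≤ N → B = ⊥ ∨ B = N) (hNq : IsPGroup q ↥N) :
    Cfsg.IsElementaryAbelian q N := by
  have hq := (Fact.out : q.Prime)
  haveI : Nontrivial ↥N := (Subgroup.nontrivial_iff_ne_bot N).mpr hN0
  have hab : ∀ a ∈ N, ∀ b ∈ N, a * b = b * a := by
    haveI := hNq.center_nontrivial
    have hZn : ((Subgroup.center ↥N).map N.subtype).Normal := inferInstance
    rcases hmin _ hZn (Subgroup.map_subtype_le _) with h | h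
    · exfalso
      have := (Subgroup.map_eq_bot_iff_of_injective _ N.subtype_injective).mp h
      exact (Subgroup.nontrivial_iff_ne_bot _).mp inferInstance this
    · intro a ha b hb
      have h1 : a ∈ (Subgroup.center ↥N).map N.subtype := by rw [h]; exact ha
      obtain ⟨a', ha', rfl⟩ := h1
      have := Subgroup.mem_center_iff.mp ha' ⟨b, hb⟩
      exact (congrArg Subtype.val this).symm
  let Ω : Subgroup G :=
    { carrier := {n | n ∈ N ∧ n ^ q = 1}
      one_mem' := ⟨N.one_mem, one_pow q⟩
      mul_mem' := by
        rintro a b ⟨ha, ha'⟩ ⟨hb, hb'⟩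
        refine ⟨N.mul_mem ha hb, ?_⟩
        have hc : Commute a b := hab a ha b hb
        rw [hc.mul_pow, ha', hb', one_mul]
      inv_mem' := by
        rintro a ⟨ha, ha'⟩
        exact ⟨N.inv_mem ha, by rw [inv_pow, ha', inv_one]⟩ }
  have hΩn : Ω.Normal := ⟨by
    rintro n ⟨hn, hn'⟩ g
    exact ⟨(inferInstance : N.Normal).conj_mem n hn g,
      by rw [conj_pow, hn', mul_one, mul_inv_cancel]⟩⟩
  have hΩle : Ω ≤ N := fun n hn => hn.1
  rcases hmin Ω hΩn hΩle with h | h
  · exfalso
    obtain ⟨k, hk⟩ := IsPGroup.iff_card.mp hNq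
    have hk0 : k ≠ 0 := by
      rintro rfl
      rw [pow_zero] at hk
      have := Finite.one_lt_card (α := ↥N)
      omega
    obtain ⟨z, hz⟩ := exists_prime_orderOf_dvd_card' q (G := ↥N)
      (by rw [hk]; exact dvd_pow_self q hk0)
    have hzΩ : (z : G) ∈ Ω := ⟨z.2, by
      have := pow_orderOf_eq_one z
      rw [hz] at this
      exact congrArg Subtype.val this⟩
    rw [h] at hzΩ
    have hz1 : z = 1 := Subtype.ext (Subgroup.mem_bot.mp hzΩ)
    rw [hz1, orderOf_one] at hz
    exact hq.one_lt.ne hz
  · refine ⟨isMulCommutative_iff.mpr (fun a b => Subtype.ext (hab a a.2 b b.2)), ?_⟩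
    intro a ha
    have : a ∈ Ω := by rw [h]; exact ha
    exact this.2

/-- coprime action: if `P` centralizes every `P`-invariant subgroup `Q` of `N` with
`P ⊔ Q ≠ ⊤`, but not `N`, then `N` is a `q`-group for some prime `q` -/
theorem qgroup_of_coprime {G : Type u} [Group G] [Finite G] {p : ℕ} [Fact p.Prime]
    (P N : Subgroup G) [N.Normal]
    (hP : IsPGroup p ↥P) (hcop : (Nat.card ↥P).Coprime (Nat.card ↥N))
    (hcent : ∀ Q : Subgroup G, Q ≤ N → P ≤ Subgroup.normalizer (Q : Set G) → P ⊔ Q ≠ ⊤ →
      ∀ u ∈ P, ∀ y ∈ Q, u * y = y * u)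
    (hnc : ¬ ∀ u ∈ P, ∀ n ∈ N, u * n = n * u) : ∃ q : ℕ, q.Prime ∧ IsPGroup q ↥N := by
  by_contra hcon
  push Not at hcon
  apply hnc
  have hPN : P ⊓ N = ⊥ := (Subgroup.disjoint_of_coprime_natCard hcop).eq_bot
  have hPnorm : P ≤ Subgroup.normalizer (N : Set G) := by
    rw [Subgroup.normalizer_eq_top_iff.mpr inferInstance]
    exact le_top
  have hsolv : Group.IsSolvable ↥P := by
    haveI := hP.isNilpotent
    infer_instance
  have key : ((Subgroup.centralizer (P : Set G)).subgroupOf N) = ⊤ := by
    apply Cfsg.Agent.Lib_helper5_PParts.eq_top_of_forall_sylow_le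
    intro q _
    obtain ⟨Q, hQ⟩ := Cfsg.Agent.Lib_helper1_Coprime.exists_invariant_sylow P N hPnorm hcop
      (Or.inl hsolv) q
    refine ⟨Q, ?_⟩
    have hQN : (Q : Subgroup ↥N).map N.subtype ≤ N := Subgroup.map_subtype_le _
    have hne : P ⊔ (Q : Subgroup ↥N).map N.subtype ≠ ⊤ := by
      intro htop
      apply hcon q Fact.out
      have hNQ : ∀ n : ↥N, n ∈ (Q : Subgroup ↥N) := by
        intro n
        have h1 : (n : G) ∈ P ⊔ (Q : Subgroup ↥N).map N.subtype := by rw [htop]; trivial
        obtain ⟨u, hu, y, hy, huy⟩ :=
          Cfsg.Agent.Lib_helper2_Comp.mem_sup_of_le_normalizer hQ h1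
        have hu1 : u ∈ P ⊓ N := ⟨hu, by
          have : u = (n : G) * y⁻¹ := by rw [← huy]; group
          rw [this]
          exact N.mul_mem n.2 (N.inv_mem (hQN hy))⟩
        rw [hPN, Subgroup.mem_bot] at hu1
        rw [hu1, one_mul] at huy
        obtain ⟨y', hy', hy'y⟩ := hy
        have : y' = n := Subtype.ext (hy'y.trans huy)
        rw [← this]
        exact hy'
      intro n
      obtain ⟨k, hk⟩ := Q.isPGroup' ⟨n, hNQ n⟩
      exact ⟨k, congrArg Subtype.val hk⟩
    have hc := hcent _ hQN hQ hne
    intro y hy
    rw [Subgroup.mem_subgroupOf, Subgroup.mem_centralizer_iff]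
    intro u hu
    exact hc u hu (y : G) ⟨y, hy, rfl⟩
  intro u hu n hn
  have h1 : (⟨n, hn⟩ : ↥N) ∈ (Subgroup.centralizer (P : Set G)).subgroupOf N := by
    rw [key]; trivial
  rw [Subgroup.mem_subgroupOf, Subgroup.mem_centralizer_iff] at h1
  exact h1 u hu

end Cfsg.Agent.Lib_helper5_MinNormal
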