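import Mathlib

set_option autoImplicit false

namespace Cfsg.Agent.Lib_helper5_PAct

variable {G : Type*} [Group G]

/-- conjugation action of a subgroup `B` normalizing `D` on `D` -/
def conjOn (B D : Subgroup G) (h : B ≤ Subgroup.normalizer (D : Set G)) : MulAction B D where
  smul b d := ⟨(b : G) * d * (b : G)⁻¹, (Subgroup.mem_normalizer_iff.mp (h b.2) d).mp d.2⟩
  one_smul d := by
    apply Subtype.ext
    change ((1 : B) : G) * d * ((1 : B) : G)⁻¹ = d
    simp
  mul_smul a b d := by
    apply Subtype.ext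
    change ((a * b : B) : G) * d * ((a * b : B) : G)⁻¹ = (a : G) * ((b : G) * d * (b : G)⁻¹) * (a : G)⁻¹
    simp [mul_assoc]

/-- a `p`-group normalizing a nontrivial `p`-group centralizes a nontrivial element of it -/
theorem exists_fixed_of_pgroup [Finite G] {p : ℕ} [Fact p.Prime] (B D : Subgroup G)
    (hB : IsPGroup p B) (hD : IsPGroup p D) (hBD : B ≤ Subgroup.normalizer (D : Set G))
    (hD1 : D ≠ ⊥) : ∃ d ∈ D, d ≠ 1 ∧ ∀ b ∈ B, b * d * b⁻¹ = d := by
  have hp := Fact.out (p := p.Prime)
  letI := conjOn B D hBD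
  have hsmul : ∀ (b : B) (d : D), ((b • d : D) : G) = (b : G) * d * (b : G)⁻¹ := fun _ _ => rfl
  have hmod := hB.card_modEq_card_fixedPoints (α := D)
  have hpD : p ∣ Nat.card D := by
    obtain ⟨k, hk⟩ := IsPGroup.iff_card.mp hD
    rw [hk]
    have hk0 : k ≠ 0 := by
      rintro rfl
      rw [pow_zero] at hk
      exact hD1 ((Subgroup.card_eq_one).mp hk)
    exact dvd_pow_self p hk0
  have hpF : p ∣ Nat.card (MulAction.fixedPoints B D) := by
    rw [← Nat.modEq_zero_iff_dvd]
    exact hmod.symm.trans ((Nat.modEq_zero_iff_dvd).mpr hpD)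
  have h1mem : (1 : D) ∈ MulAction.fixedPoints B D := by
    intro b
    apply Subtype.ext
    rw [hsmul]
    simp
  have hcard : 1 < Nat.card (MulAction.fixedPoints B D) := by
    have hpos : 0 < Nat.card (MulAction.fixedPoints B D) := by
      haveI : Nonempty (MulAction.fixedPoints B D) := ⟨⟨1, h1mem⟩⟩
      exact Nat.card_pos
    have := Nat.le_of_dvd hpos hpF
    have := hp.two_le
    omega
  rw [Finite.one_lt_card_iff_nontrivial] at hcard
  obtain ⟨x, hx⟩ := exists_ne (⟨1, h1mem⟩ : MulAction.fixedPoints B D)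
  refine ⟨(x : D), (x : D).2, ?_, ?_⟩
  · intro h
    apply hx
    apply Subtype.ext
    apply Subtype.ext
    exact h
  · intro b hb
    have := x.2 ⟨b, hb⟩
    have h2 := congrArg (Subtype.val : D → G) this
    rw [hsmul] at h2
    exact h2

/-- pairwise commuting `p`-elements generate a `p`-group -/
theorem isPGroup_closure_of_commute {p : ℕ} [Fact p.Prime] (t : Finset G)
    (hcomm : ∀ x ∈ t, ∀ y ∈ t, x * y = y * x) (hp : ∀ x ∈ t, ∃ k : ℕ, orderOf x = p ^ k) :
    IsPGroup p (Subgroup.closure (t : Set G)) := by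
  classical
  induction t using Finset.induction_on with
  | empty =>
    rw [Finset.coe_empty, Subgroup.closure_empty]
    exact IsPGroup.of_bot
  | insert a t ha ih =>
    have ih' := ih (fun x hx y hy => hcomm x (Finset.mem_insert_of_mem hx) y
      (Finset.mem_insert_of_mem hy)) (fun x hx => hp x (Finset.mem_insert_of_mem hx))
    have h1 : Subgroup.closure ((insert a t : Finset G) : Set G)
        = Subgroup.zpowers a ⊔ Subgroup.closure (t : Set G) := by
      rw [Finset.coe_insert, Set.insert_eq, Subgroup.closure_union, Subgroup.zpowers_eq_closure]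
    rw [h1]
    have hz : IsPGroup p (Subgroup.zpowers a) := by
      obtain ⟨k, hk⟩ := hp a (Finset.mem_insert_self a t)
      apply IsPGroup.of_card (n := k)
      rw [Nat.card_zpowers, hk]
    apply IsPGroup.to_sup_of_normal_right' hz ih'
    rw [Subgroup.zpowers_le]
    apply Subgroup.centralizer_le_normalizer
    rw [Subgroup.centralizer_closure, Subgroup.mem_centralizer_iff]
    intro y hy
    exact hcomm y (Finset.mem_insert_of_mem hy) a (Finset.mem_insert_self a t)

theorem isPGroup_closure_of_commute' [Finite G] {p : ℕ} [Fact p.Prime] (s : Set G)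
    (hcomm : ∀ x ∈ s, ∀ y ∈ s, x * y = y * x) (hp : ∀ x ∈ s, ∃ k : ℕ, orderOf x = p ^ k) :
    IsPGroup p (Subgroup.closure s) := by
  have h := isPGroup_closure_of_commute (p := p) (Set.toFinite s).toFinset
    (fun x hx y hy => hcomm x ((Set.Finite.mem_toFinset _).mp hx) y
      ((Set.Finite.mem_toFinset _).mp hy))
    (fun x hx => hp x ((Set.Finite.mem_toFinset _).mp hx))
  rwa [Set.Finite.coe_toFinset] at h

end Cfsg.Agent.Lib_helper5_PAct
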