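import Mathlib
import Cfsg.Prelude.Def_Transfer
import Cfsg.Agent.Lib_helper1_PGroup

set_option autoImplicit false

namespace Cfsg.Agent.Lib_helper5_QuadCount

open Cfsg
open scoped commutatorElement

variable {G : Type*} [Group G]

open Classical in
/-- sign of an element: `1` if trivial, `-1` otherwise -/
noncomputable def sg (w : G) : ℤ := if w = 1 then 1 else -1

theorem sg_one : sg (1 : G) = 1 := by simp [sg]

theorem sg_of_ne {w : G} (h : w ≠ 1) : sg w = -1 := by simp [sg, h]

theorem sg_sq (w : G) : sg w * sg w = 1 := by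
  unfold sg; split_ifs <;> norm_num

theorem sg_mul (Φ : Subgroup G) (hΦ : Nat.card Φ = 2) {w1 w2 : G} (h1 : w1 ∈ Φ) (h2 : w2 ∈ Φ) :
    sg (w1 * w2) = sg w1 * sg w2 := by
  by_cases e1 : w1 = 1
  · rw [e1, one_mul, sg_one, one_mul]
  by_cases e2 : w2 = 1
  · rw [e2, mul_one, sg_one, mul_one]
  obtain ⟨y, -, hy⟩ := (Nat.card_eq_two_iff' (1 : Φ)).mp hΦ
  have h3 : (⟨w1, h1⟩ : Φ) = y := hy _ (fun h => e1 (congrArg Subtype.val h))
  have h4 : (⟨w2, h2⟩ : Φ) = y := hy _ (fun h => e2 (congrArg Subtype.val h))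
  have h5 : w1 = w2 := congrArg Subtype.val (h3.trans h4.symm)
  have h6 : (⟨w1, h1⟩ : Φ) ^ 2 = 1 := by rw [← hΦ]; exact pow_card_eq_one'
  have h7 : w1 * w1 = 1 := by
    have := congrArg Subtype.val h6
    simpa [pow_two] using this
  rw [← h5, h7, sg_one, sg_of_ne e1]
  norm_num

open Classical in
/-- indicator of a proposition -/
noncomputable def ind (P : Prop) : ℤ := if P then 1 else 0

theorem ind_pos {P : Prop} (h : P) : ind P = 1 := by simp [ind, h]

theorem ind_neg {P : Prop} (h : ¬ P) : ind P = 0 := by simp [ind, h]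

section Main

variable (Φ : Subgroup G) (hΦ : Nat.card Φ = 2) (hc : Φ ≤ Subgroup.center G)
  (hsq : ∀ x : G, x * x ∈ Φ) (hcomm : ∀ x y : G, y * x * y⁻¹ * x⁻¹ ∈ Φ)

include hΦ hc hsq hcomm

theorem eps_mul (u y : G) :
    sg ((u * y) * (u * y)) = sg (u * u) * sg (y * y) * sg (y * u * y⁻¹ * u⁻¹) := by
  have hcen : ∀ g : G, g * (y * u * y⁻¹ * u⁻¹) = (y * u * y⁻¹ * u⁻¹) * g :=
    Subgroup.mem_center_iff.mp (hc (hcomm u y))
  have hmem := hcomm u y
  obtain ⟨c, hcdef⟩ : ∃ c, c = y * u * y⁻¹ * u⁻¹ := ⟨_, rfl⟩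
  rw [← hcdef] at hcen hmem ⊢
  have hyu : y * u = c * (u * y) := by rw [hcdef]; group
  have h1 : (u * y) * (u * y) = c * (u * u) * (y * y) := by
    calc u * y * (u * y) = u * (y * u) * y := by simp only [mul_assoc]
      _ = u * (c * (u * y)) * y := by rw [hyu]
      _ = (u * c) * (u * y) * y := by simp only [mul_assoc]
      _ = (c * u) * (u * y) * y := by rw [hcen u]
      _ = c * (u * u) * (y * y) := by simp only [mul_assoc]
  rw [h1, sg_mul Φ hΦ (Φ.mul_mem hmem (hsq u)) (hsq y), sg_mul Φ hΦ hmem (hsq u)]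
  ring

omit hsq in
theorem sum_beta [Fintype G] (u : G) : ∑ y : G, sg (y * u * y⁻¹ * u⁻¹) =
    (Fintype.card G : ℤ) * ind (u ∈ Subgroup.center G) := by
  by_cases hu : u ∈ Subgroup.center G
  · have h1 : ∀ y : G, sg (y * u * y⁻¹ * u⁻¹) = 1 := by
      intro y
      have h2 := Subgroup.mem_center_iff.mp hu y
      rw [h2]
      have h3 : u * y * y⁻¹ * u⁻¹ = 1 := by group
      rw [h3, sg_one]
    rw [ind_pos hu]
    simp [h1]
  · rw [ind_neg hu, mul_zero]
    rw [Subgroup.mem_center_iff] at hu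
    push Not at hu
    obtain ⟨y0, hy0⟩ := hu
    have hb0 : sg (y0 * u * y0⁻¹ * u⁻¹) = -1 := by
      apply sg_of_ne
      intro h
      apply hy0
      calc y0 * u = (y0 * u * y0⁻¹ * u⁻¹) * (u * y0) := by group
        _ = u * y0 := by rw [h, one_mul]
    have hmul : ∀ y : G, sg ((y * y0) * u * (y * y0)⁻¹ * u⁻¹) =
        sg (y0 * u * y0⁻¹ * u⁻¹) * sg (y * u * y⁻¹ * u⁻¹) := by
      intro y
      have hcen := Subgroup.mem_center_iff.mp (hc (hcomm u y0))
      have hmem := hcomm u y0
      have h1 : (y * y0) * u * (y * y0)⁻¹ * u⁻¹ =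
          (y0 * u * y0⁻¹ * u⁻¹) * (y * u * y⁻¹ * u⁻¹) := by
        obtain ⟨c, hcdef⟩ : ∃ c, c = y0 * u * y0⁻¹ * u⁻¹ := ⟨_, rfl⟩
        rw [← hcdef] at hcen ⊢
        have h2 : y0 * u * y0⁻¹ = c * u := by rw [hcdef]; group
        calc y * y0 * u * (y * y0)⁻¹ * u⁻¹ = y * (y0 * u * y0⁻¹) * y⁻¹ * u⁻¹ := by group
          _ = y * (c * u) * y⁻¹ * u⁻¹ := by rw [h2]
          _ = (y * c) * u * y⁻¹ * u⁻¹ := by simp only [mul_assoc]
          _ = (c * y) * u * y⁻¹ * u⁻¹ := by rw [hcen y]
          _ = c * (y * u * y⁻¹ * u⁻¹) := by simp only [mul_assoc]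
      rw [h1, sg_mul Φ hΦ hmem (hcomm u y)]
    have h3 : ∑ y : G, sg (y * u * y⁻¹ * u⁻¹) =
        ∑ y : G, sg ((y * y0) * u * (y * y0)⁻¹ * u⁻¹) :=
      (Equiv.sum_comp (Equiv.mulRight y0) (fun y => sg (y * u * y⁻¹ * u⁻¹))).symm
    simp_rw [hmul, hb0] at h3
    rw [← Finset.mul_sum] at h3
    linarith

theorem sq_sum_eq [Fintype G] : (∑ x : G, sg (x * x)) ^ 2 = (Fintype.card G : ℤ) *
    ∑ u : G, ind (u ∈ Subgroup.center G) * sg (u * u) := by
  rw [pow_two, Finset.sum_mul_sum]
  have h1 : ∀ y : G, ∑ x : G, sg (x * x) * sg (y * y) =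
      ∑ u : G, sg (u * u) * sg (y * u * y⁻¹ * u⁻¹) := by
    intro y
    rw [← Equiv.sum_comp (Equiv.mulRight y) (fun x => sg (x * x) * sg (y * y))]
    apply Finset.sum_congr rfl
    intro u _
    show sg ((u * y) * (u * y)) * sg (y * y) = _
    rw [eps_mul Φ hΦ hc hsq hcomm u y]
    have h2 := sg_sq (y * y)
    linear_combination (sg (u * u) * sg (y * u * y⁻¹ * u⁻¹)) * h2
  rw [Finset.sum_comm, Finset.sum_congr rfl (fun y _ => h1 y), Finset.sum_comm]
  simp_rw [← Finset.mul_sum, sum_beta Φ hΦ hc hcomm]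
  rw [Finset.mul_sum]
  apply Finset.sum_congr rfl
  intro u _
  ring

theorem center_sum [Fintype G] : (∑ u : G, ind (u ∈ Subgroup.center G) * sg (u * u)) = 0 ∨
    ((∑ u : G, ind (u ∈ Subgroup.center G) * sg (u * u)) =
        (Nat.card (Subgroup.center G) : ℤ) ∧ ∀ u ∈ Subgroup.center G, u * u = 1) := by
  classical
  by_cases h : ∀ u ∈ Subgroup.center G, u * u = 1
  · right
    refine ⟨?_, h⟩
    have h1 : ∀ u : G, ind (u ∈ Subgroup.center G) * sg (u * u) =
        if u ∈ Subgroup.center G then (1 : ℤ) else 0 := by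
      intro u
      split_ifs with hu
      · rw [h u hu, sg_one, ind_pos hu, mul_one]
      · rw [ind_neg hu, zero_mul]
    simp_rw [h1]
    rw [Finset.sum_boole, Nat.card_eq_fintype_card, Fintype.card_subtype]
  · left
    push Not at h
    obtain ⟨u0, hu0, hu0'⟩ := h
    have hε0 : sg (u0 * u0) = -1 := sg_of_ne hu0'
    have hmul : ∀ u : G, ind (u * u0 ∈ Subgroup.center G) * sg ((u * u0) * (u * u0)) =
        - (ind (u ∈ Subgroup.center G) * sg (u * u)) := by
      intro u
      have hiff : u * u0 ∈ Subgroup.center G ↔ u ∈ Subgroup.center G := by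
        constructor
        · intro h1
          have := Subgroup.mul_mem _ h1 (Subgroup.inv_mem _ hu0)
          simpa using this
        · intro h1
          exact Subgroup.mul_mem _ h1 hu0
      by_cases hu : u ∈ Subgroup.center G
      · rw [ind_pos (hiff.mpr hu), ind_pos hu, eps_mul Φ hΦ hc hsq hcomm u u0, hε0]
        have h2 : u0 * u * u0⁻¹ * u⁻¹ = 1 := by
          have h3 := Subgroup.mem_center_iff.mp hu0 u
          rw [← h3]
          group
        rw [h2, sg_one]
        ring
      · rw [ind_neg (fun h => hu (hiff.mp h)), ind_neg hu, zero_mul, zero_mul, neg_zero]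
    have h3 := Equiv.sum_comp (Equiv.mulRight u0)
      (fun u => ind (u ∈ Subgroup.center G) * sg (u * u))
    simp only [Equiv.coe_mulRight] at h3
    rw [Finset.sum_congr rfl (fun u _ => hmul u), Finset.sum_neg_distrib] at h3
    linarith

end Main

theorem main [Finite G] (hG : IsPGroup 2 G) (hΦ : Nat.card (frattini G) = 2) (d : ℕ)
    (hd : (frattini G).index = 2 ^ d) :
    (Nat.card {x : G // x ^ 2 = 1} = 2 ^ d ∨ ∃ r : ℕ, 1 ≤ r ∧ 2 * r ≤ d ∧
      (Nat.card {x : G // x ^ 2 = 1} = 2 ^ d + 2 ^ (d - r) ∨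
        Nat.card {x : G // x ^ 2 = 1} + 2 ^ (d - r) = 2 ^ d)) ∧
    (∀ r : ℕ, d = 2 * r → (Nat.card {x : G // x ^ 2 = 1} = 2 ^ d + 2 ^ r ∨
      Nat.card {x : G // x ^ 2 = 1} + 2 ^ r = 2 ^ d) → Cfsg.IsExtraspecial 2 G) := by
  classical
  haveI : Fact (Nat.Prime 2) := ⟨Nat.prime_two⟩
  haveI := Fintype.ofFinite G
  have hsq : ∀ x : G, x * x ∈ frattini G := fun x => by
    have := Lib_helper1_PGroup.pow_p_mem_frattini hG x
    rwa [pow_two] at this
  have hcomm : ∀ x y : G, y * x * y⁻¹ * x⁻¹ ∈ frattini G := fun x y => by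
    apply Lib_helper1_PGroup.commutator_le_frattini hG
    have : y * x * y⁻¹ * x⁻¹ = ⁅y, x⁆ := (commutatorElement_def y x).symm
    rw [this]
    exact Subgroup.commutator_mem_commutator (Subgroup.mem_top _) (Subgroup.mem_top _)
  have hc : frattini G ≤ Subgroup.center G := by
    intro w hw
    rw [Subgroup.mem_center_iff]
    intro g
    by_cases hw1 : w = 1
    · rw [hw1, mul_one, one_mul]
    obtain ⟨y, -, hy⟩ := (Nat.card_eq_two_iff' (1 : frattini G)).mp hΦ
    have hn : g * w * g⁻¹ ∈ frattini G :=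
      (inferInstance : (frattini G).Normal).conj_mem w hw g
    have h1 : (⟨w, hw⟩ : frattini G) = y := hy _ (fun h => hw1 (congrArg Subtype.val h))
    have h2 : (⟨g * w * g⁻¹, hn⟩ : frattini G) = y := hy _ (fun h => hw1 (by
      have h3 : g * w * g⁻¹ = 1 := congrArg Subtype.val h
      calc w = g⁻¹ * (g * w * g⁻¹) * g := by group
        _ = 1 := by rw [h3]; group))
    have h3 : g * w * g⁻¹ = w := congrArg Subtype.val (h2.trans h1.symm)
    calc g * w = g * w * g⁻¹ * g := by group
      _ = w * g := by rw [h3]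
  have hcardG : Nat.card G = 2 ^ (d + 1) := by
    rw [← Subgroup.card_mul_index (frattini G), hΦ, hd, pow_succ, mul_comm]
  obtain ⟨J, hJ⟩ : ∃ J, J = Nat.card {x : G // x ^ 2 = 1} := ⟨_, rfl⟩
  rw [← hJ]
  have hJcard : J = (Finset.univ.filter (fun x : G => x * x = 1)).card := by
    rw [hJ, Nat.card_eq_fintype_card, Fintype.card_subtype]
    congr 1
    apply Finset.filter_congr
    intro x _
    rw [pow_two]
  have hS : ∑ x : G, sg (x * x) = 2 * (J : ℤ) - (2 : ℤ) ^ (d + 1) := by
    have h1 : ∀ x : G, sg (x * x) = 2 * (if x * x = 1 then (1 : ℤ) else 0) - 1 := by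
      intro x
      unfold sg
      split_ifs <;> norm_num
    simp_rw [h1]
    rw [Finset.sum_sub_distrib, ← Finset.mul_sum, Finset.sum_boole, ← hJcard, Finset.sum_const,
      Finset.card_univ, ← Nat.card_eq_fintype_card, hcardG]
    simp
  have hsq_sum := sq_sum_eq (frattini G) hΦ hc hsq hcomm
  rw [hS, ← Nat.card_eq_fintype_card, hcardG] at hsq_sum
  have key : J = 2 ^ d ∨ ∃ a e : ℕ, Nat.card (Subgroup.center G) = 2 ^ e ∧ 1 ≤ e ∧ e + 1 ≤ d ∧
      2 * a = d + 1 + e ∧ (J = 2 ^ d + 2 ^ (a - 1) ∨ J + 2 ^ (a - 1) = 2 ^ d) ∧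
      ¬ (∀ x y : G, x * y = y * x) := by
    rcases center_sum (frattini G) hΦ hc hsq hcomm with hT | ⟨hT, hZ⟩
    · left
      rw [hT, mul_zero] at hsq_sum
      have h1 : 2 * (J : ℤ) - (2 : ℤ) ^ (d + 1) = 0 := by simpa using hsq_sum
      have h2 : 2 * J = 2 ^ (d + 1) := by
        have : 2 * (J : ℤ) = (2 : ℤ) ^ (d + 1) := by linarith
        exact_mod_cast this
      rw [pow_succ] at h2
      omega
    · right
      have hna : ¬ (∀ x y : G, x * y = y * x) := by
        intro hab
        have h1 : frattini G = ⊥ :=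
          Lib_helper1_PGroup.frattini_eq_bot_of_elementary (p := 2) hab (fun y => by
            rw [pow_two]
            exact hZ y (Subgroup.mem_center_iff.mpr (fun g => hab g y)))
        rw [h1, Subgroup.card_bot] at hΦ
        omega
      obtain ⟨e, he⟩ := (IsPGroup.iff_card).mp (hG.to_subgroup (Subgroup.center G))
      have he1 : 1 ≤ e := by
        by_contra h
        have h0 : e = 0 := by omega
        rw [h0, pow_zero] at he
        have h1 := Subgroup.card_le_of_le hc
        omega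
      have hed' : e ≤ d + 1 := by
        have := Subgroup.card_le_card_group (Subgroup.center G)
        rw [he, hcardG] at this
        exact (Nat.pow_le_pow_iff_right (by norm_num)).mp this
      have hed : e + 1 ≤ d := by
        by_contra h
        apply hna
        have hidx : (Subgroup.center G).index * 2 ^ e = 2 ^ (d + 1) := by
          rw [← he, ← hcardG, mul_comm]
          exact Subgroup.card_mul_index _
        have hidx2 : (Subgroup.center G).index = 2 ^ (d + 1 - e) := by
          have : 2 ^ (d + 1) = 2 ^ (d + 1 - e) * 2 ^ e := by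
            rw [← pow_add]; congr 1; omega
          rw [this] at hidx
          exact Nat.eq_of_mul_eq_mul_right (by positivity) hidx
        haveI : IsCyclic (G ⧸ Subgroup.center G) := by
          have hq : Nat.card (G ⧸ Subgroup.center G) = 2 ^ (d + 1 - e) := hidx2
          rcases Nat.lt_or_ge (d + 1 - e) 1 with h0 | h1
          · have : d + 1 - e = 0 := by omega
            rw [this, pow_zero] at hq
            haveI : Subsingleton (G ⧸ Subgroup.center G) := (Nat.card_eq_one_iff_unique.mp hq).1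
            exact isCyclic_of_subsingleton
          · have : d + 1 - e = 1 := by omega
            rw [this, pow_one] at hq
            exact isCyclic_of_prime_card hq
        exact fun x y => (MonoidHom.isMulCommutative_of_isCyclic_of_ker_le_center
          (QuotientGroup.mk' (Subgroup.center G)) (by rw [QuotientGroup.ker_mk'])).is_comm.comm x y
      rw [hT, he] at hsq_sum
      obtain ⟨s, hs⟩ : ∃ s : ℕ, s = (2 * (J : ℤ) - (2 : ℤ) ^ (d + 1)).natAbs := ⟨_, rfl⟩
      have hs2 : s ^ 2 = 2 ^ (d + 1 + e) := by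
        have h1 : ((s ^ 2 : ℕ) : ℤ) = ((2 ^ (d + 1 + e) : ℕ) : ℤ) := by
          push_cast
          rw [hs, Int.natAbs_sq, hsq_sum, pow_add]
          push_cast
          ring
        exact_mod_cast h1
      obtain ⟨a, -, ha⟩ := (Nat.dvd_prime_pow Nat.prime_two).mp
        (Dvd.intro_left s (by rw [← hs2, pow_two]) : s ∣ 2 ^ (d + 1 + e))
      rw [ha, ← pow_mul] at hs2
      have h2a : a * 2 = d + 1 + e := Nat.pow_right_injective (le_refl 2) hs2
      refine ⟨a, e, he, he1, hed, by omega, ?_, hna⟩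
      have ha1 : 1 ≤ a := by omega
      have hpa : (2 : ℕ) ^ a = 2 * 2 ^ (a - 1) := by
        rw [← pow_succ']; congr 1; omega
      rcases Int.natAbs_eq (2 * (J : ℤ) - (2 : ℤ) ^ (d + 1)) with h | h
      · left
        rw [← hs, ha] at h
        have h3 : 2 * J = 2 ^ (d + 1) + 2 ^ a := by
          have : 2 * (J : ℤ) = (2 : ℤ) ^ (d + 1) + ((2 ^ a : ℕ) : ℤ) := by linarith
          exact_mod_cast this
        rw [pow_succ, hpa] at h3
        omega
      · right
        rw [← hs, ha] at h
        have h3 : 2 * J + 2 ^ a = 2 ^ (d + 1) := by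
          have : 2 * (J : ℤ) + ((2 ^ a : ℕ) : ℤ) = (2 : ℤ) ^ (d + 1) := by linarith
          exact_mod_cast this
        rw [pow_succ, hpa] at h3
        omega
  constructor
  · rcases key with h | ⟨a, e, he, he1, hed, h2a, hJ2, hna⟩
    · left; exact h
    · right
      refine ⟨d + 1 - a, by omega, by omega, ?_⟩
      have : d - (d + 1 - a) = a - 1 := by omega
      rw [this]
      exact hJ2
  · intro r hdr hJr
    have hpos1 : 0 < 2 ^ r := by positivity
    rcases key with h | ⟨a, e, he, he1, hed, h2a, hJ2, hna⟩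
    · exfalso
      rcases hJr with h' | h' <;> omega
    · have hpos2 : 0 < 2 ^ (a - 1) := by positivity
      have hpw : 2 ^ (a - 1) = 2 ^ r := by
        rcases hJr with h' | h' <;> rcases hJ2 with h'' | h'' <;> omega
      have har : a - 1 = r := Nat.pow_right_injective (le_refl 2) hpw
      have he' : e = 1 := by omega
      rw [he', pow_one] at he
      have hΦZ : frattini G = Subgroup.center G :=
        Subgroup.eq_of_le_of_card_ge hc (by rw [hΦ, he])
      refine ⟨⟨hG, hΦZ, ?_⟩, he⟩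
      have hcle : commutator G ≤ Subgroup.center G :=
        hΦZ ▸ Lib_helper1_PGroup.commutator_le_frattini hG
      apply Subgroup.eq_of_le_of_card_ge hcle
      rw [he]
      have hne : commutator G ≠ ⊥ := by
        intro hbot
        apply hna
        intro x y
        have h1 : ⁅x, y⁆ ∈ commutator G :=
          Subgroup.commutator_mem_commutator (Subgroup.mem_top _) (Subgroup.mem_top _)
        rw [hbot, Subgroup.mem_bot, commutatorElement_eq_one_iff_mul_comm] at h1
        exact h1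
      have := (Subgroup.one_lt_card_iff_ne_bot _).mpr hne
      omega

end Cfsg.Agent.Lib_helper5_QuadCount
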