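import Mathlib

set_option autoImplicit false

namespace Cfsg.Agent.Lib_helper6_ConjClass

variable {G : Type*} [Group G]

/-- the number of `N`-conjugates of `x`, times the order of `C_N(x)`, is the order of `N` -/
theorem card_conj_orbit_mul [Finite G] (N : Subgroup G) (x : G) :
    Nat.card {g : G // ∃ n ∈ N, g = n * x * n⁻¹} *
      Nat.card (N ⊓ Subgroup.centralizer ({x} : Set G) : Subgroup G) = Nat.card N := by
  classical
  set C : Subgroup N := (Subgroup.centralizer ({x} : Set G)).subgroupOf N with hC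
  have hmemC : ∀ n : N, n ∈ C ↔ (n : G) * x = x * (n : G) := by
    intro n
    rw [hC, Subgroup.mem_subgroupOf, Subgroup.mem_centralizer_iff]
    constructor
    · intro h; exact (h x rfl).symm
    · intro h y hy
      rw [Set.mem_singleton_iff] at hy
      rw [hy]; exact h.symm
  have hwd : ∀ a b : N, (QuotientGroup.leftRel C).r a b →
      (a : G) * x * (a : G)⁻¹ = (b : G) * x * (b : G)⁻¹ := by
    intro a b hab
    have hab' : a⁻¹ * b ∈ C := QuotientGroup.leftRel_apply.mp hab
    rw [hmemC] at hab'
    have h1 : (a : G)⁻¹ * (b : G) * x = x * ((a : G)⁻¹ * (b : G)) := by simpa using hab'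
    calc (a : G) * x * (a : G)⁻¹ = (a : G) * (x * ((a : G)⁻¹ * (b : G))) * (b : G)⁻¹ := by group
      _ = (a : G) * ((a : G)⁻¹ * (b : G) * x) * (b : G)⁻¹ := by rw [h1]
      _ = (b : G) * x * (b : G)⁻¹ := by group
  let φ : N ⧸ C → {g : G // ∃ n ∈ N, g = n * x * n⁻¹} := fun q =>
    Quotient.liftOn' q (fun a : N => (⟨(a : G) * x * (a : G)⁻¹, ⟨a, a.2, rfl⟩⟩ :
      {g : G // ∃ n ∈ N, g = n * x * n⁻¹})) (fun a b hab => Subtype.ext (hwd a b hab))
  have hφ : Function.Bijective φ := by
    constructor
    · intro q1 q2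
      induction q1 using QuotientGroup.induction_on with
      | H a =>
        induction q2 using QuotientGroup.induction_on with
        | H b =>
          intro h
          have h' : (a : G) * x * (a : G)⁻¹ = (b : G) * x * (b : G)⁻¹ := congrArg Subtype.val h
          apply QuotientGroup.eq.mpr
          rw [hmemC]
          have : ((a⁻¹ * b : N) : G) = (a : G)⁻¹ * (b : G) := by simp
          rw [this]
          calc (a : G)⁻¹ * (b : G) * x = (a : G)⁻¹ * ((b : G) * x * (b : G)⁻¹) * (b : G) := by group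
            _ = (a : G)⁻¹ * ((a : G) * x * (a : G)⁻¹) * (b : G) := by rw [h']
            _ = x * ((a : G)⁻¹ * (b : G)) := by group
    · rintro ⟨g, n, hn, rfl⟩
      exact ⟨QuotientGroup.mk ⟨n, hn⟩, rfl⟩
  have h1 : Nat.card {g : G // ∃ n ∈ N, g = n * x * n⁻¹} = C.index := by
    rw [Subgroup.index]
    exact (Nat.card_eq_of_bijective φ hφ).symm
  have h2 : Nat.card (N ⊓ Subgroup.centralizer ({x} : Set G) : Subgroup G) = Nat.card C := by
    rw [hC, ← Subgroup.inf_subgroupOf_left]
    exact (Nat.card_congr (Subgroup.subgroupOfEquivOfLe inf_le_left).toEquiv).symm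
  rw [h1, h2, mul_comm]
  exact C.card_mul_index

theorem card_conj_orbit [Finite G] (N : Subgroup G) (x : G) :
    Nat.card {g : G // ∃ n ∈ N, g = n * x * n⁻¹} =
      Nat.card N / Nat.card (N ⊓ Subgroup.centralizer ({x} : Set G) : Subgroup G) := by
  symm
  apply Nat.div_eq_of_eq_mul_left Nat.card_pos
  exact (card_conj_orbit_mul N x).symm

end Cfsg.Agent.Lib_helper6_ConjClass
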