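import Mathlib

set_option autoImplicit false

namespace Cfsg.Agent.Lib_helper6_Cover

open MulAction in
/-- a finite group is not the union of the conjugates of a proper subgroup -/
theorem exists_not_mem_conj {G : Type*} [Group G] [Finite G] (M : Subgroup G) (hM : M ≠ ⊤) :
    ∃ g : G, ∀ x : G, x⁻¹ * g * x ∉ M := by
  classical
  by_contra hcon
  push Not at hcon
  haveI := Fintype.ofFinite G
  haveI : Fintype (G ⧸ M) := Fintype.ofFinite _
  haveI : Fintype (Quotient (orbitRel G (G ⧸ M))) := Fintype.ofFinite _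
  have burn := sum_card_fixedBy_eq_card_orbits_mul_card_group G (G ⧸ M)
  have horb : Fintype.card (Quotient (orbitRel G (G ⧸ M))) = 1 := by
    rw [Fintype.card_eq_one_iff]
    refine ⟨Quotient.mk'' (QuotientGroup.mk 1), ?_⟩
    intro q
    induction q using Quotient.inductionOn' with
    | h a =>
      apply Quotient.sound'
      exact MulAction.exists_smul_eq G _ _
  rw [horb, one_mul] at burn
  have hge : ∀ g : G, 1 ≤ Fintype.card (fixedBy (G ⧸ M) g) := by
    intro g
    obtain ⟨x, hx⟩ := hcon g
    rw [Nat.succ_le_iff, Fintype.card_pos_iff]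
    refine ⟨⟨QuotientGroup.mk x, ?_⟩⟩
    rw [mem_fixedBy]
    show (QuotientGroup.mk (g * x) : G ⧸ M) = QuotientGroup.mk x
    rw [QuotientGroup.eq]
    have := M.inv_mem hx
    have e : (x⁻¹ * g * x)⁻¹ = (g * x)⁻¹ * x := by group
    rwa [e] at this
  have hone : 1 < Fintype.card (fixedBy (G ⧸ M) (1 : G)) := by
    have h1 : Fintype.card (fixedBy (G ⧸ M) (1 : G)) = Fintype.card (G ⧸ M) := by
      apply Fintype.card_of_subtype
      intro q
      simp
    rw [h1]
    have h2 : Fintype.card (G ⧸ M) = M.index := by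
      rw [Subgroup.index, Nat.card_eq_fintype_card]
    rw [h2]
    have h3 : M.index ≠ 1 := fun h => hM (Subgroup.index_eq_one.mp h)
    have h4 : M.index ≠ 0 := Subgroup.FiniteIndex.index_ne_zero
    omega
  have hlt : ∑ _g : G, 1 < ∑ g : G, Fintype.card (fixedBy (G ⧸ M) g) :=
    Finset.sum_lt_sum (fun g _ => hge g) ⟨1, Finset.mem_univ _, hone⟩
  rw [burn] at hlt
  simp at hlt

end Cfsg.Agent.Lib_helper6_Cover
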