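import Mathlib

set_option autoImplicit false

namespace Cfsg.Agent.Lib_helper6_Index

variable {G : Type*} [Group G]

/-- for `A` normal, `[A : A ∩ H] = [AH : H]` -/
theorem relIndex_eq_relIndex_sup [Finite G] (H A : Subgroup G) [A.Normal] :
    H.relIndex A = H.relIndex (A ⊔ H) := by
  have e1 : Nat.card A = Nat.card (H ⊓ A : Subgroup G) * H.relIndex A := by
    have := Subgroup.relIndex_mul_relIndex ⊥ (H ⊓ A) A bot_le inf_le_right
    rw [Subgroup.relIndex_bot_left, Subgroup.relIndex_bot_left, Subgroup.inf_relIndex_right] at this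
    exact this.symm
  have e2 : Nat.card H = Nat.card (H ⊓ A : Subgroup G) * A.relIndex H := by
    have := Subgroup.relIndex_mul_relIndex ⊥ (H ⊓ A) H bot_le inf_le_left
    rw [Subgroup.relIndex_bot_left, Subgroup.relIndex_bot_left, Subgroup.inf_relIndex_left] at this
    exact this.symm
  have e3 : Nat.card (A ⊔ H : Subgroup G) = Nat.card A * A.relIndex H := by
    have := Subgroup.relIndex_mul_relIndex ⊥ A (A ⊔ H) bot_le le_sup_left
    rw [Subgroup.relIndex_bot_left, Subgroup.relIndex_bot_left, Subgroup.relIndex_sup_left] at this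
    exact this.symm
  have e4 : Nat.card (A ⊔ H : Subgroup G) = Nat.card H * H.relIndex (A ⊔ H) := by
    have := Subgroup.relIndex_mul_relIndex ⊥ H (A ⊔ H) bot_le le_sup_right
    rw [Subgroup.relIndex_bot_left, Subgroup.relIndex_bot_left] at this
    exact this.symm
  have hpos1 : 0 < Nat.card (H ⊓ A : Subgroup G) := Nat.card_pos
  have hpos2 : 0 < A.relIndex H := by
    rcases Nat.eq_zero_or_pos (A.relIndex H) with h | h
    · rw [h, mul_zero] at e2
      have : 0 < Nat.card H := Nat.card_pos
      omega
    · exact h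
  rw [e1] at e3
  rw [e3, e2] at e4
  have e5 : Nat.card (H ⊓ A : Subgroup G) * A.relIndex H * H.relIndex A =
      Nat.card (H ⊓ A : Subgroup G) * A.relIndex H * H.relIndex (A ⊔ H) := by
    rw [← e4]; ring
  exact Nat.eq_of_mul_eq_mul_left (Nat.mul_pos hpos1 hpos2) e5

/-- for `A` normal, `[A : A ∩ H]` divides `[G : H]` -/
theorem relIndex_dvd_index_of_normal_right [Finite G] (H A : Subgroup G) [A.Normal] :
    H.relIndex A ∣ H.index := by
  rw [relIndex_eq_relIndex_sup]
  exact Subgroup.relIndex_dvd_index_of_le le_sup_right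

end Cfsg.Agent.Lib_helper6_Index
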