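import Mathlib

set_option autoImplicit false

namespace Cfsg.Agent.Lib_helper6_OrderCount

/-- number of solutions of `g ^ n = 1` is the sum over divisors of the numbers of elements of each
order -/
theorem card_pow_eq_one_eq_sum {G : Type*} [Group G] [Finite G] (n : ℕ) (hn : 0 < n) :
    Nat.card {g : G // g ^ n = 1} = ∑ d ∈ n.divisors, Nat.card {g : G // orderOf g = d} := by
  classical
  haveI := Fintype.ofFinite G
  have h1 : Nat.card {g : G // g ^ n = 1} = (Finset.univ.filter (fun g : G => g ^ n = 1)).card := by
    rw [Nat.card_eq_fintype_card, Fintype.card_subtype]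
  have h2 : ∀ d, Nat.card {g : G // orderOf g = d} =
      (Finset.univ.filter (fun g : G => orderOf g = d)).card := by
    intro d
    rw [Nat.card_eq_fintype_card, Fintype.card_subtype]
  rw [h1]
  simp_rw [h2]
  rw [Finset.card_eq_sum_card_fiberwise (f := orderOf) (t := n.divisors)]
  · apply Finset.sum_congr rfl
    intro d hd
    congr 1
    ext g
    simp only [Finset.mem_filter, Finset.mem_univ, true_and, and_iff_right_iff_imp]
    intro hg
    rw [← orderOf_dvd_iff_pow_eq_one, hg]
    exact Nat.dvd_of_mem_divisors hd
  · intro g hg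
    rw [Finset.mem_coe, Finset.mem_filter] at hg
    rw [Finset.mem_coe]
    exact Nat.mem_divisors.mpr ⟨orderOf_dvd_of_pow_eq_one hg.2, hn.ne'⟩

theorem card_orderOf_eq_zero {G : Type*} [Group G] [Finite G] :
    Nat.card {g : G // orderOf g = 0} = 0 := by
  haveI : IsEmpty {g : G // orderOf g = 0} := ⟨fun g => (orderOf_pos g.1).ne' g.2⟩
  exact Nat.card_of_isEmpty

theorem card_pow_card_eq_one {G : Type*} [Group G] [Finite G] (m : ℕ) :
    Nat.card {g : G // g ^ (Nat.card G * m) = 1} = Nat.card G := by
  apply Nat.card_congr
  exact Equiv.subtypeUnivEquiv (fun g => by rw [pow_mul, pow_card_eq_one', one_pow])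

/-- same order statistics iff same numbers of solutions of `x ^ n = 1` -/
theorem orderCount_iff {G H : Type*} [Group G] [Finite G] [Group H] [Finite H] :
    (∀ n : ℕ, Nat.card {g : G // orderOf g = n} = Nat.card {h : H // orderOf h = n}) ↔
      ∀ n : ℕ, Nat.card {g : G // g ^ n = 1} = Nat.card {h : H // h ^ n = 1} := by
  constructor
  · intro h n
    have hpos : ∀ n : ℕ, 0 < n →
        Nat.card {g : G // g ^ n = 1} = Nat.card {h : H // h ^ n = 1} := by
      intro n hn
      rw [card_pow_eq_one_eq_sum n hn, card_pow_eq_one_eq_sum n hn]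
      exact Finset.sum_congr rfl (fun d _ => h d)
    rcases Nat.eq_zero_or_pos n with rfl | hn
    · have hG := card_pow_card_eq_one (G := G) (Nat.card H)
      have hH := card_pow_card_eq_one (G := H) (Nat.card G)
      have h3 := hpos (Nat.card G * Nat.card H) (Nat.mul_pos Nat.card_pos Nat.card_pos)
      rw [hG, mul_comm, hH] at h3
      simp only [pow_zero]
      rw [Nat.card_congr (Equiv.subtypeUnivEquiv (fun _ => trivial)),
        Nat.card_congr (Equiv.subtypeUnivEquiv (fun _ => trivial))]
      exact h3
    · exact hpos n hn
  · intro h n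
    induction n using Nat.strong_induction_on with
    | _ n ih =>
      rcases Nat.eq_zero_or_pos n with rfl | hn
      · rw [card_orderOf_eq_zero, card_orderOf_eq_zero]
      · have hG := card_pow_eq_one_eq_sum (G := G) n hn
        have hH := card_pow_eq_one_eq_sum (G := H) n hn
        rw [← Nat.insert_self_properDivisors hn.ne',
          Finset.sum_insert Nat.self_notMem_properDivisors] at hG hH
        have hsum : ∑ d ∈ n.properDivisors, Nat.card {g : G // orderOf g = d} =
            ∑ d ∈ n.properDivisors, Nat.card {g : H // orderOf g = d} :=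
          Finset.sum_congr rfl (fun d hd => ih d (Nat.mem_properDivisors.mp hd).2)
        have := h n
        omega

end Cfsg.Agent.Lib_helper6_OrderCount
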