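import Mathlib
import Cfsg.Agent.Lib_helper6_Conj
import Cfsg.Agent.Lib_helper6_Sylow

set_option autoImplicit false
open Pointwise

namespace Cfsg.Agent.Lib_helper6_Sylow2

variable {G : Type*} [Group G]

/-- the image in `G` of a conjugate (inside `S`) of a Sylow subgroup of `S` -/
theorem map_smul_sylow {p : ℕ} (S : Subgroup G) (P : Sylow p S) (s : S) :
    ((s • P : Sylow p S) : Subgroup S).map S.subtype =
      ((P : Subgroup S).map S.subtype).map (MulAut.conj (s : G)).toMonoidHom := by
  ext y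
  rw [Lib_helper6_Conj.mem_conjMap]
  constructor
  · rintro ⟨z, hz, rfl⟩
    rw [SetLike.mem_coe, Lib_helper6_Sylow.mem_smul_sylow] at hz
    exact ⟨_, hz, rfl⟩
  · rintro ⟨z, hz, hzy⟩
    have hy : y ∈ S := by
      have h1 : (s : G) * (S.subtype z) * (s : G)⁻¹ = y := by
        rw [hzy]; group
      rw [← h1]
      exact S.mul_mem (S.mul_mem s.2 z.2) (S.inv_mem s.2)
    refine ⟨⟨y, hy⟩, ?_, rfl⟩
    rw [SetLike.mem_coe, Lib_helper6_Sylow.mem_smul_sylow]
    have : s⁻¹ * (⟨y, hy⟩ : S) * s = z := by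
      apply Subtype.ext
      simpa using hzy.symm
    rw [this]
    exact hz

/-- a `p`-subgroup of `S` having the order of a Sylow subgroup `P` of `S` is an `S`-conjugate
of `P` -/
theorem exists_conj_of_le [Finite G] {p : ℕ} [Fact p.Prime] (S : Subgroup G) (P : Sylow p S)
    (Q : Subgroup G) (hQS : Q ≤ S) (hQ : IsPGroup p Q) (hcard : Nat.card Q = Nat.card P) :
    ∃ s ∈ S, Q = ((P : Subgroup S).map S.subtype).map (MulAut.conj s).toMonoidHom := by
  obtain ⟨R, hR⟩ := (hQ.comap_subtype (K := S)).exists_le_sylow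
  obtain ⟨s, hs⟩ := MulAction.exists_smul_eq S P R
  refine ⟨s, s.2, ?_⟩
  rw [← map_smul_sylow, hs]
  apply Subgroup.eq_of_le_of_card_ge
  · intro q hq
    exact ⟨⟨q, hQS hq⟩, hR hq, rfl⟩
  · rw [Subgroup.card_map_of_injective S.subtype_injective, hcard, ← hs]
    have := map_smul_sylow S P s
    have h2 : Nat.card (((s • P : Sylow p S) : Subgroup S).map S.subtype) =
        Nat.card (((P : Subgroup S).map S.subtype).map (MulAut.conj (s : G)).toMonoidHom) := by
      rw [this]
    rw [Subgroup.card_map_of_injective S.subtype_injective, Lib_helper6_Conj.card_conjMap,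
      Subgroup.card_map_of_injective S.subtype_injective] at h2
    exact h2.le

end Cfsg.Agent.Lib_helper6_Sylow2
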