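import Mathlib
import Cfsg.Prelude.Def_Solvable
import Cfsg.Agent.Lib_helper1_Coprime
import Cfsg.Agent.Lib_helper7_Large
import Cfsg.Agent.Lib_helper7_PCore

set_option autoImplicit false

namespace Cfsg.Agent.Lib_helper7_SelfCent

open Cfsg.Agent.Lib_helper7_Sylow Cfsg.Agent.Lib_helper7_WellPlaced
open Cfsg.Agent.Lib_helper7_WC Cfsg.Agent.Lib_helper7_Large

variable {G : Type*} [Group G] [Finite G] {p : ℕ} [Fact p.Prime]

/-- A subgroup all of whose `p'`-elements are trivial is a `p`-group. -/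
theorem isPGroup_of_pprime_trivial (C : Subgroup G)
    (h : ∀ y ∈ C, (orderOf y).Coprime p → y = 1) : IsPGroup p ↥C := by
  have hp : p.Prime := Fact.out
  rintro ⟨x, hx⟩
  have hm : orderOf x ≠ 0 := (orderOf_pos x).ne'
  refine ⟨(orderOf x).factorization p, Subtype.ext ?_⟩
  show x ^ p ^ (orderOf x).factorization p = 1
  apply h _ (C.pow_mem hx _)
  rw [orderOf_pow_of_dvd (pow_ne_zero _ hp.ne_zero) (Nat.ordProj_dvd _ _)]
  exact (Nat.coprime_ordCompl hp hm).symm

/-- S2960: in a group of characteristic `p`, a normal subgroup `Q` of a Sylow `p`-subgroup `T`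
with `C_T(Q) ≤ Q` satisfies `C_G(Q) ≤ Q`. -/
theorem centralizer_le_of_sylow (hG : Subgroup.centralizer (Cfsg.pCore p G : Set G) ≤ Cfsg.pCore p G)
    (T : Sylow p G) (Q : Subgroup G) (hQT : Q ≤ (T : Subgroup G))
    (hQn : (T : Subgroup G) ≤ Subgroup.normalizer (Q : Set G))
    (hC : (T : Subgroup G) ⊓ Subgroup.centralizer (Q : Set G) ≤ Q) :
    Subgroup.centralizer (Q : Set G) ≤ Q := by
  have hp : p.Prime := Fact.out
  have hRT : Cfsg.pCore p G ≤ (T : Subgroup G) := Cfsg.Agent.Lib_helper7_PCore.pCore_le_sylow T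
  have hRp : IsPGroup p ↥(Cfsg.pCore p G) := Cfsg.Agent.Lib_helper7_PCore.pCore_isPGroup p
  haveI hRn : (Cfsg.pCore p G).Normal := Cfsg.Agent.Lib_helper7_PCore.pCore_normal p
  have hQp : IsPGroup p ↥Q := T.isPGroup'.to_le hQT
  have hCp : IsPGroup p ↥(Subgroup.centralizer (Q : Set G)) := by
    apply isPGroup_of_pprime_trivial
    intro y hy hco
    have hcard : (Nat.card ↥(Subgroup.zpowers y)).Coprime p := by
      rw [Nat.card_zpowers]; exact hco
    have hQy : Q ≤ Subgroup.centralizer ((Subgroup.zpowers y : Subgroup G) : Set G) := by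
      rw [Subgroup.le_centralizer_iff]
      exact Subgroup.zpowers_le.mpr hy
    have h1 := Cfsg.Agent.Lib_helper1_Coprime.thompson_pq_aux p Q (Subgroup.zpowers y) hQp hcard hQy
      (Nat.card ↥(Cfsg.pCore p G)) (Cfsg.pCore p G) rfl hRp
      (le_top.trans_eq (Subgroup.normalizer_eq_top_iff.mpr hRn).symm)
      (le_top.trans_eq (Subgroup.normalizer_eq_top_iff.mpr hRn).symm)
      (((inf_le_inf_right _ hRT).trans hC).trans hQy)
    have hyR : y ∈ Cfsg.pCore p G := hG (h1 (Subgroup.mem_zpowers y))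
    obtain ⟨k, hk⟩ := hRp ⟨y, hyR⟩
    have hk' : y ^ p ^ k = 1 := congrArg Subtype.val hk
    have h2 : orderOf y ∣ p ^ k := orderOf_dvd_of_pow_eq_one hk'
    have h3 : orderOf y = 1 := Nat.Coprime.eq_one_of_dvd (Nat.Coprime.pow_right k hco) h2
    exact orderOf_eq_one_iff.mp h3
  have hTC : (T : Subgroup G) ≤ Subgroup.normalizer
      ((Subgroup.centralizer (Q : Set G) : Subgroup G) : Set G) :=
    hQn.trans (normalizer_le_normalizer_centralizer Q)
  have hsup : IsPGroup p ↥((T : Subgroup G) ⊔ Subgroup.centralizer (Q : Set G)) :=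
    IsPGroup.to_sup_of_normal_right' T.isPGroup' hCp hTC
  have heq := T.is_maximal' hsup le_sup_left
  have hCT : Subgroup.centralizer (Q : Set G) ≤ (T : Subgroup G) := by
    rw [← heq]; exact le_sup_right
  exact (le_inf hCT le_rfl).trans hC

end Cfsg.Agent.Lib_helper7_SelfCent
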