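import Mathlib
import Cfsg.Prelude.Def_Solvable
import Cfsg.Prelude.Def_Amalgam
import Cfsg.Agent.Lib_helper7_SelfCent
import Cfsg.Agent.Lib_helper7_PIrr2
import Cfsg.Agent.Lib_helper7_CommSup

set_option autoImplicit false

namespace Cfsg.Agent.Lib_helper7_CharP

open Cfsg.Agent.Lib_helper7_Sylow Cfsg.Agent.Lib_helper7_WellPlaced
open Cfsg.Agent.Lib_helper7_WC Cfsg.Agent.Lib_helper7_Large Cfsg.Agent.Lib_helper7_PIrr2
open Cfsg.Agent.Lib_helper7_CommSup Cfsg.Agent.Lib_helper7_SelfCent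

variable {G : Type*} [Group G] [Finite G] {p : ℕ} [Fact p.Prime]

theorem le_normalizer_inf (A B K : Subgroup G) (hA : K ≤ Subgroup.normalizer (A : Set G))
    (hB : K ≤ Subgroup.normalizer (B : Set G)) :
    K ≤ Subgroup.normalizer ((A ⊓ B : Subgroup G) : Set G) := by
  intro k hk
  apply mem_normalizer_of_conj_le
  rw [map_conj_le_iff]
  rintro a ⟨haA, haB⟩
  exact ⟨(Subgroup.mem_normalizer_iff.mp (hA hk) a).mp haA,
    (Subgroup.mem_normalizer_iff.mp (hB hk) a).mp haB⟩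

/-- A `p'`-element `y` normalizing the `p`-group `U` with `[U, y, y] = 1` centralizes `U`. -/
theorem centralizes_of_double_commutator (U : Subgroup G) (hU : IsPGroup p U) (y : G)
    (hy : y ∈ Subgroup.normalizer (U : Set G)) (hco : (orderOf y).Coprime p)
    (h : ⁅⁅U, Subgroup.zpowers y⁆, Subgroup.zpowers y⁆ = ⊥) :
    Subgroup.zpowers y ≤ Subgroup.centralizer (U : Set G) := by
  have hA : Subgroup.zpowers y ≤ Subgroup.normalizer (U : Set G) := Subgroup.zpowers_le.mpr hy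
  have hcop : (Nat.card ↥(Subgroup.zpowers y)).Coprime (Nat.card U) := by
    obtain ⟨k, hk⟩ := IsPGroup.iff_card.mp hU
    rw [Nat.card_zpowers, hk]
    exact Nat.Coprime.pow_right k hco
  haveI : Group.IsNilpotent ↥U := hU.isNilpotent
  have h1 := Cfsg.Agent.Lib_helper1_Coprime.commutator_commutator_eq (Subgroup.zpowers y) U hA hcop
    (Or.inr inferInstance)
  rw [h] at h1
  exact Subgroup.le_centralizer_iff.mp (Subgroup.commutator_eq_bot_iff_le_centralizer.mp h1.symm)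

/-- `[R, X, X] = [R, X]` for a `p`-group `R` normalized by `X` generated by `p'`-elements. -/
theorem commutator_commutator_closure (R : Subgroup G) (hR : IsPGroup p R) (S : Set G)
    (hS : ∀ s ∈ S, (orderOf s).Coprime p)
    (hN : Subgroup.closure S ≤ Subgroup.normalizer (R : Set G)) :
    ⁅⁅R, Subgroup.closure S⁆, Subgroup.closure S⁆ = ⁅R, Subgroup.closure S⁆ := by
  have hRX : ⁅R, Subgroup.closure S⁆ ≤ R := commutator_le_left_of_le_normalizer R _ hN
  apply le_antisymm (Subgroup.commutator_mono hRX le_rfl)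
  have hXW : Subgroup.closure S ≤ Subgroup.normalizer
      ((⁅⁅R, Subgroup.closure S⁆, Subgroup.closure S⁆ : Subgroup G) : Set G) :=
    Subgroup.normalizer_commutator_ge_right (H₁ := ⁅R, Subgroup.closure S⁆) (H₂ := Subgroup.closure S)
  let K : Subgroup G :=
    { carrier := {x | x ∈ Subgroup.normalizer (R : Set G) ∧
        x ∈ Subgroup.normalizer
          ((⁅⁅R, Subgroup.closure S⁆, Subgroup.closure S⁆ : Subgroup G) : Set G) ∧
        ∀ r ∈ R, r * x * r⁻¹ * x⁻¹ ∈ ⁅⁅R, Subgroup.closure S⁆, Subgroup.closure S⁆}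
      one_mem' := ⟨Subgroup.one_mem _, Subgroup.one_mem _, fun r _ => by simp⟩
      mul_mem' := by
        rintro a b ⟨ha1, ha2, ha3⟩ ⟨hb1, hb2, hb3⟩
        refine ⟨Subgroup.mul_mem _ ha1 hb1, Subgroup.mul_mem _ ha2 hb2, fun r hr => ?_⟩
        have e : r * (a * b) * r⁻¹ * (a * b)⁻¹
            = (r * a * r⁻¹ * a⁻¹) * (a * (r * b * r⁻¹ * b⁻¹) * a⁻¹) := by group
        rw [e]
        exact Subgroup.mul_mem _ (ha3 r hr)
          ((Subgroup.mem_normalizer_iff.mp ha2 _).mp (hb3 r hr))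
      inv_mem' := by
        rintro a ⟨ha1, ha2, ha3⟩
        refine ⟨Subgroup.inv_mem _ ha1, Subgroup.inv_mem _ ha2, fun r hr => ?_⟩
        have e : r * a⁻¹ * r⁻¹ * a⁻¹⁻¹ = a⁻¹ * (r * a * r⁻¹ * a⁻¹)⁻¹ * a⁻¹⁻¹ := by group
        rw [e]
        exact (Subgroup.mem_normalizer_iff.mp (Subgroup.inv_mem _ ha2) _).mp
          (Subgroup.inv_mem _ (ha3 r hr)) }
  have hSK : Subgroup.closure S ≤ K := by
    rw [Subgroup.closure_le]
    intro s hs
    have hsX : s ∈ Subgroup.closure S := Subgroup.subset_closure hs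
    have hzX : Subgroup.zpowers s ≤ Subgroup.closure S := Subgroup.zpowers_le.mpr hsX
    refine ⟨hN hsX, hXW hsX, fun r hr => ?_⟩
    have hA : Subgroup.zpowers s ≤ Subgroup.normalizer (R : Set G) := hzX.trans hN
    have hcop : (Nat.card ↥(Subgroup.zpowers s)).Coprime (Nat.card R) := by
      obtain ⟨k, hk⟩ := IsPGroup.iff_card.mp hR
      rw [Nat.card_zpowers, hk]
      exact Nat.Coprime.pow_right k (hS s hs)
    haveI : Group.IsNilpotent ↥R := hR.isNilpotent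
    have h1 := Cfsg.Agent.Lib_helper1_Coprime.commutator_commutator_eq (Subgroup.zpowers s) R hA hcop
      (Or.inr inferInstance)
    have h2 : r * s * r⁻¹ * s⁻¹ ∈ ⁅R, Subgroup.zpowers s⁆ :=
      Subgroup.commutator_mem_commutator hr (Subgroup.mem_zpowers s)
    rw [← h1] at h2
    exact Subgroup.commutator_mono (Subgroup.commutator_mono le_rfl hzX) hzX h2
  rw [Subgroup.commutator_le]
  intro r hr x hx
  exact (hSK hx).2.2 r hr

/-- S2961. -/
theorem charp_of_le (hG : Subgroup.centralizer (Cfsg.pCore p G : Set G) ≤ Cfsg.pCore p G)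
    (T : Sylow p G) (Q : Subgroup G) (hQT : Q ≤ (T : Subgroup G))
    (hQn : (T : Subgroup G) ≤ Subgroup.normalizer (Q : Set G))
    (hC : (T : Subgroup G) ⊓ Subgroup.centralizer (Q : Set G) ≤ Q) (L : Subgroup G) (hQL : Q ≤ L) :
    Subgroup.centralizer (Cfsg.pCore p ↥L : Set ↥L) ≤ Cfsg.pCore p ↥L := by
  have hp : p.Prime := Fact.out
  have hCQ := centralizer_le_of_sylow hG T Q hQT hQn hC
  have hQp : IsPGroup p ↥Q := T.isPGroup'.to_le hQT
  have hRT : Cfsg.pCore p G ≤ (T : Subgroup G) := Cfsg.Agent.Lib_helper7_PCore.pCore_le_sylow T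
  have hRp : IsPGroup p ↥(Cfsg.pCore p G) := Cfsg.Agent.Lib_helper7_PCore.pCore_isPGroup p
  haveI hRn : (Cfsg.pCore p G).Normal := Cfsg.Agent.Lib_helper7_PCore.pCore_normal p
  have hNR : ∀ K : Subgroup G, K ≤ Subgroup.normalizer ((Cfsg.pCore p G : Subgroup G) : Set G) :=
    fun K => le_top.trans_eq (Subgroup.normalizer_eq_top_iff.mpr hRn).symm
  -- a p-element of coprime order is trivial
  have htriv : ∀ (D : Subgroup G), IsPGroup p ↥D → ∀ y ∈ D, (orderOf y).Coprime p → y = 1 := by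
    intro D hD y hy hco
    obtain ⟨k, hk⟩ := hD ⟨y, hy⟩
    have hk' : y ^ p ^ k = 1 := congrArg Subtype.val hk
    have h2 : orderOf y ∣ p ^ k := orderOf_dvd_of_pow_eq_one hk'
    have h3 : orderOf y = 1 := Nat.Coprime.eq_one_of_dvd (Nat.Coprime.pow_right k hco) h2
    exact orderOf_eq_one_iff.mp h3
  -- notation-free definitions
  have hLRL := le_normalizer_pCoreOf (p := p) L
  have hRLp := pCoreOf_isPGroup (p := p) L
  have hLC : L ≤ Subgroup.normalizer
      ((L ⊓ Subgroup.centralizer ((Cfsg.pCoreOf p L : Subgroup G) : Set G) : Subgroup G) : Set G) :=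
    le_normalizer_inf _ _ L Subgroup.le_normalizer
      (hLRL.trans (normalizer_le_normalizer_centralizer _))
  -- it suffices that `C = C_L(O_p(L))` is a `p`-group
  suffices hCp : IsPGroup p
      ↥(L ⊓ Subgroup.centralizer ((Cfsg.pCoreOf p L : Subgroup G) : Set G)) by
    have hCRL := le_pCoreOf L _ inf_le_left hCp hLC
    intro l hl
    have hlC : (l : G) ∈ L ⊓ Subgroup.centralizer ((Cfsg.pCoreOf p L : Subgroup G) : Set G) := by
      refine ⟨l.2, ?_⟩
      show (l : G) ∈ Subgroup.centralizer ((Cfsg.pCoreOf p L : Subgroup G) : Set G)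
      rw [Subgroup.mem_centralizer_iff]
      rintro _ ⟨r, hr, rfl⟩
      have := Subgroup.mem_centralizer_iff.mp hl r hr
      exact congrArg Subtype.val this
    obtain ⟨r, hr, hrl⟩ := hCRL hlC
    have : r = l := Subtype.ext hrl
    rw [← this]
    exact hr
  apply Cfsg.Agent.Lib_helper7_SelfCent.isPGroup_of_pprime_trivial
  intro y hyC hyco
  -- `X = O^p(C)`
  have hXcl := pResidualOf_eq_closure (p := p)
    (L ⊓ Subgroup.centralizer ((Cfsg.pCoreOf p L : Subgroup G) : Set G))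
  have hXC : (Cfsg.pResidual p ↥(L ⊓ Subgroup.centralizer
      ((Cfsg.pCoreOf p L : Subgroup G) : Set G))).map (Subgroup.subtype _)
      ≤ L ⊓ Subgroup.centralizer ((Cfsg.pCoreOf p L : Subgroup G) : Set G) :=
    Subgroup.map_subtype_le _
  have hLX : L ≤ Subgroup.normalizer (((Cfsg.pResidual p ↥(L ⊓ Subgroup.centralizer
      ((Cfsg.pCoreOf p L : Subgroup G) : Set G))).map (Subgroup.subtype _) : Subgroup G) : Set G) :=
    hLC.trans (normalizer_le_normalizer_pResidualOf _)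
  have hyX : y ∈ (Cfsg.pResidual p ↥(L ⊓ Subgroup.centralizer
      ((Cfsg.pCoreOf p L : Subgroup G) : Set G))).map (Subgroup.subtype _) := by
    rw [hXcl]
    exact Subgroup.subset_closure ⟨hyC, hyco⟩
  -- generalize `X`
  generalize hXdef : (Cfsg.pResidual p ↥(L ⊓ Subgroup.centralizer
      ((Cfsg.pCoreOf p L : Subgroup G) : Set G))).map (Subgroup.subtype _) = X at hXcl hXC hLX hyX
  have hXL : X ≤ L := hXC.trans inf_le_left
  have hRLX : Cfsg.pCoreOf p L ≤ Subgroup.centralizer (X : Set G) :=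
    Subgroup.le_centralizer_iff.mp (hXC.trans inf_le_right)
  have hQX : Q ≤ Subgroup.normalizer (X : Set G) := hQL.trans hLX
  have hXNR : X ≤ Subgroup.normalizer ((Cfsg.pCore p G : Subgroup G) : Set G) := hNR X
  -- `R̃ = [R, X]`
  have hRtR : ⁅Cfsg.pCore p G, X⁆ ≤ Cfsg.pCore p G := Subgroup.commutator_le_left _ _
  have hRtp : IsPGroup p ↥⁅Cfsg.pCore p G, X⁆ := hRp.to_le hRtR
  have hRQ : ⁅Cfsg.pCore p G, Q⁆ ≤ Cfsg.pCore p G ⊓ L := by
    refine le_inf (Subgroup.commutator_le_left _ _) ?_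
    rw [Subgroup.commutator_comm]
    exact (commutator_le_left_of_le_normalizer Q _ (hRT.trans hQn)).trans hQL
  have hR₀ : Cfsg.pCore p G ⊓ L ≤ Cfsg.pCoreOf p L :=
    le_pCoreOf L _ inf_le_right (hRp.to_le inf_le_left)
      (le_normalizer_inf _ _ L (hNR L) Subgroup.le_normalizer)
  have hQRt : Q ≤ Subgroup.normalizer ((⁅Cfsg.pCore p G, X⁆ : Subgroup G) : Set G) := by
    intro q hq
    apply mem_normalizer_of_conj_le
    rw [map_conj_le_iff]
    intro c hc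
    exact conj_mem_commutator _ _ (hNR Q hq) (hQX hq) hc
  have hXRt : X ≤ Subgroup.normalizer ((⁅Cfsg.pCore p G, X⁆ : Subgroup G) : Set G) :=
    Subgroup.normalizer_commutator_ge_right (H₁ := Cfsg.pCore p G) (H₂ := X)
  have hXCX : X ≤ Subgroup.normalizer ((Subgroup.centralizer (X : Set G) : Subgroup G) : Set G) :=
    Subgroup.le_normalizer.trans (normalizer_le_normalizer_centralizer X)
  have hRtQF : ⁅⁅Cfsg.pCore p G, X⁆, Q⁆ ≤ ⁅Cfsg.pCore p G, X⁆ ⊓ Subgroup.centralizer (X : Set G) :=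
    le_inf (commutator_le_left_of_le_normalizer _ Q hQRt)
      (((Subgroup.commutator_mono hRtR le_rfl).trans hRQ).trans (hR₀.trans hRLX))
  -- the subgroup `K`
  let K : Subgroup G :=
    { carrier := {g | g ∈ Subgroup.normalizer ((⁅Cfsg.pCore p G, X⁆ : Subgroup G) : Set G) ∧
        g ∈ Subgroup.normalizer ((⁅Cfsg.pCore p G, X⁆ ⊓ Subgroup.centralizer (X : Set G) :
          Subgroup G) : Set G) ∧
        ∀ r ∈ ⁅Cfsg.pCore p G, X⁆, r⁻¹ * (g * r * g⁻¹) ∈
          ⁅Cfsg.pCore p G, X⁆ ⊓ Subgroup.centralizer (X : Set G)}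
      one_mem' := ⟨Subgroup.one_mem _, Subgroup.one_mem _, fun r _ => by simp⟩
      mul_mem' := by
        rintro a b ⟨ha1, ha2, ha3⟩ ⟨hb1, hb2, hb3⟩
        refine ⟨Subgroup.mul_mem _ ha1 hb1, Subgroup.mul_mem _ ha2 hb2, fun r hr => ?_⟩
        have e : r⁻¹ * (a * b * r * (a * b)⁻¹)
            = (r⁻¹ * (a * r * a⁻¹)) * (a * (r⁻¹ * (b * r * b⁻¹)) * a⁻¹) := by group
        rw [e]
        exact Subgroup.mul_mem _ (ha3 r hr) ((Subgroup.mem_normalizer_iff.mp ha2 _).mp (hb3 r hr))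
      inv_mem' := by
        rintro a ⟨ha1, ha2, ha3⟩
        refine ⟨Subgroup.inv_mem _ ha1, Subgroup.inv_mem _ ha2, fun r hr => ?_⟩
        have hr' : a⁻¹ * r * a⁻¹⁻¹ ∈ ⁅Cfsg.pCore p G, X⁆ :=
          (Subgroup.mem_normalizer_iff.mp (Subgroup.inv_mem _ ha1) r).mp hr
        have := Subgroup.inv_mem _ (ha3 _ hr')
        have e : ((a⁻¹ * r * a⁻¹⁻¹)⁻¹ * (a * (a⁻¹ * r * a⁻¹⁻¹) * a⁻¹))⁻¹
            = r⁻¹ * (a⁻¹ * r * a⁻¹⁻¹) := by group
        rw [e] at this
        exact this }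
  have hQK : Q ≤ K := by
    intro q hq
    refine ⟨hQRt hq, le_normalizer_inf _ _ Q hQRt
      (hQX.trans (normalizer_le_normalizer_centralizer X)) hq, fun r hr => ?_⟩
    have h1 : r⁻¹ * q * r⁻¹⁻¹ * q⁻¹ ∈ ⁅⁅Cfsg.pCore p G, X⁆, Q⁆ :=
      Subgroup.commutator_mem_commutator (Subgroup.inv_mem _ hr) hq
    have e : r⁻¹ * q * r⁻¹⁻¹ * q⁻¹ = r⁻¹ * (q * r * q⁻¹) := by group
    rw [e] at h1
    exact hRtQF h1
  have hXK : ∀ x ∈ X, ∀ g ∈ K, x * g * x⁻¹ ∈ K := by
    rintro x hx g ⟨hg1, hg2, hg3⟩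
    have hx1 := hXRt hx
    have hx2 := le_normalizer_inf _ _ X hXRt hXCX hx
    refine ⟨Subgroup.mul_mem _ (Subgroup.mul_mem _ hx1 hg1) (Subgroup.inv_mem _ hx1),
      Subgroup.mul_mem _ (Subgroup.mul_mem _ hx2 hg2) (Subgroup.inv_mem _ hx2), fun r hr => ?_⟩
    have hr' : x⁻¹ * r * x⁻¹⁻¹ ∈ ⁅Cfsg.pCore p G, X⁆ :=
      (Subgroup.mem_normalizer_iff.mp (Subgroup.inv_mem _ hx1) r).mp hr
    have h1 := (Subgroup.mem_normalizer_iff.mp hx2 _).mp (hg3 _ hr')
    have e : x * ((x⁻¹ * r * x⁻¹⁻¹)⁻¹ * (g * (x⁻¹ * r * x⁻¹⁻¹) * g⁻¹)) * x⁻¹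
        = r⁻¹ * (x * g * x⁻¹ * r * (x * g * x⁻¹)⁻¹) := by group
    rw [e] at h1
    exact h1
  have hX₁K : ⁅X, Q⁆ ≤ K := by
    rw [Subgroup.commutator_le]
    intro x hx q hq
    exact K.mul_mem (hXK x hx q (hQK hq)) (K.inv_mem (hQK hq))
  have hX₁X : ⁅X, Q⁆ ≤ X := commutator_le_left_of_le_normalizer X Q hQX
  -- `p'`-elements of `[X, Q]` are trivial
  have hX₁p : IsPGroup p ↥⁅X, Q⁆ := by
    apply Cfsg.Agent.Lib_helper7_SelfCent.isPGroup_of_pprime_trivial
    intro z hz hzco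
    have hzX : Subgroup.zpowers z ≤ X := Subgroup.zpowers_le.mpr (hX₁X hz)
    have hzK : Subgroup.zpowers z ≤ K := Subgroup.zpowers_le.mpr (hX₁K hz)
    have h1 : ⁅⁅Cfsg.pCore p G, X⁆, Subgroup.zpowers z⁆
        ≤ ⁅Cfsg.pCore p G, X⁆ ⊓ Subgroup.centralizer (X : Set G) := by
      rw [Subgroup.commutator_le]
      intro r hr w hw
      have := (hzK hw).2.2 r⁻¹ (Subgroup.inv_mem _ hr)
      have e : r⁻¹⁻¹ * (w * r⁻¹ * w⁻¹) = r * w * r⁻¹ * w⁻¹ := by group
      rw [e] at this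
      exact this
    have h2 : ⁅⁅⁅Cfsg.pCore p G, X⁆, Subgroup.zpowers z⁆, Subgroup.zpowers z⁆ = ⊥ := by
      rw [Subgroup.commutator_eq_bot_iff_le_centralizer]
      exact (h1.trans inf_le_right).trans (Subgroup.centralizer_le hzX)
    have h3 := centralizes_of_double_commutator _ hRtp z (hXRt (hX₁X hz)) hzco h2
    have h4 : ⁅⁅Cfsg.pCore p G, Subgroup.zpowers z⁆, Subgroup.zpowers z⁆ = ⊥ := by
      rw [eq_bot_iff]
      refine (Subgroup.commutator_mono (Subgroup.commutator_mono le_rfl hzX) le_rfl).trans ?_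
      rw [Subgroup.commutator_eq_bot_iff_le_centralizer.mpr (Subgroup.le_centralizer_iff.mp h3)]
    have h5 := centralizes_of_double_commutator _ hRp z (hNR _ (Subgroup.mem_zpowers z)) hzco h4
    exact htriv _ hRp z (hG (h5 (Subgroup.mem_zpowers z))) hzco
  -- `[X, Q] ≤ O_p(L)`, hence central in `X`
  have hX₁RL : ⁅X, Q⁆ ≤ Cfsg.pCoreOf p L := by
    have h1 : ⁅X, Q⁆ ≤ Cfsg.pCoreOf p X :=
      le_pCoreOf X _ hX₁X hX₁p (Subgroup.normalizer_commutator_ge_left (H₁ := X) (H₂ := Q))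
    have h2 : Cfsg.pCoreOf p X ≤ Cfsg.pCoreOf p L :=
      le_pCoreOf L _ ((pCoreOf_le X).trans hXL) (pCoreOf_isPGroup X)
        (hLX.trans (normalizer_le_normalizer_pCoreOf X))
    exact h1.trans h2
  -- `y` commutes with `Q`
  have hyQ : y ∈ Subgroup.centralizer (Q : Set G) := by
    rw [Subgroup.mem_centralizer_iff]
    intro q hq
    have hc : y * q * y⁻¹ * q⁻¹ ∈ ⁅X, Q⁆ := Subgroup.commutator_mem_commutator hyX hq
    have hcy : y * (y * q * y⁻¹ * q⁻¹) = (y * q * y⁻¹ * q⁻¹) * y :=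
      (Subgroup.mem_centralizer_iff.mp (hRLX (hX₁RL hc)) y hyX)
    have hcomm : Commute (y * q * y⁻¹ * q⁻¹)⁻¹ y := (Commute.inv_left (show Commute _ y from hcy.symm))
    have e1 : q * y * q⁻¹ = (y * q * y⁻¹ * q⁻¹)⁻¹ * y := by group
    have e2 : (q * y * q⁻¹) ^ orderOf y = 1 := by
      rw [conj_pow, pow_orderOf_eq_one]; group
    rw [e1, hcomm.mul_pow, pow_orderOf_eq_one, mul_one] at e2
    have h3 : orderOf (y * q * y⁻¹ * q⁻¹)⁻¹ ∣ orderOf y := orderOf_dvd_of_pow_eq_one e2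
    have h4 : (orderOf (y * q * y⁻¹ * q⁻¹)⁻¹).Coprime p := Nat.Coprime.coprime_dvd_left h3 hyco
    have h5 := htriv _ hX₁p _ (Subgroup.inv_mem _ hc) h4
    have h6 : y * q * y⁻¹ * q⁻¹ = 1 := inv_eq_one.mp h5
    calc q * y = (y * q * y⁻¹ * q⁻¹)⁻¹ * (y * q) := by group
      _ = y * q := by rw [h6, inv_one, one_mul]
  exact htriv Q hQp y (hCQ hyQ) hyco

end Cfsg.Agent.Lib_helper7_CharP
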