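import Mathlib
import Cfsg.Prelude.Def_Transfer
import Cfsg.Agent.Lib_helper6_Cover
import Cfsg.Agent.Lib_helper1_Coprime

set_option autoImplicit false

namespace Cfsg.Agent.Lib_helper7_ClassP

open scoped Pointwise

/-- an element of both `p`-power order and `p'`-order is trivial -/
theorem eq_one_of_pow_of_coprime {G : Type*} [Group G] {p : ℕ} {g : G} {j m : ℕ}
    (h1 : g ^ (p ^ j) = 1) (h2 : g ^ m = 1) (hm : m.Coprime p) : g = 1 := by
  have h3 : orderOf g ∣ Nat.gcd (p ^ j) m :=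
    Nat.dvd_gcd (orderOf_dvd_of_pow_eq_one h1) (orderOf_dvd_of_pow_eq_one h2)
  have h4 : Nat.gcd (p ^ j) m = 1 := Nat.Coprime.pow_left j hm.symm
  rw [h4] at h3
  exact orderOf_eq_one_iff.mp (Nat.dvd_one.mp h3)

/-- decomposition of an element into commuting `p'`- and `p`-parts -/
theorem exists_parts {C : Type*} [Group C] [Finite C] (p : ℕ) [Fact p.Prime] (g : C) :
    ∃ y u : C, g = y * u ∧ Commute y u ∧ (orderOf y).Coprime p ∧ ∃ k : ℕ, u ^ (p ^ k) = 1 := by
  obtain ⟨k, m, hm, hn⟩ := Nat.exists_eq_pow_mul_and_not_dvd (orderOf_pos g).ne' p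
    (Fact.out : p.Prime).ne_one
  have hmp : m.Coprime p := ((Nat.Prime.coprime_iff_not_dvd Fact.out).mpr hm).symm
  have hcop : Nat.gcd (p ^ k) m = 1 := Nat.Coprime.pow_left k hmp.symm
  have hbez : (1 : ℤ) = ((p ^ k : ℕ) : ℤ) * Nat.gcdA (p ^ k) m + ((m : ℕ) : ℤ) * Nat.gcdB (p ^ k) m := by
    have := Nat.gcd_eq_gcd_ab (p ^ k) m
    rw [hcop] at this
    exact_mod_cast this
  refine ⟨(g ^ (p ^ k)) ^ (Nat.gcdA (p ^ k) m), (g ^ m) ^ (Nat.gcdB (p ^ k) m), ?_, ?_, ?_, k, ?_⟩
  · rw [← zpow_natCast, ← zpow_natCast, ← zpow_mul, ← zpow_mul, ← zpow_add, ← hbez, zpow_one]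
  · exact ((Commute.refl g).pow_pow _ _).zpow_zpow _ _
  · have h1 : ((g ^ (p ^ k)) ^ (Nat.gcdA (p ^ k) m)) ^ m = 1 := by
      rw [← zpow_natCast, ← zpow_mul, mul_comm, zpow_mul, zpow_natCast, ← pow_mul, ← hn,
        pow_orderOf_eq_one, one_zpow]
    exact Nat.Coprime.coprime_dvd_left (orderOf_dvd_of_pow_eq_one h1) hmp
  · rw [← zpow_natCast, ← zpow_mul, mul_comm, zpow_mul, zpow_natCast, ← pow_mul, mul_comm, ← hn,
      pow_orderOf_eq_one, one_zpow]

/-- if no `p'`-element has class size divisible by `p`, then there is a normal `p`-complement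
(containing all `p'`-elements). -/
theorem exists_normal_complement_of_classes {C : Type*} [Group C] [Finite C] (p : ℕ) [Fact p.Prime]
    (h : ∀ y : C, (orderOf y).Coprime p → ¬ p ∣ (Subgroup.centralizer ({y} : Set C)).index) :
    ∃ H : Subgroup C, H.Normal ∧ (Nat.card H).Coprime p ∧ (∃ n : ℕ, H.index = p ^ n) ∧
      ∀ y : C, (orderOf y).Coprime p → y ∈ H := by
  classical
  obtain ⟨P⟩ : Nonempty (Sylow p C) := inferInstance
  have hM : (P : Subgroup C) ⊔ Subgroup.centralizer ((P : Subgroup C) : Set C) = ⊤ := by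
    by_contra hne
    obtain ⟨g, hg⟩ := Cfsg.Agent.Lib_helper6_Cover.exists_not_mem_conj _ hne
    obtain ⟨y, u, hgyu, hcomm, hy, k, hu⟩ := exists_parts p g
    have hyidx := h y hy
    have huC : u ∈ Subgroup.centralizer ({y} : Set C) := by
      rw [Subgroup.mem_centralizer_iff]
      intro z hz
      rw [Set.mem_singleton_iff] at hz
      subst hz
      exact hcomm.eq
    have hz : IsPGroup p (Subgroup.zpowers (⟨u, huC⟩ : ↥(Subgroup.centralizer ({y} : Set C)))) := by
      rw [IsPGroup]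
      rintro ⟨w, hw⟩
      obtain ⟨i, rfl⟩ := Subgroup.mem_zpowers_iff.mp hw
      refine ⟨k, ?_⟩
      apply Subtype.ext
      apply Subtype.ext
      simp only [Subgroup.coe_pow, Subgroup.coe_zpow, Subgroup.coe_one]
      rw [← zpow_natCast, ← zpow_mul, mul_comm, zpow_mul, zpow_natCast, hu, one_zpow]
    obtain ⟨R, hR⟩ := hz.exists_le_sylow
    have hR'p : IsPGroup p ((R : Subgroup ↥(Subgroup.centralizer ({y} : Set C))).map
        (Subgroup.centralizer ({y} : Set C)).subtype) := R.isPGroup'.map _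
    have hR'i : ¬ p ∣ ((R : Subgroup ↥(Subgroup.centralizer ({y} : Set C))).map
        (Subgroup.centralizer ({y} : Set C)).subtype).index := by
      rw [Subgroup.index_map_subtype]
      intro hd
      rcases (Nat.Prime.dvd_mul Fact.out).mp hd with h1 | h1
      · exact R.not_dvd_index h1
      · exact hyidx h1
    obtain ⟨c, hc⟩ := MulAction.exists_smul_eq C P (hR'p.toSylow hR'i)
    have huR : u ∈ (hR'p.toSylow hR'i : Sylow p C) := by
      rw [IsPGroup.mem_toSylow]
      exact ⟨⟨u, huC⟩, hR (Subgroup.mem_zpowers _), rfl⟩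
    have hyR : ∀ v ∈ (hR'p.toSylow hR'i : Sylow p C), v * y = y * v := by
      intro v hv
      rw [IsPGroup.mem_toSylow] at hv
      obtain ⟨v', -, rfl⟩ := hv
      exact (Subgroup.mem_centralizer_iff.mp v'.2 y rfl).symm
    have hmem : ∀ v : C, v ∈ (hR'p.toSylow hR'i : Sylow p C) ↔ c⁻¹ * v * c ∈ (P : Subgroup C) := by
      intro v
      rw [← hc]
      show v ∈ ((c • P : Sylow p C) : Subgroup C) ↔ _
      rw [Sylow.coe_subgroup_smul,
        Subgroup.mem_pointwise_smul_iff_inv_smul_mem, MulAut.smul_def, MulAut.conj_inv_apply]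
    apply hg c
    rw [hgyu]
    have e : c⁻¹ * (y * u) * c = (c⁻¹ * u * c) * (c⁻¹ * y * c) := by
      rw [hcomm.eq]; group
    rw [e]
    refine Subgroup.mul_mem_sup ((hmem u).mp huR) ?_
    rw [Subgroup.mem_centralizer_iff]
    intro v hv
    have hv' : c * v * c⁻¹ ∈ (hR'p.toSylow hR'i : Sylow p C) := by
      rw [hmem]
      have e2 : c⁻¹ * (c * v * c⁻¹) * c = v := by group
      rw [e2]; exact hv
    have h1 := hyR _ hv'
    calc v * (c⁻¹ * y * c) = c⁻¹ * (c * v * c⁻¹ * y) * c := by group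
      _ = c⁻¹ * (y * (c * v * c⁻¹)) * c := by rw [h1]
      _ = c⁻¹ * y * c * v := by group
  have hPn : (P : Subgroup C).Normal := by
    rw [← Subgroup.normalizer_eq_top_iff, eq_top_iff, ← hM]
    exact sup_le Subgroup.le_normalizer (Subgroup.centralizer_le_normalizer _)
  obtain ⟨H₀, hcompl⟩ := Subgroup.exists_right_complement'_of_coprime (N := (P : Subgroup C))
    P.card_coprime_index
  have hH₀card : Nat.card H₀ = (P : Subgroup C).index := (hcompl.symm.index_eq_card).symm
  have hH₀cop : (Nat.card H₀).Coprime p := by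
    rw [hH₀card]
    exact ((Nat.Prime.coprime_iff_not_dvd Fact.out).mpr P.not_dvd_index).symm
  have hH₀idx : H₀.index = Nat.card (P : Subgroup C) := hcompl.index_eq_card
  obtain ⟨n, hn⟩ := IsPGroup.iff_card.mp P.isPGroup'
  -- H₀ centralizes P
  have hH₀cent : H₀ ≤ Subgroup.centralizer ((P : Subgroup C) : Set C) := by
    intro h₀ hh₀
    have h1 : h₀ ∈ (P : Subgroup C) ⊔ Subgroup.centralizer ((P : Subgroup C) : Set C) := by
      rw [hM]; exact Subgroup.mem_top _
    have h2 : (((P : Subgroup C) ⊔ Subgroup.centralizer ((P : Subgroup C) : Set C) : Subgroup C) : Set C)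
        = ((P : Subgroup C) : Set C) * (Subgroup.centralizer ((P : Subgroup C) : Set C) : Set C) := Subgroup.normal_mul _ _
    have h3 : h₀ ∈ ((P : Subgroup C) : Set C) * (Subgroup.centralizer ((P : Subgroup C) : Set C) : Set C) := by
      rw [← h2]; exact h1
    obtain ⟨u, hu, c, hc, huc⟩ := Set.mem_mul.mp h3
    have hcu : c * u = u * c := (Subgroup.mem_centralizer_iff.mp hc u hu).symm
    have hord : (orderOf h₀).Coprime p :=
      Nat.Coprime.coprime_dvd_left (Subgroup.orderOf_dvd_natCard _ hh₀) hH₀cop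
    have hupow : u ^ orderOf h₀ ∈ Subgroup.centralizer ((P : Subgroup C) : Set C) := by
      have h4 : (u * c) ^ orderOf h₀ = 1 := by rw [huc]; exact pow_orderOf_eq_one h₀
      rw [(Commute.symm hcu : Commute u c).mul_pow] at h4
      have h5 : u ^ orderOf h₀ = (c ^ orderOf h₀)⁻¹ := eq_inv_of_mul_eq_one_left h4
      rw [h5]
      exact Subgroup.inv_mem _ (Subgroup.pow_mem _ hc _)
    have hucop : (orderOf h₀).Coprime (orderOf u) := by
      obtain ⟨j, hj⟩ := P.isPGroup' ⟨u, hu⟩
      have h6 : u ^ p ^ j = 1 := by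
        have := congrArg Subtype.val hj
        simpa using this
      exact Nat.Coprime.coprime_dvd_right (orderOf_dvd_of_pow_eq_one h6) (Nat.Coprime.pow_right j hord)
    obtain ⟨s, hs⟩ := exists_pow_eq_self_of_coprime hucop
    have huc' : u ∈ Subgroup.centralizer ((P : Subgroup C) : Set C) := by
      rw [← hs]; exact Subgroup.pow_mem _ hupow _
    rw [← huc]
    exact Subgroup.mul_mem _ huc' hc
  have hH₀n : H₀.Normal := by
    refine ⟨fun h₀ hh₀ g => ?_⟩
    obtain ⟨⟨⟨u, hu⟩, ⟨h', hh'⟩⟩, hx, -⟩ := Subgroup.isComplement_iff_existsUnique.mp hcompl g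
    simp only at hx
    have hmem : h' * h₀ * h'⁻¹ ∈ H₀ := H₀.mul_mem (H₀.mul_mem hh' hh₀) (H₀.inv_mem hh')
    have hcm : u * (h' * h₀ * h'⁻¹) = (h' * h₀ * h'⁻¹) * u :=
      Subgroup.mem_centralizer_iff.mp (hH₀cent hmem) u hu
    have e : g * h₀ * g⁻¹ = h' * h₀ * h'⁻¹ := by
      rw [← hx]
      calc u * h' * h₀ * (u * h')⁻¹ = u * (h' * h₀ * h'⁻¹) * u⁻¹ := by group
        _ = (h' * h₀ * h'⁻¹) * u * u⁻¹ := by rw [hcm]
        _ = h' * h₀ * h'⁻¹ := by group
    rw [e]; exact hmem
  refine ⟨H₀, hH₀n, hH₀cop, ⟨n, by rw [hH₀idx, hn]⟩, ?_⟩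
  intro y hy
  haveI := hH₀n
  have h1 : (QuotientGroup.mk y : C ⧸ H₀) ^ (p ^ n) = 1 := by
    have : Nat.card (C ⧸ H₀) = p ^ n := by
      rw [← Subgroup.index_eq_card, hH₀idx, hn]
    rw [← this]; exact pow_card_eq_one'
  have h2 : (QuotientGroup.mk y : C ⧸ H₀) ^ (orderOf y) = 1 := by
    rw [← QuotientGroup.mk_pow, pow_orderOf_eq_one]; rfl
  have h3 := eq_one_of_pow_of_coprime h1 h2 hy
  exact (QuotientGroup.eq_one_iff y).mp h3

/-- **S4127** -/
theorem s4127 {G : Type*} [Group G] [Finite G] (p : ℕ) [Fact p.Prime]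
    (a : ℕ) (hmax : ∀ y : G, ¬ p ^ (a + 1) ∣ (Subgroup.centralizer ({y} : Set G)).index)
    (hx : ∃ x : G, (∃ k : ℕ, orderOf x = p ^ k) ∧ (Subgroup.centralizer ({x} : Set G)).index = p ^ a) :
    Cfsg.HasNormalPComplement p G := by
  classical
  obtain ⟨x, ⟨k, hk⟩, hidx⟩ := hx
  obtain ⟨C, hC⟩ : ∃ C : Subgroup G, C = Subgroup.centralizer ({x} : Set G) := ⟨_, rfl⟩
  rw [← hC] at hidx
  have hxC : ∀ c ∈ C, c * x = x * c := by
    intro c hc
    rw [hC] at hc
    exact (Subgroup.mem_centralizer_iff.mp hc x rfl).symm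
  have hL : ∀ y : ↥C, (orderOf y).Coprime p →
      ¬ p ∣ (Subgroup.centralizer ({y} : Set ↥C)).index := by
    intro y hy hdvd
    apply hmax (x * (y : G))
    have hcomm : Commute x (y : G) := (hxC y y.2).symm
    have hym : ((y : G)) ^ orderOf y = 1 := by
      rw [← Subgroup.coe_pow, pow_orderOf_eq_one]; rfl
    have hcop : (orderOf y).Coprime (orderOf x) := by
      rw [hk]; exact Nat.Coprime.pow_right k hy
    obtain ⟨s, hs⟩ := exists_pow_eq_self_of_coprime hcop
    have hcent : Subgroup.centralizer ({x * (y : G)} : Set G)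
        = C ⊓ Subgroup.centralizer ({(y : G)} : Set G) := by
      ext z
      have hzC : z ∈ C ↔ x * z = z * x := by
        rw [hC, Subgroup.mem_centralizer_iff]
        simp only [Set.mem_singleton_iff, forall_eq]
      rw [Subgroup.mem_inf, hzC, Subgroup.mem_centralizer_iff, Subgroup.mem_centralizer_iff]
      simp only [Set.mem_singleton_iff, forall_eq]
      constructor
      · intro hz
        have hz' : Commute (x * (y : G)) z := hz
        have h1 : Commute (((x * (y : G)) ^ orderOf y) ^ s) z := (hz'.pow_left _).pow_left _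
        rw [hcomm.mul_pow, hym, mul_one, hs] at h1
        have hzx : x * z = z * x := h1
        refine ⟨hzx, ?_⟩
        calc (y : G) * z = x⁻¹ * ((x * y) * z) := by group
          _ = x⁻¹ * (z * (x * y)) := by rw [hz]
          _ = x⁻¹ * (z * x) * y := by group
          _ = x⁻¹ * (x * z) * y := by rw [hzx]
          _ = z * y := by group
      · rintro ⟨h1, h2⟩
        calc x * (y : G) * z = x * (y * z) := by group
          _ = x * (z * y) := by rw [h2]
          _ = (x * z) * y := by group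
          _ = z * x * y := by rw [h1]
          _ = z * (x * y) := by group
    have hsub : Subgroup.centralizer ({y} : Set ↥C)
        = (Subgroup.centralizer ({(y : G)} : Set G)).subgroupOf C := by
      ext z
      rw [Subgroup.mem_subgroupOf, Subgroup.mem_centralizer_iff, Subgroup.mem_centralizer_iff]
      simp only [Set.mem_singleton_iff, forall_eq]
      constructor
      · intro hz
        have := congrArg Subtype.val hz
        simpa using this
      · intro hz
        exact Subtype.ext (by simpa using hz)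
    have hrel : (Subgroup.centralizer ({y} : Set ↥C)).index
        = (Subgroup.centralizer ({(y : G)} : Set G)).relIndex C := by
      rw [hsub]; rfl
    rw [hcent, ← Subgroup.relIndex_mul_index (inf_le_left : C ⊓ _ ≤ C), Subgroup.inf_relIndex_left,
      hidx, pow_succ, mul_comm]
    rw [hrel] at hdvd
    exact Nat.mul_dvd_mul_right hdvd _
  obtain ⟨H₀, hH₀n, hH₀c, ⟨n, hH₀i⟩, hH₀all⟩ := exists_normal_complement_of_classes p hL
  obtain ⟨H, hH⟩ : ∃ H : Subgroup G, H = H₀.map C.subtype := ⟨_, rfl⟩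
  have hHC : H ≤ C := by rw [hH]; exact Subgroup.map_subtype_le _
  have hHcard : Nat.card H = Nat.card H₀ := by
    rw [hH]; exact Subgroup.card_map_of_injective C.subtype_injective
  have hHcop : (Nat.card H).Coprime p := by rw [hHcard]; exact hH₀c
  have hHidx : H.index = p ^ (n + a) := by
    rw [hH, Subgroup.index_map_subtype, hH₀i, hidx, pow_add]
  have hz : IsPGroup p (Subgroup.zpowers x) := by
    apply IsPGroup.of_card (n := k)
    rw [Nat.card_zpowers, hk]
  obtain ⟨P, hxP⟩ : ∃ P : Sylow p G, x ∈ P := by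
    obtain ⟨P, hP⟩ := hz.exists_le_sylow
    exact ⟨P, hP (Subgroup.mem_zpowers x)⟩
  have hPcard : Nat.card P = p ^ (n + a) := by
    obtain ⟨j, hj⟩ := IsPGroup.iff_card.mp P.isPGroup'
    have h1 : Nat.card H * H.index = Nat.card G := Subgroup.card_mul_index H
    have h2 : Nat.card P * (P : Subgroup G).index = Nat.card G := Subgroup.card_mul_index _
    have h3 : ((P : Subgroup G).index).Coprime p :=
      ((Nat.Prime.coprime_iff_not_dvd Fact.out).mpr P.not_dvd_index).symm
    rw [hj] at h2 ⊢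
    rw [hHidx] at h1
    apply Nat.dvd_antisymm
    · have h4 : p ^ j ∣ Nat.card H * p ^ (n + a) := by rw [h1, ← h2]; exact dvd_mul_right _ _
      exact (Nat.Coprime.dvd_mul_left (Nat.Coprime.pow_left j hHcop.symm)).mp h4
    · have h4 : p ^ (n + a) ∣ p ^ j * (P : Subgroup G).index := by
        rw [h2, ← h1]; exact dvd_mul_left _ _
      exact (Nat.Coprime.dvd_mul_right (Nat.Coprime.pow_left _ h3.symm)).mp h4
  have hcompl : Subgroup.IsComplement' H (P : Subgroup G) := by
    apply Subgroup.isComplement'_of_coprime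
    · rw [hPcard, ← hHidx]; exact Subgroup.card_mul_index H
    · rw [hPcard]; exact Nat.Coprime.pow_right _ hHcop
  -- the normal closure of x
  obtain ⟨U, hU⟩ : ∃ U : Subgroup G, U = Subgroup.normalClosure ({x} : Set G) := ⟨_, rfl⟩
  have hUn : U.Normal := by rw [hU]; exact Subgroup.normalClosure_normal
  have hxU : x ∈ U := by rw [hU]; exact Subgroup.subset_normalClosure rfl
  have hUP : U ≤ (P : Subgroup G) := by
    rw [hU, Subgroup.normalClosure, Subgroup.closure_le]
    intro w hw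
    rw [Group.mem_conjugatesOfSet_iff] at hw
    obtain ⟨b, hb, hbw⟩ := hw
    rw [Set.mem_singleton_iff] at hb
    subst hb
    obtain ⟨g, hg⟩ := isConj_iff.mp hbw
    obtain ⟨⟨⟨u, hu⟩, ⟨h', hh'⟩⟩, hx', -⟩ :=
      Subgroup.isComplement_iff_existsUnique.mp hcompl.symm g
    simp only at hx'
    have e : w = u * b * u⁻¹ := by
      rw [← hg, ← hx']
      calc u * h' * b * (u * h')⁻¹ = u * (h' * b) * h'⁻¹ * u⁻¹ := by group
        _ = u * (b * h') * h'⁻¹ * u⁻¹ := by rw [hxC h' (hHC hh')]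
        _ = u * b * u⁻¹ := by group
    rw [e]
    exact Subgroup.mul_mem _ (Subgroup.mul_mem _ hu hxP) (Subgroup.inv_mem _ hu)
  have hUp : IsPGroup p U := P.isPGroup'.to_le hUP
  have hUtop : Subgroup.normalizer (U : Set G) = ⊤ := Subgroup.normalizer_eq_top_iff.mpr hUn
  have hzH : Subgroup.zpowers x ≤ Subgroup.centralizer (H : Set G) := by
    rw [Subgroup.zpowers_le, Subgroup.mem_centralizer_iff]
    intro h' hh'
    exact hxC h' (hHC hh')
  have hC' : U ⊓ Subgroup.centralizer ((Subgroup.zpowers x : Subgroup G) : Set G)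
      ≤ Subgroup.centralizer (H : Set G) := by
    rintro v ⟨hvU, hvx⟩
    have hvC : v ∈ C := by
      rw [hC, Subgroup.mem_centralizer_iff]
      intro z hz'
      rw [Set.mem_singleton_iff] at hz'
      subst hz'
      exact Subgroup.mem_centralizer_iff.mp hvx z (Subgroup.mem_zpowers z)
    rw [Subgroup.mem_centralizer_iff]
    intro h' hh'
    have hwH : v * h' * v⁻¹ * h'⁻¹ ∈ H := by
      have hh'' := hh'
      rw [hH] at hh''
      obtain ⟨h₀, hh₀, rfl⟩ := hh''
      have h1 : (⟨v, hvC⟩ : ↥C) * h₀ * (⟨v, hvC⟩ : ↥C)⁻¹ * h₀⁻¹ ∈ H₀ :=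
        H₀.mul_mem (hH₀n.conj_mem h₀ hh₀ _) (H₀.inv_mem hh₀)
      rw [hH]
      exact ⟨_, h1, rfl⟩
    have hwU : v * h' * v⁻¹ * h'⁻¹ ∈ U := by
      have h1 : h' * v⁻¹ * h'⁻¹ ∈ U := hUn.conj_mem _ (U.inv_mem hvU) h'
      have e : v * h' * v⁻¹ * h'⁻¹ = v * (h' * v⁻¹ * h'⁻¹) := by group
      rw [e]; exact U.mul_mem hvU h1
    obtain ⟨j, hj⟩ := hUp ⟨_, hwU⟩
    have h1 : (v * h' * v⁻¹ * h'⁻¹) ^ p ^ j = 1 := by
      have := congrArg Subtype.val hj
      simpa using this
    have h2 : (v * h' * v⁻¹ * h'⁻¹) ^ Nat.card H = 1 :=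
      orderOf_dvd_iff_pow_eq_one.mp (Subgroup.orderOf_dvd_natCard _ hwH)
    have h3 := eq_one_of_pow_of_coprime h1 h2 hHcop
    calc h' * v = (v * h' * v⁻¹ * h'⁻¹)⁻¹ * (v * h') := by group
      _ = v * h' := by rw [h3]; group
  have hHcentU : H ≤ Subgroup.centralizer (U : Set G) :=
    Cfsg.Agent.Lib_helper1_Coprime.thompson_pq_aux p (Subgroup.zpowers x) H hz hHcop hzH
      (Nat.card U) U rfl hUp (by rw [hUtop]; exact le_top) (by rw [hUtop]; exact le_top) hC'
  haveI := hUn
  have hDn : (Subgroup.centralizer (U : Set G)).Normal := inferInstance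
  refine ⟨P, H, ⟨fun h' hh' g => ?_⟩, hcompl⟩
  have h1 : g * h' * g⁻¹ ∈ Subgroup.centralizer (U : Set G) := hDn.conj_mem h' (hHcentU hh') g
  have h2 : g * h' * g⁻¹ ∈ C := by
    rw [hC, Subgroup.mem_centralizer_iff]
    intro z hz'
    rw [Set.mem_singleton_iff] at hz'
    subst hz'
    exact Subgroup.mem_centralizer_iff.mp h1 z hxU
  have h3 : (orderOf (⟨g * h' * g⁻¹, h2⟩ : ↥C)).Coprime p := by
    rw [Subgroup.orderOf_mk]
    have h4 : (g * h' * g⁻¹) ^ Nat.card H = 1 := by
      rw [conj_pow]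
      have h5 : h' ^ Nat.card H = 1 :=
        orderOf_dvd_iff_pow_eq_one.mp (Subgroup.orderOf_dvd_natCard _ hh')
      rw [h5]; group
    exact Nat.Coprime.coprime_dvd_left (orderOf_dvd_of_pow_eq_one h4) hHcop
  rw [hH]
  exact ⟨⟨_, h2⟩, hH₀all _ h3, rfl⟩

end Cfsg.Agent.Lib_helper7_ClassP
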