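import Mathlib
import Cfsg.Prelude.Def_Transfer
import Cfsg.Agent.Lib_helper5_Omega
import Cfsg.Agent.Lib_helper1_Frobenius
import Cfsg.Agent.Lib_helper1_SysNorm

set_option autoImplicit false

namespace Cfsg.Agent.Lib_helper7_ClassP2

open Cfsg.Agent.Lib_helper5_Omega

universe u

/-- if a `p'`-element `g` commutes with `[g, x]`, a `p`-element, then it commutes with `x` -/
theorem comm_of_comm_commutator {G : Type*} [Group G] (p : ℕ) (g x : G)
    (hg : (orderOf g).Coprime p) (hxp : ∃ j : ℕ, (g * x * g⁻¹ * x⁻¹) ^ p ^ j = 1)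
    (hc : g * (g * x * g⁻¹ * x⁻¹) = (g * x * g⁻¹ * x⁻¹) * g) : g * x = x * g := by
  have hyx : g * x * g⁻¹ = (g * x * g⁻¹ * x⁻¹) * x := by group
  have h4 := conj_pow_mul g x _ hyx hc (orderOf g)
  rw [pow_orderOf_eq_one] at h4
  simp only [one_mul, inv_one, mul_one] at h4
  have h5 : (g * x * g⁻¹ * x⁻¹) ^ orderOf g = 1 := by
    have : (g * x * g⁻¹ * x⁻¹) ^ orderOf g * x = 1 * x := by rw [one_mul]; exact h4.symm
    exact mul_right_cancel this
  obtain ⟨j, h6⟩ := hxp
  have h7 := pow_gcd_eq_one.mpr ⟨h5, h6⟩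
  rw [Nat.Coprime.gcd_eq_one (Nat.Coprime.pow_right j hg), pow_one] at h7
  have h8 : g * x * g⁻¹ = x := by rw [hyx, h7, one_mul]
  calc g * x = (g * x * g⁻¹) * g := by group
    _ = x * g := by rw [h8]

/-- generalized `Ω`-lemma: a `p'`-element normalizing a `p`-group `Q` centralizes it as soon as
it centralizes every invariant `p`-subgroup of exponent `p` (resp. `4` for `p = 2`). -/
theorem gen_omega {G : Type*} [Group G] [Finite G] (p : ℕ) [hp : Fact p.Prime] (e : ℕ)
    (he : (e = p ∧ p ≠ 2) ∨ (e = 4 ∧ p = 2)) (g : G) (hg : (orderOf g).Coprime p)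
    (hyp : ∀ Q : Subgroup G, IsPGroup p Q → g ∈ Subgroup.normalizer (Q : Set G) →
      (∀ y ∈ Q, y ^ e = 1) → g ∈ Subgroup.centralizer (Q : Set G)) :
    ∀ (n : ℕ) (Q : Subgroup G), Nat.card Q = n → IsPGroup p Q →
      g ∈ Subgroup.normalizer (Q : Set G) → g ∈ Subgroup.centralizer (Q : Set G) := by
  intro n
  induction n using Nat.strong_induction_on with
  | _ n ih =>
    intro Q hn hQ hgQ
    have hgQ' : ∀ x ∈ Q, g * x * g⁻¹ ∈ Q := fun x hx =>
      (Subgroup.mem_normalizer_iff.mp hgQ x).mp hx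
    have hpel : ∀ y ∈ Q, ∃ j : ℕ, y ^ p ^ j = 1 := by
      intro y hy
      obtain ⟨k, hk⟩ := hQ ⟨y, hy⟩
      exact ⟨k, congrArg Subtype.val hk⟩
    have hfin : ∀ x ∈ Q, g * (g * x * g⁻¹ * x⁻¹) = (g * x * g⁻¹ * x⁻¹) * g →
        g * x = x * g := by
      intro x hx hc
      have hyQ : g * x * g⁻¹ * x⁻¹ ∈ Q := Q.mul_mem (hgQ' x hx) (Q.inv_mem hx)
      exact comm_of_comm_commutator p g x hg (hpel _ hyQ) hc
    rw [Subgroup.mem_centralizer_iff]
    intro x hx
    symm
    apply hfin x hx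
    rcases eq_top_or_exists_le_coatom (⊥ : Subgroup ↥Q) with hbt | ⟨M, hM, -⟩
    · have h1 : (⟨x, hx⟩ : ↥Q) ∈ (⊥ : Subgroup ↥Q) := by rw [hbt]; trivial
      rw [Subgroup.mem_bot] at h1
      have h2 : x = 1 := congrArg Subtype.val h1
      rw [h2]; simp
    · have hQ' : IsPGroup p ↥Q := hQ
      have hΦM : Subgroup.closure (phiSet p Q) ≤ M.map Q.subtype := by
        rw [Subgroup.closure_le]
        rintro z (⟨x, hx, rfl⟩ | ⟨x, hx, y, hy, rfl⟩)
        · exact ⟨⟨x, hx⟩ ^ p,
            Cfsg.Agent.Lib_helper1_PGroup.pow_p_mem_coatom hQ' M hM ⟨x, hx⟩, rfl⟩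
        · refine ⟨⟨x, hx⟩ * ⟨y, hy⟩ * ⟨x, hx⟩⁻¹ * ⟨y, hy⟩⁻¹, ?_, rfl⟩
          apply Cfsg.Agent.Lib_helper1_PGroup.commutator_le_coatom hQ' M hM
          rw [commutator_def]
          exact Subgroup.commutator_mem_commutator (Subgroup.mem_top _) (Subgroup.mem_top _)
      have hΦQ : Subgroup.closure (phiSet p Q) ≤ Q := hΦM.trans (Subgroup.map_subtype_le M)
      have hΦcard : Nat.card (Subgroup.closure (phiSet p Q)) < n := by
        have h1 := Subgroup.card_le_of_le hΦM
        rw [Subgroup.card_map_of_injective Q.subtype_injective] at h1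
        have h2 := Cfsg.Agent.Lib_helper5_Fitting.card_lt_of_lt_top (lt_top_iff_ne_top.mpr hM.1)
        omega
      have hgΦ : g ∈ Subgroup.normalizer
          ((Subgroup.closure (phiSet p Q) : Subgroup G) : Set G) := by
        apply mem_normalizer_closure
        rintro z (⟨x, hx, rfl⟩ | ⟨x, hx, y, hy, rfl⟩)
        · left; exact ⟨g * x * g⁻¹, hgQ' x hx, by rw [conj_pow]⟩
        · right; exact ⟨g * x * g⁻¹, hgQ' x hx, g * y * g⁻¹, hgQ' y hy, by group⟩
      have hΦcent := ih _ hΦcard _ rfl (hQ.to_le hΦQ) hgΦ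
      rw [Subgroup.mem_centralizer_iff] at hΦcent
      have hRQ : Subgroup.closure (commSet g Q) ≤ Q := by
        rw [Subgroup.closure_le]
        rintro z ⟨x, hx, rfl⟩
        exact Q.mul_mem (hgQ' x hx) (Q.inv_mem hx)
      by_cases hR : Subgroup.closure (commSet g Q) = Q
      · have hΦZ : ∀ φ ∈ Subgroup.closure (phiSet p Q), ∀ r ∈ Q, φ * r = r * φ := by
          intro φ hφ r hr
          have hle : Subgroup.closure (commSet g Q) ≤ Subgroup.centralizer {φ} := by
            rw [Subgroup.closure_le]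
            rintro z ⟨x, hx, rfl⟩
            show _ ∈ Subgroup.centralizer {φ}
            rw [Subgroup.mem_centralizer_iff]
            intro h hh
            rw [Set.mem_singleton_iff] at hh
            subst hh
            have h1 : x⁻¹ * h * x ∈ Subgroup.closure (phiSet p Q) := by
              have e : x⁻¹ * h * x = (x⁻¹ * h * x⁻¹⁻¹ * h⁻¹) * h := by group
              rw [e]
              exact Subgroup.mul_mem _ (Subgroup.subset_closure
                (Or.inr ⟨x⁻¹, Q.inv_mem hx, h, hΦQ hφ, rfl⟩)) hφ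
            have h2 := hΦcent _ h1
            have h3 := hΦcent _ hφ
            symm
            calc (g * x * g⁻¹ * x⁻¹) * h
                = g * x * g⁻¹ * ((x⁻¹ * h * x) * g) * g⁻¹ * x⁻¹ := by group
              _ = g * x * g⁻¹ * (g * (x⁻¹ * h * x)) * g⁻¹ * x⁻¹ := by rw [h2]
              _ = (g * h) * x * g⁻¹ * x⁻¹ := by group
              _ = (h * g) * x * g⁻¹ * x⁻¹ := by rw [h3]
              _ = h * (g * x * g⁻¹ * x⁻¹) := by group
          rw [hR] at hle
          have h4 := hle hr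
          rw [Subgroup.mem_centralizer_iff] at h4
          exact h4 φ rfl
        have hcΦ : ∀ a ∈ Q, ∀ b ∈ Q, a * b * a⁻¹ * b⁻¹ ∈ Subgroup.closure (phiSet p Q) :=
          fun a ha b hb => Subgroup.subset_closure (Or.inr ⟨a, ha, b, hb, rfl⟩)
        have hcp : ∀ a ∈ Q, ∀ b ∈ Q, (a * b * a⁻¹ * b⁻¹) ^ p = 1 := by
          intro a ha b hb
          have hap : a ^ p ∈ Subgroup.closure (phiSet p Q) :=
            Subgroup.subset_closure (Or.inl ⟨a, ha, rfl⟩)
          have f1 := class_two_pow_mul a b _ rfl (hΦZ _ (hcΦ a ha b hb) _ ha) p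
          have e1 := hΦZ _ hap _ hb
          rw [e1] at f1
          have e2 : 1 * (b * a ^ p) = (a * b * a⁻¹ * b⁻¹) ^ p * (b * a ^ p) := by
            rw [one_mul, ← mul_assoc]; exact f1
          exact (mul_right_cancel e2).symm
        have hcT : ∀ a ∈ Q, ∀ b ∈ Q,
            (a * b * a⁻¹ * b⁻¹) ^ (∑ i ∈ Finset.range e, i) = 1 := by
          intro a ha b hb
          rcases he with ⟨he1, hp2⟩ | ⟨he1, hp2⟩
          · rw [he1]
            have h1 : p ∣ (∑ i ∈ Finset.range p, i) * 2 := by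
              rw [Finset.sum_range_id_mul_two]; exact dvd_mul_right _ _
            have h2 : p ∣ ∑ i ∈ Finset.range p, i :=
              Nat.Coprime.dvd_of_dvd_mul_right
                ((Nat.coprime_primes hp.out Nat.prime_two).mpr hp2) h1
            obtain ⟨t, ht⟩ := h2
            rw [ht, pow_mul, hcp a ha b hb, one_pow]
          · rw [he1]
            have h1 : (∑ i ∈ Finset.range 4, i) = 2 * 3 := by decide
            have h2 := hcp a ha b hb
            rw [hp2] at h2
            rw [h1, pow_mul, h2, one_pow]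
        have hmul : ∀ a ∈ Q, ∀ b ∈ Q, (b * a) ^ e = b ^ e * a ^ e := by
          intro a ha b hb
          have hc := hcΦ a ha b hb
          have f2 := class_two_mul_pow a b _ rfl (hΦZ _ hc _ ha) (hΦZ _ hc _ hb) e
          rw [f2, hcT a ha b hb, mul_one]
        have hxe : ∀ a ∈ Q, a ^ e ∈ Subgroup.closure (phiSet p Q) := by
          intro a ha
          rcases he with ⟨he1, hp2⟩ | ⟨he1, hp2⟩
          · rw [he1]; exact Subgroup.subset_closure (Or.inl ⟨a, ha, rfl⟩)
          · rw [he1, show 4 = 2 * 2 from rfl, pow_mul]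
            have h1 : a ^ 2 ∈ Subgroup.closure (phiSet p Q) :=
              Subgroup.subset_closure (Or.inl ⟨a, ha, by rw [hp2]⟩)
            exact Subgroup.pow_mem _ h1 2
        obtain ⟨Ω, hΩ⟩ : ∃ Ω : Subgroup G, ∀ a, a ∈ Ω ↔ a ∈ Q ∧ a ^ e = 1 := by
          refine ⟨{ carrier := {a | a ∈ Q ∧ a ^ e = 1}
                    mul_mem' := ?_
                    one_mem' := ⟨Q.one_mem, one_pow e⟩
                    inv_mem' := ?_ }, fun a => Iff.rfl⟩
          · rintro a b ⟨ha, hae⟩ ⟨hb, hbe⟩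
            exact ⟨Q.mul_mem ha hb, by rw [hmul b hb a ha, hae, hbe, one_mul]⟩
          · rintro a ⟨ha, hae⟩
            exact ⟨Q.inv_mem ha, by rw [inv_pow, hae, inv_one]⟩
        have hΩQ : Ω ≤ Q := fun a ha => ((hΩ a).mp ha).1
        have hgΩ : g ∈ Subgroup.normalizer (Ω : Set G) := by
          apply Cfsg.Agent.Lib_helper1_Basic.mem_normalizer_of_conj_le
          intro a ha
          obtain ⟨ha1, hae⟩ := (hΩ a).mp ha
          exact (hΩ _).mpr ⟨hgQ' a ha1, by rw [conj_pow, hae]; group⟩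
        have hΩcent := hyp Ω (hQ.to_le hΩQ) hgΩ (fun y hy => ((hΩ y).mp hy).2)
        rw [Subgroup.mem_centralizer_iff] at hΩcent
        have hu : g * x * g⁻¹ ∈ Q := hgQ' x hx
        have hv : x⁻¹ ∈ Q := Q.inv_mem hx
        have hmem : g * x * g⁻¹ * x⁻¹ ∈ Ω := by
          refine (hΩ _).mpr ⟨Q.mul_mem hu hv, ?_⟩
          rw [hmul x⁻¹ hv (g * x * g⁻¹) hu, conj_pow]
          have h9 := hΦcent _ (hxe x hx)
          calc g * x ^ e * g⁻¹ * x⁻¹ ^ e = (g * x ^ e) * g⁻¹ * x⁻¹ ^ e := by group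
            _ = (x ^ e * g) * g⁻¹ * x⁻¹ ^ e := by rw [h9]
            _ = 1 := by rw [inv_pow]; group
        exact (hΩcent _ hmem).symm
      · have hRcard : Nat.card (Subgroup.closure (commSet g Q)) < n := by
          by_contra hc
          push Not at hc
          rw [← hn] at hc
          exact hR (Subgroup.eq_of_le_of_card_ge hRQ hc)
        have hgR : g ∈ Subgroup.normalizer
            ((Subgroup.closure (commSet g Q) : Subgroup G) : Set G) := by
          apply mem_normalizer_closure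
          rintro z ⟨x, hx, rfl⟩
          exact ⟨g * x * g⁻¹, hgQ' x hx, by group⟩
        have hRcent := ih _ hRcard _ rfl (hQ.to_le hRQ) hgR
        rw [Subgroup.mem_centralizer_iff] at hRcent
        exact (hRcent _ (Subgroup.subset_closure ⟨x, hx, rfl⟩)).symm

/-- **S4126** -/
theorem s4126 {G : Type u} [Group G] [Finite G] (p : ℕ) [Fact p.Prime]
    (h : ∀ x : G, (orderOf x = p ∨ (p = 2 ∧ orderOf x = 4)) →
      ∃ a : ℕ, (Subgroup.centralizer ({x} : Set G)).index = p ^ a) :
    Cfsg.HasNormalPComplement p G := by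
  classical
  apply Cfsg.Agent.Lib_helper1_Frobenius.hasNormalPComplement_of_npc
  apply Cfsg.Agent.Lib_helper1_Frobenius.frobenius
  intro Q hQ g hg hgo
  obtain ⟨e, he⟩ : ∃ e : ℕ, (e = p ∧ p ≠ 2) ∨ (e = 4 ∧ p = 2) := by
    by_cases hp2 : p = 2
    · exact ⟨4, Or.inr ⟨rfl, hp2⟩⟩
    · exact ⟨p, Or.inl ⟨rfl, hp2⟩⟩
  refine gen_omega p e he g hgo ?_ (Nat.card Q) Q rfl hQ hg
  intro U hU hgU hUe
  have hgU' : ∀ x ∈ U, g * x * g⁻¹ ∈ U := fun x hx =>
    (Subgroup.mem_normalizer_iff.mp hgU x).mp hx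
  obtain ⟨P, hUP⟩ := hU.exists_le_sylow
  have key : ∀ x ∈ U, ∃ u ∈ (P : Subgroup G), g * x * g⁻¹ = u * x * u⁻¹ := by
    intro x hx
    by_cases hx1 : x = 1
    · exact ⟨1, one_mem _, by rw [hx1]; group⟩
    · have hord : orderOf x = p ∨ (p = 2 ∧ orderOf x = 4) := by
        have hdvd : orderOf x ∣ e := orderOf_dvd_of_pow_eq_one (hUe x hx)
        have hne : orderOf x ≠ 1 := fun h1 => hx1 (orderOf_eq_one_iff.mp h1)
        rcases he with ⟨he1, hp2⟩ | ⟨he1, hp2⟩
        · left
          rw [he1] at hdvd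
          exact ((Nat.dvd_prime Fact.out).mp hdvd).resolve_left hne
        · rw [he1] at hdvd
          have h4 : orderOf x ∣ 2 ^ 2 := hdvd
          obtain ⟨j, hj, hj2⟩ := (Nat.dvd_prime_pow Nat.prime_two).mp h4
          interval_cases j
          · exact absurd hj2 hne
          · left; rw [hj2, hp2, pow_one]
          · right; exact ⟨hp2, hj2⟩
      obtain ⟨a, ha⟩ := h x hord
      have hcop : ((P : Subgroup G).index).Coprime (Subgroup.centralizer ({x} : Set G)).index := by
        rw [ha]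
        exact Nat.Coprime.pow_right _
          ((Nat.Prime.coprime_iff_not_dvd Fact.out).mpr P.not_dvd_index).symm
      obtain ⟨u, hu, c, hc, hguc⟩ :=
        Cfsg.Agent.Lib_helper1_SysNorm.exists_mul_of_coprime_index (P : Subgroup G) _ hcop g
      refine ⟨u, hu, ?_⟩
      have hcx : c * x = x * c := (Subgroup.mem_centralizer_iff.mp hc x rfl).symm
      rw [hguc]
      calc u * c * x * (u * c)⁻¹ = u * (c * x) * c⁻¹ * u⁻¹ := by group
        _ = u * (x * c) * c⁻¹ * u⁻¹ := by rw [hcx]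
        _ = u * x * u⁻¹ := by group
  haveI : Group.IsNilpotent (P : Subgroup G) := P.isPGroup'.isNilpotent
  obtain ⟨n, hn⟩ := (Subgroup.isNilpotent_iff_lowerCentralSeries (P : Subgroup G)).mp inferInstance
  have hpel : ∀ y ∈ U, ∃ j : ℕ, y ^ p ^ j = 1 := by
    intro y hy
    obtain ⟨k, hk⟩ := hU ⟨y, hy⟩
    exact ⟨k, congrArg Subtype.val hk⟩
  have hstep : ∀ i : ℕ, ∀ x ∈ U, x ∈ (P : Subgroup G).lowerCentralSeries i →
      g * x * g⁻¹ * x⁻¹ ∈ (P : Subgroup G).lowerCentralSeries (i + 1) := by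
    intro i x hx hxi
    obtain ⟨u, hu, hgu⟩ := key x hx
    rw [hgu, Subgroup.lowerCentralSeries_succ, Subgroup.commutator_comm]
    have := Subgroup.commutator_mem_commutator hu hxi
    rwa [commutatorElement_def] at this
  have hchain : ∀ k i : ℕ, i + k = n → ∀ x ∈ U, x ∈ (P : Subgroup G).lowerCentralSeries i →
      g * x = x * g := by
    intro k
    induction k with
    | zero =>
      intro i hi x hx hxi
      rw [add_zero] at hi
      rw [hi, hn, Subgroup.mem_bot] at hxi
      rw [hxi]; simp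
    | succ k ih =>
      intro i hi x hx hxi
      have hcU : g * x * g⁻¹ * x⁻¹ ∈ U := U.mul_mem (hgU' x hx) (U.inv_mem hx)
      have hc := ih (i + 1) (by omega) _ hcU (hstep i x hx hxi)
      exact comm_of_comm_commutator p g x hgo (hpel _ hcU) hc
  rw [Subgroup.mem_centralizer_iff]
  intro x hx
  exact (hchain n 0 (by omega) x hx (by rw [Subgroup.lowerCentralSeries_zero]; exact hUP hx)).symm

end Cfsg.Agent.Lib_helper7_ClassP2
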