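import Mathlib.GroupTheory.Nilpotent
import Mathlib.GroupTheory.Commutator.Basic
import Cfsg.Agent.Lib_helper7_Sylow

set_option autoImplicit false

namespace Cfsg.Agent.Lib_helper7_Comm

variable {G : Type*} [Group G]

/-- An element normalizing `K` and `A` normalizes `⁅K, A⁆` (finite group). -/
theorem mem_normalizer_commutator [Finite G] (K A : Subgroup G) (g : G)
    (hK : g ∈ Subgroup.normalizer (K : Set G)) (hA : g ∈ Subgroup.normalizer (A : Set G)) :
    g ∈ Subgroup.normalizer ((⁅K, A⁆ : Subgroup G) : Set G) := by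
  apply Cfsg.Agent.Lib_helper7_Sylow.mem_normalizer_of_conj_le
  rw [Subgroup.map_commutator]
  apply Subgroup.commutator_mono
  · rintro _ ⟨k, hk, rfl⟩
    exact (Subgroup.mem_normalizer_iff.mp hK k).mp hk
  · rintro _ ⟨a, ha, rfl⟩
    exact (Subgroup.mem_normalizer_iff.mp hA a).mp ha

/-- An element normalizing `K` and `A` normalizes `K ⊔ A` (finite group). -/
theorem mem_normalizer_sup [Finite G] (K A : Subgroup G) (g : G)
    (hK : g ∈ Subgroup.normalizer (K : Set G)) (hA : g ∈ Subgroup.normalizer (A : Set G)) :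
    g ∈ Subgroup.normalizer ((K ⊔ A : Subgroup G) : Set G) := by
  apply Cfsg.Agent.Lib_helper7_Sylow.mem_normalizer_of_conj_le
  rw [Subgroup.map_sup]
  apply sup_le_sup
  · rintro _ ⟨k, hk, rfl⟩
    exact (Subgroup.mem_normalizer_iff.mp hK k).mp hk
  · rintro _ ⟨a, ha, rfl⟩
    exact (Subgroup.mem_normalizer_iff.mp hA a).mp ha

/-- Three subgroups lemma modulo a subgroup normalized by the three subgroups. -/
theorem three_subgroups_rel (N H₁ H₂ H₃ : Subgroup G)
    (hn₁ : H₁ ≤ Subgroup.normalizer (N : Set G)) (hn₂ : H₂ ≤ Subgroup.normalizer (N : Set G))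
    (hn₃ : H₃ ≤ Subgroup.normalizer (N : Set G))
    (h1 : ⁅⁅H₂, H₃⁆, H₁⁆ ≤ N) (h2 : ⁅⁅H₃, H₁⁆, H₂⁆ ≤ N) : ⁅⁅H₁, H₂⁆, H₃⁆ ≤ N := by
  have hmap : ∀ H : Subgroup G, H ≤ Subgroup.normalizer (N : Set G) →
      (H.subgroupOf (Subgroup.normalizer (N : Set G))).map
        (Subgroup.normalizer (N : Set G)).subtype = H := by
    intro H hH
    rw [Subgroup.subgroupOf_map_subtype, inf_eq_left.mpr hH]
  have key : ∀ K : Subgroup (Subgroup.normalizer (N : Set G)),
      K ≤ N.subgroupOf (Subgroup.normalizer (N : Set G)) ↔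
        K.map (QuotientGroup.mk' (N.subgroupOf (Subgroup.normalizer (N : Set G)))) = ⊥ := by
    intro K
    rw [Subgroup.map_eq_bot_iff, QuotientGroup.ker_mk']
  have h1' : ⁅⁅H₂.subgroupOf (Subgroup.normalizer (N : Set G)),
      H₃.subgroupOf (Subgroup.normalizer (N : Set G))⁆,
      H₁.subgroupOf (Subgroup.normalizer (N : Set G))⁆ ≤
      N.subgroupOf (Subgroup.normalizer (N : Set G)) := by
    show _ ≤ N.comap (Subgroup.normalizer (N : Set G)).subtype
    rw [← Subgroup.map_le_iff_le_comap, Subgroup.map_commutator, Subgroup.map_commutator,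
      hmap _ hn₁, hmap _ hn₂, hmap _ hn₃]
    exact h1
  have h2' : ⁅⁅H₃.subgroupOf (Subgroup.normalizer (N : Set G)),
      H₁.subgroupOf (Subgroup.normalizer (N : Set G))⁆,
      H₂.subgroupOf (Subgroup.normalizer (N : Set G))⁆ ≤
      N.subgroupOf (Subgroup.normalizer (N : Set G)) := by
    show _ ≤ N.comap (Subgroup.normalizer (N : Set G)).subtype
    rw [← Subgroup.map_le_iff_le_comap, Subgroup.map_commutator, Subgroup.map_commutator,
      hmap _ hn₁, hmap _ hn₂, hmap _ hn₃]
    exact h2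
  have h3' : ⁅⁅H₁.subgroupOf (Subgroup.normalizer (N : Set G)),
      H₂.subgroupOf (Subgroup.normalizer (N : Set G))⁆,
      H₃.subgroupOf (Subgroup.normalizer (N : Set G))⁆ ≤
      N.subgroupOf (Subgroup.normalizer (N : Set G)) := by
    rw [key] at h1' h2' ⊢
    rw [Subgroup.map_commutator, Subgroup.map_commutator] at h1' h2' ⊢
    exact Subgroup.commutator_commutator_eq_bot_of_rotate h1' h2'
  have h4 : ⁅⁅H₁.subgroupOf (Subgroup.normalizer (N : Set G)),
      H₂.subgroupOf (Subgroup.normalizer (N : Set G))⁆,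
      H₃.subgroupOf (Subgroup.normalizer (N : Set G))⁆ ≤
      N.comap (Subgroup.normalizer (N : Set G)).subtype := h3'
  rw [← Subgroup.map_le_iff_le_comap, Subgroup.map_commutator, Subgroup.map_commutator,
    hmap _ hn₁, hmap _ hn₂, hmap _ hn₃] at h4
  exact h4

/-- In a nilpotent subgroup `L`, a subgroup `X ≤ L` with `X ≤ ⁅X, L⁆` is trivial. -/
theorem eq_bot_of_le_commutator (L X : Subgroup G) [hL : Group.IsNilpotent L] (hXL : X ≤ L)
    (h : X ≤ ⁅X, L⁆) : X = ⊥ := by
  obtain ⟨n, hn⟩ := (Subgroup.isNilpotent_iff_lowerCentralSeries L).mp hL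
  have h1 : ∀ k, X ≤ L.lowerCentralSeries k := by
    intro k
    induction k with
    | zero => simpa using hXL
    | succ d ih =>
      rw [Subgroup.lowerCentralSeries_succ]
      exact h.trans (Subgroup.commutator_mono ih le_rfl)
  rw [eq_bot_iff, ← hn]
  exact h1 n

end Cfsg.Agent.Lib_helper7_Comm
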