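import Mathlib
import Cfsg.Prelude
import Cfsg.Agent.Lib_helper2_Comp
import Cfsg.Agent.Lib_helper1_Basic

set_option autoImplicit false
set_option linter.style.haveILetI false

namespace Cfsg.Agent.Lib_helper7_Diag

open Cfsg

theorem s1921 {H : Type*} [Group H] [Finite H] (a : H) (L : Subgroup H) (hL : Cfsg.IsComponent L)
    (hLa : L.map (MulAut.conj a).toMonoidHom ≠ L) (x : H)
    (hxM : x ∈ L ⊔ L.map (MulAut.conj a).toMonoidHom)
    (hxJ : x ∉ Subgroup.closure {y : H | ∃ l ∈ L, y = l * (a * l * a⁻¹)} ⊔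
      ((L ⊔ L.map (MulAut.conj a).toMonoidHom) ⊓
        Subgroup.centralizer ((L ⊔ L.map (MulAut.conj a).toMonoidHom : Subgroup H) : Set H))) :
    Subgroup.closure {y : H | ∃ l ∈ L, y = l * (a * l * a⁻¹)} ⊔ Subgroup.zpowers x =
      L ⊔ L.map (MulAut.conj a).toMonoidHom := by
  obtain ⟨La, hLadef⟩ : ∃ La : Subgroup H, La = L.map (MulAut.conj a).toMonoidHom := ⟨_, rfl⟩
  rw [← hLadef] at hxM hxJ hLa ⊢
  obtain ⟨J, hJ⟩ : ∃ J : Subgroup H, J = Subgroup.closure {y : H | ∃ l ∈ L, y = l * (a * l * a⁻¹)} :=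
    ⟨_, rfl⟩
  rw [← hJ] at hxJ ⊢
  have hLac : Cfsg.IsComponent La := by
    rw [hLadef]; exact Cfsg.Agent.Lib_helper2_Comp.comp_map_equiv hL (MulAut.conj a)
  have hcomm : ∀ k ∈ La, ∀ l ∈ L, k * l = l * k := by
    rcases Cfsg.Agent.Lib_helper2_Comp.comp_eq_or_comm hLac hL with h | h
    · exact absurd h hLa
    · exact h
  have hmemLa : ∀ l ∈ L, a * l * a⁻¹ ∈ La := by
    intro l hl
    rw [hLadef]; exact ⟨l, hl, rfl⟩
  have hgen : ∀ l ∈ L, l * (a * l * a⁻¹) ∈ J := by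
    intro l hl
    rw [hJ]; exact Subgroup.subset_closure ⟨l, hl, rfl⟩
  have hJM : J ≤ L ⊔ La := by
    rw [hJ, Subgroup.closure_le]
    rintro _ ⟨l, hl, rfl⟩
    exact Subgroup.mul_mem_sup hl (hmemLa l hl)
  -- decomposition of `x`
  have hLn : L ≤ Subgroup.normalizer (La : Set H) := by
    intro l hl
    apply Subgroup.centralizer_le_normalizer
    rw [Subgroup.mem_centralizer_iff]
    intro k hk
    exact hcomm k hk l hl
  obtain ⟨l₁, hl₁, k, hk, hx⟩ := Cfsg.Agent.Lib_helper2_Comp.mem_sup_of_le_normalizer hLn hxM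
  rw [hLadef] at hk
  obtain ⟨l₂, hl₂, rfl⟩ := hk
  obtain ⟨y, hy⟩ : ∃ y : H, y = l₁ * l₂⁻¹ := ⟨_, rfl⟩
  have hyL : y ∈ L := by rw [hy]; exact L.mul_mem hl₁ (L.inv_mem hl₂)
  have hxy : x = y * (l₂ * (a * l₂ * a⁻¹)) := by
    rw [← hx, hy]
    show l₁ * (a * l₂ * a⁻¹) = l₁ * l₂⁻¹ * (l₂ * (a * l₂ * a⁻¹))
    group
  obtain ⟨Y, hY⟩ : ∃ Y : Subgroup H, Y = J ⊔ Subgroup.zpowers x := ⟨_, rfl⟩
  rw [← hY]
  have hJY : J ≤ Y := by rw [hY]; exact le_sup_left
  have hxY : x ∈ Y := by rw [hY]; exact Subgroup.mem_sup_right (Subgroup.mem_zpowers x)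
  have hyY : y ∈ Y := by
    have h1 : y = x * (l₂ * (a * l₂ * a⁻¹))⁻¹ := by rw [hxy]; group
    rw [h1]
    exact Y.mul_mem hxY (Y.inv_mem (hJY (hgen l₂ hl₂)))
  -- `y` is not central in `L`
  have hync : ¬ ∀ l ∈ L, y * l = l * y := by
    intro hc
    apply hxJ
    rw [hxy]
    refine Subgroup.mul_mem _ (Subgroup.mem_sup_right ?_) (Subgroup.mem_sup_left (hgen l₂ hl₂))
    refine Subgroup.mem_inf.mpr ⟨Subgroup.mem_sup_left hyL, ?_⟩
    have h1 : L ⊔ La ≤ Subgroup.centralizer ({y} : Set H) := by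
      apply sup_le
      · intro l hl
        rw [Subgroup.mem_centralizer_iff]
        intro z hz
        rw [Set.mem_singleton_iff] at hz
        subst hz
        exact hc l hl
      · intro k hk
        rw [Subgroup.mem_centralizer_iff]
        intro z hz
        rw [Set.mem_singleton_iff] at hz
        subst hz
        exact (hcomm k hk z hyL).symm
    rw [Subgroup.mem_centralizer_iff]
    intro m hm
    exact (Subgroup.mem_centralizer_iff.mp (h1 hm) y rfl).symm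
  -- `Y ⊓ L` is normalized by `L`
  have hnorm : L ≤ Subgroup.normalizer ((Y ⊓ L : Subgroup H) : Set H) := by
    intro l hl
    apply Cfsg.Agent.Lib_helper1_Basic.mem_normalizer_of_conj_le
    intro n hn
    obtain ⟨hnY, hnL⟩ := Subgroup.mem_inf.mp hn
    refine Subgroup.mem_inf.mpr ⟨?_, L.mul_mem (L.mul_mem hl hnL) (L.inv_mem hl)⟩
    have hk := hcomm (a * l * a⁻¹) (hmemLa l hl) n hnL
    have h1 : l * n * l⁻¹ = (l * (a * l * a⁻¹)) * n * (l * (a * l * a⁻¹))⁻¹ := by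
      calc l * n * l⁻¹ = l * (n * (a * l * a⁻¹)) * (a * l * a⁻¹)⁻¹ * l⁻¹ := by group
        _ = l * ((a * l * a⁻¹) * n) * (a * l * a⁻¹)⁻¹ * l⁻¹ := by rw [hk]
        _ = (l * (a * l * a⁻¹)) * n * (l * (a * l * a⁻¹))⁻¹ := by group
    rw [h1]
    exact Y.mul_mem (Y.mul_mem (hJY (hgen l hl)) hnY) (Y.inv_mem (hJY (hgen l hl)))
  have hLY : L ≤ Y := by
    rcases Cfsg.Agent.Lib_helper2_Comp.qs_sub_normal hL.2 (Y ⊓ L) inf_le_right hnorm with h | h
    · rw [← h]; exact inf_le_left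
    · exfalso
      exact hync (fun l hl => h y (Subgroup.mem_inf.mpr ⟨hyY, hyL⟩) l hl)
  have hLaY : La ≤ Y := by
    rw [hLadef]
    rintro _ ⟨l, hl, rfl⟩
    have h1 : (MulAut.conj a).toMonoidHom l = l⁻¹ * (l * (a * l * a⁻¹)) := by
      show a * l * a⁻¹ = l⁻¹ * (l * (a * l * a⁻¹))
      group
    rw [h1]
    exact Y.mul_mem (Y.inv_mem (hLY hl)) (hJY (hgen l hl))
  apply le_antisymm
  · rw [hY]
    refine sup_le hJM ?_
    rw [Subgroup.zpowers_le]
    exact hxM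
  · exact sup_le hLY hLaY

end Cfsg.Agent.Lib_helper7_Diag
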