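import Cfsg.Agent.Lib_helper7_OddCyclic
import Cfsg.Agent.Lib_helper1_Coprime
import Cfsg.Agent.Lib_helper7_Sylow
import Cfsg.Agent.Lib_helper1_Frobenius
import Cfsg.Prelude.Def_PLocal

set_option autoImplicit false

namespace Cfsg.Agent.Lib_helper7_OddOmega

universe u

theorem pow_mul_comm' {P : Type*} [Group P] (x y c : P) (hc : y * x = c * x * y)
    (hcy : Commute y c) (n : ℕ) : y ^ n * x = c ^ n * x * y ^ n := by
  induction n with
  | zero => simp
  | succ n ih =>
    calc y ^ (n + 1) * x = y * (y ^ n * x) := by rw [pow_succ', mul_assoc]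
      _ = y * (c ^ n * x * y ^ n) := by rw [ih]
      _ = (y * c ^ n) * x * y ^ n := by simp only [mul_assoc]
      _ = c ^ n * (y * x) * y ^ n := by rw [(hcy.pow_right n).eq]; simp only [mul_assoc]
      _ = c ^ n * (c * x * y) * y ^ n := by rw [hc]
      _ = c ^ (n + 1) * x * y ^ (n + 1) := by rw [pow_succ, pow_succ']; simp only [mul_assoc]

theorem mul_pow' {P : Type*} [Group P] (x y c : P) (hc : y * x = c * x * y)
    (hcx : Commute x c) (hcy : Commute y c) (n : ℕ) :
    (x * y) ^ n = c ^ (∑ i ∈ Finset.range n, i) * x ^ n * y ^ n := by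
  induction n with
  | zero => simp
  | succ n ih =>
    rw [pow_succ, ih, Finset.sum_range_succ]
    generalize (∑ i ∈ Finset.range n, i) = T
    calc c ^ T * x ^ n * y ^ n * (x * y)
        = c ^ T * x ^ n * (y ^ n * x) * y := by simp only [mul_assoc]
      _ = c ^ T * x ^ n * (c ^ n * x * y ^ n) * y := by
          rw [pow_mul_comm' x y c hc hcy n]
      _ = c ^ T * (x ^ n * c ^ n) * x * y ^ n * y := by simp only [mul_assoc]
      _ = c ^ T * (c ^ n * x ^ n) * x * y ^ n * y := by rw [((hcx.pow_left n).pow_right n).eq]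
      _ = c ^ (T + n) * x ^ (n + 1) * y ^ (n + 1) := by
          rw [pow_add, pow_succ, pow_succ]; simp only [mul_assoc]

section indexp

variable {P : Type*} [Group P] [Finite P] {p : ℕ} [Fact p.Prime]

theorem index_p_normal (hP : IsPGroup p P) (M : Subgroup P) (hM : M.index = p) : M.Normal := by
  have hp : p.Prime := Fact.out
  apply Subgroup.normal_of_index_eq_minFac_card
  obtain ⟨k, hk⟩ := hP.exists_card_eq
  have hk0 : k ≠ 0 := by
    rintro rfl
    rw [pow_zero] at hk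
    have := M.index_dvd_card
    rw [hM, hk] at this
    exact hp.one_lt.ne' (Nat.dvd_one.mp this)
  rw [hM, hk, Nat.pow_minFac hk0, hp.minFac_eq]

theorem index_p_pow_mem (hP : IsPGroup p P) (M : Subgroup P) (hM : M.index = p) (g : P) :
    g ^ p ∈ M := by
  haveI := index_p_normal hP M hM
  have := Subgroup.pow_index_mem M g
  rwa [hM] at this

theorem index_p_comm_mem (hP : IsPGroup p P) (M : Subgroup P) (hM : M.index = p) (a b : P) :
    a * b * a⁻¹ * b⁻¹ ∈ M := by
  haveI := index_p_normal hP M hM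
  have hcardq : Nat.card (P ⧸ M) = p := by rw [← Subgroup.index_eq_card]; exact hM
  haveI : IsCyclic (P ⧸ M) := isCyclic_of_prime_card hcardq
  rw [← QuotientGroup.eq_one_iff]
  simp only [QuotientGroup.mk_mul, QuotientGroup.mk_inv]
  rw [Cfsg.Agent.Lib_helper2_Cyc.cyclic_comm (a : P ⧸ M) (b : P ⧸ M)]
  group

end indexp

section rel

variable {G : Type u} [Group G] [Finite G] {p : ℕ} [Fact p.Prime]

theorem rel_index (Q M : Subgroup G) (hMQ : M ≤ Q) (hcard : Nat.card M * p = Nat.card Q) :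
    (M.subgroupOf Q).index = p := by
  have h1 := (M.subgroupOf Q).card_mul_index
  have h2 : Nat.card (M.subgroupOf Q) = Nat.card M :=
    Nat.card_congr (Subgroup.subgroupOfEquivOfLe hMQ).toEquiv
  rw [h2, ← hcard] at h1
  exact Nat.eq_of_mul_eq_mul_left Nat.card_pos h1

theorem rel_pow_mem (Q M : Subgroup G) (hQ : IsPGroup p Q) (hMQ : M ≤ Q)
    (hcard : Nat.card M * p = Nat.card Q) (x : G) (hx : x ∈ Q) : x ^ p ∈ M := by
  have := index_p_pow_mem (P := ↥Q) hQ (M.subgroupOf Q) (rel_index Q M hMQ hcard) ⟨x, hx⟩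
  rw [Subgroup.mem_subgroupOf] at this
  simpa using this

theorem rel_comm_mem (Q M : Subgroup G) (hQ : IsPGroup p Q) (hMQ : M ≤ Q)
    (hcard : Nat.card M * p = Nat.card Q) (a b : G) (ha : a ∈ Q) (hb : b ∈ Q) :
    a * b * a⁻¹ * b⁻¹ ∈ M := by
  have := index_p_comm_mem (P := ↥Q) hQ (M.subgroupOf Q) (rel_index Q M hMQ hcard) ⟨a, ha⟩ ⟨b, hb⟩
  rw [Subgroup.mem_subgroupOf] at this
  simpa using this

/-- For `p` odd: an element of order prime to `p` normalizing the `p`-subgroup `Q` and commuting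
with every element `x ∈ Q` with `x ^ p = 1` centralizes `Q`. -/
theorem centralizes_aux (p : ℕ) [Fact p.Prime] (hp2 : p ≠ 2) (g : G) (hgo : (orderOf g).Coprime p) :
    ∀ (n : ℕ) (Q : Subgroup G), Nat.card Q ≤ n → IsPGroup p Q →
      g ∈ Subgroup.normalizer (Q : Set G) → (∀ x ∈ Q, x ^ p = 1 → g * x = x * g) →
      g ∈ Subgroup.centralizer (Q : Set G) := by
  have hp : p.Prime := Fact.out
  intro n
  induction n with
  | zero =>
    intro Q hcard
    have : 0 < Nat.card Q := Nat.card_pos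
    omega
  | succ n ih =>
    intro Q hcard hQ hgN hΩ
    by_contra hgC
    have hBN : Subgroup.zpowers g ≤ Subgroup.normalizer (Q : Set G) := by
      rw [Subgroup.zpowers_le]; exact hgN
    have hBsolv : Group.IsSolvable ↥(Subgroup.zpowers g) :=
      isSolvable_of_comm (fun a b => by
        obtain ⟨a, i, rfl⟩ := a
        obtain ⟨b, j, rfl⟩ := b
        exact Subtype.ext (zpow_mul_comm g i j))
    -- (1) proper `g`-invariant subgroups are centralized
    have h1 : ∀ R : Subgroup G, R ≤ Q → R ≠ Q → g ∈ Subgroup.normalizer (R : Set G) →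
        Subgroup.zpowers g ≤ Subgroup.centralizer (R : Set G) := by
      intro R hRQ hne hgR
      have hcardR : Nat.card R ≤ n := by
        by_contra h
        push_neg at h
        exact hne (Subgroup.eq_of_le_of_card_ge hRQ (by omega))
      have := ih R hcardR (hQ.to_le hRQ) hgR (fun x hx hxp => hΩ x (hRQ hx) hxp)
      rw [Subgroup.zpowers_le]
      exact this
    obtain ⟨k, hk⟩ := hQ.exists_card_eq
    have hcop : (Nat.card (Subgroup.zpowers g)).Coprime (Nat.card Q) := by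
      rw [hk, Nat.card_zpowers]
      exact Nat.Coprime.pow_right k hgo
    -- (2) `Q = [Q, B]`
    have h2 : ⁅Q, Subgroup.zpowers g⁆ = Q := by
      by_contra hne
      have hle : ⁅Q, Subgroup.zpowers g⁆ ≤ Q :=
        Cfsg.Agent.Lib_helper1_Coprime.commutator_le_of_normalizes (Subgroup.zpowers g) Q hBN
      have hgD : g ∈ Subgroup.normalizer ((⁅Q, Subgroup.zpowers g⁆ : Subgroup G) : Set G) :=
        Cfsg.Agent.Lib_helper1_Coprime.normalizer_commutator_right (Subgroup.zpowers g) Q hBN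
          (Subgroup.mem_zpowers g)
      have hc := h1 ⁅Q, Subgroup.zpowers g⁆ hle hne hgD
      have h3 : ⁅⁅Q, Subgroup.zpowers g⁆, Subgroup.zpowers g⁆ = ⊥ := by
        rw [Subgroup.commutator_eq_bot_iff_le_centralizer, Subgroup.le_centralizer_iff]
        exact hc
      have h4 := Cfsg.Agent.Lib_helper1_Coprime.commutator_commutator_eq (Subgroup.zpowers g) Q hBN
        hcop (Or.inl hBsolv)
      rw [h3] at h4
      apply hgC
      have h5 : Subgroup.zpowers g ≤ Subgroup.centralizer (Q : Set G) := by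
        rw [Subgroup.le_centralizer_iff]
        exact Subgroup.commutator_eq_bot_iff_le_centralizer.mp h4.symm
      exact h5 (Subgroup.mem_zpowers g)
    -- (3) the index-`p` subgroups of `Q` and their intersection
    obtain ⟨𝓜, h𝓜⟩ : ∃ 𝓜 : Set (Subgroup G), 𝓜 = {M | M ≤ Q ∧ Nat.card M * p = Nat.card Q} :=
      ⟨_, rfl⟩
    have hconj : ∀ h ∈ Subgroup.normalizer (Q : Set G), ∀ M ∈ 𝓜,
        M.map (MulAut.conj h).toMonoidHom ∈ 𝓜 := by
      intro h hh M hM
      rw [h𝓜] at hM ⊢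
      obtain ⟨hMQ, hMc⟩ := hM
      refine ⟨?_, ?_⟩
      · rintro _ ⟨m, hm, rfl⟩
        exact (Subgroup.mem_normalizer_iff.mp hh m).mp (hMQ hm)
      · rw [Subgroup.card_map_of_injective (MulAut.conj h).injective]
        exact hMc
    have hNnorm : ∀ h ∈ Subgroup.normalizer (Q : Set G),
        h ∈ Subgroup.normalizer ((Q ⊓ sInf 𝓜 : Subgroup G) : Set G) := by
      intro h hh
      apply Cfsg.Agent.Lib_helper7_Sylow.mem_normalizer_of_conj_le
      rintro _ ⟨x, ⟨hxQ, hxM⟩, rfl⟩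
      refine Subgroup.mem_inf.mpr ⟨(Subgroup.mem_normalizer_iff.mp hh x).mp hxQ, ?_⟩
      have hxM' : x ∈ sInf 𝓜 := hxM
      rw [Subgroup.mem_sInf] at hxM' ⊢
      intro M hM
      have hM' := hconj h⁻¹ (Subgroup.inv_mem _ hh) M hM
      obtain ⟨m, hm, hmx⟩ := hxM' _ hM'
      have hmx' : h⁻¹ * m * h⁻¹⁻¹ = x := hmx
      have e : (MulAut.conj h).toMonoidHom x = m := by
        show h * x * h⁻¹ = m
        rw [← hmx']
        group
      rw [e]
      exact hm
    have hk0 : k ≠ 0 := by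
      rintro rfl
      rw [pow_zero] at hk
      have hQbot : Q = ⊥ := Subgroup.card_eq_one.mp hk
      apply hgC
      rw [Subgroup.mem_centralizer_iff]
      intro x hx
      rw [hQbot] at hx
      have : x = 1 := Subgroup.mem_bot.mp hx
      rw [this, one_mul, mul_one]
    obtain ⟨k', rfl⟩ := Nat.exists_eq_succ_of_ne_zero hk0
    obtain ⟨M₀', hM₀'⟩ := Sylow.exists_subgroup_card_pow_prime (G := ↥Q) p (n := k')
      (by rw [hk]; exact pow_dvd_pow p (Nat.le_succ k'))
    have hM₀card : Nat.card ↥(M₀'.map Q.subtype) = p ^ k' := by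
      rw [Subgroup.card_map_of_injective Q.subtype_injective]; exact hM₀'
    have hM₀ : M₀'.map Q.subtype ∈ 𝓜 := by
      rw [h𝓜]
      exact ⟨Subgroup.map_subtype_le _, by rw [hM₀card, hk, pow_succ]⟩
    have hNle : Q ⊓ sInf 𝓜 ≤ Q := inf_le_left
    have hNne : Q ⊓ sInf 𝓜 ≠ Q := by
      intro h
      have h3 : Q ≤ M₀'.map Q.subtype :=
        fun q hq => (inf_le_right.trans (sInf_le hM₀)) (h.ge hq)
      have h4 := Subgroup.card_le_of_le h3
      rw [hM₀card, hk] at h4
      have : p ^ k' < p ^ (k' + 1) := Nat.pow_lt_pow_right hp.one_lt (Nat.lt_succ_self k')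
      exact absurd h4 (Nat.not_le.mpr this)
    have hBN' : Subgroup.zpowers g ≤ Subgroup.centralizer ((Q ⊓ sInf 𝓜 : Subgroup G) : Set G) :=
      h1 _ hNle hNne (hNnorm g hgN)
    have hQN : Q ≤ Subgroup.normalizer ((Q ⊓ sInf 𝓜 : Subgroup G) : Set G) :=
      fun q hq => hNnorm q (Subgroup.le_normalizer hq)
    have hpowN : ∀ x ∈ Q, x ^ p ∈ Q ⊓ sInf 𝓜 := by
      intro x hx
      refine Subgroup.mem_inf.mpr ⟨Q.pow_mem hx p, ?_⟩
      rw [Subgroup.mem_sInf]
      intro M hM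
      rw [h𝓜] at hM
      exact rel_pow_mem Q M hQ hM.1 hM.2 x hx
    have hcommN : ∀ a ∈ Q, ∀ b ∈ Q, a * b * a⁻¹ * b⁻¹ ∈ Q ⊓ sInf 𝓜 := by
      intro a ha b hb
      refine Subgroup.mem_inf.mpr
        ⟨Q.mul_mem (Q.mul_mem (Q.mul_mem ha hb) (Q.inv_mem ha)) (Q.inv_mem hb), ?_⟩
      rw [Subgroup.mem_sInf]
      intro M hM
      rw [h𝓜] at hM
      exact rel_comm_mem Q M hQ hM.1 hM.2 a b ha hb
    -- (4) `N ≤ Z(Q)`
    have h4 : ⁅⁅Q, Subgroup.zpowers g⁆, Q ⊓ sInf 𝓜⁆ = ⊥ := by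
      apply Subgroup.commutator_commutator_eq_bot_of_rotate
      · have : ⁅Subgroup.zpowers g, Q ⊓ sInf 𝓜⁆ = ⊥ :=
          Subgroup.commutator_eq_bot_iff_le_centralizer.mpr hBN'
        rw [this]
        exact Subgroup.commutator_bot_left _
      · have hNQ' : ⁅Q ⊓ sInf 𝓜, Q⁆ ≤ Q ⊓ sInf 𝓜 :=
          Cfsg.Agent.Lib_helper1_Coprime.commutator_le_of_normalizes Q _ hQN
        rw [Subgroup.commutator_eq_bot_iff_le_centralizer]
        exact hNQ'.trans (Subgroup.le_centralizer_iff.mp hBN')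
    rw [h2] at h4
    have hNcent : ∀ z ∈ Q ⊓ sInf 𝓜, ∀ q ∈ Q, q * z = z * q := by
      have h5 : Q ≤ Subgroup.centralizer ((Q ⊓ sInf 𝓜 : Subgroup G) : Set G) :=
        Subgroup.commutator_eq_bot_iff_le_centralizer.mp h4
      intro z hz q hq
      exact (Subgroup.mem_centralizer_iff.mp (h5 hq) z hz).symm
    -- (5) the power map is multiplicative on `Q`
    obtain ⟨j, hj⟩ : ∃ j, p - 1 = 2 * j := by
      have hodd : Odd p := hp.odd_of_ne_two hp2
      obtain ⟨j, hj⟩ := hodd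
      exact ⟨j, by omega⟩
    have hsum : ∑ i ∈ Finset.range p, i = p * j := by
      have e1 := Finset.sum_range_id_mul_two p
      rw [hj] at e1
      have e2 : (∑ i ∈ Finset.range p, i) * 2 = (p * j) * 2 := by rw [e1]; ring
      exact Nat.eq_of_mul_eq_mul_right (by norm_num) e2
    have hmul : ∀ a ∈ Q, ∀ b ∈ Q, (a * b) ^ p = a ^ p * b ^ p := by
      intro a ha b hb
      have hc : b * a = (b * a * b⁻¹ * a⁻¹) * a * b := by group
      have hcN := hcommN b hb a ha
      have hca : Commute a (b * a * b⁻¹ * a⁻¹) := hNcent _ hcN a ha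
      have hcb : Commute b (b * a * b⁻¹ * a⁻¹) := hNcent _ hcN b hb
      have e1 := pow_mul_comm' a b _ hc hcb p
      have e2 : b ^ p * a = a * b ^ p := (hNcent _ (hpowN b hb) a ha).symm
      have e3 : (b * a * b⁻¹ * a⁻¹) ^ p = 1 := by
        rw [e2, mul_assoc] at e1
        exact mul_eq_right.mp e1.symm
      rw [mul_pow' a b _ hc hca hcb p, hsum, pow_mul, e3, one_pow, one_mul]
    -- (6) commutators have `p`-th power one
    have hK : ∀ x ∈ Q, ∀ b ∈ Subgroup.zpowers g, (x * b * x⁻¹ * b⁻¹) ^ p = 1 := by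
      intro x hx b hb
      have hbN : b ∈ Subgroup.normalizer (Q : Set G) := hBN hb
      have hy : b * x⁻¹ * b⁻¹ ∈ Q := (Subgroup.mem_normalizer_iff.mp hbN x⁻¹).mp (Q.inv_mem hx)
      have e : x * b * x⁻¹ * b⁻¹ = x * (b * x⁻¹ * b⁻¹) := by group
      have hz : (x⁻¹) ^ p ∈ Q ⊓ sInf 𝓜 := hpowN _ (Q.inv_mem hx)
      have e3 : b * (x⁻¹) ^ p = (x⁻¹) ^ p * b :=
        (Subgroup.mem_centralizer_iff.mp (hBN' hb) _ hz).symm
      rw [e, hmul x hx _ hy, conj_pow, e3, mul_assoc, mul_inv_cancel, mul_one, inv_pow,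
        mul_inv_cancel]
    let K : Subgroup G :=
      { carrier := {x | x ∈ Q ∧ x ^ p = 1}
        mul_mem' := fun {a b} ha hb =>
          ⟨Q.mul_mem ha.1 hb.1, by rw [hmul a ha.1 b hb.1, ha.2, hb.2, one_mul]⟩
        one_mem' := ⟨Q.one_mem, one_pow p⟩
        inv_mem' := fun {a} ha => ⟨Q.inv_mem ha.1, by rw [inv_pow, ha.2, inv_one]⟩ }
    have hQK : ⁅Q, Subgroup.zpowers g⁆ ≤ K := by
      rw [Subgroup.commutator_le]
      intro x hx b hb
      show x * b * x⁻¹ * b⁻¹ ∈ K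
      refine ⟨?_, hK x hx b hb⟩
      have hy : b * x⁻¹ * b⁻¹ ∈ Q :=
        (Subgroup.mem_normalizer_iff.mp (hBN hb) x⁻¹).mp (Q.inv_mem hx)
      have e : x * b * x⁻¹ * b⁻¹ = x * (b * x⁻¹ * b⁻¹) := by group
      rw [e]
      exact Q.mul_mem hx hy
    rw [h2] at hQK
    apply hgC
    rw [Subgroup.mem_centralizer_iff]
    intro x hx
    exact (hΩ x hx (hQK hx).2).symm

theorem centralizes_of_omega (p : ℕ) [Fact p.Prime] (hp2 : p ≠ 2) (g : G)
    (hgo : (orderOf g).Coprime p) (Q : Subgroup G) (hQ : IsPGroup p Q)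
    (hgN : g ∈ Subgroup.normalizer (Q : Set G)) (hΩ : ∀ x ∈ Q, x ^ p = 1 → g * x = x * g) :
    g ∈ Subgroup.centralizer (Q : Set G) :=
  centralizes_aux p hp2 g hgo (Nat.card Q) Q le_rfl hQ hgN hΩ

theorem npc_of_omega_central (hp2 : p ≠ 2) (P : Sylow p G)
    (hZ : Cfsg.omegaOne p (P : Subgroup G) ≤ Subgroup.center G) :
    Cfsg.Agent.Lib_helper1_Frobenius.NPC p G := by
  apply Cfsg.Agent.Lib_helper1_Frobenius.frobenius
  intro Q hQ g hg hgo
  apply centralizes_of_omega p hp2 g hgo Q hQ hg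
  intro x hxQ hxp
  obtain ⟨h, -, hh⟩ := Cfsg.Agent.Lib_helper7_Sylow.exists_conj_le_sylow p P Q hQ
  have hzP : h * x * h⁻¹ ∈ (P : Subgroup G) := hh x hxQ
  have hzp : (h * x * h⁻¹) ^ p = 1 := by rw [conj_pow, hxp, mul_one, mul_inv_cancel]
  have hzc : h * x * h⁻¹ ∈ Subgroup.center G := hZ (Subgroup.subset_closure ⟨hzP, hzp⟩)
  have hxc : x ∈ Subgroup.center G := by
    have := (inferInstance : (Subgroup.center G).Normal).conj_mem _ hzc h⁻¹
    have e : h⁻¹ * (h * x * h⁻¹) * h⁻¹⁻¹ = x := by group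
    rwa [e] at this
  exact Subgroup.mem_center_iff.mp hxc g

end rel

end Cfsg.Agent.Lib_helper7_OddOmega
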