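import Mathlib
import Cfsg.Prelude
import Cfsg.Agent.Lib_helper1_PGroup
import Cfsg.Agent.Lib_helper7_Alperin
import Cfsg.Agent.Lib_helper7_OddOmega

set_option autoImplicit false
set_option linter.style.haveILetI false

namespace Cfsg.Agent.Lib_helper7_ExSC

variable {G : Type*} [Group G]

/-- the abstract data extracted from an extraspecial Sylow subgroup of order `p^3`, exponent `p^2` -/
structure Dat (p : ℕ) (P Z : Subgroup G) : Prop where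
  hZP : Z ≤ P
  cardZ : Nat.card Z = p
  cardP : Nat.card P = p ^ 3
  comm_mem : ∀ a ∈ P, ∀ b ∈ P, a * b * a⁻¹ * b⁻¹ ∈ Z
  pow_mem : ∀ a ∈ P, a ^ p ∈ Z
  central : ∀ a ∈ P, ∀ x ∈ Z, a * x = x * a
  exists_pow : ∃ a ∈ P, a ^ p ≠ 1
  noncentral : ∀ y ∈ P, y ∉ Z → ∃ u ∈ P, u * y ≠ y * u

theorem isPGroup_zpowers {p : ℕ} {y : G} (hy : y ^ p = 1) : IsPGroup p (Subgroup.zpowers y) := by
  rintro ⟨x, hx⟩
  obtain ⟨k, rfl⟩ := Subgroup.mem_zpowers_iff.mp hx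
  refine ⟨1, Subtype.ext ?_⟩
  show (y ^ k) ^ (p ^ 1) = 1
  rw [pow_one, ← zpow_natCast, ← zpow_mul, mul_comm, zpow_mul, zpow_natCast, hy, one_zpow]

section dat

variable [Finite G] {p : ℕ} [hpF : Fact p.Prime] {P Z : Subgroup G}

theorem orderOf_Z (D : Dat p P Z) {c : G} (hc : c ∈ Z) (hc1 : c ≠ 1) : orderOf c = p := by
  have h1 : orderOf c ∣ p := D.cardZ ▸ Subgroup.orderOf_dvd_natCard Z hc
  rcases (Nat.dvd_prime hpF.out).mp h1 with h | h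
  · exact absurd (orderOf_eq_one_iff.mp h) hc1
  · exact h

theorem pow_p_Z (D : Dat p P Z) {c : G} (hc : c ∈ Z) : c ^ p = 1 := by
  have h1 : orderOf c ∣ p := D.cardZ ▸ Subgroup.orderOf_dvd_natCard Z hc
  exact orderOf_dvd_iff_pow_eq_one.mp h1

theorem cyc_Z (D : Dat p P Z) {c : G} (hc : c ∈ Z) (hc1 : c ≠ 1) :
    ∀ x ∈ Z, ∃ k : ℕ, c ^ k = x := by
  have h1 : Subgroup.zpowers c = Z := by
    apply Subgroup.eq_of_le_of_card_ge (Subgroup.zpowers_le.mpr hc)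
    rw [D.cardZ, Nat.card_zpowers, orderOf_Z D hc hc1]
  intro x hx
  rw [← h1] at hx
  have h2 : x ∈ Submonoid.powers c := mem_powers_iff_mem_zpowers.mpr hx
  exact (Submonoid.mem_powers_iff _ _).mp h2

theorem exists_conj_mul (D : Dat p P Z) {y : G} (hy : y ∈ P) (hyZ : y ∉ Z) {z₀ : G}
    (hz₀ : z₀ ∈ Z) : ∃ u ∈ P, u * y = z₀ * y * u := by
  obtain ⟨u₀, hu₀, hne⟩ := D.noncentral y hy hyZ
  have hc₀ : u₀ * y * u₀⁻¹ * y⁻¹ ∈ Z := D.comm_mem u₀ hu₀ y hy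
  have hc₀1 : u₀ * y * u₀⁻¹ * y⁻¹ ≠ 1 := by
    intro h
    apply hne
    have h2 : u₀ * y = (u₀ * y * u₀⁻¹ * y⁻¹) * (y * u₀) := by group
    rw [h2, h, one_mul]
  obtain ⟨d, hd⟩ := cyc_Z D hc₀ hc₀1 z₀ hz₀
  have hc : u₀ * y = (u₀ * y * u₀⁻¹ * y⁻¹) * y * u₀ := by group
  have hcy : Commute u₀ (u₀ * y * u₀⁻¹ * y⁻¹) := D.central u₀ hu₀ _ hc₀
  have h3 := Cfsg.Agent.Lib_helper7_OddOmega.pow_mul_comm' y u₀ _ hc hcy d
  refine ⟨u₀ ^ d, P.pow_mem hu₀ d, ?_⟩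
  rw [h3, hd]

theorem mul_pow_p (hp : p ≠ 2) (D : Dat p P Z) {a b : G} (ha : a ∈ P) (hb : b ∈ P) :
    (b * a) ^ p = b ^ p * a ^ p := by
  have hpp : p.Prime := hpF.out
  obtain ⟨j, hj⟩ : ∃ j, p - 1 = 2 * j := by
    have hodd : Odd p := hpp.odd_of_ne_two hp
    obtain ⟨j, hj⟩ := hodd
    exact ⟨j, by omega⟩
  have hsum : ∑ i ∈ Finset.range p, i = p * j := by
    have e1 := Finset.sum_range_id_mul_two p
    rw [hj] at e1
    have e2 : (∑ i ∈ Finset.range p, i) * 2 = (p * j) * 2 := by rw [e1]; ring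
    exact Nat.eq_of_mul_eq_mul_right (by norm_num) e2
  have hcZ : a * b * a⁻¹ * b⁻¹ ∈ Z := D.comm_mem a ha b hb
  have hc : a * b = (a * b * a⁻¹ * b⁻¹) * b * a := by group
  have hcb : Commute b (a * b * a⁻¹ * b⁻¹) := D.central b hb _ hcZ
  have hca : Commute a (a * b * a⁻¹ * b⁻¹) := D.central a ha _ hcZ
  have h1 := Cfsg.Agent.Lib_helper7_OddOmega.mul_pow' b a _ hc hcb hca p
  rw [h1, hsum, pow_mul, pow_p_Z D hcZ, one_pow, one_mul]

end dat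

section closure

variable {z z' : G}

theorem V_comm_gen (hzz' : z * z' = z' * z) :
    ∀ e ∈ Subgroup.closure ({z, z'} : Set G), e * z = z * e ∧ e * z' = z' * e := by
  intro e he
  induction he using Subgroup.closure_induction with
  | mem x hx =>
    rcases hx with rfl | hx
    · exact ⟨rfl, hzz'⟩
    · rw [Set.mem_singleton_iff] at hx
      subst hx
      exact ⟨hzz'.symm, rfl⟩
  | one => simp
  | mul x y _ _ hx hy =>
    refine ⟨?_, ?_⟩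
    · rw [mul_assoc, hy.1, ← mul_assoc, hx.1, mul_assoc]
    · rw [mul_assoc, hy.2, ← mul_assoc, hx.2, mul_assoc]
  | inv x _ hx =>
    refine ⟨?_, ?_⟩
    · have h := hx.1
      calc x⁻¹ * z = x⁻¹ * (z * x) * x⁻¹ := by group
        _ = x⁻¹ * (x * z) * x⁻¹ := by rw [h]
        _ = z * x⁻¹ := by group
    · have h := hx.2
      calc x⁻¹ * z' = x⁻¹ * (z' * x) * x⁻¹ := by group
        _ = x⁻¹ * (x * z') * x⁻¹ := by rw [h]
        _ = z' * x⁻¹ := by group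

theorem V_comm (hzz' : z * z' = z' * z) :
    ∀ e ∈ Subgroup.closure ({z, z'} : Set G), ∀ e' ∈ Subgroup.closure ({z, z'} : Set G),
      e * e' = e' * e := by
  intro e he e' he'
  have hg := V_comm_gen hzz' e he
  induction he' using Subgroup.closure_induction with
  | mem x hx =>
    rcases hx with rfl | hx
    · exact hg.1
    · rw [Set.mem_singleton_iff] at hx
      subst hx
      exact hg.2
  | one => simp
  | mul x y _ _ hx hy =>
    rw [← mul_assoc, hx, mul_assoc, hy, mul_assoc]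
  | inv x _ hx =>
    calc e * x⁻¹ = x⁻¹ * (x * e) * x⁻¹ := by group
      _ = x⁻¹ * (e * x) * x⁻¹ := by rw [hx]
      _ = x⁻¹ * e := by group

theorem V_inv (hzz' : z * z' = z' * z) {t : G} (htz : t * z * t⁻¹ = z⁻¹)
    (htz' : t * z' * t⁻¹ = z'⁻¹) :
    ∀ e ∈ Subgroup.closure ({z, z'} : Set G), t * e * t⁻¹ = e⁻¹ := by
  intro e he
  induction he using Subgroup.closure_induction with
  | mem x hx =>
    rcases hx with rfl | hx
    · exact htz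
    · rw [Set.mem_singleton_iff] at hx
      subst hx
      exact htz'
  | one => simp
  | mul x y hx hy hx' hy' =>
    calc t * (x * y) * t⁻¹ = (t * x * t⁻¹) * (t * y * t⁻¹) := by group
      _ = x⁻¹ * y⁻¹ := by rw [hx', hy']
      _ = (y * x)⁻¹ := by group
      _ = (x * y)⁻¹ := by rw [V_comm hzz' x hx y hy]
  | inv x _ hx' =>
    calc t * x⁻¹ * t⁻¹ = (t * x * t⁻¹)⁻¹ := by group
      _ = x⁻¹⁻¹ := by rw [hx']

end closure

theorem conj_like (V : Subgroup G) {t a : G} (ht : ∀ e ∈ V, t * e * t⁻¹ = e⁻¹)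
    (ha : ∀ e ∈ V, a * e * a⁻¹ ∈ V) :
    ∀ e ∈ V, (t * a * t⁻¹) * e * (t * a * t⁻¹)⁻¹ = a * e * a⁻¹ := by
  intro e he
  have h1 : t⁻¹ * e * t = e⁻¹ := by
    have h2 := ht e⁻¹ (V.inv_mem he)
    rw [inv_inv] at h2
    calc t⁻¹ * e * t = t⁻¹ * (t * e⁻¹ * t⁻¹) * t := by rw [h2]
      _ = e⁻¹ := by group
  have h3 := ht (a * e * a⁻¹)⁻¹ (V.inv_mem (ha e he))
  rw [inv_inv] at h3
  calc (t * a * t⁻¹) * e * (t * a * t⁻¹)⁻¹ = t * (a * (t⁻¹ * e * t) * a⁻¹) * t⁻¹ := by group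
    _ = t * (a * e⁻¹ * a⁻¹) * t⁻¹ := by rw [h1]
    _ = t * (a * e * a⁻¹)⁻¹ * t⁻¹ := by group
    _ = a * e * a⁻¹ := h3

/-- the elements acting on `V` like some element of `P` -/
def actSub (P V : Subgroup G) (hPV : ∀ a ∈ P, ∀ e ∈ V, a * e * a⁻¹ ∈ V) : Subgroup G where
  carrier := {m | ∃ a ∈ P, ∀ e ∈ V, m * e * m⁻¹ = a * e * a⁻¹}
  one_mem' := ⟨1, P.one_mem, fun e _ => rfl⟩
  mul_mem' := by
    rintro m₁ m₂ ⟨a₁, ha₁, h₁⟩ ⟨a₂, ha₂, h₂⟩
    refine ⟨a₁ * a₂, P.mul_mem ha₁ ha₂, fun e he => ?_⟩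
    calc m₁ * m₂ * e * (m₁ * m₂)⁻¹ = m₁ * (m₂ * e * m₂⁻¹) * m₁⁻¹ := by group
      _ = m₁ * (a₂ * e * a₂⁻¹) * m₁⁻¹ := by rw [h₂ e he]
      _ = a₁ * (a₂ * e * a₂⁻¹) * a₁⁻¹ := h₁ _ (hPV a₂ ha₂ e he)
      _ = a₁ * a₂ * e * (a₁ * a₂)⁻¹ := by group
  inv_mem' := by
    rintro m ⟨a, ha, h⟩
    refine ⟨a⁻¹, P.inv_mem ha, fun e he => ?_⟩
    have he' : a⁻¹ * e * a⁻¹⁻¹ ∈ V := hPV a⁻¹ (P.inv_mem ha) e he
    have h1 := h _ he'
    have h2 : m * (a⁻¹ * e * a⁻¹⁻¹) * m⁻¹ = e := by rw [h1]; group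
    calc m⁻¹ * e * m⁻¹⁻¹ = m⁻¹ * (m * (a⁻¹ * e * a⁻¹⁻¹) * m⁻¹) * m⁻¹⁻¹ := by rw [h2]
      _ = a⁻¹ * e * a⁻¹⁻¹ := by group

theorem mem_actSub (P V : Subgroup G) (hPV : ∀ a ∈ P, ∀ e ∈ V, a * e * a⁻¹ ∈ V) (m : G) :
    m ∈ actSub P V hPV ↔ ∃ a ∈ P, ∀ e ∈ V, m * e * m⁻¹ = a * e * a⁻¹ := Iff.rfl

theorem main [Finite G] {p : ℕ} [hpF : Fact p.Prime] (hp : p ≠ 2) (P : Sylow p G)
    (Z : Subgroup G) (D : Dat p (P : Subgroup G) Z) (z : G) (hz : z ∈ Z) (g : G)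
    (hgP : g * z * g⁻¹ ∈ (P : Subgroup G)) : g * z * g⁻¹ ∈ Z := by
  by_contra hnZ
  have hpp : p.Prime := hpF.out
  have hzp : z ^ p = 1 := pow_p_Z D hz
  have hz'p : (g * z * g⁻¹) ^ p = 1 := by
    rw [conj_pow, hzp]; group
  obtain ⟨z', hz'⟩ : ∃ z' : G, z' = g * z * g⁻¹ := ⟨_, rfl⟩
  rw [← hz'] at hgP hnZ hz'p
  have hzP : z ∈ (P : Subgroup G) := D.hZP hz
  have hz1 : z ≠ 1 := by
    rintro rfl
    apply hnZ
    rw [hz']
    have h0 : g * 1 * g⁻¹ = 1 := by group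
    rw [h0]; exact Z.one_mem
  have hz'1 : z' ≠ 1 := by
    rintro rfl
    exact hnZ Z.one_mem
  have hzz' : z * z' = z' * z := (D.central z' hgP z hz).symm
  have hz'o : orderOf z' = p := by
    have h1 : orderOf z' ∣ p := orderOf_dvd_of_pow_eq_one hz'p
    rcases (Nat.dvd_prime hpp).mp h1 with h | h
    · exact absurd (orderOf_eq_one_iff.mp h) hz'1
    · exact h
  -- Step 2: the element `h`
  have hPC : (P : Subgroup G) ≤ Subgroup.centralizer ({z} : Set G) := by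
    intro a ha
    rw [Subgroup.mem_centralizer_iff]
    intro x hx
    rw [Set.mem_singleton_iff] at hx
    subst hx
    exact (D.central a ha x hz).symm
  have hcomm0 : z * (g⁻¹ * z * g) = (g⁻¹ * z * g) * z := by
    calc z * (g⁻¹ * z * g) = g⁻¹ * ((g * z * g⁻¹) * z) * g := by group
      _ = g⁻¹ * (z * (g * z * g⁻¹)) * g := by rw [← hz', hzz']
      _ = (g⁻¹ * z * g) * z := by group
  have hDK : Subgroup.zpowers (g⁻¹ * z * g) ≤ Subgroup.centralizer ({z} : Set G) := by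
    rw [Subgroup.zpowers_le, Subgroup.mem_centralizer_iff]
    intro x hx
    rw [Set.mem_singleton_iff] at hx
    subst hx
    exact hcomm0
  have hDp : IsPGroup p (Subgroup.zpowers (g⁻¹ * z * g)) := by
    apply isPGroup_zpowers
    have h0 : g⁻¹ * z * g = g⁻¹ * z * g⁻¹⁻¹ := by group
    rw [h0, conj_pow, hzp]; group
  obtain ⟨c₁, hc₁, hc₁P⟩ := Cfsg.Agent.Lib_helper7_Alperin.exists_conj_of_relIndex
    (P : Subgroup G) (Subgroup.centralizer ({z} : Set G)) (Subgroup.zpowers (g⁻¹ * z * g))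
    P.isPGroup' (Cfsg.Agent.Lib_helper7_Alperin.not_dvd_relIndex_of_sylow P _ hPC) hDK hDp
  have hc₁z : z * c₁ = c₁ * z := Subgroup.mem_centralizer_iff.mp hc₁ z rfl
  obtain ⟨h, hh⟩ : ∃ h : G, h = g * c₁⁻¹ := ⟨_, rfl⟩
  have hhz : h * z * h⁻¹ = z' := by
    calc h * z * h⁻¹ = g * (c₁⁻¹ * (z * c₁)) * g⁻¹ := by rw [hh]; group
      _ = g * (c₁⁻¹ * (c₁ * z)) * g⁻¹ := by rw [hc₁z]
      _ = z' := by rw [hz']; group
  obtain ⟨y₀, hy₀⟩ : ∃ y₀ : G, y₀ = h⁻¹ * z * h := ⟨_, rfl⟩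
  have hy₀P : y₀ ∈ (P : Subgroup G) := by
    have h1 := hc₁P _ (Subgroup.mem_zpowers (g⁻¹ * z * g))
    have h2 : y₀ = c₁ * (g⁻¹ * z * g) * c₁⁻¹ := by rw [hy₀, hh]; group
    rw [h2]; exact h1
  have hy₀Z : y₀ ∉ Z := by
    intro hyZ
    obtain ⟨k, hk⟩ := cyc_Z D hz hz1 y₀ hyZ
    have h1 : z' ^ k = z := by
      calc z' ^ k = h * z ^ k * h⁻¹ := by rw [← hhz, conj_pow]
        _ = h * (h⁻¹ * z * h) * h⁻¹ := by rw [hk, hy₀]
        _ = z := by group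
    have hkp : ¬ p ∣ k := by
      rintro ⟨j, rfl⟩
      rw [pow_mul, hz'p, one_pow] at h1
      exact hz1 h1.symm
    have hcop : k.Coprime (orderOf z') := by
      rw [hz'o]
      exact ((Nat.Prime.coprime_iff_not_dvd hpp).2 hkp).symm
    obtain ⟨m, hm⟩ := exists_pow_eq_self_of_coprime hcop
    rw [h1] at hm
    apply hnZ
    rw [← hm]
    exact Z.pow_mem hz m
  -- Step 3: the elements `u`, `u'`
  obtain ⟨u, huP, hu⟩ := exists_conj_mul D hgP hnZ hz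
  obtain ⟨u₁, hu₁P, hu₁⟩ := exists_conj_mul D hy₀P hy₀Z (Z.inv_mem hz)
  obtain ⟨u', hu'⟩ : ∃ u' : G, u' = h * u₁ * h⁻¹ := ⟨_, rfl⟩
  have huz : u * z * u⁻¹ = z := by
    rw [D.central u huP z hz]; group
  have huz' : u * z' * u⁻¹ = z * z' := by
    rw [hu]; group
  have hu₁z : u₁ * z * u₁⁻¹ = z := by
    rw [D.central u₁ hu₁P z hz]; group
  have hu'z : u' * z * u'⁻¹ = z'⁻¹ * z := by
    calc u' * z * u'⁻¹ = h * (u₁ * y₀ * u₁⁻¹) * h⁻¹ := by rw [hu', hy₀]; group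
      _ = h * (z⁻¹ * y₀) * h⁻¹ := by rw [hu₁]; group
      _ = (h * z * h⁻¹)⁻¹ * (h * y₀ * h⁻¹) := by group
      _ = z'⁻¹ * z := by rw [hhz, hy₀]; group
  have hu'z' : u' * z' * u'⁻¹ = z' := by
    calc u' * z' * u'⁻¹ = h * (u₁ * (h⁻¹ * z' * h) * u₁⁻¹) * h⁻¹ := by rw [hu']; group
      _ = h * (u₁ * z * u₁⁻¹) * h⁻¹ := by rw [← hhz]; group
      _ = h * z * h⁻¹ := by rw [hu₁z]
      _ = z' := hhz
  -- Step 4: `w` and `t`
  obtain ⟨w, hw⟩ : ∃ w : G, w = u * u' * u := ⟨_, rfl⟩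
  have hwz : w * z * w⁻¹ = z'⁻¹ := by
    calc w * z * w⁻¹ = u * (u' * (u * z * u⁻¹) * u'⁻¹) * u⁻¹ := by rw [hw]; group
      _ = u * (z'⁻¹ * z) * u⁻¹ := by rw [huz, hu'z]
      _ = (u * z' * u⁻¹)⁻¹ * (u * z * u⁻¹) := by group
      _ = (z * z')⁻¹ * z := by rw [huz', huz]
      _ = z'⁻¹ := by group
  have hwz' : w * z' * w⁻¹ = z := by
    calc w * z' * w⁻¹ = u * (u' * (u * z' * u⁻¹) * u'⁻¹) * u⁻¹ := by rw [hw]; group
      _ = u * (u' * (z * z') * u'⁻¹) * u⁻¹ := by rw [huz']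
      _ = u * ((u' * z * u'⁻¹) * (u' * z' * u'⁻¹)) * u⁻¹ := by group
      _ = u * (z'⁻¹ * z * z') * u⁻¹ := by rw [hu'z, hu'z']
      _ = u * (z'⁻¹ * (z' * z)) * u⁻¹ := by rw [mul_assoc z'⁻¹ z z', hzz']
      _ = u * z * u⁻¹ := by group
      _ = z := huz
  obtain ⟨t, ht⟩ : ∃ t : G, t = w * w := ⟨_, rfl⟩
  have htz : t * z * t⁻¹ = z⁻¹ := by
    calc t * z * t⁻¹ = w * (w * z * w⁻¹) * w⁻¹ := by rw [ht]; group
      _ = (w * z' * w⁻¹)⁻¹ := by rw [hwz]; group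
      _ = z⁻¹ := by rw [hwz']
  have htz' : t * z' * t⁻¹ = z'⁻¹ := by
    calc t * z' * t⁻¹ = w * (w * z' * w⁻¹) * w⁻¹ := by rw [ht]; group
      _ = z'⁻¹ := by rw [hwz', hwz]
  -- the subgroup `V`
  obtain ⟨V, hV⟩ : ∃ V : Subgroup G, V = Subgroup.closure ({z, z'} : Set G) := ⟨_, rfl⟩
  have hzV : z ∈ V := by rw [hV]; exact Subgroup.subset_closure (Set.mem_insert _ _)
  have hz'V : z' ∈ V := by
    rw [hV]; exact Subgroup.subset_closure (Set.mem_insert_of_mem _ rfl)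
  have hZV : Z ≤ V := by
    intro x hx
    obtain ⟨k, hk⟩ := cyc_Z D hz hz1 x hx
    rw [← hk]; exact V.pow_mem hzV k
  have hVinv : ∀ e ∈ V, t * e * t⁻¹ = e⁻¹ := by
    rw [hV]; exact V_inv hzz' htz htz'
  have hVnorm : ∀ a ∈ (P : Subgroup G), ∀ e ∈ V, a * e * a⁻¹ ∈ V := by
    intro a ha e he
    rw [hV] at he
    induction he using Subgroup.closure_induction with
    | mem x hx =>
      rcases hx with rfl | hx
      · have h1 : a * x * a⁻¹ = x := by rw [D.central a ha x hz]; group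
        rw [h1]; exact hzV
      · rw [Set.mem_singleton_iff] at hx
        subst hx
        have h1 : a * x * a⁻¹ = (a * x * a⁻¹ * x⁻¹) * x := by group
        rw [h1]
        exact V.mul_mem (hZV (D.comm_mem a ha x hgP)) hz'V
    | one =>
      have h1 : a * 1 * a⁻¹ = 1 := by group
      rw [h1]; exact V.one_mem
    | mul x y _ _ hx hy =>
      have h1 : a * (x * y) * a⁻¹ = (a * x * a⁻¹) * (a * y * a⁻¹) := by group
      rw [h1]; exact V.mul_mem hx hy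
    | inv x _ hx =>
      have h1 : a * x⁻¹ * a⁻¹ = (a * x * a⁻¹)⁻¹ := by group
      rw [h1]; exact V.inv_mem hx
  -- Frattini-type argument
  have hPM : (P : Subgroup G) ≤ actSub (P : Subgroup G) V hVnorm := by
    intro a ha
    exact ⟨a, ha, fun e _ => rfl⟩
  have hDM : (P : Subgroup G).map (MulAut.conj t).toMonoidHom ≤ actSub (P : Subgroup G) V hVnorm := by
    rintro _ ⟨a, ha, rfl⟩
    exact ⟨a, ha, conj_like V hVinv (hVnorm a ha)⟩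
  have hDp2 : IsPGroup p ((P : Subgroup G).map (MulAut.conj t).toMonoidHom) := P.isPGroup'.map _
  obtain ⟨m, hmM, hm⟩ := Cfsg.Agent.Lib_helper7_Alperin.exists_conj_of_relIndex
    (P : Subgroup G) (actSub (P : Subgroup G) V hVnorm) _
    P.isPGroup' (Cfsg.Agent.Lib_helper7_Alperin.not_dvd_relIndex_of_sylow P _ hPM) hDM hDp2
  obtain ⟨a₁, ha₁, hma₁⟩ := hmM
  obtain ⟨t₃, ht₃⟩ : ∃ t₃ : G, t₃ = a₁⁻¹ * m * t := ⟨_, rfl⟩
  have ht₃P : ∀ a ∈ (P : Subgroup G), t₃ * a * t₃⁻¹ ∈ (P : Subgroup G) := by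
    intro a ha
    have h1 : m * (t * a * t⁻¹) * m⁻¹ ∈ (P : Subgroup G) := hm _ ⟨a, ha, rfl⟩
    have h2 : t₃ * a * t₃⁻¹ = a₁⁻¹ * (m * (t * a * t⁻¹) * m⁻¹) * a₁ := by rw [ht₃]; group
    rw [h2]
    exact Subgroup.mul_mem _ (Subgroup.mul_mem _ (Subgroup.inv_mem _ ha₁) h1) ha₁
  have ht₃V : ∀ e ∈ V, t₃ * e * t₃⁻¹ = e⁻¹ := by
    intro e he
    calc t₃ * e * t₃⁻¹ = a₁⁻¹ * (m * (t * e * t⁻¹) * m⁻¹) * a₁ := by rw [ht₃]; group
      _ = a₁⁻¹ * (m * e⁻¹ * m⁻¹) * a₁ := by rw [hVinv e he]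
      _ = a₁⁻¹ * (a₁ * e⁻¹ * a₁⁻¹) * a₁ := by rw [hma₁ _ (V.inv_mem he)]
      _ = e⁻¹ := by group
  -- Step 5: the final contradiction
  obtain ⟨a, haP, hap⟩ := D.exists_pow
  have hapZ : a ^ p ∈ Z := D.pow_mem a haP
  obtain ⟨a', ha'⟩ : ∃ a' : G, a' = t₃ * a * t₃⁻¹ := ⟨_, rfl⟩
  have ha'P : a' ∈ (P : Subgroup G) := by rw [ha']; exact ht₃P a haP
  obtain ⟨b, hb⟩ : ∃ b : G, b = a' * a⁻¹ := ⟨_, rfl⟩
  have hbP : b ∈ (P : Subgroup G) := by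
    rw [hb]; exact Subgroup.mul_mem _ ha'P (Subgroup.inv_mem _ haP)
  have hbz' : b * z' = z' * b := by
    have he1 : a⁻¹ * z' * a ∈ V := by
      have h1 := hVnorm a⁻¹ (Subgroup.inv_mem _ haP) z' hz'V
      rwa [inv_inv] at h1
    have h2 := conj_like V ht₃V (hVnorm a haP) _ he1
    rw [← ha'] at h2
    have h3 : a' * (a⁻¹ * z' * a) * a'⁻¹ = z' := by
      rw [h2]; group
    calc b * z' = (a' * (a⁻¹ * z' * a) * a'⁻¹) * b := by rw [hb]; group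
      _ = z' * b := by rw [h3]
  have ha'p : a' ^ p = (a ^ p)⁻¹ := by
    rw [ha', conj_pow]
    exact ht₃V _ (hZV hapZ)
  have hmulp : a' ^ p = b ^ p * a ^ p := by
    have h1 : a' = b * a := by rw [hb]; group
    rw [h1]
    exact mul_pow_p hp D haP hbP
  have hbp : b ^ p = (a ^ p)⁻¹ * (a ^ p)⁻¹ := by
    have h1 : b ^ p * a ^ p = (a ^ p)⁻¹ := by rw [← hmulp, ha'p]
    calc b ^ p = (b ^ p * a ^ p) * (a ^ p)⁻¹ := by group
      _ = (a ^ p)⁻¹ * (a ^ p)⁻¹ := by rw [h1]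
  have hbp1 : b ^ p ≠ 1 := by
    intro h
    rw [h] at hbp
    have h1 : (a ^ p) ^ 2 = 1 := by
      calc (a ^ p) ^ 2 = ((a ^ p)⁻¹ * (a ^ p)⁻¹)⁻¹ := by rw [pow_two]; group
        _ = 1 := by rw [← hbp, inv_one]
    have h2 : orderOf (a ^ p) ∣ 2 := orderOf_dvd_of_pow_eq_one h1
    rw [orderOf_Z D hapZ hap] at h2
    exact hp ((Nat.prime_dvd_prime_iff_eq hpp Nat.prime_two).mp h2)
  have hbpZ : b ^ p ∈ Z := D.pow_mem b hbP
  have hbo : orderOf b = p ^ 2 := by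
    have h1 : b ^ (p ^ 2) = 1 := by
      rw [pow_two, pow_mul]; exact pow_p_Z D hbpZ
    have h2 : orderOf b ∣ p ^ 2 := orderOf_dvd_of_pow_eq_one h1
    obtain ⟨i, hi, hi2⟩ := (Nat.dvd_prime_pow hpp).mp h2
    interval_cases i
    · exfalso
      rw [pow_zero, orderOf_eq_one_iff] at hi2
      apply hbp1; rw [hi2, one_pow]
    · exfalso
      apply hbp1
      have h3 := pow_orderOf_eq_one b
      rwa [hi2, pow_one] at h3
    · exact hi2
  obtain ⟨Q, hQ⟩ : ∃ Q : Subgroup G, Q = (P : Subgroup G) ⊓ Subgroup.centralizer ({z'} : Set G) :=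
    ⟨_, rfl⟩
  have hbQ : Subgroup.zpowers b ≤ Q := by
    rw [Subgroup.zpowers_le, hQ]
    refine Subgroup.mem_inf.mpr ⟨hbP, Subgroup.mem_centralizer_iff.mpr ?_⟩
    intro x hx
    rw [Set.mem_singleton_iff] at hx
    subst hx
    exact hbz'.symm
  have hz'Q : z' ∈ Q := by
    rw [hQ]
    refine Subgroup.mem_inf.mpr ⟨hgP, Subgroup.mem_centralizer_iff.mpr ?_⟩
    intro x hx
    rw [Set.mem_singleton_iff] at hx
    subst hx
    rfl
  have hz'b : z' ∉ Subgroup.zpowers b := by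
    intro hmem
    have h2 : z' ∈ Submonoid.powers b := mem_powers_iff_mem_zpowers.mpr hmem
    obtain ⟨k, hk⟩ := (Submonoid.mem_powers_iff _ _).mp h2
    have h3 : b ^ (k * p) = 1 := by rw [pow_mul, hk, hz'p]
    have h4 : p ^ 2 ∣ k * p := hbo ▸ orderOf_dvd_of_pow_eq_one h3
    have h5 : p ∣ k := by
      rw [pow_two] at h4
      exact Nat.dvd_of_mul_dvd_mul_right hpp.pos h4
    obtain ⟨j, rfl⟩ := h5
    apply hnZ
    rw [← hk, pow_mul]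
    exact Z.pow_mem hbpZ j
  have hQP : Q ≤ (P : Subgroup G) := by rw [hQ]; exact inf_le_left
  have hQcard : Nat.card Q ∣ p ^ 3 := D.cardP ▸ Subgroup.card_dvd_of_le hQP
  obtain ⟨i, hi, hi2⟩ := (Nat.dvd_prime_pow hpp).mp hQcard
  have hbcard : Nat.card (Subgroup.zpowers b) = p ^ 2 := by rw [Nat.card_zpowers, hbo]
  have h2i : p ^ 2 ∣ p ^ i := by
    rw [← hbcard, ← hi2]; exact Subgroup.card_dvd_of_le hbQ
  have h2i' : 2 ≤ i := (Nat.pow_dvd_pow_iff_le_right hpp.one_lt).mp h2i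
  have hi3 : i = 3 := by
    by_contra hne
    have hi2' : i = 2 := by omega
    have h1 : Subgroup.zpowers b = Q := by
      apply Subgroup.eq_of_le_of_card_ge hbQ
      rw [hbcard, hi2, hi2']
    exact hz'b (h1 ▸ hz'Q)
  have hQeq : Q = (P : Subgroup G) := by
    apply Subgroup.eq_of_le_of_card_ge hQP
    rw [D.cardP, hi2, hi3]
  obtain ⟨u₂, hu₂P, hu₂⟩ := D.noncentral z' hgP hnZ
  apply hu₂
  have h1 : u₂ ∈ Q := hQeq ▸ hu₂P
  rw [hQ] at h1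
  exact (Subgroup.mem_centralizer_iff.mp (Subgroup.mem_inf.mp h1).2 z' rfl).symm

theorem s3053 {G : Type*} [Group G] [Finite G]
    {p : ℕ} [Fact p.Prime] (hp : p ≠ 2) (P : Sylow p G) (hE : Cfsg.IsExtraspecial p ↥P)
    (hcard : Nat.card P = p ^ 3) (hexp : Monoid.exponent ↥P = p ^ 2) :
    Cfsg.IsStronglyClosed ((Subgroup.center ↥P).map (P : Subgroup G).subtype) (P : Subgroup G) := by
  have hpp : p.Prime := Fact.out
  obtain ⟨⟨hPg, hfrat, hcomm⟩, hcen⟩ := hE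
  have D : Dat p (P : Subgroup G) ((Subgroup.center ↥P).map (P : Subgroup G).subtype) := by
    refine ⟨Subgroup.map_subtype_le _, ?_, hcard, ?_, ?_, ?_, ?_, ?_⟩
    · rw [Subgroup.card_subtype]; exact hcen
    · intro a ha b hb
      refine ⟨⟨a, ha⟩ * ⟨b, hb⟩ * ⟨a, ha⟩⁻¹ * ⟨b, hb⟩⁻¹, ?_, rfl⟩
      rw [← hcomm, commutator_def, ← commutatorElement_def]
      exact Subgroup.commutator_mem_commutator (Subgroup.mem_top _) (Subgroup.mem_top _)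
    · intro a ha
      refine ⟨⟨a, ha⟩ ^ p, ?_, rfl⟩
      rw [← hfrat]
      exact Cfsg.Agent.Lib_helper1_PGroup.pow_p_mem_frattini hPg _
    · rintro a ha _ ⟨y, hy, rfl⟩
      exact congrArg Subtype.val (Subgroup.mem_center_iff.mp hy ⟨a, ha⟩)
    · by_contra hcon
      push_neg at hcon
      have h1 : Monoid.exponent ↥P ∣ p := by
        apply Monoid.exponent_dvd_of_forall_pow_eq_one
        intro x
        exact Subtype.ext (hcon x x.2)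
      rw [hexp] at h1
      have h2 : p ^ 2 ≤ p := Nat.le_of_dvd hpp.pos h1
      have h3 : p < p ^ 2 := by
        have := hpp.one_lt
        nlinarith
      omega
    · intro y hy hyZ
      by_contra hcon
      push_neg at hcon
      apply hyZ
      refine ⟨⟨y, hy⟩, Subgroup.mem_center_iff.mpr (fun u => Subtype.ext (hcon u u.2)), rfl⟩
  exact ⟨D.hZP, fun x hx g hg => main hp P _ D x hx g hg⟩

end Cfsg.Agent.Lib_helper7_ExSC
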