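import Mathlib
import Cfsg.Prelude.Def_Transfer
import Cfsg.Agent.Lib_helper5_QuadCount
import Cfsg.Agent.Lib_helper1_PGroup

set_option autoImplicit false

namespace Cfsg.Agent.Lib_helper7_ExtraCount

open Cfsg Cfsg.Agent.Lib_helper5_QuadCount
open scoped commutatorElement

variable {G : Type*} [Group G]

theorem sg_inv (w : G) : sg w⁻¹ = sg w := by
  by_cases h : w = 1
  · rw [h, inv_one]
  · rw [sg_of_ne h, sg_of_ne (fun h' => h (inv_eq_one.mp h'))]

theorem ind_eq_ite (P : Prop) [Decidable P] : ind P = if P then 1 else 0 := by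
  split_ifs with h
  · exact ind_pos h
  · exact ind_neg h

section Main

variable [Fintype G] (hΦ : Nat.card (Subgroup.center G) = 2)
  (hsq : ∀ x : G, x * x ∈ Subgroup.center G)
  (hcomm : ∀ x y : G, y * x * y⁻¹ * x⁻¹ ∈ Subgroup.center G)
  (A : Subgroup G)

include hΦ hcomm

theorem beta_mul (a0 a x : G) :
    sg ((a0 * a) * x * (a0 * a)⁻¹ * x⁻¹) =
      sg (a0 * x * a0⁻¹ * x⁻¹) * sg (a * x * a⁻¹ * x⁻¹) := by
  have hmem := hcomm x a
  have hmem0 := hcomm x a0
  have hcen := Subgroup.mem_center_iff.mp hmem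
  obtain ⟨c, hcdef⟩ : ∃ c, c = a * x * a⁻¹ * x⁻¹ := ⟨_, rfl⟩
  rw [← hcdef] at hcen hmem ⊢
  have h2 : a * x * a⁻¹ = c * x := by rw [hcdef]; group
  have h1 : (a0 * a) * x * (a0 * a)⁻¹ * x⁻¹ = c * (a0 * x * a0⁻¹ * x⁻¹) := by
    calc a0 * a * x * (a0 * a)⁻¹ * x⁻¹ = a0 * (a * x * a⁻¹) * a0⁻¹ * x⁻¹ := by group
      _ = a0 * (c * x) * a0⁻¹ * x⁻¹ := by rw [h2]
      _ = (a0 * c) * x * a0⁻¹ * x⁻¹ := by simp only [mul_assoc]
      _ = (c * a0) * x * a0⁻¹ * x⁻¹ := by rw [hcen a0]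
      _ = c * (a0 * x * a0⁻¹ * x⁻¹) := by simp only [mul_assoc]
  rw [h1, sg_mul (Subgroup.center G) hΦ hmem hmem0, mul_comm]

/-- character sum over a subgroup -/
theorem sum_beta_sub (x : G) :
    ∑ a : G, ind (a ∈ A) * sg (a * x * a⁻¹ * x⁻¹) =
      (Nat.card A : ℤ) * ind (x ∈ Subgroup.centralizer (A : Set G)) := by
  classical
  by_cases hx : x ∈ Subgroup.centralizer (A : Set G)
  · have h1 : ∀ a : G, ind (a ∈ A) * sg (a * x * a⁻¹ * x⁻¹) =
        if a ∈ A then (1 : ℤ) else 0 := by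
      intro a
      split_ifs with ha
      · have h2 := (Subgroup.mem_centralizer_iff.mp hx) a ha
        have h3 : a * x * a⁻¹ * x⁻¹ = 1 := by rw [h2]; group
        rw [h3, sg_one, ind_pos ha, mul_one]
      · rw [ind_neg ha, zero_mul]
    rw [ind_pos hx, mul_one]
    simp_rw [h1]
    rw [Finset.sum_boole, Nat.card_eq_fintype_card, Fintype.card_subtype]
  · rw [ind_neg hx, mul_zero]
    rw [Subgroup.mem_centralizer_iff] at hx
    push_neg at hx
    obtain ⟨a0, ha0, hne⟩ := hx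
    have hb0 : sg (a0 * x * a0⁻¹ * x⁻¹) = -1 := by
      apply sg_of_ne
      intro h
      apply hne
      calc a0 * x = (a0 * x * a0⁻¹ * x⁻¹) * (x * a0) := by group
        _ = x * a0 := by rw [h, one_mul]
    have hmul : ∀ a : G, ind (a0 * a ∈ A) * sg ((a0 * a) * x * (a0 * a)⁻¹ * x⁻¹) =
        - (ind (a ∈ A) * sg (a * x * a⁻¹ * x⁻¹)) := by
      intro a
      have e : (a0 * a ∈ A) = (a ∈ A) := propext (A.mul_mem_cancel_left ha0)
      rw [e, beta_mul hΦ hcomm a0 a x, hb0]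
      ring
    have h3 := Equiv.sum_comp (Equiv.mulLeft a0)
      (fun a => ind (a ∈ A) * sg (a * x * a⁻¹ * x⁻¹))
    simp only [Equiv.coe_mulLeft] at h3
    rw [Finset.sum_congr rfl (fun a _ => hmul a), Finset.sum_neg_distrib] at h3
    linarith

/-- double counting: `|A| |C(A)| = |G| |A ∩ Z|` -/
theorem card_mul_centralizer :
    Nat.card A * Nat.card (Subgroup.centralizer (A : Set G)) =
      Nat.card G * Nat.card (A ⊓ Subgroup.center G : Subgroup G) := by
  classical
  have h1 : ∑ x : G, ∑ a : G, ind (a ∈ A) * sg (a * x * a⁻¹ * x⁻¹) =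
      (Nat.card A : ℤ) * (Nat.card (Subgroup.centralizer (A : Set G)) : ℤ) := by
    simp_rw [sum_beta_sub hΦ hcomm A]
    rw [← Finset.mul_sum]
    congr 1
    simp_rw [ind_eq_ite]
    rw [Finset.sum_boole, Nat.card_eq_fintype_card, Fintype.card_subtype]
  have h2 : ∑ x : G, ∑ a : G, ind (a ∈ A) * sg (a * x * a⁻¹ * x⁻¹) =
      (Nat.card G : ℤ) * (Nat.card (A ⊓ Subgroup.center G : Subgroup G) : ℤ) := by
    rw [Finset.sum_comm]
    have h3 : ∀ a : G, ∑ x : G, ind (a ∈ A) * sg (a * x * a⁻¹ * x⁻¹) =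
        (Nat.card G : ℤ) * (if a ∈ A ⊓ Subgroup.center G then (1 : ℤ) else 0) := by
      intro a
      rw [← Finset.mul_sum]
      have h4 : ∑ x : G, sg (a * x * a⁻¹ * x⁻¹) = ∑ x : G, sg (x * a * x⁻¹ * a⁻¹) := by
        apply Finset.sum_congr rfl
        intro x _
        rw [← sg_inv]
        congr 1
        group
      rw [h4, sum_beta (Subgroup.center G) hΦ le_rfl hcomm a, ← Nat.card_eq_fintype_card]
      by_cases ha : a ∈ A
      · by_cases hz : a ∈ Subgroup.center G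
        · rw [ind_pos ha, ind_pos hz, if_pos ⟨ha, hz⟩]; ring
        · rw [ind_neg hz, if_neg (fun h => hz h.2)]; ring
      · rw [ind_neg ha, if_neg (fun h => ha h.1)]; ring
    simp_rw [h3]
    rw [← Finset.mul_sum, Finset.sum_boole,
      Nat.card_eq_fintype_card (α := ↥(A ⊓ Subgroup.center G)), Fintype.card_subtype]
  have h5 := h1.symm.trans h2
  exact_mod_cast h5

include hsq

theorem sum_sq_eq (hA : ∀ a ∈ A, a * a = 1)
    (hCA : Subgroup.centralizer (A : Set G) = A) :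
    ∑ x : G, sg (x * x) = (Nat.card A : ℤ) := by
  classical
  have hpos : (0 : ℤ) < Nat.card A := by exact_mod_cast Nat.card_pos
  have h1 : ∑ x : G, ∑ a : G, ind (a ∈ A) * sg ((x * a) * (x * a)) =
      (Nat.card A : ℤ) * ∑ x : G, sg (x * x) := by
    rw [Finset.sum_comm]
    have h3 : ∀ a : G, ∑ x : G, ind (a ∈ A) * sg ((x * a) * (x * a)) =
        (if a ∈ A then (1 : ℤ) else 0) * ∑ x : G, sg (x * x) := by
      intro a
      have e := Equiv.sum_comp (Equiv.mulRight a) (fun x => sg (x * x))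
      simp only [Equiv.coe_mulRight] at e
      rw [← Finset.mul_sum, e, ind_eq_ite]
    simp_rw [h3]
    rw [← Finset.sum_mul, Finset.sum_boole, Nat.card_eq_fintype_card (α := ↥A),
      Fintype.card_subtype]
  have h2 : ∑ x : G, ∑ a : G, ind (a ∈ A) * sg ((x * a) * (x * a)) =
      (Nat.card A : ℤ) * (Nat.card A : ℤ) := by
    have h4 : ∀ x : G, ∑ a : G, ind (a ∈ A) * sg ((x * a) * (x * a)) =
        (Nat.card A : ℤ) * (if x ∈ A then (1 : ℤ) else 0) := by
      intro x
      have h5 : ∀ a : G, ind (a ∈ A) * sg ((x * a) * (x * a)) =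
          sg (x * x) * (ind (a ∈ A) * sg (a * x * a⁻¹ * x⁻¹)) := by
        intro a
        by_cases ha : a ∈ A
        · rw [eps_mul (Subgroup.center G) hΦ le_rfl hsq hcomm x a, hA a ha, sg_one]; ring
        · rw [ind_neg ha]; ring
      simp_rw [h5]
      rw [← Finset.mul_sum, sum_beta_sub hΦ hcomm A x, hCA]
      by_cases hx : x ∈ A
      · rw [hA x hx, sg_one, ind_pos hx, if_pos hx]; ring
      · rw [ind_neg hx, if_neg hx]; ring
    simp_rw [h4]
    rw [← Finset.mul_sum, Finset.sum_boole, Nat.card_eq_fintype_card (α := ↥A),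
      Fintype.card_subtype]
  have h6 : (Nat.card A : ℤ) * ∑ x : G, sg (x * x) = (Nat.card A : ℤ) * (Nat.card A : ℤ) :=
    h1.symm.trans h2
  exact mul_left_cancel₀ hpos.ne' h6

end Main

theorem s2880 {E : Type*} [Group E] [Finite E] (m : ℕ) (hm : 1 ≤ m)
    (hE : Cfsg.IsExtraspecial 2 E) (hcard : Nat.card E = 2 ^ (2 * m + 1))
    (hplus : ∃ A : Subgroup E, Cfsg.IsElementaryAbelian 2 A ∧ Nat.card A = 2 ^ (m + 1)) :
    Nat.card {x : E // orderOf x = 4} = 2 ^ (2 * m) - 2 ^ m := by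
  classical
  haveI : Fact (Nat.Prime 2) := ⟨Nat.prime_two⟩
  haveI := Fintype.ofFinite E
  obtain ⟨⟨hG, hfr, hcm⟩, hΦ⟩ := hE
  obtain ⟨A, ⟨hAc, hAe⟩, hAcard⟩ := hplus
  have hsq : ∀ x : E, x * x ∈ Subgroup.center E := fun x => by
    have := Lib_helper1_PGroup.pow_p_mem_frattini hG x
    rwa [pow_two, hfr] at this
  have hcomm : ∀ x y : E, y * x * y⁻¹ * x⁻¹ ∈ Subgroup.center E := fun x y => by
    rw [← hcm]
    have : y * x * y⁻¹ * x⁻¹ = ⁅y, x⁆ := (commutatorElement_def y x).symm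
    rw [this]
    exact Subgroup.commutator_mem_commutator (Subgroup.mem_top _) (Subgroup.mem_top _)
  have hA : ∀ a ∈ A, a * a = 1 := fun a ha => by rw [← pow_two]; exact hAe a ha
  have hAab : A ≤ Subgroup.centralizer (A : Set E) := by
    intro a ha
    rw [Subgroup.mem_centralizer_iff]
    intro b hb
    have := hAc.is_comm.comm (⟨b, hb⟩ : A) ⟨a, ha⟩
    exact congrArg Subtype.val this
  have hcount := card_mul_centralizer hΦ hcomm A
  have hle : Nat.card (A ⊓ Subgroup.center E : Subgroup E) ≤ 2 := by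
    rw [← hΦ]; exact Subgroup.card_le_of_le inf_le_right
  have hCA : Subgroup.centralizer (A : Set E) = A := by
    symm
    apply Subgroup.eq_of_le_of_card_ge hAab
    have h1 : Nat.card A * Nat.card (Subgroup.centralizer (A : Set E)) ≤ Nat.card E * 2 := by
      rw [hcount]; exact Nat.mul_le_mul_left _ hle
    rw [hAcard, hcard] at h1
    rw [hAcard]
    have h2 : 2 ^ (2 * m + 1) * 2 = 2 ^ (m + 1) * 2 ^ (m + 1) := by ring
    rw [h2] at h1
    exact Nat.le_of_mul_le_mul_left h1 (by positivity)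
  have hS := sum_sq_eq hΦ hsq hcomm A hA hCA
  obtain ⟨J, hJ⟩ : ∃ J, J = (Finset.univ.filter (fun x : E => x * x = 1)).card := ⟨_, rfl⟩
  have hS2 : ∑ x : E, sg (x * x) = 2 * (J : ℤ) - (Nat.card E : ℤ) := by
    have h1 : ∀ x : E, sg (x * x) = 2 * (if x * x = 1 then (1 : ℤ) else 0) - 1 := by
      intro x
      unfold sg
      split_ifs <;> norm_num
    simp_rw [h1]
    rw [Finset.sum_sub_distrib, ← Finset.mul_sum, Finset.sum_boole, ← hJ, Finset.sum_const,
      Finset.card_univ, ← Nat.card_eq_fintype_card]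
    simp
  have h4 : ∀ x : E, orderOf x = 4 ↔ ¬ x * x = 1 := by
    intro x
    have hx4 : x ^ 2 ^ (1 + 1) = 1 := by
      have h1 : (⟨x * x, hsq x⟩ : Subgroup.center E) ^ 2 = 1 := by
        rw [← hΦ]; exact pow_card_eq_one'
      have h2 : (x * x) ^ 2 = 1 := by
        have := congrArg Subtype.val h1
        simpa using this
      calc x ^ 2 ^ (1 + 1) = x ^ (2 * 2) := by norm_num
        _ = (x * x) ^ 2 := by rw [pow_mul, pow_two x]
        _ = 1 := h2
    constructor
    · intro h hxx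
      have h3 : orderOf x ∣ 2 := orderOf_dvd_of_pow_eq_one (by rw [pow_two]; exact hxx)
      rw [h] at h3
      omega
    · intro hxx
      have := orderOf_eq_prime_pow (p := 2) (n := 1) (x := x)
        (by rw [pow_one, pow_two]; exact hxx) hx4
      simpa using this
  have hN : Nat.card {x : E // orderOf x = 4} + J = Nat.card E := by
    rw [Nat.card_eq_fintype_card, Fintype.card_subtype, hJ, Nat.card_eq_fintype_card,
      ← Finset.card_univ]
    rw [Finset.filter_congr (fun x _ => h4 x), add_comm]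
    exact Finset.card_filter_add_card_filter_not _
  rw [hS] at hS2
  have h7 : 2 * J = Nat.card E + Nat.card A := by
    have : (2 * (J : ℤ)) = (Nat.card E : ℤ) + (Nat.card A : ℤ) := by linarith
    exact_mod_cast this
  have e1 : 2 ^ (2 * m + 1) = 2 ^ (2 * m) * 2 := pow_succ 2 (2 * m)
  have e2 : 2 ^ (m + 1) = 2 ^ m * 2 := pow_succ 2 m
  rw [hcard, e1] at hN h7
  rw [hAcard, e2] at h7
  omega

theorem s2881 {E : Type*} [Group E] [Finite E] (m : ℕ) (hm : 1 ≤ m)
    (hE : Cfsg.IsExtraspecial 2 E) (hcard : Nat.card E = 2 ^ (2 * m + 1))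
    (hplus : ∃ A : Subgroup E, Cfsg.IsElementaryAbelian 2 A ∧ Nat.card A = 2 ^ (m + 1))
    (ω : E ≃* E) (hω : orderOf ω = 5) (hfix : ∀ x : E, ω x = x ↔ x ∈ Subgroup.center E) :
    4 ∣ m := by
  classical
  haveI : Fact (Nat.Prime 5) := ⟨by norm_num⟩
  have hcount := s2880 m hm hE hcard hplus
  obtain ⟨⟨hG, hfr, hcm⟩, hΦ⟩ := hE
  haveI : Fintype {x : E // orderOf x = 4} := Fintype.ofFinite _
  have h5 : ω ^ 5 = 1 := by rw [← hω]; exact pow_orderOf_eq_one ω
  have hω5 : ∀ x : E, ω (ω (ω (ω (ω x)))) = x := by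
    intro x
    have := DFunLike.congr_fun h5 x
    simpa [pow_succ, MulAut.mul_apply] using this
  have hord : ∀ x : E, orderOf (ω x) = orderOf x := fun x => MulEquiv.orderOf_eq ω x
  obtain ⟨f, hfdef⟩ : ∃ f : Function.End {x : E // orderOf x = 4},
      f = fun x => ⟨ω x, by rw [hord]; exact x.2⟩ := ⟨_, rfl⟩
  have hfval : ∀ x : {x : E // orderOf x = 4},
      ((f x : {x : E // orderOf x = 4}) : E) = ω x := by
    intro x; subst hfdef; rfl
  have hf : f ^ 5 ^ 1 = 1 := by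
    rw [pow_one]
    refine funext (fun x => ?_)
    apply Subtype.ext
    show ((f (f (f (f (f x)))) : {x : E // orderOf x = 4}) : E) = x
    rw [hfval, hfval, hfval, hfval, hfval]
    exact hω5 x
  have h0 := @Equiv.Perm.card_fixedPoints_modEq {x : E // orderOf x = 4} _ _ f 5 1 _ hf
  have h : Nat.card {x : E // orderOf x = 4} ≡ Nat.card ↥(Function.fixedPoints f) [MOD 5] := by
    rw [Nat.card_eq_fintype_card, Nat.card_eq_fintype_card]
    convert h0
  have hempty : IsEmpty (Function.fixedPoints f) := by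
    constructor
    rintro ⟨x, hx⟩
    have hx' : f x = x := hx
    have h1 : ω (x : E) = x := by rw [← hfval, hx']
    have h2 : (x : E) ∈ Subgroup.center E := (hfix x).mp h1
    have h3 : (⟨(x : E), h2⟩ : Subgroup.center E) ^ 2 = 1 := by
      rw [← hΦ]; exact pow_card_eq_one'
    have h4 : (x : E) ^ 2 = 1 := by
      have := congrArg Subtype.val h3
      simpa using this
    have h6 : orderOf (x : E) ∣ 2 := orderOf_dvd_of_pow_eq_one h4
    rw [x.2] at h6
    omega
  have h8 : Nat.card ↥(Function.fixedPoints f) = 0 := Nat.card_of_isEmpty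
  rw [h8, hcount] at h
  have hdvd : 5 ∣ 2 ^ (2 * m) - 2 ^ m := (Nat.modEq_zero_iff_dvd).mp h
  obtain ⟨Q, hQdef⟩ : ∃ Q : ℕ, Q = 2 ^ m := ⟨_, rfl⟩
  have hQ2 : 2 ^ (2 * m) = Q * Q := by rw [hQdef, two_mul, pow_add]
  rw [hQ2, ← hQdef] at hdvd
  have hQpos : 1 ≤ Q := by rw [hQdef]; exact Nat.one_le_two_pow
  have hle : Q ≤ Q * Q := Nat.le_mul_of_pos_left Q hQpos
  have hmod : Q % 5 = (Q % 5) * (Q % 5) % 5 := by
    have := (Nat.modEq_iff_dvd' hle).mpr hdvd
    rw [← Nat.mul_mod]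
    exact this
  have hm4 : m = 4 * (m / 4) + m % 4 := (Nat.div_add_mod m 4).symm
  have key : Q % 5 = 2 ^ (m % 4) % 5 := by
    rw [hQdef]
    conv_lhs => rw [hm4, pow_add, pow_mul]
    rw [Nat.mul_mod, Nat.pow_mod]
    norm_num
  obtain ⟨r, hr⟩ : ∃ r : ℕ, r = m % 4 := ⟨_, rfl⟩
  rw [← hr] at key
  have hr4 : r < 4 := by rw [hr]; exact Nat.mod_lt _ (by norm_num)
  apply Nat.dvd_of_mod_eq_zero
  rw [← hr]
  interval_cases r
  · rfl
  · norm_num at key; rw [key] at hmod; norm_num at hmod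
  · norm_num at key; rw [key] at hmod; norm_num at hmod
  · norm_num at key; rw [key] at hmod; norm_num at hmod

end Cfsg.Agent.Lib_helper7_ExtraCount
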