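import Cfsg.Agent.Lib_helper7_Sylow
import Cfsg.Prelude.Def_IsolatedElements

set_option autoImplicit false

namespace Cfsg.Agent.Lib_helper7_Iso

open Cfsg

variable {G : Type*} [Group G] [Finite G] {p : ℕ} [Fact p.Prime]

/-- An isolated element of a `p`-subgroup is central in it. -/
theorem commute_of_mem {x : G} (hiso : Cfsg.IsIsolated x) (R : Subgroup G) (hR : IsPGroup p R)
    (hxR : x ∈ R) : ∀ r ∈ R, r * x = x * r := by
  by_contra hcon
  push Not at hcon
  obtain ⟨r, hr, hrx⟩ := hcon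
  have hlt : R ⊓ Subgroup.centralizer ({x} : Set G) < R := by
    refine lt_of_le_of_ne inf_le_left ?_
    intro heq
    apply hrx
    have : r ∈ R ⊓ Subgroup.centralizer ({x} : Set G) := heq.ge hr
    exact ((Subgroup.mem_centralizer_iff.mp (Subgroup.mem_inf.mp this).2) x rfl).symm
  obtain ⟨t, htR, htN, htC⟩ := Lib_helper7_Sylow.exists_mem_normalizer_not_mem hR hlt
  apply htC
  have hxC : x ∈ R ⊓ Subgroup.centralizer ({x} : Set G) := by
    refine Subgroup.mem_inf.mpr ⟨hxR, ?_⟩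
    rw [Subgroup.mem_centralizer_iff]
    intro h hh
    rw [Set.mem_singleton_iff] at hh
    rw [hh]
  have h1 : t * x * t⁻¹ ∈ R ⊓ Subgroup.centralizer ({x} : Set G) :=
    (Subgroup.mem_normalizer_iff.mp htN x).mp hxC
  have h2 : x * (t * x * t⁻¹) = (t * x * t⁻¹) * x :=
    Subgroup.mem_centralizer_iff.mp (Subgroup.mem_inf.mp h1).2 x rfl
  have h3 : t * x * t⁻¹ = x := hiso t h2
  refine Subgroup.mem_inf.mpr ⟨htR, ?_⟩
  rw [Subgroup.mem_centralizer_iff]
  intro h hh
  rw [Set.mem_singleton_iff] at hh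
  subst hh
  calc h * t = (t * h * t⁻¹) * t := by rw [h3]
    _ = t * h := by group

/-- A conjugate of an isolated element lying in a `p`-subgroup containing it equals it. -/
theorem conj_eq_of_mem {x : G} (hiso : Cfsg.IsIsolated x) (R : Subgroup G) (hR : IsPGroup p R)
    (hxR : x ∈ R) (g : G) (hg : g * x * g⁻¹ ∈ R) : g * x * g⁻¹ = x := by
  apply hiso
  exact (commute_of_mem hiso R hR hxR _ hg).symm

/-- Normalizers of `p`-subgroups containing an isolated element centralize it. -/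
theorem normalizer_le_centralizer {x : G} (hiso : Cfsg.IsIsolated x) (R : Subgroup G)
    (hR : IsPGroup p R) (hxR : x ∈ R) :
    Subgroup.normalizer (R : Set G) ≤ Subgroup.centralizer ({x} : Set G) := by
  intro n hn
  have h1 : n * x * n⁻¹ ∈ R := (Subgroup.mem_normalizer_iff.mp hn x).mp hxR
  have h2 := conj_eq_of_mem hiso R hR hxR n h1
  rw [Subgroup.mem_centralizer_iff]
  intro h hh
  rw [Set.mem_singleton_iff] at hh
  subst hh
  calc h * n = (n * h * n⁻¹) * n := by rw [h2]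
    _ = n * h := by group

/-- Fusion of an isolated `p`-element inside a subgroup `L` is realised in `L`. -/
theorem exists_conj_eq {x : G} (hx : ∃ k : ℕ, orderOf x = p ^ k) (hiso : Cfsg.IsIsolated x)
    (L : Subgroup G) (hxL : x ∈ L) (g : G) (hg : g * x * g⁻¹ ∈ L) :
    ∃ c ∈ L, c * (g * x * g⁻¹) * c⁻¹ = x := by
  obtain ⟨k, hk⟩ := hx
  have hxp : IsPGroup p (Subgroup.zpowers (⟨x, hxL⟩ : L)) := by
    apply IsPGroup.of_card (n := k)
    rw [Nat.card_zpowers, Subgroup.orderOf_mk, hk]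
  obtain ⟨Q, hQ⟩ := hxp.exists_le_sylow
  have hyp : IsPGroup p (Subgroup.zpowers (⟨g * x * g⁻¹, hg⟩ : L)) := by
    apply IsPGroup.of_card (n := k)
    rw [Nat.card_zpowers, Subgroup.orderOf_mk, Lib_helper7_Sylow.orderOf_conj', hk]
  obtain ⟨Q', hQ'⟩ := hyp.exists_le_sylow
  obtain ⟨c, hc⟩ := MulAction.exists_smul_eq L Q' Q
  refine ⟨c, c.2, ?_⟩
  have h1 : c * ⟨g * x * g⁻¹, hg⟩ * c⁻¹ ∈ (Q : Subgroup L) := by
    rw [← hc, Sylow.coe_subgroup_smul]
    have := Subgroup.smul_mem_pointwise_smul _ (MulAut.conj c) (Q' : Subgroup L)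
      (hQ' (Subgroup.mem_zpowers _))
    simpa [MulAut.smul_def, MulAut.conj_apply] using this
  have hR : IsPGroup p ((Q : Subgroup L).map L.subtype) := Q.isPGroup'.map _
  have hxR : x ∈ (Q : Subgroup L).map L.subtype :=
    ⟨⟨x, hxL⟩, hQ (Subgroup.mem_zpowers _), rfl⟩
  have h2 : (c : G) * g * x * ((c : G) * g)⁻¹ ∈ (Q : Subgroup L).map L.subtype := by
    refine ⟨_, h1, ?_⟩
    simp [mul_assoc]
  have h3 := conj_eq_of_mem hiso _ hR hxR ((c : G) * g) h2
  calc (c : G) * (g * x * g⁻¹) * (c : G)⁻¹ = (c : G) * g * x * ((c : G) * g)⁻¹ := by group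
    _ = x := h3

end Cfsg.Agent.Lib_helper7_Iso
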