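import Mathlib
import Cfsg.Agent.Lib_helper1_Frobenius
import Cfsg.Agent.Lib_helper7_Iso

set_option autoImplicit false

namespace Cfsg.Agent.Lib_helper7_IsoNpc

open Cfsg Cfsg.Agent.Lib_helper1_Frobenius

variable {G : Type*} [Group G]

theorem pow_eq_one_of_conj_eq_mul {g y c : G} (hgc : c * g = g * c) (h : g * y * g⁻¹ = y * c) :
    c ^ orderOf g = 1 := by
  have hpow : ∀ k : ℕ, g ^ k * y * (g ^ k)⁻¹ = y * c ^ k := by
    intro k
    induction k with
    | zero => simp
    | succ k ih =>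
      have hgzk : g * c ^ k * g⁻¹ = c ^ k := by
        have hc : Commute g c := hgc.symm
        have hc2 := (hc.pow_right k).eq
        rw [hc2]; group
      calc g ^ (k + 1) * y * (g ^ (k + 1))⁻¹
          = g * (g ^ k * y * (g ^ k)⁻¹) * g⁻¹ := by rw [pow_succ']; group
        _ = g * (y * c ^ k) * g⁻¹ := by rw [ih]
        _ = (g * y * g⁻¹) * (g * c ^ k * g⁻¹) := by group
        _ = y * c * c ^ k := by rw [h, hgzk]
        _ = y * c ^ (k + 1) := by rw [pow_succ', mul_assoc]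
  have h5 := hpow (orderOf g)
  rw [pow_orderOf_eq_one] at h5
  simpa using h5.symm

theorem eq_one_of_pgroup_of_coprime {p : ℕ} (Q : Subgroup G) (hQ : IsPGroup p Q) {c : G}
    (hc : c ∈ Q) {m : ℕ} (hm : m.Coprime p) (h : c ^ m = 1) : c = 1 := by
  have h1 : orderOf c ∣ m := orderOf_dvd_of_pow_eq_one h
  obtain ⟨k, hk⟩ := hQ ⟨c, hc⟩
  have h2 : c ^ p ^ k = 1 := by
    have := congrArg Subtype.val hk
    simpa using this
  have h3 : orderOf c ∣ p ^ k := orderOf_dvd_of_pow_eq_one h2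
  have h4 : (orderOf c).Coprime (p ^ k) :=
    Nat.Coprime.coprime_dvd_left h1 (Nat.Coprime.pow_right k hm)
  exact orderOf_eq_one_iff.mp (Nat.Coprime.eq_one_of_dvd h4 h3)

/-- A `p'`-element normalizing an abelian `p`-group and centralizing its elements of order `p`
centralizes it. -/
theorem centralizes_of_omega {p : ℕ} (Q : Subgroup G) (hQ : IsPGroup p Q)
    (hab : ∀ a ∈ Q, ∀ b ∈ Q, a * b = b * a) (g : G) (hg : ∀ y ∈ Q, g * y * g⁻¹ ∈ Q)
    (hgo : (orderOf g).Coprime p) (hΩ : ∀ y ∈ Q, y ^ p = 1 → g * y = y * g) :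
    ∀ y ∈ Q, g * y = y * g := by
  have key : ∀ k : ℕ, ∀ y ∈ Q, y ^ p ^ k = 1 → g * y = y * g := by
    intro k
    induction k with
    | zero =>
      intro y _ hy
      rw [pow_zero, pow_one] at hy
      rw [hy, mul_one, one_mul]
    | succ k ih =>
      intro y hyQ hy
      have hyp : (y ^ p) ^ p ^ k = 1 := by rw [← pow_mul, ← pow_succ']; exact hy
      have h1 : g * y ^ p = y ^ p * g := ih (y ^ p) (Q.pow_mem hyQ p) hyp
      obtain ⟨c, hcdef⟩ : ∃ c : G, c = y⁻¹ * (g * y * g⁻¹) := ⟨_, rfl⟩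
      have hcQ : c ∈ Q := by rw [hcdef]; exact Q.mul_mem (Q.inv_mem hyQ) (hg y hyQ)
      have hconj : g * y * g⁻¹ = y * c := by rw [hcdef]; group
      have hcp : c ^ p = 1 := by
        have hcomm : Commute y⁻¹ (g * y * g⁻¹) := hab _ (Q.inv_mem hyQ) _ (hg y hyQ)
        have h7 : g * y ^ p * g⁻¹ = y ^ p := by rw [h1]; group
        rw [hcdef, hcomm.mul_pow, conj_pow, inv_pow, h7, inv_mul_cancel]
      have hgc : c * g = g * c := (hΩ c hcQ hcp).symm
      have h2 := pow_eq_one_of_conj_eq_mul hgc hconj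
      have hc1 : c = 1 := eq_one_of_pgroup_of_coprime Q hQ hcQ hgo h2
      rw [hc1, mul_one] at hconj
      calc g * y = (g * y * g⁻¹) * g := by group
        _ = y * g := by rw [hconj]
  intro y hyQ
  obtain ⟨k, hk⟩ := hQ ⟨y, hyQ⟩
  have h2 : y ^ p ^ k = 1 := by
    have := congrArg Subtype.val hk
    simpa using this
  exact key k y hyQ h2

theorem mem_zpowers_of_comm_cyclic {α : Type*} [CommGroup α] [Finite α] [IsCyclic α] {p : ℕ}
    [Fact p.Prime] {t y : α} (ht : t ^ p = 1) (ht1 : t ≠ 1) (hy : y ^ p = 1) :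
    y ∈ Subgroup.zpowers t := by
  have hp : p.Prime := Fact.out
  have hker : Nat.card (powMonoidHom p : α →* α).ker = (Nat.card α).gcd p :=
    IsCyclic.card_powMonoidHom_ker α p
  have hto : orderOf t = p := orderOf_eq_prime ht ht1
  have hle : Subgroup.zpowers t ≤ (powMonoidHom p : α →* α).ker := by
    rw [Subgroup.zpowers_le, MonoidHom.mem_ker]
    exact ht
  have hcard : Nat.card (powMonoidHom p : α →* α).ker ≤ Nat.card (Subgroup.zpowers t) := by
    rw [hker, Nat.card_zpowers, hto]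
    exact Nat.le_of_dvd hp.pos (Nat.gcd_dvd_right _ _)
  have heq := Subgroup.eq_of_le_of_card_ge hle hcard
  rw [heq, MonoidHom.mem_ker]
  exact hy

/-- In a cyclic group, elements of order dividing `p` are powers of any element of order `p`. -/
theorem mem_zpowers_of_cyclic {p : ℕ} [Fact p.Prime] (P : Subgroup G) [Finite ↥P] [IsCyclic ↥P]
    {t y : G} (htP : t ∈ P) (hyP : y ∈ P) (ht : t ^ p = 1) (ht1 : t ≠ 1) (hy : y ^ p = 1) :
    y ∈ Subgroup.zpowers t := by
  have ht' : (⟨t, htP⟩ : ↥P) ^ p = 1 := by apply Subtype.ext; simpa using ht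
  have hy' : (⟨y, hyP⟩ : ↥P) ^ p = 1 := by apply Subtype.ext; simpa using hy
  have ht1' : (⟨t, htP⟩ : ↥P) ≠ 1 := fun h => ht1 (congrArg Subtype.val h)
  have h := @mem_zpowers_of_comm_cyclic ↥P IsCyclic.commGroup ‹Finite ↥P› ‹IsCyclic ↥P› p
    ‹Fact p.Prime› ⟨t, htP⟩ ⟨y, hyP⟩ ht' ht1' hy'
  obtain ⟨k, hk⟩ := Subgroup.mem_zpowers_iff.mp h
  refine Subgroup.mem_zpowers_iff.mpr ⟨k, ?_⟩
  have hk' : (⟨t, htP⟩ : ↥P) ^ k = ⟨y, hyP⟩ := hk
  have := congrArg Subtype.val hk'
  simpa using this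

theorem comm_of_mem_zpowers {x y c : G} (hy : y ∈ Subgroup.zpowers x) (h : c * x = x * c) :
    c * y = y * c := by
  obtain ⟨k, rfl⟩ := Subgroup.mem_zpowers_iff.mp hy
  have hc : Commute c x := h
  exact (hc.zpow_right k).eq

theorem s2970 {G : Type*} [Group G] [Finite G] {p : ℕ} [Fact p.Prime] (x : G)
    (hx : ∃ k : ℕ, orderOf x = p ^ k) (hiso : Cfsg.IsIsolated x) :
    (∀ (N : Subgroup G) [N.Normal], Cfsg.IsIsolated (QuotientGroup.mk x : G ⧸ N)) ∧
      (x ≠ 1 → (∀ P : Sylow p G, IsCyclic ↥(P : Subgroup G)) →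
        Cfsg.HasNormalPComplement p G) := by
  constructor
  · intro N _ gb hcomm
    obtain ⟨g, rfl⟩ := QuotientGroup.mk_surjective gb
    obtain ⟨yb, hybdef⟩ : ∃ yb : G ⧸ N,
        yb = (QuotientGroup.mk g : G ⧸ N) * QuotientGroup.mk x * (QuotientGroup.mk g : G ⧸ N)⁻¹ :=
      ⟨_, rfl⟩
    rw [← hybdef] at hcomm ⊢
    have hyb : (QuotientGroup.mk (g * x * g⁻¹) : G ⧸ N) = yb := by rw [hybdef]; rfl
    obtain ⟨L, hLdef⟩ : ∃ L : Subgroup G,
        L = (Subgroup.centralizer ({yb} : Set (G ⧸ N))).comap (QuotientGroup.mk' N) := ⟨_, rfl⟩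
    have hLmem : ∀ c : G, c ∈ L ↔
        yb * (QuotientGroup.mk c : G ⧸ N) = (QuotientGroup.mk c : G ⧸ N) * yb := by
      intro c
      rw [hLdef, Subgroup.mem_comap, Subgroup.mem_centralizer_iff]
      constructor
      · intro h; exact h _ (Set.mem_singleton _)
      · intro h y hy; rw [Set.mem_singleton_iff] at hy; rw [hy]; exact h
    have hxL : x ∈ L := by
      rw [hLmem]
      exact hcomm.eq.symm
    have hyL : g * x * g⁻¹ ∈ L := by rw [hLmem, hyb]
    obtain ⟨c, hcL, hc⟩ := Lib_helper7_Iso.exists_conj_eq hx hiso L hxL g hyL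
    have hc' := (hLmem c).mp hcL
    have h1 : (QuotientGroup.mk c : G ⧸ N) * yb * (QuotientGroup.mk c : G ⧸ N)⁻¹
        = QuotientGroup.mk x := by
      have h8 := congrArg (QuotientGroup.mk : G → G ⧸ N) hc
      rw [← hyb]; exact h8
    rw [← h1, ← hc']
    group
  · intro hx1 hcyc
    apply hasNormalPComplement_of_npc
    apply Cfsg.Agent.Lib_helper1_Frobenius.frobenius
    obtain ⟨k, hk⟩ := hx
    have hp : p.Prime := Fact.out
    have hxp : IsPGroup p (Subgroup.zpowers x) := by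
      apply IsPGroup.of_card (n := k)
      rw [Nat.card_zpowers, hk]
    obtain ⟨P, hP⟩ := hxp.exists_le_sylow
    have hxP : x ∈ (P : Subgroup G) := hP (Subgroup.mem_zpowers x)
    haveI := hcyc P
    apply frobHyp_of_le_sylow P
    intro Q hQP g hg hgo
    have hQ : IsPGroup p Q := P.isPGroup'.to_le hQP
    have hab : ∀ a ∈ Q, ∀ b ∈ Q, a * b = b * a := by
      intro a ha b hb
      have := (IsCyclic.commGroup (α := ↥(P : Subgroup G))).mul_comm ⟨a, hQP ha⟩ ⟨b, hQP hb⟩
      exact congrArg Subtype.val this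
    have hgQ : ∀ y ∈ Q, g * y * g⁻¹ ∈ Q :=
      fun y hy => (Subgroup.mem_normalizer_iff.mp hg y).mp hy
    have hk0 : k ≠ 0 := by
      intro h0
      rw [h0, pow_zero, orderOf_eq_one_iff] at hk
      exact hx1 hk
    obtain ⟨t₀, ht₀def⟩ : ∃ t₀ : G, t₀ = x ^ p ^ (k - 1) := ⟨_, rfl⟩
    have ht₀p : t₀ ^ p = 1 := by
      rw [ht₀def, ← pow_mul, ← pow_succ, Nat.sub_add_cancel (Nat.one_le_iff_ne_zero.mpr hk0),
        ← hk, pow_orderOf_eq_one]
    have ht₀1 : t₀ ≠ 1 := by
      intro h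
      rw [ht₀def] at h
      have h1 := orderOf_dvd_of_pow_eq_one h
      rw [hk] at h1
      have h2 := Nat.le_of_dvd (pow_pos hp.pos _) h1
      have h3 : p ^ (k - 1) < p ^ k := Nat.pow_lt_pow_right hp.one_lt (by omega)
      omega
    have ht₀P : t₀ ∈ (P : Subgroup G) := by rw [ht₀def]; exact Subgroup.pow_mem _ hxP _
    have ht₀x : t₀ ∈ Subgroup.zpowers x := by
      rw [ht₀def]; exact Subgroup.pow_mem _ (Subgroup.mem_zpowers x) _
    have hΩ : ∀ y ∈ Q, y ^ p = 1 → g * y = y * g := by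
      intro y hyQ hyp
      by_cases hy1 : y = 1
      · rw [hy1, mul_one, one_mul]
      have hyx : y ∈ Subgroup.zpowers x :=
        (Subgroup.zpowers_le.mpr ht₀x)
          (mem_zpowers_of_cyclic (P : Subgroup G) ht₀P (hQP hyQ) ht₀p ht₀1 hyp)
      have hxy : x * y = y * x := comm_of_mem_zpowers hyx rfl
      have hy2Q : g * y * g⁻¹ ∈ Q := hgQ y hyQ
      have hy2p : (g * y * g⁻¹) ^ p = 1 := by rw [conj_pow, hyp]; group
      have hy21 : g * y * g⁻¹ ≠ 1 := by
        intro h; apply hy1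
        have e : y = g⁻¹ * (g * y * g⁻¹) * g := by group
        rw [e, h]; group
      have hy3 : y ∈ Subgroup.zpowers (g * y * g⁻¹) :=
        mem_zpowers_of_cyclic (P : Subgroup G) (hQP hy2Q) (hQP hyQ) hy2p hy21 hyp
      have hc1 : (g * x * g⁻¹) * (g * y * g⁻¹) = (g * y * g⁻¹) * (g * x * g⁻¹) := by
        calc (g * x * g⁻¹) * (g * y * g⁻¹) = g * (x * y) * g⁻¹ := by group
          _ = g * (y * x) * g⁻¹ := by rw [hxy]
          _ = (g * y * g⁻¹) * (g * x * g⁻¹) := by group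
      have hc2 : (g * x * g⁻¹) * y = y * (g * x * g⁻¹) := comm_of_mem_zpowers hy3 hc1
      have hxL : x ∈ Subgroup.centralizer ({y} : Set G) := by
        rw [Subgroup.mem_centralizer_iff]
        intro h hh; rw [Set.mem_singleton_iff] at hh; rw [hh]; exact hxy.symm
      have hgL : g * x * g⁻¹ ∈ Subgroup.centralizer ({y} : Set G) := by
        rw [Subgroup.mem_centralizer_iff]
        intro h hh; rw [Set.mem_singleton_iff] at hh; rw [hh]; exact hc2.symm
      obtain ⟨c, hcL, hc⟩ := Lib_helper7_Iso.exists_conj_eq ⟨k, hk⟩ hiso _ hxL g hgL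
      have hcy : y * c = c * y := (Subgroup.mem_centralizer_iff.mp hcL) y (Set.mem_singleton _)
      have h5 : (c * g) * x = x * (c * g) := by
        calc (c * g) * x = (c * (g * x * g⁻¹) * c⁻¹) * (c * g) := by group
          _ = x * (c * g) := by rw [hc]
      have h6 : (c * g) * y = y * (c * g) := comm_of_mem_zpowers hyx h5
      calc g * y = c⁻¹ * ((c * g) * y) := by group
        _ = c⁻¹ * (y * (c * g)) := by rw [h6]
        _ = c⁻¹ * (y * c) * g := by group
        _ = c⁻¹ * (c * y) * g := by rw [hcy]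
        _ = y * g := by group
    rw [Subgroup.mem_centralizer_iff]
    intro q hq
    exact (centralizes_of_omega Q hQ hab g hgQ hgo hΩ q hq).symm

end Cfsg.Agent.Lib_helper7_IsoNpc
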