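import Cfsg.Agent.Lib_helper7_OddCyclic
import Cfsg.Agent.Lib_helper7_RankOne
import Cfsg.Agent.Lib_helper2_CN
import Cfsg.Agent.Lib_helper1_Coprime
import Cfsg.Prelude.Def_IsolatedElements

set_option autoImplicit false

namespace Cfsg.Agent.Lib_helper7_IsoRankOne

universe u

variable {G : Type u} [Group G] [Finite G] {p : ℕ} [Fact p.Prime]

omit [Finite G] [Fact p.Prime] in
theorem pRankLE_subgroup (k : ℕ) (hrk : Cfsg.PRankLE p k G) (M : Subgroup G) :
    Cfsg.PRankLE p k ↥M := by
  intro A hAc hAe
  have hc : IsMulCommutative (A.map M.subtype) := by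
    refine ⟨⟨?_⟩⟩
    rintro ⟨_, a, ha, rfl⟩ ⟨_, b, hb, rfl⟩
    apply Subtype.ext
    have h1 := hAc.is_comm.comm (⟨a, ha⟩ : A) ⟨b, hb⟩
    have h2 : a * b = b * a := congrArg Subtype.val h1
    show (a : G) * (b : G) = (b : G) * (a : G)
    exact congrArg Subtype.val h2
  have he : ∀ a ∈ A.map M.subtype, a ^ p = 1 := by
    rintro _ ⟨a, ha, rfl⟩
    rw [← map_pow, hAe a ha, map_one]
  have := hrk (A.map M.subtype) hc he
  rwa [Subgroup.card_map_of_injective M.subtype_injective] at this

/-- A `p`-element normalizing a Sylow `p`-subgroup lies in it. -/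
theorem mem_sylow_of_mem_normalizer (P : Sylow p G) (a : G) (k : ℕ) (ha : a ^ p ^ k = 1)
    (haN : a ∈ Subgroup.normalizer ((P : Subgroup G) : Set G)) : a ∈ (P : Subgroup G) := by
  have hza : IsPGroup p (Subgroup.zpowers a) := by
    have h1 : orderOf a ∣ p ^ k := orderOf_dvd_of_pow_eq_one ha
    obtain ⟨j, -, hj⟩ := (Nat.dvd_prime_pow Fact.out).mp h1
    exact IsPGroup.of_card (n := j) (by rw [Nat.card_zpowers, hj])
  have hle : Subgroup.zpowers a ≤ Subgroup.normalizer ((P : Subgroup G) : Set G) := by
    rw [Subgroup.zpowers_le]; exact haN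
  have hsup := IsPGroup.to_sup_of_normal_right' hza P.isPGroup' hle
  have := P.is_maximal' hsup le_sup_right
  rw [← this]
  exact Subgroup.mem_sup_left (Subgroup.mem_zpowers a)

/-- For an odd prime `p` and a group of `p`-rank at most one, an isolated element of order `p`
is central modulo `O_{p'}`. -/
theorem inZStar_of_isolated (hp2 : p ≠ 2) (hrk : Cfsg.PRankLE p 1 G) (x : G) (hx : orderOf x = p)
    (hiso : Cfsg.IsIsolated x) : Cfsg.InZStar p x := by
  have hp : p.Prime := Fact.out
  have hzx : IsPGroup p (Subgroup.zpowers x) :=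
    IsPGroup.of_card (n := 1) (by rw [Nat.card_zpowers, hx, pow_one])
  obtain ⟨P, hxP⟩ := hzx.exists_le_sylow
  have hxP' : x ∈ (P : Subgroup G) := hxP (Subgroup.mem_zpowers x)
  haveI hcyc : IsCyclic ↥(P : Subgroup G) :=
    Cfsg.Agent.Lib_helper7_OddCyclic.isCyclic_of_pRankLE_one p hp2 P.isPGroup'
      (pRankLE_subgroup 1 hrk _)
  have hPcomm : ∀ a ∈ (P : Subgroup G), ∀ b ∈ (P : Subgroup G), a * b = b * a :=
    fun a ha b hb => Cfsg.Agent.Lib_helper2_Cyc.cyclic_comm' (P : Subgroup G) ha hb
  have hNC : Subgroup.normalizer ((P : Subgroup G) : Set G) ≤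
      Subgroup.centralizer ((P : Subgroup G) : Set G) := by
    intro g hg
    have hgx : g * x * g⁻¹ = x := by
      apply hiso
      have h1 : g * x * g⁻¹ ∈ (P : Subgroup G) := (Subgroup.mem_normalizer_iff.mp hg x).mp hxP'
      exact hPcomm x hxP' _ h1
    have hgx' : g * x = x * g := by
      calc g * x = (g * x * g⁻¹) * g := by group
        _ = x * g := by rw [hgx]
    obtain ⟨a, ha, b, hb, hab, ⟨k, hak⟩, hbo⟩ := Cfsg.Agent.Lib_helper2_CN.exists_p_decomp p hp g
    have hzN : Subgroup.zpowers g ≤ Subgroup.normalizer ((P : Subgroup G) : Set G) := by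
      rw [Subgroup.zpowers_le]; exact hg
    have hzC : Subgroup.zpowers g ≤ Subgroup.centralizer ({x} : Set G) := by
      rw [Subgroup.zpowers_le, Subgroup.mem_centralizer_iff]
      intro y hy
      rw [Set.mem_singleton_iff] at hy
      rw [hy]
      exact hgx'.symm
    have haP : a ∈ (P : Subgroup G) := mem_sylow_of_mem_normalizer P a k hak (hzN ha)
    have haC : a ∈ Subgroup.centralizer ((P : Subgroup G) : Set G) := by
      rw [Subgroup.mem_centralizer_iff]
      intro h hh
      exact hPcomm h hh a haP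
    have hbC : b ∈ Subgroup.centralizer ((P : Subgroup G) : Set G) := by
      have hBN : Subgroup.zpowers b ≤ Subgroup.normalizer ((P : Subgroup G) : Set G) := by
        rw [Subgroup.zpowers_le]; exact hzN hb
      have hcop : (Nat.card (Subgroup.zpowers b)).Coprime (Nat.card (P : Subgroup G)) := by
        obtain ⟨n, hn⟩ := P.isPGroup'.exists_card_eq
        rw [hn, Nat.card_zpowers]
        exact Nat.Coprime.pow_right n hbo
      haveI : IsMulCommutative (P : Subgroup G) :=
        ⟨⟨fun u v => Subtype.ext (hPcomm u u.2 v v.2)⟩⟩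
      have hinf := Cfsg.Agent.Lib_helper1_Coprime.abelian_fixed_inf_commutator
        (Subgroup.zpowers b) (P : Subgroup G) hBN hcop
      have hcomm_bot : ⁅(P : Subgroup G), Subgroup.zpowers b⁆ = ⊥ := by
        by_contra hne
        have hle : ⁅(P : Subgroup G), Subgroup.zpowers b⁆ ≤ (P : Subgroup G) :=
          Cfsg.Agent.Lib_helper1_Coprime.commutator_le_of_normalizes (Subgroup.zpowers b)
            (P : Subgroup G) hBN
        have hpg : IsPGroup p ↥(⁅(P : Subgroup G), Subgroup.zpowers b⁆) := P.isPGroup'.to_le hle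
        obtain ⟨n, hn⟩ := hpg.exists_card_eq
        have hn0 : n ≠ 0 := by
          rintro rfl
          rw [pow_zero] at hn
          exact hne (Subgroup.card_eq_one.mp hn)
        obtain ⟨w', hw'⟩ := exists_prime_orderOf_dvd_card'
          (G := ↥(⁅(P : Subgroup G), Subgroup.zpowers b⁆)) p (by rw [hn]; exact dvd_pow_self p hn0)
        have hwo : orderOf (w' : G) = p := by rw [Subgroup.orderOf_coe]; exact hw'
        have hwP : (w' : G) ∈ (P : Subgroup G) := hle w'.2
        have huniq := Cfsg.Agent.Lib_helper7_RankOne.cyclic_unique (Q := ↥(P : Subgroup G))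
          (p := p) hp.pos
        have hmem := huniq ⟨x, hxP'⟩ ⟨(w' : G), hwP⟩ (by rw [Subgroup.orderOf_mk]; exact hx)
          (by
            apply Subtype.ext
            show (w' : G) ^ p = 1
            have h9 : (w' : G) ^ orderOf (w' : G) = 1 := pow_orderOf_eq_one _
            rwa [hwo] at h9)
        have hwx : (w' : G) ∈ Subgroup.zpowers x := by
          obtain ⟨i, hi⟩ := Subgroup.mem_zpowers_iff.mp hmem
          have := congrArg Subtype.val hi
          rw [Subgroup.mem_zpowers_iff]
          exact ⟨i, by simpa using this⟩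
        have hwC : (w' : G) ∈ Subgroup.centralizer ((Subgroup.zpowers b : Subgroup G) : Set G) := by
          have h1 : Subgroup.zpowers x ≤
              Subgroup.centralizer ((Subgroup.zpowers b : Subgroup G) : Set G) := by
            rw [Subgroup.zpowers_le, Subgroup.mem_centralizer_iff]
            intro h hh
            have h2 : h ∈ Subgroup.centralizer ({x} : Set G) :=
              hzC ((Subgroup.zpowers_le.mpr hb) hh)
            exact (Subgroup.mem_centralizer_iff.mp h2 x rfl).symm
          exact h1 hwx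
        have hwbot : (w' : G) ∈ (⊥ : Subgroup G) := by
          rw [← hinf]
          exact ⟨⟨hwP, hwC⟩, w'.2⟩
        rw [Subgroup.mem_bot] at hwbot
        rw [hwbot, orderOf_one] at hwo
        exact hp.one_lt.ne hwo
      have h3 : Subgroup.zpowers b ≤ Subgroup.centralizer ((P : Subgroup G) : Set G) := by
        rw [Subgroup.le_centralizer_iff]
        exact Subgroup.commutator_eq_bot_iff_le_centralizer.mp hcomm_bot
      exact h3 (Subgroup.mem_zpowers b)
    rw [← hab]
    exact Subgroup.mul_mem _ haC hbC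
  have hK := MonoidHom.not_dvd_card_ker_transferSylow P hNC
  intro g
  have hmem : g * x * g⁻¹ * x⁻¹ ∈ (MonoidHom.transferSylow P hNC).ker := by
    rw [MonoidHom.mem_ker]
    simp only [map_mul, map_inv]
    rw [Cfsg.Agent.Lib_helper2_Cyc.cyclic_comm ((MonoidHom.transferSylow P hNC) g)
        ((MonoidHom.transferSylow P hNC) x)]
    group
  have hle : (MonoidHom.transferSylow P hNC).ker ≤ Cfsg.pPrimeCore p G := by
    apply le_sSup
    exact ⟨inferInstance, ((Nat.Prime.coprime_iff_not_dvd hp).mpr hK).symm⟩
  exact hle hmem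

end Cfsg.Agent.Lib_helper7_IsoRankOne
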