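import Mathlib
import Cfsg.Prelude.Def_CaseTheorems
import Cfsg.Prelude.Def_LocalStructure
import Cfsg.Agent.Lib_helper7_CharP
import Cfsg.Agent.Lib_helper7_PPrime
import Cfsg.Agent.Lib_helper7_PPrimeP

set_option autoImplicit false

namespace Cfsg.Agent.Lib_helper7_OddCore

open Cfsg.Agent.Lib_helper7_Sylow Cfsg.Agent.Lib_helper7_WellPlaced
open Cfsg.Agent.Lib_helper7_WC Cfsg.Agent.Lib_helper7_Large Cfsg.Agent.Lib_helper7_PIrr2
open Cfsg.Agent.Lib_helper7_CommSup Cfsg.Agent.Lib_helper7_CharP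

variable {G : Type*} [Group G] [Finite G] {p : ℕ} [Fact p.Prime]

theorem eq_one_of_mem_pgroup_of_mem_coprime (R K₁ : Subgroup G) (hR : IsPGroup p R)
    (hK : (Nat.card K₁).Coprime p) (x : G) (hxR : x ∈ R) (hxK : x ∈ K₁) : x = 1 := by
  obtain ⟨k, hk⟩ := hR ⟨x, hxR⟩
  have hk' : x ^ p ^ k = 1 := congrArg Subtype.val hk
  have h2 : orderOf x ∣ p ^ k := orderOf_dvd_of_pow_eq_one hk'
  have h3 : orderOf x ∣ Nat.card K₁ := by
    have := orderOf_dvd_natCard (⟨x, hxK⟩ : K₁)
    rwa [Subgroup.orderOf_mk] at this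
  have h4 : (orderOf x).Coprime (p ^ k) :=
    Nat.Coprime.coprime_dvd_left h3 (Nat.Coprime.pow_right k hK)
  have h5 : orderOf x = 1 := Nat.Coprime.eq_one_of_dvd h4 h2
  exact orderOf_eq_one_iff.mp h5

/-- In a subgroup `N` of characteristic `p`, an `N`-invariant `p'`-subgroup of `N` is trivial. -/
theorem pprime_normal_eq_bot_of_charp (N : Subgroup G)
    (hchar : Subgroup.centralizer (Cfsg.pCore p ↥N : Set ↥N) ≤ Cfsg.pCore p ↥N)
    (K₁ : Subgroup G) (hK₁N : K₁ ≤ N) (hNK₁ : N ≤ Subgroup.normalizer (K₁ : Set G))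
    (hco : (Nat.card K₁).Coprime p) : K₁ = ⊥ := by
  have hRp := pCoreOf_isPGroup (p := p) N
  have hRN := pCoreOf_le (p := p) N
  have hNR := le_normalizer_pCoreOf (p := p) N
  have h1 : ⁅Cfsg.pCoreOf p N, K₁⁆ = ⊥ := by
    rw [eq_bot_iff]
    intro x hx
    have hxR : x ∈ Cfsg.pCoreOf p N :=
      commutator_le_left_of_le_normalizer _ K₁ (hK₁N.trans hNR) hx
    have hxK : x ∈ K₁ := by
      rw [Subgroup.commutator_comm] at hx
      exact commutator_le_left_of_le_normalizer K₁ _ (hRN.trans hNK₁) hx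
    rw [Subgroup.mem_bot]
    exact eq_one_of_mem_pgroup_of_mem_coprime _ K₁ hRp hco x hxR hxK
  have h2 : K₁ ≤ Subgroup.centralizer ((Cfsg.pCoreOf p N : Subgroup G) : Set G) :=
    Subgroup.le_centralizer_iff.mp (Subgroup.commutator_eq_bot_iff_le_centralizer.mp h1)
  rw [eq_bot_iff]
  intro k hk
  have h3 : (⟨k, hK₁N hk⟩ : ↥N) ∈ Subgroup.centralizer (Cfsg.pCore p ↥N : Set ↥N) := by
    rw [Subgroup.mem_centralizer_iff]
    intro r hr
    apply Subtype.ext
    exact Subgroup.mem_centralizer_iff.mp (h2 hk) r.1 ⟨r, hr, rfl⟩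
  have h4 : k ∈ Cfsg.pCoreOf p N := ⟨_, hchar h3, rfl⟩
  rw [Subgroup.mem_bot]
  exact eq_one_of_mem_pgroup_of_mem_coprime _ K₁ hRp hco k h4 hk

/-- S2898. -/
theorem oddCore_eq_bot (h2 : 2 ∣ Nat.card G) (hG : Cfsg.IsOfParabolicCharacteristic 2 G)
    [hN : (Cfsg.oddCore G).Normal] (hZ : Subgroup.center (G ⧸ Cfsg.oddCore G) = ⊥) :
    Cfsg.oddCore G = ⊥ := by
  have hKco : (Nat.card ↥(Cfsg.oddCore G)).Coprime 2 :=
    Cfsg.Agent.Lib_helper7_PPrime.card_pPrimeCore_coprime 2
  have hNK : ∀ X : Subgroup G, X ≤ Subgroup.normalizer ((Cfsg.oddCore G : Subgroup G) : Set G) :=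
    fun X => le_top.trans_eq (Subgroup.normalizer_eq_top_iff.mpr hN).symm
  have hCKn : (Subgroup.centralizer ((Cfsg.oddCore G : Subgroup G) : Set G)).Normal :=
    Subgroup.normalizer_eq_top_iff.mp (eq_top_iff.mpr
      ((hNK ⊤).trans (normalizer_le_normalizer_centralizer _)))
  obtain ⟨S⟩ : Nonempty (Sylow 2 G) := inferInstance
  have hS1 : (S : Subgroup G) ≠ ⊥ := S.ne_bot_of_dvd_card h2
  by_cases hS₀ : (S : Subgroup G) ⊓ Subgroup.centralizer ((Cfsg.oddCore G : Subgroup G) : Set G) = ⊥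
  · -- `C_G(K)` has odd order, hence lies in `K`
    have hidx := Cfsg.Agent.Lib_helper7_PPrimeP.sylow_inf_normal S
      (Subgroup.centralizer ((Cfsg.oddCore G : Subgroup G) : Set G))
    rw [hS₀, Subgroup.relIndex_bot_left] at hidx
    have hCKco : (Nat.card ↥(Subgroup.centralizer ((Cfsg.oddCore G : Subgroup G) : Set G))).Coprime 2 :=
      ((Nat.Prime.coprime_iff_not_dvd Nat.prime_two).mpr hidx).symm
    have hCKK : Subgroup.centralizer ((Cfsg.oddCore G : Subgroup G) : Set G) ≤ Cfsg.oddCore G :=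
      Cfsg.Agent.Lib_helper7_PPrime.le_pPrimeCore 2 _ hCKco
    -- an involution in the centre of `S`
    haveI : Nontrivial ↥(S : Subgroup G) := (Subgroup.nontrivial_iff_ne_bot _).mpr hS1
    haveI := S.isPGroup'.center_nontrivial
    have hcz : 2 ∣ Nat.card ↥(Subgroup.center ↥(S : Subgroup G)) := by
      obtain ⟨k, hk⟩ := IsPGroup.iff_card.mp
        (S.isPGroup'.to_subgroup (Subgroup.center ↥(S : Subgroup G)))
      rw [hk]
      rcases Nat.eq_zero_or_pos k with h0 | h0
      · exfalso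
        rw [h0, pow_zero] at hk
        have := Finite.one_lt_card (α := ↥(Subgroup.center ↥(S : Subgroup G)))
        omega
      · exact dvd_pow_self 2 h0.ne'
    obtain ⟨z', hz'⟩ := exists_prime_orderOf_dvd_card' 2 hcz
    have hzo : orderOf ((z' : ↥(S : Subgroup G)) : G) = 2 := by
      rw [Subgroup.orderOf_coe, Subgroup.orderOf_coe]; exact hz'
    have hzS : ∀ s ∈ (S : Subgroup G), s * ((z' : ↥(S : Subgroup G)) : G)
        = ((z' : ↥(S : Subgroup G)) : G) * s := by
      intro s hs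
      have := Subgroup.mem_center_iff.mp z'.2 ⟨s, hs⟩
      exact congrArg Subtype.val this
    generalize ((z' : ↥(S : Subgroup G)) : G) = z at hzo hzS
    have hz2 : z * z = 1 := by
      have := pow_orderOf_eq_one z
      rwa [hzo, pow_two] at this
    have hzinv : z⁻¹ = z := inv_eq_of_mul_eq_one_left hz2
    -- the 2-local `N(⟨z⟩)` has characteristic 2
    have hzp : IsPGroup 2 ↥(Subgroup.zpowers z) :=
      IsPGroup.of_card (n := 1) (by rw [Nat.card_zpowers, hzo, pow_one])
    have hz1 : Subgroup.zpowers z ≠ ⊥ := by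
      intro h
      have : z = 1 := Subgroup.zpowers_eq_bot.mp h
      rw [this, orderOf_one] at hzo
      omega
    have hSz : (S : Subgroup G) ≤ Subgroup.centralizer ((Subgroup.zpowers z : Subgroup G) : Set G) := by
      rw [Subgroup.le_centralizer_iff, Subgroup.zpowers_le, Subgroup.mem_centralizer_iff]
      intro s hs
      exact hzS s hs
    have hpar : Cfsg.IsParabolic 2 (Subgroup.normalizer ((Subgroup.zpowers z : Subgroup G) : Set G)) :=
      ⟨S, hSz.trans (Subgroup.centralizer_le_normalizer _)⟩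
    have hchar := hG _ hzp hz1 hpar
    have hK₁ : Cfsg.oddCore G ⊓ Subgroup.centralizer ((Subgroup.zpowers z : Subgroup G) : Set G) = ⊥ := by
      apply pprime_normal_eq_bot_of_charp (p := 2) _ hchar
      · exact inf_le_right.trans (Subgroup.centralizer_le_normalizer _)
      · exact le_normalizer_inf _ _ _ (hNK _) (normalizer_le_normalizer_centralizer _)
      · exact Nat.Coprime.coprime_dvd_left (Subgroup.card_dvd_of_le inf_le_left) hKco
    -- `z` inverts `K`
    have hfpf : MonoidHom.FixedPointFree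
        ((MulAut.conjNormal z : MulAut ↥(Cfsg.oddCore G)) : ↥(Cfsg.oddCore G) → ↥(Cfsg.oddCore G)) := by
      intro k hk
      have hk' : z * (k : G) * z⁻¹ = k := by
        have := congrArg Subtype.val hk
        rwa [MulAut.conjNormal_apply] at this
      have hkz : z * (k : G) = k * z := by
        calc z * (k : G) = (z * k * z⁻¹) * z := by group
          _ = k * z := by rw [hk']
      have hkC : (k : G) ∈ Subgroup.centralizer ((Subgroup.zpowers z : Subgroup G) : Set G) := by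
        have : Subgroup.zpowers z ≤ Subgroup.centralizer ({(k : G)} : Set G) := by
          rw [Subgroup.zpowers_le, Subgroup.mem_centralizer_iff]
          intro y hy
          rw [Set.mem_singleton_iff] at hy
          rw [hy]
          exact hkz.symm
        rw [Subgroup.mem_centralizer_iff]
        intro y hy
        exact (Subgroup.mem_centralizer_iff.mp (this hy) k rfl).symm
      have : (k : G) ∈ (⊥ : Subgroup G) := hK₁ ▸ ⟨k.2, hkC⟩
      exact Subtype.ext (Subgroup.mem_bot.mp this)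
    have hinvol : Function.Involutive
        ((MulAut.conjNormal z : MulAut ↥(Cfsg.oddCore G)) : ↥(Cfsg.oddCore G) → ↥(Cfsg.oddCore G)) := by
      intro k
      apply Subtype.ext
      rw [MulAut.conjNormal_apply, MulAut.conjNormal_apply, hzinv]
      calc z * (z * (k : G) * z) * z = (z * z) * k * (z * z) := by group
        _ = k := by rw [hz2, one_mul, mul_one]
    have hinv : ∀ k ∈ Cfsg.oddCore G, z * k * z⁻¹ = k⁻¹ := by
      intro k hk
      have h := congrFun (MonoidHom.FixedPointFree.coe_eq_inv_of_involutive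
        (φ := ((MulAut.conjNormal z : MulAut ↥(Cfsg.oddCore G)) : ↥(Cfsg.oddCore G) →* ↥(Cfsg.oddCore G)))
        hfpf hinvol) ⟨k, hk⟩
      have h' := congrArg Subtype.val h
      exact (MulAut.conjNormal_apply z ⟨k, hk⟩).symm.trans h'
    -- `z` is central modulo `K`
    have hzc : ((z : G) : G ⧸ Cfsg.oddCore G) ∈ Subgroup.center (G ⧸ Cfsg.oddCore G) := by
      rw [Subgroup.mem_center_iff]
      intro gb
      obtain ⟨g, rfl⟩ := QuotientGroup.mk_surjective gb
      have hw : z * (g * z * g⁻¹) ∈ Subgroup.centralizer ((Cfsg.oddCore G : Subgroup G) : Set G) := by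
        rw [Subgroup.mem_centralizer_iff]
        intro k hk
        have h3 : ∀ k ∈ Cfsg.oddCore G, g * z * g⁻¹ * k * (g * z * g⁻¹)⁻¹ = k⁻¹ := by
          intro k hk
          have hk' : g⁻¹ * k * g ∈ Cfsg.oddCore G := by
            have := hN.conj_mem k hk g⁻¹
            simpa using this
          have h1 := hinv _ hk'
          calc g * z * g⁻¹ * k * (g * z * g⁻¹)⁻¹ = g * (z * (g⁻¹ * k * g) * z⁻¹) * g⁻¹ := by group
            _ = g * (g⁻¹ * k * g)⁻¹ * g⁻¹ := by rw [h1]
            _ = k⁻¹ := by group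
        have h4 := h3 k hk
        have h5 := hinv _ (Subgroup.inv_mem _ hk)
        rw [inv_inv] at h5
        have h6 : (z * (g * z * g⁻¹)) * k * (z * (g * z * g⁻¹))⁻¹ = k := by
          calc (z * (g * z * g⁻¹)) * k * (z * (g * z * g⁻¹))⁻¹
              = z * (g * z * g⁻¹ * k * (g * z * g⁻¹)⁻¹) * z⁻¹ := by group
            _ = z * k⁻¹ * z⁻¹ := by rw [h4]
            _ = k := h5
        calc k * (z * (g * z * g⁻¹))
            = ((z * (g * z * g⁻¹)) * k * (z * (g * z * g⁻¹))⁻¹) * (z * (g * z * g⁻¹)) := by rw [h6]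
          _ = z * (g * z * g⁻¹) * k := by group
      have hwK : z * (g * z * g⁻¹) ∈ Cfsg.oddCore G := hCKK hw
      have hq : ((z * (g * z * g⁻¹) : G) : G ⧸ Cfsg.oddCore G) = 1 :=
        (QuotientGroup.eq_one_iff _).mpr hwK
      have hzq : ((z : G) : G ⧸ Cfsg.oddCore G) * ((z : G) : G ⧸ Cfsg.oddCore G) = 1 := by
        rw [← QuotientGroup.mk_mul, hz2]; rfl
      rw [QuotientGroup.mk_mul, QuotientGroup.mk_mul, QuotientGroup.mk_mul, QuotientGroup.mk_inv] at hq
      -- z̄ (ḡ z̄ ḡ⁻¹) = 1 and z̄ z̄ = 1 give ḡ z̄ = z̄ ḡ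
      have h9 : (g : G ⧸ Cfsg.oddCore G) * (z : G ⧸ Cfsg.oddCore G) * (g : G ⧸ Cfsg.oddCore G)⁻¹
          = (z : G ⧸ Cfsg.oddCore G) := by
        have := mul_left_cancel (hq.trans hzq.symm)
        exact this
      calc (g : G ⧸ Cfsg.oddCore G) * (z : G ⧸ Cfsg.oddCore G)
          = ((g : G ⧸ Cfsg.oddCore G) * (z : G ⧸ Cfsg.oddCore G) * (g : G ⧸ Cfsg.oddCore G)⁻¹)
            * (g : G ⧸ Cfsg.oddCore G) := by group
        _ = (z : G ⧸ Cfsg.oddCore G) * (g : G ⧸ Cfsg.oddCore G) := by rw [h9]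
    rw [hZ, Subgroup.mem_bot, QuotientGroup.eq_one_iff] at hzc
    exfalso
    have hd : 2 ∣ Nat.card ↥(Cfsg.oddCore G) := by
      have := orderOf_dvd_natCard (⟨z, hzc⟩ : ↥(Cfsg.oddCore G))
      rwa [Subgroup.orderOf_mk, hzo] at this
    have : 2 ∣ Nat.gcd (Nat.card ↥(Cfsg.oddCore G)) 2 := Nat.dvd_gcd hd dvd_rfl
    rw [hKco] at this
    omega
  · -- `S ∩ C_G(K) ≠ 1`
    have hp₀ : IsPGroup 2 ↥((S : Subgroup G) ⊓
        Subgroup.centralizer ((Cfsg.oddCore G : Subgroup G) : Set G)) := S.isPGroup'.to_le inf_le_left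
    have hpar : Cfsg.IsParabolic 2 (Subgroup.normalizer (((S : Subgroup G) ⊓
        Subgroup.centralizer ((Cfsg.oddCore G : Subgroup G) : Set G) : Subgroup G) : Set G)) :=
      ⟨S, le_normalizer_inf _ _ _ Subgroup.le_normalizer
        (le_top.trans_eq (Subgroup.normalizer_eq_top_iff.mpr hCKn).symm)⟩
    have hchar := hG _ hp₀ hS₀ hpar
    apply pprime_normal_eq_bot_of_charp (p := 2) _ hchar
    · have h1 : Cfsg.oddCore G ≤ Subgroup.centralizer (((S : Subgroup G) ⊓
          Subgroup.centralizer ((Cfsg.oddCore G : Subgroup G) : Set G) : Subgroup G) : Set G) :=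
        Subgroup.le_centralizer_iff.mp inf_le_right
      exact h1.trans (Subgroup.centralizer_le_normalizer _)
    · exact hNK _
    · exact hKco

end Cfsg.Agent.Lib_helper7_OddCore
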