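import Mathlib
import Cfsg.Prelude.Def_LocalStructure
import Cfsg.Agent.Lib_helper7_PReduced3

set_option autoImplicit false

namespace Cfsg.Agent.Lib_helper7_PReduced4

open Cfsg.Agent.Lib_helper7_Sylow Cfsg.Agent.Lib_helper7_Alperin Cfsg.Agent.Lib_helper7_WellPlaced
open Cfsg.Agent.Lib_helper7_WC Cfsg.Agent.Lib_helper7_Large Cfsg.Agent.Lib_helper7_PReduced
open Cfsg.Agent.Lib_helper7_PReduced2 Cfsg.Agent.Lib_helper7_PReduced3
open scoped Pointwise

variable {H : Type*} [Group H] [Finite H] {p : ℕ} [Fact p.Prime]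

/-- Subgroup-level form of `Y_L = Ω₁(Z(C_T(Y_L)))`. -/
theorem largestOf_eq_omegaOne (T : Sylow p H) (L : Subgroup H) (hTL : (T : Subgroup H) ≤ L)
    (hL : Subgroup.centralizer (Cfsg.pCore p ↥L : Set ↥L) ≤ Cfsg.pCore p ↥L) :
    Cfsg.largestPReducedOf p L = Cfsg.omegaOne p (((T : Subgroup H) ⊓ Subgroup.centralizer
      ((Cfsg.largestPReducedOf p L : Subgroup H) : Set H)) ⊓ Subgroup.centralizer
        (((T : Subgroup H) ⊓ Subgroup.centralizer
          ((Cfsg.largestPReducedOf p L : Subgroup H) : Set H) : Subgroup H) : Set H)) := by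
  obtain ⟨hLY, hel, -⟩ := largestOf_dest (p := p) L
  apply le_antisymm
  · intro y hy
    apply Subgroup.subset_closure
    refine ⟨⟨⟨(pCoreOf_le_sylow L T hTL) (largestOf_le_pCoreOf L hy),
      (Subgroup.le_centralizer_iff_isMulCommutative.mpr hel.1) hy⟩, ?_⟩, hel.2 y hy⟩
    show y ∈ Subgroup.centralizer (((T : Subgroup H) ⊓ Subgroup.centralizer
          ((Cfsg.largestPReducedOf p L : Subgroup H) : Set H) : Subgroup H) : Set H)
    rw [Subgroup.mem_centralizer_iff]
    intro t ht
    exact ((Subgroup.mem_centralizer_iff.mp ht.2) y hy).symm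
  · unfold Cfsg.omegaOne
    rw [Subgroup.closure_le]
    rintro z ⟨⟨hzT, hzC⟩, hzp⟩
    have hzL : z ∈ L := hTL hzT.1
    have h3 := (largest_structure hL (T.subtype hTL) (Cfsg.largestPReduced p ↥L)
      ⟨largest_reduced, fun V hV => le_sSup hV⟩).2.2
    have hz₀ : (⟨z, hzL⟩ : ↥L) ∈ Cfsg.largestPReduced p ↥L := by
      rw [h3]
      apply Subgroup.subset_closure
      have hmemTL : ∀ t : ↥L, t ∈ ((T.subtype hTL : Sylow p ↥L) : Subgroup ↥L) ⊓
          Subgroup.centralizer (Cfsg.largestPReduced p ↥L : Set ↥L) ↔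
          (t : H) ∈ (T : Subgroup H) ⊓ Subgroup.centralizer
            ((Cfsg.largestPReducedOf p L : Subgroup H) : Set H) := by
        intro t
        constructor
        · rintro ⟨h1, h2⟩
          exact ⟨Subgroup.mem_subgroupOf.mp h1, (mem_centralizer_subtype_iff L _ t).mp h2⟩
        · rintro ⟨h1, h2⟩
          exact ⟨Subgroup.mem_subgroupOf.mpr h1, (mem_centralizer_subtype_iff L _ t).mpr h2⟩
      refine ⟨⟨(hmemTL _).mpr hzT, ?_⟩, ?_⟩
      · show (⟨z, hzL⟩ : ↥L) ∈ Subgroup.centralizer _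
        rw [Subgroup.mem_centralizer_iff]
        intro t ht
        apply Subtype.ext
        exact (Subgroup.mem_centralizer_iff.mp hzC) (t : H) ((hmemTL t).mp ht)
      · apply Subtype.ext
        simpa using hzp
    exact ⟨⟨z, hzL⟩, hz₀, rfl⟩

/-- S2824 -/
theorem largestOf_normalizer (T : Sylow p H) (L M : Subgroup H) (hTL : (T : Subgroup H) ≤ L)
    (hTM : (T : Subgroup H) ≤ M)
    (hL : Subgroup.centralizer (Cfsg.pCore p ↥L : Set ↥L) ≤ Cfsg.pCore p ↥L)
    (hfac : M ⊔ Subgroup.centralizer ((Cfsg.largestPReducedOf p L : Subgroup H) : Set H) =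
      L ⊔ Subgroup.centralizer ((Cfsg.largestPReducedOf p L : Subgroup H) : Set H)) :
    Cfsg.largestPReducedOf p (M ⊓ Subgroup.normalizer (((T : Subgroup H) ⊓
        Subgroup.centralizer ((Cfsg.largestPReducedOf p L : Subgroup H) : Set H) : Subgroup H) :
          Set H)) = Cfsg.largestPReducedOf p L ∧
    L ⊔ Subgroup.centralizer ((Cfsg.largestPReducedOf p L : Subgroup H) : Set H) =
      (M ⊓ Subgroup.normalizer (((T : Subgroup H) ⊓
        Subgroup.centralizer ((Cfsg.largestPReducedOf p L : Subgroup H) : Set H) : Subgroup H) :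
          Set H)) ⊔ Subgroup.centralizer ((Cfsg.largestPReducedOf p L : Subgroup H) : Set H) := by
  obtain ⟨hLY, hel, -⟩ := largestOf_dest (p := p) L
  have hNC := normalizer_le_normalizer_centralizer (Cfsg.largestPReducedOf p L)
  have hMY : M ≤ Subgroup.normalizer ((Cfsg.largestPReducedOf p L : Subgroup H) : Set H) :=
    (le_sup_left.trans hfac.le).trans (sup_le hLY (Subgroup.centralizer_le_normalizer _))
  have hT_Ls : (T : Subgroup H) ≤ M ⊓ Subgroup.normalizer (((T : Subgroup H) ⊓
      Subgroup.centralizer ((Cfsg.largestPReducedOf p L : Subgroup H) : Set H) : Subgroup H) :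
        Set H) := by
    refine le_inf hTM ?_
    refine le_trans ?_ (normalizer_inf_le _ _)
    exact le_inf Subgroup.le_normalizer (hTL.trans (hLY.trans hNC))
  -- second claim
  have hsecond : L ⊔ Subgroup.centralizer ((Cfsg.largestPReducedOf p L : Subgroup H) : Set H) =
      (M ⊓ Subgroup.normalizer (((T : Subgroup H) ⊓
        Subgroup.centralizer ((Cfsg.largestPReducedOf p L : Subgroup H) : Set H) : Subgroup H) :
          Set H)) ⊔ Subgroup.centralizer ((Cfsg.largestPReducedOf p L : Subgroup H) : Set H) := by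
    rw [← hfac]
    apply le_antisymm
    · apply sup_le _ le_sup_right
      intro m hm
      have hT₀ : (T : Subgroup H) ⊓ (M ⊓ Subgroup.centralizer
          ((Cfsg.largestPReducedOf p L : Subgroup H) : Set H)) = (T : Subgroup H) ⊓
            Subgroup.centralizer ((Cfsg.largestPReducedOf p L : Subgroup H) : Set H) := by
        apply le_antisymm
        · exact inf_le_inf_left _ inf_le_right
        · exact le_inf inf_le_left (le_inf (inf_le_left.trans hTM) inf_le_right)
      have hnormMC : ∀ x ∈ M, ∀ c ∈ M ⊓ Subgroup.centralizer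
          ((Cfsg.largestPReducedOf p L : Subgroup H) : Set H), x * c * x⁻¹ ∈ M ⊓
            Subgroup.centralizer ((Cfsg.largestPReducedOf p L : Subgroup H) : Set H) := by
        intro x hx c hc
        exact ⟨M.mul_mem (M.mul_mem hx hc.1) (M.inv_mem hx),
          (Subgroup.mem_normalizer_iff.mp (hNC (hMY hx)) c).mp hc.2⟩
      have hidx := Cfsg.Agent.Lib_helper7_CentricRadical.inf_sylow (T : Subgroup H) M
        (M ⊓ Subgroup.centralizer ((Cfsg.largestPReducedOf p L : Subgroup H) : Set H))
        T.isPGroup' (not_dvd_relIndex_of_sylow T M hTM) inf_le_left hnormMC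
      have hp : IsPGroup p ↥((T : Subgroup H) ⊓ (M ⊓ Subgroup.centralizer
          ((Cfsg.largestPReducedOf p L : Subgroup H) : Set H))) := T.isPGroup'.to_le inf_le_left
      have hle : ((T : Subgroup H) ⊓ (M ⊓ Subgroup.centralizer
          ((Cfsg.largestPReducedOf p L : Subgroup H) : Set H))).map
            (MulAut.conj m⁻¹).toMonoidHom ≤ M ⊓ Subgroup.centralizer
              ((Cfsg.largestPReducedOf p L : Subgroup H) : Set H) := by
        rw [map_conj_le_iff]
        intro x hx
        exact hnormMC m⁻¹ (M.inv_mem hm) x hx.2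
      obtain ⟨n, hnC, hn⟩ := exists_conj_of_relIndex _ _ _ hp hidx hle (hp.map _)
      have h1 : n * m⁻¹ ∈ Subgroup.normalizer (((T : Subgroup H) ⊓ (M ⊓ Subgroup.centralizer
          ((Cfsg.largestPReducedOf p L : Subgroup H) : Set H)) : Subgroup H) : Set H) := by
        apply mem_normalizer_of_conj_le
        rw [← map_conj_mul, map_conj_le_iff]
        exact hn
      rw [hT₀] at h1
      have h2 : m = (n * m⁻¹)⁻¹ * n := by group
      rw [h2]
      refine Subgroup.mul_mem_sup ⟨?_, Subgroup.inv_mem _ h1⟩ hnC.2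
      exact M.inv_mem (M.mul_mem hnC.1 (M.inv_mem hm))
    · exact sup_le_sup_right inf_le_left _
  refine ⟨?_, hsecond⟩
  have hYLs : Cfsg.largestPReducedOf p L ≤ M ⊓ Subgroup.normalizer (((T : Subgroup H) ⊓
      Subgroup.centralizer ((Cfsg.largestPReducedOf p L : Subgroup H) : Set H) : Subgroup H) :
        Set H) :=
    ((largestOf_le_pCoreOf L).trans (pCoreOf_le_sylow L T hTL)).trans hT_Ls
  apply le_antisymm
  · -- `Y_{Ls} ≤ Y_L`
    refine le_trans ?_ (largestOf_eq_omegaOne T L hTL hL).ge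
    intro y hy
    apply Subgroup.subset_closure
    have hT₀O : (T : Subgroup H) ⊓ Subgroup.centralizer
        ((Cfsg.largestPReducedOf p L : Subgroup H) : Set H) ≤ Cfsg.pCoreOf p (M ⊓
          Subgroup.normalizer (((T : Subgroup H) ⊓ Subgroup.centralizer
            ((Cfsg.largestPReducedOf p L : Subgroup H) : Set H) : Subgroup H) : Set H)) :=
      le_pCoreOf _ _ (inf_le_left.trans hT_Ls) (T.isPGroup'.to_le inf_le_left) inf_le_right
    have hyO := largestOf_le_pCoreOf _ hy
    have hyT : y ∈ (T : Subgroup H) := pCoreOf_le_sylow _ T hT_Ls hyO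
    have hyC : y ∈ Subgroup.centralizer (((T : Subgroup H) ⊓ Subgroup.centralizer
        ((Cfsg.largestPReducedOf p L : Subgroup H) : Set H) : Subgroup H) : Set H) :=
      (Subgroup.le_centralizer_iff.mp (hT₀O.trans (pCoreOf_le_centralizer_largestOf _))) hy
    have hOL : Cfsg.pCoreOf p L ≤ (T : Subgroup H) ⊓ Subgroup.centralizer
        ((Cfsg.largestPReducedOf p L : Subgroup H) : Set H) :=
      le_inf (pCoreOf_le_sylow L T hTL) (pCoreOf_le_centralizer_largestOf L)
    have hyOL : y ∈ Cfsg.pCoreOf p L := by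
      have h1 : (⟨y, hTL hyT⟩ : ↥L) ∈ Subgroup.centralizer (Cfsg.pCore p ↥L : Set ↥L) := by
        rw [mem_centralizer_subtype_iff]
        exact Subgroup.centralizer_le hOL hyC
      exact ⟨⟨y, hTL hyT⟩, hL h1, rfl⟩
    exact ⟨⟨hOL hyOL, hyC⟩, (largestOf_dest (p := p) _).2.1.2 y hy⟩
  · exact reduced_le_largestOf _ _ hYLs
      (reduced_transfer _ L _ (largestOf_reduced L) (largestOf_le L) hYLs hsecond.symm)

end Cfsg.Agent.Lib_helper7_PReduced4
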