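import Mathlib
import Cfsg.Agent.Lib_helper7_PPrimeP
import Cfsg.Agent.Lib_helper2_Comp

set_option autoImplicit false

namespace Cfsg.Agent.Lib_helper7_SylSubn

open Cfsg

variable {G : Type*} [Group G] [Finite G] {p : ℕ} [Fact p.Prime]

/-- A Sylow subgroup meets a subnormal subgroup in a Sylow subgroup. -/
theorem sylow_inf_subnormal (P : Sylow p G) (K : Subgroup G) (hK : K.IsSubnormal) :
    ¬ p ∣ ((P : Subgroup G) ⊓ K).relIndex K := by
  induction hK with
  | top =>
    rw [inf_top_eq, Subgroup.relIndex_top_right]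
    exact P.not_dvd_index
  | step S K hSK hKs hN ih =>
    have hR : IsPGroup p ↥((P : Subgroup G) ⊓ K) := P.isPGroup'.to_le inf_le_left
    let PK : Sylow p ↥K :=
      IsPGroup.toSylow (P := ((P : Subgroup G) ⊓ K).subgroupOf K) hR.comap_subtype ih
    haveI : (S.subgroupOf K).Normal := hN
    have h1 := Cfsg.Agent.Lib_helper7_PPrimeP.sylow_inf_normal PK (S.subgroupOf K)
    have h2 : ((PK : Subgroup ↥K) ⊓ S.subgroupOf K) = ((P : Subgroup G) ⊓ S).subgroupOf K := by
      ext x
      simp only [Subgroup.mem_inf, Subgroup.mem_subgroupOf, PK, IsPGroup.toSylow_coe]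
      constructor
      · rintro ⟨⟨h, -⟩, h'⟩; exact ⟨h, h'⟩
      · rintro ⟨h, h'⟩; exact ⟨⟨h, x.2⟩, h'⟩
    rw [h2, Subgroup.relIndex_subgroupOf hSK] at h1
    exact h1

end Cfsg.Agent.Lib_helper7_SylSubn
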