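import Mathlib
import Cfsg.Prelude.Def_LocalStructure
import Cfsg.Agent.Lib_helper7_CharP
import Cfsg.Agent.Lib_helper7_SylSubn
import Cfsg.Agent.Lib_helper7_AmalgQ
import Cfsg.Agent.Lib_helper7_Alperin
import Cfsg.Agent.Lib_helper1_Coprime
import Cfsg.Agent.Lib_helper1_PLength

set_option autoImplicit false

namespace Cfsg.Agent.Lib_helper7_ParaChar

open Cfsg.Agent.Lib_helper7_Sylow Cfsg.Agent.Lib_helper7_Large Cfsg.Agent.Lib_helper7_CharP
open Cfsg.Agent.Lib_helper7_WC Cfsg.Agent.Lib_helper7_WellPlaced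
open scoped Pointwise

variable {G : Type*} [Group G] [Finite G] {p : ℕ} [Fact p.Prime]

/-- `L` has characteristic `p`, stated inside the ambient group. -/
def CharPX (p : ℕ) (L : Subgroup G) : Prop :=
  L ⊓ Subgroup.centralizer ((Cfsg.pCoreOf p L : Subgroup G) : Set G) ≤ Cfsg.pCoreOf p L

theorem charPX_of_internal (L : Subgroup G)
    (h : Subgroup.centralizer (Cfsg.pCore p ↥L : Set ↥L) ≤ Cfsg.pCore p ↥L) : CharPX p L := by
  rintro x ⟨hxL, hxC⟩
  have h1 : (⟨x, hxL⟩ : ↥L) ∈ Subgroup.centralizer (Cfsg.pCore p ↥L : Set ↥L) := by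
    rw [Subgroup.mem_centralizer_iff]
    intro y hy
    apply Subtype.ext
    exact (Subgroup.mem_centralizer_iff.mp hxC) (y : G) ⟨y, hy, rfl⟩
  exact ⟨⟨x, hxL⟩, h h1, rfl⟩

theorem internal_of_charPX (L : Subgroup G) (h : CharPX p L) :
    Subgroup.centralizer (Cfsg.pCore p ↥L : Set ↥L) ≤ Cfsg.pCore p ↥L := by
  intro c hc
  have h2 : (c : G) ∈ L ⊓ Subgroup.centralizer ((Cfsg.pCoreOf p L : Subgroup G) : Set G) := by
    refine ⟨c.2, ?_⟩
    show (c : G) ∈ Subgroup.centralizer ((Cfsg.pCoreOf p L : Subgroup G) : Set G)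
    rw [Subgroup.mem_centralizer_iff]
    rintro _ ⟨x, hx, rfl⟩
    have := (Subgroup.mem_centralizer_iff.mp hc) x hx
    exact congrArg Subtype.val this
  obtain ⟨c', hc', hcc'⟩ := h h2
  have : c' = c := Subtype.ext hcc'
  rwa [this] at hc'

theorem charp_equiv {A : Type*} {B : Type*} [Group A] [Group B] [Finite A] [Finite B] (e : A ≃* B)
    (h : Subgroup.centralizer (Cfsg.pCore p A : Set A) ≤ Cfsg.pCore p A) :
    Subgroup.centralizer (Cfsg.pCore p B : Set B) ≤ Cfsg.pCore p B := by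
  intro b hb
  have h1 : e.symm b ∈ Subgroup.centralizer (Cfsg.pCore p A : Set A) := by
    rw [Subgroup.mem_centralizer_iff]
    intro a ha
    have ha' : e a ∈ Cfsg.pCore p B := by
      rw [← Cfsg.Agent.Lib_helper1_PLength.pCore_map_equiv p e]
      exact ⟨a, ha, rfl⟩
    have h2 := (Subgroup.mem_centralizer_iff.mp hb) (e a) ha'
    apply e.injective
    rw [map_mul, map_mul, e.apply_symm_apply]
    exact h2
  rw [← Cfsg.Agent.Lib_helper1_PLength.pCore_map_equiv p e]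
  exact ⟨e.symm b, h h1, e.apply_symm_apply b⟩

theorem eq_one_of_mem_pgroup (D : Subgroup G) (hD : IsPGroup p ↥D) (y : G) (hy : y ∈ D)
    (hco : (orderOf y).Coprime p) : y = 1 := by
  obtain ⟨k, hk⟩ := hD ⟨y, hy⟩
  have hk' : y ^ p ^ k = 1 := congrArg Subtype.val hk
  have h2 : orderOf y ∣ p ^ k := orderOf_dvd_of_pow_eq_one hk'
  have h3 : orderOf y = 1 := Nat.Coprime.eq_one_of_dvd (Nat.Coprime.pow_right k hco) h2
  exact orderOf_eq_one_iff.mp h3

/-- If every `p'`-element of `C_L(O_p(L))` is trivial then `L` has characteristic `p`. -/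
theorem charPX_of_pprime (L : Subgroup G)
    (h : ∀ y ∈ L, y ∈ Subgroup.centralizer ((Cfsg.pCoreOf p L : Subgroup G) : Set G) →
      (orderOf y).Coprime p → y = 1) : CharPX p L := by
  have hLC : L ≤ Subgroup.normalizer ((L ⊓ Subgroup.centralizer
      ((Cfsg.pCoreOf p L : Subgroup G) : Set G) : Subgroup G) : Set G) :=
    le_normalizer_inf _ _ L Subgroup.le_normalizer
      ((le_normalizer_pCoreOf L).trans (normalizer_le_normalizer_centralizer _))
  have hCp : IsPGroup p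
      ↥(L ⊓ Subgroup.centralizer ((Cfsg.pCoreOf p L : Subgroup G) : Set G)) :=
    isPGroup_of_pprime_trivial _ (fun y hy hco => h y hy.1 hy.2 hco)
  exact le_pCoreOf L _ inf_le_left hCp hLC

/-- A normal subgroup of a group of characteristic `p` has characteristic `p`. -/
theorem charPX_of_normal (M N : Subgroup G) (hM : CharPX p M) (hNM : N ≤ M)
    (hnorm : M ≤ Subgroup.normalizer (N : Set G)) : CharPX p N := by
  apply charPX_of_pprime
  intro y hyN hyC hco
  have hUp : IsPGroup p ↥(Cfsg.pCoreOf p M) := pCoreOf_isPGroup M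
  have hMU : M ≤ Subgroup.normalizer ((Cfsg.pCoreOf p M : Subgroup G) : Set G) :=
    le_normalizer_pCoreOf M
  have hUM : Cfsg.pCoreOf p M ≤ M := pCoreOf_le M
  have hUN : Cfsg.pCoreOf p M ⊓ N ≤ Cfsg.pCoreOf p N :=
    le_pCoreOf N _ inf_le_right (hUp.to_le inf_le_left)
      (le_normalizer_inf _ _ N (hNM.trans hMU) Subgroup.le_normalizer)
  have hzN : Subgroup.zpowers y ≤ N := Subgroup.zpowers_le.mpr hyN
  have h1 : ⁅Cfsg.pCoreOf p M, Subgroup.zpowers y⁆ ≤ Cfsg.pCoreOf p M ⊓ N := by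
    rw [Subgroup.commutator_le]
    intro u hu z hz
    have hzM : z ∈ M := hNM (hzN hz)
    refine ⟨?_, ?_⟩
    · have e1 : u * z * u⁻¹ * z⁻¹ = u * (z * u⁻¹ * z⁻¹) := by group
      show u * z * u⁻¹ * z⁻¹ ∈ _
      rw [e1]
      exact Subgroup.mul_mem _ hu
        ((Subgroup.mem_normalizer_iff.mp (hMU hzM) _).mp (Subgroup.inv_mem _ hu))
    · show u * z * u⁻¹ * z⁻¹ ∈ _
      exact Subgroup.mul_mem _ ((Subgroup.mem_normalizer_iff.mp (hnorm (hUM hu)) _).mp (hzN hz))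
        (Subgroup.inv_mem _ (hzN hz))
  have h2 : ⁅⁅Cfsg.pCoreOf p M, Subgroup.zpowers y⁆, Subgroup.zpowers y⁆ = ⊥ := by
    rw [eq_bot_iff]
    refine (Subgroup.commutator_mono (h1.trans hUN) le_rfl).trans ?_
    rw [Subgroup.commutator_le]
    intro u hu z hz
    have hzC : z ∈ Subgroup.centralizer ((Cfsg.pCoreOf p N : Subgroup G) : Set G) :=
      (Subgroup.zpowers_le.mpr hyC) hz
    have h3 := (Subgroup.mem_centralizer_iff.mp hzC) u hu
    show u * z * u⁻¹ * z⁻¹ ∈ (⊥ : Subgroup G)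
    rw [Subgroup.mem_bot, h3]
    group
  have h3 := centralizes_of_double_commutator (Cfsg.pCoreOf p M) hUp y (hMU (hNM hyN)) hco h2
  have hyCM : y ∈ Subgroup.centralizer ((Cfsg.pCoreOf p M : Subgroup G) : Set G) :=
    h3 (Subgroup.mem_zpowers y)
  exact eq_one_of_mem_pgroup _ hUp y (hM ⟨hNM hyN, hyCM⟩) hco

/-- The intersection of a subnormal subgroup with a subgroup of characteristic `p`
has characteristic `p`. -/
theorem charPX_of_subnormal (N : Subgroup G) (hN : N.IsSubnormal) :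
    ∀ K : Subgroup G, CharPX p K → CharPX p (N ⊓ K) := by
  induction hN with
  | top => intro K hK; rwa [top_inf_eq]
  | step S K' hSK hKs hNn ih =>
    intro K hK
    refine charPX_of_normal (K' ⊓ K) (S ⊓ K) (ih K hK) (inf_le_inf_right K hSK) ?_
    apply le_normalizer_inf
    · exact inf_le_left.trans ((Subgroup.normal_subgroupOf_iff_le_normalizer hSK).mp hNn)
    · exact inf_le_right.trans Subgroup.le_normalizer

/-- `N_H(B)` has characteristic `p` for a `p`-subgroup `B` of a group `H` of characteristic `p`. -/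
theorem charPX_normalizer (H B : Subgroup G) (hH : CharPX p H) (hBH : B ≤ H)
    (hB : IsPGroup p ↥B) : CharPX p (H ⊓ Subgroup.normalizer (B : Set G)) := by
  apply charPX_of_pprime
  intro y hyK hyC hco
  have hUp : IsPGroup p ↥(Cfsg.pCoreOf p H) := pCoreOf_isPGroup H
  have hHU := le_normalizer_pCoreOf (p := p) H
  have hBK : B ≤ Cfsg.pCoreOf p (H ⊓ Subgroup.normalizer (B : Set G)) :=
    le_pCoreOf _ B (le_inf hBH Subgroup.le_normalizer) hB inf_le_right
  have hUK : Cfsg.pCoreOf p H ⊓ Subgroup.normalizer (B : Set G) ≤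
      Cfsg.pCoreOf p (H ⊓ Subgroup.normalizer (B : Set G)) :=
    le_pCoreOf _ _ (inf_le_inf_right _ (pCoreOf_le H)) (hUp.to_le inf_le_left)
      (le_normalizer_inf _ _ _ (inf_le_left.trans hHU) (inf_le_right.trans Subgroup.le_normalizer))
  have hQ : (Nat.card ↥(Subgroup.zpowers y)).Coprime p := by
    rw [Nat.card_zpowers]; exact hco
  have hzC : ∀ z ∈ Subgroup.zpowers y, z ∈ Subgroup.centralizer
      ((Cfsg.pCoreOf p (H ⊓ Subgroup.normalizer (B : Set G)) : Subgroup G) : Set G) :=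
    fun z hz => (Subgroup.zpowers_le.mpr hyC) hz
  have hPQ : B ≤ Subgroup.centralizer ((Subgroup.zpowers y : Subgroup G) : Set G) := by
    intro b hb
    rw [Subgroup.mem_centralizer_iff]
    intro z hz
    exact ((Subgroup.mem_centralizer_iff.mp (hzC z hz)) b (hBK hb)).symm
  have hC : Cfsg.pCoreOf p H ⊓ Subgroup.centralizer (B : Set G) ≤
      Subgroup.centralizer ((Subgroup.zpowers y : Subgroup G) : Set G) := by
    rintro u ⟨huU, huC⟩
    have huK : u ∈ Cfsg.pCoreOf p (H ⊓ Subgroup.normalizer (B : Set G)) :=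
      hUK ⟨huU, Subgroup.centralizer_le_normalizer _ huC⟩
    rw [Subgroup.mem_centralizer_iff]
    intro z hz
    exact ((Subgroup.mem_centralizer_iff.mp (hzC z hz)) u huK).symm
  have h3 := Cfsg.Agent.Lib_helper1_Coprime.thompson_pq_aux p B (Subgroup.zpowers y) hB hQ hPQ _
    (Cfsg.pCoreOf p H) rfl hUp (hBH.trans hHU) (Subgroup.zpowers_le.mpr (hHU hyK.1)) hC
  have hyCH : y ∈ Subgroup.centralizer ((Cfsg.pCoreOf p H : Subgroup G) : Set G) :=
    h3 (Subgroup.mem_zpowers y)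
  exact eq_one_of_mem_pgroup _ hUp y (hH ⟨hyK.1, hyCH⟩) hco

theorem normalizer_le_normalizer_pCoreOf (X : Subgroup G) :
    Subgroup.normalizer (X : Set G) ≤
      Subgroup.normalizer ((Cfsg.pCoreOf p X : Subgroup G) : Set G) := by
  intro g hg
  apply mem_normalizer_of_conj_le
  apply le_pCoreOf X
  · rintro _ ⟨x, hx, rfl⟩
    exact (Subgroup.mem_normalizer_iff.mp hg x).mp (pCoreOf_le X hx)
  · exact (pCoreOf_isPGroup X).map _
  · intro x hx
    apply mem_normalizer_of_conj_le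
    rintro _ ⟨_, ⟨u, hu, rfl⟩, rfl⟩
    have hx' : g⁻¹ * x * g ∈ X := by
      have := (Subgroup.mem_normalizer_iff.mp (Subgroup.inv_mem _ hg) x).mp hx
      simpa using this
    have hu' : (g⁻¹ * x * g) * u * (g⁻¹ * x * g)⁻¹ ∈ Cfsg.pCoreOf p X :=
      (Subgroup.mem_normalizer_iff.mp (le_normalizer_pCoreOf X hx') u).mp hu
    refine ⟨_, hu', ?_⟩
    show g * ((g⁻¹ * x * g) * u * (g⁻¹ * x * g)⁻¹) * g⁻¹ = x * (g * u * g⁻¹) * x⁻¹
    group

/-- A Sylow subgroup `T` of the subnormal subgroup `G₁` has centre inside the centre of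
a Sylow subgroup of `G`. -/
theorem exists_sylow_center (S : Sylow p G) (G₁ : Subgroup G) (hsn : G₁.IsSubnormal)
    (hle : ((S : Subgroup G) ⊓ G₁) ⊓
        Subgroup.centralizer (((S : Subgroup G) ⊓ G₁ : Subgroup G) : Set G) ≤
      (S : Subgroup G) ⊓ Subgroup.centralizer ((S : Subgroup G) : Set G))
    (T : Subgroup G) (hTG : T ≤ G₁) (hT : IsPGroup p ↥T) (hidx : ¬ p ∣ T.relIndex G₁) :
    ∃ S' : Sylow p G,
      T ⊓ Subgroup.centralizer (T : Set G) ≤ Subgroup.centralizer ((S' : Subgroup G) : Set G) := by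
  have h1 := Cfsg.Agent.Lib_helper7_SylSubn.sylow_inf_subnormal S G₁ hsn
  have hSp : IsPGroup p ↥((S : Subgroup G) ⊓ G₁) := S.isPGroup'.to_le inf_le_left
  obtain ⟨n, hnG, hn⟩ := Cfsg.Agent.Lib_helper7_Alperin.exists_conj_of_relIndex T G₁
    ((S : Subgroup G) ⊓ G₁) hT hidx inf_le_right hSp
  have hG₁n : G₁.map (MulAut.conj n).toMonoidHom = G₁ :=
    map_conj_of_mem_normalizer G₁ n (Subgroup.le_normalizer hnG)
  have hidx' : ¬ p ∣ (((S : Subgroup G) ⊓ G₁).map (MulAut.conj n).toMonoidHom).relIndex G₁ := by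
    have := Subgroup.relIndex_map_map_of_injective (f := (MulAut.conj n).toMonoidHom)
      ((S : Subgroup G) ⊓ G₁) G₁ (MulAut.conj n).injective
    rw [hG₁n] at this
    rw [this]
    exact h1
  have hmapT : ((S : Subgroup G) ⊓ G₁).map (MulAut.conj n).toMonoidHom = T :=
    Cfsg.Agent.Lib_helper7_Alperin.eq_of_relIndex _ T G₁
      ((map_conj_le_iff _ _ _).mpr hn) hTG hT hidx'
  refine ⟨n • S, ?_⟩
  rintro z ⟨hzT, hzC⟩
  have hzT' := hzT
  rw [← hmapT] at hzT'
  obtain ⟨z', hz', rfl⟩ := hzT'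
  have hz'C : z' ∈ Subgroup.centralizer (((S : Subgroup G) ⊓ G₁ : Subgroup G) : Set G) := by
    rw [Subgroup.mem_centralizer_iff]
    intro t ht
    have h2 := (Subgroup.mem_centralizer_iff.mp hzC) (n * t * n⁻¹) (hn t ht)
    have h3 : n * t * n⁻¹ * (n * z' * n⁻¹) = n * z' * n⁻¹ * (n * t * n⁻¹) := h2
    have h4 : n * (t * z') * n⁻¹ = n * (z' * t) * n⁻¹ := by
      calc n * (t * z') * n⁻¹ = n * t * n⁻¹ * (n * z' * n⁻¹) := by group
        _ = n * z' * n⁻¹ * (n * t * n⁻¹) := h3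
        _ = n * (z' * t) * n⁻¹ := by group
    exact mul_left_cancel (mul_right_cancel h4)
  have hz'S : z' ∈ Subgroup.centralizer ((S : Subgroup G) : Set G) := (hle ⟨hz', hz'C⟩).2
  rw [Subgroup.mem_centralizer_iff]
  intro x hx
  have hx' : x ∈ ((n • S : Sylow p G) : Subgroup G) := hx
  rw [Sylow.coe_subgroup_smul, Subgroup.mem_smul_pointwise_iff_exists] at hx'
  obtain ⟨s, hs, rfl⟩ := hx'
  have h5 := (Subgroup.mem_centralizer_iff.mp hz'S) s hs
  show n * s * n⁻¹ * (n * z' * n⁻¹) = n * z' * n⁻¹ * (n * s * n⁻¹)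
  calc n * s * n⁻¹ * (n * z' * n⁻¹) = n * (s * z') * n⁻¹ := by group
    _ = n * (z' * s) * n⁻¹ := by rw [h5]
    _ = n * z' * n⁻¹ * (n * s * n⁻¹) := by group

theorem core (hG : Cfsg.IsOfParabolicCharacteristic p G) (S : Sylow p G) (G₁ : Subgroup G)
    (hsn : G₁.IsSubnormal)
    (hle : ((S : Subgroup G) ⊓ G₁) ⊓
        Subgroup.centralizer (((S : Subgroup G) ⊓ G₁ : Subgroup G) : Set G) ≤
      (S : Subgroup G) ⊓ Subgroup.centralizer ((S : Subgroup G) : Set G))
    (R T : Subgroup G) (hRp : IsPGroup p ↥R) (hR1 : R ≠ ⊥) (hRG : R ≤ G₁)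
    (hTp : IsPGroup p ↥T) (hTL : T ≤ G₁ ⊓ Subgroup.normalizer (R : Set G))
    (hidx : ¬ p ∣ T.relIndex G₁) :
    CharPX p (G₁ ⊓ Subgroup.normalizer (R : Set G)) := by
  obtain ⟨L, hLdef⟩ : ∃ L : Subgroup G, L = G₁ ⊓ Subgroup.normalizer (R : Set G) := ⟨_, rfl⟩
  rw [← hLdef] at hTL ⊢
  have hLG : L ≤ G₁ := hLdef ▸ inf_le_left
  have hLR : L ≤ Subgroup.normalizer (R : Set G) := hLdef ▸ inf_le_right
  have hRL : R ≤ L := hLdef ▸ le_inf hRG Subgroup.le_normalizer
  obtain ⟨S', hS'⟩ := exists_sylow_center S G₁ hsn hle T (hTL.trans hLG) hTp hidx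
  obtain ⟨Q, hQdef⟩ : ∃ Q : Subgroup G, Q = Cfsg.pCoreOf p L := ⟨_, rfl⟩
  have hQp : IsPGroup p ↥Q := hQdef ▸ pCoreOf_isPGroup L
  have hQL : Q ≤ L := hQdef ▸ pCoreOf_le L
  have hLQ : L ≤ Subgroup.normalizer (Q : Set G) := hQdef ▸ le_normalizer_pCoreOf L
  have hRQ : R ≤ Q := hQdef ▸ le_pCoreOf L R hRL hRp hLR
  have hQ1 : Q ≠ ⊥ := fun h => hR1 (eq_bot_iff.mpr (h ▸ hRQ))
  have hidxL : ¬ p ∣ T.relIndex L := fun h => hidx (by
    rw [← Subgroup.relIndex_mul_relIndex T L G₁ hTL hLG]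
    exact Dvd.dvd.mul_right h _)
  have hQT : Q ≤ T := by
    rw [hQdef]
    apply Cfsg.Agent.Lib_helper7_AmalgQ.pCoreOf_le_of_relIndex L T
    rwa [inf_eq_left.mpr hTL]
  -- `Z₀ = Q ∩ Z(T)`
  obtain ⟨y, hyQ, hy1, hyc⟩ := exists_fixed_of_pgroup T Q hTp hQp hQ1 (hTL.trans hLQ)
  obtain ⟨Z₀, hZdef⟩ : ∃ Z₀ : Subgroup G, Z₀ = Q ⊓ Subgroup.centralizer (T : Set G) := ⟨_, rfl⟩
  have hZQ : Z₀ ≤ Q := hZdef ▸ inf_le_left
  have hZC : Z₀ ≤ Subgroup.centralizer (T : Set G) := hZdef ▸ inf_le_right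
  have hyZ : y ∈ Z₀ := by
    rw [hZdef]
    exact ⟨hyQ, Subgroup.mem_centralizer_iff.mpr hyc⟩
  have hZ1 : Z₀ ≠ ⊥ := by
    intro h
    rw [h, Subgroup.mem_bot] at hyZ
    exact hy1 hyZ
  have hZp : IsPGroup p ↥Z₀ := hQp.to_le hZQ
  have hZS' : Z₀ ≤ Subgroup.centralizer ((S' : Subgroup G) : Set G) :=
    fun z hz => hS' ⟨hQT (hZQ hz), hZC hz⟩
  have hS'N : (S' : Subgroup G) ≤ Subgroup.normalizer (Z₀ : Set G) := by
    intro s hs
    apply Subgroup.centralizer_le_normalizer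
    rw [Subgroup.mem_centralizer_iff]
    intro z hz
    exact ((Subgroup.mem_centralizer_iff.mp (hZS' hz)) s hs).symm
  have hTN : T ≤ Subgroup.normalizer (Z₀ : Set G) := by
    intro t ht
    apply Subgroup.centralizer_le_normalizer
    rw [Subgroup.mem_centralizer_iff]
    intro z hz
    exact ((Subgroup.mem_centralizer_iff.mp (hZC hz)) t ht).symm
  have hH₀ : CharPX p (Subgroup.normalizer (Z₀ : Set G)) :=
    charPX_of_internal _ (hG Z₀ hZp hZ1 ⟨S', hS'N⟩)
  have hK₀ := charPX_normalizer _ R hH₀ ((hRQ.trans hQT).trans hTN) hRp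
  have hL₀ := charPX_of_subnormal G₁ hsn _ hK₀
  -- `X = C_L(Q)`
  obtain ⟨X, hXdef⟩ : ∃ X : Subgroup G, X = L ⊓ Subgroup.centralizer (Q : Set G) := ⟨_, rfl⟩
  have hXL : X ≤ L := hXdef ▸ inf_le_left
  have hXC : X ≤ Subgroup.centralizer (Q : Set G) := hXdef ▸ inf_le_right
  have hLX : L ≤ Subgroup.normalizer (X : Set G) := by
    rw [hXdef]
    exact le_normalizer_inf _ _ L Subgroup.le_normalizer
      (hLQ.trans (normalizer_le_normalizer_centralizer _))
  have hXZ : X ≤ Subgroup.normalizer (Z₀ : Set G) := by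
    intro x hx
    apply Subgroup.centralizer_le_normalizer
    rw [Subgroup.mem_centralizer_iff]
    intro z hz
    exact (Subgroup.mem_centralizer_iff.mp (hXC hx)) z (hZQ hz)
  have hXL₀ : X ≤ G₁ ⊓ (Subgroup.normalizer (Z₀ : Set G) ⊓ Subgroup.normalizer (R : Set G)) :=
    le_inf (hXL.trans hLG) (le_inf hXZ (hXL.trans hLR))
  have hL₀L : G₁ ⊓ (Subgroup.normalizer (Z₀ : Set G) ⊓ Subgroup.normalizer (R : Set G)) ≤ L := by
    rw [hLdef]
    exact le_inf inf_le_left (inf_le_right.trans inf_le_right)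
  have hX := charPX_of_normal _ X hL₀ hXL₀ (hL₀L.trans hLX)
  have hYQ : Cfsg.pCoreOf p X ≤ Q := by
    rw [hQdef]
    exact le_pCoreOf L _ ((pCoreOf_le X).trans hXL) (pCoreOf_isPGroup X)
      (hLX.trans (normalizer_le_normalizer_pCoreOf X))
  show L ⊓ Subgroup.centralizer ((Cfsg.pCoreOf p L : Subgroup G) : Set G) ≤ Cfsg.pCoreOf p L
  rw [← hQdef, ← hXdef]
  intro x hx
  apply hYQ
  apply hX
  refine ⟨hx, Subgroup.mem_centralizer_iff.mpr ?_⟩
  intro u hu
  exact (Subgroup.mem_centralizer_iff.mp (hXC hx)) u (hYQ hu)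

theorem parabolic_subnormal (hG : Cfsg.IsOfParabolicCharacteristic p G) (S : Sylow p G)
    (G₁ : Subgroup G) (hsn : G₁.IsSubnormal)
    (hle : ((S : Subgroup G) ⊓ G₁) ⊓
        Subgroup.centralizer (((S : Subgroup G) ⊓ G₁ : Subgroup G) : Set G) ≤
      (S : Subgroup G) ⊓ Subgroup.centralizer ((S : Subgroup G) : Set G)) :
    Cfsg.IsOfParabolicCharacteristic p ↥G₁ := by
  intro R' hR'p hR'1 hpar
  obtain ⟨T', hT'⟩ := hpar
  have hmap : (Subgroup.normalizer (R' : Set ↥G₁)).map G₁.subtype =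
      G₁ ⊓ Subgroup.normalizer ((R'.map G₁.subtype : Subgroup G) : Set G) := by
    have h1 : (R'.map G₁.subtype).subgroupOf G₁ = R' :=
      Subgroup.comap_map_eq_self_of_injective G₁.subtype_injective R'
    have h2 := Subgroup.subgroupOf_normalizer_eq (H := R'.map G₁.subtype) (N := G₁)
      (Subgroup.map_subtype_le R')
    rw [h1] at h2
    rw [← h2, Subgroup.subgroupOf_map_subtype, inf_comm]
  have hT'idx : ¬ p ∣ ((T' : Subgroup ↥G₁).map G₁.subtype).relIndex G₁ := by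
    have h1 : ((T' : Subgroup ↥G₁).map G₁.subtype).subgroupOf G₁ = T' :=
      Subgroup.comap_map_eq_self_of_injective G₁.subtype_injective _
    have h2 : ((T' : Subgroup ↥G₁).map G₁.subtype).relIndex G₁ = (T' : Subgroup ↥G₁).index := by
      unfold Subgroup.relIndex
      rw [h1]
    rw [h2]
    exact T'.not_dvd_index
  have hc := core hG S G₁ hsn hle (R'.map G₁.subtype) ((T' : Subgroup ↥G₁).map G₁.subtype)
    (hR'p.map _)
    (fun h => hR'1 ((Subgroup.map_eq_bot_iff_of_injective _ G₁.subtype_injective).mp h))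
    (Subgroup.map_subtype_le R') (T'.isPGroup'.map _)
    (hmap ▸ Subgroup.map_mono hT') hT'idx
  have hi := internal_of_charPX _ hc
  rw [← hmap] at hi
  exact charp_equiv
    (Subgroup.equivMapOfInjective _ G₁.subtype G₁.subtype_injective).symm hi

end Cfsg.Agent.Lib_helper7_ParaChar
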