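import Mathlib
import Cfsg.Prelude.Def_LocalStructure
import Cfsg.Prelude.Def_LocalEven
import Cfsg.Agent.Lib_helper7_ParaChar
import Cfsg.Agent.Lib_helper7_Norm2
import Cfsg.Agent.Lib_helper2_Comp2

set_option autoImplicit false

namespace Cfsg.Agent.Lib_helper7_ParaChar2

open Cfsg.Agent.Lib_helper7_Sylow Cfsg.Agent.Lib_helper7_Large Cfsg.Agent.Lib_helper7_CharP
open Cfsg.Agent.Lib_helper7_WC Cfsg.Agent.Lib_helper7_WellPlaced Cfsg.Agent.Lib_helper7_ParaChar
open scoped Pointwise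

variable {G : Type*} [Group G] [Finite G] {p : ℕ} [Fact p.Prime]

/-- `F*(X) = O_p(X)` gives `C_X(O_p(X)) ≤ O_p(X)`. -/
theorem internal_of_gfit {X : Type*} [Group X] [Finite X] (p : ℕ) [Fact p.Prime]
    (h : Cfsg.generalizedFittingSubgroup X = Cfsg.pCore p X) :
    Subgroup.centralizer (Cfsg.pCore p X : Set X) ≤ Cfsg.pCore p X := by
  have := Cfsg.Agent.Lib_helper2_Comp.centralizer_gfit_le (G := X)
  rwa [h] at this

/-- `C_X(O_p(X)) ≤ O_p(X)` gives `F*(X) = O_p(X)`. -/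
theorem gfit_of_internal {X : Type*} [Group X] [Finite X] (p : ℕ) [Fact p.Prime]
    (h : Subgroup.centralizer (Cfsg.pCore p X : Set X) ≤ Cfsg.pCore p X) :
    Cfsg.generalizedFittingSubgroup X = Cfsg.pCore p X := by
  have hpn : (Cfsg.pCore p X).Normal := Cfsg.Agent.Lib_helper7_PCore.pCore_normal p
  apply Cfsg.Agent.Lib_helper2_Comp2.gfit_eq_pCore_of p
  · rw [← Cfsg.Agent.Lib_helper2_Comp.centralizer_fitting_le_iff]
    intro x hx
    apply Cfsg.Agent.Lib_helper2_Comp2.pCore_le_fitting p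
    apply h
    exact Subgroup.centralizer_le
      (SetLike.coe_subset_coe.mpr (Cfsg.Agent.Lib_helper2_Comp2.pCore_le_fitting p)) hx
  · intro q hq hqp
    haveI : Fact q.Prime := ⟨hq⟩
    have hqn : (Cfsg.pCore q X).Normal := Cfsg.Agent.Lib_helper7_PCore.pCore_normal q
    have hdisj : Disjoint (Cfsg.pCore q X) (Cfsg.pCore p X) :=
      IsPGroup.disjoint_of_ne q p hqp _ _ (Cfsg.Agent.Lib_helper7_PCore.pCore_isPGroup q)
        (Cfsg.Agent.Lib_helper7_PCore.pCore_isPGroup p)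
    rw [eq_bot_iff]
    intro x hx
    have hxc : x ∈ Subgroup.centralizer (Cfsg.pCore p X : Set X) := by
      rw [Subgroup.mem_centralizer_iff]
      intro u hu
      have hmem : x * u * x⁻¹ * u⁻¹ ∈ Cfsg.pCore q X ⊓ Cfsg.pCore p X := by
        refine ⟨?_, ?_⟩
        · have h1 : u * x⁻¹ * u⁻¹ ∈ Cfsg.pCore q X := hqn.conj_mem _ (Subgroup.inv_mem _ hx) u
          have e : x * u * x⁻¹ * u⁻¹ = x * (u * x⁻¹ * u⁻¹) := by group
          rw [e]; exact Subgroup.mul_mem _ hx h1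
        · have h1 : x * u * x⁻¹ ∈ Cfsg.pCore p X := hpn.conj_mem _ hu x
          exact Subgroup.mul_mem _ h1 (Subgroup.inv_mem _ hu)
      have h1 : x * u * x⁻¹ * u⁻¹ = 1 := Subgroup.mem_bot.mp (hdisj.le_bot hmem)
      rw [mul_inv_eq_one, mul_inv_eq_iff_eq_mul] at h1
      exact h1.symm
    exact hdisj.le_bot ⟨hx, h hxc⟩

/-- If `C_Y(O_p(Y))` lies in a subgroup `D ≤ Y` of characteristic `p`, then `Y` has
characteristic `p`. -/
theorem charPX_of_le (Y D : Subgroup G) (hD : CharPX p D) (hDY : D ≤ Y)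
    (hK : Y ⊓ Subgroup.centralizer ((Cfsg.pCoreOf p Y : Subgroup G) : Set G) ≤ D) :
    CharPX p Y := by
  obtain ⟨K, hKdef⟩ : ∃ K : Subgroup G,
    K = Y ⊓ Subgroup.centralizer ((Cfsg.pCoreOf p Y : Subgroup G) : Set G) := ⟨_, rfl⟩
  rw [← hKdef] at hK
  have hKY : K ≤ Y := hKdef ▸ inf_le_left
  have hKC : K ≤ Subgroup.centralizer ((Cfsg.pCoreOf p Y : Subgroup G) : Set G) :=
    hKdef ▸ inf_le_right
  have hYK : Y ≤ Subgroup.normalizer (K : Set G) := by
    rw [hKdef]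
    exact le_normalizer_inf _ _ Y Subgroup.le_normalizer
      ((le_normalizer_pCoreOf Y).trans (normalizer_le_normalizer_centralizer _))
  have hKchar : CharPX p K := charPX_of_normal D K hD hK (hDY.trans hYK)
  have hOK : Cfsg.pCoreOf p K ≤ Cfsg.pCoreOf p Y :=
    le_pCoreOf Y _ ((pCoreOf_le K).trans hKY) (pCoreOf_isPGroup K)
      (hYK.trans (normalizer_le_normalizer_pCoreOf K))
  show Y ⊓ Subgroup.centralizer ((Cfsg.pCoreOf p Y : Subgroup G) : Set G) ≤ Cfsg.pCoreOf p Y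
  rw [← hKdef]
  intro x hx
  apply hOK
  apply hKchar
  refine ⟨hx, Subgroup.mem_centralizer_iff.mpr ?_⟩
  intro u hu
  exact (Subgroup.mem_centralizer_iff.mp (hKC hx)) u (hOK hu)

/-- Characteristic `p` is invariant under conjugation. -/
theorem charPX_conj (L : Subgroup G) (g : G) (h : CharPX p L) :
    CharPX p (L.map (MulAut.conj g).toMonoidHom) := by
  have hO : (Cfsg.pCoreOf p L).map (MulAut.conj g).toMonoidHom ≤
      Cfsg.pCoreOf p (L.map (MulAut.conj g).toMonoidHom) := by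
    apply le_pCoreOf
    · exact Subgroup.map_mono (pCoreOf_le L)
    · exact (pCoreOf_isPGroup L).map _
    · rintro _ ⟨l, hl, rfl⟩
      apply mem_normalizer_of_conj_le
      rintro _ ⟨_, ⟨u, hu, rfl⟩, rfl⟩
      have hu' : l * u * l⁻¹ ∈ Cfsg.pCoreOf p L :=
        (Subgroup.mem_normalizer_iff.mp (le_normalizer_pCoreOf L hl) u).mp hu
      refine ⟨_, hu', ?_⟩
      show g * (l * u * l⁻¹) * g⁻¹ = (g * l * g⁻¹) * (g * u * g⁻¹) * (g * l * g⁻¹)⁻¹
      group
  rintro x ⟨⟨l, hl, rfl⟩, hxC⟩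
  apply hO
  refine ⟨l, h ⟨hl, Subgroup.mem_centralizer_iff.mpr ?_⟩, rfl⟩
  intro u hu
  have h1 := (Subgroup.mem_centralizer_iff.mp hxC) (g * u * g⁻¹) (hO ⟨u, hu, rfl⟩)
  have h2 : g * u * g⁻¹ * (g * l * g⁻¹) = g * l * g⁻¹ * (g * u * g⁻¹) := h1
  have h3 : g * (u * l) * g⁻¹ = g * (l * u) * g⁻¹ := by
    calc g * (u * l) * g⁻¹ = g * u * g⁻¹ * (g * l * g⁻¹) := by group
      _ = g * l * g⁻¹ * (g * u * g⁻¹) := h2
      _ = g * (l * u) * g⁻¹ := by group
  exact mul_left_cancel (mul_right_cancel h3)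

/-- If `C_G(z)` has characteristic `p` for some `z ∈ Z(X)`, `X` a `p`-group, then so has
`N_G(X)`. -/
theorem charPX_normalizer_of_centralizer (X : Subgroup G) (hXp : IsPGroup p ↥X) (z : G)
    (hzX : z ∈ X) (hzc : ∀ x ∈ X, x * z = z * x)
    (h : CharPX p (Subgroup.centralizer ({z} : Set G))) :
    CharPX p (Subgroup.normalizer (X : Set G)) := by
  have hXC : X ≤ Subgroup.centralizer ({z} : Set G) := by
    intro x hx
    rw [Subgroup.mem_centralizer_iff]
    intro y hy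
    rw [Set.mem_singleton_iff] at hy
    rw [hy]; exact (hzc x hx).symm
  have h2 := charPX_normalizer _ X h hXC hXp
  have hXO : X ≤ Cfsg.pCoreOf p (Subgroup.normalizer (X : Set G)) :=
    le_pCoreOf _ X Subgroup.le_normalizer hXp le_rfl
  apply charPX_of_le _ _ h2 inf_le_right
  rintro x ⟨hxN, hxC⟩
  refine ⟨Subgroup.mem_centralizer_iff.mpr ?_, hxN⟩
  intro y hy
  rw [Set.mem_singleton_iff] at hy
  rw [hy]
  exact (Subgroup.mem_centralizer_iff.mp hxC) z (hXO hzX)

theorem charPX_normalizer_conj (R : Subgroup G) (g : G)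
    (h : CharPX p
      (Subgroup.normalizer ((R.map (MulAut.conj g).toMonoidHom : Subgroup G) : Set G))) :
    CharPX p (Subgroup.normalizer (R : Set G)) := by
  have h1 := charPX_conj _ g⁻¹ h
  have h2 : (Subgroup.normalizer ((R.map (MulAut.conj g).toMonoidHom : Subgroup G) : Set G)).map
      (MulAut.conj g⁻¹).toMonoidHom = Subgroup.normalizer (R : Set G) := by
    ext x
    rw [mem_map_conj, Subgroup.mem_normalizer_iff, Subgroup.mem_normalizer_iff]
    constructor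
    · intro hx r
      have := hx (g * r * g⁻¹)
      rw [mem_map_conj, mem_map_conj] at this
      have e1 : g⁻¹ * (g * r * g⁻¹) * g = r := by group
      have e2 : g⁻¹ * (g⁻¹⁻¹ * x * g⁻¹ * (g * r * g⁻¹) * (g⁻¹⁻¹ * x * g⁻¹)⁻¹) * g
          = x * r * x⁻¹ := by group
      rw [e1, e2] at this
      exact this
    · intro hx r
      rw [mem_map_conj, mem_map_conj]
      have := hx (g⁻¹ * r * g)
      have e2 : g⁻¹ * (g⁻¹⁻¹ * x * g⁻¹ * r * (g⁻¹⁻¹ * x * g⁻¹)⁻¹) * g
          = x * (g⁻¹ * r * g) * x⁻¹ := by group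
      rw [e2]
      exact this
  rwa [h2] at h1

theorem exists_pow_order_p (Y : Subgroup G) (hY : IsPGroup p ↥Y) (y : G) (hy : y ∈ Y)
    (hy1 : y ≠ 1) : ∃ n : ℕ, y ^ n ≠ 1 ∧ (y ^ n) ^ p = 1 := by
  have hex : ∃ k : ℕ, y ^ p ^ k = 1 := by
    obtain ⟨k, hk⟩ := hY ⟨y, hy⟩
    exact ⟨k, congrArg Subtype.val hk⟩
  classical
  obtain ⟨k, hk, hmin⟩ : ∃ k, y ^ p ^ k = 1 ∧ ∀ j < k, y ^ p ^ j ≠ 1 :=
    ⟨Nat.find hex, Nat.find_spec hex, fun j hj => Nat.find_min hex hj⟩
  have hk0 : k ≠ 0 := by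
    rintro rfl
    apply hy1
    simpa using hk
  refine ⟨p ^ (k - 1), hmin (k - 1) (by omega), ?_⟩
  rw [← pow_mul, ← pow_succ, show k - 1 + 1 = k by omega]
  exact hk

theorem omegaOne_le (A : Subgroup G) : Cfsg.omegaOne p A ≤ A := by
  unfold Cfsg.omegaOne
  rw [Subgroup.closure_le]
  intro x hx
  exact hx.1

/-- S2922 -/
theorem s2922 {X : Type*} [Group X] [Finite X] {p : ℕ} [Fact p.Prime] (B C : Subgroup X)
    (hB : IsPGroup p ↥B) (hCB : C ≤ B) (hCn : (C.subgroupOf B).Normal)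
    (hC : Cfsg.generalizedFittingSubgroup ↥(Subgroup.normalizer (C : Set X)) =
      Cfsg.pCore p ↥(Subgroup.normalizer (C : Set X))) :
    Cfsg.generalizedFittingSubgroup ↥(Subgroup.normalizer (B : Set X)) =
        Cfsg.pCore p ↥(Subgroup.normalizer (B : Set X)) ∧
      Cfsg.generalizedFittingSubgroup ↥(Subgroup.centralizer (B : Set X)) =
        Cfsg.pCore p ↥(Subgroup.centralizer (B : Set X)) := by
  have hBNC : B ≤ Subgroup.normalizer (C : Set X) :=
    (Subgroup.normal_subgroupOf_iff_le_normalizer hCB).mp hCn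
  have h1 : CharPX p (Subgroup.normalizer (C : Set X)) :=
    charPX_of_internal _ (internal_of_gfit p hC)
  have h2 : CharPX p (Subgroup.normalizer (C : Set X) ⊓ Subgroup.normalizer (B : Set X)) :=
    charPX_normalizer _ B h1 hBNC hB
  have hBO : B ≤ Cfsg.pCoreOf p (Subgroup.normalizer (B : Set X)) :=
    le_pCoreOf _ B Subgroup.le_normalizer hB le_rfl
  have h3 : CharPX p (Subgroup.normalizer (B : Set X)) := by
    apply charPX_of_le _ _ h2 inf_le_right
    rintro x ⟨hxN, hxC⟩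
    refine ⟨Subgroup.centralizer_le_normalizer _ (Subgroup.mem_centralizer_iff.mpr ?_), hxN⟩
    intro c hc
    exact (Subgroup.mem_centralizer_iff.mp hxC) c (hBO (hCB hc))
  have h4 : CharPX p (Subgroup.centralizer (B : Set X)) :=
    charPX_of_normal _ _ h3 (Subgroup.centralizer_le_normalizer _)
      (normalizer_le_normalizer_centralizer B)
  exact ⟨gfit_of_internal p (internal_of_charPX _ h3), gfit_of_internal p (internal_of_charPX _ h4)⟩

/-- S2896 -/
theorem s2896 {G : Type*} [Group G] [Finite G] {p : ℕ} [Fact p.Prime] (hdiv : p ∣ Nat.card G)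
    (S : Sylow p G) (X : Subgroup G) (hX : X ≤ (S : Subgroup G)) :
    (∀ z : G, z ≠ 1 → z ∈ X → (∀ x ∈ X, x * z = z * x) →
      Cfsg.generalizedFittingSubgroup ↥(Subgroup.centralizer ({z} : Set G)) =
        Cfsg.pCore p ↥(Subgroup.centralizer ({z} : Set G)) →
      Cfsg.generalizedFittingSubgroup ↥(Subgroup.normalizer (X : Set G)) =
        Cfsg.pCore p ↥(Subgroup.normalizer (X : Set G))) ∧
    (Cfsg.IsOfParabolicCharacteristic p G ↔ ∀ z : G, z ≠ 1 →
      z ∈ Cfsg.omegaOne p ((S : Subgroup G) ⊓ Subgroup.centralizer ((S : Subgroup G) : Set G)) →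
      Cfsg.generalizedFittingSubgroup ↥(Subgroup.centralizer ({z} : Set G)) =
        Cfsg.pCore p ↥(Subgroup.centralizer ({z} : Set G))) ∧
    ((∀ z : G, z ∈ (S : Subgroup G) → orderOf z = p →
      Cfsg.generalizedFittingSubgroup ↥(Subgroup.centralizer ({z} : Set G)) =
        Cfsg.pCore p ↥(Subgroup.centralizer ({z} : Set G))) →
      Cfsg.IsOfLocalCharacteristic p G) := by
  refine ⟨?_, ⟨?_, ?_⟩, ?_⟩
  · intro z hz1 hzX hzc hgf
    have h1 : CharPX p (Subgroup.centralizer ({z} : Set G)) :=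
      charPX_of_internal _ (internal_of_gfit p hgf)
    have h2 := charPX_normalizer_of_centralizer X (S.isPGroup'.to_le hX) z hzX hzc h1
    exact gfit_of_internal p (internal_of_charPX _ h2)
  · intro hG z hz1 hzΩ
    obtain ⟨hzS, hzC⟩ := omegaOne_le _ hzΩ
    have hRp : IsPGroup p ↥(Subgroup.zpowers z) :=
      S.isPGroup'.to_le (Subgroup.zpowers_le.mpr hzS)
    have hR1 : Subgroup.zpowers z ≠ ⊥ := by
      intro h
      apply hz1
      have : z ∈ (⊥ : Subgroup G) := h ▸ Subgroup.mem_zpowers z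
      exact Subgroup.mem_bot.mp this
    have hcz : Subgroup.centralizer ({z} : Set G) =
        Subgroup.centralizer ((Subgroup.zpowers z : Subgroup G) : Set G) := by
      apply le_antisymm
      · intro c hc
        rw [Subgroup.mem_centralizer_iff]
        rintro _ ⟨k, rfl⟩
        have h1 : z * c = c * z := (Subgroup.mem_centralizer_iff.mp hc) z (Set.mem_singleton z)
        have h2 : Commute z c := h1
        show z ^ k * c = c * z ^ k
        exact (h2.zpow_left k).eq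
      · apply Subgroup.centralizer_le
        intro x hx
        rw [Set.mem_singleton_iff] at hx
        rw [hx]; exact Subgroup.mem_zpowers z
    have hSN : (S : Subgroup G) ≤
        Subgroup.normalizer ((Subgroup.zpowers z : Subgroup G) : Set G) := by
      intro s hs
      apply Subgroup.centralizer_le_normalizer
      rw [← hcz, Subgroup.mem_centralizer_iff]
      intro y hy
      rw [Set.mem_singleton_iff] at hy
      rw [hy]
      exact ((Subgroup.mem_centralizer_iff.mp hzC) s hs).symm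
    have h1 : CharPX p (Subgroup.normalizer ((Subgroup.zpowers z : Subgroup G) : Set G)) :=
      charPX_of_internal _ (hG _ hRp hR1 ⟨S, hSN⟩)
    have h2 : CharPX p (Subgroup.centralizer ((Subgroup.zpowers z : Subgroup G) : Set G)) :=
      charPX_of_normal _ _ h1 (Subgroup.centralizer_le_normalizer _)
        (normalizer_le_normalizer_centralizer _)
    rw [← hcz] at h2
    exact gfit_of_internal p (internal_of_charPX _ h2)
  · intro hyp R hRp hR1 hpar
    obtain ⟨T, hT⟩ := hpar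
    apply internal_of_charPX
    have hTidx : ¬ p ∣ (T : Subgroup G).relIndex (Subgroup.normalizer (R : Set G)) := by
      intro hd
      apply T.not_dvd_index
      rw [← Subgroup.relIndex_mul_index hT]
      exact Dvd.dvd.mul_right hd _
    have hRO : R ≤ Cfsg.pCoreOf p (Subgroup.normalizer (R : Set G)) :=
      le_pCoreOf _ R Subgroup.le_normalizer hRp le_rfl
    have hOT : Cfsg.pCoreOf p (Subgroup.normalizer (R : Set G)) ≤ (T : Subgroup G) := by
      apply Cfsg.Agent.Lib_helper7_AmalgQ.pCoreOf_le_of_relIndex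
      rwa [inf_eq_left.mpr hT]
    have hRT : R ≤ (T : Subgroup G) := hRO.trans hOT
    obtain ⟨y, hyR, hy1, hyc⟩ :=
      exists_fixed_of_pgroup (T : Subgroup G) R T.isPGroup' hRp hR1 hT
    obtain ⟨n, hn1, hnp⟩ := exists_pow_order_p R hRp y hyR hy1
    have hzR : y ^ n ∈ R := Subgroup.pow_mem _ hyR n
    have hzc : ∀ t ∈ (T : Subgroup G), t * y ^ n = y ^ n * t := by
      intro t ht
      have h2 : Commute t y := hyc t ht
      exact (h2.pow_right n).eq
    obtain ⟨g, hg⟩ := MulAction.exists_smul_eq G T S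
    have hconjS : ∀ t ∈ (T : Subgroup G), g * t * g⁻¹ ∈ (S : Subgroup G) := by
      intro t ht
      rw [← hg, Sylow.coe_subgroup_smul]
      have := Subgroup.smul_mem_pointwise_smul _ (MulAut.conj g) (T : Subgroup G) ht
      simpa [MulAut.smul_def, MulAut.conj_apply] using this
    have hSconj : ∀ s ∈ (S : Subgroup G), ∃ t ∈ (T : Subgroup G), s = g * t * g⁻¹ := by
      intro s hs
      have hs' : s ∈ ((g • T : Sylow p G) : Subgroup G) := by rw [hg]; exact hs
      rw [Sylow.coe_subgroup_smul, Subgroup.mem_smul_pointwise_iff_exists] at hs'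
      obtain ⟨t, ht, rfl⟩ := hs'
      exact ⟨t, ht, rfl⟩
    have hz'S : g * y ^ n * g⁻¹ ∈ (S : Subgroup G) := hconjS _ (hRT hzR)
    have hz'C : g * y ^ n * g⁻¹ ∈ Subgroup.centralizer ((S : Subgroup G) : Set G) := by
      rw [Subgroup.mem_centralizer_iff]
      intro s hs
      obtain ⟨t, ht, rfl⟩ := hSconj s hs
      have := hzc t ht
      calc g * t * g⁻¹ * (g * y ^ n * g⁻¹) = g * (t * y ^ n) * g⁻¹ := by group
        _ = g * (y ^ n * t) * g⁻¹ := by rw [this]
        _ = g * y ^ n * g⁻¹ * (g * t * g⁻¹) := by group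
    have hz'p : (g * y ^ n * g⁻¹) ^ p = 1 := by
      rw [conj_pow, hnp]; group
    have hz'1 : g * y ^ n * g⁻¹ ≠ 1 := by
      intro h
      apply hn1
      have e : y ^ n = g⁻¹ * (g * y ^ n * g⁻¹) * g := by group
      rw [e, h]; group
    have hgf := hyp _ hz'1
      (Cfsg.Agent.Lib_helper7_Norm2.mem_omegaOne_center _ _ hz'S hz'C hz'p)
    have h1 : CharPX p (Subgroup.centralizer ({g * y ^ n * g⁻¹} : Set G)) :=
      charPX_of_internal _ (internal_of_gfit p hgf)
    apply charPX_normalizer_conj R g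
    refine charPX_normalizer_of_centralizer _ (hRp.map _) (g * y ^ n * g⁻¹)
      ⟨y ^ n, hzR, rfl⟩ ?_ h1
    rintro _ ⟨r, hr, rfl⟩
    have := hzc r (hRT hr)
    show g * r * g⁻¹ * (g * y ^ n * g⁻¹) = g * y ^ n * g⁻¹ * (g * r * g⁻¹)
    calc g * r * g⁻¹ * (g * y ^ n * g⁻¹) = g * (r * y ^ n) * g⁻¹ := by group
      _ = g * (y ^ n * r) * g⁻¹ := by rw [this]
      _ = g * y ^ n * g⁻¹ * (g * r * g⁻¹) := by group
  · intro hyp
    refine ⟨hdiv, ?_⟩
    intro T hTp hT1
    apply internal_of_charPX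
    obtain ⟨x, -, hx⟩ := exists_conj_le_sylow p S T hTp
    obtain ⟨T', hT'def⟩ : ∃ T' : Subgroup G, T' = T.map (MulAut.conj x).toMonoidHom := ⟨_, rfl⟩
    have hT'S : T' ≤ (S : Subgroup G) := by
      rw [hT'def, map_conj_le_iff]; exact hx
    have hT'p : IsPGroup p ↥T' := S.isPGroup'.to_le hT'S
    have hT'1 : T' ≠ ⊥ := by
      rw [hT'def]
      intro h
      exact hT1 ((Subgroup.map_eq_bot_iff_of_injective _ (MulAut.conj x).injective).mp h)
    obtain ⟨y, hyT, hy1, hyc⟩ :=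
      exists_fixed_of_pgroup T' T' hT'p hT'p hT'1 Subgroup.le_normalizer
    obtain ⟨n, hn1, hnp⟩ := exists_pow_order_p T' hT'p y hyT hy1
    have hord : orderOf (y ^ n) = p := orderOf_eq_prime hnp hn1
    have hgf := hyp (y ^ n) (hT'S (Subgroup.pow_mem _ hyT n)) hord
    have h1 : CharPX p (Subgroup.centralizer ({y ^ n} : Set G)) :=
      charPX_of_internal _ (internal_of_gfit p hgf)
    apply charPX_normalizer_conj T x
    rw [← hT'def]
    refine charPX_normalizer_of_centralizer T' hT'p (y ^ n) (Subgroup.pow_mem _ hyT n) ?_ h1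
    intro t ht
    have h2 : Commute t y := hyc t ht
    exact (h2.pow_right n).eq

/-- `Ω₁`-version of `exists_sylow_center`. -/
theorem exists_sylow_center' (S : Sylow p G) (G₁ : Subgroup G) (hsn : G₁.IsSubnormal)
    (hle : Cfsg.omegaOne p (((S : Subgroup G) ⊓ G₁) ⊓
        Subgroup.centralizer (((S : Subgroup G) ⊓ G₁ : Subgroup G) : Set G)) ≤
      Cfsg.omegaOne p ((S : Subgroup G) ⊓ Subgroup.centralizer ((S : Subgroup G) : Set G)))
    (T : Subgroup G) (hTG : T ≤ G₁) (hT : IsPGroup p ↥T) (hidx : ¬ p ∣ T.relIndex G₁) :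
    ∃ S' : Sylow p G, ∀ z ∈ T ⊓ Subgroup.centralizer (T : Set G), z ^ p = 1 →
      z ∈ Subgroup.centralizer ((S' : Subgroup G) : Set G) := by
  have h1 := Cfsg.Agent.Lib_helper7_SylSubn.sylow_inf_subnormal S G₁ hsn
  have hSp : IsPGroup p ↥((S : Subgroup G) ⊓ G₁) := S.isPGroup'.to_le inf_le_left
  obtain ⟨n, hnG, hn⟩ := Cfsg.Agent.Lib_helper7_Alperin.exists_conj_of_relIndex T G₁
    ((S : Subgroup G) ⊓ G₁) hT hidx inf_le_right hSp
  have hG₁n : G₁.map (MulAut.conj n).toMonoidHom = G₁ :=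
    map_conj_of_mem_normalizer G₁ n (Subgroup.le_normalizer hnG)
  have hidx' : ¬ p ∣ (((S : Subgroup G) ⊓ G₁).map (MulAut.conj n).toMonoidHom).relIndex G₁ := by
    have := Subgroup.relIndex_map_map_of_injective (f := (MulAut.conj n).toMonoidHom)
      ((S : Subgroup G) ⊓ G₁) G₁ (MulAut.conj n).injective
    rw [hG₁n] at this
    rw [this]
    exact h1
  have hmapT : ((S : Subgroup G) ⊓ G₁).map (MulAut.conj n).toMonoidHom = T :=
    Cfsg.Agent.Lib_helper7_Alperin.eq_of_relIndex _ T G₁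
      ((map_conj_le_iff _ _ _).mpr hn) hTG hT hidx'
  refine ⟨n • S, ?_⟩
  rintro z ⟨hzT, hzC⟩ hzp
  have hzT' := hzT
  rw [← hmapT] at hzT'
  obtain ⟨z', hz', rfl⟩ := hzT'
  have hz'C : z' ∈ Subgroup.centralizer (((S : Subgroup G) ⊓ G₁ : Subgroup G) : Set G) := by
    rw [Subgroup.mem_centralizer_iff]
    intro t ht
    have h2 := (Subgroup.mem_centralizer_iff.mp hzC) (n * t * n⁻¹) (hn t ht)
    have h3 : n * t * n⁻¹ * (n * z' * n⁻¹) = n * z' * n⁻¹ * (n * t * n⁻¹) := h2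
    have h4 : n * (t * z') * n⁻¹ = n * (z' * t) * n⁻¹ := by
      calc n * (t * z') * n⁻¹ = n * t * n⁻¹ * (n * z' * n⁻¹) := by group
        _ = n * z' * n⁻¹ * (n * t * n⁻¹) := h3
        _ = n * (z' * t) * n⁻¹ := by group
    exact mul_left_cancel (mul_right_cancel h4)
  have hz'p : z' ^ p = 1 := by
    have h6 : (n * z' * n⁻¹) ^ p = 1 := hzp
    rw [conj_pow] at h6
    have e : z' ^ p = n⁻¹ * (n * z' ^ p * n⁻¹) * n := by group
    rw [e, h6]; group
  have hz'S : z' ∈ Subgroup.centralizer ((S : Subgroup G) : Set G) :=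
    (omegaOne_le _ (hle (Cfsg.Agent.Lib_helper7_Norm2.mem_omegaOne_center _ z' hz' hz'C hz'p))).2
  rw [Subgroup.mem_centralizer_iff]
  intro x hx
  have hx' : x ∈ ((n • S : Sylow p G) : Subgroup G) := hx
  rw [Sylow.coe_subgroup_smul, Subgroup.mem_smul_pointwise_iff_exists] at hx'
  obtain ⟨s, hs, rfl⟩ := hx'
  have h5 := (Subgroup.mem_centralizer_iff.mp hz'S) s hs
  show n * s * n⁻¹ * (n * z' * n⁻¹) = n * z' * n⁻¹ * (n * s * n⁻¹)
  calc n * s * n⁻¹ * (n * z' * n⁻¹) = n * (s * z') * n⁻¹ := by group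
    _ = n * (z' * s) * n⁻¹ := by rw [h5]
    _ = n * z' * n⁻¹ * (n * s * n⁻¹) := by group

theorem core' (hG : Cfsg.IsOfParabolicCharacteristic p G) (S : Sylow p G) (G₁ : Subgroup G)
    (hsn : G₁.IsSubnormal)
    (hle : Cfsg.omegaOne p (((S : Subgroup G) ⊓ G₁) ⊓
        Subgroup.centralizer (((S : Subgroup G) ⊓ G₁ : Subgroup G) : Set G)) ≤
      Cfsg.omegaOne p ((S : Subgroup G) ⊓ Subgroup.centralizer ((S : Subgroup G) : Set G)))
    (R T : Subgroup G) (hRp : IsPGroup p ↥R) (hR1 : R ≠ ⊥) (hRG : R ≤ G₁)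
    (hTp : IsPGroup p ↥T) (hTL : T ≤ G₁ ⊓ Subgroup.normalizer (R : Set G))
    (hidx : ¬ p ∣ T.relIndex G₁) :
    CharPX p (G₁ ⊓ Subgroup.normalizer (R : Set G)) := by
  obtain ⟨L, hLdef⟩ : ∃ L : Subgroup G, L = G₁ ⊓ Subgroup.normalizer (R : Set G) := ⟨_, rfl⟩
  rw [← hLdef] at hTL ⊢
  have hLG : L ≤ G₁ := hLdef ▸ inf_le_left
  have hLR : L ≤ Subgroup.normalizer (R : Set G) := hLdef ▸ inf_le_right
  have hRL : R ≤ L := hLdef ▸ le_inf hRG Subgroup.le_normalizer
  obtain ⟨S', hS'⟩ := exists_sylow_center' S G₁ hsn hle T (hTL.trans hLG) hTp hidx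
  obtain ⟨Q, hQdef⟩ : ∃ Q : Subgroup G, Q = Cfsg.pCoreOf p L := ⟨_, rfl⟩
  have hQp : IsPGroup p ↥Q := hQdef ▸ pCoreOf_isPGroup L
  have hQL : Q ≤ L := hQdef ▸ pCoreOf_le L
  have hLQ : L ≤ Subgroup.normalizer (Q : Set G) := hQdef ▸ le_normalizer_pCoreOf L
  have hRQ : R ≤ Q := hQdef ▸ le_pCoreOf L R hRL hRp hLR
  have hQ1 : Q ≠ ⊥ := fun h => hR1 (eq_bot_iff.mpr (h ▸ hRQ))
  have hidxL : ¬ p ∣ T.relIndex L := fun h => hidx (by
    rw [← Subgroup.relIndex_mul_relIndex T L G₁ hTL hLG]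
    exact Dvd.dvd.mul_right h _)
  have hQT : Q ≤ T := by
    rw [hQdef]
    apply Cfsg.Agent.Lib_helper7_AmalgQ.pCoreOf_le_of_relIndex L T
    rwa [inf_eq_left.mpr hTL]
  obtain ⟨y, hyQ, hy1, hyc⟩ := exists_fixed_of_pgroup T Q hTp hQp hQ1 (hTL.trans hLQ)
  obtain ⟨n, hn1, hnp⟩ := exists_pow_order_p Q hQp y hyQ hy1
  obtain ⟨Z₀, hZdef⟩ : ∃ Z₀ : Subgroup G, Z₀ = Subgroup.closure
    {x : G | x ∈ Q ⊓ Subgroup.centralizer (T : Set G) ∧ x ^ p = 1} := ⟨_, rfl⟩
  have hZle : Z₀ ≤ Q ⊓ Subgroup.centralizer (T : Set G) := by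
    rw [hZdef, Subgroup.closure_le]
    intro x hx
    exact hx.1
  have hZQ : Z₀ ≤ Q := hZle.trans inf_le_left
  have hZC : Z₀ ≤ Subgroup.centralizer (T : Set G) := hZle.trans inf_le_right
  have hyZ : y ^ n ∈ Z₀ := by
    rw [hZdef]
    apply Subgroup.subset_closure
    refine ⟨⟨Subgroup.pow_mem _ hyQ n, Subgroup.mem_centralizer_iff.mpr ?_⟩, hnp⟩
    intro t ht
    have h2 : Commute t y := hyc t ht
    exact (h2.pow_right n).eq
  have hZ1 : Z₀ ≠ ⊥ := by
    intro h
    rw [h, Subgroup.mem_bot] at hyZ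
    exact hn1 hyZ
  have hZp : IsPGroup p ↥Z₀ := hQp.to_le hZQ
  have hZS' : Z₀ ≤ Subgroup.centralizer ((S' : Subgroup G) : Set G) := by
    rw [hZdef, Subgroup.closure_le]
    rintro x ⟨⟨hxQ, hxC⟩, hxp⟩
    exact hS' x ⟨hQT hxQ, hxC⟩ hxp
  have hS'N : (S' : Subgroup G) ≤ Subgroup.normalizer (Z₀ : Set G) := by
    intro s hs
    apply Subgroup.centralizer_le_normalizer
    rw [Subgroup.mem_centralizer_iff]
    intro z hz
    exact ((Subgroup.mem_centralizer_iff.mp (hZS' hz)) s hs).symm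
  have hTN : T ≤ Subgroup.normalizer (Z₀ : Set G) := by
    intro t ht
    apply Subgroup.centralizer_le_normalizer
    rw [Subgroup.mem_centralizer_iff]
    intro z hz
    exact ((Subgroup.mem_centralizer_iff.mp (hZC hz)) t ht).symm
  have hH₀ : CharPX p (Subgroup.normalizer (Z₀ : Set G)) :=
    charPX_of_internal _ (hG Z₀ hZp hZ1 ⟨S', hS'N⟩)
  have hK₀ := charPX_normalizer _ R hH₀ ((hRQ.trans hQT).trans hTN) hRp
  have hL₀ := charPX_of_subnormal G₁ hsn _ hK₀
  -- `X = C_L(Q)`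
  obtain ⟨X, hXdef⟩ : ∃ X : Subgroup G, X = L ⊓ Subgroup.centralizer (Q : Set G) := ⟨_, rfl⟩
  have hXL : X ≤ L := hXdef ▸ inf_le_left
  have hXC : X ≤ Subgroup.centralizer (Q : Set G) := hXdef ▸ inf_le_right
  have hLX : L ≤ Subgroup.normalizer (X : Set G) := by
    rw [hXdef]
    exact le_normalizer_inf _ _ L Subgroup.le_normalizer
      (hLQ.trans (normalizer_le_normalizer_centralizer _))
  have hXZ : X ≤ Subgroup.normalizer (Z₀ : Set G) := by
    intro x hx
    apply Subgroup.centralizer_le_normalizer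
    rw [Subgroup.mem_centralizer_iff]
    intro z hz
    exact (Subgroup.mem_centralizer_iff.mp (hXC hx)) z (hZQ hz)
  have hXL₀ : X ≤ G₁ ⊓ (Subgroup.normalizer (Z₀ : Set G) ⊓ Subgroup.normalizer (R : Set G)) :=
    le_inf (hXL.trans hLG) (le_inf hXZ (hXL.trans hLR))
  have hL₀L : G₁ ⊓ (Subgroup.normalizer (Z₀ : Set G) ⊓ Subgroup.normalizer (R : Set G)) ≤ L := by
    rw [hLdef]
    exact le_inf inf_le_left (inf_le_right.trans inf_le_right)
  have hX := charPX_of_normal _ X hL₀ hXL₀ (hL₀L.trans hLX)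
  have hYQ : Cfsg.pCoreOf p X ≤ Q := by
    rw [hQdef]
    exact le_pCoreOf L _ ((pCoreOf_le X).trans hXL) (pCoreOf_isPGroup X)
      (hLX.trans (normalizer_le_normalizer_pCoreOf X))
  show L ⊓ Subgroup.centralizer ((Cfsg.pCoreOf p L : Subgroup G) : Set G) ≤ Cfsg.pCoreOf p L
  rw [← hQdef, ← hXdef]
  intro x hx
  apply hYQ
  apply hX
  refine ⟨hx, Subgroup.mem_centralizer_iff.mpr ?_⟩
  intro u hu
  exact (Subgroup.mem_centralizer_iff.mp (hXC hx)) u (hYQ hu)

/-- S2897 -/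
theorem s2897 (hG : Cfsg.IsOfParabolicCharacteristic p G) (S : Sylow p G)
    (G₁ : Subgroup G) [G₁.Normal]
    (hle : Cfsg.omegaOne p (((S : Subgroup G) ⊓ G₁) ⊓
        Subgroup.centralizer (((S : Subgroup G) ⊓ G₁ : Subgroup G) : Set G)) ≤
      Cfsg.omegaOne p ((S : Subgroup G) ⊓ Subgroup.centralizer ((S : Subgroup G) : Set G))) :
    Cfsg.IsOfParabolicCharacteristic p ↥G₁ := by
  have hsn : G₁.IsSubnormal := Subgroup.Normal.isSubnormal inferInstance
  intro R' hR'p hR'1 hpar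
  obtain ⟨T', hT'⟩ := hpar
  have hmap : (Subgroup.normalizer (R' : Set ↥G₁)).map G₁.subtype =
      G₁ ⊓ Subgroup.normalizer ((R'.map G₁.subtype : Subgroup G) : Set G) := by
    have h1 : (R'.map G₁.subtype).subgroupOf G₁ = R' :=
      Subgroup.comap_map_eq_self_of_injective G₁.subtype_injective R'
    have h2 := Subgroup.subgroupOf_normalizer_eq (H := R'.map G₁.subtype) (N := G₁)
      (Subgroup.map_subtype_le R')
    rw [h1] at h2
    rw [← h2, Subgroup.subgroupOf_map_subtype, inf_comm]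
  have hT'idx : ¬ p ∣ ((T' : Subgroup ↥G₁).map G₁.subtype).relIndex G₁ := by
    have h1 : ((T' : Subgroup ↥G₁).map G₁.subtype).subgroupOf G₁ = T' :=
      Subgroup.comap_map_eq_self_of_injective G₁.subtype_injective _
    have h2 : ((T' : Subgroup ↥G₁).map G₁.subtype).relIndex G₁ = (T' : Subgroup ↥G₁).index := by
      unfold Subgroup.relIndex
      rw [h1]
    rw [h2]
    exact T'.not_dvd_index
  have hc := core' hG S G₁ hsn hle (R'.map G₁.subtype) ((T' : Subgroup ↥G₁).map G₁.subtype)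
    (hR'p.map _)
    (fun h => hR'1 ((Subgroup.map_eq_bot_iff_of_injective _ G₁.subtype_injective).mp h))
    (Subgroup.map_subtype_le R') (T'.isPGroup'.map _)
    (hmap ▸ Subgroup.map_mono hT') hT'idx
  have hi := internal_of_charPX _ hc
  rw [← hmap] at hi
  exact charp_equiv
    (Subgroup.equivMapOfInjective _ G₁.subtype G₁.subtype_injective).symm hi

end Cfsg.Agent.Lib_helper7_ParaChar2
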