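import Mathlib
import Cfsg.Prelude.Def_LocalStructure
import Cfsg.Agent.Lib_helper2_Comp
import Cfsg.Agent.Lib_helper7_Sylow
import Cfsg.Agent.Lib_helper7_PCore

set_option autoImplicit false

namespace Cfsg.Agent.Lib_helper7_QsRes

open Cfsg Cfsg.Agent.Lib_helper2_Comp Cfsg.Agent.Lib_helper7_Sylow

variable {H : Type*} [Group H] [Finite H] {p : ℕ} [Fact p.Prime]

/-- A normal nilpotent subgroup has order prime to `p` when `O_p(H) = 1`. -/
theorem not_dvd_card_of_nilpotent (hO : Cfsg.pCore p H = ⊥) (N : Subgroup H) [hN : N.Normal]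
    (hnil : Group.IsNilpotent ↥N) : ¬ p ∣ Nat.card ↥N := by
  intro hdvd
  obtain ⟨P⟩ : Nonempty (Sylow p ↥N) := inferInstance
  haveI := hnil
  have hPn : (P : Subgroup ↥N).Normal := inferInstance
  haveI hPc : (P : Subgroup ↥N).Characteristic := Sylow.characteristic_of_normal P hPn
  have hmapn : ((P : Subgroup ↥N).map N.subtype).Normal :=
    ConjAct.normal_of_characteristic_of_normal
  have hle : (P : Subgroup ↥N).map N.subtype ≤ Cfsg.pCore p H :=
    Cfsg.Agent.Lib_helper7_PCore.le_pCore hmapn (P.isPGroup'.map _)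
  rw [hO] at hle
  have hPbot : (P : Subgroup ↥N) = ⊥ := by
    rw [eq_bot_iff]
    intro x hx
    have : (x : H) ∈ (⊥ : Subgroup H) := hle ⟨x, hx, rfl⟩
    rw [Subgroup.mem_bot] at this ⊢
    exact Subtype.ext this
  exact P.ne_bot_of_dvd_card hdvd hPbot

/-- A `p`-subgroup of a subgroup of order prime to `p` is trivial. -/
theorem eq_bot_of_pgroup_le {X : Type*} [Group X] [Finite X] {p : ℕ} [Fact p.Prime]
    (Y D : Subgroup X) (hY : IsPGroup p ↥Y) (hYD : Y ≤ D) (hD : ¬ p ∣ Nat.card ↥D) : Y = ⊥ := by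
  rw [eq_bot_iff]
  intro y hy
  rw [Subgroup.mem_bot]
  obtain ⟨k, hk⟩ := hY ⟨y, hy⟩
  have hk' : y ^ p ^ k = 1 := congrArg Subtype.val hk
  have hd1 : orderOf y ∣ p ^ k := orderOf_dvd_of_pow_eq_one hk'
  have hd2 : orderOf y ∣ Nat.card ↥D := Subgroup.orderOf_dvd_natCard _ (hYD hy)
  have hcop : Nat.Coprime (Nat.card ↥D) (p ^ k) :=
    Nat.Coprime.pow_right k ((Nat.Prime.coprime_iff_not_dvd Fact.out).mpr hD).symm
  have h1 : orderOf y = 1 :=
    Nat.Coprime.eq_one_of_dvd (Nat.Coprime.coprime_dvd_left hd2 hcop) hd1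
  exact orderOf_eq_one_iff.mp h1

theorem le_normalizer_commutator_left {X : Type*} [Group X] [Finite X] (A B : Subgroup X) :
    A ≤ Subgroup.normalizer ((⁅A, B⁆ : Subgroup X) : Set X) := by
  intro a ha
  have key : ⁅A, B⁆ ≤ (⁅A, B⁆).comap (MulAut.conj a).toMonoidHom := by
    rw [Subgroup.commutator_le]
    intro h hh y hy
    rw [Subgroup.mem_comap]
    show a * (h * y * h⁻¹ * y⁻¹) * a⁻¹ ∈ ⁅A, B⁆
    have e : a * (h * y * h⁻¹ * y⁻¹) * a⁻¹
        = ((a * h) * y * (a * h)⁻¹ * y⁻¹) * (a * y * a⁻¹ * y⁻¹)⁻¹ := by group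
    rw [e]
    exact Subgroup.mul_mem _
      (Subgroup.commutator_mem_commutator (Subgroup.mul_mem _ ha hh) hy)
      (Subgroup.inv_mem _ (Subgroup.commutator_mem_commutator ha hy))
  apply mem_normalizer_of_conj_le
  rw [Subgroup.map_le_iff_le_comap]
  exact key

/-- A normal subgroup not containing the quasisimple normal subgroup `K` centralizes it. -/
theorem centralizes_of_not_le {X : Type*} [Group X] (K : Subgroup X) [K.Normal]
    (hq : IsQuasisimple ↥K) (C : Subgroup X) [C.Normal]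
    (hC : ¬ K ≤ C) : C ≤ Subgroup.centralizer (K : Set X) := by
  have hnorm : K ≤ Subgroup.normalizer ((C ⊓ K : Subgroup X) : Set X) := by
    intro k _
    rw [Subgroup.mem_normalizer_iff]
    intro x
    constructor
    · intro hx
      exact (inferInstance : (C ⊓ K).Normal).conj_mem x hx k
    · intro hx
      have := (inferInstance : (C ⊓ K).Normal).conj_mem _ hx k⁻¹
      simpa [mul_assoc] using this
  rcases qs_sub_normal hq (C ⊓ K) inf_le_right hnorm with h | h
  · exfalso
    apply hC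
    rw [← h]
    exact inf_le_left
  · have hcent : C ⊓ K ≤ Subgroup.centralizer (K : Set X) := by
      intro n hn
      rw [Subgroup.mem_centralizer_iff]
      intro l hl
      exact (h n hn l hl).symm
    have hCK : ⁅C, K⁆ ≤ C ⊓ K := Subgroup.commutator_le_inf C K
    have h1 : ⁅⁅K, C⁆, K⁆ = ⊥ := by
      rw [Subgroup.commutator_eq_bot_iff_le_centralizer, Subgroup.commutator_comm K C]
      exact hCK.trans hcent
    have h2 : ⁅⁅C, K⁆, K⁆ = ⊥ := by
      rw [Subgroup.commutator_eq_bot_iff_le_centralizer]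
      exact hCK.trans hcent
    have h3 := Subgroup.commutator_commutator_eq_bot_of_rotate h1 h2
    rw [qs_comm_self hq, Subgroup.commutator_comm K C,
      Subgroup.commutator_eq_bot_iff_le_centralizer] at h3
    exact h3

/-- S2815 -/
theorem s2815 {H : Type*} [Group H] [Finite H] {p : ℕ} [Fact p.Prime] (hp : p ∣ Nat.card H)
    (hO : Cfsg.pCore p H = ⊥) (hq : Cfsg.IsQuasisimple ↥(Cfsg.pResidual p H)) :
    Cfsg.pResidual p H = Cfsg.generalizedFittingSubgroup H ∧
    (∀ Y : Subgroup H, IsPGroup p ↥Y → Y ≠ ⊥ →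
      ⁅Cfsg.pResidual p H, Y⁆ = Cfsg.pResidual p H ∧
      Cfsg.pResidual p H ≤ ⨆ k : ↥(Cfsg.pResidual p H), Y.map (MulAut.conj (k : H)).toMonoidHom) ∧
    (∀ C : Subgroup H, C.Normal → ¬ Cfsg.pResidual p H ≤ C → (Nat.card ↥C).Coprime p) ∧
    Cfsg.IsPIrreducible p H := by
  obtain ⟨K, hKdef⟩ : ∃ K : Subgroup H, K = Cfsg.pResidual p H := ⟨_, rfl⟩
  rw [← hKdef] at hq ⊢
  haveI hKn : K.Normal := by rw [hKdef]; infer_instance
  haveI hCn : (Subgroup.centralizer (K : Set H)).Normal := inferInstance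
  have hCnil : Group.IsNilpotent ↥(Subgroup.centralizer (K : Set H)) := by
    have hpg : IsPGroup p (H ⧸ K) := by
      subst hKdef
      exact isPGroup_quotient_pResidual (K := H) p
    haveI : Group.IsNilpotent (H ⧸ K) := hpg.isNilpotent
    apply Subgroup.isNilpotent_of_ker_le_center
      ((QuotientGroup.mk' K).comp (Subgroup.centralizer (K : Set H)).subtype)
    intro c hc
    rw [MonoidHom.mem_ker] at hc
    have hcK : (c : H) ∈ K := by
      have h1 : (QuotientGroup.mk' K) (c : H) = 1 := hc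
      rwa [QuotientGroup.mk'_apply, QuotientGroup.eq_one_iff] at h1
    rw [Subgroup.mem_center_iff]
    intro g
    apply Subtype.ext
    have := (Subgroup.mem_centralizer_iff.mp g.2) (c : H) hcK
    exact this.symm
  have hCcop : ¬ p ∣ Nat.card ↥(Subgroup.centralizer (K : Set H)) :=
    not_dvd_card_of_nilpotent hO _ hCnil
  have hpK : ∀ N : Subgroup H, ¬ p ∣ Nat.card ↥N → N ≤ K := by
    intro N hN x hx
    rw [hKdef]
    apply Subgroup.subset_closure
    show Nat.Coprime (orderOf x) p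
    have h1 : orderOf x ∣ Nat.card ↥N := Subgroup.orderOf_dvd_natCard N hx
    exact Nat.Coprime.coprime_dvd_left h1 ((Nat.Prime.coprime_iff_not_dvd Fact.out).mpr hN).symm
  have hCK : Subgroup.centralizer (K : Set H) ≤ K := hpK _ hCcop
  have hFK : Cfsg.fittingSubgroup H ≤ K := by
    apply sSup_le
    rintro N ⟨hNn, hNnil⟩
    haveI := hNn
    exact hpK N (not_dvd_card_of_nilpotent hO N hNnil)
  have hcomp : Cfsg.IsComponent K := ⟨Subgroup.Normal.isSubnormal hKn, hq⟩
  have h3 : ∀ C : Subgroup H, C.Normal → ¬ K ≤ C → (Nat.card ↥C).Coprime p := by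
    intro C hCn' hC
    haveI := hCn'
    have h := centralizes_of_not_le K hq C hC
    exact Nat.Coprime.coprime_dvd_left (Subgroup.card_dvd_of_le h)
      ((Nat.Prime.coprime_iff_not_dvd Fact.out).mpr hCcop).symm
  refine ⟨?_, ?_, h3, ?_⟩
  · apply le_antisymm
    · exact (comp_le_layer hcomp).trans le_sup_left
    · exact gfit_le_of_centralizer_le K hFK hCK
  · intro Y hY hY1
    have hKY : ⁅K, Y⁆ ≤ K := Subgroup.commutator_le_left K Y
    have hnorm : K ≤ Subgroup.normalizer ((⁅K, Y⁆ : Subgroup H) : Set H) :=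
      le_normalizer_commutator_left K Y
    have hcomm : ⁅K, Y⁆ = K := by
      rcases qs_sub_normal hq ⁅K, Y⁆ hKY hnorm with h | h
      · exact h
      · exfalso
        have hcent : ⁅K, Y⁆ ≤ Subgroup.centralizer (K : Set H) := by
          intro n hn
          rw [Subgroup.mem_centralizer_iff]
          intro l hl
          exact (h n hn l hl).symm
        have h1 : ⁅⁅K, Y⁆, K⁆ = ⊥ := by
          rw [Subgroup.commutator_eq_bot_iff_le_centralizer]; exact hcent
        have h2 : ⁅⁅Y, K⁆, K⁆ = ⊥ := by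
          rw [Subgroup.commutator_eq_bot_iff_le_centralizer, Subgroup.commutator_comm Y K]
          exact hcent
        have h4 := Subgroup.commutator_commutator_eq_bot_of_rotate h1 h2
        rw [qs_comm_self hq, Subgroup.commutator_comm K Y,
          Subgroup.commutator_eq_bot_iff_le_centralizer] at h4
        exact hY1 (eq_bot_of_pgroup_le Y _ hY h4 hCcop)
    refine ⟨hcomm, ?_⟩
    calc K = ⁅K, Y⁆ := hcomm.symm
      _ ≤ ⨆ k : ↥K, Y.map (MulAut.conj (k : H)).toMonoidHom := by
        rw [Subgroup.commutator_le]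
        intro k hk y hy
        show k * y * k⁻¹ * y⁻¹ ∈ _
        have hle₁ : k * y * k⁻¹ ∈ ⨆ k : ↥K, Y.map (MulAut.conj (k : H)).toMonoidHom :=
          (le_iSup (fun k : ↥K => Y.map (MulAut.conj (k : H)).toMonoidHom) ⟨k, hk⟩) ⟨y, hy, rfl⟩
        have hle₂ : y ∈ ⨆ k : ↥K, Y.map (MulAut.conj (k : H)).toMonoidHom :=
          (le_iSup (fun k : ↥K => Y.map (MulAut.conj (k : H)).toMonoidHom) ⟨1, K.one_mem⟩)
            ⟨y, hy, by show (1 : H) * y * (1 : H)⁻¹ = y; group⟩
        exact Subgroup.mul_mem _ hle₁ (Subgroup.inv_mem _ hle₂)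
  · refine ⟨?_, ?_⟩
    · intro hcl
      obtain ⟨P⟩ : Nonempty (Sylow p H) := inferInstance
      have hPn := hcl P
      have hle : (P : Subgroup H) ≤ Cfsg.pCore p H :=
        Cfsg.Agent.Lib_helper7_PCore.le_pCore hPn P.isPGroup'
      rw [hO] at hle
      exact P.ne_bot_of_dvd_card hp (eq_bot_iff.mpr hle)
    · intro N hNn hNcl
      by_contra hKN
      rw [← hKdef] at hKN
      apply hNcl
      have hcop := h3 N hNn hKN
      intro P
      have hPbot : (P : Subgroup ↥N) = ⊥ := by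
        apply eq_bot_of_pgroup_le (P : Subgroup ↥N) ⊤ P.isPGroup' le_top
        rw [Subgroup.card_top]
        exact (Nat.Prime.coprime_iff_not_dvd Fact.out).mp hcop.symm
      rw [hPbot]
      infer_instance

end Cfsg.Agent.Lib_helper7_QsRes
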