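import Mathlib
import Cfsg.Prelude.Def_Solvable
import Cfsg.Prelude.Def_Transfer
import Cfsg.Prelude.Def_SubgroupEmbedding
import Cfsg.Agent.Lib_helper2_BS
import Cfsg.Agent.Lib_helper7_PCore
import Cfsg.Agent.Lib_helper7_Sylow

set_option autoImplicit false

namespace Cfsg.Agent.Lib_helper7_Sidki

variable {G : Type*} [Group G] [Finite G]

theorem eq_one_of_odd_sq {x : G} (ho : Odd (orderOf x)) (h2 : x * x = 1) : x = 1 := by
  have h1 : orderOf x ∣ 2 := orderOf_dvd_of_pow_eq_one (by rw [pow_two]; exact h2)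
  have h3 : orderOf x = 1 := by
    rcases (Nat.dvd_prime Nat.prime_two).mp h1 with h | h
    · exact h
    · rw [h] at ho; exact absurd ho (by decide)
  exact orderOf_eq_one_iff.mp h3

/-- An element inverted by an element of odd order has square `1`. -/
theorem sq_eq_one_of_odd_inverts {h k : G} (ho : Odd (orderOf h)) (hk : h * k * h⁻¹ = k⁻¹) :
    k * k = 1 := by
  have h2 : Commute (h * h) k := by
    have e1 : h * k = k⁻¹ * h := by
      calc h * k = h * k * h⁻¹ * h := by group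
        _ = k⁻¹ * h := by rw [hk]
    have e2 : h * k⁻¹ = k * h := by
      have : h * k⁻¹ * h⁻¹ = k := by
        calc h * k⁻¹ * h⁻¹ = (h * k * h⁻¹)⁻¹ := by group
          _ = k := by rw [hk, inv_inv]
      calc h * k⁻¹ = h * k⁻¹ * h⁻¹ * h := by group
        _ = k * h := by rw [this]
    show h * h * k = k * (h * h)
    calc h * h * k = h * (h * k) := by group
      _ = h * (k⁻¹ * h) := by rw [e1]
      _ = (h * k⁻¹) * h := by group
      _ = k * h * h := by rw [e2]
      _ = k * (h * h) := by group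
  obtain ⟨j, hj⟩ := ho
  have h3 : h = (h * h) ^ (j + 1) := by
    rw [← pow_two, ← pow_mul]
    have : 2 * (j + 1) = orderOf h + 1 := by omega
    rw [this, pow_succ, pow_orderOf_eq_one, one_mul]
  have h4 : Commute h k := by
    rw [h3]; exact h2.pow_left _
  have h5 : h * k * h⁻¹ = k := by
    rw [h4.eq]; group
  rw [h5] at hk
  calc k * k = k * k⁻¹ := by rw [← hk]
    _ = 1 := mul_inv_cancel k

/-- Baer–Suzuki for an involution outside `O₂(G)`. -/
theorem exists_inverted (v : G) (hv2 : v * v = 1) (hv : v ∉ Cfsg.pCore 2 G) :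
    ∃ h : G, Odd (orderOf h) ∧ h ≠ 1 ∧ v * h * v⁻¹ = h⁻¹ := by
  by_contra hcon
  push_neg at hcon
  apply hv
  haveI : Fact (Nat.Prime 2) := ⟨Nat.prime_two⟩
  have hvinv : v⁻¹ = v := inv_eq_of_mul_eq_one_left hv2
  have hX : IsPGroup 2 ↥(Subgroup.zpowers v) := by
    rintro ⟨z, hz⟩
    refine ⟨1, ?_⟩
    apply Subtype.ext
    obtain ⟨i, rfl⟩ := Subgroup.mem_zpowers_iff.mp hz
    show (v ^ i) ^ 2 ^ 1 = 1
    rw [pow_one, ← zpow_natCast, ← zpow_mul, mul_comm, zpow_mul, zpow_natCast, pow_two, hv2,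
      one_zpow]
  suffices hbs : ∀ g : G, IsPGroup 2
      ↥(Subgroup.zpowers v ⊔ (Subgroup.zpowers v).map (MulAut.conj g).toMonoidHom) by
    obtain ⟨N, hNn, hNp, hXN⟩ :=
      Cfsg.Agent.Lib_helper2_BS.baer_suzuki (Subgroup.zpowers v) hX hbs
    exact Cfsg.Agent.Lib_helper7_PCore.le_pCore hNn hNp (hXN (Subgroup.mem_zpowers v))
  · intro g
    obtain ⟨u, hu⟩ : ∃ u, u = g * v * g⁻¹ := ⟨_, rfl⟩
    have hmap : (Subgroup.zpowers v).map (MulAut.conj g).toMonoidHom = Subgroup.zpowers u := by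
      rw [MonoidHom.map_zpowers, hu]; rfl
    rw [hmap]
    have hu2 : u * u = 1 := by
      rw [hu]
      calc g * v * g⁻¹ * (g * v * g⁻¹) = g * (v * v) * g⁻¹ := by group
        _ = 1 := by rw [hv2]; group
    have huinv : u⁻¹ = u := inv_eq_of_mul_eq_one_left hu2
    obtain ⟨x, hx⟩ : ∃ x, x = v * u := ⟨_, rfl⟩
    have hxinv : v * x * v⁻¹ = x⁻¹ := by
      rw [hx, mul_inv_rev, huinv, hvinv]
      calc v * (v * u) * v = (v * v) * u * v := by group
        _ = u * v := by rw [hv2, one_mul]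
    have hpow : ∀ n : ℕ, v * x ^ n * v⁻¹ = (x ^ n)⁻¹ := by
      intro n
      rw [← inv_pow, ← hxinv]
      exact (conj_pow).symm
    obtain ⟨j, m, hm, hjm⟩ := Nat.exists_eq_two_pow_mul_odd (orderOf_pos x).ne'
    have hord : orderOf (x ^ 2 ^ j) = m := by
      rw [orderOf_pow_of_dvd (pow_ne_zero _ two_ne_zero) (Dvd.intro _ hjm.symm), hjm,
        Nat.mul_div_cancel_left _ (pow_pos two_pos j)]
    have h1 : x ^ 2 ^ j = 1 := by
      by_contra hne
      exact hcon (x ^ 2 ^ j) (by rw [hord]; exact hm) hne (hpow _)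
    have hxp : IsPGroup 2 ↥(Subgroup.zpowers x) := by
      rintro ⟨z, hz⟩
      refine ⟨j, ?_⟩
      apply Subtype.ext
      obtain ⟨i, rfl⟩ := Subgroup.mem_zpowers_iff.mp hz
      show (x ^ i) ^ 2 ^ j = 1
      rw [← zpow_natCast, ← zpow_mul, mul_comm, zpow_mul, zpow_natCast, h1, one_zpow]
    have hnorm : Subgroup.zpowers v ≤
        Subgroup.normalizer ((Subgroup.zpowers x : Subgroup G) : Set G) := by
      rw [Subgroup.zpowers_le]
      apply Cfsg.Agent.Lib_helper7_Sylow.mem_normalizer_of_conj_le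
      rw [MonoidHom.map_zpowers]
      have : (MulAut.conj v).toMonoidHom x = x⁻¹ := hxinv
      rw [this, Subgroup.zpowers_inv]
    have hsup := IsPGroup.to_sup_of_normal_right' hX hxp hnorm
    refine hsup.to_le (sup_le le_sup_left ?_)
    rw [Subgroup.zpowers_le]
    have : u = v * x := by rw [hx, ← mul_assoc, hv2, one_mul]
    rw [this]
    exact Subgroup.mul_mem _ (Subgroup.mem_sup_left (Subgroup.mem_zpowers v))
      (Subgroup.mem_sup_right (Subgroup.mem_zpowers x))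

theorem sidki_sub (V : Subgroup G) (hS : Cfsg.IsSidkiPair V) (a₁ a₂ b h k : G)
    (ha₂ : a₂ ∈ V)
    (hV4 : ∀ w ∈ V, w = 1 ∨ w = a₁ ∨ w = a₂ ∨ w = b)
    (hho : Odd (orderOf h)) (hko : Odd (orderOf k)) (hh1 : h ≠ 1) (hk1 : k ≠ 1)
    (h1h : a₁ * h * a₁⁻¹ = h⁻¹) (h2h : a₂ * h * a₂⁻¹ = h⁻¹) (hbh : b * h = h * b)
    (h1k : a₁ * k = k * a₁) (h2k : a₂ * k * a₂⁻¹ = k⁻¹) (hbk : b * k * b⁻¹ = k⁻¹)
    (hw : (a₁ * h) * k = k * (a₁ * h) ∨ (a₂ * h) * k = k * (a₂ * h)) : False := by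
  rcases hw with hw | hw
  · have hhk : h * k = k * h := by
      have : a₁ * (h * k) = a₁ * (k * h) := by
        calc a₁ * (h * k) = a₁ * h * k := by group
          _ = k * (a₁ * h) := hw
          _ = (k * a₁) * h := by group
          _ = (a₁ * k) * h := by rw [h1k]
          _ = a₁ * (k * h) := by group
      exact mul_left_cancel this
    have hzo : Odd (orderOf (h * k)) := by
      have hd := Commute.orderOf_mul_dvd_mul_orderOf (show Commute h k from hhk)
      exact (Nat.odd_mul.mpr ⟨hho, hko⟩).of_dvd_nat hd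
    have hz : a₂ * (h * k) * a₂⁻¹ = (h * k)⁻¹ := by
      calc a₂ * (h * k) * a₂⁻¹ = (a₂ * h * a₂⁻¹) * (a₂ * k * a₂⁻¹) := by group
        _ = h⁻¹ * k⁻¹ := by rw [h2h, h2k]
        _ = (k * h)⁻¹ := by group
        _ = (h * k)⁻¹ := by rw [hhk]
    obtain ⟨w, hwV, hw1, hwc⟩ := hS (h * k) a₂ ha₂ hzo hz
    rcases hV4 w hwV with e | e | e | e
    · exact hw1 e
    · -- `w = a₁`
      rw [e] at hwc
      apply hh1
      apply eq_one_of_odd_sq hho
      have e1 : a₁ * h = h⁻¹ * a₁ := by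
        calc a₁ * h = a₁ * h * a₁⁻¹ * a₁ := by group
          _ = h⁻¹ * a₁ := by rw [h1h]
      have e2 : h⁻¹ * k * a₁ = h * k * a₁ := by
        calc h⁻¹ * k * a₁ = h⁻¹ * (k * a₁) := by group
          _ = h⁻¹ * (a₁ * k) := by rw [h1k]
          _ = (h⁻¹ * a₁) * k := by group
          _ = (a₁ * h) * k := by rw [e1]
          _ = a₁ * (h * k) := by group
          _ = h * k * a₁ := hwc
      have e3 : h⁻¹ = h := mul_right_cancel (mul_right_cancel e2)
      calc h * h = h * h⁻¹ := by rw [e3]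
        _ = 1 := mul_inv_cancel h
    · -- `w = a₂`
      rw [e] at hwc
      have e1 : (h * k)⁻¹ = h * k := by
        rw [← hz, hwc]; group
      have e2 : h * k = 1 := by
        apply eq_one_of_odd_sq hzo
        calc h * k * (h * k) = h * k * (h * k)⁻¹ := by rw [e1]
          _ = 1 := mul_inv_cancel _
      have e3 : k = h⁻¹ := eq_inv_of_mul_eq_one_right e2
      apply hk1
      apply eq_one_of_odd_sq hko
      have e4 : b * k * b⁻¹ = k := by
        rw [e3]
        calc b * h⁻¹ * b⁻¹ = (b * h * b⁻¹)⁻¹ := by group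
          _ = (h * b * b⁻¹)⁻¹ := by rw [hbh]
          _ = h⁻¹ := by group
      rw [e4] at hbk
      calc k * k = k * k⁻¹ := by rw [← hbk]
        _ = 1 := mul_inv_cancel k
    · -- `w = b`
      rw [e] at hwc
      apply hk1
      apply eq_one_of_odd_sq hko
      have e1 : b * k = k * b := by
        have : h * (b * k) = h * (k * b) := by
          calc h * (b * k) = (h * b) * k := by group
            _ = (b * h) * k := by rw [hbh]
            _ = b * (h * k) := by group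
            _ = h * k * b := hwc
            _ = h * (k * b) := by group
        exact mul_left_cancel this
      have e4 : b * k * b⁻¹ = k := by rw [e1]; group
      rw [e4] at hbk
      calc k * k = k * k⁻¹ := by rw [← hbk]
        _ = 1 := mul_inv_cancel k
  · apply hk1
    apply eq_one_of_odd_sq hko
    apply sq_eq_one_of_odd_inverts hho
    have e1 : a₂⁻¹ * k * a₂ = k⁻¹ := by
      calc a₂⁻¹ * k * a₂ = (a₂⁻¹ * k⁻¹ * a₂)⁻¹ := by group
        _ = (a₂⁻¹ * (a₂ * k * a₂⁻¹) * a₂)⁻¹ := by rw [h2k]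
        _ = k⁻¹ := by group
    calc h * k * h⁻¹ = a₂⁻¹ * (a₂ * h * k) * h⁻¹ := by group
      _ = a₂⁻¹ * (k * (a₂ * h)) * h⁻¹ := by rw [hw]
      _ = a₂⁻¹ * k * a₂ := by group
      _ = k⁻¹ := e1

theorem sidki_four (V : Subgroup G) (hV : Cfsg.IsElementaryAbelian 2 V) (hV1 : V ≠ ⊥)
    (hS : Cfsg.IsSidkiPair V) (h4 : Nat.card V ≤ 4) : V ⊓ Cfsg.pCore 2 G ≠ ⊥ := by
  intro hbot
  obtain ⟨hVc, hV2⟩ := hV
  have hsq : ∀ v ∈ V, v * v = 1 := fun v hv => by rw [← pow_two]; exact hV2 v hv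
  have hinv : ∀ v ∈ V, v⁻¹ = v := fun v hv => inv_eq_of_mul_eq_one_left (hsq v hv)
  have hnot : ∀ v ∈ V, v ≠ 1 → v ∉ Cfsg.pCore 2 G := by
    intro v hv hv1 hvO
    have : v ∈ V ⊓ Cfsg.pCore 2 G := ⟨hv, hvO⟩
    rw [hbot, Subgroup.mem_bot] at this
    exact hv1 this
  have hcontra : ∀ (v x : G), Odd (orderOf x) → v * x * v⁻¹ = x⁻¹ → v * x = x * v → x = 1 := by
    intro v x hxo hi hc
    apply eq_one_of_odd_sq hxo
    have : x⁻¹ = x := by rw [← hi, hc]; group
    calc x * x = x * x⁻¹ := by rw [this]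
      _ = 1 := mul_inv_cancel x
  have hconjinv : ∀ (v x : G), v * x * v⁻¹ = x⁻¹ → v⁻¹ * x * v = x⁻¹ := by
    intro v x hvx
    calc v⁻¹ * x * v = (v⁻¹ * x⁻¹ * v)⁻¹ := by group
      _ = (v⁻¹ * (v * x * v⁻¹) * v)⁻¹ := by rw [hvx]
      _ = x⁻¹ := by group
  obtain ⟨⟨a, haV⟩, ha1'⟩ := (Subgroup.ne_bot_iff_exists_ne_one).mp hV1
  have ha1 : a ≠ 1 := fun h => ha1' (Subtype.ext h)
  obtain ⟨h, hho, hh1, hah⟩ := exists_inverted a (hsq a haV) (hnot a haV ha1)
  obtain ⟨b, hbV, hb1, hbh⟩ := hS h a haV hho hah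
  have hab : b ≠ a := by
    intro e
    rw [e] at hbh
    exact hh1 (hcontra a h hho hah hbh)
  obtain ⟨k, hko, hk1, hbk⟩ := exists_inverted b (hsq b hbV) (hnot b hbV hb1)
  have hcV : a * b ∈ V := V.mul_mem haV hbV
  have hab1 : a * b ≠ 1 := by
    intro e
    apply hab
    have : b = a⁻¹ := eq_inv_of_mul_eq_one_right e
    rw [this, hinv a haV]
  have hV4 : ∀ w ∈ V, w = 1 ∨ w = a ∨ w = a * b ∨ w = b := by
    classical
    haveI : Fintype ↥V := Fintype.ofFinite _
    obtain ⟨s, hsdef⟩ : ∃ s : Finset ↥V,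
      s = {1, ⟨a, haV⟩, ⟨a * b, hcV⟩, ⟨b, hbV⟩} := ⟨_, rfl⟩
    have n1 : (⟨a * b, hcV⟩ : ↥V) ∉ ({⟨b, hbV⟩} : Finset ↥V) := by
      intro hmem
      simp only [Finset.mem_singleton, Subtype.mk.injEq] at hmem
      exact ha1 (mul_right_cancel (hmem.trans (one_mul b).symm))
    have n2 : (⟨a, haV⟩ : ↥V) ∉ ({⟨a * b, hcV⟩, ⟨b, hbV⟩} : Finset ↥V) := by
      intro hmem
      simp only [Finset.mem_insert, Finset.mem_singleton, Subtype.mk.injEq] at hmem
      rcases hmem with e | e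
      · exact hb1 (mul_left_cancel ((mul_one a).trans e)).symm
      · exact hab e.symm
    have n3 : (1 : ↥V) ∉ ({⟨a, haV⟩, ⟨a * b, hcV⟩, ⟨b, hbV⟩} : Finset ↥V) := by
      intro hmem
      simp only [Finset.mem_insert, Finset.mem_singleton] at hmem
      rcases hmem with e | e | e
      · exact ha1 (congrArg Subtype.val e).symm
      · exact hab1 (congrArg Subtype.val e).symm
      · exact hb1 (congrArg Subtype.val e).symm
    have hs : s.card = 4 := by
      rw [hsdef, Finset.card_insert_of_notMem n3, Finset.card_insert_of_notMem n2,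
        Finset.card_insert_of_notMem n1, Finset.card_singleton]
    have hcard : s.card = Fintype.card ↥V := by
      have h5 := Finset.card_le_univ s
      rw [Nat.card_eq_fintype_card] at h4
      omega
    have hsu := Finset.eq_univ_of_card s hcard
    intro w hw
    have hmem : (⟨w, hw⟩ : ↥V) ∈ s := by rw [hsu]; exact Finset.mem_univ _
    rw [hsdef] at hmem
    simp only [Finset.mem_insert, Finset.mem_singleton, Subtype.mk.injEq,
      Subgroup.mk_eq_one] at hmem
    exact hmem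
  have hch : (a * b) * h * (a * b)⁻¹ = h⁻¹ := by
    calc (a * b) * h * (a * b)⁻¹ = a * (b * h) * b⁻¹ * a⁻¹ := by group
      _ = a * (h * b) * b⁻¹ * a⁻¹ := by rw [hbh]
      _ = a * h * a⁻¹ := by group
      _ = h⁻¹ := hah
  have hho' := hho
  obtain ⟨j, hj⟩ := hho
  obtain ⟨y, hy⟩ : ∃ y, y = h ^ (j + 1) := ⟨_, rfl⟩
  have hy2 : y * y = h := by
    rw [hy, ← pow_add]
    have : j + 1 + (j + 1) = orderOf h + 1 := by omega
    rw [this, pow_succ, pow_orderOf_eq_one, one_mul]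
  have hby : b * y * b⁻¹ = y := by
    have : b * y = y * b := by
      rw [hy]
      exact ((show Commute b h from hbh).pow_right _).eq
    rw [this]; group
  have hk'o : Odd (orderOf (y * k * y⁻¹)) := by
    rw [Cfsg.Agent.Lib_helper7_Sylow.orderOf_conj']; exact hko
  have hk'1 : y * k * y⁻¹ ≠ 1 := by
    intro e
    apply hk1
    have : k = y⁻¹ * (y * k * y⁻¹) * y := by group
    rw [this, e]; group
  have hbk' : b * (y * k * y⁻¹) * b⁻¹ = (y * k * y⁻¹)⁻¹ := by
    calc b * (y * k * y⁻¹) * b⁻¹ = (b * y * b⁻¹) * (b * k * b⁻¹) * (b * y * b⁻¹)⁻¹ := by group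
      _ = y * k⁻¹ * y⁻¹ := by rw [hby, hbk]
      _ = (y * k * y⁻¹)⁻¹ := by group
  obtain ⟨w, hwV, hw1, hwc⟩ := hS (y * k * y⁻¹) b hbV hk'o hbk'
  obtain ⟨w', hw'V, hw'1, hw'c⟩ := hS k b hbV hko hbk
  have key : ∀ w : G, w * h * w⁻¹ = h⁻¹ → w * (y * k * y⁻¹) = (y * k * y⁻¹) * w →
      (w * h) * k = k * (w * h) := by
    intro w hwh hwc
    have hwy : w * y * w⁻¹ = y⁻¹ := by
      rw [hy, ← conj_pow, hwh, inv_pow]
    have e1 : y⁻¹ * w * y = w * h := by
      have : y⁻¹ * w = w * y := by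
        calc y⁻¹ * w = (w * y * w⁻¹) * w := by rw [hwy]
          _ = w * y := by group
      rw [this, mul_assoc, hy2]
    calc w * h * k = (y⁻¹ * w * y) * k := by rw [e1]
      _ = y⁻¹ * (w * (y * k * y⁻¹)) * y := by group
      _ = y⁻¹ * ((y * k * y⁻¹) * w) * y := by rw [hwc]
      _ = k * (y⁻¹ * w * y) := by group
      _ = k * (w * h) := by rw [e1]
  have hw2 : (a * h) * k = k * (a * h) ∨ ((a * b) * h) * k = k * ((a * b) * h) := by
    rcases hV4 w hwV with e | e | e | e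
    · exact absurd e hw1
    · rw [e] at hwc
      exact Or.inl (key a hah hwc)
    · rw [e] at hwc
      exact Or.inr (key (a * b) hch hwc)
    · rw [e] at hwc
      exact absurd (hcontra b _ hk'o hbk' hwc) hk'1
  rcases hV4 w' hw'V with e | e | e | e
  · exact hw'1 e
  · -- `w' = a`
    rw [e] at hw'c
    have h2k : (a * b) * k * (a * b)⁻¹ = k⁻¹ := by
      calc (a * b) * k * (a * b)⁻¹ = a * (b * k * b⁻¹) * a⁻¹ := by group
        _ = a * k⁻¹ * a⁻¹ := by rw [hbk]
        _ = (a * k * a⁻¹)⁻¹ := by group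
        _ = (k * a * a⁻¹)⁻¹ := by rw [hw'c]
        _ = k⁻¹ := by group
    exact sidki_sub V hS a (a * b) b h k hcV hV4 hho' hko hh1 hk1 hah hch hbh hw'c h2k hbk hw2
  · -- `w' = a * b`
    rw [e] at hw'c
    have h2k : a * k * a⁻¹ = k⁻¹ := by
      have e1 := hconjinv b k hbk
      calc a * k * a⁻¹ = (a * b) * (b⁻¹ * k * b) * (a * b)⁻¹ := by group
        _ = (a * b) * k⁻¹ * (a * b)⁻¹ := by rw [e1]
        _ = ((a * b) * k * (a * b)⁻¹)⁻¹ := by group
        _ = (k * (a * b) * (a * b)⁻¹)⁻¹ := by rw [hw'c]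
        _ = k⁻¹ := by group
    have hV4' : ∀ w ∈ V, w = 1 ∨ w = a * b ∨ w = a ∨ w = b := by
      intro w hw
      rcases hV4 w hw with e | e | e | e
      · exact Or.inl e
      · exact Or.inr (Or.inr (Or.inl e))
      · exact Or.inr (Or.inl e)
      · exact Or.inr (Or.inr (Or.inr e))
    exact sidki_sub V hS (a * b) a b h k haV hV4' hho' hko hh1 hk1 hch hah hbh hw'c h2k hbk
      hw2.symm
  · rw [e] at hw'c
    exact hk1 (hcontra b k hko hbk hw'c)

end Cfsg.Agent.Lib_helper7_Sidki
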