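import Mathlib
import Cfsg.Prelude.Def_LocalStructure
import Cfsg.Agent.Lib_helper7_PIrr2
import Cfsg.Agent.Lib_helper7_PIrr
import Cfsg.Agent.Lib_helper7_CommSup
import Cfsg.Agent.Lib_helper5_Fitting

set_option autoImplicit false

namespace Cfsg.Agent.Lib_helper7_SubnClosure

open Cfsg.Agent.Lib_helper7_Sylow Cfsg.Agent.Lib_helper7_WellPlaced
open Cfsg.Agent.Lib_helper7_WC Cfsg.Agent.Lib_helper7_PIrr2 Cfsg.Agent.Lib_helper7_PIrr
open Cfsg.Agent.Lib_helper7_CommSup

variable {H : Type*} [Group H] [Finite H] {p : ℕ} [Fact p.Prime]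

theorem sInf_isSubnormal (S : Set (Subgroup H)) (h : ∀ K ∈ S, K.IsSubnormal) :
    (sInf S).IsSubnormal := by
  have hfin : S.Finite := Set.toFinite S
  refine Set.Finite.induction_on (motive := fun S _ => (∀ K ∈ S, K.IsSubnormal) →
    (sInf S).IsSubnormal) S hfin ?_ ?_ h
  · intro _
    rw [sInf_empty]
    exact Subgroup.IsSubnormal.top
  · intro a s _ _ ih h
    rw [sInf_insert]
    exact (h _ (Set.mem_insert _ _)).inf (ih (fun K hK => h K (Set.mem_insert_of_mem _ hK)))

theorem subnormalClosure_isSubnormal (A : Subgroup H) : (Cfsg.subnormalClosure A).IsSubnormal :=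
  sInf_isSubnormal _ (fun _ hK => hK.2)

theorem le_subnormalClosure (A : Subgroup H) : A ≤ Cfsg.subnormalClosure A :=
  le_sInf (fun _ hK => hK.1)

theorem subnormalClosure_le (A X : Subgroup H) (hAX : A ≤ X) (hX : X.IsSubnormal) :
    Cfsg.subnormalClosure A ≤ X :=
  sInf_le ⟨hAX, hX⟩

/-- S2814. -/
theorem subnormalClosure_properties (A K : Subgroup H) (hK : K = Cfsg.subnormalClosure A) :
    (Subgroup.normalClosure ((A.subgroupOf K : Subgroup ↥K) : Set ↥K)).map K.subtype = K ∧
    Subgroup.normalizer (A : Set H) ≤ Subgroup.normalizer (K : Set H) ∧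
    A ⊔ (Cfsg.pResidual p ↥K).map K.subtype = K ∧
    (IsPGroup p ↥A → ⁅(Cfsg.pResidual p ↥K).map K.subtype, A⁆
      = (Cfsg.pResidual p ↥K).map K.subtype) := by
  have hKs : K.IsSubnormal := by rw [hK]; exact subnormalClosure_isSubnormal A
  have hAK : A ≤ K := by rw [hK]; exact le_subnormalClosure A
  have hmin0 : ∀ X : Subgroup H, A ≤ X → X.IsSubnormal → K ≤ X := by
    intro X hAX hX
    rw [hK]
    exact subnormalClosure_le A X hAX hX
  have hmin : ∀ X : Subgroup H, A ≤ X → X ≤ K → (X.subgroupOf K).IsSubnormal → K ≤ X :=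
    fun X hAX hXK hX => hmin0 X hAX (Subgroup.IsSubnormal.trans hXK hX hKs)
  have hminN : ∀ X : Subgroup H, A ≤ X → X ≤ K → K ≤ Subgroup.normalizer (X : Set H) → K ≤ X := by
    intro X hAX hXK hN
    apply hmin X hAX hXK
    exact ((Subgroup.normal_subgroupOf_iff_le_normalizer hXK).mpr hN).isSubnormal
  have hRK : (Cfsg.pResidual p ↥K).map K.subtype ≤ K := Subgroup.map_subtype_le _
  have hKR : K ≤ Subgroup.normalizer (((Cfsg.pResidual p ↥K).map K.subtype : Subgroup H) : Set H) :=
    Subgroup.le_normalizer.trans (normalizer_le_normalizer_pResidualOf K)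
  have h3 : A ⊔ (Cfsg.pResidual p ↥K).map K.subtype = K := by
    apply le_antisymm (sup_le hAK hRK)
    apply hmin _ le_sup_left (sup_le hAK hRK)
    have hq : IsPGroup p (↥K ⧸ Cfsg.pResidual p ↥K) := isPGroup_quotient_pResidual p
    haveI : Group.IsNilpotent (↥K ⧸ Cfsg.pResidual p ↥K) := hq.isNilpotent
    have h1 := Cfsg.Agent.Lib_helper5_Fitting.isSubnormal_of_isNilpotent
      (((A ⊔ (Cfsg.pResidual p ↥K).map K.subtype).subgroupOf K).map
        (QuotientGroup.mk' (Cfsg.pResidual p ↥K)))
    have h2 := h1.comap (QuotientGroup.mk' (Cfsg.pResidual p ↥K))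
    rw [Subgroup.comap_map_eq, QuotientGroup.ker_mk'] at h2
    have h3 : (A ⊔ (Cfsg.pResidual p ↥K).map K.subtype).subgroupOf K ⊔ Cfsg.pResidual p ↥K
        = (A ⊔ (Cfsg.pResidual p ↥K).map K.subtype).subgroupOf K := by
      apply sup_eq_left.mpr
      intro x hx
      exact Subgroup.mem_subgroupOf.mpr (Subgroup.mem_sup_right ⟨x, hx, rfl⟩)
    rw [h3] at h2
    exact h2
  refine ⟨?_, ?_, h3, ?_⟩
  · apply le_antisymm
    · exact Subgroup.map_subtype_le _
    · apply hmin _ ?_ (Subgroup.map_subtype_le _) ?_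
      · intro a ha
        exact ⟨⟨a, hAK ha⟩, Subgroup.subset_normalClosure (Subgroup.mem_subgroupOf.mpr ha), rfl⟩
      · have e : ((Subgroup.normalClosure ((A.subgroupOf K : Subgroup ↥K) : Set ↥K)).map
            K.subtype).subgroupOf K
            = Subgroup.normalClosure ((A.subgroupOf K : Subgroup ↥K) : Set ↥K) :=
          Subgroup.comap_map_eq_self_of_injective K.subtype_injective _
        rw [e]
        exact Subgroup.Normal.isSubnormal Subgroup.normalClosure_normal
  · intro g hg
    have hsub : (K.map (MulAut.conj g).toMonoidHom).IsSubnormal :=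
      Subgroup.IsSubnormal.map (f := (MulAut.conj g).toMonoidHom) (MulAut.conj g).surjective hKs
    have hA : A ≤ K.map (MulAut.conj g).toMonoidHom := by
      have e := map_conj_of_mem_normalizer A g hg
      exact e.symm.le.trans (Subgroup.map_mono hAK)
    have hle := hmin0 _ hA hsub
    have hcard : Nat.card (K.map (MulAut.conj g).toMonoidHom) = Nat.card K :=
      Nat.card_congr (K.equivMapOfInjective _ (MulAut.conj g).injective).symm.toEquiv
    have heq : K = K.map (MulAut.conj g).toMonoidHom := Subgroup.eq_of_le_of_card_ge hle hcard.le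
    apply mem_normalizer_of_conj_le
    exact heq.symm.le
  · intro hAp
    have hAR : A ≤ Subgroup.normalizer (((Cfsg.pResidual p ↥K).map K.subtype : Subgroup H) : Set H) :=
      hAK.trans hKR
    have hR₀R := commutator_le_left_of_le_normalizer ((Cfsg.pResidual p ↥K).map K.subtype) A hAR
    apply le_antisymm hR₀R
    have hRN := Subgroup.normalizer_commutator_ge_left (H₁ := (Cfsg.pResidual p ↥K).map K.subtype)
      (H₂ := A)
    have hAN := Subgroup.normalizer_commutator_ge_right (H₁ := (Cfsg.pResidual p ↥K).map K.subtype)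
      (H₂ := A)
    have hKN₀ : K ≤ Subgroup.normalizer
        ((⁅(Cfsg.pResidual p ↥K).map K.subtype, A⁆ : Subgroup H) : Set H) :=
      h3.ge.trans (sup_le hAN hRN)
    have hKX : K ≤ Subgroup.normalizer
        ((A ⊔ ⁅(Cfsg.pResidual p ↥K).map K.subtype, A⁆ : Subgroup H) : Set H) := by
      refine h3.ge.trans (sup_le ?_ ?_)
      · exact le_sup_left.trans Subgroup.le_normalizer
      · intro r hr
        apply mem_normalizer_of_conj_le
        rw [Subgroup.map_sup]
        apply sup_le
        · rw [map_conj_le_iff]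
          intro a ha
          have e : r * a * r⁻¹ = (r * a * r⁻¹ * a⁻¹) * a := by group
          rw [e]
          exact Subgroup.mul_mem _
            (Subgroup.mem_sup_right (Subgroup.commutator_mem_commutator hr ha))
            (Subgroup.mem_sup_left ha)
        · rw [map_conj_of_mem_normalizer _ r (hRN hr)]
          exact le_sup_right
    have hKle : K ≤ A ⊔ ⁅(Cfsg.pResidual p ↥K).map K.subtype, A⁆ :=
      hminN _ le_sup_left (sup_le hAK (hR₀R.trans hRK)) hKX
    haveI hn : ((⁅(Cfsg.pResidual p ↥K).map K.subtype, A⁆ : Subgroup H).subgroupOf K).Normal :=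
      (Subgroup.normal_subgroupOf_iff_le_normalizer (hR₀R.trans hRK)).mpr hKN₀
    have hsup : (⁅(Cfsg.pResidual p ↥K).map K.subtype, A⁆ : Subgroup H).subgroupOf K ⊔
        A.subgroupOf K = ⊤ := by
      rw [eq_top_iff]
      intro x _
      have hx := hKle x.2
      rw [sup_comm] at hx
      rw [← Subgroup.subgroupOf_sup (hR₀R.trans hRK) hAK]
      exact Subgroup.mem_subgroupOf.mpr hx
    have hpq := isPGroup_quotient_of_sup_eq_top
      ((⁅(Cfsg.pResidual p ↥K).map K.subtype, A⁆ : Subgroup H).subgroupOf K) (A.subgroupOf K)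
      hAp.comap_subtype hsup
    have hle := pResidual_le_of_isPGroup
      ((⁅(Cfsg.pResidual p ↥K).map K.subtype, A⁆ : Subgroup H).subgroupOf K) hpq
    rw [Subgroup.map_le_iff_le_comap]
    exact hle

end Cfsg.Agent.Lib_helper7_SubnClosure
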