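import Mathlib
import Cfsg.Prelude.Def_Local
import Cfsg.Agent.Lib_helper2_Comp
import Cfsg.Agent.Lib_helper7_Sylow
import Cfsg.Agent.Lib_helper7_Alperin
import Cfsg.Agent.Lib_helper7_WellPlaced

set_option autoImplicit false

namespace Cfsg.Agent.Lib_helper7_Tight

open Cfsg.Agent.Lib_helper7_Sylow Cfsg.Agent.Lib_helper7_WellPlaced

variable {G : Type*} [Group G] [Finite G]

theorem two_elt_odd (x : G) (D : Subgroup G) (hD : IsPGroup 2 D) (hx : x ∈ D) (E : Subgroup G)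
    (hE : Odd (Nat.card E)) (hxE : x ∈ E) : x = 1 := by
  obtain ⟨k, hk⟩ := hD ⟨x, hx⟩
  have hk' : x ^ 2 ^ k = 1 := congrArg Subtype.val hk
  have h1 : orderOf x ∣ 2 ^ k := orderOf_dvd_of_pow_eq_one hk'
  have h2 : orderOf x ∣ Nat.card E := Subgroup.orderOf_dvd_natCard E hxE
  obtain ⟨j, -, hj⟩ := (Nat.dvd_prime_pow Nat.prime_two).mp h1
  rcases Nat.eq_zero_or_pos j with h0 | h0
  · rw [h0, pow_zero] at hj
    exact orderOf_eq_one_iff.mp hj
  · exfalso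
    have h3 : 2 ∣ Nat.card E := by
      refine Dvd.dvd.trans ?_ h2
      rw [hj]
      exact dvd_pow_self 2 h0.ne'
    exact (Nat.not_even_iff_odd.mpr hE) (even_iff_two_dvd.mpr h3)

theorem decomp (A B : Subgroup G) (h : A ≤ Subgroup.normalizer (B : Set G)) {x : G}
    (hx : x ∈ B ⊔ A) : ∃ b ∈ B, ∃ a ∈ A, x = b * a := by
  rw [sup_comm] at hx
  obtain ⟨a, ha, b, hb, rfl⟩ := Cfsg.Agent.Lib_helper2_Comp.mem_sup_of_le_normalizer h hx
  refine ⟨a * b * a⁻¹, (Subgroup.mem_normalizer_iff.mp (h ha) b).mp hb, a, ha, by group⟩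

theorem tight {Q : Subgroup G} (hQ : Cfsg.IsTightlyEmbedded Q) (h x : G) (hx1 : x ≠ 1)
    (D : Subgroup G) (hD : IsPGroup 2 D) (hxD : x ∈ D) (hxQ : x ∈ Q)
    (hxQh : x ∈ Q.map (MulAut.conj h).toMonoidHom) : h ∈ Subgroup.normalizer (Q : Set G) := by
  by_contra hh
  exact hx1 (two_elt_odd x D hD hxD _ (hQ.2 h hh) ⟨hxQ, hxQh⟩)

theorem tight_conj {Q : Subgroup G} (hQ : Cfsg.IsTightlyEmbedded Q) (g h x : G) (hx1 : x ≠ 1)
    (D : Subgroup G) (hD : IsPGroup 2 D) (hxD : x ∈ D)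
    (hxQ : x ∈ Q.map (MulAut.conj g).toMonoidHom)
    (hxQh : x ∈ (Q.map (MulAut.conj g).toMonoidHom).map (MulAut.conj h).toMonoidHom) :
    h ∈ Subgroup.normalizer ((Q.map (MulAut.conj g).toMonoidHom : Subgroup G) : Set G) := by
  obtain ⟨q, hq, hqx⟩ := hxQ
  obtain ⟨_, ⟨q', hq', rfl⟩, hq'x⟩ := hxQh
  have e1 : g * q * g⁻¹ = x := hqx
  have e2 : h * (g * q' * g⁻¹) * h⁻¹ = x := hq'x
  have hq1 : q ≠ 1 := by
    intro h1
    rw [h1] at e1
    apply hx1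
    rw [← e1]; group
  have hqD : q ∈ D.map (MulAut.conj g⁻¹).toMonoidHom := by
    refine ⟨x, hxD, ?_⟩
    show g⁻¹ * x * g⁻¹⁻¹ = q
    rw [← e1]; group
  have hqQ' : q ∈ Q.map (MulAut.conj (g⁻¹ * h * g)).toMonoidHom := by
    refine ⟨q', hq', ?_⟩
    show (g⁻¹ * h * g) * q' * (g⁻¹ * h * g)⁻¹ = q
    have : q = g⁻¹ * x * g := by rw [← e1]; group
    rw [this, ← e2]; group
  have hn := tight hQ (g⁻¹ * h * g) q hq1 _ (hD.map _) hqD hq hqQ'
  apply mem_normalizer_of_conj_le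
  rintro _ ⟨_, ⟨c, hc, rfl⟩, rfl⟩
  refine ⟨(g⁻¹ * h * g) * c * (g⁻¹ * h * g)⁻¹, (Subgroup.mem_normalizer_iff.mp hn c).mp hc, ?_⟩
  show g * ((g⁻¹ * h * g) * c * (g⁻¹ * h * g)⁻¹) * g⁻¹ = h * (g * c * g⁻¹) * h⁻¹
  group

/-- If `T` and `U` commute elementwise and meet trivially, a subgroup `V ≤ T ⊔ U` meeting `T`
trivially embeds in `U`. -/
theorem exists_injective_of_inf_eq_bot (T U V : Subgroup G)
    (hcomm : ∀ t ∈ T, ∀ u ∈ U, t * u = u * t) (hTU : T ⊓ U = ⊥) (hV : V ≤ T ⊔ U)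
    (hVT : V ⊓ T = ⊥) : ∃ f : ↥V →* ↥U, Function.Injective f := by
  have hUT : U ≤ Subgroup.normalizer (T : Set G) := by
    intro u hu
    apply mem_normalizer_of_conj_le
    rintro _ ⟨t, ht, rfl⟩
    have : u * t * u⁻¹ = t := by rw [← hcomm t ht u hu]; group
    show u * t * u⁻¹ ∈ T
    rw [this]; exact ht
  have hdec : ∀ v : ↥V, ∃ u : ↥U, ∃ t ∈ T, (v : G) = t * u := by
    intro v
    obtain ⟨t, ht, u, hu, e⟩ := decomp U T hUT (hV v.2)
    exact ⟨⟨u, hu⟩, t, ht, e⟩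
  choose f hf using hdec
  have huniq : ∀ (t₁ t₂ u₁ u₂ : G), t₁ ∈ T → t₂ ∈ T → u₁ ∈ U → u₂ ∈ U →
      t₁ * u₁ = t₂ * u₂ → u₁ = u₂ := by
    intro t₁ t₂ u₁ u₂ ht₁ ht₂ hu₁ hu₂ e
    have h1 : t₂⁻¹ * t₁ = u₂ * u₁⁻¹ := by
      calc t₂⁻¹ * t₁ = t₂⁻¹ * (t₁ * u₁) * u₁⁻¹ := by group
        _ = t₂⁻¹ * (t₂ * u₂) * u₁⁻¹ := by rw [e]
        _ = u₂ * u₁⁻¹ := by group
    have h2 : u₂ * u₁⁻¹ ∈ T ⊓ U :=
      ⟨by rw [← h1]; exact T.mul_mem (T.inv_mem ht₂) ht₁, U.mul_mem hu₂ (U.inv_mem hu₁)⟩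
    rw [hTU, Subgroup.mem_bot] at h2
    calc u₁ = (u₂ * u₁⁻¹)⁻¹ * u₂ := by group
      _ = u₂ := by rw [h2]; group
  refine ⟨{ toFun := f, map_one' := ?_, map_mul' := ?_ }, ?_⟩
  · obtain ⟨t, ht, e⟩ := hf 1
    apply Subtype.ext
    exact huniq t 1 (f 1) 1 ht T.one_mem (f 1).2 U.one_mem (by rw [← e]; simp)
  · intro a b
    obtain ⟨ta, hta, ea⟩ := hf a
    obtain ⟨tb, htb, eb⟩ := hf b
    obtain ⟨tab, htab, eab⟩ := hf (a * b)
    apply Subtype.ext
    have e1 : tab * (f (a * b) : G) = (ta * tb) * ((f a : G) * (f b : G)) := by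
      rw [← eab]
      show (a : G) * (b : G) = _
      rw [ea, eb]
      have hc := hcomm tb htb (f a) (f a).2
      calc ta * (f a : G) * (tb * (f b : G)) = ta * ((f a : G) * tb) * (f b : G) := by group
        _ = ta * (tb * (f a : G)) * (f b : G) := by rw [hc]
        _ = ta * tb * ((f a : G) * (f b : G)) := by group
    exact huniq tab (ta * tb) _ _ htab (T.mul_mem hta htb) (f (a * b)).2
      (U.mul_mem (f a).2 (f b).2) e1
  · intro a b hab
    obtain ⟨ta, hta, ea⟩ := hf a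
    obtain ⟨tb, htb, eb⟩ := hf b
    have hab' : (f a : G) = f b := congrArg Subtype.val hab
    have h1 : (a : G) * (b : G)⁻¹ = ta * tb⁻¹ := by
      rw [ea, eb, hab']; group
    have h2 : (a : G) * (b : G)⁻¹ ∈ V ⊓ T :=
      ⟨V.mul_mem a.2 (V.inv_mem b.2), by rw [h1]; exact T.mul_mem hta (T.inv_mem htb)⟩
    rw [hVT, Subgroup.mem_bot] at h2
    apply Subtype.ext
    calc (a : G) = (a : G) * (b : G)⁻¹ * b := by group
      _ = b := by rw [h2, one_mul]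

theorem conj_hom_injective (A B : Subgroup G) (c : G) (h : ∀ a ∈ A, c * a * c⁻¹ ∈ B) :
    ∃ f : ↥A →* ↥B, Function.Injective f := by
  refine ⟨(((MulAut.conj c).toMonoidHom.comp A.subtype).codRestrict B (fun a => h a a.2)), ?_⟩
  intro a b hab
  have h1 : c * (a : G) * c⁻¹ = c * (b : G) * c⁻¹ := congrArg Subtype.val hab
  apply Subtype.ext
  exact mul_left_cancel (mul_right_cancel h1)

theorem norm_cond {p : ℕ} [Fact p.Prime] (P M : Subgroup G) (hP : IsPGroup p P) (hMP : M ≤ P)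
    (hne : ¬ P ≤ M) : ∃ s ∈ P, s ∉ M ∧ ∀ m ∈ M, s * m * s⁻¹ ∈ M := by
  haveI : Group.IsNilpotent ↥P := hP.isNilpotent
  have hlt : M.subgroupOf P < ⊤ := by
    rw [lt_top_iff_ne_top]
    intro h
    apply hne
    intro u hu
    have : (⟨u, hu⟩ : ↥P) ∈ M.subgroupOf P := by rw [h]; exact Subgroup.mem_top _
    exact Subgroup.mem_subgroupOf.mp this
  have hnc := Group.normalizerCondition_of_isNilpotent (G := ↥P) _ hlt
  obtain ⟨s, hsN, hsM⟩ := SetLike.exists_of_lt hnc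
  refine ⟨s, s.2, fun h => hsM (Subgroup.mem_subgroupOf.mpr h), fun m hm => ?_⟩
  have h1 : (⟨m, hMP hm⟩ : ↥P) ∈ M.subgroupOf P := Subgroup.mem_subgroupOf.mpr hm
  have h2 := (Subgroup.mem_normalizer_iff.mp hsN _).mp h1
  exact Subgroup.mem_subgroupOf.mp h2

theorem tightly_embedded_sylow (Q : Subgroup G) (hQ : Cfsg.IsTightlyEmbedded Q)
    (g : G) (hg : g ∉ Subgroup.normalizer (Q : Set G))
    (T : Subgroup G) (hT1 : T ≠ ⊥)
    (hT : T ≤ Q.map (MulAut.conj g).toMonoidHom ⊓ Subgroup.normalizer (Q : Set G))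
    (hTsyl : IsPGroup 2 T ∧ ¬ 2 ∣ T.relIndex
      (Q.map (MulAut.conj g).toMonoidHom ⊓ Subgroup.normalizer (Q : Set G)))
    (S : Subgroup G) (hTS : T ≤ S) (hS : S ≤ Q ⊔ T)
    (hSsyl : IsPGroup 2 S ∧ ¬ 2 ∣ S.relIndex (Q ⊔ T)) :
    T ⊓ Q = ⊥ ∧
      T ⊓ (S ⊓ Subgroup.normalizer (T : Set G) ⊓ Q) = ⊥ ∧
      ⁅T, S ⊓ Subgroup.normalizer (T : Set G) ⊓ Q⁆ = ⊥ ∧
      T ⊔ (S ⊓ Subgroup.normalizer (T : Set G) ⊓ Q) = S ⊓ Subgroup.normalizer (T : Set G) ∧
      Nonempty (↥(S ⊓ Subgroup.normalizer (T : Set G) ⊓ Q) ≃* T) := by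
  haveI : Fact (Nat.Prime 2) := ⟨Nat.prime_two⟩
  obtain ⟨hT2, hTidx⟩ := hTsyl
  obtain ⟨hS2, hSidx⟩ := hSsyl
  obtain ⟨Qg, hQgdef⟩ : ∃ Qg : Subgroup G, Qg = Q.map (MulAut.conj g).toMonoidHom := ⟨_, rfl⟩
  rw [← hQgdef] at hT hTidx
  have hTQg : T ≤ Qg := hT.trans inf_le_left
  have hTN : T ≤ Subgroup.normalizer (Q : Set G) := hT.trans inf_le_right
  have hodd : ∀ x : G, x ∈ S → x ∈ Q → x ∈ Qg → x = 1 := by
    intro x hxS hxQ hxQg
    rw [hQgdef] at hxQg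
    exact two_elt_odd x S hS2 hxS _ (hQ.2 g hg) ⟨hxQ, hxQg⟩
  have hF1 : T ⊓ Q = ⊥ := by
    rw [eq_bot_iff]
    rintro x ⟨hxT, hxQ⟩
    rw [Subgroup.mem_bot]
    exact hodd x (hTS hxT) hxQ (hTQg hxT)
  obtain ⟨U, hUdef⟩ : ∃ U : Subgroup G, U = S ⊓ Subgroup.normalizer (T : Set G) ⊓ Q :=
    ⟨_, rfl⟩
  rw [← hUdef]
  have hUS : U ≤ S := by rw [hUdef]; exact inf_le_left.trans inf_le_left
  have hUNT : U ≤ Subgroup.normalizer (T : Set G) := by
    rw [hUdef]; exact inf_le_left.trans inf_le_right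
  have hUQ : U ≤ Q := by rw [hUdef]; exact inf_le_right
  have hU2 : IsPGroup 2 ↥U := hS2.to_le hUS
  have hcomm : ∀ t ∈ T, ∀ u ∈ U, t * u = u * t := by
    intro t ht u hu
    have h1 : t * u * t⁻¹ * u⁻¹ ∈ T ⊓ Q := by
      refine ⟨?_, ?_⟩
      · have e : t * u * t⁻¹ * u⁻¹ = t * (u * t⁻¹ * u⁻¹) := by group
        rw [e]
        exact T.mul_mem ht ((Subgroup.mem_normalizer_iff.mp (hUNT hu) _).mp (T.inv_mem ht))
      · exact Q.mul_mem ((Subgroup.mem_normalizer_iff.mp (hTN ht) _).mp (hUQ hu))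
          (Q.inv_mem (hUQ hu))
    rw [hF1, Subgroup.mem_bot] at h1
    calc t * u = (t * u * t⁻¹ * u⁻¹) * (u * t) := by group
      _ = u * t := by rw [h1, one_mul]
  have hTU : T ⊓ U = ⊥ := by
    rw [eq_bot_iff, ← hF1]
    exact inf_le_inf_left T hUQ
  have hF3 : T ⊔ U = S ⊓ Subgroup.normalizer (T : Set G) := by
    apply le_antisymm
    · exact sup_le (le_inf hTS Subgroup.le_normalizer) (le_inf hUS hUNT)
    · rintro s ⟨hsS, hsN⟩
      obtain ⟨q, hq, t, ht, rfl⟩ := decomp T Q hTN (hS hsS)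
      have hqU : q ∈ U := by
        rw [hUdef]
        have e : q = q * t * t⁻¹ := by group
        refine ⟨⟨?_, ?_⟩, hq⟩
        · rw [e]; exact S.mul_mem hsS (S.inv_mem (hTS ht))
        · rw [e]
          exact Subgroup.mul_mem _ hsN (Subgroup.inv_mem _ (Subgroup.le_normalizer ht))
      rw [sup_comm]
      exact Subgroup.mul_mem_sup hqU ht
  refine ⟨hF1, hTU, ?_, hF3, ?_⟩
  · rw [eq_bot_iff, Subgroup.commutator_le]
    intro t ht u hu
    show t * u * t⁻¹ * u⁻¹ ∈ (⊥ : Subgroup G)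
    rw [Subgroup.mem_bot, hcomm t ht u hu]; group
  -- a nontrivial element of `T`
  obtain ⟨⟨t₀, ht₀T⟩, ht₀'⟩ := (Subgroup.ne_bot_iff_exists_ne_one).mp hT1
  have ht₀1 : t₀ ≠ 1 := fun h => ht₀' (Subtype.ext h)
  have hQgN : Qg ≤ Subgroup.normalizer (Qg : Set G) := Subgroup.le_normalizer
  -- `U` normalizes `Qg`
  have hUNg : U ≤ Subgroup.normalizer (Qg : Set G) := by
    intro u hu
    rw [hQgdef]
    refine tight_conj hQ g u t₀ ht₀1 T hT2 ht₀T (by rw [← hQgdef]; exact hTQg ht₀T) ?_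
    refine ⟨t₀, by rw [← hQgdef]; exact hTQg ht₀T, ?_⟩
    show u * t₀ * u⁻¹ = t₀
    rw [← hcomm t₀ ht₀T u hu]; group
  -- elements of `S ∩ Q` normalizing `Qg` lie in `U`
  have hcent : ∀ r : G, r ∈ S → r ∈ Q → r ∈ Subgroup.normalizer (Qg : Set G) → r ∈ U := by
    intro r hrS hrQ hrN
    have hc : ∀ t ∈ T, r * t * r⁻¹ = t := by
      intro t ht
      have h1 : r * t * r⁻¹ * t⁻¹ = 1 := by
        apply hodd
        · exact S.mul_mem (S.mul_mem (S.mul_mem hrS (hTS ht)) (S.inv_mem hrS)) (S.inv_mem (hTS ht))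
        · have e : r * t * r⁻¹ * t⁻¹ = r * (t * r⁻¹ * t⁻¹) := by group
          rw [e]
          exact Q.mul_mem hrQ ((Subgroup.mem_normalizer_iff.mp (hTN ht) _).mp (Q.inv_mem hrQ))
        · exact Qg.mul_mem ((Subgroup.mem_normalizer_iff.mp hrN _).mp (hTQg ht))
            (Qg.inv_mem (hTQg ht))
      calc r * t * r⁻¹ = (r * t * r⁻¹ * t⁻¹) * t := by group
        _ = t := by rw [h1, one_mul]
    rw [hUdef]
    refine ⟨⟨hrS, ?_⟩, hrQ⟩
    apply mem_normalizer_of_conj_le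
    rintro _ ⟨t, ht, rfl⟩
    show r * t * r⁻¹ ∈ T
    rw [hc t ht]; exact ht
  have hMS : T ⊔ U ≤ S := sup_le hTS hUS
  have hM2 : IsPGroup 2 ↥(T ⊔ U) := hS2.to_le hMS
  -- (I) an injective homomorphism `T → U`
  have hI : ∃ f : ↥T →* ↥U, Function.Injective f := by
    by_cases hSN : S ≤ Subgroup.normalizer (T : Set G)
    · -- conjugate `g⁻¹ T g ≤ Q` into `S`
      have hT'Q : T.map (MulAut.conj g⁻¹).toMonoidHom ≤ Q := by
        rintro _ ⟨t, ht, rfl⟩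
        have h1 := hTQg ht
        rw [hQgdef] at h1
        obtain ⟨q, hq, hqt⟩ := h1
        have e : g * q * g⁻¹ = t := hqt
        show g⁻¹ * t * g⁻¹⁻¹ ∈ Q
        have : g⁻¹ * t * g⁻¹⁻¹ = q := by rw [← e]; group
        rw [this]; exact hq
      obtain ⟨n, hn, hnS⟩ := Cfsg.Agent.Lib_helper7_Alperin.exists_conj_of_relIndex S (Q ⊔ T)
        (T.map (MulAut.conj g⁻¹).toMonoidHom) hS2 hSidx (hT'Q.trans le_sup_left) (hT2.map _)
      have hnN : n ∈ Subgroup.normalizer (Q : Set G) :=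
        (sup_le Subgroup.le_normalizer hTN) hn
      apply conj_hom_injective T U (n * g⁻¹)
      intro t ht
      have hd : g⁻¹ * t * g⁻¹⁻¹ ∈ T.map (MulAut.conj g⁻¹).toMonoidHom := ⟨t, ht, rfl⟩
      have e : n * g⁻¹ * t * (n * g⁻¹)⁻¹ = n * (g⁻¹ * t * g⁻¹⁻¹) * n⁻¹ := by group
      rw [e, hUdef]
      exact ⟨⟨hnS _ hd, hSN (hnS _ hd)⟩, (Subgroup.mem_normalizer_iff.mp hnN _).mp (hT'Q hd)⟩
    · obtain ⟨s, hsS, hsM, hsnorm⟩ := norm_cond S (S ⊓ Subgroup.normalizer (T : Set G)) hS2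
        inf_le_left (fun h => hSN (h.trans inf_le_right))
      have hsNT : s ∉ Subgroup.normalizer (T : Set G) := fun h => hsM ⟨hsS, h⟩
      have hV : T.map (MulAut.conj s).toMonoidHom ≤ T ⊔ U := by
        rw [hF3]
        rintro _ ⟨t, ht, rfl⟩
        exact hsnorm t ⟨hTS ht, Subgroup.le_normalizer ht⟩
      have hVT : T.map (MulAut.conj s).toMonoidHom ⊓ T = ⊥ := by
        rw [eq_bot_iff]
        rintro x ⟨hxV, hxT⟩
        rw [Subgroup.mem_bot]
        by_contra hx1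
        apply hsNT
        have hsNg : s ∈ Subgroup.normalizer (Qg : Set G) := by
          rw [hQgdef]
          refine tight_conj hQ g s x hx1 T hT2 hxT (by rw [← hQgdef]; exact hTQg hxT) ?_
          rw [← hQgdef]
          exact Subgroup.map_mono hTQg hxV
        obtain ⟨q, hq, t, ht, hst⟩ := decomp T Q hTN (hS hsS)
        have hqe : q = s * t⁻¹ := by rw [hst]; group
        have hqU : q ∈ U := by
          apply hcent q _ hq
          · rw [hqe]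
            exact Subgroup.mul_mem _ hsNg (Subgroup.inv_mem _ (hQgN (hTQg ht)))
          · rw [hqe]; exact S.mul_mem hsS (S.inv_mem (hTS ht))
        rw [hst]
        exact Subgroup.mul_mem _ (hUNT hqU) (Subgroup.le_normalizer ht)
      obtain ⟨f₁, hf₁⟩ := conj_hom_injective T (T.map (MulAut.conj s).toMonoidHom) s
        (fun a ha => ⟨a, ha, rfl⟩)
      obtain ⟨f₂, hf₂⟩ := exists_injective_of_inf_eq_bot T U _ hcomm hTU hV hVT
      exact ⟨f₂.comp f₁, hf₂.comp hf₁⟩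
  -- (II) an injective homomorphism `U → T`
  have hII : ∃ f : ↥U →* ↥T, Function.Injective f := by
    obtain ⟨H, hHdef⟩ : ∃ H : Subgroup G, H = Qg ⊔ U := ⟨_, rfl⟩
    have hMH : T ⊔ U ≤ H := by rw [hHdef]; exact sup_le (hTQg.trans le_sup_left) le_sup_right
    have hHN : H ≤ Subgroup.normalizer (Qg : Set G) := by rw [hHdef]; exact sup_le hQgN hUNg
    obtain ⟨P, hP⟩ := (hM2.comap_subtype (K := H)).exists_le_sylow
    obtain ⟨S', hS'def⟩ : ∃ S' : Subgroup G, S' = (P : Subgroup ↥H).map H.subtype := ⟨_, rfl⟩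
    have hMS' : T ⊔ U ≤ S' := by
      intro m hm
      rw [hS'def]
      exact ⟨⟨m, hMH hm⟩, hP (Subgroup.mem_subgroupOf.mpr hm), rfl⟩
    have hS'H : S' ≤ H := by rw [hS'def]; exact Subgroup.map_subtype_le _
    have hS'2 : IsPGroup 2 ↥S' := by rw [hS'def]; exact P.isPGroup'.map _
    have hS'idx : ¬ 2 ∣ S'.relIndex H := by
      have h1 : S'.subgroupOf H = (P : Subgroup ↥H) := by
        rw [hS'def]
        exact Subgroup.comap_map_eq_self_of_injective H.subtype_injective _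
      have h2 : S'.relIndex H = (P : Subgroup ↥H).index := by
        unfold Subgroup.relIndex
        rw [h1]
      rw [h2]
      exact P.not_dvd_index
    -- elements of `T ⊔ U` in `Qg` lie in `T`
    have hMQg : ∀ x ∈ T ⊔ U, x ∈ Qg → x ∈ T := by
      intro x hx hxQg
      obtain ⟨t, ht, u, hu, rfl⟩ := decomp U T hUNT hx
      have hu1 : u = 1 := by
        apply hodd u (hUS hu) (hUQ hu)
        have e : u = t⁻¹ * (t * u) := by group
        rw [e]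
        exact Qg.mul_mem (Qg.inv_mem (hTQg ht)) hxQg
      rw [hu1, mul_one]; exact ht
    by_cases hSM : S' ≤ T ⊔ U
    · have hU'Qg : U.map (MulAut.conj g).toMonoidHom ≤ Qg := by
        rw [hQgdef]
        exact Subgroup.map_mono hUQ
      have hQgH : Qg ≤ H := by rw [hHdef]; exact le_sup_left
      obtain ⟨n, hn, hnS⟩ := Cfsg.Agent.Lib_helper7_Alperin.exists_conj_of_relIndex S' H
        (U.map (MulAut.conj g).toMonoidHom) hS'2 hS'idx (hU'Qg.trans hQgH) (hU2.map _)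
      apply conj_hom_injective U T (n * g)
      intro u hu
      have hd : g * u * g⁻¹ ∈ U.map (MulAut.conj g).toMonoidHom := ⟨u, hu, rfl⟩
      have e : n * g * u * (n * g)⁻¹ = n * (g * u * g⁻¹) * n⁻¹ := by group
      rw [e]
      exact hMQg _ (hSM (hnS _ hd))
        ((Subgroup.mem_normalizer_iff.mp (hHN hn) _).mp (hU'Qg hd))
    · obtain ⟨y', hy'S, hy'M, hy'norm⟩ := norm_cond S' (T ⊔ U) hS'2 hMS' hSM
      obtain ⟨y, hyQg, u', hu', hy'e⟩ := decomp U Qg hUNg (by rw [← hHdef]; exact hS'H hy'S)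
      have hu'M : u' ∈ T ⊔ U := Subgroup.mem_sup_right hu'
      have hye : y = y' * u'⁻¹ := by rw [hy'e]; group
      have hyM : y ∉ T ⊔ U := by
        intro h
        apply hy'M
        rw [hy'e]
        exact Subgroup.mul_mem _ h hu'M
      have hyS' : y ∈ S' := by
        rw [hye]; exact S'.mul_mem hy'S (S'.inv_mem (hMS' hu'M))
      have hynorm : ∀ m ∈ T ⊔ U, y * m * y⁻¹ ∈ T ⊔ U := by
        intro m hm
        have e : y * m * y⁻¹ = y' * (u'⁻¹ * m * u'⁻¹⁻¹) * y'⁻¹ := by rw [hye]; group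
        rw [e]
        apply hy'norm
        exact Subgroup.mul_mem _ (Subgroup.mul_mem _ (Subgroup.inv_mem _ hu'M) hm)
          (Subgroup.inv_mem _ (Subgroup.inv_mem _ hu'M))
      have hV : U.map (MulAut.conj y).toMonoidHom ≤ U ⊔ T := by
        rw [sup_comm]
        rintro _ ⟨u, hu, rfl⟩
        exact hynorm u (Subgroup.mem_sup_right hu)
      have hVU : U.map (MulAut.conj y).toMonoidHom ⊓ U = ⊥ := by
        rw [eq_bot_iff]
        rintro x ⟨hxV, hxU⟩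
        rw [Subgroup.mem_bot]
        by_contra hx1
        apply hyM
        have hyN : y ∈ Subgroup.normalizer (Q : Set G) :=
          tight hQ y x hx1 U hU2 hxU (hUQ hxU) (Subgroup.map_mono hUQ hxV)
        have hDle : T ⊔ Subgroup.zpowers y ≤ Qg ⊓ Subgroup.normalizer (Q : Set G) :=
          sup_le hT (Subgroup.zpowers_le.mpr ⟨hyQg, hyN⟩)
        have hD2 : IsPGroup 2 ↥(T ⊔ Subgroup.zpowers y) :=
          hS'2.to_le (sup_le (le_sup_left.trans hMS') (Subgroup.zpowers_le.mpr hyS'))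
        have hTD := Cfsg.Agent.Lib_helper7_Alperin.eq_of_relIndex T (T ⊔ Subgroup.zpowers y)
          (Qg ⊓ Subgroup.normalizer (Q : Set G)) le_sup_left hDle hD2 hTidx
        have hyT : y ∈ T := by
          rw [hTD]; exact Subgroup.mem_sup_right (Subgroup.mem_zpowers y)
        exact Subgroup.mem_sup_left hyT
      obtain ⟨f₁, hf₁⟩ := conj_hom_injective U (U.map (MulAut.conj y).toMonoidHom) y
        (fun a ha => ⟨a, ha, rfl⟩)
      obtain ⟨f₂, hf₂⟩ := exists_injective_of_inf_eq_bot U T _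
        (fun u hu t ht => (hcomm t ht u hu).symm) (by rw [inf_comm]; exact hTU) hV hVU
      exact ⟨f₂.comp f₁, hf₂.comp hf₁⟩
  obtain ⟨f, hf⟩ := hI
  obtain ⟨f', hf'⟩ := hII
  have hcard : Nat.card ↥T ≤ Nat.card ↥U := Nat.card_le_card_of_injective f hf
  exact ⟨MulEquiv.ofBijective f' (hf'.bijective_of_nat_card_le hcard)⟩

end Cfsg.Agent.Lib_helper7_Tight
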