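import Mathlib
import Cfsg.Prelude.Def_LocalStructure
import Cfsg.Agent.Lib_helper7_PIrr3

set_option autoImplicit false

namespace Cfsg.Agent.Lib_helper7_YMin

open Cfsg.Agent.Lib_helper7_Sylow Cfsg.Agent.Lib_helper7_Alperin Cfsg.Agent.Lib_helper7_WellPlaced
open Cfsg.Agent.Lib_helper7_WC Cfsg.Agent.Lib_helper7_Large Cfsg.Agent.Lib_helper7_PReduced
open Cfsg.Agent.Lib_helper7_PReduced2 Cfsg.Agent.Lib_helper7_PReduced3 Cfsg.Agent.Lib_helper7_PIrr
open Cfsg.Agent.Lib_helper7_PIrr2 Cfsg.Agent.Lib_helper7_PIrr3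

variable {L : Type*} [Group L] [Finite L] {p : ℕ} [Fact p.Prime]

theorem index_eq_of_sup_eq_top (D M : Subgroup L) [D.Normal] (h : M ⊔ D = ⊤) :
    M.index = (D ⊓ M).relIndex D := by
  have h1 : D.index = (D ⊓ M).relIndex M := by
    rw [Subgroup.inf_relIndex_right, ← Subgroup.relIndex_sup_right M D, h,
      Subgroup.relIndex_top_right]
  have h2 : (D ⊓ M).relIndex M * M.index = (D ⊓ M).index := Subgroup.relIndex_mul_index inf_le_right
  have h3 : (D ⊓ M).relIndex D * D.index = (D ⊓ M).index := Subgroup.relIndex_mul_index inf_le_left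
  rw [h1] at h3
  have hne : (D ⊓ M).relIndex M ≠ 0 := by
    have : (D ⊓ M).index ≠ 0 := Subgroup.index_ne_zero_of_finite
    intro h0
    rw [h0, zero_mul] at h2
    exact this h2.symm
  have h4 : (D ⊓ M).relIndex M * M.index = (D ⊓ M).relIndex M * (D ⊓ M).relIndex D := by
    rw [h2, ← h3, mul_comm]
  exact Nat.eq_of_mul_eq_mul_left (Nat.pos_of_ne_zero hne) h4

theorem exists_conj_le_of_not_dvd_index (P : Sylow p L) (M : Subgroup L) (h : ¬ p ∣ M.index) :
    ∃ n : L, ∀ x ∈ (P : Subgroup L), n * x * n⁻¹ ∈ M := by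
  obtain ⟨R, -, hRM, hRp, hRidx⟩ := exists_relIndex_ge M ⊥ bot_le (IsPGroup.of_bot : IsPGroup p (⊥ : Subgroup L))
  have hidx : ¬ p ∣ R.relIndex ⊤ := by
    rw [Subgroup.relIndex_top_right, ← Subgroup.relIndex_mul_index hRM]
    intro hd
    rcases (Nat.Prime.dvd_mul (Fact.out : p.Prime)).mp hd with h1 | h1
    · exact hRidx h1
    · exact h h1
  obtain ⟨n, -, hn⟩ := exists_conj_of_relIndex R ⊤ (P : Subgroup L) hRp hidx le_top P.isPGroup'
  exact ⟨n, fun x hx => hRM (hn x hx)⟩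

theorem le_frattini {K : Type*} [Group K] (X : Subgroup K)
    (h : ∀ M : Subgroup K, IsCoatom M → X ≤ M) : X ≤ frattini K := by
  unfold frattini Order.radical
  exact le_iInf₂ (fun M hM => h M hM)

theorem pCore_subgroupOf_normal (N : Subgroup L) [hN : N.Normal] :
    Cfsg.pCore p ↥N = (Cfsg.pCore p L).subgroupOf N := by
  apply le_antisymm
  · intro x hx
    rw [Subgroup.mem_subgroupOf]
    exact pCoreOf_le_pCore_of_subnormal N hN.isSubnormal ⟨x, hx, rfl⟩
  · apply Cfsg.Agent.Lib_helper7_PCore.le_pCore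
    · have := Cfsg.Agent.Lib_helper7_PCore.pCore_normal (G := L) p
      infer_instance
    · exact (Cfsg.Agent.Lib_helper7_PCore.pCore_isPGroup p).comap_subtype

section Setup

variable (L₀ Y : Subgroup L) (hL₀ : IsCoatom L₀) (hYL : Y ≤ L₀)
  (huniq : ∀ M' : Subgroup L, IsCoatom M' ∧ Y ≤ M' → M' = L₀)
  (P : Sylow p L) (hYP : Y ≤ (P : Subgroup L))

include hL₀ hYL huniq hYP

/-- A normal subgroup inside the unique maximal subgroup over `Y` meets `P` in a normal
subgroup. -/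
theorem inf_normal_of_le (N : Subgroup L) [hN : N.Normal] (hNL : N ≤ L₀) :
    ((P : Subgroup L) ⊓ N).Normal := by
  have key := le_of_minimalOver hL₀ hYL huniq
  rw [← Subgroup.normalizer_eq_top_iff]
  by_contra hne
  have h1 := key _ (hYP.trans (sylow_le_normalizer_inf (p := p) (P : Subgroup L) N)) hne
  have : (⊤ : Subgroup L) ≤ L₀ := by
    intro g _
    obtain ⟨a, ha, c, hc, rfl⟩ := frattini_inf P N g
    exact L₀.mul_mem (h1 ha) (hNL hc)
  exact hL₀.1 (top_le_iff.mp this)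

/-- The core of `L₀` lies in every maximal subgroup containing `O_p(L)`. -/
theorem normalCore_le_coatom (M : Subgroup L) (hM : IsCoatom M) (hRM : Cfsg.pCore p L ≤ M) :
    L₀.normalCore ≤ M := by
  by_contra hDM
  have hsup : M ⊔ L₀.normalCore = ⊤ := by
    apply hM.2
    exact lt_of_le_of_ne le_sup_left (fun h => hDM (h ▸ le_sup_right))
  have hn := inf_normal_of_le L₀ Y hL₀ hYL huniq P hYP L₀.normalCore (Subgroup.normalCore_le L₀)
  have h1 : (P : Subgroup L) ⊓ L₀.normalCore ≤ L₀.normalCore ⊓ M :=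
    le_inf inf_le_right ((Cfsg.Agent.Lib_helper7_PCore.le_pCore hn
      (P.isPGroup'.to_le inf_le_left)).trans hRM)
  have h2 : ¬ p ∣ M.index := by
    rw [index_eq_of_sup_eq_top L₀.normalCore M hsup]
    intro hd
    exact Cfsg.Agent.Lib_helper7_PPrimeP.sylow_inf_normal P L₀.normalCore
      (hd.trans (Subgroup.relIndex_dvd_of_le_left _ h1))
  obtain ⟨n, hn'⟩ := exists_conj_le_of_not_dvd_index P M h2
  -- `M` conjugated back is a coatom over `Y`
  have hco : IsCoatom (M.map (MulAut.conj n⁻¹).toMonoidHom) :=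
    ((MulAut.conj n⁻¹).mapSubgroup.isCoatom_iff M).mpr hM
  have hY2 : Y ≤ M.map (MulAut.conj n⁻¹).toMonoidHom := by
    intro y hy
    refine ⟨n * y * n⁻¹, hn' y (hYP hy), ?_⟩
    simp only [MulEquiv.coe_toMonoidHom, MulAut.conj_apply]
    group
  have h6 := huniq _ ⟨hco, hY2⟩
  apply hDM
  intro d hd
  have hd' : n⁻¹ * d * n⁻¹⁻¹ ∈ L₀.normalCore :=
    (Subgroup.normalCore_normal L₀).conj_mem d hd n⁻¹
  have hd'' := Subgroup.normalCore_le L₀ hd'
  rw [← h6] at hd''
  obtain ⟨m, hm, hmd⟩ := hd''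
  simp only [MulEquiv.coe_toMonoidHom, MulAut.conj_apply] at hmd
  have : m = d := by
    have e : n⁻¹ * m * n⁻¹⁻¹ = n⁻¹ * d * n⁻¹⁻¹ := hmd
    exact mul_left_cancel (mul_right_cancel e)
  rw [← this]; exact hm

end Setup

/-- The Sylow subgroup of the maximal subgroup `L₀` containing `Y` is a Sylow subgroup of `L`
(S2835). -/
theorem exists_sylow_eq (L₀ : Subgroup L) (hL₀ : IsCoatom L₀) (T : Sylow p ↥L₀) (Y : Subgroup L)
    (hYT : Y ≤ (T : Subgroup ↥L₀).map L₀.subtype) (hmin : Cfsg.IsMinimalOver Y) :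
    (∀ M' : Subgroup L, IsCoatom M' ∧ Y ≤ M' → M' = L₀) ∧
    ∃ P : Sylow p L, (P : Subgroup L) = (T : Subgroup ↥L₀).map L₀.subtype := by
  obtain ⟨hgen, M, ⟨hM, hYM⟩, huniq⟩ := hmin
  have hTL : (T : Subgroup ↥L₀).map L₀.subtype ≤ L₀ := Subgroup.map_subtype_le _
  have hYL : Y ≤ L₀ := hYT.trans hTL
  have hML : L₀ = M := huniq L₀ ⟨hL₀, hYL⟩
  subst hML
  refine ⟨huniq, ?_⟩
  have key := le_of_minimalOver hL₀ hYL huniq
  have hnn : ∀ X : Subgroup L, X.Normal → Y ≤ X → X = ⊤ := by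
    intro X hX hYX
    haveI := hX
    rw [eq_top_iff, ← hgen]
    exact Subgroup.normalClosure_le_normal (SetLike.coe_subset_coe.mpr hYX)
  have hTp : IsPGroup p ↥((T : Subgroup ↥L₀).map L₀.subtype) := T.isPGroup'.map _
  have h1 : Subgroup.normalizer (((T : Subgroup ↥L₀).map L₀.subtype : Subgroup L) : Set L) ≤ L₀ := by
    apply key _ (hYT.trans Subgroup.le_normalizer)
    intro htop
    have hn : ((T : Subgroup ↥L₀).map L₀.subtype).Normal := Subgroup.normalizer_eq_top_iff.mp htop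
    have := hnn _ hn hYT
    exact hL₀.1 (top_le_iff.mp (this ▸ hTL))
  obtain ⟨P, hP⟩ := hTp.exists_le_sylow
  refine ⟨P, ?_⟩
  by_contra hne
  have hlt : (T : Subgroup ↥L₀).map L₀.subtype < (P : Subgroup L) :=
    lt_of_le_of_ne hP (Ne.symm hne)
  obtain ⟨t, htP, htN, htT⟩ := exists_mem_normalizer_not_mem P.isPGroup' hlt
  have htL : t ∈ L₀ := h1 htN
  have hQ : IsPGroup p ↥(((P : Subgroup L) ⊓ L₀).subgroupOf L₀) :=
    (P.isPGroup'.to_le inf_le_left).comap_subtype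
  have hTQ : (T : Subgroup ↥L₀) ≤ ((P : Subgroup L) ⊓ L₀).subgroupOf L₀ := by
    intro x hx
    rw [Subgroup.mem_subgroupOf]
    exact ⟨hP ⟨x, hx, rfl⟩, x.2⟩
  have hEq := T.is_maximal' hQ hTQ
  have hmem : (⟨t, htL⟩ : ↥L₀) ∈ (T : Subgroup ↥L₀) := by
    rw [← hEq, Subgroup.mem_subgroupOf]; exact ⟨htP, htL⟩
  exact htT ⟨⟨t, htL⟩, hmem, rfl⟩


/-- S2836. -/
theorem core_frattini (L₀ : Subgroup L) (hL₀ : IsCoatom L₀) (T : Sylow p ↥L₀) (Y : Subgroup L)
    (hYT : Y ≤ (T : Subgroup ↥L₀).map L₀.subtype) (hmin : Cfsg.IsMinimalOver Y) :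
    (Cfsg.pCore p L ≤ L₀.normalCore ∧
      (L₀.normalCore).map (QuotientGroup.mk' (Cfsg.pCore p L)) = frattini (L ⧸ Cfsg.pCore p L) ∧
      Cfsg.IsPClosed p ↥(L₀.normalCore)) ∧
    ∀ (N : Subgroup L) [N.Normal], N ≤ L₀ → Cfsg.IsPClosed p ↥N ∧
      Group.IsNilpotent (↥N ⧸ Cfsg.pCore p ↥N) ∧
      (Nat.card (↥N ⧸ Cfsg.pCore p ↥N)).Coprime p := by
  obtain ⟨huniq, P, hP⟩ := exists_sylow_eq L₀ hL₀ T Y hYT hmin
  have hPL : (P : Subgroup L) ≤ L₀ := hP ▸ Subgroup.map_subtype_le _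
  have hYP : Y ≤ (P : Subgroup L) := hP ▸ hYT
  have hYL : Y ≤ L₀ := hYP.trans hPL
  haveI hRn := Cfsg.Agent.Lib_helper7_PCore.pCore_normal (G := L) p
  have hRL : Cfsg.pCore p L ≤ L₀ := (Cfsg.Agent.Lib_helper7_PCore.pCore_le_sylow P).trans hPL
  have hRD : Cfsg.pCore p L ≤ L₀.normalCore := Subgroup.normal_le_normalCore.mpr hRL
  have hmk := QuotientGroup.mk'_surjective (Cfsg.pCore p L)
  have hfr : (L₀.normalCore).map (QuotientGroup.mk' (Cfsg.pCore p L))
      = frattini (L ⧸ Cfsg.pCore p L) := by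
    apply le_antisymm
    · apply le_frattini
      intro M hM
      rw [Subgroup.map_le_iff_le_comap]
      apply normalCore_le_coatom L₀ Y hL₀ hYL huniq P hYP _
        (Subgroup.isCoatom_comap_of_surjective hmk hM)
      intro x hx
      rw [Subgroup.mem_comap]
      have : (QuotientGroup.mk' (Cfsg.pCore p L)) x = 1 := (QuotientGroup.eq_one_iff x).mpr hx
      rw [this]; exact M.one_mem
    · have h1 : frattini (L ⧸ Cfsg.pCore p L) ≤ L₀.map (QuotientGroup.mk' (Cfsg.pCore p L)) :=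
        frattini_le_coatom (isCoatom_map_mk _ L₀ hRL hL₀)
      have h2 : (frattini (L ⧸ Cfsg.pCore p L)).comap (QuotientGroup.mk' (Cfsg.pCore p L))
          ≤ L₀ := by
        have := Subgroup.comap_mono (f := QuotientGroup.mk' (Cfsg.pCore p L)) h1
        rw [Subgroup.comap_map_eq, QuotientGroup.ker_mk', sup_eq_left.mpr hRL] at this
        exact this
      haveI : ((frattini (L ⧸ Cfsg.pCore p L)).comap
          (QuotientGroup.mk' (Cfsg.pCore p L))).Normal := inferInstance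
      have h3 := Subgroup.normal_le_normalCore.mpr h2
      have h4 := Subgroup.map_mono (f := QuotientGroup.mk' (Cfsg.pCore p L)) h3
      rw [Subgroup.map_comap_eq_self_of_surjective hmk] at h4
      exact h4
  have hcl : ∀ (N : Subgroup L) [N.Normal], N ≤ L₀ → Cfsg.IsPClosed p ↥N := by
    intro N _ hNL
    rw [isPClosed_iff_inf_normal P N]
    exact inf_normal_of_le L₀ Y hL₀ hYL huniq P hYP N hNL
  refine ⟨⟨hRD, hfr, hcl _ (Subgroup.normalCore_le L₀)⟩, ?_⟩
  intro N hN hNL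
  refine ⟨hcl N hNL, ?_, ?_⟩
  · have hND : N ≤ L₀.normalCore := Subgroup.normal_le_normalCore.mpr hNL
    have hker : Cfsg.pCore p ↥N
        = ((QuotientGroup.mk' (Cfsg.pCore p L)).comp N.subtype).ker := by
      rw [pCore_subgroupOf_normal N]
      ext x
      rw [Subgroup.mem_subgroupOf, MonoidHom.mem_ker]
      show _ ↔ (QuotientGroup.mk' (Cfsg.pCore p L)) (x : L) = 1
      exact (QuotientGroup.eq_one_iff (x : L)).symm
    have hrange : ((QuotientGroup.mk' (Cfsg.pCore p L)).comp N.subtype).range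
        ≤ frattini (L ⧸ Cfsg.pCore p L) := by
      rw [← hfr]
      rintro _ ⟨x, rfl⟩
      exact ⟨x, hND x.2, rfl⟩
    haveI : Group.IsNilpotent ↥(frattini (L ⧸ Cfsg.pCore p L)) := frattini_nilpotent
    haveI : Group.IsNilpotent
        ↥(((QuotientGroup.mk' (Cfsg.pCore p L)).comp N.subtype).range.subgroupOf
          (frattini (L ⧸ Cfsg.pCore p L))) := inferInstance
    haveI : Group.IsNilpotent ↥((QuotientGroup.mk' (Cfsg.pCore p L)).comp N.subtype).range :=
      Group.nilpotent_of_mulEquiv (Subgroup.subgroupOfEquivOfLe hrange)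
    haveI : Group.IsNilpotent (↥N ⧸ ((QuotientGroup.mk' (Cfsg.pCore p L)).comp N.subtype).ker) :=
      Group.nilpotent_of_mulEquiv
        (QuotientGroup.quotientKerEquivRange ((QuotientGroup.mk' (Cfsg.pCore p L)).comp N.subtype)).symm
    haveI := Cfsg.Agent.Lib_helper7_PCore.pCore_normal (G := ↥N) p
    exact Group.nilpotent_of_mulEquiv (QuotientGroup.quotientMulEquivOfEq hker).symm
  · rw [← Subgroup.index_eq_card, pCore_subgroupOf_normal N]
    show Nat.Coprime ((Cfsg.pCore p L).relIndex N) p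
    rw [← Subgroup.inf_relIndex_right]
    have hn := inf_normal_of_le L₀ Y hL₀ hYL huniq P hYP N hNL
    have h1 : (P : Subgroup L) ⊓ N ≤ Cfsg.pCore p L ⊓ N :=
      le_inf (Cfsg.Agent.Lib_helper7_PCore.le_pCore hn (P.isPGroup'.to_le inf_le_left))
        inf_le_right
    have h2 : ¬ p ∣ (Cfsg.pCore p L ⊓ N).relIndex N := fun hd =>
      Cfsg.Agent.Lib_helper7_PPrimeP.sylow_inf_normal P N
        (hd.trans (Subgroup.relIndex_dvd_of_le_left _ h1))
    exact ((Nat.Prime.coprime_iff_not_dvd Fact.out).2 h2).symm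

end Cfsg.Agent.Lib_helper7_YMin
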