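import Mathlib
import Cfsg.Prelude.Def_IsolatedElements
import Cfsg.Agent.Lib_helper2_PComp
import Cfsg.Agent.Lib_helper7_PPrime
import Cfsg.Agent.Lib_helper7_PPrimeP
import Cfsg.Agent.Lib_helper7_SylSubn
import Cfsg.Agent.Lib_helper7_Sylow

set_option autoImplicit false

namespace Cfsg.Agent.Lib_helper7_ZpMin

variable {G : Type*} [Group G] [Finite G] {p : ℕ} [Fact p.Prime]

theorem zpowers_commute {x c z : G} (hz : z ∈ Subgroup.zpowers x) (h : x * c = c * x) :
    z * c = c * z := by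
  obtain ⟨k, rfl⟩ := Subgroup.mem_zpowers_iff.mp hz
  exact ((show Commute x c from h).zpow_left k).eq

/-- An isolated element of a `p`-subgroup is central in it. -/
theorem isolated_central_of_pgroup (P : Subgroup G) (hP : IsPGroup p P) (x : G) (hxP : x ∈ P)
    (hiso : Cfsg.IsIsolated x) : ∀ u ∈ P, u * x = x * u := by
  haveI : Group.IsNilpotent ↥P := hP.isNilpotent
  by_contra hcon
  push_neg at hcon
  obtain ⟨u, huP, hux⟩ := hcon
  obtain ⟨C, hCdef⟩ : ∃ C : Subgroup ↥P, C = Subgroup.centralizer ({⟨x, hxP⟩} : Set ↥P) :=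
    ⟨_, rfl⟩
  have hCmem : ∀ g : ↥P, g ∈ C ↔ (g : G) * x = x * g := by
    intro g
    rw [hCdef, Subgroup.mem_centralizer_iff]
    constructor
    · intro h
      have := h ⟨x, hxP⟩ rfl
      exact (congrArg Subtype.val this).symm
    · intro h y hy
      rw [Set.mem_singleton_iff] at hy
      rw [hy]
      exact Subtype.ext h.symm
  have hCtop : C < ⊤ := by
    rw [lt_top_iff_ne_top]
    intro h
    have : (⟨u, huP⟩ : ↥P) ∈ C := by rw [h]; exact Subgroup.mem_top _
    exact hux ((hCmem _).mp this)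
  have hnc := Group.normalizerCondition_of_isNilpotent (G := ↥P) C hCtop
  obtain ⟨g, hgN, hgC⟩ := SetLike.exists_of_lt hnc
  apply hgC
  rw [hCmem]
  have hxC : (⟨x, hxP⟩ : ↥P) ∈ C := (hCmem _).mpr rfl
  have h1 : g * ⟨x, hxP⟩ * g⁻¹ ∈ C := (Subgroup.mem_normalizer_iff.mp hgN _).mp hxC
  have h2 : (g : G) * x * (g : G)⁻¹ * x = x * ((g : G) * x * (g : G)⁻¹) := (hCmem _).mp h1
  have h3 : (g : G) * x * (g : G)⁻¹ = x := hiso (g : G) h2.symm
  calc (g : G) * x = (g : G) * x * (g : G)⁻¹ * g := by group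
    _ = x * g := by rw [h3]

theorem eq_bot_of_subnormal_le (hO : Cfsg.pPrimeCore p G = ⊥) (H D : Subgroup G)
    (hD : D.IsSubnormal) (hDW : D ≤ (Cfsg.pPrimeCore p ↥H).map H.subtype) : D = ⊥ := by
  have hc : (Nat.card D).Coprime p := by
    have h1 : Nat.card ↥((Cfsg.pPrimeCore p ↥H).map H.subtype) =
        Nat.card ↥(Cfsg.pPrimeCore p ↥H) :=
      (Nat.card_congr ((Cfsg.pPrimeCore p ↥H).equivMapOfInjective H.subtype
        H.subtype_injective).toEquiv).symm
    have h2 := Subgroup.card_dvd_of_le hDW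
    rw [h1] at h2
    exact Nat.Coprime.coprime_dvd_left h2
      (Cfsg.Agent.Lib_helper7_PPrime.card_pPrimeCore_coprime (G := ↥H) p)
  have := Cfsg.Agent.Lib_helper2_PComp.subnormal_pprime_le p D hD hc
  rw [hO] at this
  exact eq_bot_iff.mpr this

theorem inZStar_of_central (hO : Cfsg.pPrimeCore p G = ⊥) (x : G) (hiso : Cfsg.IsIsolated x)
    (hquot : ∀ (N : Subgroup G) [N.Normal], N ≠ ⊥ → Cfsg.InZStar p (QuotientGroup.mk x : G ⧸ N))
    (z : G) (hz : z ∈ Subgroup.center G) (hzo : orderOf z = p) : Cfsg.InZStar p x := by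
  have hp : p.Prime := Fact.out
  obtain ⟨N, hNdef⟩ : ∃ N : Subgroup G, N = Subgroup.zpowers z := ⟨_, rfl⟩
  have hNc : N ≤ Subgroup.center G := by rw [hNdef]; exact Subgroup.zpowers_le.mpr hz
  haveI hNn : N.Normal := by
    constructor
    intro n hn g
    have h1 : g * n = n * g := (Subgroup.mem_center_iff.mp (hNc hn) g)
    have : g * n * g⁻¹ = n := by rw [h1]; group
    rw [this]; exact hn
  have hNcard : Nat.card N = p := by rw [hNdef, Nat.card_zpowers, hzo]
  have hN1 : N ≠ ⊥ := by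
    intro h
    rw [h, Subgroup.card_bot] at hNcard
    exact hp.one_lt.ne hNcard
  have hq := hquot N hN1
  obtain ⟨M, hMdef⟩ : ∃ M : Subgroup G,
    M = (Cfsg.pPrimeCore p (G ⧸ N)).comap (QuotientGroup.mk' N) := ⟨_, rfl⟩
  have hNM : N ≤ M := by
    rw [hMdef]
    intro n hn
    rw [Subgroup.mem_comap, QuotientGroup.mk'_apply, (QuotientGroup.eq_one_iff n).mpr hn]
    exact Subgroup.one_mem _
  haveI hMn : M.Normal := by rw [hMdef]; exact Subgroup.Normal.comap inferInstance _
  have hxM : ∀ g : G, g * x * g⁻¹ * x⁻¹ ∈ M := by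
    intro g
    rw [hMdef, Subgroup.mem_comap]
    exact hq (QuotientGroup.mk g)
  have hidx : N.relIndex M = Nat.card ↥(Cfsg.pPrimeCore p (G ⧸ N)) := by
    have h1 := Subgroup.relIndex_comap (⊥ : Subgroup (G ⧸ N)) (QuotientGroup.mk' N) M
    rw [MonoidHom.comap_bot, QuotientGroup.ker_mk', Subgroup.relIndex_bot_left] at h1
    rw [h1, hMdef, Subgroup.map_comap_eq_self_of_surjective (QuotientGroup.mk'_surjective N)]
  have hcop : (Nat.card ↥(N.subgroupOf M)).Coprime (N.subgroupOf M).index := by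
    have e1 : Nat.card ↥(N.subgroupOf M) = p := by
      rw [Nat.card_congr (Subgroup.subgroupOfEquivOfLe hNM).toEquiv, hNcard]
    have e2 : (N.subgroupOf M).index = Nat.card ↥(Cfsg.pPrimeCore p (G ⧸ N)) := hidx
    rw [e1, e2]
    exact (Cfsg.Agent.Lib_helper7_PPrime.card_pPrimeCore_coprime p).symm
  haveI : (N.subgroupOf M).Normal := hNn.subgroupOf M
  obtain ⟨K', hK'⟩ := Subgroup.exists_left_complement'_of_coprime hcop
  have hK'n : K'.Normal := by
    constructor
    intro k hk m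
    obtain ⟨⟨⟨k₁, hk₁⟩, ⟨n, hn⟩⟩, hkn⟩ := hK'.2 m
    have hkn' : k₁ * n = m := hkn
    have hnc : ∀ y : ↥M, n * y = y * n := by
      intro y
      apply Subtype.ext
      have := Subgroup.mem_center_iff.mp (hNc (Subgroup.mem_subgroupOf.mp hn)) (y : G)
      exact this.symm
    have e : m * k * m⁻¹ = k₁ * k * k₁⁻¹ := by
      rw [← hkn']
      calc k₁ * n * k * (k₁ * n)⁻¹ = k₁ * (n * k) * n⁻¹ * k₁⁻¹ := by group
        _ = k₁ * (k * n) * n⁻¹ * k₁⁻¹ := by rw [hnc k]
        _ = k₁ * k * k₁⁻¹ := by group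
    rw [e]
    exact K'.mul_mem (K'.mul_mem hk₁ hk) (K'.inv_mem hk₁)
  obtain ⟨K, hKdef⟩ : ∃ K : Subgroup G, K = K'.map M.subtype := ⟨_, rfl⟩
  have hKM : K ≤ M := by rw [hKdef]; exact Subgroup.map_subtype_le K'
  have hKsub : K.IsSubnormal := by
    refine Subgroup.IsSubnormal.step K M hKM hMn.isSubnormal ?_
    have : K.subgroupOf M = K' := by
      rw [hKdef]; exact Subgroup.comap_map_eq_self_of_injective M.subtype_injective K'
    rw [this]; exact hK'n
  have hKc : (Nat.card K).Coprime p := by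
    have e1 : Nat.card K = Nat.card K' := by
      rw [hKdef]
      exact (Nat.card_congr (K'.equivMapOfInjective M.subtype M.subtype_injective).toEquiv).symm
    rw [e1, ← hK'.index_eq_card]
    have e2 : (N.subgroupOf M).index = Nat.card ↥(Cfsg.pPrimeCore p (G ⧸ N)) := hidx
    rw [e2]
    exact Cfsg.Agent.Lib_helper7_PPrime.card_pPrimeCore_coprime p
  have hKbot : K = ⊥ := by
    have := Cfsg.Agent.Lib_helper2_PComp.subnormal_pprime_le p K hKsub hKc
    rw [hO] at this
    exact eq_bot_iff.mpr this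
  have hK'bot : K' = ⊥ := by
    rw [hKdef] at hKbot
    exact (Subgroup.map_eq_bot_iff_of_injective _ M.subtype_injective).mp hKbot
  have hMN : M ≤ N := by
    have h1 := hK'.sup_eq_top
    rw [hK'bot, bot_sup_eq] at h1
    intro m hm
    have : (⟨m, hm⟩ : ↥M) ∈ N.subgroupOf M := by rw [h1]; exact Subgroup.mem_top _
    exact Subgroup.mem_subgroupOf.mp this
  intro g
  have hc := hNc (hMN (hxM g))
  have hcomm : Commute x (g * x * g⁻¹) := by
    have e : g * x * g⁻¹ = (g * x * g⁻¹ * x⁻¹) * x := by group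
    rw [e]
    show x * (g * x * g⁻¹ * x⁻¹ * x) = (g * x * g⁻¹ * x⁻¹ * x) * x
    have h1 := Subgroup.mem_center_iff.mp hc x
    calc x * (g * x * g⁻¹ * x⁻¹ * x) = (x * (g * x * g⁻¹ * x⁻¹)) * x := by group
      _ = (g * x * g⁻¹ * x⁻¹ * x) * x := by rw [h1]
  have h2 := hiso g hcomm
  have : g * x * g⁻¹ * x⁻¹ = 1 := by rw [h2]; group
  rw [this]
  exact Subgroup.one_mem _

theorem zp_min (x : G) (hx : orderOf x = p) (hiso : Cfsg.IsIsolated x)
    (hnz : ¬ Cfsg.InZStar p x)
    (hmin : ∀ (H : Subgroup G) (hxH : x ∈ H), H ≠ ⊤ → Cfsg.InZStar p (⟨x, hxH⟩ : ↥H))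
    (hquot : ∀ (N : Subgroup G) [N.Normal], N ≠ ⊥ → Cfsg.InZStar p (QuotientGroup.mk x : G ⧸ N)) :
    IsSimpleGroup ↥(commutator G) ∧ ¬ IsMulCommutative ↥(commutator G) ∧
      commutator G ⊔ Subgroup.zpowers x = ⊤ := by
  have hp : p.Prime := Fact.out
  have hcentral : (∀ g : G, g * x = x * g) → False := by
    intro h
    apply hnz
    intro g
    have : g * x * g⁻¹ * x⁻¹ = 1 := by rw [h g]; group
    rw [this]; exact Subgroup.one_mem _
  have hO : Cfsg.pPrimeCore p G = ⊥ := by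
    by_contra hne
    apply hnz
    intro g
    have h1 := hquot (Cfsg.pPrimeCore p G) hne (QuotientGroup.mk g)
    rw [Cfsg.Agent.Lib_helper2_PComp.pPrimeCore_quotient_bot, Subgroup.mem_bot] at h1
    exact (QuotientGroup.eq_one_iff _).mp h1
  have hL1 : ∀ (H : Subgroup G), x ∈ H → H ≠ ⊤ → ∀ h ∈ H,
      h * x * h⁻¹ * x⁻¹ ∈ (Cfsg.pPrimeCore p ↥H).map H.subtype := by
    intro H hxH hH h hh
    exact ⟨_, hmin H hxH hH ⟨h, hh⟩, rfl⟩
  have hncl : Subgroup.normalClosure ({x} : Set G) = ⊤ := by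
    by_contra hne
    obtain ⟨K, hKdef⟩ : ∃ K : Subgroup G, K = Subgroup.normalClosure ({x} : Set G) := ⟨_, rfl⟩
    rw [← hKdef] at hne
    haveI hKn : K.Normal := by rw [hKdef]; exact Subgroup.normalClosure_normal
    have hxK : x ∈ K := by rw [hKdef]; exact Subgroup.subset_normalClosure (Set.mem_singleton x)
    have hW : (Cfsg.pPrimeCore p ↥K).map K.subtype = ⊥ := by
      apply eq_bot_of_subnormal_le hO K _ _ le_rfl
      refine Subgroup.IsSubnormal.step _ K (Subgroup.map_subtype_le _) hKn.isSubnormal ?_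
      have : ((Cfsg.pPrimeCore p ↥K).map K.subtype).subgroupOf K = Cfsg.pPrimeCore p ↥K :=
        Subgroup.comap_map_eq_self_of_injective K.subtype_injective _
      rw [this]; infer_instance
    apply hcentral
    intro g
    have hgK : g * x * g⁻¹ ∈ K := hKn.conj_mem x hxK g
    have h1 := hL1 K hxK hne (g * x * g⁻¹) hgK
    rw [hW, Subgroup.mem_bot] at h1
    have hcomm : Commute x (g * x * g⁻¹) := by
      show x * (g * x * g⁻¹) = (g * x * g⁻¹) * x
      have : (g * x * g⁻¹) * x =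
          (g * x * g⁻¹ * x * (g * x * g⁻¹)⁻¹ * x⁻¹) * (x * (g * x * g⁻¹)) := by group
      rw [this, h1, one_mul]
    have h2 := hiso g hcomm
    calc g * x = g * x * g⁻¹ * g := by group
      _ = x * g := by rw [h2]
  have hx1 : x ≠ 1 := by
    intro h
    rw [h, orderOf_one] at hx
    exact hp.one_lt.ne hx
  obtain ⟨N, hNn, hN1, hNmin⟩ : ∃ N : Subgroup G, N.Normal ∧ N ≠ ⊥ ∧
      ∀ M : Subgroup G, M.Normal → M ≠ ⊥ → M ≤ N → M = N := by
    classical
    have htop : (⊤ : Subgroup G) ≠ ⊥ := by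
      intro h
      have : x ∈ (⊥ : Subgroup G) := by rw [← h]; exact Subgroup.mem_top x
      exact hx1 (Subgroup.mem_bot.mp this)
    have hne : ∃ n : ℕ, ∃ N : Subgroup G, N.Normal ∧ N ≠ ⊥ ∧ Nat.card N = n :=
      ⟨_, ⊤, inferInstance, htop, rfl⟩
    obtain ⟨N, hNn, hN1, hNc⟩ := Nat.find_spec hne
    refine ⟨N, hNn, hN1, fun M hMn hM1 hMN => ?_⟩
    have h1 : Nat.find hne ≤ Nat.card M := Nat.find_min' hne ⟨M, hMn, hM1, rfl⟩
    exact Subgroup.eq_of_le_of_card_ge hMN (by rw [hNc]; exact h1)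
  haveI := hNn
  have hpN : p ∣ Nat.card N := by
    by_contra hnd
    have hc : (Nat.card N).Coprime p := ((Nat.Prime.coprime_iff_not_dvd hp).mpr hnd).symm
    have := Cfsg.Agent.Lib_helper2_PComp.le_pPrimeCore' p N hNn hc
    rw [hO] at this
    exact hN1 (eq_bot_iff.mpr this)
  have hxp : IsPGroup p ↥(Subgroup.zpowers x) := by
    apply IsPGroup.of_card (n := 1)
    rw [Nat.card_zpowers, hx, pow_one]
  obtain ⟨P, hP⟩ := hxp.exists_le_sylow
  have hxP : x ∈ (P : Subgroup G) := hP (Subgroup.mem_zpowers x)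
  have hxZ := isolated_central_of_pgroup (P : Subgroup G) P.isPGroup' x hxP hiso
  have hPN : (P : Subgroup G) ⊓ N ≠ ⊥ := by
    intro h
    have h1 := Cfsg.Agent.Lib_helper7_PPrimeP.sylow_inf_normal P N
    rw [h, Subgroup.relIndex_bot_left] at h1
    exact h1 hpN
  have hdecomp : N ⊔ Subgroup.zpowers x = ⊤ →
      ∀ g : G, ∃ n ∈ N, ∃ z ∈ Subgroup.zpowers x, n * z = g := by
    intro h g
    have hg : g ∈ ((N ⊔ Subgroup.zpowers x : Subgroup G) : Set G) := by
      rw [h]; exact Subgroup.mem_top g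
    rw [Subgroup.normal_mul] at hg
    exact Set.mem_mul.mp hg
  have hNx : N ⊔ Subgroup.zpowers x = ⊤ := by
    by_contra hne
    obtain ⟨H, hHdef⟩ : ∃ H : Subgroup G, H = N ⊔ Subgroup.zpowers x := ⟨_, rfl⟩
    rw [← hHdef] at hne
    have hNH : N ≤ H := by rw [hHdef]; exact le_sup_left
    have hxH : x ∈ H := by rw [hHdef]; exact Subgroup.mem_sup_right (Subgroup.mem_zpowers x)
    obtain ⟨W, hWdef⟩ : ∃ W : Subgroup G, W = (Cfsg.pPrimeCore p ↥H).map H.subtype := ⟨_, rfl⟩
    have hWnorm : ∀ h ∈ H, ∀ w ∈ W, h * w * h⁻¹ ∈ W := by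
      intro h hh w hw
      rw [hWdef] at hw ⊢
      obtain ⟨w', hw', rfl⟩ := hw
      exact ⟨⟨h, hh⟩ * w' * ⟨h, hh⟩⁻¹,
        (inferInstance : (Cfsg.pPrimeCore p ↥H).Normal).conj_mem w' hw' ⟨h, hh⟩, rfl⟩
    have hD : N ⊓ W = ⊥ := by
      apply eq_bot_of_subnormal_le hO H _ _ (by rw [← hWdef]; exact inf_le_right)
      refine Subgroup.IsSubnormal.step _ N inf_le_left hNn.isSubnormal ?_
      constructor
      intro d hd n
      rw [Subgroup.mem_subgroupOf] at hd ⊢
      refine ⟨?_, ?_⟩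
      · exact N.mul_mem (N.mul_mem n.2 hd.1) (N.inv_mem n.2)
      · exact hWnorm n (hNH n.2) d hd.2
    have hNc : ∀ n ∈ N, n * x = x * n := by
      intro n hn
      have h1 : n * x * n⁻¹ * x⁻¹ ∈ N ⊓ W := by
        refine ⟨?_, ?_⟩
        · have : n * x * n⁻¹ * x⁻¹ = n * (x * n⁻¹ * x⁻¹) := by group
          rw [this]
          exact N.mul_mem hn (hNn.conj_mem _ (N.inv_mem hn) x)
        · rw [hWdef]; exact hL1 H hxH hne n (hNH hn)
      rw [hD, Subgroup.mem_bot] at h1
      calc n * x = (n * x * n⁻¹ * x⁻¹) * (x * n) := by group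
        _ = x * n := by rw [h1, one_mul]
    haveI : (Subgroup.centralizer (N : Set G)).Normal := Subgroup.normal_centralizer
    have hCtop : Subgroup.centralizer (N : Set G) = ⊤ := by
      rw [eq_top_iff, ← hncl]
      apply Subgroup.normalClosure_le_normal
      intro y hy
      rw [Set.mem_singleton_iff] at hy
      rw [hy]
      exact Subgroup.mem_centralizer_iff.mpr (fun n hn => hNc n hn)
    have hNcen : ∀ n ∈ N, n ∈ Subgroup.center G := by
      intro n hn
      rw [Subgroup.mem_center_iff]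
      intro g
      have hg : g ∈ Subgroup.centralizer (N : Set G) := by rw [hCtop]; exact Subgroup.mem_top g
      exact ((Subgroup.mem_centralizer_iff.mp hg) n hn).symm
    obtain ⟨z, hz⟩ := exists_prime_orderOf_dvd_card' (G := ↥N) p hpN
    have hzo : orderOf (z : G) = p := by rw [Subgroup.orderOf_coe]; exact hz
    exact hnz (inZStar_of_central hO x hiso hquot (z : G) (hNcen z z.2) hzo)
  have hsimple : ∀ T : Subgroup G, T ≤ N → N ≤ Subgroup.normalizer (T : Set G) → T ≠ ⊥ →
      N ≤ T := by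
    intro T hTN hNT hT1
    have hTsub : T.IsSubnormal :=
      Subgroup.IsSubnormal.step T N hTN hNn.isSubnormal
        ((Subgroup.normal_subgroupOf_iff_le_normalizer hTN).mpr hNT)
    have hPT : (P : Subgroup G) ⊓ T ≠ ⊥ := by
      intro h
      have h1 := Cfsg.Agent.Lib_helper7_SylSubn.sylow_inf_subnormal P T hTsub
      rw [h, Subgroup.relIndex_bot_left] at h1
      have hc : (Nat.card T).Coprime p := ((Nat.Prime.coprime_iff_not_dvd hp).mpr h1).symm
      have := Cfsg.Agent.Lib_helper2_PComp.subnormal_pprime_le p T hTsub hc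
      rw [hO] at this
      exact hT1 (eq_bot_iff.mpr this)
    obtain ⟨M₁, hM₁def⟩ : ∃ M₁ : Subgroup G,
      M₁ = Subgroup.normalClosure (((P : Subgroup G) ⊓ T : Subgroup G) : Set G) := ⟨_, rfl⟩
    have hM₁T : M₁ ≤ T := by
      rw [hM₁def, Subgroup.normalClosure, Subgroup.closure_le]
      intro a ha
      obtain ⟨u, hu, hconj⟩ := Group.mem_conjugatesOfSet_iff.mp ha
      have hu' : u ∈ (P : Subgroup G) ⊓ T := hu
      obtain ⟨c, hc⟩ := isConj_iff.mp hconj
      obtain ⟨n, hn, z, hz, rfl⟩ := hdecomp hNx c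
      have hzu : z * u * z⁻¹ = u := by
        rw [zpowers_commute hz (hxZ u hu'.1).symm]; group
      rw [← hc]
      have e : n * z * u * (n * z)⁻¹ = n * (z * u * z⁻¹) * n⁻¹ := by group
      rw [e, hzu]
      exact (Subgroup.mem_normalizer_iff.mp (hNT hn) u).mp hu'.2
    have hM₁n : M₁.Normal := by rw [hM₁def]; exact Subgroup.normalClosure_normal
    have hM₁1 : M₁ ≠ ⊥ := by
      intro h
      apply hPT
      rw [eq_bot_iff, ← h, hM₁def]
      exact Subgroup.le_normalClosure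
    have := hNmin M₁ hM₁n hM₁1 (hM₁T.trans hTN)
    rw [← this]; exact hM₁T
  have hNnc : ¬ (∀ a ∈ N, ∀ b ∈ N, a * b = b * a) := by
    intro hab
    obtain ⟨C, hCdef⟩ : ∃ C : Subgroup G, C = N ⊓ Subgroup.centralizer ({x} : Set G) :=
      ⟨_, rfl⟩
    have hCmem : ∀ c, c ∈ C ↔ c ∈ N ∧ x * c = c * x := by
      intro c
      rw [hCdef, Subgroup.mem_inf, Subgroup.mem_centralizer_iff]
      constructor
      · rintro ⟨h1, h2⟩; exact ⟨h1, h2 x rfl⟩
      · rintro ⟨h1, h2⟩
        refine ⟨h1, fun y hy => ?_⟩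
        rw [Set.mem_singleton_iff] at hy
        rw [hy]; exact h2
    have hCN : C ≤ N := by rw [hCdef]; exact inf_le_left
    have hCn : C.Normal := by
      constructor
      intro c hc g
      obtain ⟨hcN, hcx⟩ := (hCmem c).mp hc
      obtain ⟨n, hn, z, hz, rfl⟩ := hdecomp hNx g
      have hzc : z * c * z⁻¹ = c := by
        rw [zpowers_commute hz hcx]; group
      have e : n * z * c * (n * z)⁻¹ = c := by
        calc n * z * c * (n * z)⁻¹ = n * (z * c * z⁻¹) * n⁻¹ := by group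
          _ = n * c * n⁻¹ := by rw [hzc]
          _ = c * n * n⁻¹ := by rw [hab n hn c hcN]
          _ = c := by group
      rw [e]; exact hc
    have hC1 : C ≠ ⊥ := by
      intro h
      apply hPN
      rw [eq_bot_iff, ← h]
      intro u hu
      exact (hCmem u).mpr ⟨hu.2, (hxZ u hu.1).symm⟩
    have hCeq := hNmin C hCn hC1 hCN
    apply hcentral
    intro g
    obtain ⟨n, hn, z, hz, rfl⟩ := hdecomp hNx g
    have hnx : x * n = n * x := by
      have : n ∈ C := by rw [hCeq]; exact hn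
      exact ((hCmem n).mp this).2
    have hzx : z * x = x * z := zpowers_commute hz rfl
    calc n * z * x = n * (z * x) := by group
      _ = n * (x * z) := by rw [hzx]
      _ = (n * x) * z := by group
      _ = (x * n) * z := by rw [hnx]
      _ = x * (n * z) := by group
  have hcomN : commutator G = N := by
    have hle : commutator G ≤ N := by
      rw [commutator_def, Subgroup.commutator_le]
      intro a _ b _
      obtain ⟨n₁, hn₁, z₁, hz₁, rfl⟩ := hdecomp hNx a
      obtain ⟨n₂, hn₂, z₂, hz₂, rfl⟩ := hdecomp hNx b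
      have hzz : z₁ * z₂ = z₂ * z₁ := zpowers_commute hz₁ (zpowers_commute hz₂ rfl).symm
      have h1 : (QuotientGroup.mk (n₁ * z₁ * (n₂ * z₂) * (n₁ * z₁)⁻¹ * (n₂ * z₂)⁻¹) : G ⧸ N)
          = 1 := by
        have e1 : (QuotientGroup.mk n₁ : G ⧸ N) = 1 := (QuotientGroup.eq_one_iff n₁).mpr hn₁
        have e2 : (QuotientGroup.mk n₂ : G ⧸ N) = 1 := (QuotientGroup.eq_one_iff n₂).mpr hn₂
        have e3 : (QuotientGroup.mk z₁ : G ⧸ N) * QuotientGroup.mk z₂ =
            QuotientGroup.mk z₂ * QuotientGroup.mk z₁ := by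
          rw [← QuotientGroup.mk_mul, ← QuotientGroup.mk_mul, hzz]
        simp only [QuotientGroup.mk_mul, QuotientGroup.mk_inv, e1, e2, one_mul]
        rw [e3]; group
      exact (QuotientGroup.eq_one_iff _).mp h1
    have hcn : (commutator G).Normal := inferInstance
    have hc1 : commutator G ≠ ⊥ := by
      intro h
      apply hcentral
      intro g
      have h1 : g * x * g⁻¹ * x⁻¹ ∈ commutator G := by
        rw [commutator_def]
        exact Subgroup.commutator_mem_commutator (Subgroup.mem_top g) (Subgroup.mem_top x)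
      rw [h, Subgroup.mem_bot] at h1
      calc g * x = (g * x * g⁻¹ * x⁻¹) * (x * g) := by group
        _ = x * g := by rw [h1, one_mul]
    exact hNmin _ hcn hc1 hle
  rw [hcomN]
  refine ⟨?_, ?_, hNx⟩
  · haveI : Nontrivial ↥N := (Subgroup.nontrivial_iff_ne_bot N).mpr hN1
    refine ⟨fun H hH => ?_⟩
    by_cases hH1 : H = ⊥
    · exact Or.inl hH1
    · right
      have hT1 : H.map N.subtype ≠ ⊥ := fun h =>
        hH1 ((Subgroup.map_eq_bot_iff_of_injective _ N.subtype_injective).mp h)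
      have hNT : N ≤ Subgroup.normalizer ((H.map N.subtype : Subgroup G) : Set G) := by
        intro n hn
        apply Cfsg.Agent.Lib_helper7_Sylow.mem_normalizer_of_conj_le
        rintro _ ⟨_, ⟨t, ht, rfl⟩, rfl⟩
        exact ⟨⟨n, hn⟩ * t * ⟨n, hn⟩⁻¹, hH.conj_mem t ht ⟨n, hn⟩, rfl⟩
      have h1 := hsimple (H.map N.subtype) (Subgroup.map_subtype_le H) hNT hT1
      rw [eq_top_iff]
      intro n _
      obtain ⟨t, ht, hte⟩ := h1 n.2
      have : t = n := Subtype.ext hte
      rw [← this]; exact ht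
  · intro hcomm
    apply hNnc
    intro a ha b hb
    have := hcomm.is_comm.comm (⟨a, ha⟩ : ↥N) ⟨b, hb⟩
    exact congrArg Subtype.val this

end Cfsg.Agent.Lib_helper7_ZpMin
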