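import Mathlib
import Cfsg.Prelude.Def_IsolatedElements
import Cfsg.Agent.Lib_helper7_ZpMin
import Cfsg.Agent.Lib_helper7_Alperin
import Cfsg.Agent.Lib_helper7_WellPlaced
import Cfsg.Agent.Lib_helper1_Coprime

set_option autoImplicit false

namespace Cfsg.Agent.Lib_helper7_ZpSyl

open Cfsg.Agent.Lib_helper7_ZpMin

variable {G : Type*} [Group G] [Finite G] {p : ℕ} [Fact p.Prime]

theorem pPrimeCore_eq_bot (x : G) (hnz : ¬ Cfsg.InZStar p x)
    (hquot : ∀ (N : Subgroup G) [N.Normal], N ≠ ⊥ → Cfsg.InZStar p (QuotientGroup.mk x : G ⧸ N)) :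
    Cfsg.pPrimeCore p G = ⊥ := by
  by_contra hne
  apply hnz
  intro g
  have h1 := hquot (Cfsg.pPrimeCore p G) hne (QuotientGroup.mk g)
  rw [Cfsg.Agent.Lib_helper2_PComp.pPrimeCore_quotient_bot, Subgroup.mem_bot] at h1
  exact (QuotientGroup.eq_one_iff _).mp h1

theorem max_invariant_sylow (x : G) (hx : orderOf x = p) (hiso : Cfsg.IsIsolated x)
    (hO : Cfsg.pPrimeCore p G = ⊥)
    (hmin : ∀ (H : Subgroup G) (hxH : x ∈ H), H ≠ ⊤ → Cfsg.InZStar p (⟨x, hxH⟩ : ↥H))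
    (q : ℕ) [Fact q.Prime] (Q : Subgroup G) (hQq : IsPGroup q ↥Q)
    (hxQ : x ∈ Subgroup.normalizer (Q : Set G))
    (hmax : ∀ R : Subgroup G, IsPGroup q ↥R → x ∈ Subgroup.normalizer (R : Set G) → Q ≤ R →
      R = Q) :
    Q = ⊥ ∨ ∃ S : Sylow q G, (S : Subgroup G) = Q := by
  have hp : p.Prime := Fact.out
  have hq : q.Prime := Fact.out
  by_cases hQ1 : Q = ⊥
  · exact Or.inl hQ1
  right
  obtain ⟨S, hQS⟩ := hQq.exists_le_sylow
  refine ⟨S, ?_⟩
  by_contra hne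
  by_cases hqp : q = p
  · subst hqp
    have hxp : IsPGroup q ↥(Subgroup.zpowers x) := by
      apply IsPGroup.of_card (n := 1)
      rw [Nat.card_zpowers, hx, pow_one]
    have hR := hmax (Q ⊔ Subgroup.zpowers x)
      (IsPGroup.to_sup_of_normal_left' hQq hxp (Subgroup.zpowers_le.mpr hxQ))
      (Subgroup.le_normalizer (Subgroup.mem_sup_right (Subgroup.mem_zpowers x))) le_sup_left
    have hxQ' : x ∈ Q := by
      rw [← hR]; exact Subgroup.mem_sup_right (Subgroup.mem_zpowers x)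
    have hc := isolated_central_of_pgroup (S : Subgroup G) S.isPGroup' x (hQS hxQ') hiso
    have hxNS : x ∈ Subgroup.normalizer ((S : Subgroup G) : Set G) := by
      apply Cfsg.Agent.Lib_helper7_Sylow.mem_normalizer_of_conj_le
      rintro _ ⟨u, hu, rfl⟩
      have e : x * u * x⁻¹ = u := by rw [← hc u hu]; group
      show x * u * x⁻¹ ∈ (S : Subgroup G)
      rw [e]; exact hu
    exact hne (hmax S S.isPGroup' hxNS hQS)
  · haveI : Group.IsNilpotent ↥(S : Subgroup G) := S.isPGroup'.isNilpotent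
    have hlt : Q.subgroupOf (S : Subgroup G) < ⊤ := by
      rw [lt_top_iff_ne_top]
      intro h
      apply hne
      apply le_antisymm _ hQS
      intro u hu
      have : (⟨u, hu⟩ : ↥(S : Subgroup G)) ∈ Q.subgroupOf (S : Subgroup G) := by
        rw [h]; exact Subgroup.mem_top _
      exact Subgroup.mem_subgroupOf.mp this
    have hnc := Group.normalizerCondition_of_isNilpotent (G := ↥(S : Subgroup G)) _ hlt
    obtain ⟨s, hsN, hsQ⟩ := SetLike.exists_of_lt hnc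
    have hsQ' : (s : G) ∉ Q := fun h => hsQ (Subgroup.mem_subgroupOf.mpr h)
    have hsNG : (s : G) ∈ Subgroup.normalizer (Q : Set G) := by
      apply Cfsg.Agent.Lib_helper7_Sylow.mem_normalizer_of_conj_le
      rintro _ ⟨u, hu, rfl⟩
      have h1 : (⟨u, hQS hu⟩ : ↥(S : Subgroup G)) ∈ Q.subgroupOf (S : Subgroup G) :=
        Subgroup.mem_subgroupOf.mpr hu
      have h2 := (Subgroup.mem_normalizer_iff.mp hsN _).mp h1
      exact Subgroup.mem_subgroupOf.mp h2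
    obtain ⟨H, hHdef⟩ : ∃ H : Subgroup G, H = Subgroup.normalizer (Q : Set G) := ⟨_, rfl⟩
    have hxH : x ∈ H := by rw [hHdef]; exact hxQ
    have hQH : Q ≤ H := by rw [hHdef]; exact Subgroup.le_normalizer
    have hsH : (s : G) ∈ H := by rw [hHdef]; exact hsNG
    have hqpc : q.Coprime p := (Nat.coprime_primes hq hp).mpr hqp
    have hQc : (Nat.card Q).Coprime p := by
      obtain ⟨k, hk⟩ := IsPGroup.iff_card.mp hQq
      rw [hk]
      exact Nat.Coprime.pow_left k hqpc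
    have hHtop : H ≠ ⊤ := by
      intro h
      have hQn : Q.Normal := Subgroup.normalizer_eq_top_iff.mp (by rw [← hHdef]; exact h)
      have := Cfsg.Agent.Lib_helper2_PComp.le_pPrimeCore' p Q hQn hQc
      rw [hO] at this
      exact hQ1 (eq_bot_iff.mpr this)
    have hZ := hmin H hxH hHtop
    obtain ⟨Q₁, hQ₁def⟩ : ∃ Q₁ : Subgroup G, Q₁ = Q ⊔ Subgroup.zpowers (s : G) := ⟨_, rfl⟩
    have hQQ₁ : Q ≤ Q₁ := by rw [hQ₁def]; exact le_sup_left
    have hsQ₁ : (s : G) ∈ Q₁ := by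
      rw [hQ₁def]; exact Subgroup.mem_sup_right (Subgroup.mem_zpowers _)
    have hQ₁S : Q₁ ≤ (S : Subgroup G) := by
      rw [hQ₁def]; exact sup_le hQS (Subgroup.zpowers_le.mpr s.2)
    have hQ₁q : IsPGroup q ↥Q₁ := S.isPGroup'.to_le hQ₁S
    have hQ₁H : Q₁ ≤ H := by rw [hQ₁def]; exact sup_le hQH (Subgroup.zpowers_le.mpr hsH)
    obtain ⟨L', hL'def⟩ : ∃ L' : Subgroup ↥H,
      L' = Q₁.subgroupOf H ⊔ Cfsg.pPrimeCore p ↥H := ⟨_, rfl⟩
    have hL'c : (Nat.card L').Coprime p := by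
      have h1 := Cfsg.Agent.Lib_helper7_PPrime.card_sup_dvd (Q₁.subgroupOf H)
        (Cfsg.pPrimeCore p ↥H)
      rw [← hL'def] at h1
      have h2 : (Nat.card ↥(Q₁.subgroupOf H)).Coprime p := by
        rw [Nat.card_congr (Subgroup.subgroupOfEquivOfLe hQ₁H).toEquiv]
        obtain ⟨k, hk⟩ := IsPGroup.iff_card.mp hQ₁q
        rw [hk]
        exact Nat.Coprime.pow_left k hqpc
      exact Nat.Coprime.coprime_dvd_left h1 (Nat.Coprime.mul_left h2
        (Cfsg.Agent.Lib_helper7_PPrime.card_pPrimeCore_coprime p))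
    obtain ⟨L, hLdef⟩ : ∃ L : Subgroup G, L = L'.map H.subtype := ⟨_, rfl⟩
    have hLc : (Nat.card L).Coprime p := by
      rw [hLdef, ← Nat.card_congr (L'.equivMapOfInjective H.subtype H.subtype_injective).toEquiv]
      exact hL'c
    have hQ₁L : Q₁ ≤ L := by
      intro u hu
      rw [hLdef]
      refine ⟨⟨u, hQ₁H hu⟩, ?_, rfl⟩
      rw [hL'def]
      exact Subgroup.mem_sup_left (Subgroup.mem_subgroupOf.mpr hu)
    have hxL : Subgroup.zpowers x ≤ Subgroup.normalizer (L : Set G) := by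
      rw [Subgroup.zpowers_le]
      apply Cfsg.Agent.Lib_helper7_Sylow.mem_normalizer_of_conj_le
      rw [hLdef]
      rintro _ ⟨_, ⟨l, hl, rfl⟩, rfl⟩
      have h1 : l * ⟨x, hxH⟩ * l⁻¹ * (⟨x, hxH⟩ : ↥H)⁻¹ ∈ Cfsg.pPrimeCore p ↥H := hZ l
      have h2 : (⟨x, hxH⟩ : ↥H) * l * (⟨x, hxH⟩ : ↥H)⁻¹ * l⁻¹ ∈ L' := by
        have e : (⟨x, hxH⟩ : ↥H) * l * (⟨x, hxH⟩ : ↥H)⁻¹ * l⁻¹ =
            (l * ⟨x, hxH⟩ * l⁻¹ * (⟨x, hxH⟩ : ↥H)⁻¹)⁻¹ := by group
        rw [e, hL'def]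
        exact Subgroup.mem_sup_right (Subgroup.inv_mem _ h1)
      refine ⟨(⟨x, hxH⟩ : ↥H) * l * (⟨x, hxH⟩ : ↥H)⁻¹, ?_, rfl⟩
      have e : (⟨x, hxH⟩ : ↥H) * l * (⟨x, hxH⟩ : ↥H)⁻¹ =
          ((⟨x, hxH⟩ : ↥H) * l * (⟨x, hxH⟩ : ↥H)⁻¹ * l⁻¹) * l := by group
      rw [e]
      exact L'.mul_mem h2 hl
    have hcop : (Nat.card ↥(Subgroup.zpowers x)).Coprime (Nat.card L) := by
      rw [Nat.card_zpowers, hx]
      exact hLc.symm
    have hsolv : Group.IsSolvable ↥(Subgroup.zpowers x) :=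
      isSolvable_of_comm (fun a b => Subtype.ext
        (zpowers_commute a.2 (zpowers_commute b.2 rfl).symm))
    obtain ⟨P, hQP, hxP⟩ := Cfsg.Agent.Lib_helper1_Coprime.invariant_pgroup_le_sylow
      (Subgroup.zpowers x) L hxL hcop (Or.inl hsolv) q Q (hQQ₁.trans hQ₁L) hQq
      (Subgroup.zpowers_le.mpr hxQ)
    have hPQ := hmax _ (P.isPGroup'.map _) (hxP (Subgroup.mem_zpowers x)) hQP
    have hidx : ¬ q ∣ Q.relIndex L := by
      have h1 : Q.subgroupOf L = (P : Subgroup ↥L) := by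
        rw [← hPQ]
        exact Subgroup.comap_map_eq_self_of_injective L.subtype_injective _
      have h2 : Q.relIndex L = (P : Subgroup ↥L).index := by
        unfold Subgroup.relIndex
        rw [h1]
      rw [h2]
      exact P.not_dvd_index
    have hQeq := Cfsg.Agent.Lib_helper7_Alperin.eq_of_relIndex Q Q₁ L hQQ₁ hQ₁L hQ₁q hidx
    apply hsQ'
    rw [hQeq]; exact hsQ₁

theorem centralizer_transitive (x : G) (hx : orderOf x = p) (hiso : Cfsg.IsIsolated x)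
    (q : ℕ) [Fact q.Prime] (S₁ S₂ : Sylow q G)
    (h₁ : x ∈ Subgroup.normalizer ((S₁ : Subgroup G) : Set G))
    (h₂ : x ∈ Subgroup.normalizer ((S₂ : Subgroup G) : Set G)) :
    ∃ c ∈ Subgroup.centralizer ({x} : Set G),
      (S₁ : Subgroup G).map (MulAut.conj c).toMonoidHom = (S₂ : Subgroup G) := by
  obtain ⟨g, hg⟩ := MulAction.exists_smul_eq G S₁ S₂
  have hg' : (S₁ : Subgroup G).map (MulAut.conj g).toMonoidHom = (S₂ : Subgroup G) := by
    rw [← hg, Sylow.coe_subgroup_smul]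
    rfl
  obtain ⟨N, hNdef⟩ : ∃ N : Subgroup G,
    N = Subgroup.normalizer ((S₁ : Subgroup G) : Set G) := ⟨_, rfl⟩
  have hxN : x ∈ N := by rw [hNdef]; exact h₁
  have hyN : g⁻¹ * x * g ∈ N := by
    rw [hNdef]
    apply Cfsg.Agent.Lib_helper7_Sylow.mem_normalizer_of_conj_le
    rintro _ ⟨u, hu, rfl⟩
    have h1 : g * u * g⁻¹ ∈ (S₂ : Subgroup G) := by rw [← hg']; exact ⟨u, hu, rfl⟩
    have h2 : x * (g * u * g⁻¹) * x⁻¹ ∈ (S₂ : Subgroup G) :=
      (Subgroup.mem_normalizer_iff.mp h₂ _).mp h1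
    rw [← hg'] at h2
    obtain ⟨v, hv, hve⟩ := h2
    have hve' : g * v * g⁻¹ = x * (g * u * g⁻¹) * x⁻¹ := hve
    have : (g⁻¹ * x * g) * u * (g⁻¹ * x * g)⁻¹ = v := by
      calc (g⁻¹ * x * g) * u * (g⁻¹ * x * g)⁻¹ = g⁻¹ * (x * (g * u * g⁻¹) * x⁻¹) * g := by group
        _ = g⁻¹ * (g * v * g⁻¹) * g := by rw [hve']
        _ = v := by group
    show (g⁻¹ * x * g) * u * (g⁻¹ * x * g)⁻¹ ∈ (S₁ : Subgroup G)
    rw [this]; exact hv
  have hxp : IsPGroup p ↥(Subgroup.zpowers (⟨x, hxN⟩ : ↥N)) := by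
    apply IsPGroup.of_card (n := 1)
    rw [Nat.card_zpowers, pow_one, Subgroup.orderOf_mk, hx]
  obtain ⟨T, hT⟩ := hxp.exists_le_sylow
  have hyp : IsPGroup p ↥(Subgroup.zpowers (⟨g⁻¹ * x * g, hyN⟩ : ↥N)) := by
    apply IsPGroup.of_card (n := 1)
    rw [Nat.card_zpowers, pow_one, Subgroup.orderOf_mk, ← hx]
    have := Cfsg.Agent.Lib_helper7_Sylow.orderOf_conj' g⁻¹ x
    rw [inv_inv] at this
    exact this
  obtain ⟨n, -, hn⟩ := Cfsg.Agent.Lib_helper7_Sylow.exists_conj_le_sylow p T _ hyp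
  have hnT := hn _ (Subgroup.mem_zpowers _)
  have hTp : IsPGroup p ↥((T : Subgroup ↥N).map N.subtype) := T.isPGroup'.map _
  have hxT : x ∈ (T : Subgroup ↥N).map N.subtype :=
    ⟨⟨x, hxN⟩, hT (Subgroup.mem_zpowers _), rfl⟩
  have hyT : (n : G) * (g⁻¹ * x * g) * (n : G)⁻¹ ∈ (T : Subgroup ↥N).map N.subtype :=
    ⟨_, hnT, rfl⟩
  have hc := isolated_central_of_pgroup _ hTp x hxT hiso _ hyT
  have e : (n : G) * (g⁻¹ * x * g) * (n : G)⁻¹ = ((n : G) * g⁻¹) * x * ((n : G) * g⁻¹)⁻¹ := by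
    group
  rw [e] at hc
  have h3 := hiso ((n : G) * g⁻¹) hc.symm
  have hnN : (n : G) ∈ Subgroup.normalizer ((S₁ : Subgroup G) : Set G) := by
    rw [← hNdef]; exact n.2
  refine ⟨g * (n : G)⁻¹, ?_, ?_⟩
  · rw [Subgroup.mem_centralizer_iff]
    intro y hy
    rw [Set.mem_singleton_iff] at hy
    rw [hy]
    calc x * (g * (n : G)⁻¹)
        = (g * (n : G)⁻¹) * (((n : G) * g⁻¹) * x * ((n : G) * g⁻¹)⁻¹) := by group
      _ = (g * (n : G)⁻¹) * x := by rw [h3]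
  · rw [← hg', ← Cfsg.Agent.Lib_helper7_WellPlaced.map_conj_mul,
      Cfsg.Agent.Lib_helper7_WellPlaced.map_conj_of_mem_normalizer _ _ (Subgroup.inv_mem _ hnN)]

end Cfsg.Agent.Lib_helper7_ZpSyl
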