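import Mathlib

namespace Cfsg.Agent.Lib_helper8_AltSpec

/-- `k` is an element order of `A_n` iff some multiset of parts `≥ 2` with sum `≤ n` and
`sum + card` even has lcm `k`. -/
theorem mem_range_iff (n k : ℕ) :
    k ∈ Set.range (orderOf : alternatingGroup (Fin n) → ℕ) ↔
      ∃ m : Multiset ℕ, (∀ a ∈ m, 2 ≤ a) ∧ m.sum ≤ n ∧ Even (m.sum + Multiset.card m) ∧
        m.lcm = k := by
  classical
  constructor
  · rintro ⟨σ, rfl⟩
    refine ⟨(σ : Equiv.Perm (Fin n)).cycleType,
      fun a ha => Equiv.Perm.two_le_of_mem_cycleType ha, ?_, ?_, ?_⟩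
    · rw [Equiv.Perm.sum_cycleType]
      exact (Finset.card_le_univ _).trans (by simp)
    · have h1 : Equiv.Perm.sign (σ : Equiv.Perm (Fin n)) = 1 :=
        Equiv.Perm.mem_alternatingGroup.1 σ.2
      rw [Equiv.Perm.sign_of_cycleType] at h1
      exact (neg_one_pow_eq_one_iff_even (by decide)).1 h1
    · rw [Equiv.Perm.lcm_cycleType, Subgroup.orderOf_coe]
  · rintro ⟨m, hm2, hsum, hev, rfl⟩
    obtain ⟨g, hg⟩ := (Equiv.Perm.exists_with_cycleType_iff (α := Fin n)).2
      ⟨by simpa using hsum, hm2⟩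
    have hmem : g ∈ alternatingGroup (Fin n) := by
      rw [Equiv.Perm.mem_alternatingGroup, Equiv.Perm.sign_of_cycleType, hg]
      exact hev.neg_one_pow
    refine ⟨⟨g, hmem⟩, ?_⟩
    rw [← hg, Equiv.Perm.lcm_cycleType, ← Subgroup.orderOf_coe]

/-- A prime dividing the lcm of a multiset divides one of its members. -/
theorem exists_dvd_of_prime_dvd_lcm {r : ℕ} (hr : r.Prime) (m : Multiset ℕ) (h : r ∣ m.lcm) :
    ∃ a ∈ m, r ∣ a := by
  induction m using Multiset.induction_on with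
  | empty =>
    rw [Multiset.lcm_zero] at h
    exact absurd h hr.not_dvd_one
  | cons a s ih =>
    rw [Multiset.lcm_cons] at h
    have h1 : r ∣ a * s.lcm := h.trans (lcm_dvd (dvd_mul_right a _) (dvd_mul_left _ a))
    rcases hr.dvd_mul.1 h1 with h2 | h2
    · exact ⟨a, Multiset.mem_cons_self a s, h2⟩
    · obtain ⟨b, hb, hrb⟩ := ih h2
      exact ⟨b, Multiset.mem_cons_of_mem hb, hrb⟩

end Cfsg.Agent.Lib_helper8_AltSpec
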