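import Mathlib

/-! Non-scalar `2 × 2` matrices are conjugate to their companion matrix; consequently two non-scalar
`2 × 2` matrices with equal trace and determinant are conjugate. -/

namespace Cfsg.Agent.Lib_helper8_GL2
open Matrix

variable {F : Type*} [Field F]

/-- The non-scalar condition in entries. -/
def NonScalar (g : Matrix (Fin 2) (Fin 2) F) : Prop := g 1 0 ≠ 0 ∨ g 0 1 ≠ 0 ∨ g 0 0 ≠ g 1 1

lemma nonScalar_iff (g : Matrix (Fin 2) (Fin 2) F) : NonScalar g ↔ ¬ ∃ c : F, g = c • (1 : Matrix (Fin 2) (Fin 2) F) := by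
  unfold NonScalar
  constructor
  · rintro h ⟨c, rfl⟩
    simp at h
  · intro h
    by_contra hcon
    push Not at hcon
    apply h
    refine ⟨g 0 0, ?_⟩
    ext i j
    fin_cases i <;> fin_cases j <;> simp [hcon.1, hcon.2.1, hcon.2.2]

/-- A non-scalar `2 × 2` matrix is conjugate to its companion matrix. -/
theorem exists_conj_companion (g : Matrix (Fin 2) (Fin 2) F) (h : NonScalar g) :
    ∃ P : Matrix (Fin 2) (Fin 2) F, P.det ≠ 0 ∧ g * P = P * !![0, -g.det; 1, g.trace] := by
  by_cases h10 : g 1 0 ≠ 0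
  · refine ⟨!![1, g 0 0; 0, g 1 0], ?_, ?_⟩
    · rw [Matrix.det_fin_two]; simpa using h10
    · ext i j
      fin_cases i <;> fin_cases j <;>
        simp [Matrix.mul_apply, Fin.sum_univ_two, Matrix.det_fin_two, Matrix.trace_fin_two] <;> ring
  · push Not at h10
    by_cases h01 : g 0 1 ≠ 0
    · refine ⟨!![0, g 0 1; 1, g 1 1], ?_, ?_⟩
      · rw [Matrix.det_fin_two]; simpa using h01
      · ext i j
        fin_cases i <;> fin_cases j <;>
          simp [Matrix.mul_apply, Fin.sum_univ_two, Matrix.det_fin_two, Matrix.trace_fin_two, h10] <;> ring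
    · push Not at h01
      have hd : g 0 0 ≠ g 1 1 := by
        rcases h with h | h | h
        · exact absurd h10 h
        · exact absurd h01 h
        · exact h
      refine ⟨!![1, g 0 0; 1, g 1 1], ?_, ?_⟩
      · rw [Matrix.det_fin_two]
        simp only [Matrix.of_apply, Matrix.cons_val', Matrix.cons_val_zero, Matrix.cons_val_one,
          Matrix.cons_val_fin_one]
        intro h0
        apply hd
        linear_combination -h0
      · ext i j
        fin_cases i <;> fin_cases j <;>
          simp [Matrix.mul_apply, Fin.sum_univ_two, Matrix.det_fin_two, Matrix.trace_fin_two, h10, h01] <;> ring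

/-- Two non-scalar `2 × 2` matrices with equal trace and determinant are conjugate. -/
theorem exists_semiconj (a b : Matrix (Fin 2) (Fin 2) F) (ha : NonScalar a) (hb : NonScalar b)
    (ht : a.trace = b.trace) (hd : a.det = b.det) :
    ∃ R : Matrix (Fin 2) (Fin 2) F, R.det ≠ 0 ∧ R * a = b * R := by
  obtain ⟨P, hP, hPa⟩ := exists_conj_companion a ha
  obtain ⟨S, hS, hSb⟩ := exists_conj_companion b hb
  rw [← ht, ← hd] at hSb
  have hPu : IsUnit P.det := isUnit_iff_ne_zero.mpr hP
  refine ⟨S * P⁻¹, ?_, ?_⟩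
  · rw [Matrix.det_mul, Matrix.det_nonsing_inv]
    exact mul_ne_zero hS (by simpa using hP)
  · have e1 : P⁻¹ * a = !![0, -a.det; 1, a.trace] * P⁻¹ := by
      calc P⁻¹ * a = P⁻¹ * (a * P) * P⁻¹ := by
            rw [Matrix.mul_assoc, Matrix.mul_assoc, Matrix.mul_nonsing_inv _ hPu, Matrix.mul_one]
        _ = !![0, -a.det; 1, a.trace] * P⁻¹ := by
            rw [hPa, ← Matrix.mul_assoc, Matrix.nonsing_inv_mul _ hPu, Matrix.one_mul]
    rw [Matrix.mul_assoc, e1, ← Matrix.mul_assoc, ← hSb, Matrix.mul_assoc]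

end Cfsg.Agent.Lib_helper8_GL2
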