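import Mathlib
import Cfsg.Prelude.Def_ClassicalGeometry

/-! Transvections `1 + x φᵀ` in `SL`: decomposition of a transvection matrix, transitivity of `SL` on
non-zero vectors, and conjugacy of all transvections in `SL_n`, `n ≥ 3`. -/

namespace Cfsg.Agent.Lib_helper8_Transv
open Matrix

variable {ι : Type} [Fintype ι] [DecidableEq ι] {F : Type*} [Field F]

lemma det_one_add_vmv (x φ : ι → F) : (1 + vecMulVec x φ).det = 1 + φ ⬝ᵥ x := by
  rw [Matrix.vecMulVec_eq Unit, Matrix.det_one_add_replicateCol_mul_replicateRow]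

/-- Two non-proportional vectors admit a common vector pairing to `1` with both. -/
lemma exists_dot_eq_one (a b : ι → F) (hb : b ≠ 0) (hab : ∀ c : F, a ≠ c • b) :
    ∃ y : ι → F, a ⬝ᵥ y = 1 ∧ b ⬝ᵥ y = 1 := by
  obtain ⟨j, hj⟩ := Function.ne_iff.mp hb
  simp only [Pi.zero_apply] at hj
  set c : F := a j / b j with hc
  have hψ : a - c • b ≠ 0 := by
    intro h
    exact hab c (sub_eq_zero.mp h)
  obtain ⟨k, hk⟩ := Function.ne_iff.mp hψ
  simp only [Pi.sub_apply, Pi.smul_apply, smul_eq_mul, Pi.zero_apply] at hk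
  have haj : a j = c * b j := by rw [hc]; field_simp
  set β : F := (1 - c) / (a k - c * b k) with hβ
  set α : F := (1 - β * b k) / b j with hα
  refine ⟨α • Pi.single j 1 + β • Pi.single k 1, ?_, ?_⟩
  · rw [dotProduct_add, dotProduct_smul, dotProduct_smul, dotProduct_single, dotProduct_single]
    simp only [mul_one, smul_eq_mul]
    rw [haj, hα, hβ]
    field_simp
    ring
  · rw [dotProduct_add, dotProduct_smul, dotProduct_smul, dotProduct_single, dotProduct_single]
    simp only [mul_one, smul_eq_mul]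
    rw [hα]
    field_simp
    ring

/-- `SL` moves `x` to `x'` when they are not proportional. -/
lemma exists_sl_mulVec_aux (x x' : ι → F) (hx : x ≠ 0) (h : ∀ c : F, x' ≠ c • x) :
    ∃ g : SpecialLinearGroup ι F, (g : Matrix ι ι F) *ᵥ x = x' := by
  obtain ⟨ψ, h1, h2⟩ := exists_dot_eq_one x' x hx h
  refine ⟨⟨1 + vecMulVec (x' - x) ψ, ?_⟩, ?_⟩
  · rw [det_one_add_vmv, dotProduct_sub, dotProduct_comm ψ x', dotProduct_comm ψ x, h1, h2]
    ring
  · change (1 + vecMulVec (x' - x) ψ) *ᵥ x = x'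
    rw [Matrix.add_mulVec, Matrix.one_mulVec, Matrix.vecMulVec_mulVec, dotProduct_comm ψ x, h2]
    simp

/-- `SL_n`, `n ≥ 2`, is transitive on non-zero vectors. -/
lemma exists_sl_mulVec (h2 : 2 ≤ Fintype.card ι) (x x' : ι → F) (hx : x ≠ 0) (hx' : x' ≠ 0) :
    ∃ g : SpecialLinearGroup ι F, (g : Matrix ι ι F) *ᵥ x = x' := by
  by_cases h : ∀ c : F, x' ≠ c • x
  · exact exists_sl_mulVec_aux x x' hx h
  · push Not at h
    obtain ⟨c, hc⟩ := h
    obtain ⟨j, hj⟩ := Function.ne_iff.mp hx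
    simp only [Pi.zero_apply] at hj
    obtain ⟨k, hk⟩ := Fintype.exists_ne_of_one_lt_card (by omega : 1 < Fintype.card ι) j
    have h1 : ∀ d : F, (Pi.single k 1 : ι → F) ≠ d • x := by
      intro d hd
      have e1 := congrFun hd j
      have e2 := congrFun hd k
      rw [Pi.single_eq_of_ne (Ne.symm hk)] at e1
      rw [Pi.single_eq_same] at e2
      simp only [Pi.smul_apply, smul_eq_mul] at e1 e2
      have hd0 : d = 0 := by
        rcases mul_eq_zero.mp e1.symm with h | h
        · exact h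
        · exact absurd h hj
      rw [hd0, zero_mul] at e2
      exact one_ne_zero e2
    have hs : (Pi.single k 1 : ι → F) ≠ 0 := by
      intro h0
      have := congrFun h0 k
      simp at this
    have h2 : ∀ d : F, x' ≠ d • (Pi.single k 1 : ι → F) := by
      intro d hd
      have hc0 : c ≠ 0 := by
        rintro rfl
        rw [zero_smul] at hc
        exact hx' hc
      apply h1 (c⁻¹ * d)⁻¹
      have hd0 : d ≠ 0 := by
        rintro rfl
        rw [zero_smul] at hd
        exact hx' hd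
      have : x = (c⁻¹ * d) • (Pi.single k 1 : ι → F) := by
        rw [mul_smul, ← hd, hc, smul_smul, inv_mul_cancel₀ hc0, one_smul]
      rw [this, smul_smul, inv_mul_cancel₀ (mul_ne_zero (inv_ne_zero hc0) hd0), one_smul]
    obtain ⟨g1, hg1⟩ := exists_sl_mulVec_aux x (Pi.single k 1) hx h1
    obtain ⟨g2, hg2⟩ := exists_sl_mulVec_aux (Pi.single k 1) x' hs h2
    refine ⟨g2 * g1, ?_⟩
    rw [Matrix.SpecialLinearGroup.coe_mul, ← Matrix.mulVec_mulVec, hg1, hg2]

/-- A transvection matrix is `1 + x φᵀ` with `x, φ ≠ 0` and `φ x = 0`. -/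
lemma exists_eq_one_add_vmv (t : Matrix ι ι F) (ht : Cfsg.IsTransvection t) :
    ∃ x φ : ι → F, x ≠ 0 ∧ φ ≠ 0 ∧ φ ⬝ᵥ x = 0 ∧ t = 1 + vecMulVec x φ := by
  obtain ⟨hr, hsq⟩ := ht
  have hr' : Module.finrank F (LinearMap.range (t - 1).mulVecLin) = 1 := hr
  obtain ⟨⟨x, hxr⟩, hx0, hxs⟩ := finrank_eq_one_iff'.mp hr'
  have hx : x ≠ 0 := by
    rintro rfl
    exact hx0 rfl
  have hcol : ∀ j : ι, ∃ c : F, c • x = (t - 1) *ᵥ Pi.single j 1 := by
    intro j
    obtain ⟨c, hc⟩ := hxs ⟨(t - 1) *ᵥ Pi.single j 1, ⟨Pi.single j 1, rfl⟩⟩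
    exact ⟨c, congrArg Subtype.val hc⟩
  choose φ hφ using hcol
  have hN : t - 1 = vecMulVec x φ := by
    ext i j
    have := congrFun (hφ j) i
    rw [Matrix.mulVec_single_one] at this
    simp only [Pi.smul_apply, smul_eq_mul] at this
    rw [vecMulVec_apply, mul_comm]
    exact this.symm
  have hN0 : t - 1 ≠ 0 := by
    intro h0
    rw [h0, Matrix.rank_zero] at hr
    exact zero_ne_one hr
  have hφ0 : φ ≠ 0 := by
    rintro rfl
    apply hN0
    rw [hN]
    ext i j
    simp [vecMulVec_apply]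
  refine ⟨x, φ, hx, hφ0, ?_, by rw [← hN]; abel⟩
  rw [hN, vecMulVec_mul_vecMulVec] at hsq
  by_contra hne
  apply hN0
  rw [hN]
  ext i j
  have := congrFun (congrFun hsq i) j
  simp only [vecMulVec_apply, Pi.smul_apply, smul_eq_mul, Matrix.zero_apply] at this ⊢
  rcases mul_eq_zero.mp this with h | h
  · rw [h, zero_mul]
  · rcases mul_eq_zero.mp h with h | h
    · exact absurd h hne
    · rw [h, mul_zero]

/-- Moving the functional: non-proportional case. -/
lemma exists_sl_semiconj_aux (x φ φ' : ι → F) (h0 : φ ⬝ᵥ x = 0) (h0' : φ' ⬝ᵥ x = 0) (hφ' : φ' ≠ 0)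
    (h : ∀ c : F, φ ≠ c • φ') :
    ∃ g : SpecialLinearGroup ι F,
      (g : Matrix ι ι F) * (1 + vecMulVec x φ) = (1 + vecMulVec x φ') * (g : Matrix ι ι F) := by
  obtain ⟨y, h1, h2⟩ := exists_dot_eq_one φ φ' hφ' h
  refine ⟨⟨1 + vecMulVec y (φ - φ'), ?_⟩, ?_⟩
  · rw [det_one_add_vmv, sub_dotProduct, h1, h2]
    ring
  · change (1 + vecMulVec y (φ - φ')) * (1 + vecMulVec x φ)
      = (1 + vecMulVec x φ') * (1 + vecMulVec y (φ - φ'))
    have hA : vecMulVec y (φ - φ') * vecMulVec x φ = 0 := by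
      rw [vecMulVec_mul_vecMulVec, sub_dotProduct, h0, h0', sub_zero, zero_smul]
      ext i j
      simp [vecMulVec_apply]
    have hB : vecMulVec x φ' * vecMulVec y (φ - φ') = vecMulVec x (φ - φ') := by
      rw [vecMulVec_mul_vecMulVec, h2, one_smul]
    simp only [Matrix.add_mul, Matrix.mul_add, Matrix.one_mul, Matrix.mul_one, hA, hB]
    ext i j
    simp only [Matrix.add_apply, Matrix.one_apply, vecMulVec_apply, Pi.sub_apply, Matrix.zero_apply]
    ring

/-- Moving the functional, `n ≥ 3`. -/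
lemma exists_sl_semiconj (h3 : 3 ≤ Fintype.card ι) (x φ φ' : ι → F) (hx : x ≠ 0)
    (h0 : φ ⬝ᵥ x = 0) (h0' : φ' ⬝ᵥ x = 0) (hφ : φ ≠ 0) (hφ' : φ' ≠ 0) :
    ∃ g : SpecialLinearGroup ι F,
      (g : Matrix ι ι F) * (1 + vecMulVec x φ) = (1 + vecMulVec x φ') * (g : Matrix ι ι F) := by
  by_cases h : ∀ c : F, φ ≠ c • φ'
  · exact exists_sl_semiconj_aux x φ φ' h0 h0' hφ' h
  · push Not at h
    obtain ⟨c, hc⟩ := h
    have hc0 : c ≠ 0 := by
      rintro rfl
      rw [zero_smul] at hc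
      exact hφ hc
    -- a third functional vanishing on `x`, not proportional to `φ'`
    obtain ⟨j, hj⟩ := Function.ne_iff.mp hx
    simp only [Pi.zero_apply] at hj
    obtain ⟨k, hk⟩ := Fintype.exists_ne_of_one_lt_card (by omega : 1 < Fintype.card ι) j
    obtain ⟨l, hlj, hlk⟩ : ∃ l : ι, l ≠ j ∧ l ≠ k := by
      by_contra hcon
      push Not at hcon
      have hsub : (Finset.univ : Finset ι) ⊆ {j, k} := by
        intro l _
        by_cases hl : l = j
        · simp [hl]
        · simp [hcon l hl]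
      have := Finset.card_le_card hsub
      rw [Finset.card_univ] at this
      have h2 : ({j, k} : Finset ι).card ≤ 2 := Finset.card_insert_le _ _
      omega
    let ψ : ι → ι → F := fun m => Pi.single m 1 - (x m / x j) • Pi.single j 1
    have hψx : ∀ m, ψ m ⬝ᵥ x = 0 := by
      intro m
      simp only [ψ, sub_dotProduct, smul_dotProduct, single_dotProduct, one_mul, smul_eq_mul]
      field_simp
      ring
    have hψm : ∀ m, m ≠ j → ψ m m = 1 := by
      intro m hm
      simp [ψ, hm]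
    have hψkl : ψ k l = 0 := by
      simp [ψ, hlj, hlk]
    have hex : ∃ φ'' : ι → F, φ'' ≠ 0 ∧ φ'' ⬝ᵥ x = 0 ∧ ∀ d : F, φ'' ≠ d • φ' := by
      by_cases hA : ∀ d : F, ψ k ≠ d • φ'
      · refine ⟨ψ k, ?_, hψx k, hA⟩
        intro h0
        have := congrFun h0 k
        rw [hψm k hk] at this
        exact one_ne_zero this
      · push Not at hA
        obtain ⟨a, ha⟩ := hA
        refine ⟨ψ l, ?_, hψx l, ?_⟩
        · intro h0
          have := congrFun h0 l
          rw [hψm l hlj] at this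
          exact one_ne_zero this
        · intro b hb
          have e1 := congrFun ha l
          have e2 := congrFun hb l
          rw [hψkl] at e1
          rw [hψm l hlj] at e2
          simp only [Pi.smul_apply, smul_eq_mul] at e1 e2
          have hφl : φ' l ≠ 0 := by
            intro h0
            rw [h0, mul_zero] at e2
            exact one_ne_zero e2
          have ha0 : a = 0 := by
            rcases mul_eq_zero.mp e1.symm with h | h
            · exact h
            · exact absurd h hφl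
          rw [ha0, zero_smul] at ha
          have := congrFun ha k
          rw [hψm k hk] at this
          exact one_ne_zero this
    obtain ⟨φ'', hφ''0, hφ''x, hφ''⟩ := hex
    have hA : ∀ d : F, φ ≠ d • φ'' := by
      intro d hd
      have hd0 : d ≠ 0 := by
        rintro rfl
        rw [zero_smul] at hd
        exact hφ hd
      apply hφ'' (d⁻¹ * c)
      rw [mul_smul, ← hc, hd, smul_smul, inv_mul_cancel₀ hd0, one_smul]
    obtain ⟨g1, hg1⟩ := exists_sl_semiconj_aux x φ φ'' h0 hφ''x hφ''0 hA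
    obtain ⟨g2, hg2⟩ := exists_sl_semiconj_aux x φ'' φ' hφ''x h0' hφ' hφ''
    refine ⟨g2 * g1, ?_⟩
    rw [Matrix.SpecialLinearGroup.coe_mul, Matrix.mul_assoc, hg1, ← Matrix.mul_assoc, hg2, Matrix.mul_assoc]

/-- Any two transvections of `SL_n`, `n ≥ 3`, are conjugate in `SL_n`. -/
theorem transvection_isConj (h3 : 3 ≤ Fintype.card ι) (s t : SpecialLinearGroup ι F)
    (hs : Cfsg.IsTransvection (s : Matrix ι ι F)) (ht : Cfsg.IsTransvection (t : Matrix ι ι F)) :
    IsConj s t := by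
  obtain ⟨x, φ, hx, hφ, hφx, hsE⟩ := exists_eq_one_add_vmv _ hs
  obtain ⟨x', φ', hx', hφ', hφx', htE⟩ := exists_eq_one_add_vmv _ ht
  obtain ⟨g1, hg1⟩ := exists_sl_mulVec (by omega) x x' hx hx'
  -- after conjugating by `g1`: `1 + x' φ₁ᵀ`
  set φ₁ : ι → F := φ ᵥ* ((g1⁻¹ : SpecialLinearGroup ι F) : Matrix ι ι F) with hφ₁
  have hinv : ((g1⁻¹ : SpecialLinearGroup ι F) : Matrix ι ι F) * (g1 : Matrix ι ι F) = 1 := by
    rw [← Matrix.SpecialLinearGroup.coe_mul, inv_mul_cancel, Matrix.SpecialLinearGroup.coe_one]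
  have hφ₁g : φ₁ ᵥ* (g1 : Matrix ι ι F) = φ := by
    rw [hφ₁, Matrix.vecMul_vecMul, hinv, Matrix.vecMul_one]
  have hφ₁x : φ₁ ⬝ᵥ x' = 0 := by
    rw [← hg1, Matrix.dotProduct_mulVec, hφ₁g, hφx]
  have hφ₁0 : φ₁ ≠ 0 := by
    intro h0
    rw [h0, Matrix.zero_vecMul] at hφ₁g
    exact hφ hφ₁g.symm
  have e1 : (g1 : Matrix ι ι F) * (1 + vecMulVec x φ) = (1 + vecMulVec x' φ₁) * (g1 : Matrix ι ι F) := by
    rw [Matrix.mul_add, Matrix.add_mul, Matrix.mul_one, Matrix.one_mul, mul_vecMulVec, vecMulVec_mul,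
      hg1, hφ₁g]
  obtain ⟨g2, hg2⟩ := exists_sl_semiconj h3 x' φ₁ φ' hx' hφ₁x hφx' hφ₁0 hφ'
  rw [isConj_iff]
  refine ⟨g2 * g1, ?_⟩
  rw [mul_inv_eq_iff_eq_mul]
  apply Subtype.ext
  rw [Matrix.SpecialLinearGroup.coe_mul, Matrix.SpecialLinearGroup.coe_mul,
    Matrix.SpecialLinearGroup.coe_mul, Matrix.SpecialLinearGroup.coe_mul, hsE, htE, Matrix.mul_assoc, e1,
    ← Matrix.mul_assoc, hg2, Matrix.mul_assoc]

lemma rank_ne_zero {N : Matrix ι ι F} (h : N ≠ 0) : N.rank ≠ 0 := by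
  intro h0
  apply h
  have h1 : Module.finrank F (LinearMap.range N.mulVecLin) = 0 := h0
  rw [Submodule.finrank_eq_zero, LinearMap.range_eq_bot] at h1
  ext i j
  have := congrFun (LinearMap.congr_fun h1 (Pi.single j 1)) i
  simpa [Matrix.mulVec_single_one] using this

/-- `1 + x φᵀ` is a transvection when `x, φ ≠ 0` and `φ x = 0`. -/
lemma isTransvection_one_add_vmv (x φ : ι → F) (hx : x ≠ 0) (hφ : φ ≠ 0) (h : φ ⬝ᵥ x = 0) :
    Cfsg.IsTransvection (1 + vecMulVec x φ) := by
  have hN : (1 + vecMulVec x φ) - 1 = vecMulVec x φ := by abel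
  unfold Cfsg.IsTransvection
  rw [hN]
  refine ⟨?_, ?_⟩
  · have h1 := rank_vecMulVec_le x φ
    have h2 : (vecMulVec x φ).rank ≠ 0 := by
      apply rank_ne_zero
      intro h0
      rcases vecMulVec_eq_zero.mp h0 with h | h
      · exact hx h
      · exact hφ h
    omega
  · rw [vecMulVec_mul_vecMulVec, h, zero_smul]
    ext i j
    simp [vecMulVec_apply]

/-- A conjugate of a transvection is a transvection. -/
lemma isTransvection_conj (g : SpecialLinearGroup ι F) (t : Matrix ι ι F) (ht : Cfsg.IsTransvection t) :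
    Cfsg.IsTransvection ((g : Matrix ι ι F) * t * ((g⁻¹ : SpecialLinearGroup ι F) : Matrix ι ι F)) := by
  have hinv : (g : Matrix ι ι F) * ((g⁻¹ : SpecialLinearGroup ι F) : Matrix ι ι F) = 1 := by
    rw [← Matrix.SpecialLinearGroup.coe_mul, mul_inv_cancel, Matrix.SpecialLinearGroup.coe_one]
  have hinv' : ((g⁻¹ : SpecialLinearGroup ι F) : Matrix ι ι F) * (g : Matrix ι ι F) = 1 := by
    rw [← Matrix.SpecialLinearGroup.coe_mul, inv_mul_cancel, Matrix.SpecialLinearGroup.coe_one]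
  have hN : (g : Matrix ι ι F) * t * ((g⁻¹ : SpecialLinearGroup ι F) : Matrix ι ι F) - 1
      = (g : Matrix ι ι F) * (t - 1) * ((g⁻¹ : SpecialLinearGroup ι F) : Matrix ι ι F) := by
    rw [Matrix.mul_sub, Matrix.sub_mul, Matrix.mul_one, hinv]
  obtain ⟨hr, hsq⟩ := ht
  unfold Cfsg.IsTransvection
  rw [hN]
  refine ⟨?_, ?_⟩
  · rw [Matrix.rank_mul_eq_left_of_isUnit_det _ _ (by rw [Matrix.SpecialLinearGroup.det_coe]; exact isUnit_one),
      Matrix.rank_mul_eq_right_of_isUnit_det _ _ (by rw [Matrix.SpecialLinearGroup.det_coe]; exact isUnit_one)]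
    exact hr
  · calc (g : Matrix ι ι F) * (t - 1) * ((g⁻¹ : SpecialLinearGroup ι F) : Matrix ι ι F)
          * ((g : Matrix ι ι F) * (t - 1) * ((g⁻¹ : SpecialLinearGroup ι F) : Matrix ι ι F))
        = (g : Matrix ι ι F) * (t - 1) * (((g⁻¹ : SpecialLinearGroup ι F) : Matrix ι ι F)
          * (g : Matrix ι ι F)) * (t - 1) * ((g⁻¹ : SpecialLinearGroup ι F) : Matrix ι ι F) := by
          simp only [Matrix.mul_assoc]
      _ = (g : Matrix ι ι F) * ((t - 1) * (t - 1)) * ((g⁻¹ : SpecialLinearGroup ι F) : Matrix ι ι F) := by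
          rw [hinv', Matrix.mul_one, Matrix.mul_assoc (g : Matrix ι ι F)]
      _ = 0 := by rw [hsq, Matrix.mul_zero, Matrix.zero_mul]

/-- In dimension `3`, a non-identity matrix `t` with `(t - 1)² = 0` is a transvection. -/
lemma isTransvection_of_sq_zero (h3 : Fintype.card ι = 3) (t : Matrix ι ι F) (h1 : t ≠ 1)
    (hsq : (t - 1) * (t - 1) = 0) : Cfsg.IsTransvection t := by
  refine ⟨?_, hsq⟩
  have h2 := Matrix.rank_add_rank_le_card_of_mul_eq_zero hsq
  have h4 : (t - 1).rank ≠ 0 := rank_ne_zero (sub_ne_zero.mpr h1)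
  omega

end Cfsg.Agent.Lib_helper8_Transv
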