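import Cfsg.Statements.S2677
import Cfsg.Agent.Lib_helper4_Herm
import Cfsg.Agent.Lib_helper4_GU
import Cfsg.Agent.Lib_helper4_SU

set_option autoImplicit false
open Cfsg

namespace Cfsg.Agent.S2677

section Aux
open Matrix Cfsg.Agent.Lib_helper4_Herm Cfsg.Agent.Lib_helper4_GU Cfsg.Agent.Lib_helper4_SU

theorem herm_iff {F : Type*} [Field F] [Fintype F] {q n : ℕ} (hF : Fintype.card F = q ^ 2)
    (M : Matrix (Fin n) (Fin n) F) (lam : F) :
    (∀ u v, Cfsg.hermForm n F q (M *ᵥ u) (M *ᵥ v) = lam * Cfsg.hermForm n F q u v) ↔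
      ∀ i j, ∑ l, M l i * (M l j) ^ q = if i = j then lam else 0 := by
  classical
  have hq : q ≠ 0 := Nat.pos_iff_ne_zero.mp (q_pos hF)
  constructor
  · intro h i j
    have h1 := h (Pi.single i 1) (Pi.single j 1)
    rw [herm_single_left] at h1
    have h2 : Cfsg.hermForm n F q (M *ᵥ Pi.single i 1) (M *ᵥ Pi.single j 1)
        = ∑ l, M l i * (M l j) ^ q := by
      unfold Cfsg.hermForm
      refine Finset.sum_congr rfl fun l _ => ?_
      rw [Matrix.mulVec_single_one, Matrix.mulVec_single_one]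
      rfl
    rw [← h2, h1]
    by_cases hij : i = j
    · rw [if_pos hij, hij, Pi.single_eq_same, one_pow, mul_one]
    · rw [if_neg hij, Pi.single_eq_of_ne hij, zero_pow hq, mul_zero]
  · intro h u v
    unfold Cfsg.hermForm
    have h1 : ∀ l, (M *ᵥ u) l * ((M *ᵥ v) l) ^ q
        = ∑ i, ∑ j, (u i * (v j) ^ q) * (M l i * (M l j) ^ q) := by
      intro l
      simp only [Matrix.mulVec, dotProduct]
      rw [frob_sum hF, Finset.sum_mul_sum]
      refine Finset.sum_congr rfl fun i _ => Finset.sum_congr rfl fun j _ => ?_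
      rw [mul_pow]; ring
    simp only [h1]
    rw [Finset.sum_comm]
    have h2 : ∀ i, ∑ l, ∑ j, (u i * (v j) ^ q) * (M l i * (M l j) ^ q)
        = lam * (u i * (v i) ^ q) := by
      intro i
      rw [Finset.sum_comm]
      simp only [← Finset.mul_sum, h]
      rw [Finset.sum_eq_single i]
      · rw [if_pos rfl, mul_comm]
      · intro j _ hj; rw [if_neg (Ne.symm hj), mul_zero]
      · intro hh; exact absurd (Finset.mem_univ i) hh
    simp only [h2]
    rw [Finset.mul_sum]

theorem norm_surj {F : Type*} [Field F] [Fintype F] {q : ℕ} (hF : Fintype.card F = q ^ 2)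
    (lam : F) (h0 : lam ≠ 0) (h : lam ^ q = lam) : ∃ μ : F, μ ^ (q + 1) = lam := by
  classical
  have hq1 : 1 ≤ q := q_pos hF
  have hq2 : 2 ≤ q := by
    by_contra hlt
    have h1 : q = 1 := by omega
    rw [h1] at hF
    have := Fintype.one_lt_card (α := F)
    omega
  obtain ⟨g, hg⟩ := IsCyclic.exists_generator (α := Fˣ)
  have hord : orderOf g = q ^ 2 - 1 := by
    rw [orderOf_eq_card_of_forall_mem_zpowers hg, Nat.card_units, Nat.card_eq_fintype_card, hF]
  obtain ⟨k, hk⟩ : ∃ k : ℕ, g ^ k = Units.mk0 lam h0 := by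
    have h1 := hg (Units.mk0 lam h0)
    rw [← mem_powers_iff_mem_zpowers] at h1
    exact h1
  have h1 : (Units.mk0 lam h0) ^ (q - 1) = 1 := by
    apply Units.ext
    rw [Units.val_pow_eq_pow_val, Units.val_mk0, Units.val_one]
    have h2 : lam ^ (q - 1) * lam = lam := by rw [← pow_succ, Nat.sub_add_cancel hq1, h]
    exact mul_right_cancel₀ h0 (by rw [h2, one_mul])
  rw [← hk, ← pow_mul] at h1
  have h2 : q ^ 2 - 1 ∣ k * (q - 1) := by rw [← hord]; exact orderOf_dvd_of_pow_eq_one h1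
  have h3 : q ^ 2 - 1 = (q + 1) * (q - 1) := by
    obtain ⟨s, rfl⟩ : ∃ s, q = s + 1 := ⟨q - 1, by omega⟩
    have h4 : (s + 1) ^ 2 = (s + 1 + 1) * s + 1 := by ring
    rw [h4, Nat.add_sub_cancel, Nat.add_sub_cancel]
  rw [h3] at h2
  have h4 : q + 1 ∣ k := (Nat.mul_dvd_mul_iff_right (by omega : 0 < q - 1)).1 h2
  obtain ⟨j, rfl⟩ := h4
  refine ⟨((g ^ j : Fˣ) : F), ?_⟩
  have h5 := congrArg (fun u : Fˣ => (u : F)) hk
  simp only [Units.val_mk0] at h5
  rw [← h5, mul_comm (q + 1) j, pow_mul]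
  simp only [Units.val_pow_eq_pow_val]

theorem main {K : Type*} [Field K] [Fintype K] {q₀ q r n : ℕ} (hr : r.Prime) (hr2 : r ≠ 2)
    (hn : 1 ≤ n) (hq : q = q₀ ^ r) (hK : Fintype.card K = q ^ 2) (σ : K ≃+* K)
    (hσ : orderOf σ = r) :
    Nat.card {g : ↥(Cfsg.GU n K q) // ∃ c : K, c ≠ 0 ∧
        ((g : GL (Fin n) K) : Matrix (Fin n) (Fin n) K).map σ
          = c • ((g : GL (Fin n) K) : Matrix (Fin n) (Fin n) K)} * (q₀ + 1)
      = (q + 1) * (q₀ ^ (n * (n - 1) / 2) *
          ∏ i ∈ Finset.range n, (if Even i then q₀ ^ (i + 1) + 1 else q₀ ^ (i + 1) - 1)) := by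
  classical
  have hqpos : 1 ≤ q := q_pos hK
  let G : Subgroup (RingAut K) := Subgroup.zpowers (σ : RingAut K)
  haveI : Finite (RingAut K) :=
    Finite.of_injective (fun τ : RingAut K => (τ : K → K)) DFunLike.coe_injective
  haveI : Fintype G := Fintype.ofFinite G
  have hcardG : Fintype.card G = r := by
    rw [← Nat.card_eq_fintype_card, Nat.card_zpowers, hσ]
  let K₀ : Subfield K := FixedPoints.subfield G K
  have hmem : ∀ a : K, a ∈ K₀ ↔ σ a = a := by
    intro a
    constructor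
    · intro h; exact h ⟨σ, Subgroup.mem_zpowers σ⟩
    · intro h g
      have h1 : Subgroup.zpowers (σ : RingAut K) ≤ MulAction.stabilizer (RingAut K) a :=
        (Subgroup.zpowers_le).2 (by rw [MulAction.mem_stabilizer_iff]; exact h)
      have h2 := h1 g.2
      rw [MulAction.mem_stabilizer_iff] at h2
      exact h2
  haveI : Fintype K₀ := Fintype.ofFinite K₀
  have hK₀ : Fintype.card K₀ = q₀ ^ 2 := by
    have h1 := Module.natCard_eq_pow_finrank (K := K₀) (V := K)
    rw [FixedPoints.finrank_eq_card G K, hcardG, Nat.card_eq_fintype_card,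
      Nat.card_eq_fintype_card, hK, hq, ← pow_mul, mul_comm r 2, pow_mul] at h1
    exact (Nat.pow_left_injective hr.ne_zero h1).symm
  have hq₀pos : 1 ≤ q₀ := q_pos hK₀
  let ι : K₀ →+* K := K₀.subtype
  have hιinj : Function.Injective ι := Subtype.val_injective
  have hι : ∀ a : K, σ a = a → ∃ b : K₀, ι b = a := fun a h => ⟨⟨a, (hmem a).2 h⟩, rfl⟩
  have hσι : ∀ b : K₀, σ (ι b) = ι b := fun b => (hmem _).1 b.2
  have hfrob : ∀ x : K₀, (ι x) ^ q = ι (x ^ q₀) := by
    intro x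
    rw [← map_pow]
    congr 1
    obtain ⟨j, hj⟩ := hr.odd_of_ne_two hr2
    rw [hq, hj]
    have hx : x ^ (q₀ ^ 2) = x := by rw [← hK₀]; exact FiniteField.pow_card x
    have key : ∀ j : ℕ, x ^ (q₀ ^ (2 * j + 1)) = x ^ q₀ := by
      intro j
      induction j with
      | zero => simp
      | succ j ih =>
        have h1 : q₀ ^ (2 * (j + 1) + 1) = q₀ ^ 2 * q₀ ^ (2 * j + 1) := by ring
        rw [h1, pow_mul, hx, ih]
    exact key j
  have hnorm : ∀ x : K₀, ι x * (ι x) ^ q = ι (x ^ (q₀ + 1)) := by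
    intro x
    rw [hfrob, ← map_mul, pow_succ, mul_comm]
  let Ψ₀ : Kˣ × GL (Fin n) K₀ →* GL (Fin n) K :=
    { toFun := fun ah => Matrix.GeneralLinearGroup.scalar (Fin n) ah.1 *
        Matrix.GeneralLinearGroup.map ι ah.2
      map_one' := by simp
      map_mul' := by
        intro x y
        have hc := GeneralLinearGroup.scalar_commute (n := Fin n) y.1
          (GeneralLinearGroup.map ι x.2)
        simp only [Prod.fst_mul, Prod.snd_mul, map_mul]
        rw [mul_assoc, mul_assoc, ← mul_assoc (GeneralLinearGroup.scalar (Fin n) y.1), hc,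
          mul_assoc] }
  have hΨ₀ : ∀ (a : Kˣ) (h : GL (Fin n) K₀),
      ((Ψ₀ (a, h) : GL (Fin n) K) : Matrix (Fin n) (Fin n) K)
        = (a : K) • (h : Matrix (Fin n) (Fin n) K₀).map ι := by
    intro a h
    show (Matrix.scalar (Fin n) (a : K)) * _ = _
    rw [Matrix.scalar_apply, ← Matrix.smul_eq_diagonal_mul]
    rfl
  obtain ⟨U, hUdef⟩ : ∃ U : Subgroup Kˣ, U = (powMonoidHom (q + 1) : Kˣ →* Kˣ).ker := ⟨_, rfl⟩
  have hUmem : ∀ b : Kˣ, b ∈ U ↔ (b : K) ^ (q + 1) = 1 := by
    intro b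
    rw [hUdef, MonoidHom.mem_ker, powMonoidHom_apply, Units.ext_iff, Units.val_pow_eq_pow_val,
      Units.val_one]
  have hcardU : Nat.card ↥U = q + 1 := by
    rw [hUdef, ← range_detHom hK hn, card_range_detHom hK hn]
  obtain ⟨U₀, hU₀def⟩ : ∃ U₀ : Subgroup K₀ˣ,
      U₀ = (powMonoidHom (q₀ + 1) : K₀ˣ →* K₀ˣ).ker := ⟨_, rfl⟩
  have hU₀mem : ∀ b : K₀ˣ, b ∈ U₀ ↔ (b : K₀) ^ (q₀ + 1) = 1 := by
    intro b
    rw [hU₀def, MonoidHom.mem_ker, powMonoidHom_apply, Units.ext_iff, Units.val_pow_eq_pow_val,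
      Units.val_one]
  have hcardU₀ : Nat.card ↥U₀ = q₀ + 1 := by
    rw [hU₀def, ← range_detHom hK₀ hn, card_range_detHom hK₀ hn]
  let Φ : ↥U × ↥(Cfsg.GU n K₀ q₀) →* GL (Fin n) K :=
    Ψ₀.comp (MonoidHom.prodMap U.subtype (Cfsg.GU n K₀ q₀).subtype)
  have hΦ : ∀ (b : ↥U) (h : ↥(Cfsg.GU n K₀ q₀)),
      ((Φ (b, h) : GL (Fin n) K) : Matrix (Fin n) (Fin n) K)
        = ((b : Kˣ) : K) • ((h : GL (Fin n) K₀) : Matrix (Fin n) (Fin n) K₀).map ι :=
    fun b h => hΨ₀ _ _
  have hGU₀ : ∀ h : ↥(Cfsg.GU n K₀ q₀), ∀ i j,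
      ∑ l, ((h : GL (Fin n) K₀) : Matrix (Fin n) (Fin n) K₀) l i *
        (((h : GL (Fin n) K₀) : Matrix (Fin n) (Fin n) K₀) l j) ^ q₀ = if i = j then 1 else 0 := by
    intro h
    have h1 := (mem_GU_iff (h : GL (Fin n) K₀)).1 h.2
    exact (herm_iff hK₀ _ 1).1 (fun u v => by rw [h1 u v, one_mul])
  have hΦmem : ∀ x, Φ x ∈ Cfsg.GU n K q := by
    rintro ⟨b, h⟩
    rw [mem_GU_iff]
    have h1 : ∀ i j, ∑ l, ((Φ (b, h) : GL (Fin n) K) : Matrix (Fin n) (Fin n) K) l i *
        (((Φ (b, h) : GL (Fin n) K) : Matrix (Fin n) (Fin n) K) l j) ^ q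
          = if i = j then 1 else 0 := by
      intro i j
      rw [hΦ]
      have h2 : ∀ l, ((((b : Kˣ) : K) • ((h : GL (Fin n) K₀) : Matrix (Fin n) (Fin n) K₀).map ι) l i
          * ((((b : Kˣ) : K) • ((h : GL (Fin n) K₀) : Matrix (Fin n) (Fin n) K₀).map ι) l j) ^ q)
          = ((b : Kˣ) : K) ^ (q + 1) *
            ι (((h : GL (Fin n) K₀) : Matrix (Fin n) (Fin n) K₀) l i *
              (((h : GL (Fin n) K₀) : Matrix (Fin n) (Fin n) K₀) l j) ^ q₀) := by
        intro l
        rw [Matrix.smul_apply, Matrix.smul_apply, Matrix.map_apply, Matrix.map_apply, smul_eq_mul,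
          smul_eq_mul, mul_pow, hfrob, map_mul]
        ring
      simp only [h2]
      rw [← Finset.mul_sum, ← map_sum, hGU₀ h i j, (hUmem b).1 b.2, one_mul]
      by_cases hij : i = j
      · rw [if_pos hij, if_pos hij, map_one]
      · rw [if_neg hij, if_neg hij, map_zero]
    intro u v
    have h3 := (herm_iff hK _ 1).2 h1 u v
    rw [one_mul] at h3
    exact h3
  let Ψ : ↥U × ↥(Cfsg.GU n K₀ q₀) →* ↥(Cfsg.GU n K q) := Φ.codRestrict (Cfsg.GU n K q) hΦmem
  have hΨ : ∀ x, ((Ψ x : ↥(Cfsg.GU n K q)) : GL (Fin n) K) = Φ x := fun x => rfl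
  have hrange : ∀ g : ↥(Cfsg.GU n K q), g ∈ Ψ.range ↔ ∃ c : K, c ≠ 0 ∧
      ((g : GL (Fin n) K) : Matrix (Fin n) (Fin n) K).map σ
        = c • ((g : GL (Fin n) K) : Matrix (Fin n) (Fin n) K) := by
    intro g
    constructor
    · rintro ⟨⟨b, h⟩, rfl⟩
      have hb0 : ((b : Kˣ) : K) ≠ 0 := (b : Kˣ).ne_zero
      refine ⟨σ ((b : Kˣ) : K) * ((b : Kˣ) : K)⁻¹,
        mul_ne_zero ((map_ne_zero σ).2 hb0) (inv_ne_zero hb0), ?_⟩
      rw [hΨ, hΦ]
      ext i j
      simp only [Matrix.map_apply, Matrix.smul_apply, smul_eq_mul, map_mul, hσι]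
      field_simp
    · rintro ⟨c, hc, hg⟩
      obtain ⟨M, hM⟩ : ∃ M : Matrix (Fin n) (Fin n) K,
          M = ((g : GL (Fin n) K) : Matrix (Fin n) (Fin n) K) := ⟨_, rfl⟩
      rw [← hM] at hg
      have hgU : ∀ i j, ∑ l, M l i * (M l j) ^ q = if i = j then 1 else 0 := by
        have h1 := (mem_GU_iff (g : GL (Fin n) K)).1 g.2
        rw [← hM] at h1
        exact (herm_iff hK M 1).1 (fun u v => by rw [h1 u v, one_mul])
      obtain ⟨i₀, j₀, hij⟩ : ∃ i j, M i j ≠ 0 := by
        by_contra hcon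
        push_neg at hcon
        have h2 := hgU ⟨0, hn⟩ ⟨0, hn⟩
        rw [if_pos rfl] at h2
        simp only [hcon, zero_mul, Finset.sum_const_zero] at h2
        exact zero_ne_one h2
      obtain ⟨a, ha⟩ : ∃ a : K, a = M i₀ j₀ := ⟨_, rfl⟩
      rw [← ha] at hij
      have hσa : σ a = c * a := by
        have h1 := congrFun (congrFun hg i₀) j₀
        simp only [Matrix.map_apply, Matrix.smul_apply, smul_eq_mul] at h1
        rw [ha]; exact h1
      have hfix : ∀ i j, σ (a⁻¹ * M i j) = a⁻¹ * M i j := by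
        intro i j
        have h1 := congrFun (congrFun hg i) j
        simp only [Matrix.map_apply, Matrix.smul_apply, smul_eq_mul] at h1
        rw [map_mul, map_inv₀, hσa, h1]
        field_simp
      choose hm hhm using fun i j => hι _ (hfix i j)
      have haq : a ^ q ≠ 0 := pow_ne_zero _ hij
      have hrel : ∀ i j, ι (∑ l, hm l i * (hm l j) ^ q₀)
          = if i = j then (a * a ^ q)⁻¹ else 0 := by
        intro i j
        rw [map_sum]
        have h1 : ∀ l, ι (hm l i * (hm l j) ^ q₀) = (a * a ^ q)⁻¹ * (M l i * (M l j) ^ q) := by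
          intro l
          rw [map_mul, ← hfrob, hhm, hhm, mul_pow, inv_pow]
          field_simp
        simp only [h1]
        rw [← Finset.mul_sum, hgU]
        by_cases hij' : i = j
        · rw [if_pos hij', if_pos hij', mul_one]
        · rw [if_neg hij', if_neg hij', mul_zero]
      obtain ⟨lam₀, hlam₀⟩ : ∃ lam₀ : K₀,
          lam₀ = ∑ l, hm l ⟨0, hn⟩ * (hm l ⟨0, hn⟩) ^ q₀ := ⟨_, rfl⟩
      have hlam : ι lam₀ = (a * a ^ q)⁻¹ := by
        have h1 := hrel ⟨0, hn⟩ ⟨0, hn⟩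
        rw [if_pos rfl] at h1
        rw [hlam₀]; exact h1
      have hlam0 : lam₀ ≠ 0 := by
        intro h0
        rw [h0, map_zero] at hlam
        exact (inv_ne_zero (mul_ne_zero hij haq)) hlam.symm
      have hlamq : lam₀ ^ q₀ = lam₀ := by
        apply hιinj
        rw [← hfrob, hlam, inv_pow, mul_pow, frob_frob hK, mul_comm]
      obtain ⟨μ, hμ⟩ := norm_surj hK₀ lam₀ hlam0 hlamq
      have hμ0 : μ ≠ 0 := by
        intro h0
        rw [h0, zero_pow (by omega)] at hμ
        exact hlam0 hμ.symm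
      obtain ⟨H, hHdef⟩ : ∃ H : Matrix (Fin n) (Fin n) K₀, ∀ i j, H i j = μ⁻¹ * hm i j :=
        ⟨Matrix.of (fun i j => μ⁻¹ * hm i j), fun i j => rfl⟩
      have hHU : ∀ i j, ∑ l, H l i * (H l j) ^ q₀ = if i = j then 1 else 0 := by
        intro i j
        have h1 : ∑ l, H l i * (H l j) ^ q₀
            = (μ ^ (q₀ + 1))⁻¹ * ∑ l, hm l i * (hm l j) ^ q₀ := by
          rw [Finset.mul_sum]
          refine Finset.sum_congr rfl fun l _ => ?_
          rw [hHdef, hHdef, mul_pow, inv_pow, pow_succ]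
          field_simp
        rw [h1, hμ]
        apply hιinj
        rw [map_mul, map_inv₀, hrel, hlam]
        by_cases hij' : i = j
        · rw [if_pos hij', if_pos hij', map_one, inv_inv,
            mul_inv_cancel₀ (mul_ne_zero hij haq)]
        · rw [if_neg hij', if_neg hij', mul_zero, map_zero]
      obtain ⟨hG, hhG⟩ := exists_GU_of_preserves hK₀ H (fun u v => by
        have h1 := (herm_iff hK₀ H 1).2 hHU u v
        rwa [one_mul] at h1)
      have hb0 : a * ι μ ≠ 0 := mul_ne_zero hij ((map_ne_zero ι).2 hμ0)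
      have hbU : Units.mk0 (a * ι μ) hb0 ∈ U := by
        rw [hUmem, Units.val_mk0, mul_pow, pow_succ (ι μ), mul_comm ((ι μ) ^ q), hnorm, hμ, hlam,
          pow_succ, mul_comm (a ^ q) a]
        exact mul_inv_cancel₀ (mul_ne_zero hij haq)
      refine ⟨(⟨Units.mk0 (a * ι μ) hb0, hbU⟩, hG), ?_⟩
      apply Subtype.ext
      apply Units.ext
      rw [hΨ, hΦ, ← hM, hhG]
      ext i j
      simp only [Matrix.smul_apply, Matrix.map_apply, smul_eq_mul, Units.val_mk0]
      rw [hHdef, map_mul, map_inv₀, hhm]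
      have hιμ : ι μ ≠ 0 := (map_ne_zero ι).2 hμ0
      field_simp
  have hker : Nat.card Ψ.ker = q₀ + 1 := by
    have hmk1 : ∀ b : ↥U₀, Units.map (ι : K₀ →* K) (b : K₀ˣ)⁻¹ ∈ U := by
      intro b
      rw [hUmem, Units.coe_map, MonoidHom.coe_coe, pow_succ, mul_comm, hnorm, Units.val_inv_eq_inv_val,
        inv_pow, (hU₀mem b).1 b.2, inv_one, map_one]
    have hmk2 : ∀ b : ↥U₀, Matrix.GeneralLinearGroup.scalar (Fin n) (b : K₀ˣ) ∈ Cfsg.GU n K₀ q₀ := by
      intro b
      rw [mem_GU_iff]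
      intro u v
      have h1 : ∀ w : Fin n → K₀,
          ((Matrix.GeneralLinearGroup.scalar (Fin n) (b : K₀ˣ) : GL (Fin n) K₀) :
            Matrix (Fin n) (Fin n) K₀) *ᵥ w = ((b : K₀ˣ) : K₀) • w := by
        intro w
        rw [GeneralLinearGroup.coe_scalar, Matrix.scalar_apply, ← Matrix.smul_one_eq_diagonal,
          Matrix.smul_mulVec, Matrix.one_mulVec]
      rw [h1, h1, herm_smul_left, herm_smul_right, ← mul_assoc, ← pow_succ', (hU₀mem b).1 b.2,
        one_mul]
    have hmk : ∀ b : ↥U₀, ((⟨_, hmk1 b⟩ : ↥U), (⟨_, hmk2 b⟩ : ↥(Cfsg.GU n K₀ q₀))) ∈ Ψ.ker := by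
      intro b
      rw [MonoidHom.mem_ker]
      apply Subtype.ext
      apply Units.ext
      rw [hΨ, hΦ]
      ext i j
      simp only [Matrix.smul_apply, Matrix.map_apply, smul_eq_mul, GeneralLinearGroup.coe_scalar,
        Matrix.scalar_apply, Matrix.diagonal_apply, Units.coe_map, MonoidHom.coe_coe]
      show _ = ((1 : GL (Fin n) K) : Matrix (Fin n) (Fin n) K) i j
      rw [Units.val_one, Matrix.one_apply]
      by_cases hij : i = j
      · rw [if_pos hij, if_pos hij, ← map_mul, Units.inv_mul, map_one]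
      · rw [if_neg hij, if_neg hij, map_zero, mul_zero]
    have hbij : Function.Bijective (fun b : ↥U₀ => (⟨_, hmk b⟩ : Ψ.ker)) := by
      constructor
      · intro b b' hbb
        have h1 := congrArg (fun k : Ψ.ker => ((k.1.1 : ↥U) : Kˣ)) hbb
        simp only at h1
        have h2 := Units.map_injective (f := (ι : K₀ →* K)) hιinj h1
        exact Subtype.ext (inv_injective h2)
      · rintro ⟨⟨⟨a, haU⟩, ⟨h, hh⟩⟩, hk⟩
        rw [MonoidHom.mem_ker] at hk
        have h1 := congrArg (fun g : ↥(Cfsg.GU n K q) =>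
          ((g : GL (Fin n) K) : Matrix (Fin n) (Fin n) K)) hk
        simp only [hΨ, hΦ] at h1
        have hent : ∀ i j, (a : K) * ι ((h : Matrix (Fin n) (Fin n) K₀) i j)
            = if i = j then 1 else 0 := by
          intro i j
          have h2 := congrFun (congrFun h1 i) j
          have h3 : ((1 : ↥(Cfsg.GU n K q)) : GL (Fin n) K) = 1 := rfl
          rw [h3, Units.val_one, Matrix.one_apply] at h2
          simpa using h2
        obtain ⟨b, hb⟩ : ∃ b : K₀, b = (h : Matrix (Fin n) (Fin n) K₀) ⟨0, hn⟩ ⟨0, hn⟩ :=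
          ⟨_, rfl⟩
        have hab : (a : K) * ι b = 1 := by
          rw [hb]; simpa using hent ⟨0, hn⟩ ⟨0, hn⟩
        have hb0 : b ≠ 0 := by
          intro h0; rw [h0, map_zero, mul_zero] at hab; exact zero_ne_one hab
        have hbU₀ : Units.mk0 b hb0 ∈ U₀ := by
          rw [hU₀mem, Units.val_mk0]
          apply hιinj
          rw [← hnorm, map_one]
          have h4 : ι b = (a : K)⁻¹ := eq_inv_of_mul_eq_one_right hab
          rw [h4, ← pow_succ', inv_pow, (hUmem a).1 haU, inv_one]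
        refine ⟨⟨Units.mk0 b hb0, hbU₀⟩, ?_⟩
        apply Subtype.ext
        apply Prod.ext
        · apply Subtype.ext
          apply Units.ext
          show ι ((Units.mk0 b hb0)⁻¹ : K₀ˣ) = (a : K)
          rw [Units.val_inv_eq_inv_val, Units.val_mk0, map_inv₀]
          exact (eq_inv_of_mul_eq_one_left hab).symm
        · apply Subtype.ext
          apply Units.ext
          ext i j
          show ι ((Matrix.scalar (Fin n) b) i j) = ι ((h : Matrix (Fin n) (Fin n) K₀) i j)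
          have h3 := hent i j
          rw [Matrix.scalar_apply, Matrix.diagonal_apply]
          have ha0 : (a : K) ≠ 0 := a.ne_zero
          apply mul_left_cancel₀ ha0
          rw [h3]
          by_cases hij : i = j
          · rw [if_pos hij, if_pos hij, hab]
          · rw [if_neg hij, if_neg hij, map_zero, mul_zero]
    rw [← Nat.card_eq_of_bijective _ hbij, hcardU₀]
  have h1 := Ψ.ker.card_mul_index
  rw [Subgroup.index_ker, hker, Nat.card_prod, hcardU, card_GU hK₀ n] at h1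
  rw [Nat.card_congr (Equiv.subtypeEquivRight hrange).symm, mul_comm]
  exact h1

end Aux

/-- Centraliser of a field automorphism of odd prime order in PGU_n(q): let q = q₀^r with r an odd prime, K the field with q² elements and σ a field automorphism of K of order r (fixed field of order q₀²). The elements g of GU_n(q) whose entrywise image under σ is a scalar multiple of g — those whose coset modulo the q + 1 unitary scalars is fixed by σ — number (q + 1)/(q₀ + 1) · |GU_n(q₀)|; equivalently the centraliser in PGU_n(q) of the induced automorphism has the order of PGU_n(q₀). -/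
theorem result {K : Type*} [Field K] [Fintype K] {q₀ q r n : ℕ} (hr : r.Prime) (hr2 : r ≠ 2) (hn : 1 ≤ n) (hq : q = q₀ ^ r) (hK : Fintype.card K = q ^ 2) (σ : K ≃+* K) (hσ : orderOf σ = r) : (Nat.card {g : ↥(Cfsg.GU n K q) // ∃ c : K, c ≠ 0 ∧ ((g : GL (Fin n) K) : Matrix (Fin n) (Fin n) K).map σ = c • ((g : GL (Fin n) K) : Matrix (Fin n) (Fin n) K)} : ℤ) = ((q + 1) / (q₀ + 1) : ℕ) * ((q₀ : ℤ) ^ (n * (n - 1) / 2) * ∏ i : Fin n, ((q₀ : ℤ) ^ ((i : ℕ) + 1) - (-1) ^ ((i : ℕ) + 1))) := by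
  have hm := main hr hr2 hn hq hK σ hσ
  have hq₀pos : 1 ≤ q₀ := by
    rcases Nat.eq_zero_or_pos q₀ with h | h
    · rw [h, zero_pow hr.ne_zero] at hq
      rw [hq] at hK
      have := Fintype.card_pos (α := K)
      omega
    · exact h
  have hdvd : q₀ + 1 ∣ q + 1 := by
    have h1 := Odd.nat_add_dvd_pow_add_pow q₀ 1 (hr.odd_of_ne_two hr2)
    rwa [one_pow, ← hq] at h1
  obtain ⟨m, hmm⟩ := hdvd
  rw [hmm, Nat.mul_div_cancel_left m (by omega)]
  rw [hmm, mul_assoc, mul_comm] at hm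
  have hm2 := Nat.eq_of_mul_eq_mul_left (by omega : 0 < q₀ + 1) hm
  rw [hm2]
  push_cast
  congr 2
  rw [Finset.prod_range]
  refine Finset.prod_congr rfl fun i _ => ?_
  by_cases hi : Even (i : ℕ)
  · rw [if_pos hi, Odd.neg_one_pow (Even.add_one hi)]
    push_cast
    ring
  · rw [if_neg hi, Even.neg_one_pow (by rw [Nat.not_even_iff_odd] at hi; exact Odd.add_one hi)]
    rw [Nat.cast_sub (Nat.one_le_pow _ _ hq₀pos)]
    push_cast
    ring

end Cfsg.Agent.S2677
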