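import Cfsg.Statements.S2644
import Mathlib
import Cfsg.Agent.Lib_helper4_Herm
import Cfsg.Agent.Lib_helper4_GU
import Cfsg.Agent.Lib_helper4_SU
import Cfsg.Agent.Lib_helper4_SUCenter
import Cfsg.Agent.Lib_helper4_Transv
import Cfsg.Agent.Lib_helper8_Transv
import Cfsg.Agent.S2677

set_option autoImplicit false
open Cfsg

namespace Cfsg.Agent.S2644

section Aux
open Matrix Cfsg.Agent.Lib_helper4_Herm Cfsg.Agent.Lib_helper4_GU Cfsg.Agent.Lib_helper4_SUCenter

variable {K : Type*} [Field K] [Fintype K] {q n : ℕ}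

theorem exists_trace_ne' (hK : Fintype.card K = q ^ 2) : ∃ e : K, e + e ^ q ≠ 0 := by
  have hq := two_le_q hK
  obtain ⟨g, hg⟩ := IsCyclic.exists_ofOrder_eq_natCard (α := Kˣ)
  rw [Nat.card_units, Nat.card_eq_fintype_card (α := K), hK] at hg
  refine ⟨(g : K), ?_⟩
  intro h
  have h0 : (g : K) ^ q = -(g : K) := by rw [eq_neg_iff_add_eq_zero, add_comm]; exact h
  have h1 : g ^ (2 * (q - 1)) = 1 := by
    apply Units.ext
    rw [Units.val_pow_eq_pow_val, Units.val_one]
    have h2 : (g : K) ^ (q - 1) * (g : K) = (-1) * (g : K) := by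
      rw [← pow_succ, Nat.sub_add_cancel (by omega), h0]; ring
    have h3 : (g : K) ^ (q - 1) = -1 := mul_right_cancel₀ g.ne_zero h2
    rw [mul_comm, pow_mul, h3]; ring
  have h3 := orderOf_dvd_of_pow_eq_one h1
  rw [hg] at h3
  have h4 := Nat.le_of_dvd (by omega) h3
  have h5 : 2 * q ≤ q ^ 2 := by nlinarith
  omega

theorem trace_surj' (hK : Fintype.card K = q ^ 2) (a : K) (ha : a ≠ 0) (t : K) (ht : t ^ q = t) :
    ∃ β : K, β * a + (β * a) ^ q = t := by
  obtain ⟨e, he⟩ := exists_trace_ne' hK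
  have hs : (e + e ^ q) ^ q = e + e ^ q := by rw [frob_add hK, frob_frob hK, add_comm]
  refine ⟨e * t / (e + e ^ q) / a, ?_⟩
  rw [div_mul_cancel₀ _ ha, div_pow, mul_pow, ht, hs]
  field_simp

theorem exists_ut (hK : Fintype.card K = q ^ 2) (s : Matrix (Fin n) (Fin n) K)
    (hs : Cfsg.IsTransvection s)
    (hp : ∀ u v, Cfsg.hermForm n K q (s *ᵥ u) (s *ᵥ v) = Cfsg.hermForm n K q u v) :
    ∃ (x : Fin n → K) (c : K), x ≠ 0 ∧ Cfsg.hermForm n K q x x = 0 ∧ c ≠ 0 ∧ c ^ q + c = 0 ∧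
      s = Cfsg.unitaryTransvection n q x c := by
  have hq : q ≠ 0 := Nat.pos_iff_ne_zero.mp (q_pos hK)
  obtain ⟨x, φ, hx, hφ, hφx, rfl⟩ := Cfsg.Agent.Lib_helper8_Transv.exists_eq_one_add_vmv s hs
  have hsv : ∀ v, (1 + vecMulVec x φ) *ᵥ v = v + (φ ⬝ᵥ v) • x :=
    Cfsg.Agent.Lib_helper4_Transv.one_add_vecMulVec_mulVec x φ
  have hE : ∀ u v, (φ ⬝ᵥ v) ^ q * Cfsg.hermForm n K q u x + (φ ⬝ᵥ u) * Cfsg.hermForm n K q x v
      + (φ ⬝ᵥ u) * (φ ⬝ᵥ v) ^ q * Cfsg.hermForm n K q x x = 0 := by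
    intro u v
    have h := hp u v
    rw [hsv, hsv, herm_add_left, herm_add_right hK, herm_add_right hK, herm_smul_left,
      herm_smul_left, herm_smul_right, herm_smul_right] at h
    linear_combination h
  obtain ⟨j, hj⟩ : ∃ j, φ j ≠ 0 := by
    by_contra hne
    push Not at hne
    exact hφ (funext hne)
  obtain ⟨i, hi⟩ : ∃ i, x i ≠ 0 := by
    by_contra hne
    push Not at hne
    exact hx (funext hne)
  have hφj : φ ⬝ᵥ (Pi.single j 1) = φ j := by simp
  have ha : φ ⬝ᵥ (Pi.single j 1) ≠ 0 := by rw [hφj]; exact hj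
  have hxx : Cfsg.hermForm n K q x x = 0 := by
    have h := hE (Pi.single j 1) x
    simp only [hφx, zero_pow hq, zero_mul, mul_zero, zero_add, add_zero] at h
    exact (mul_eq_zero.mp h).resolve_left ha
  set d := -(Cfsg.hermForm n K q (Pi.single j 1) x) / (φ ⬝ᵥ (Pi.single j 1)) with hd
  have h1 : ∀ v, Cfsg.hermForm n K q x v = d * (φ ⬝ᵥ v) ^ q := by
    intro v
    have h := hE (Pi.single j 1) v
    rw [hxx, mul_zero, add_zero] at h
    rw [hd]; field_simp; linear_combination h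
  have hd0 : d ≠ 0 := by
    intro h0
    have h := h1 (Pi.single i 1)
    rw [herm_single_right hq, h0, zero_mul] at h
    exact hi h
  have h2 : ∀ v, φ ⬝ᵥ v = (d ^ q)⁻¹ * Cfsg.hermForm n K q v x := by
    intro v
    have h : (Cfsg.hermForm n K q x v) ^ q = (d * (φ ⬝ᵥ v) ^ q) ^ q := by rw [h1 v]
    rw [herm_conj hK, mul_pow, frob_frob hK] at h
    rw [h, ← mul_assoc, inv_mul_cancel₀ (pow_ne_zero _ hd0), one_mul]
  refine ⟨x, (d ^ q)⁻¹, hx, hxx, inv_ne_zero (pow_ne_zero _ hd0), ?_, ?_⟩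
  · have h := hE (Pi.single i 1) (Pi.single i 1)
    rw [hxx, mul_zero, add_zero, h2, herm_single_left, herm_single_right hq, mul_pow,
      frob_frob hK] at h
    have hxi : x i * x i ^ q ≠ 0 := mul_ne_zero hi (pow_ne_zero _ hi)
    have h3 : ((d ^ q)⁻¹ ^ q + (d ^ q)⁻¹) * (x i * x i ^ q) = 0 := by linear_combination h
    exact (mul_eq_zero.mp h3).resolve_right hxi
  · apply Matrix.ext_of_mulVec_single
    intro k
    rw [hsv, unitaryTransvection_mulVec, h2]

/-- Form-preserving matrices. -/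
def Pres (q : ℕ) (M : Matrix (Fin n) (Fin n) K) : Prop :=
  ∀ u v, Cfsg.hermForm n K q (M *ᵥ u) (M *ᵥ v) = Cfsg.hermForm n K q u v

omit [Fintype K] in
theorem Pres.mul {M N : Matrix (Fin n) (Fin n) K} (hM : Pres q M) (hN : Pres q N) :
    Pres q (M * N) := by
  intro u v
  rw [← mulVec_mulVec, ← mulVec_mulVec, hM, hN]

theorem exists_refl (hK : Fintype.card K = q ^ 2) (u v : Fin n → K)
    (hu : Cfsg.hermForm n K q u u = 0) (hv : Cfsg.hermForm n K q v v = 0)
    (huv : Cfsg.hermForm n K q u v ≠ 0) :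
    ∃ M : Matrix (Fin n) (Fin n) K, Pres q M ∧ M *ᵥ u = v := by
  set a := Cfsg.hermForm n K q u v with ha
  have hb : Cfsg.hermForm n K q v u = a ^ q := (herm_conj hK u v).symm
  have haq : a ^ q ≠ 0 := pow_ne_zero _ huv
  have hxw : ∀ x, Cfsg.hermForm n K q x (u - v)
      = Cfsg.hermForm n K q x u - Cfsg.hermForm n K q x v := fun x => herm_sub_right hK x u v
  have hww : Cfsg.hermForm n K q (u - v) (u - v) = -a - a ^ q := by
    rw [herm_sub_left, hxw, hxw, hu, hv, hb, ← ha]; ring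
  refine ⟨Cfsg.unitaryTransvection n q (u - v) a⁻¹, ?_, ?_⟩
  · intro x y
    rw [herm_transvection hK, hww, inv_pow]
    field_simp
    ring
  · rw [unitaryTransvection_mulVec, hxw, hu, ← ha]
    have h1 : a⁻¹ * (0 - a) = -1 := by rw [zero_sub, mul_neg, inv_mul_cancel₀ huv]
    rw [h1, neg_one_smul]; abel

theorem exists_pres_map (hK : Fintype.card K = q ^ 2) (u v : Fin n → K) (hu0 : u ≠ 0) (hv0 : v ≠ 0)
    (hu : Cfsg.hermForm n K q u u = 0) (hv : Cfsg.hermForm n K q v v = 0) :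
    ∃ M : Matrix (Fin n) (Fin n) K, Pres q M ∧ M *ᵥ u = v := by
  have hq : q ≠ 0 := Nat.pos_iff_ne_zero.mp (q_pos hK)
  by_cases huv : Cfsg.hermForm n K q u v = 0
  · obtain ⟨i, hi⟩ : ∃ i, u i ≠ 0 := by
      by_contra hne
      push Not at hne
      exact hu0 (funext hne)
    obtain ⟨j, hj⟩ : ∃ j, v j ≠ 0 := by
      by_contra hne
      push Not at hne
      exact hv0 (funext hne)
    obtain ⟨z0, hz1, hz2⟩ : ∃ z0, Cfsg.hermForm n K q u z0 ≠ 0 ∧ Cfsg.hermForm n K q v z0 ≠ 0 := by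
      by_cases h1 : Cfsg.hermForm n K q v (Pi.single i 1) = 0
      · by_cases h2 : Cfsg.hermForm n K q u (Pi.single j 1) = 0
        · refine ⟨Pi.single i 1 + Pi.single j 1, ?_, ?_⟩
          · rw [herm_add_right hK, h2, add_zero, herm_single_right hq]; exact hi
          · rw [herm_add_right hK, h1, zero_add, herm_single_right hq]; exact hj
        · exact ⟨Pi.single j 1, h2, by rw [herm_single_right hq]; exact hj⟩
      · exact ⟨Pi.single i 1, by rw [herm_single_right hq]; exact hi, h1⟩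
    have ht : (-(Cfsg.hermForm n K q z0 z0)) ^ q = -(Cfsg.hermForm n K q z0 z0) := by
      rw [frob_neg hK, herm_conj hK]
    obtain ⟨β, hβ⟩ := trace_surj' hK _ hz1 _ ht
    have hzz : Cfsg.hermForm n K q (z0 + β • u) (z0 + β • u) = 0 := by
      rw [herm_add_left, herm_add_right hK, herm_add_right hK, herm_smul_left, herm_smul_left,
        herm_smul_right, herm_smul_right, hu]
      have h3 : (β * Cfsg.hermForm n K q u z0) ^ q = β ^ q * Cfsg.hermForm n K q z0 u := by
        rw [mul_pow, herm_conj hK]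
      rw [h3] at hβ
      linear_combination hβ
    have huz : Cfsg.hermForm n K q u (z0 + β • u) ≠ 0 := by
      rw [herm_add_right hK, herm_smul_right, hu, mul_zero, add_zero]; exact hz1
    have hzv : Cfsg.hermForm n K q (z0 + β • u) v ≠ 0 := by
      rw [herm_add_left, herm_smul_left, huv, mul_zero, add_zero, ← herm_conj hK v z0]
      exact pow_ne_zero _ hz2
    obtain ⟨M1, hM1, h1⟩ := exists_refl hK u _ hu hzz huz
    obtain ⟨M2, hM2, h2⟩ := exists_refl hK _ v hzz hv hzv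
    exact ⟨M2 * M1, hM2.mul hM1, by rw [← mulVec_mulVec, h1, h2]⟩
  · exact exists_refl hK u v hu hv huv

theorem exists_perp_unit (hK : Fintype.card K = q ^ 2) (hn : 3 ≤ n) (y : Fin n → K) (hy : y ≠ 0) :
    ∃ w : Fin n → K, Cfsg.hermForm n K q w y = 0 ∧ Cfsg.hermForm n K q w w = 1 := by
  have hq : q ≠ 0 := Nat.pos_iff_ne_zero.mp (q_pos hK)
  obtain ⟨j, hj⟩ : ∃ j, y j ≠ 0 := by
    by_contra hne
    push Not at hne
    exact hy (funext hne)
  have hcard : 1 < (Finset.univ.erase j).card := by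
    rw [Finset.card_erase_of_mem (Finset.mem_univ j), Finset.card_univ, Fintype.card_fin]; omega
  obtain ⟨a, ha, b, hb, hab⟩ := Finset.one_lt_card.mp hcard
  have haj : a ≠ j := Finset.ne_of_mem_erase ha
  have hbj : b ≠ j := Finset.ne_of_mem_erase hb
  have hyjq : y j ^ q ≠ 0 := pow_ne_zero _ hj
  let α : Fin n → K := fun i => y i ^ q / y j ^ q
  let U : Fin n → (Fin n → K) := fun i => Pi.single i 1 - α i • Pi.single j 1
  have hUy : ∀ i, Cfsg.hermForm n K q (U i) y = 0 := by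
    intro i
    show Cfsg.hermForm n K q (Pi.single i 1 - (y i ^ q / y j ^ q) • Pi.single j 1) y = 0
    rw [herm_sub_left, herm_smul_left, herm_single_left, herm_single_left]
    field_simp
    ring
  have hUU : ∀ i i', i ≠ j → i' ≠ j →
      Cfsg.hermForm n K q (U i) (U i') = (if i = i' then 1 else 0) + α i * α i' ^ q := by
    intro i i' hi hi'
    show Cfsg.hermForm n K q (Pi.single i 1 - α i • Pi.single j 1)
      (Pi.single i' 1 - α i' • Pi.single j 1) = _
    rw [herm_sub_left, herm_sub_right hK, herm_sub_right hK, herm_smul_left, herm_smul_left,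
      herm_smul_right, herm_smul_right, herm_single_right hq, herm_single_right hq,
      herm_single_right hq, herm_single_right hq, Pi.single_eq_of_ne hi.symm,
      Pi.single_eq_of_ne hi', Pi.single_apply]
    by_cases hii : i = i'
    · rw [if_pos hii, if_pos hii.symm, Pi.single_eq_same]; ring
    · rw [if_neg hii, if_neg (Ne.symm hii), Pi.single_eq_same]; ring
  obtain ⟨w0, hw0y, hw0⟩ : ∃ w0 : Fin n → K,
      Cfsg.hermForm n K q w0 y = 0 ∧ Cfsg.hermForm n K q w0 w0 ≠ 0 := by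
    by_cases h1 : Cfsg.hermForm n K q (U a) (U a) = 0
    · by_cases h2 : Cfsg.hermForm n K q (U b) (U b) = 0
      · have hαa : α a ≠ 0 := by
          intro h0
          rw [hUU a a haj haj, if_pos rfl, h0, zero_mul, add_zero] at h1
          exact one_ne_zero h1
        have hαb : α b ≠ 0 := by
          intro h0
          rw [hUU b b hbj hbj, if_pos rfl, h0, zero_mul, add_zero] at h2
          exact one_ne_zero h2
        have hba : Cfsg.hermForm n K q (U b) (U a) ≠ 0 := by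
          rw [hUU b a hbj haj, if_neg hab.symm, zero_add]
          exact mul_ne_zero hαb (pow_ne_zero _ hαa)
        obtain ⟨γ, hγ⟩ := trace_surj' hK _ hba 1 (one_pow q)
        refine ⟨U a + γ • U b, ?_, ?_⟩
        · rw [herm_add_left, herm_smul_left, hUy, hUy, mul_zero, add_zero]
        · have h4 : Cfsg.hermForm n K q (U a + γ • U b) (U a + γ • U b) = 1 := by
            rw [herm_add_left, herm_add_right hK, herm_add_right hK, herm_smul_left,
              herm_smul_left, herm_smul_right, herm_smul_right, h1, h2]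
            have h3 : (γ * Cfsg.hermForm n K q (U b) (U a)) ^ q
                = γ ^ q * Cfsg.hermForm n K q (U a) (U b) := by
              rw [mul_pow, herm_conj hK]
            rw [h3] at hγ
            linear_combination hγ
          rw [h4]; exact one_ne_zero
      · exact ⟨U b, hUy b, h2⟩
    · exact ⟨U a, hUy a, h1⟩
  have hfix : ((Cfsg.hermForm n K q w0 w0)⁻¹) ^ q = (Cfsg.hermForm n K q w0 w0)⁻¹ := by
    rw [inv_pow, herm_conj hK]
  obtain ⟨μ, hμ⟩ := Cfsg.Agent.S2677.norm_surj hK _ (inv_ne_zero hw0) hfix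
  refine ⟨μ • w0, ?_, ?_⟩
  · rw [herm_smul_left, hw0y, mul_zero]
  · rw [herm_smul_left, herm_smul_right, ← mul_assoc, ← pow_succ', hμ, inv_mul_cancel₀ hw0]

theorem exists_qrefl (hK : Fintype.card K = q ^ 2) (w : Fin n → K)
    (hw : Cfsg.hermForm n K q w w = 1) (δ : K) (hδ : δ ^ (q + 1) = 1) :
    ∃ M : Matrix (Fin n) (Fin n) K, Pres q M ∧ M.det = δ ∧
      ∀ y, Cfsg.hermForm n K q w y = 0 → M *ᵥ y = y := by
  have hq : q ≠ 0 := Nat.pos_iff_ne_zero.mp (q_pos hK)
  refine ⟨Cfsg.unitaryTransvection n q w (δ - 1), ?_, ?_, ?_⟩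
  · intro x y
    rw [herm_transvection hK, hw, frob_sub hK, one_pow]
    have h1 : δ ^ q * δ = 1 := by rw [← pow_succ]; exact hδ
    linear_combination (Cfsg.hermForm n K q x w * Cfsg.hermForm n K q w y) * h1
  · unfold Cfsg.unitaryTransvection
    rw [← Matrix.smul_vecMulVec, Cfsg.Agent.Lib_helper4_Transv.det_one_add_vecMulVec]
    have h1 : (fun j => w j ^ q) ⬝ᵥ ((δ - 1) • w) = (δ - 1) * Cfsg.hermForm n K q w w := by
      unfold Cfsg.hermForm dotProduct
      rw [Finset.mul_sum]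
      refine Finset.sum_congr rfl fun i _ => ?_
      rw [Pi.smul_apply, smul_eq_mul]
      ring
    rw [h1, hw]; ring
  · intro y hy
    rw [unitaryTransvection_mulVec, ← herm_conj hK w y, hy, zero_pow hq, mul_zero, zero_smul,
      add_zero]

theorem main (hK : Fintype.card K = q ^ 2) (hn : 3 ≤ n) (s t : ↥(Cfsg.SU n K q))
    (hs : Cfsg.IsTransvection ((s.1 : Matrix.SpecialLinearGroup (Fin n) K) : Matrix (Fin n) (Fin n) K))
    (ht : Cfsg.IsTransvection ((t.1 : Matrix.SpecialLinearGroup (Fin n) K) : Matrix (Fin n) (Fin n) K)) :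
    IsConj s t := by
  have hq : q ≠ 0 := Nat.pos_iff_ne_zero.mp (q_pos hK)
  obtain ⟨x, c, hx0, hxx, hc0, hc, hsx⟩ := exists_ut hK _ hs ((mem_SU_iff _).mp s.2)
  obtain ⟨y, e, hy0, hyy, he0, he, hty⟩ := exists_ut hK _ ht ((mem_SU_iff _).mp t.2)
  have hcq : c ^ q = -c := eq_neg_of_add_eq_zero_left hc
  have heq : e ^ q = -e := eq_neg_of_add_eq_zero_left he
  have hρ : (e / c) ^ q = e / c := by rw [div_pow, hcq, heq, neg_div_neg_eq]
  obtain ⟨lam, hlam⟩ := Cfsg.Agent.S2677.norm_surj hK (e / c) (div_ne_zero he0 hc0) hρ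
  have hlam0 : lam ≠ 0 := by
    rintro rfl
    rw [zero_pow (by omega)] at hlam
    exact (div_ne_zero he0 hc0) hlam.symm
  have hy'0 : lam • y ≠ 0 := smul_ne_zero hlam0 hy0
  have hy'y' : Cfsg.hermForm n K q (lam • y) (lam • y) = 0 := by
    rw [herm_smul_left, herm_smul_right, hyy, mul_zero, mul_zero]
  have hty' : ((t.1 : Matrix.SpecialLinearGroup (Fin n) K) : Matrix (Fin n) (Fin n) K)
      = Cfsg.unitaryTransvection n q (lam • y) c := by
    rw [hty]
    apply Matrix.ext_of_mulVec_single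
    intro k
    rw [unitaryTransvection_mulVec, unitaryTransvection_mulVec, herm_smul_right, smul_smul]
    congr 2
    have h1 : e = c * lam ^ (q + 1) := by rw [hlam]; field_simp
    rw [h1, pow_succ]; ring
  obtain ⟨M0, hM0, hM0x⟩ := exists_pres_map hK x (lam • y) hx0 hy'0 hxx hy'y'
  obtain ⟨w, hwy, hww⟩ := exists_perp_unit hK hn (lam • y) hy'0
  have hdet0 : M0.det ^ (q + 1) = 1 := Cfsg.Agent.Lib_helper4_SU.det_pow_of_preserves hK M0 hM0
  have hdet0' : (M0.det)⁻¹ ^ (q + 1) = 1 := by rw [inv_pow, hdet0, inv_one]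
  obtain ⟨M1, hM1, hM1det, hM1fix⟩ := exists_qrefl hK w hww (M0.det)⁻¹ hdet0'
  have hdetne : M0.det ≠ 0 := by
    intro h0
    rw [h0, zero_pow (by omega)] at hdet0
    exact zero_ne_one hdet0
  have hMdet : (M1 * M0).det = 1 := by rw [Matrix.det_mul, hM1det, inv_mul_cancel₀ hdetne]
  have hMp : Pres q (M1 * M0) := hM1.mul hM0
  have hMx : (M1 * M0) *ᵥ x = lam • y := by rw [← mulVec_mulVec, hM0x]; exact hM1fix _ hwy
  let g : ↥(Cfsg.SU n K q) := ⟨⟨M1 * M0, hMdet⟩, (mem_SU_iff _).mpr hMp⟩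
  rw [isConj_iff]
  refine ⟨g, ?_⟩
  rw [mul_inv_eq_iff_eq_mul]
  apply Subtype.ext
  apply Subtype.ext
  show (M1 * M0) * ((s.1 : Matrix.SpecialLinearGroup (Fin n) K) : Matrix (Fin n) (Fin n) K)
    = ((t.1 : Matrix.SpecialLinearGroup (Fin n) K) : Matrix (Fin n) (Fin n) K) * (M1 * M0)
  rw [hsx, hty']
  apply Matrix.ext_of_mulVec_single
  intro k
  have h5 : Cfsg.hermForm n K q ((M1 * M0) *ᵥ Pi.single k 1) (lam • y)
      = Cfsg.hermForm n K q (Pi.single k 1) x := by
    conv_lhs => rw [← hMx]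
    exact hMp _ _
  have hL : ((M1 * M0) * Cfsg.unitaryTransvection n q x c) *ᵥ Pi.single k 1
      = (M1 * M0) *ᵥ (Cfsg.unitaryTransvection n q x c *ᵥ Pi.single k 1) :=
    (mulVec_mulVec _ _ _).symm
  have hR : (Cfsg.unitaryTransvection n q (lam • y) c * (M1 * M0)) *ᵥ Pi.single k 1
      = Cfsg.unitaryTransvection n q (lam • y) c *ᵥ ((M1 * M0) *ᵥ Pi.single k 1) :=
    (mulVec_mulVec _ _ _).symm
  rw [hL, hR, unitaryTransvection_mulVec, unitaryTransvection_mulVec,
    mulVec_add, mulVec_smul, hMx, h5]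

end Aux

/-- In the special unitary group SU_n(q) with n ≥ 3 (isometries of Σ u_i v_i^q of determinant one over the field with q² elements), any two transvections (elements t with t − 1 of rank one and square zero) are conjugate. -/
theorem result {K : Type*} [Field K] [Fintype K] {q n : ℕ} (hK : Fintype.card K = q ^ 2) (hn : 3 ≤ n) (s t : ↥(Cfsg.SU n K q)) (hs : Cfsg.IsTransvection (((s : GL (Fin n) K) : Matrix (Fin n) (Fin n) K))) (ht : Cfsg.IsTransvection (((t : GL (Fin n) K) : Matrix (Fin n) (Fin n) K))) : IsConj s t := by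
  exact main hK hn s t hs ht

end Cfsg.Agent.S2644
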