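import Mathlib
import Cfsg.Agent.Lib_helper4_Herm
import Cfsg.Agent.Lib_helper4_GU
import Cfsg.Agent.Lib_helper4_SUCenter
import Cfsg.Agent.Lib_helper4_WittHerm
import Cfsg.Agent.S2644

/-! Witt's lemma for the concrete Hermitian form `Cfsg.hermForm n K q` over a field with `q ^ 2`
elements, in matrix form: an isometry between subspaces (or between linearly independent families
with equal Gram matrices) extends to a form-preserving matrix. -/

set_option autoImplicit false

namespace Cfsg.Agent.Lib_helper8_HermWitt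
open Matrix Cfsg.Agent.Lib_helper4_Herm Cfsg.Agent.Lib_helper4_GU Cfsg.Agent.Lib_helper4_SUCenter

variable {K : Type*} [Field K] [Fintype K] {q n : ℕ}

/-- The Frobenius `x ↦ x ^ q` as a ring endomorphism. -/
def frobQ (hK : Fintype.card K = q ^ 2) : K →+* K where
  toFun x := x ^ q
  map_one' := one_pow q
  map_mul' x y := mul_pow x y q
  map_zero' := zero_pow (Nat.pos_iff_ne_zero.mp (q_pos hK))
  map_add' x y := frob_add hK x y

theorem frobQ_apply (hK : Fintype.card K = q ^ 2) (x : K) : frobQ hK x = x ^ q := rfl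

theorem frobQ_ne_id (hK : Fintype.card K = q ^ 2) : frobQ hK ≠ RingHom.id K := by
  intro h
  obtain ⟨c, hc0, hc⟩ := exists_trace_zero hK
  obtain ⟨e, he⟩ := Cfsg.Agent.S2644.exists_trace_ne' hK
  have h1 : ∀ x : K, x ^ q = x := fun x => by
    have := congrArg (fun f : K →+* K => f x) h
    simpa [frobQ_apply] using this
  rw [h1 c] at hc
  rw [h1 e] at he
  apply he
  have h2 : (c + c) * (e / c) = e + e := by field_simp
  rw [← h2, hc, zero_mul]

/-- The Hermitian form as a Mathlib sesquilinear form (semilinear in the first slot). -/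
noncomputable def hermB (hK : Fintype.card K = q ^ 2) (n : ℕ) :
    (Fin n → K) →ₛₗ[frobQ hK] (Fin n → K) →ₗ[K] K :=
  LinearMap.mk₂'ₛₗ (frobQ hK) (RingHom.id K) (fun u v => Cfsg.hermForm n K q v u)
    (fun u u' v => herm_add_right hK v u u')
    (fun c u v => by rw [herm_smul_right]; rfl)
    (fun u v v' => herm_add_left v v' u)
    (fun c u v => by rw [herm_smul_left]; rfl)

theorem hermB_apply (hK : Fintype.card K = q ^ 2) (u v : Fin n → K) :
    hermB hK n u v = Cfsg.hermForm n K q v u := rfl

theorem herm_zero_right (hK : Fintype.card K = q ^ 2) (x : Fin n → K) :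
    Cfsg.hermForm n K q x 0 = 0 := by
  have hq : q ≠ 0 := Nat.pos_iff_ne_zero.mp (q_pos hK)
  unfold Cfsg.hermForm
  simp [zero_pow hq]

omit [Fintype K] in
theorem herm_sum_left {ι : Type*} (s : Finset ι) (f : ι → Fin n → K) (y : Fin n → K) :
    Cfsg.hermForm n K q (∑ i ∈ s, f i) y = ∑ i ∈ s, Cfsg.hermForm n K q (f i) y := by
  classical
  induction s using Finset.induction_on with
  | empty => rw [Finset.sum_empty, Finset.sum_empty, herm_zero_left]
  | insert a s ha ih => rw [Finset.sum_insert ha, Finset.sum_insert ha, herm_add_left, ih]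

theorem herm_sum_right (hK : Fintype.card K = q ^ 2) {ι : Type*} (s : Finset ι)
    (f : ι → Fin n → K) (x : Fin n → K) :
    Cfsg.hermForm n K q x (∑ i ∈ s, f i) = ∑ i ∈ s, Cfsg.hermForm n K q x (f i) := by
  classical
  induction s using Finset.induction_on with
  | empty => rw [Finset.sum_empty, Finset.sum_empty, herm_zero_right hK]
  | insert a s ha ih => rw [Finset.sum_insert ha, Finset.sum_insert ha, herm_add_right hK, ih]

/-- Witt's lemma for `hermForm`, in matrix form. -/
theorem witt_herm (hK : Fintype.card K = q ^ 2) (X Y : Submodule K (Fin n → K)) (φ : X ≃ₗ[K] Y)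
    (hφ : ∀ x x' : X, Cfsg.hermForm n K q (φ x : Fin n → K) (φ x' : Fin n → K)
      = Cfsg.hermForm n K q (x : Fin n → K) (x' : Fin n → K)) :
    ∃ M : Matrix (Fin n) (Fin n) K,
      (∀ u v, Cfsg.hermForm n K q (M *ᵥ u) (M *ᵥ v) = Cfsg.hermForm n K q u v) ∧
      ∀ x : X, M *ᵥ (x : Fin n → K) = (φ x : Fin n → K) := by
  have hq : q ≠ 0 := Nat.pos_iff_ne_zero.mp (q_pos hK)
  have hS : (hermB hK n).IsSymm := ⟨fun x y => herm_conj hK y x⟩
  have hB : (hermB hK n).Nondegenerate := by
    constructor
    · intro x hx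
      funext i
      have h1 := hx (Pi.single i 1)
      rw [hermB_apply, herm_single_left] at h1
      exact (pow_eq_zero_iff hq).mp h1
    · intro y hy
      funext i
      have h1 := hy (Pi.single i 1)
      rw [hermB_apply, herm_single_right hq] at h1
      exact h1
  obtain ⟨g, hg1, hg2⟩ := Cfsg.Agent.Lib_helper4_WittHerm.witt (hermB hK n) hS hB (frobQ_ne_id hK)
    (fun a => frob_frob hK a) X Y φ (fun x x' => by rw [hermB_apply, hermB_apply]; exact hφ x' x)
  refine ⟨LinearMap.toMatrix' g.toLinearMap, ?_, ?_⟩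
  · intro u v
    rw [LinearMap.toMatrix'_mulVec, LinearMap.toMatrix'_mulVec]
    exact hg1 v u
  · intro x
    rw [LinearMap.toMatrix'_mulVec]
    exact hg2 x

/-- Witt's lemma for linearly independent families with the same Gram matrix. -/
theorem witt_family (hK : Fintype.card K = q ^ 2) {ι : Type*} [Fintype ι] (w w' : ι → Fin n → K)
    (hw : LinearIndependent K w) (hw' : LinearIndependent K w')
    (hh : ∀ i j, Cfsg.hermForm n K q (w' i) (w' j) = Cfsg.hermForm n K q (w i) (w j)) :
    ∃ M : Matrix (Fin n) (Fin n) K,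
      (∀ u v, Cfsg.hermForm n K q (M *ᵥ u) (M *ᵥ v) = Cfsg.hermForm n K q u v) ∧
      ∀ i, M *ᵥ w i = w' i := by
  classical
  set b := Module.Basis.span hw with hb
  set b' := Module.Basis.span hw' with hb'
  set φ := b.equiv b' (Equiv.refl ι) with hφ
  have hbi : ∀ i, ((b i : Submodule.span K (Set.range w)) : Fin n → K) = w i := fun i => by
    rw [hb, Module.Basis.span_apply]
  have hb'i : ∀ i, ((b' i : Submodule.span K (Set.range w')) : Fin n → K) = w' i := fun i => by
    rw [hb', Module.Basis.span_apply]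
  have hx : ∀ x : Submodule.span K (Set.range w), (x : Fin n → K) = ∑ i, b.repr x i • w i := by
    intro x
    conv_lhs => rw [← b.sum_repr x]
    rw [Submodule.coe_sum]
    refine Finset.sum_congr rfl fun i _ => ?_
    rw [Submodule.coe_smul, hbi]
  have hφx : ∀ x, ((φ x : Submodule.span K (Set.range w')) : Fin n → K)
      = ∑ i, b.repr x i • w' i := by
    intro x
    conv_lhs => rw [← b.sum_repr x]
    rw [map_sum, Submodule.coe_sum]
    refine Finset.sum_congr rfl fun i _ => ?_
    rw [map_smul, Submodule.coe_smul, hφ, Module.Basis.equiv_apply, Equiv.refl_apply, hb'i]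
  obtain ⟨M, hM1, hM2⟩ := witt_herm hK _ _ φ (by
    intro x x'
    rw [hφx, hφx, hx x, hx x']
    simp only [herm_sum_left, herm_sum_right hK, herm_smul_left, herm_smul_right, hh])
  refine ⟨M, hM1, fun i => ?_⟩
  have h1 := hM2 (b i)
  rw [hbi, hφ, Module.Basis.equiv_apply, Equiv.refl_apply, hb'i] at h1
  exact h1

end Cfsg.Agent.Lib_helper8_HermWitt
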