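import Mathlib
import Cfsg.Prelude.Def_Characters
import Cfsg.Prelude.Def_ParabolicCharacters
import Cfsg.Agent.Lib_helper3_CharBasic
import Cfsg.Agent.Lib_helper3_CharInd
import Cfsg.Agent.Lib_helper4_SL2Quat

set_option autoImplicit false

/-! Induced class functions from the Borel subgroup of `SL_2` over a finite field:
transversal formula and explicit values. -/

namespace Cfsg.Agent.Lib_helper8_IndB

open Cfsg Cfsg.Agent.Lib_helper3_CharBasic Cfsg.Agent.Lib_helper3_CharInd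
open scoped ComplexConjugate

universe u

section General

variable {G : Type u} [Group G]

theorem ext_conj (B : Subgroup G) (θ : B → ℂ) (hθ : IsClassFunction B θ) (b : B) (y : G) :
    extendByZero B θ ((b : G)⁻¹ * y * b) = extendByZero B θ y := by
  by_cases hy : y ∈ B
  · have hy' : (b : G)⁻¹ * y * b ∈ B := B.mul_mem (B.mul_mem (B.inv_mem b.2) hy) b.2
    rw [extendByZero_mem B θ hy', extendByZero_mem B θ hy]
    have h1 := hθ ⟨y, hy⟩ b⁻¹
    rw [← h1]
    congr 1
    apply Subtype.ext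
    simp
  · have hy' : (b : G)⁻¹ * y * b ∉ B := by
      intro h
      apply hy
      have h1 : y = (b : G) * ((b : G)⁻¹ * y * b) * (b : G)⁻¹ := by group
      rw [h1]
      exact B.mul_mem (B.mul_mem b.2 h) (B.inv_mem b.2)
    rw [extendByZero_not_mem B θ hy', extendByZero_not_mem B θ hy]

theorem ind_transversal [Fintype G] (B : Subgroup G) {ι : Type*} [Fintype ι] (r : ι → G)
    (hr : Function.Bijective (fun p : ι × B => r p.1 * (p.2 : G))) (θ : B → ℂ)
    (hθ : IsClassFunction B θ) (g : G) :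
    indFun B θ g = ∑ i, extendByZero B θ ((r i)⁻¹ * g * r i) := by
  classical
  haveI : Fintype B := Fintype.ofFinite B
  rw [indFun_apply]
  have h1 : ∑ x : G, extendByZero B θ (x⁻¹ * g * x) =
      ∑ p : ι × B, extendByZero B θ ((r p.1 * (p.2 : G))⁻¹ * g * (r p.1 * (p.2 : G))) :=
    (hr.sum_comp (fun x => extendByZero B θ (x⁻¹ * g * x))).symm
  rw [h1, Fintype.sum_prod_type]
  have h2 : ∀ i : ι, ∑ b : B, extendByZero B θ ((r i * (b : G))⁻¹ * g * (r i * (b : G))) =
      (Nat.card B : ℂ) * extendByZero B θ ((r i)⁻¹ * g * r i) := by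
    intro i
    have h3 : ∀ b : B, extendByZero B θ ((r i * (b : G))⁻¹ * g * (r i * (b : G))) =
        extendByZero B θ ((r i)⁻¹ * g * r i) := by
      intro b
      rw [← ext_conj B θ hθ b ((r i)⁻¹ * g * r i)]
      congr 1
      group
    rw [Finset.sum_congr rfl (fun b _ => h3 b), Finset.sum_const, Finset.card_univ, nsmul_eq_mul,
      Nat.card_eq_fintype_card]
  rw [Finset.sum_congr rfl (fun i _ => h2 i), ← Finset.mul_sum, ← mul_assoc,
    inv_mul_cancel₀ (card_subgroup_ne_zero B), one_mul]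

end General

section SL

open Matrix

variable {F : Type u} [Field F]

local notation "SL2" => SpecialLinearGroup (Fin 2) F
local notation "M2" => Matrix (Fin 2) (Fin 2) F
local notation "BS" => (Subgroup.comap Matrix.SpecialLinearGroup.toGL (Cfsg.upperTriangularGL 2 F))

theorem mem_BS_iff (g : SL2) : g ∈ BS ↔ (g : Matrix (Fin 2) (Fin 2) F) 1 0 = 0 := by
  rw [Subgroup.mem_comap]
  constructor
  · intro h
    have h' : ((SpecialLinearGroup.toGL g : GL (Fin 2) F) :
        Matrix (Fin 2) (Fin 2) F).BlockTriangular id := h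
    exact h' (show id (0 : Fin 2) < id 1 by decide)
  · intro h
    show ((SpecialLinearGroup.toGL g : GL (Fin 2) F) :
        Matrix (Fin 2) (Fin 2) F).BlockTriangular id
    intro i j hij
    fin_cases i <;> fin_cases j
    · exact absurd hij (by decide)
    · exact absurd hij (by decide)
    · exact h
    · exact absurd hij (by decide)

/-- The transversal element `[[t, -1], [1, 0]]`. -/
def nSL (t : F) : SL2 := ⟨!![t, -1; 1, 0], by simp [Matrix.det_fin_two_of]⟩

theorem nSL_entries (t : F) : (nSL t : M2) 0 0 = t ∧ (nSL t : M2) 0 1 = -1 ∧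
    (nSL t : M2) 1 0 = 1 ∧ (nSL t : M2) 1 1 = 0 := ⟨rfl, rfl, rfl, rfl⟩

theorem nSL_inv_entries (t : F) : (((nSL t)⁻¹ : SL2) : M2) 0 0 = 0 ∧
    (((nSL t)⁻¹ : SL2) : M2) 0 1 = 1 ∧ (((nSL t)⁻¹ : SL2) : M2) 1 0 = -1 ∧
    (((nSL t)⁻¹ : SL2) : M2) 1 1 = t := by
  have h : (((nSL t)⁻¹ : SL2) : M2) = !![0, 1; -1, t] := by
    have e : (((nSL t)⁻¹ : SL2) : M2) = adjugate (!![t, -1; 1, 0] : M2) := rfl
    rw [e, Matrix.adjugate_fin_two_of]
    simp
  rw [h]
  exact ⟨rfl, rfl, rfl, rfl⟩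

theorem cj_entries (g : SL2) (t : F) :
    (((nSL t)⁻¹ * g * nSL t : SL2) : M2) 0 0 = (g : M2) 1 0 * t + (g : M2) 1 1 ∧
    (((nSL t)⁻¹ * g * nSL t : SL2) : M2) 1 0 =
      (g : M2) 1 0 * t ^ 2 + ((g : M2) 1 1 - (g : M2) 0 0) * t - (g : M2) 0 1 ∧
    (((nSL t)⁻¹ * g * nSL t : SL2) : M2) 1 1 = (g : M2) 0 0 - (g : M2) 1 0 * t := by
  obtain ⟨n00, n01, n10, n11⟩ := nSL_entries t
  obtain ⟨i00, i01, i10, i11⟩ := nSL_inv_entries t
  refine ⟨?_, ?_, ?_⟩
  · rw [Cfsg.Agent.Lib_helper4_SL2Quat.mul_entries, Cfsg.Agent.Lib_helper4_SL2Quat.mul_entries,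
      Cfsg.Agent.Lib_helper4_SL2Quat.mul_entries, n00, n10, i00, i01]
    ring
  · rw [Cfsg.Agent.Lib_helper4_SL2Quat.mul_entries, Cfsg.Agent.Lib_helper4_SL2Quat.mul_entries,
      Cfsg.Agent.Lib_helper4_SL2Quat.mul_entries, n00, n10, i10, i11]
    ring
  · rw [Cfsg.Agent.Lib_helper4_SL2Quat.mul_entries, Cfsg.Agent.Lib_helper4_SL2Quat.mul_entries,
      Cfsg.Agent.Lib_helper4_SL2Quat.mul_entries, n01, n11, i10, i11]
    ring

/-- The transversal of the Borel subgroup. -/
def rS : Option F → SL2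
  | none => 1
  | some t => nSL t

theorem BS_entry (b : BS) : ((b : SL2) : M2) 1 0 = 0 := (mem_BS_iff _).mp b.2

theorem BS_det (b : BS) : ((b : SL2) : M2) 0 0 * ((b : SL2) : M2) 1 1 = 1 := by
  have h1 := Cfsg.Agent.Lib_helper4_SL2Quat.det_eq (b : SL2)
  rw [BS_entry b] at h1
  linear_combination h1

theorem BS_00_ne (b : BS) : ((b : SL2) : M2) 0 0 ≠ 0 := by
  intro h
  have h1 := BS_det b
  rw [h, zero_mul] at h1
  exact zero_ne_one h1

theorem rS_bij : Function.Bijective (fun p : Option F × BS => rS p.1 * (p.2 : SL2)) := by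
  have e10 : ∀ (t : F) (c : BS),
      ((nSL t * (c : SL2) : SL2) : Matrix (Fin 2) (Fin 2) F) 1 0 = ((c : SL2) : M2) 0 0 := by
    intro t c
    rw [Cfsg.Agent.Lib_helper4_SL2Quat.mul_entries]
    simp [nSL]
  have e00 : ∀ (t : F) (c : BS),
      ((nSL t * (c : SL2) : SL2) : Matrix (Fin 2) (Fin 2) F) 0 0 = t * ((c : SL2) : M2) 0 0 := by
    intro t c
    rw [Cfsg.Agent.Lib_helper4_SL2Quat.mul_entries, BS_entry c]
    simp [nSL]
  constructor
  · rintro ⟨o, b⟩ ⟨o', b'⟩ h
    have h' : rS o * (b : SL2) = rS o' * (b' : SL2) := h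
    cases o with
    | none =>
      cases o' with
      | none =>
        have h2 : (b : SL2) = b' := by simpa [rS] using h'
        rw [Subtype.ext h2]
      | some t' =>
        exfalso
        have h1 := congrArg (fun z : SL2 => (z : M2) 1 0) h'
        simp only [rS, one_mul] at h1
        rw [e10 t' b', BS_entry b] at h1
        exact BS_00_ne b' h1.symm
    | some t =>
      cases o' with
      | none =>
        exfalso
        have h1 := congrArg (fun z : SL2 => (z : M2) 1 0) h'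
        simp only [rS, one_mul] at h1
        rw [e10 t b, BS_entry b'] at h1
        exact BS_00_ne b h1
      | some t' =>
        have h1 := congrArg (fun z : SL2 => (z : M2) 1 0) h'
        have h0 := congrArg (fun z : SL2 => (z : M2) 0 0) h'
        simp only [rS] at h1 h0
        rw [e10 t b, e10 t' b'] at h1
        rw [e00 t b, e00 t' b', h1] at h0
        have ht : t = t' := mul_right_cancel₀ (BS_00_ne b') h0
        subst ht
        have h2 : (b : SL2) = b' := mul_left_cancel h'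
        rw [Subtype.ext h2]
  · intro x
    by_cases hx : (x : M2) 1 0 = 0
    · exact ⟨(none, ⟨x, (mem_BS_iff x).mpr hx⟩), one_mul x⟩
    · have hb : (nSL ((x : M2) 0 0 / (x : M2) 1 0))⁻¹ * x ∈ BS := by
        rw [mem_BS_iff, Cfsg.Agent.Lib_helper4_SL2Quat.mul_entries]
        obtain ⟨-, -, h2, h3⟩ := nSL_inv_entries ((x : M2) 0 0 / (x : M2) 1 0)
        rw [h2, h3]
        field_simp
        ring
      refine ⟨(some ((x : M2) 0 0 / (x : M2) 1 0), ⟨_, hb⟩), ?_⟩
      show nSL ((x : M2) 0 0 / (x : M2) 1 0) * ((nSL ((x : M2) 0 0 / (x : M2) 1 0))⁻¹ * x) = x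
      group

theorem theta_class (ψ : F → ℂ) : IsClassFunction BS (fun b : BS => ψ (((b : SL2) : M2) 0 0)) := by
  intro g h
  show ψ ((((h * g * h⁻¹ : BS) : SL2) : M2) 0 0) = ψ (((g : SL2) : M2) 0 0)
  congr 1
  have e : ((h * g * h⁻¹ : BS) : SL2) = (h : SL2) * (g : SL2) * (h : SL2)⁻¹ := rfl
  have e' : (((h : SL2)⁻¹ : SL2) : M2) = adjugate ((h : SL2) : M2) := rfl
  have a1 : (((h : SL2)⁻¹ : SL2) : M2) 0 0 = ((h : SL2) : M2) 1 1 := by
    rw [e', Matrix.adjugate_fin_two]
    rfl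
  have a2 : (((h : SL2)⁻¹ : SL2) : M2) 1 0 = -((h : SL2) : M2) 1 0 := by
    rw [e', Matrix.adjugate_fin_two]
    rfl
  rw [e, Cfsg.Agent.Lib_helper4_SL2Quat.mul_entries, Cfsg.Agent.Lib_helper4_SL2Quat.mul_entries,
    Cfsg.Agent.Lib_helper4_SL2Quat.mul_entries, a1, a2, BS_entry h, BS_entry g]
  have hd := BS_det h
  linear_combination (((g : SL2) : M2) 0 0) * hd

theorem ext_theta [DecidableEq F] (ψ : F → ℂ) (y : SL2) :
    extendByZero BS (fun b : BS => ψ (((b : SL2) : M2) 0 0)) y =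
      if (y : M2) 1 0 = 0 then ψ ((y : M2) 0 0) else 0 := by
  split_ifs with h
  · rw [extendByZero_mem BS _ ((mem_BS_iff y).mpr h)]
  · rw [extendByZero_not_mem BS _ (fun hy => h ((mem_BS_iff y).mp hy))]

variable [Fintype F] [DecidableEq F]

theorem ind_SL2 [Fintype (SpecialLinearGroup (Fin 2) F)] (θ : BS → ℂ) (hθ : IsClassFunction BS θ) (g : SL2) :
    indFun BS θ g = extendByZero BS θ g +
      ∑ t : F, extendByZero BS θ ((nSL t)⁻¹ * g * nSL t) := by
  rw [ind_transversal BS rS rS_bij θ hθ g, Fintype.sum_option]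
  simp [rS]

theorem ind_SL2_psi [Fintype (SpecialLinearGroup (Fin 2) F)] (ψ : F → ℂ) (g : SL2) :
    indFun BS (fun b : BS => ψ (((b : SL2) : M2) 0 0)) g =
      (if (g : M2) 1 0 = 0 then ψ ((g : M2) 0 0) else 0) +
      ∑ t : F, (if (g : M2) 1 0 * t ^ 2 + ((g : M2) 1 1 - (g : M2) 0 0) * t - (g : M2) 0 1 = 0
        then ψ ((g : M2) 1 0 * t + (g : M2) 1 1) else 0) := by
  rw [ind_SL2 _ (theta_class ψ) g, ext_theta]
  congr 1
  apply Finset.sum_congr rfl
  intro t _
  rw [ext_theta]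
  obtain ⟨e0, e1, e2⟩ := cj_entries g t
  rw [e0, e1]

/-- Parametrisation of the Borel subgroup. -/
def eBS : Fˣ × F ≃ BS where
  toFun p := ⟨(⟨!![(p.1 : F), p.2; 0, ((p.1⁻¹ : Fˣ) : F)], by simp [Matrix.det_fin_two_of]⟩ : SL2),
    (mem_BS_iff _).mpr rfl⟩
  invFun b := (Units.mk0 (((b : SL2) : M2) 0 0) (BS_00_ne b), ((b : SL2) : M2) 0 1)
  left_inv p := by
    apply Prod.ext
    · apply Units.ext
      rfl
    · rfl
  right_inv b := by
    apply Subtype.ext
    apply Cfsg.Agent.Lib_helper4_SL2Quat.ext2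
    · rfl
    · rfl
    · exact (BS_entry b).symm
    · show (((Units.mk0 (((b : SL2) : M2) 0 0) (BS_00_ne b))⁻¹ : Fˣ) : F) = ((b : SL2) : M2) 1 1
      rw [Units.val_inv_eq_inv_val, Units.val_mk0]
      exact inv_eq_of_mul_eq_one_right (BS_det b)

theorem card_BS : (Nat.card BS : ℂ) = ((Fintype.card F : ℂ) - 1) * Fintype.card F := by
  rw [Nat.card_congr (eBS (F := F)).symm, Nat.card_prod, Nat.card_eq_fintype_card,
    Nat.card_eq_fintype_card, Fintype.card_units]
  push_cast [Nat.cast_sub (Fintype.card_pos (α := F))]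
  ring

theorem sum_units (χ : MulChar F ℂ) [Decidable (χ = 1)] :
    ∑ a : Fˣ, χ (a : F) = if χ = 1 then ((Fintype.card F : ℂ) - 1) else 0 := by
  have h : ∑ a : F, χ a = ∑ a : Fˣ, χ (a : F) := by
    rw [← Finset.sum_subset (Finset.subset_univ
      (Finset.univ.map ⟨((↑) : Fˣ → F), Units.val_injective⟩))]
    · rw [Finset.sum_map]
      rfl
    · intro a _ ha
      apply MulChar.map_nonunit
      intro hu
      apply ha
      rw [Finset.mem_map]
      exact ⟨hu.unit, Finset.mem_univ _, rfl⟩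
  split_ifs with h1
  · rw [← h, h1, MulChar.sum_one_eq_card_units, Fintype.card_units,
      Nat.cast_sub (Fintype.card_pos (α := F)), Nat.cast_one]
  · rw [← h]
    exact MulChar.sum_eq_zero_of_ne_one h1

theorem card_ne : ((Fintype.card F : ℂ) - 1) ≠ 0 ∧ (Fintype.card F : ℂ) ≠ 0 := by
  have h1 : 1 < Fintype.card F := Fintype.one_lt_card
  constructor
  · intro h
    have h2 : (Fintype.card F : ℂ) = 1 := by linear_combination h
    have h3 : Fintype.card F = 1 := by exact_mod_cast h2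
    omega
  · have : Fintype.card F ≠ 0 := by omega
    exact_mod_cast this

omit [DecidableEq F] in
theorem conj_unit (β : MulChar F ℂ) (a : Fˣ) :
    conj (β (a : F)) = (β⁻¹) (a : F) ∧ conj (β ((a⁻¹ : Fˣ) : F)) = β (a : F) := by
  constructor
  · exact MulChar.star_apply' β _
  · have h1 : conj (β ((a⁻¹ : Fˣ) : F)) = (β⁻¹) ((a⁻¹ : Fˣ) : F) := MulChar.star_apply' β _
    rw [h1, MulChar.inv_apply', Units.val_inv_eq_inv_val, inv_inv]

/-- The linear character `b ↦ α(b₀₀)` of the Borel subgroup is a character. -/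
theorem theta_char (α : MulChar F ℂ) :
    IsCharacter BS (fun b : BS => α (((b : SL2) : M2) 0 0)) := by
  let d : BS →* Fˣ :=
    { toFun := fun b => Units.mk0 (((b : SL2) : M2) 0 0) (BS_00_ne b)
      map_one' := by
        apply Units.ext
        show ((1 : SL2) : Matrix (Fin 2) (Fin 2) F) 0 0 = 1
        simp
      map_mul' := by
        intro b c
        apply Units.ext
        show (((b * c : BS) : SL2) : M2) 0 0 = ((b : SL2) : M2) 0 0 * ((c : SL2) : M2) 0 0
        have e : ((b * c : BS) : SL2) = (b : SL2) * (c : SL2) := rfl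
        rw [e, Cfsg.Agent.Lib_helper4_SL2Quat.mul_entries, BS_entry c]
        ring }
  have h := isCharacter_of_monoidHom ((MulChar.toUnitHom α).comp d)
  have e : (fun b : BS => α (((b : SL2) : M2) 0 0)) =
      fun g : BS => ((((MulChar.toUnitHom α).comp d) g : ℂˣ) : ℂ) := by
    funext b
    show α (((b : SL2) : M2) 0 0) = ((MulChar.toUnitHom α (d b) : ℂˣ) : ℂ)
    rw [MulChar.coe_toUnitHom]
    rfl
  rw [e]
  exact h

/-- Inner product of two principal series functions of `SL_2`. -/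
theorem inner_RS [Fintype (SpecialLinearGroup (Fin 2) F)] (α β : MulChar F ℂ) [Decidable (α = β)] [Decidable (α = β⁻¹)] :
    classInner (indFun BS (fun b : BS => α (((b : SL2) : M2) 0 0)))
      (indFun BS (fun b : BS => β (((b : SL2) : M2) 0 0))) =
      (if α = β then 1 else 0) + (if α = β⁻¹ then 1 else 0) := by
  classical
  haveI : Fintype BS := Fintype.ofFinite _
  rw [frobenius_reciprocity BS _ _ (isClassFunction_indFun BS _), classInner_def]
  have hval : ∀ b : BS, indFun BS (fun b : BS => β (((b : SL2) : M2) 0 0)) (b : SL2) =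
      β (((b : SL2) : M2) 0 0) + ∑ t : F,
        (if ((b : SL2) : M2) 0 1 = (((b : SL2) : M2) 1 1 - ((b : SL2) : M2) 0 0) * t
          then β (((b : SL2) : M2) 1 1) else 0) := by
    intro b
    rw [ind_SL2_psi (fun u => β u) (b : SL2), if_pos (BS_entry b)]
    congr 1
    apply Finset.sum_congr rfl
    intro t _
    rw [BS_entry b]
    by_cases h : ((b : SL2) : M2) 0 1 = (((b : SL2) : M2) 1 1 - ((b : SL2) : M2) 0 0) * t
    · rw [if_pos h, if_pos (by rw [h]; ring)]
      simp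
    · rw [if_neg h, if_neg (fun h' => h (by linear_combination -h'))]
  have hterm : ∀ p : Fˣ × F,
      α ((((eBS p : BS) : SL2) : M2) 0 0) * conj (indFun BS (fun b : BS => β (((b : SL2) : M2) 0 0))
        ((eBS p : BS) : SL2)) =
      (α * β⁻¹) (p.1 : F) + ∑ t : F,
        (if p.2 = (((p.1⁻¹ : Fˣ) : F) - (p.1 : F)) * t then (α * β) (p.1 : F) else 0) := by
    intro p
    rw [hval]
    have e00 : (((eBS p : BS) : SL2) : M2) 0 0 = (p.1 : F) := rfl
    have e01 : (((eBS p : BS) : SL2) : M2) 0 1 = p.2 := rfl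
    have e11 : (((eBS p : BS) : SL2) : M2) 1 1 = ((p.1⁻¹ : Fˣ) : F) := rfl
    rw [e00, e01, e11, map_add, mul_add, map_sum, Finset.mul_sum]
    congr 1
    · rw [MulChar.mul_apply, (conj_unit β p.1).1]
    · apply Finset.sum_congr rfl
      intro t _
      by_cases h : p.2 = (((p.1⁻¹ : Fˣ) : F) - (p.1 : F)) * t
      · rw [if_pos h, if_pos h, MulChar.mul_apply, (conj_unit β p.1).2]
      · rw [if_neg h, if_neg h, map_zero, mul_zero]
  have hsum : ∑ b : BS, α (((b : SL2) : M2) 0 0) * conj (indFun BS (fun b : BS => β (((b : SL2) : M2) 0 0))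
      (b : SL2)) = ∑ p : Fˣ × F, ((α * β⁻¹) (p.1 : F) + ∑ t : F,
        (if p.2 = (((p.1⁻¹ : Fˣ) : F) - (p.1 : F)) * t then (α * β) (p.1 : F) else 0)) := by
    rw [← Equiv.sum_comp (eBS (F := F))]
    exact Finset.sum_congr rfl (fun p _ => hterm p)
  rw [hsum, Finset.sum_add_distrib, Fintype.sum_prod_type, Fintype.sum_prod_type]
  have s1 : ∑ a : Fˣ, ∑ _c : F, (α * β⁻¹) (a : F) =
      (Fintype.card F : ℂ) * ∑ a : Fˣ, (α * β⁻¹) (a : F) := by
    rw [Finset.mul_sum]
    apply Finset.sum_congr rfl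
    intro a _
    rw [Finset.sum_const, Finset.card_univ, nsmul_eq_mul]
  have s2 : ∑ a : Fˣ, ∑ c : F, ∑ t : F,
      (if c = (((a⁻¹ : Fˣ) : F) - (a : F)) * t then (α * β) (a : F) else 0) =
      (Fintype.card F : ℂ) * ∑ a : Fˣ, (α * β) (a : F) := by
    rw [Finset.mul_sum]
    apply Finset.sum_congr rfl
    intro a _
    rw [Finset.sum_comm]
    have h3 : ∀ t : F, ∑ c : F,
        (if c = (((a⁻¹ : Fˣ) : F) - (a : F)) * t then (α * β) (a : F) else 0) = (α * β) (a : F) := by
      intro t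
      rw [Finset.sum_ite_eq']
      simp
    rw [Finset.sum_congr rfl (fun t _ => h3 t), Finset.sum_const, Finset.card_univ, nsmul_eq_mul]
  rw [s1, s2, sum_units, sum_units, card_BS]
  obtain ⟨hq1, hq0⟩ := card_ne (F := F)
  have e1 : (α * β⁻¹ = 1) ↔ α = β := mul_inv_eq_one
  have e2 : (α * β = 1) ↔ α = β⁻¹ := mul_eq_one_iff_eq_inv
  by_cases h1 : α = β <;> by_cases h2 : α = β⁻¹
  · rw [if_pos (e1.mpr h1), if_pos (e2.mpr h2), if_pos h1, if_pos h2,
      inv_mul_eq_iff_eq_mul₀ (mul_ne_zero hq1 hq0)]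
    ring
  · rw [if_pos (e1.mpr h1), if_neg (fun h => h2 (e2.mp h)), if_pos h1, if_neg h2,
      inv_mul_eq_iff_eq_mul₀ (mul_ne_zero hq1 hq0)]
    ring
  · rw [if_neg (fun h => h1 (e1.mp h)), if_pos (e2.mpr h2), if_neg h1, if_pos h2,
      inv_mul_eq_iff_eq_mul₀ (mul_ne_zero hq1 hq0)]
    ring
  · rw [if_neg (fun h => h1 (e1.mp h)), if_neg (fun h => h2 (e2.mp h)), if_neg h1, if_neg h2,
      inv_mul_eq_iff_eq_mul₀ (mul_ne_zero hq1 hq0)]
    ring

end SL

end Cfsg.Agent.Lib_helper8_IndB
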