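import Cfsg.Statements.S2507
import Mathlib
import Cfsg.Agent.Lib_helper4_SL2Cyc
import Cfsg.Agent.Lib_helper8_GL2

set_option autoImplicit false
open Cfsg

namespace Cfsg.Agent.S2507

section Aux
open Matrix

variable {F : Type*} [Field F] [Fintype F]

theorem two_zero (h2 : 2 ∣ Fintype.card F) : (2 : F) = 0 := by
  have h1 : ringChar F = 2 := FiniteField.even_card_iff_char_two.mpr (Nat.mod_eq_zero_of_dvd h2)
  haveI : CharP F 2 := ringChar.eq_iff.mp h1
  have := CharP.cast_eq_zero F 2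
  exact_mod_cast this

omit [Fintype F] in
theorem sq_inj (h2 : (2 : F) = 0) {a b : F} (h : a ^ 2 = b ^ 2) : a = b := by
  have h3 : (a - b) ^ 2 = 0 := by linear_combination h + (b ^ 2 - a * b) * h2
  exact sub_eq_zero.mp ((pow_eq_zero_iff two_ne_zero).mp h3)

theorem exists_sqrt (h2 : (2 : F) = 0) (μ : F) : ∃ s : F, s ^ 2 = μ := by
  have hinj : Function.Injective (fun s : F => s ^ 2) := fun a b h => sq_inj h2 h
  exact (Finite.injective_iff_surjective.mp hinj) μ

theorem card_S_zero (h2 : (2 : F) = 0) :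
    Nat.card {p : F × F // p.1 ^ 2 + p.1 * p.2 * (0 : F) + p.2 ^ 2 = 1} = Fintype.card F := by
  rw [← Nat.card_eq_fintype_card]
  refine Nat.card_congr ⟨fun p => p.1.1, fun a => ⟨(a, a + 1), ?_⟩, ?_, ?_⟩
  · show a ^ 2 + a * (a + 1) * 0 + (a + 1) ^ 2 = 1
    linear_combination (a ^ 2 + a) * h2
  · rintro ⟨⟨a, b⟩, hp⟩
    apply Subtype.ext
    show (a, a + 1) = (a, b)
    have hp' : a ^ 2 + a * b * 0 + b ^ 2 = 1 := hp
    have h3 : (a + b) ^ 2 = 1 ^ 2 := by linear_combination hp' + a * b * h2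
    have h4 := sq_inj h2 h3
    rw [Prod.mk.injEq]
    exact ⟨rfl, by linear_combination -h4 + a * h2⟩
  · intro a; rfl

theorem card_S_split (h2 : (2 : F) = 0) (t ρ : F) (ht : t ≠ 0) (hρ : ρ ^ 2 + t * ρ + 1 = 0) :
    Nat.card {p : F × F // p.1 ^ 2 + p.1 * p.2 * t + p.2 ^ 2 = 1} = Fintype.card F - 1 := by
  classical
  have hρ0 : ρ ≠ 0 := by
    rintro rfl
    simp at hρ
  rw [← Fintype.card_units, ← Nat.card_eq_fintype_card]
  set σ := ρ⁻¹ with hσ
  have hρσ : ρ * σ = 1 := mul_inv_cancel₀ hρ0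
  have hsum : ρ + σ = t := by
    have h5 : σ * (ρ ^ 2 + t * ρ + 1) = 0 := by rw [hρ, mul_zero]
    linear_combination h5 - ρ * hρσ - t * hρσ - t * h2
  have hfac : ∀ a b : F, a ^ 2 + a * b * t + b ^ 2 = (a + ρ * b) * (a + σ * b) := by
    intro a b
    linear_combination (-a * b) * hsum - b ^ 2 * hρσ
  refine Nat.card_congr ⟨fun p => Units.mk0 (p.1.1 + ρ * p.1.2) ?_,
    fun u => ⟨((u : F) + ρ * (((u : F) + (u : F)⁻¹) / t), ((u : F) + (u : F)⁻¹) / t), ?_⟩, ?_, ?_⟩
  · intro h0
    have := p.2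
    rw [hfac, h0, zero_mul] at this
    exact zero_ne_one this
  · have hu : (u : F) ≠ 0 := u.ne_zero
    rw [hfac]
    show ((u : F) + ρ * (((u : F) + (u : F)⁻¹) / t) + ρ * (((u : F) + (u : F)⁻¹) / t))
      * ((u : F) + ρ * (((u : F) + (u : F)⁻¹) / t) + σ * (((u : F) + (u : F)⁻¹) / t)) = 1
    have e1 : (u : F) + ρ * (((u : F) + (u : F)⁻¹) / t) + ρ * (((u : F) + (u : F)⁻¹) / t)
        = (u : F) := by
      linear_combination (ρ * (((u : F) + (u : F)⁻¹) / t)) * h2
    have e2 : (u : F) + ρ * (((u : F) + (u : F)⁻¹) / t) + σ * (((u : F) + (u : F)⁻¹) / t)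
        = (u : F)⁻¹ := by
      have e3 : t * (((u : F) + (u : F)⁻¹) / t) = (u : F) + (u : F)⁻¹ := by field_simp
      linear_combination (((u : F) + (u : F)⁻¹) / t) * hsum + e3 + (u : F) * h2
    rw [e1, e2, mul_inv_cancel₀ hu]
  · rintro ⟨⟨a, b⟩, hp⟩
    apply Subtype.ext
    have hp' : (a + ρ * b) * (a + σ * b) = 1 := by rw [← hfac]; exact hp
    have hinv : (a + ρ * b)⁻¹ = a + σ * b := inv_eq_of_mul_eq_one_right hp'
    show ((a + ρ * b) + ρ * (((a + ρ * b) + (a + ρ * b)⁻¹) / t),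
      ((a + ρ * b) + (a + ρ * b)⁻¹) / t) = (a, b)
    rw [hinv]
    have e3 : ((a + ρ * b) + (a + σ * b)) / t = b := by
      rw [div_eq_iff ht]
      linear_combination b * hsum + a * h2
    rw [e3, Prod.mk.injEq]
    exact ⟨by linear_combination ρ * b * h2, rfl⟩
  · intro u
    apply Units.ext
    show (u : F) + ρ * (((u : F) + (u : F)⁻¹) / t) + ρ * (((u : F) + (u : F)⁻¹) / t) = (u : F)
    linear_combination (ρ * (((u : F) + (u : F)⁻¹) / t)) * h2

theorem card_S_nonsplit (h2 : (2 : F) = 0) (t : F) (hns : ∀ ρ : F, ρ ^ 2 + t * ρ + 1 ≠ 0) :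
    Nat.card {p : F × F // p.1 ^ 2 + p.1 * p.2 * t + p.2 ^ 2 = 1} = Fintype.card F + 1 := by
  classical
  let N : F × F → F := fun p => p.1 ^ 2 + p.1 * p.2 * t + p.2 ^ 2
  have hN : ∀ a b : F, N (a, b) = a ^ 2 + a * b * t + b ^ 2 := fun a b => rfl
  have hfib : ∀ μ : F, μ ≠ 0 → Nat.card {p // N p = μ} = Nat.card {p // N p = 1} := by
    intro μ hμ
    obtain ⟨s, hs⟩ := exists_sqrt h2 μ
    have hs0 : s ≠ 0 := by
      rintro rfl
      rw [zero_pow two_ne_zero] at hs
      exact hμ hs.symm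
    refine Nat.card_congr ⟨fun p => ⟨(s⁻¹ * p.1.1, s⁻¹ * p.1.2), ?_⟩,
      fun p => ⟨(s * p.1.1, s * p.1.2), ?_⟩, ?_, ?_⟩
    · have hp : N (p.1.1, p.1.2) = s ^ 2 := p.2.trans hs.symm
      rw [hN] at hp ⊢
      field_simp
      linear_combination hp
    · have hp : N (p.1.1, p.1.2) = 1 := p.2
      rw [hN] at hp ⊢
      rw [← hs]
      linear_combination s ^ 2 * hp
    · rintro ⟨⟨a, b⟩, hp⟩
      apply Subtype.ext
      show (s * (s⁻¹ * a), s * (s⁻¹ * b)) = (a, b)
      rw [mul_inv_cancel_left₀ hs0, mul_inv_cancel_left₀ hs0]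
    · rintro ⟨⟨a, b⟩, hp⟩
      apply Subtype.ext
      show (s⁻¹ * (s * a), s⁻¹ * (s * b)) = (a, b)
      rw [inv_mul_cancel_left₀ hs0, inv_mul_cancel_left₀ hs0]
  have h0 : Nat.card {p // N p = 0} = 1 := by
    have hz : ∀ p : F × F, N p = 0 → p = (0, 0) := by
      rintro ⟨a, b⟩ hp
      rw [hN] at hp
      have hb : b = 0 := by
        by_contra hb
        apply hns (a / b)
        field_simp
        linear_combination hp
      subst hb
      have h5 : a ^ 2 = 0 := by linear_combination hp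
      rw [(pow_eq_zero_iff two_ne_zero).mp h5]
    rw [Nat.card_eq_one_iff_unique]
    refine ⟨⟨fun x y => Subtype.ext ((hz x.1 x.2).trans (hz y.1 y.2).symm)⟩, ⟨⟨(0, 0), ?_⟩⟩⟩
    rw [hN]; ring
  have htot : Nat.card (F × F) = ∑ μ : F, Nat.card {p // N p = μ} := by
    rw [Nat.card_congr (Equiv.sigmaFiberEquiv N).symm, Nat.card_sigma]
  rw [Nat.card_prod, Nat.card_eq_fintype_card,
    ← Finset.add_sum_erase _ _ (Finset.mem_univ (0 : F)), h0,
    Finset.sum_congr rfl (fun μ hμ => hfib μ (Finset.ne_of_mem_erase hμ)), Finset.sum_const,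
    Finset.card_erase_of_mem (Finset.mem_univ _), Finset.card_univ, smul_eq_mul] at htot
  have hq : 1 < Fintype.card F := Fintype.one_lt_card
  show Nat.card {p // N p = 1} = Fintype.card F + 1
  generalize Nat.card {p // N p = 1} = c at htot
  generalize Fintype.card F = q at htot hq
  obtain ⟨r, rfl⟩ := Nat.exists_eq_add_of_le' hq
  have h6 : r + 2 - 1 = r + 1 := by omega
  rw [h6] at htot
  have h7 : (r + 1) * c = (r + 1) * (r + 2 + 1) := by nlinarith
  exact Nat.eq_of_mul_eq_mul_left (by omega) h7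

omit [Fintype F] in
theorem commutant (z g : Matrix (Fin 2) (Fin 2) F)
    (hz : Cfsg.Agent.Lib_helper8_GL2.NonScalar z) (h : g * z = z * g) :
    ∃ a b : F, g = a • (1 : Matrix (Fin 2) (Fin 2) F) + b • z := by
  have h00 := congrFun (congrFun h 0) 0
  have h01 := congrFun (congrFun h 0) 1
  have h10 := congrFun (congrFun h 1) 0
  simp only [Matrix.mul_apply, Fin.sum_univ_two] at h00 h01 h10
  by_cases hz01 : z 0 1 ≠ 0
  · refine ⟨g 0 0 - g 0 1 / z 0 1 * z 0 0, g 0 1 / z 0 1, ?_⟩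
    ext i j
    fin_cases i <;> fin_cases j <;> simp
    · field_simp
    · field_simp
      first | linear_combination h00 | linear_combination -h00
    · field_simp
      first | linear_combination h01 | linear_combination -h01
  push Not at hz01
  by_cases hz10 : z 1 0 ≠ 0
  · refine ⟨g 0 0 - g 1 0 / z 1 0 * z 0 0, g 1 0 / z 1 0, ?_⟩
    ext i j
    fin_cases i <;> fin_cases j <;> simp
    · rw [hz01]; simp
      have : g 0 1 * z 1 0 = 0 := by rw [hz01] at h00; linear_combination h00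
      exact (mul_eq_zero.mp this).resolve_right hz10
    · field_simp
    · field_simp
      first | linear_combination h10 | linear_combination -h10
  push Not at hz10
  have hd : z 0 0 ≠ z 1 1 := by
    rcases hz with h | h | h
    · exact absurd hz10 h
    · exact absurd hz01 h
    · exact h
  have hd' : z 0 0 - z 1 1 ≠ 0 := sub_ne_zero.mpr hd
  rw [hz01] at h01
  rw [hz10] at h10
  have g01 : g 0 1 = 0 := by
    have : g 0 1 * (z 0 0 - z 1 1) = 0 := by linear_combination -h01
    exact (mul_eq_zero.mp this).resolve_right hd'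
  have g10 : g 1 0 = 0 := by
    have : g 1 0 * (z 0 0 - z 1 1) = 0 := by linear_combination h10
    exact (mul_eq_zero.mp this).resolve_right hd'
  refine ⟨g 0 0 - (g 0 0 - g 1 1) / (z 0 0 - z 1 1) * z 0 0, (g 0 0 - g 1 1) / (z 0 0 - z 1 1), ?_⟩
  ext i j
  fin_cases i <;> fin_cases j <;> simp [hz01, hz10, g01, g10]
  field_simp
  ring

omit [Fintype F] in
theorem nonscalar_of_ne_one (h2 : (2 : F) = 0) (A : SpecialLinearGroup (Fin 2) F) (hA : A ≠ 1) :
    Cfsg.Agent.Lib_helper8_GL2.NonScalar (A : Matrix (Fin 2) (Fin 2) F) := by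
  rw [Cfsg.Agent.Lib_helper8_GL2.nonScalar_iff]
  rintro ⟨c, hc⟩
  apply hA
  have hdet := A.2
  rw [hc, Matrix.det_smul, Matrix.det_one, mul_one, Fintype.card_fin] at hdet
  have hc1 : c = 1 := sq_inj h2 (by rw [hdet, one_pow])
  apply Subtype.ext
  rw [hc, hc1, one_smul]
  rfl

theorem card_centralizer (h2 : (2 : F) = 0) (A : SpecialLinearGroup (Fin 2) F) (hA : A ≠ 1) :
    Nat.card (Subgroup.centralizer ({A} : Set (SpecialLinearGroup (Fin 2) F))) =
      Nat.card {p : F × F // p.1 ^ 2 + p.1 * p.2 * (A : Matrix (Fin 2) (Fin 2) F).trace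
        + p.2 ^ 2 = 1} := by
  have hns := nonscalar_of_ne_one h2 A hA
  have hdet : ∀ a b : F, (a • (1 : Matrix (Fin 2) (Fin 2) F)
      + b • (A : Matrix (Fin 2) (Fin 2) F)).det
      = a ^ 2 + a * b * (A : Matrix (Fin 2) (Fin 2) F).trace + b ^ 2 := by
    intro a b
    rw [Cfsg.Agent.Lib_helper4_SL2Cyc.det_D, A.2, mul_one]
  symm
  refine Nat.card_congr (Equiv.ofBijective
    (fun p : {p : F × F // p.1 ^ 2 + p.1 * p.2 * (A : Matrix (Fin 2) (Fin 2) F).trace
        + p.2 ^ 2 = 1} =>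
      (⟨⟨p.1.1 • (1 : Matrix (Fin 2) (Fin 2) F) + p.1.2 • (A : Matrix (Fin 2) (Fin 2) F),
        (hdet p.1.1 p.1.2).trans p.2⟩, ?_⟩ :
        Subgroup.centralizer ({A} : Set (SpecialLinearGroup (Fin 2) F)))) ⟨?_, ?_⟩)
  · refine Subgroup.mem_centralizer_singleton_iff.mpr ?_
    apply Subtype.ext
    show (p.1.1 • (1 : Matrix (Fin 2) (Fin 2) F) + p.1.2 • (A : Matrix (Fin 2) (Fin 2) F))
        * (A : Matrix (Fin 2) (Fin 2) F)
      = (A : Matrix (Fin 2) (Fin 2) F) * (p.1.1 • (1 : Matrix (Fin 2) (Fin 2) F)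
        + p.1.2 • (A : Matrix (Fin 2) (Fin 2) F))
    simp [Matrix.add_mul, Matrix.mul_add]
  · rintro ⟨⟨a, b⟩, hp⟩ ⟨⟨a', b'⟩, hp'⟩ hpp
    have h5 : a • (1 : Matrix (Fin 2) (Fin 2) F) + b • (A : Matrix (Fin 2) (Fin 2) F)
        = a' • (1 : Matrix (Fin 2) (Fin 2) F) + b' • (A : Matrix (Fin 2) (Fin 2) F) :=
      congrArg (fun z : Subgroup.centralizer ({A} : Set (SpecialLinearGroup (Fin 2) F)) =>
        ((z.1 : SpecialLinearGroup (Fin 2) F) : Matrix (Fin 2) (Fin 2) F)) hpp
    have hb : b = b' := by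
      by_contra hb
      have hb' : b - b' ≠ 0 := sub_ne_zero.mpr hb
      rw [Cfsg.Agent.Lib_helper8_GL2.nonScalar_iff] at hns
      apply hns
      refine ⟨(b - b')⁻¹ * (a' - a), ?_⟩
      have h6 : (b - b') • (A : Matrix (Fin 2) (Fin 2) F)
          = (a' - a) • (1 : Matrix (Fin 2) (Fin 2) F) := by
        have h7 : (b - b') • (A : Matrix (Fin 2) (Fin 2) F)
            - (a' - a) • (1 : Matrix (Fin 2) (Fin 2) F)
            = (a • (1 : Matrix (Fin 2) (Fin 2) F) + b • (A : Matrix (Fin 2) (Fin 2) F))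
              - (a' • (1 : Matrix (Fin 2) (Fin 2) F) + b' • (A : Matrix (Fin 2) (Fin 2) F)) := by
          module
        rw [h5, sub_self] at h7
        exact sub_eq_zero.mp h7
      rw [mul_smul, ← h6, smul_smul, inv_mul_cancel₀ hb', one_smul]
    subst hb
    have ha : a = a' := by
      have h7 := congrFun (congrFun h5 0) 0
      simp only [Matrix.add_apply, Matrix.smul_apply, Matrix.one_apply_eq, smul_eq_mul,
        mul_one] at h7
      exact add_right_cancel h7
    subst ha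
    rfl
  · rintro ⟨g, hg⟩
    rw [Subgroup.mem_centralizer_singleton_iff] at hg
    have hg' : (g : Matrix (Fin 2) (Fin 2) F) * (A : Matrix (Fin 2) (Fin 2) F)
        = (A : Matrix (Fin 2) (Fin 2) F) * (g : Matrix (Fin 2) (Fin 2) F) :=
      congrArg (fun z : SpecialLinearGroup (Fin 2) F => (z : Matrix (Fin 2) (Fin 2) F)) hg
    obtain ⟨a, b, hab⟩ := commutant _ _ hns hg'
    have hp : a ^ 2 + a * b * (A : Matrix (Fin 2) (Fin 2) F).trace + b ^ 2 = 1 := by
      rw [← hdet, ← hab]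
      exact g.2
    refine ⟨⟨(a, b), hp⟩, ?_⟩
    apply Subtype.ext
    apply Subtype.ext
    exact hab.symm

theorem index_SL (h2 : (2 : F) = 0) (A : SpecialLinearGroup (Fin 2) F) (hA : A ≠ 1) :
    ((A : Matrix (Fin 2) (Fin 2) F).trace = 0 →
      (Subgroup.centralizer ({A} : Set (SpecialLinearGroup (Fin 2) F))).index
        = Fintype.card F ^ 2 - 1) ∧
    (((A : Matrix (Fin 2) (Fin 2) F).trace ≠ 0 ∧
        ∃ ρ : F, ρ ^ 2 + (A : Matrix (Fin 2) (Fin 2) F).trace * ρ + 1 = 0) →
      (Subgroup.centralizer ({A} : Set (SpecialLinearGroup (Fin 2) F))).index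
        = Fintype.card F * (Fintype.card F + 1)) ∧
    ((∀ ρ : F, ρ ^ 2 + (A : Matrix (Fin 2) (Fin 2) F).trace * ρ + 1 ≠ 0) →
      (Subgroup.centralizer ({A} : Set (SpecialLinearGroup (Fin 2) F))).index
        = Fintype.card F * (Fintype.card F - 1)) := by
  have hmul := Subgroup.card_mul_index (Subgroup.centralizer ({A} : Set (SpecialLinearGroup (Fin 2) F)))
  rw [card_centralizer h2 A hA, Cfsg.Agent.Lib_helper4_SL2Cyc.card_SL2] at hmul
  have hq : 1 < Fintype.card F := Fintype.one_lt_card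
  generalize (Subgroup.centralizer ({A} : Set (SpecialLinearGroup (Fin 2) F))).index = i at hmul ⊢
  refine ⟨?_, ?_, ?_⟩
  · intro ht
    rw [ht, card_S_zero h2] at hmul
    generalize Fintype.card F = q at hmul hq
    obtain ⟨r, rfl⟩ := Nat.exists_eq_add_of_le' hq
    have h6 : r + 2 - 1 = r + 1 := by omega
    rw [h6] at hmul
    have h7 : (r + 2) ^ 2 - 1 = (r + 1) * (r + 2 + 1) := by
      have : (r + 2) ^ 2 = (r + 1) * (r + 2 + 1) + 1 := by ring
      omega
    rw [h7]
    exact Nat.eq_of_mul_eq_mul_left (by omega : 0 < r + 2) hmul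
  · rintro ⟨ht, ρ, hρ⟩
    rw [card_S_split h2 _ ρ ht hρ] at hmul
    generalize Fintype.card F = q at hmul hq
    obtain ⟨r, rfl⟩ := Nat.exists_eq_add_of_le' hq
    have h6 : r + 2 - 1 = r + 1 := by omega
    rw [h6] at hmul
    apply Nat.eq_of_mul_eq_mul_left (by omega : 0 < r + 1)
    rw [hmul]; ring
  · intro hns
    rw [card_S_nonsplit h2 _ hns] at hmul
    generalize Fintype.card F = q at hmul hq
    obtain ⟨r, rfl⟩ := Nat.exists_eq_add_of_le' hq
    have h6 : r + 2 - 1 = r + 1 := by omega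
    rw [h6] at hmul ⊢
    apply Nat.eq_of_mul_eq_mul_left (by omega : 0 < r + 2 + 1)
    rw [hmul]; ring

omit [Fintype F] in
theorem center_bot (h2 : (2 : F) = 0) : Subgroup.center (SpecialLinearGroup (Fin 2) F) = ⊥ := by
  rw [eq_bot_iff]
  intro A hA
  rw [Subgroup.mem_bot]
  obtain ⟨r, hr, hrA⟩ := Matrix.SpecialLinearGroup.mem_center_iff.mp hA
  rw [Fintype.card_fin] at hr
  have hr1 : r = 1 := sq_inj h2 (by rw [hr, one_pow])
  apply Subtype.ext
  rw [← hrA, hr1]
  simp

omit [Fintype F] in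
theorem index_PSL (h2 : (2 : F) = 0) (A : SpecialLinearGroup (Fin 2) F) :
    (Subgroup.centralizer ({(QuotientGroup.mk A : ProjectiveSpecialLinearGroup (Fin 2) F)} :
      Set (ProjectiveSpecialLinearGroup (Fin 2) F))).index
      = (Subgroup.centralizer ({A} : Set (SpecialLinearGroup (Fin 2) F))).index := by
  rw [← Subgroup.index_comap_of_surjective _
    (QuotientGroup.mk'_surjective (Subgroup.center (SpecialLinearGroup (Fin 2) F)))]
  congr 1
  ext B
  rw [Subgroup.mem_comap, Subgroup.mem_centralizer_singleton_iff,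
    Subgroup.mem_centralizer_singleton_iff]
  constructor
  · intro h
    have h' : (QuotientGroup.mk (B * A) : ProjectiveSpecialLinearGroup (Fin 2) F)
        = QuotientGroup.mk (A * B) := h
    rw [QuotientGroup.eq, center_bot h2, Subgroup.mem_bot] at h'
    exact inv_mul_eq_one.mp h'
  · intro h
    show (QuotientGroup.mk (B * A) : ProjectiveSpecialLinearGroup (Fin 2) F)
        = QuotientGroup.mk (A * B)
    rw [h]

theorem exists_ne01 (h4 : 4 ≤ Fintype.card F) : ∃ ω : F, ω ≠ 0 ∧ ω ≠ 1 := by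
  classical
  by_contra h
  push Not at h
  have hsub : (Finset.univ : Finset F) ⊆ {0, 1} := by
    intro x _
    by_cases hx : x = 0
    · simp [hx]
    · simp [h x hx]
  have := Finset.card_le_card hsub
  rw [Finset.card_univ] at this
  have h2 := Finset.card_le_two (a := (0 : F)) (b := 1)
  omega

theorem exists_t0 : ∃ t₀ : F, ∀ a : F, a ≠ 0 → a + a⁻¹ ≠ t₀ := by
  classical
  by_contra h
  push Not at h
  have hsurj : Function.Surjective (fun u : Fˣ => (u : F) + (u : F)⁻¹) := by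
    intro t
    obtain ⟨a, ha, hat⟩ := h t
    exact ⟨Units.mk0 a ha, hat⟩
  have := Fintype.card_le_of_surjective _ hsurj
  rw [Fintype.card_units] at this
  have hq : 1 < Fintype.card F := Fintype.one_lt_card
  omega

omit [Fintype F] in
theorem root_sum (h2 : (2 : F) = 0) (t ρ : F) (hρ : ρ ^ 2 + t * ρ + 1 = 0) :
    ρ ≠ 0 ∧ ρ + ρ⁻¹ = t := by
  have hρ0 : ρ ≠ 0 := by
    rintro rfl
    simp at hρ
  refine ⟨hρ0, ?_⟩
  have hρσ : ρ * ρ⁻¹ = 1 := mul_inv_cancel₀ hρ0
  have h5 : ρ⁻¹ * (ρ ^ 2 + t * ρ + 1) = 0 := by rw [hρ, mul_zero]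
  linear_combination h5 - ρ * hρσ - t * hρσ - t * h2

theorem main (h2' : 2 ∣ Fintype.card F) (h4 : 4 ≤ Fintype.card F) :
    Set.range (fun g : (Matrix.ProjectiveSpecialLinearGroup (Fin 2) F) =>
      (Subgroup.centralizer ({g} : Set (Matrix.ProjectiveSpecialLinearGroup (Fin 2) F))).index) =
      {1, Fintype.card F * (Fintype.card F - 1), Fintype.card F ^ 2 - 1,
        Fintype.card F * (Fintype.card F + 1)} := by
  have h2 := two_zero h2'
  apply Set.Subset.antisymm
  · rintro _ ⟨g, rfl⟩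
    obtain ⟨A, rfl⟩ := QuotientGroup.mk_surjective g
    show (Subgroup.centralizer ({(QuotientGroup.mk A : ProjectiveSpecialLinearGroup (Fin 2) F)} :
      Set (ProjectiveSpecialLinearGroup (Fin 2) F))).index ∈ _
    rw [index_PSL h2]
    by_cases hA : A = 1
    · subst hA
      left
      rw [Subgroup.centralizer_eq_top_iff_subset.mpr (by simp), Subgroup.index_top]
    · obtain ⟨h_i, h_ii, h_iii⟩ := index_SL h2 A hA
      by_cases ht : (A : Matrix (Fin 2) (Fin 2) F).trace = 0
      · right; right; left; exact h_i ht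
      · by_cases hρ : ∃ ρ : F, ρ ^ 2 + (A : Matrix (Fin 2) (Fin 2) F).trace * ρ + 1 = 0
        · right; right; right; exact h_ii ⟨ht, hρ⟩
        · push Not at hρ
          right; left; exact h_iii hρ
  · intro n hn
    simp only [Set.mem_insert_iff, Set.mem_singleton_iff] at hn
    rcases hn with rfl | rfl | rfl | rfl
    · refine ⟨1, ?_⟩
      show (Subgroup.centralizer ({1} : Set (Matrix.ProjectiveSpecialLinearGroup (Fin 2) F))).index = 1
      rw [Subgroup.centralizer_eq_top_iff_subset.mpr (by simp), Subgroup.index_top]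
    · obtain ⟨t₀, ht₀⟩ := exists_t0 (F := F)
      have hdet : (!![0, 1; 1, t₀] : Matrix (Fin 2) (Fin 2) F).det = 1 := by
        rw [Matrix.det_fin_two]
        simp
        linear_combination -h2
      set V : SpecialLinearGroup (Fin 2) F := ⟨_, hdet⟩ with hV
      have hV1 : V ≠ 1 := by
        intro h
        have := congrArg (fun z : SpecialLinearGroup (Fin 2) F =>
          (z : Matrix (Fin 2) (Fin 2) F) 0 0) h
        simp [hV] at this
      have htr : (V : Matrix (Fin 2) (Fin 2) F).trace = t₀ := by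
        simp [hV, Matrix.trace_fin_two]
      refine ⟨(QuotientGroup.mk V : ProjectiveSpecialLinearGroup (Fin 2) F), ?_⟩
      show (Subgroup.centralizer ({(QuotientGroup.mk V : ProjectiveSpecialLinearGroup (Fin 2) F)} :
        Set (ProjectiveSpecialLinearGroup (Fin 2) F))).index = _
      rw [index_PSL h2]
      apply (index_SL h2 V hV1).2.2
      intro ρ hρ
      rw [htr] at hρ
      obtain ⟨hρ0, hsum⟩ := root_sum h2 t₀ ρ hρ
      exact ht₀ ρ hρ0 hsum
    · have hdet : (!![1, 1; 0, 1] : Matrix (Fin 2) (Fin 2) F).det = 1 := by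
        rw [Matrix.det_fin_two]
        simp
      set U : SpecialLinearGroup (Fin 2) F := ⟨_, hdet⟩ with hU
      have hU1 : U ≠ 1 := by
        intro h
        have := congrArg (fun z : SpecialLinearGroup (Fin 2) F =>
          (z : Matrix (Fin 2) (Fin 2) F) 0 1) h
        simp [hU] at this
      have htr : (U : Matrix (Fin 2) (Fin 2) F).trace = 0 := by
        simp [hU, Matrix.trace_fin_two]
        linear_combination h2
      refine ⟨(QuotientGroup.mk U : ProjectiveSpecialLinearGroup (Fin 2) F), ?_⟩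
      show (Subgroup.centralizer ({(QuotientGroup.mk U : ProjectiveSpecialLinearGroup (Fin 2) F)} :
        Set (ProjectiveSpecialLinearGroup (Fin 2) F))).index = _
      rw [index_PSL h2]
      exact (index_SL h2 U hU1).1 htr
    · obtain ⟨ρ, hρ0, hρ1⟩ := exists_ne01 h4
      have hdet : (!![ρ, 0; 0, ρ⁻¹] : Matrix (Fin 2) (Fin 2) F).det = 1 := by
        rw [Matrix.det_fin_two]
        simp [mul_inv_cancel₀ hρ0]
      set T : SpecialLinearGroup (Fin 2) F := ⟨_, hdet⟩ with hT
      have hT1 : T ≠ 1 := by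
        intro h
        have := congrArg (fun z : SpecialLinearGroup (Fin 2) F =>
          (z : Matrix (Fin 2) (Fin 2) F) 0 0) h
        simp [hT] at this
        exact hρ1 this
      have htr : (T : Matrix (Fin 2) (Fin 2) F).trace = ρ + ρ⁻¹ := by
        simp [hT, Matrix.trace_fin_two]
      have hρσ : ρ * ρ⁻¹ = 1 := mul_inv_cancel₀ hρ0
      refine ⟨(QuotientGroup.mk T : ProjectiveSpecialLinearGroup (Fin 2) F), ?_⟩
      show (Subgroup.centralizer ({(QuotientGroup.mk T : ProjectiveSpecialLinearGroup (Fin 2) F)} :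
        Set (ProjectiveSpecialLinearGroup (Fin 2) F))).index = _
      rw [index_PSL h2]
      apply (index_SL h2 T hT1).2.1
      rw [htr]
      refine ⟨?_, ρ, ?_⟩
      · intro h0
        apply hρ1
        apply sq_inj h2
        have h5 : ρ * (ρ + ρ⁻¹) = 0 := by rw [h0, mul_zero]
        linear_combination h5 - hρσ - h2
      · linear_combination (ρ ^ 2 + 1) * h2 + hρσ

end Aux

/-- Let F be a finite field with q = 2^f ≥ 4 elements. The conjugacy class sizes of PSL(2,F) are exactly 1, q(q − 1), q² − 1 and q(q + 1). -/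
theorem result {F : Type*} [Field F] [Fintype F]
    (h2 : 2 ∣ Fintype.card F) (h4 : 4 ≤ Fintype.card F) :
    Set.range (fun g : (Matrix.ProjectiveSpecialLinearGroup (Fin 2) F) => (Subgroup.centralizer ({g} : Set (Matrix.ProjectiveSpecialLinearGroup (Fin 2) F))).index) =
      {1, Fintype.card F * (Fintype.card F - 1), Fintype.card F ^ 2 - 1, Fintype.card F * (Fintype.card F + 1)} := by
  exact main h2 h4

end Cfsg.Agent.S2507
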