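import Cfsg.Statements.S2508
import Mathlib
import Cfsg.Agent.Lib_helper4_SL2Cyc
import Cfsg.Agent.Lib_helper8_GL2
import Cfsg.Agent.Lib_helper4_Conic
import Cfsg.Agent.S2507

set_option autoImplicit false
open Cfsg

namespace Cfsg.Agent.S2508

section Aux
open Matrix

variable {F : Type*} [Field F] [Fintype F]

theorem two_ne (hodd : ¬ 2 ∣ Fintype.card F) : (2 : F) ≠ 0 := by
  have hchar : ringChar F ≠ 2 := by
    intro h
    have h1 := FiniteField.even_card_iff_char_two.mp h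
    exact hodd (Nat.dvd_of_mod_eq_zero h1)
  exact Ring.two_ne_zero hchar

omit [Fintype F] in
theorem root_sum (t ρ : F) (hρ : ρ ^ 2 - t * ρ + 1 = 0) : ρ ≠ 0 ∧ ρ + ρ⁻¹ = t := by
  have hρ0 : ρ ≠ 0 := by
    rintro rfl
    simp at hρ
  refine ⟨hρ0, ?_⟩
  have hρσ : ρ * ρ⁻¹ = 1 := mul_inv_cancel₀ hρ0
  have h5 : ρ⁻¹ * (ρ ^ 2 - t * ρ + 1) = 0 := by rw [hρ, mul_zero]
  linear_combination h5 - ρ * hρσ + t * hρσ

theorem card_sq_one (h2 : (2 : F) ≠ 0) : Nat.card {s : F // s ^ 2 = 1} = 2 := by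
  rw [Nat.card_eq_two_iff]
  refine ⟨⟨1, one_pow 2⟩, ⟨-1, by ring⟩, ?_, ?_⟩
  · intro h
    have h1 : (1 : F) = -1 := congrArg Subtype.val h
    apply h2
    linear_combination h1
  · ext ⟨s, hs⟩
    simp only [Set.mem_insert_iff, Set.mem_singleton_iff, Set.mem_univ, iff_true, Subtype.mk.injEq]
    have h3 : (s - 1) * (s + 1) = 0 := by linear_combination hs
    rcases mul_eq_zero.mp h3 with h | h
    · left; linear_combination h
    · right; linear_combination h

theorem card_S_unip (h2 : (2 : F) ≠ 0) (t ρ : F) (hρ : ρ ^ 2 - t * ρ + 1 = 0) (hρ1 : ρ ^ 2 = 1) :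
    Nat.card {p : F × F // p.1 ^ 2 + p.1 * p.2 * t + p.2 ^ 2 = 1} = 2 * Fintype.card F := by
  obtain ⟨hρ0, hsum⟩ := root_sum t ρ hρ
  have hinv : ρ⁻¹ = ρ := inv_eq_of_mul_eq_one_right (by rw [← sq]; exact hρ1)
  rw [hinv] at hsum
  have hfac : ∀ a b : F, a ^ 2 + a * b * t + b ^ 2 = (a + ρ * b) ^ 2 := by
    intro a b
    linear_combination (-a * b) * hsum - b ^ 2 * hρ1
  have h5 : Nat.card ({s : F // s ^ 2 = 1} × F) = 2 * Fintype.card F := by
    rw [Nat.card_prod, card_sq_one h2, Nat.card_eq_fintype_card]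
  rw [← h5]
  refine Nat.card_congr ⟨fun p => (⟨p.1.1 + ρ * p.1.2, ?_⟩, p.1.2),
    fun s => ⟨(s.1.1 - ρ * s.2, s.2), ?_⟩, ?_, ?_⟩
  · rw [← hfac]; exact p.2
  · rw [hfac]
    show (s.1.1 - ρ * s.2 + ρ * s.2) ^ 2 = 1
    rw [sub_add_cancel]; exact s.1.2
  · rintro ⟨⟨a, b⟩, hp⟩
    apply Subtype.ext
    show (a + ρ * b - ρ * b, b) = (a, b)
    rw [add_sub_cancel_right]
  · rintro ⟨⟨s, hs⟩, b⟩
    apply Prod.ext
    · apply Subtype.ext
      show s - ρ * b + ρ * b = s
      rw [sub_add_cancel]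
    · rfl

theorem card_S_split (t ρ : F) (hρ : ρ ^ 2 - t * ρ + 1 = 0) (hρ1 : ρ ^ 2 ≠ 1) :
    Nat.card {p : F × F // p.1 ^ 2 + p.1 * p.2 * t + p.2 ^ 2 = 1} = Fintype.card F - 1 := by
  classical
  obtain ⟨hρ0, hsum⟩ := root_sum t ρ hρ
  rw [← Fintype.card_units, ← Nat.card_eq_fintype_card]
  set σ := ρ⁻¹ with hσ
  have hρσ : ρ * σ = 1 := mul_inv_cancel₀ hρ0
  have hd : ρ - σ ≠ 0 := by
    intro h
    apply hρ1
    have h1 : ρ = σ := sub_eq_zero.mp h
    rw [sq]
    nth_rewrite 2 [h1]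
    exact hρσ
  have hfac : ∀ a b : F, a ^ 2 + a * b * t + b ^ 2 = (a + ρ * b) * (a + σ * b) := by
    intro a b
    linear_combination (-a * b) * hsum - b ^ 2 * hρσ
  refine Nat.card_congr ⟨fun p => Units.mk0 (p.1.1 + ρ * p.1.2) ?_,
    fun u => ⟨((u : F) - ρ * (((u : F) - (u : F)⁻¹) / (ρ - σ)), ((u : F) - (u : F)⁻¹) / (ρ - σ)), ?_⟩,
    ?_, ?_⟩
  · intro h0
    have := p.2
    rw [hfac, h0, zero_mul] at this
    exact zero_ne_one this
  · have hu : (u : F) ≠ 0 := u.ne_zero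
    rw [hfac]
    show ((u : F) - ρ * (((u : F) - (u : F)⁻¹) / (ρ - σ)) + ρ * (((u : F) - (u : F)⁻¹) / (ρ - σ)))
      * ((u : F) - ρ * (((u : F) - (u : F)⁻¹) / (ρ - σ)) + σ * (((u : F) - (u : F)⁻¹) / (ρ - σ)))
        = 1
    have e1 : (u : F) - ρ * (((u : F) - (u : F)⁻¹) / (ρ - σ)) + ρ * (((u : F) - (u : F)⁻¹) / (ρ - σ))
        = (u : F) := by ring
    have e2 : (u : F) - ρ * (((u : F) - (u : F)⁻¹) / (ρ - σ)) + σ * (((u : F) - (u : F)⁻¹) / (ρ - σ))
        = (u : F)⁻¹ := by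
      have e3 : (ρ - σ) * (((u : F) - (u : F)⁻¹) / (ρ - σ)) = (u : F) - (u : F)⁻¹ := by
        field_simp
      linear_combination -e3
    rw [e1, e2, mul_inv_cancel₀ hu]
  · rintro ⟨⟨a, b⟩, hp⟩
    apply Subtype.ext
    have hp' : (a + ρ * b) * (a + σ * b) = 1 := by rw [← hfac]; exact hp
    have hinv : (a + ρ * b)⁻¹ = a + σ * b := inv_eq_of_mul_eq_one_right hp'
    show ((a + ρ * b) - ρ * (((a + ρ * b) - (a + ρ * b)⁻¹) / (ρ - σ)),
      ((a + ρ * b) - (a + ρ * b)⁻¹) / (ρ - σ)) = (a, b)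
    rw [hinv]
    have e3 : ((a + ρ * b) - (a + σ * b)) / (ρ - σ) = b := by
      rw [div_eq_iff hd]
      ring
    rw [e3, Prod.mk.injEq]
    exact ⟨by ring, rfl⟩
  · intro u
    apply Units.ext
    show (u : F) - ρ * (((u : F) - (u : F)⁻¹) / (ρ - σ)) + ρ * (((u : F) - (u : F)⁻¹) / (ρ - σ))
      = (u : F)
    ring

theorem card_S_nonsplit (t : F) (hns : ∀ ρ : F, ρ ^ 2 - t * ρ + 1 ≠ 0) :
    Nat.card {p : F × F // p.1 ^ 2 + p.1 * p.2 * t + p.2 ^ 2 = 1} = Fintype.card F + 1 := by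
  have hab : ∀ z₁ z₂ : F, z₁ ^ 2 + t * z₁ * z₂ + 1 * z₂ ^ 2 = 0 → z₁ = 0 ∧ z₂ = 0 := by
    intro z₁ z₂ h
    have hz2 : z₂ = 0 := by
      by_contra hz2
      apply hns (-z₁ / z₂)
      field_simp
      linear_combination h
    subst hz2
    refine ⟨?_, rfl⟩
    have h5 : z₁ ^ 2 = 0 := by linear_combination h
    exact (pow_eq_zero_iff two_ne_zero).mp h5
  rw [← Cfsg.Agent.Lib_helper4_Conic.card_conic rfl t 1 hab 1 one_ne_zero]
  refine Nat.card_congr (Equiv.subtypeEquivRight (fun p => ?_))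
  constructor <;> intro h <;> linear_combination h

/-- The central element `-1` of `SL₂`. -/
def zeta : SpecialLinearGroup (Fin 2) F :=
  ⟨-1, by rw [Matrix.det_neg, Matrix.det_one, Fintype.card_fin]; norm_num⟩

omit [Fintype F] in
theorem zeta_mem : (zeta : SpecialLinearGroup (Fin 2) F) ∈ Subgroup.center (SpecialLinearGroup (Fin 2) F) := by
  rw [Matrix.SpecialLinearGroup.mem_center_iff]
  refine ⟨-1, by rw [Fintype.card_fin]; norm_num, ?_⟩
  show (Matrix.scalar (Fin 2)) (-1 : F) = (-1 : Matrix (Fin 2) (Fin 2) F)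
  rw [map_neg, map_one]

omit [Fintype F] in
theorem zeta_comm (g : SpecialLinearGroup (Fin 2) F) : g * zeta = zeta * g :=
  Subgroup.mem_center_iff.mp zeta_mem g

omit [Fintype F] in
theorem zeta_sq : (zeta : SpecialLinearGroup (Fin 2) F) * zeta = 1 := by
  apply Subtype.ext
  show (-1 : Matrix (Fin 2) (Fin 2) F) * (-1) = 1
  simp

omit [Fintype F] in
theorem zeta_ne_one (h2 : (2 : F) ≠ 0) : (zeta : SpecialLinearGroup (Fin 2) F) ≠ 1 := by
  intro h
  have h1 : (-1 : Matrix (Fin 2) (Fin 2) F) 0 0 = (1 : Matrix (Fin 2) (Fin 2) F) 0 0 :=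
    congrArg (fun z : SpecialLinearGroup (Fin 2) F => (z : Matrix (Fin 2) (Fin 2) F) 0 0) h
  simp at h1
  apply h2
  linear_combination -h1

omit [Fintype F] in
theorem center_cases (W : SpecialLinearGroup (Fin 2) F)
    (hW : W ∈ Subgroup.center (SpecialLinearGroup (Fin 2) F)) : W = 1 ∨ W = zeta := by
  obtain ⟨r, hr, hrW⟩ := Matrix.SpecialLinearGroup.mem_center_iff.mp hW
  rw [Fintype.card_fin] at hr
  have h3 : (r - 1) * (r + 1) = 0 := by linear_combination hr
  rcases mul_eq_zero.mp h3 with h | h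
  · left
    have hr1 : r = 1 := by linear_combination h
    apply Subtype.ext
    rw [← hrW, hr1]
    simp
  · right
    have hr1 : r = -1 := by linear_combination h
    apply Subtype.ext
    rw [← hrW, hr1]
    show (Matrix.scalar (Fin 2)) (-1 : F) = (-1 : Matrix (Fin 2) (Fin 2) F)
    rw [map_neg, map_one]

omit [Fintype F] in
theorem card_comm (A : SpecialLinearGroup (Fin 2) F)
    (hns : Cfsg.Agent.Lib_helper8_GL2.NonScalar (A : Matrix (Fin 2) (Fin 2) F)) :
    Nat.card {B : SpecialLinearGroup (Fin 2) F // B * A = A * B} =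
      Nat.card {p : F × F // p.1 ^ 2 + p.1 * p.2 * (A : Matrix (Fin 2) (Fin 2) F).trace
        + p.2 ^ 2 = 1} := by
  have hdet : ∀ a b : F, (a • (1 : Matrix (Fin 2) (Fin 2) F)
      + b • (A : Matrix (Fin 2) (Fin 2) F)).det
      = a ^ 2 + a * b * (A : Matrix (Fin 2) (Fin 2) F).trace + b ^ 2 := by
    intro a b
    rw [Cfsg.Agent.Lib_helper4_SL2Cyc.det_D, A.2, mul_one]
  symm
  refine Nat.card_congr (Equiv.ofBijective
    (fun p : {p : F × F // p.1 ^ 2 + p.1 * p.2 * (A : Matrix (Fin 2) (Fin 2) F).trace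
        + p.2 ^ 2 = 1} =>
      (⟨⟨p.1.1 • (1 : Matrix (Fin 2) (Fin 2) F) + p.1.2 • (A : Matrix (Fin 2) (Fin 2) F),
        (hdet p.1.1 p.1.2).trans p.2⟩, ?_⟩ :
        {B : SpecialLinearGroup (Fin 2) F // B * A = A * B})) ⟨?_, ?_⟩)
  · apply Subtype.ext
    show (p.1.1 • (1 : Matrix (Fin 2) (Fin 2) F) + p.1.2 • (A : Matrix (Fin 2) (Fin 2) F))
        * (A : Matrix (Fin 2) (Fin 2) F)
      = (A : Matrix (Fin 2) (Fin 2) F) * (p.1.1 • (1 : Matrix (Fin 2) (Fin 2) F)
        + p.1.2 • (A : Matrix (Fin 2) (Fin 2) F))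
    simp [Matrix.add_mul, Matrix.mul_add]
  · rintro ⟨⟨a, b⟩, hp⟩ ⟨⟨a', b'⟩, hp'⟩ hpp
    have h5 : a • (1 : Matrix (Fin 2) (Fin 2) F) + b • (A : Matrix (Fin 2) (Fin 2) F)
        = a' • (1 : Matrix (Fin 2) (Fin 2) F) + b' • (A : Matrix (Fin 2) (Fin 2) F) :=
      congrArg (fun z : {B : SpecialLinearGroup (Fin 2) F // B * A = A * B} =>
        ((z.1 : SpecialLinearGroup (Fin 2) F) : Matrix (Fin 2) (Fin 2) F)) hpp
    have hb : b = b' := by
      by_contra hb
      have hb' : b - b' ≠ 0 := sub_ne_zero.mpr hb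
      rw [Cfsg.Agent.Lib_helper8_GL2.nonScalar_iff] at hns
      apply hns
      refine ⟨(b - b')⁻¹ * (a' - a), ?_⟩
      have h6 : (b - b') • (A : Matrix (Fin 2) (Fin 2) F)
          = (a' - a) • (1 : Matrix (Fin 2) (Fin 2) F) := by
        have h7 : (b - b') • (A : Matrix (Fin 2) (Fin 2) F)
            - (a' - a) • (1 : Matrix (Fin 2) (Fin 2) F)
            = (a • (1 : Matrix (Fin 2) (Fin 2) F) + b • (A : Matrix (Fin 2) (Fin 2) F))
              - (a' • (1 : Matrix (Fin 2) (Fin 2) F) + b' • (A : Matrix (Fin 2) (Fin 2) F)) := by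
          module
        rw [h5, sub_self] at h7
        exact sub_eq_zero.mp h7
      rw [mul_smul, ← h6, smul_smul, inv_mul_cancel₀ hb', one_smul]
    subst hb
    have ha : a = a' := by
      have h7 := congrFun (congrFun h5 0) 0
      simp only [Matrix.add_apply, Matrix.smul_apply, Matrix.one_apply_eq, smul_eq_mul,
        mul_one] at h7
      exact add_right_cancel h7
    subst ha
    rfl
  · rintro ⟨g, hg⟩
    have hg' : (g : Matrix (Fin 2) (Fin 2) F) * (A : Matrix (Fin 2) (Fin 2) F)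
        = (A : Matrix (Fin 2) (Fin 2) F) * (g : Matrix (Fin 2) (Fin 2) F) :=
      congrArg (fun z : SpecialLinearGroup (Fin 2) F => (z : Matrix (Fin 2) (Fin 2) F)) hg
    obtain ⟨a, b, hab⟩ := Cfsg.Agent.S2507.commutant _ _ hns hg'
    have hp : a ^ 2 + a * b * (A : Matrix (Fin 2) (Fin 2) F).trace + b ^ 2 = 1 := by
      rw [← hdet, ← hab]
      exact g.2
    refine ⟨⟨(a, b), hp⟩, ?_⟩
    apply Subtype.ext
    apply Subtype.ext
    exact hab.symm

omit [Fintype F] in
theorem anti_empty (h2 : (2 : F) ≠ 0) (A B : SpecialLinearGroup (Fin 2) F)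
    (ht : (A : Matrix (Fin 2) (Fin 2) F).trace ≠ 0) : ¬ (B * A = zeta * (A * B)) := by
  intro h
  have h' : B * A * B⁻¹ = zeta * A := by rw [h]; group
  have h3 := congrArg (fun X : SpecialLinearGroup (Fin 2) F =>
    (X : Matrix (Fin 2) (Fin 2) F).trace) h'
  have e1 : ((B * A * B⁻¹ : SpecialLinearGroup (Fin 2) F) : Matrix (Fin 2) (Fin 2) F)
      = (B : Matrix (Fin 2) (Fin 2) F) * (A : Matrix (Fin 2) (Fin 2) F)
        * (B : Matrix (Fin 2) (Fin 2) F).adjugate := rfl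
  have e2 : ((zeta * A : SpecialLinearGroup (Fin 2) F) : Matrix (Fin 2) (Fin 2) F)
      = -(A : Matrix (Fin 2) (Fin 2) F) := by
    show (-1 : Matrix (Fin 2) (Fin 2) F) * (A : Matrix (Fin 2) (Fin 2) F) = _
    simp
  simp only [e1, e2] at h3
  rw [Matrix.trace_mul_comm, ← Matrix.mul_assoc, Matrix.adjugate_mul, B.2, one_smul,
    Matrix.one_mul, Matrix.trace_neg] at h3
  apply ht
  have h4 : (2 : F) * (A : Matrix (Fin 2) (Fin 2) F).trace = 0 := by linear_combination h3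
  exact (mul_eq_zero.mp h4).resolve_left h2

theorem exists_sum_sq : ∃ x y : F, x ^ 2 + y ^ 2 = -1 := by
  obtain ⟨p, hp⟩ := CharP.exists F
  haveI : NeZero p := ⟨CharP.char_ne_zero_of_finite F p⟩
  obtain ⟨a, b, hab⟩ := CharP.sq_add_sq F p (-1)
  exact ⟨a, b, by simpa using hab⟩

theorem exists_anti (A : SpecialLinearGroup (Fin 2) F)
    (hns : Cfsg.Agent.Lib_helper8_GL2.NonScalar (A : Matrix (Fin 2) (Fin 2) F))
    (ht : (A : Matrix (Fin 2) (Fin 2) F).trace = 0) :
    ∃ B₀ : SpecialLinearGroup (Fin 2) F, B₀ * A = zeta * (A * B₀) := by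
  obtain ⟨P, hP, hAP⟩ := Cfsg.Agent.Lib_helper8_GL2.exists_conj_companion _ hns
  rw [A.2, ht] at hAP
  obtain ⟨x, y, hxy⟩ := exists_sum_sq (F := F)
  have hPu : IsUnit P.det := isUnit_iff_ne_zero.mpr hP
  have hPP' : P * P⁻¹ = 1 := Matrix.mul_nonsing_inv P hPu
  have hP'P : P⁻¹ * P = 1 := Matrix.nonsing_inv_mul P hPu
  have hA : (A : Matrix (Fin 2) (Fin 2) F) = P * !![0, -1; 1, 0] * P⁻¹ := by
    have h5 : (A : Matrix (Fin 2) (Fin 2) F) * P * P⁻¹ = P * !![0, -1; 1, 0] * P⁻¹ := by rw [hAP]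
    rw [Matrix.mul_assoc, hPP', Matrix.mul_one] at h5
    exact h5
  have hconj : ∀ X Y : Matrix (Fin 2) (Fin 2) F,
      (P * X * P⁻¹) * (P * Y * P⁻¹) = P * (X * Y) * P⁻¹ := by
    intro X Y
    calc (P * X * P⁻¹) * (P * Y * P⁻¹) = P * X * (P⁻¹ * P) * Y * P⁻¹ := by
          simp only [Matrix.mul_assoc]
      _ = P * (X * Y) * P⁻¹ := by rw [hP'P, Matrix.mul_one]; simp only [Matrix.mul_assoc]
  have hdet : (P * !![x, y; y, -x] * P⁻¹).det = 1 := by
    rw [Matrix.det_mul, Matrix.det_mul, Matrix.det_nonsing_inv, Matrix.det_fin_two_of]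
    have h6 : x * -x - y * y = 1 := by linear_combination -hxy
    rw [h6, mul_one]
    exact Ring.mul_inverse_cancel _ hPu
  refine ⟨⟨_, hdet⟩, ?_⟩
  apply Subtype.ext
  show (P * !![x, y; y, -x] * P⁻¹) * (A : Matrix (Fin 2) (Fin 2) F)
    = (-1 : Matrix (Fin 2) (Fin 2) F) * ((A : Matrix (Fin 2) (Fin 2) F) * (P * !![x, y; y, -x] * P⁻¹))
  rw [hA, hconj, hconj]
  have h7 : !![x, y; y, -x] * !![0, -1; 1, 0]
      = -(!![0, -1; 1, 0] * !![x, y; y, -x] : Matrix (Fin 2) (Fin 2) F) := by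
    rw [Matrix.mul_fin_two, Matrix.mul_fin_two]
    simp
  rw [h7, Matrix.mul_neg, Matrix.neg_mul, neg_one_mul]

omit [Fintype F] in
theorem card_anti (A B₀ : SpecialLinearGroup (Fin 2) F) (h : B₀ * A = zeta * (A * B₀)) :
    Nat.card {B : SpecialLinearGroup (Fin 2) F // B * A = zeta * (A * B)}
      = Nat.card {B : SpecialLinearGroup (Fin 2) F // B * A = A * B} := by
  symm
  refine Nat.card_congr ((Equiv.mulLeft B₀).subtypeEquiv (fun B => ?_))
  show B * A = A * B ↔ B₀ * B * A = zeta * (A * (B₀ * B))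
  have e1 : zeta * (A * (B₀ * B)) = B₀ * (A * B) := by
    rw [← mul_assoc A, ← mul_assoc zeta, ← h, mul_assoc]
  rw [e1, mul_assoc, mul_left_cancel_iff]

omit [Fintype F] in
theorem mem_Cpm (A B : SpecialLinearGroup (Fin 2) F) :
    B ∈ (Subgroup.centralizer ({(QuotientGroup.mk A : ProjectiveSpecialLinearGroup (Fin 2) F)} :
      Set (ProjectiveSpecialLinearGroup (Fin 2) F))).comap
        (QuotientGroup.mk' (Subgroup.center (SpecialLinearGroup (Fin 2) F)))
      ↔ (B * A = A * B ∨ B * A = zeta * (A * B)) := by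
  rw [Subgroup.mem_comap, Subgroup.mem_centralizer_singleton_iff]
  show (QuotientGroup.mk (B * A) : ProjectiveSpecialLinearGroup (Fin 2) F)
        = QuotientGroup.mk (A * B) ↔ _
  rw [eq_comm, QuotientGroup.eq]
  constructor
  · intro h
    rcases center_cases _ h with h1 | h1
    · left
      exact (inv_mul_eq_one.mp h1).symm
    · right
      have h5 : B * A = (A * B) * zeta := by rw [← h1]; group
      rw [h5, zeta_comm]
  · rintro (h | h)
    · rw [h, inv_mul_cancel]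
      exact Subgroup.one_mem _
    · have h5 : (A * B)⁻¹ * (B * A) = zeta := by
        rw [h, ← zeta_comm, inv_mul_cancel_left]
      rw [h5]
      exact zeta_mem

theorem card_split {α : Type*} [Finite α] (p r : α → Prop) :
    Nat.card {x // p x} = Nat.card {x // p x ∧ r x} + Nat.card {x // p x ∧ ¬ r x} := by
  classical
  rw [← Nat.card_congr (Equiv.subtypeSubtypeEquivSubtypeInter p r),
    ← Nat.card_congr (Equiv.subtypeSubtypeEquivSubtypeInter p (fun x => ¬ r x)),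
    ← Nat.card_sum]
  exact Nat.card_congr (Equiv.sumCompl (fun x : {x // p x} => r x.1)).symm

theorem card_Cpm (h2 : (2 : F) ≠ 0) (A : SpecialLinearGroup (Fin 2) F) :
    Nat.card ↥((Subgroup.centralizer ({(QuotientGroup.mk A : ProjectiveSpecialLinearGroup (Fin 2) F)} :
      Set (ProjectiveSpecialLinearGroup (Fin 2) F))).comap
        (QuotientGroup.mk' (Subgroup.center (SpecialLinearGroup (Fin 2) F))))
      = Nat.card {B : SpecialLinearGroup (Fin 2) F // B * A = A * B}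
        + Nat.card {B : SpecialLinearGroup (Fin 2) F // B * A = zeta * (A * B)} := by
  have e0 : Nat.card ↥((Subgroup.centralizer
      ({(QuotientGroup.mk A : ProjectiveSpecialLinearGroup (Fin 2) F)} :
      Set (ProjectiveSpecialLinearGroup (Fin 2) F))).comap
        (QuotientGroup.mk' (Subgroup.center (SpecialLinearGroup (Fin 2) F))))
      = Nat.card {B : SpecialLinearGroup (Fin 2) F // B * A = A * B ∨ B * A = zeta * (A * B)} :=
    Nat.card_congr (Equiv.subtypeEquivRight (fun B => mem_Cpm A B))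
  rw [e0, card_split (fun B : SpecialLinearGroup (Fin 2) F => B * A = A * B ∨ B * A = zeta * (A * B))
    (fun B => B * A = A * B)]
  congr 1
  · exact Nat.card_congr (Equiv.subtypeEquivRight (fun B => ⟨fun h => h.2, fun h => ⟨Or.inl h, h⟩⟩))
  · refine Nat.card_congr (Equiv.subtypeEquivRight (fun B => ⟨fun h => h.1.resolve_left h.2,
      fun h => ⟨Or.inr h, ?_⟩⟩))
    intro hc
    rw [hc] at h
    apply zeta_ne_one h2
    have h5 : (1 : SpecialLinearGroup (Fin 2) F) * (A * B) = zeta * (A * B) := by rw [one_mul]; exact h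
    exact (mul_right_cancel h5).symm

theorem index_val (h2 : (2 : F) ≠ 0) (A : SpecialLinearGroup (Fin 2) F)
    (hns : Cfsg.Agent.Lib_helper8_GL2.NonScalar (A : Matrix (Fin 2) (Fin 2) F)) :
    (∀ ρ : F, ρ ^ 2 - (A : Matrix (Fin 2) (Fin 2) F).trace * ρ + 1 = 0 → ρ ^ 2 = 1 →
      (Subgroup.centralizer ({(QuotientGroup.mk A : ProjectiveSpecialLinearGroup (Fin 2) F)} :
        Set (ProjectiveSpecialLinearGroup (Fin 2) F))).index = (Fintype.card F ^ 2 - 1) / 2) ∧
    (∀ ρ : F, ρ ^ 2 - (A : Matrix (Fin 2) (Fin 2) F).trace * ρ + 1 = 0 → ρ ^ 2 ≠ 1 →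
      (A : Matrix (Fin 2) (Fin 2) F).trace ≠ 0 →
      (Subgroup.centralizer ({(QuotientGroup.mk A : ProjectiveSpecialLinearGroup (Fin 2) F)} :
        Set (ProjectiveSpecialLinearGroup (Fin 2) F))).index
          = Fintype.card F * (Fintype.card F + 1)) ∧
    (∀ ρ : F, ρ ^ 2 - (A : Matrix (Fin 2) (Fin 2) F).trace * ρ + 1 = 0 → ρ ^ 2 ≠ 1 →
      (A : Matrix (Fin 2) (Fin 2) F).trace = 0 →
      (Subgroup.centralizer ({(QuotientGroup.mk A : ProjectiveSpecialLinearGroup (Fin 2) F)} :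
        Set (ProjectiveSpecialLinearGroup (Fin 2) F))).index
          = Fintype.card F * (Fintype.card F + 1) / 2) ∧
    ((∀ ρ : F, ρ ^ 2 - (A : Matrix (Fin 2) (Fin 2) F).trace * ρ + 1 ≠ 0) →
      (A : Matrix (Fin 2) (Fin 2) F).trace ≠ 0 →
      (Subgroup.centralizer ({(QuotientGroup.mk A : ProjectiveSpecialLinearGroup (Fin 2) F)} :
        Set (ProjectiveSpecialLinearGroup (Fin 2) F))).index
          = Fintype.card F * (Fintype.card F - 1)) ∧
    ((∀ ρ : F, ρ ^ 2 - (A : Matrix (Fin 2) (Fin 2) F).trace * ρ + 1 ≠ 0) →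
      (A : Matrix (Fin 2) (Fin 2) F).trace = 0 →
      (Subgroup.centralizer ({(QuotientGroup.mk A : ProjectiveSpecialLinearGroup (Fin 2) F)} :
        Set (ProjectiveSpecialLinearGroup (Fin 2) F))).index
          = Fintype.card F * (Fintype.card F - 1) / 2) := by
  have hidx := Subgroup.index_comap_of_surjective
    (Subgroup.centralizer ({(QuotientGroup.mk A : ProjectiveSpecialLinearGroup (Fin 2) F)} :
        Set (ProjectiveSpecialLinearGroup (Fin 2) F)))
    (QuotientGroup.mk'_surjective (Subgroup.center (SpecialLinearGroup (Fin 2) F)))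
  have hmul := Subgroup.card_mul_index ((Subgroup.centralizer
    ({(QuotientGroup.mk A : ProjectiveSpecialLinearGroup (Fin 2) F)} :
        Set (ProjectiveSpecialLinearGroup (Fin 2) F))).comap
    (QuotientGroup.mk' (Subgroup.center (SpecialLinearGroup (Fin 2) F))))
  rw [hidx, card_Cpm h2 A, card_comm A hns, Cfsg.Agent.Lib_helper4_SL2Cyc.card_SL2] at hmul
  have hanti0 : (A : Matrix (Fin 2) (Fin 2) F).trace ≠ 0 →
      Nat.card {B : SpecialLinearGroup (Fin 2) F // B * A = zeta * (A * B)} = 0 := by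
    intro ht
    haveI : IsEmpty {B : SpecialLinearGroup (Fin 2) F // B * A = zeta * (A * B)} :=
      ⟨fun B => anti_empty h2 A B.1 ht B.2⟩
    exact Nat.card_of_isEmpty
  have hanti1 : (A : Matrix (Fin 2) (Fin 2) F).trace = 0 →
      Nat.card {B : SpecialLinearGroup (Fin 2) F // B * A = zeta * (A * B)}
        = Nat.card {p : F × F // p.1 ^ 2 + p.1 * p.2 * (A : Matrix (Fin 2) (Fin 2) F).trace
        + p.2 ^ 2 = 1} := by
    intro ht
    obtain ⟨B₀, hB₀⟩ := exists_anti A hns ht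
    rw [card_anti A B₀ hB₀, card_comm A hns]
  have hq : 1 < Fintype.card F := Fintype.one_lt_card
  generalize (Subgroup.centralizer ({(QuotientGroup.mk A : ProjectiveSpecialLinearGroup (Fin 2) F)} :
        Set (ProjectiveSpecialLinearGroup (Fin 2) F))).index = i at hmul ⊢
  refine ⟨?_, ?_, ?_, ?_, ?_⟩
  · intro ρ hρ hρ1
    have ht : (A : Matrix (Fin 2) (Fin 2) F).trace ≠ 0 := by
      intro ht
      rw [ht] at hρ
      apply h2
      linear_combination hρ - hρ1
    rw [hanti0 ht, card_S_unip h2 _ ρ hρ hρ1] at hmul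
    generalize Fintype.card F = q at hmul hq
    obtain ⟨r, rfl⟩ := Nat.exists_eq_add_of_le' hq
    have h6 : r + 2 - 1 = r + 1 := by omega
    rw [h6] at hmul
    have h7 : (r + 2) ^ 2 - 1 = (r + 1) * (r + 2 + 1) := by
      have : (r + 2) ^ 2 = (r + 1) * (r + 2 + 1) + 1 := by ring
      omega
    have h8 : 2 * i = (r + 1) * (r + 2 + 1) := by
      apply Nat.eq_of_mul_eq_mul_left (by omega : 0 < r + 2)
      linarith
    rw [h7, ← h8, Nat.mul_div_cancel_left i (by norm_num : 0 < 2)]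
  · intro ρ hρ hρ1 ht
    rw [hanti0 ht, card_S_split _ ρ hρ hρ1] at hmul
    generalize Fintype.card F = q at hmul hq
    obtain ⟨r, rfl⟩ := Nat.exists_eq_add_of_le' hq
    have h6 : r + 2 - 1 = r + 1 := by omega
    rw [h6] at hmul
    apply Nat.eq_of_mul_eq_mul_left (by omega : 0 < r + 1)
    linarith
  · intro ρ hρ hρ1 ht
    rw [hanti1 ht, card_S_split _ ρ hρ hρ1] at hmul
    generalize Fintype.card F = q at hmul hq
    obtain ⟨r, rfl⟩ := Nat.exists_eq_add_of_le' hq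
    have h6 : r + 2 - 1 = r + 1 := by omega
    rw [h6] at hmul
    have h8 : 2 * i = (r + 2) * (r + 2 + 1) := by
      apply Nat.eq_of_mul_eq_mul_left (by omega : 0 < r + 1)
      linarith
    rw [← h8, Nat.mul_div_cancel_left i (by norm_num : 0 < 2)]
  · intro hnr ht
    rw [hanti0 ht, card_S_nonsplit _ hnr] at hmul
    generalize Fintype.card F = q at hmul hq
    obtain ⟨r, rfl⟩ := Nat.exists_eq_add_of_le' hq
    have h6 : r + 2 - 1 = r + 1 := by omega
    rw [h6] at hmul ⊢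
    apply Nat.eq_of_mul_eq_mul_left (by omega : 0 < r + 2 + 1)
    linarith
  · intro hnr ht
    rw [hanti1 ht, card_S_nonsplit _ hnr] at hmul
    generalize Fintype.card F = q at hmul hq
    obtain ⟨r, rfl⟩ := Nat.exists_eq_add_of_le' hq
    have h6 : r + 2 - 1 = r + 1 := by omega
    rw [h6] at hmul ⊢
    have h8 : 2 * i = (r + 2) * (r + 1) := by
      apply Nat.eq_of_mul_eq_mul_left (by omega : 0 < r + 2 + 1)
      linarith
    rw [← h8, Nat.mul_div_cancel_left i (by norm_num : 0 < 2)]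

omit [Fintype F] in
theorem scalar_case (A : SpecialLinearGroup (Fin 2) F)
    (h : ¬ Cfsg.Agent.Lib_helper8_GL2.NonScalar (A : Matrix (Fin 2) (Fin 2) F)) :
    (Subgroup.centralizer ({(QuotientGroup.mk A : ProjectiveSpecialLinearGroup (Fin 2) F)} :
        Set (ProjectiveSpecialLinearGroup (Fin 2) F))).index = 1 := by
  rw [Cfsg.Agent.Lib_helper8_GL2.nonScalar_iff, not_not] at h
  obtain ⟨c, hc⟩ := h
  have hAc : A ∈ Subgroup.center (SpecialLinearGroup (Fin 2) F) := by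
    rw [Matrix.SpecialLinearGroup.mem_center_iff]
    refine ⟨c, ?_, ?_⟩
    · have h5 := A.2
      rw [hc, Matrix.det_smul, Matrix.det_one, mul_one] at h5
      exact h5
    · rw [hc, Matrix.smul_one_eq_diagonal]
      rfl
  have h1 : (QuotientGroup.mk A : ProjectiveSpecialLinearGroup (Fin 2) F) = 1 :=
    (QuotientGroup.eq_one_iff _).mpr hAc
  rw [h1, Subgroup.centralizer_eq_top_iff_subset.mpr (by simp), Subgroup.index_top]

/-- The companion matrix with trace `t` and determinant one. -/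
def comp (t : F) : SpecialLinearGroup (Fin 2) F :=
  ⟨!![0, -1; 1, t], by rw [Matrix.det_fin_two_of]; ring⟩

omit [Fintype F] in
theorem comp_trace (t : F) : ((comp t : SpecialLinearGroup (Fin 2) F) :
    Matrix (Fin 2) (Fin 2) F).trace = t := by
  show (!![0, -1; 1, t] : Matrix (Fin 2) (Fin 2) F).trace = t
  rw [Matrix.trace_fin_two_of, zero_add]

omit [Fintype F] in
theorem comp_ns (t : F) : Cfsg.Agent.Lib_helper8_GL2.NonScalar
    ((comp t : SpecialLinearGroup (Fin 2) F) : Matrix (Fin 2) (Fin 2) F) := by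
  left
  show (!![0, -1; 1, t] : Matrix (Fin 2) (Fin 2) F) 1 0 ≠ 0
  simp

theorem exists_rho (h7 : 7 ≤ Fintype.card F) : ∃ ρ : F, ρ ≠ 0 ∧ ρ ^ 2 ≠ 1 ∧ ρ ^ 2 ≠ -1 := by
  classical
  by_contra hcon
  push Not at hcon
  obtain ⟨g, hg⟩ := IsCyclic.exists_ofOrder_eq_natCard (α := Fˣ)
  rw [Nat.card_units, Nat.card_eq_fintype_card] at hg
  have h4 : g ^ 4 = 1 := by
    apply Units.ext
    rw [Units.val_pow_eq_pow_val, Units.val_one]
    by_cases h1 : (g : F) ^ 2 = 1
    · rw [show 4 = 2 * 2 by norm_num, pow_mul, h1, one_pow]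
    · have := hcon (g : F) g.ne_zero h1
      rw [show 4 = 2 * 2 by norm_num, pow_mul, this]
      norm_num
  have := Nat.le_of_dvd (by norm_num) (orderOf_dvd_of_pow_eq_one h4)
  omega

theorem ex_nonsplit_of_sq (i : F) (hi : i ^ 2 = -1) :
    ∃ t : F, t ≠ 0 ∧ ∀ ρ : F, ρ ^ 2 - t * ρ + 1 ≠ 0 := by
  obtain ⟨t₀, ht₀⟩ := Cfsg.Agent.S2507.exists_t0 (F := F)
  have hi0 : i ≠ 0 := by
    rintro rfl
    norm_num at hi
  refine ⟨t₀, ?_, ?_⟩
  · rintro rfl
    apply ht₀ i hi0
    have : i⁻¹ = -i := by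
      apply inv_eq_of_mul_eq_one_right
      linear_combination -hi
    rw [this, add_neg_cancel]
  · intro ρ hρ
    obtain ⟨hρ0, hsum⟩ := root_sum t₀ ρ hρ
    exact ht₀ ρ hρ0 hsum

theorem ex_nonsplit_of_nsq (h2 : (2 : F) ≠ 0) (h7 : 7 ≤ Fintype.card F)
    (hns : ¬ IsSquare (-1 : F)) :
    ∃ t : F, t ≠ 0 ∧ ∀ ρ : F, ρ ^ 2 - t * ρ + 1 ≠ 0 := by
  obtain ⟨m, hm0, hm1, -⟩ := exists_rho h7
  have hd : 1 + m ^ 2 ≠ 0 := by
    intro h
    apply hns
    exact ⟨m, by linear_combination -h⟩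
  have h4 : (4 : F) ≠ 0 := by
    have : (4 : F) = 2 * 2 := by norm_num
    rw [this]
    exact mul_ne_zero h2 h2
  refine ⟨2 * (1 - m ^ 2) / (1 + m ^ 2), ?_, ?_⟩
  · apply div_ne_zero
    · apply mul_ne_zero h2
      intro h
      apply hm1
      linear_combination -h
    · exact hd
  · intro ρ hρ
    apply hns
    refine ⟨(2 * ρ - 2 * (1 - m ^ 2) / (1 + m ^ 2)) * (1 + m ^ 2) / (4 * m), ?_⟩
    have hρ' : ρ ^ 2 * (1 + m ^ 2) - 2 * (1 - m ^ 2) * ρ + (1 + m ^ 2) = 0 := by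
      have := congrArg (fun z => z * (1 + m ^ 2)) hρ
      simp only [zero_mul] at this
      rw [← this]
      field_simp
    field_simp
    linear_combination (-4 * (1 + m ^ 2)) * hρ'

theorem range_sub (h2 : (2 : F) ≠ 0) (S : Set ℕ)
    (h1 : 1 ∈ S) (hu : (Fintype.card F ^ 2 - 1) / 2 ∈ S)
    (hs : Fintype.card F * (Fintype.card F + 1) ∈ S)
    (hn : Fintype.card F * (Fintype.card F - 1) ∈ S)
    (hs0 : (∃ i : F, i ^ 2 = -1) → Fintype.card F * (Fintype.card F + 1) / 2 ∈ S)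
    (hn0 : (¬ ∃ i : F, i ^ 2 = -1) → Fintype.card F * (Fintype.card F - 1) / 2 ∈ S) :
    Set.range (fun g : (Matrix.ProjectiveSpecialLinearGroup (Fin 2) F) =>
      (Subgroup.centralizer ({g} : Set (Matrix.ProjectiveSpecialLinearGroup (Fin 2) F))).index)
      ⊆ S := by
  rintro _ ⟨g, rfl⟩
  obtain ⟨A, rfl⟩ := QuotientGroup.mk_surjective g
  show (Subgroup.centralizer ({(QuotientGroup.mk A : ProjectiveSpecialLinearGroup (Fin 2) F)} :
      Set (ProjectiveSpecialLinearGroup (Fin 2) F))).index ∈ S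
  by_cases hns : Cfsg.Agent.Lib_helper8_GL2.NonScalar (A : Matrix (Fin 2) (Fin 2) F)
  · obtain ⟨c1, c2, c3, c4, c5⟩ := index_val h2 A hns
    by_cases hroot : ∃ ρ : F, ρ ^ 2 - (A : Matrix (Fin 2) (Fin 2) F).trace * ρ + 1 = 0
    · obtain ⟨ρ, hρ⟩ := hroot
      by_cases hρ1 : ρ ^ 2 = 1
      · rw [c1 ρ hρ hρ1]; exact hu
      · by_cases ht : (A : Matrix (Fin 2) (Fin 2) F).trace = 0
        · rw [c3 ρ hρ hρ1 ht]
          apply hs0
          refine ⟨ρ, ?_⟩
          rw [ht] at hρ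
          linear_combination hρ
        · rw [c2 ρ hρ hρ1 ht]; exact hs
    · push Not at hroot
      by_cases ht : (A : Matrix (Fin 2) (Fin 2) F).trace = 0
      · rw [c5 hroot ht]
        apply hn0
        rintro ⟨i, hi⟩
        apply hroot i
        rw [ht]
        linear_combination hi
      · rw [c4 hroot ht]; exact hn
  · rw [scalar_case A hns]; exact h1

omit [Fintype F] in
theorem mem_one : 1 ∈ Set.range (fun g : (Matrix.ProjectiveSpecialLinearGroup (Fin 2) F) =>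
      (Subgroup.centralizer ({g} : Set (Matrix.ProjectiveSpecialLinearGroup (Fin 2) F))).index) := by
  refine ⟨1, ?_⟩
  show (Subgroup.centralizer ({1} : Set (Matrix.ProjectiveSpecialLinearGroup (Fin 2) F))).index = 1
  rw [Subgroup.centralizer_eq_top_iff_subset.mpr (by simp), Subgroup.index_top]

theorem mem_unip (h2 : (2 : F) ≠ 0) : (Fintype.card F ^ 2 - 1) / 2 ∈
    Set.range (fun g : (Matrix.ProjectiveSpecialLinearGroup (Fin 2) F) =>
      (Subgroup.centralizer ({g} : Set (Matrix.ProjectiveSpecialLinearGroup (Fin 2) F))).index) := by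
  have hdet : (!![1, 1; 0, 1] : Matrix (Fin 2) (Fin 2) F).det = 1 := by
    rw [Matrix.det_fin_two_of]; ring
  have hns : Cfsg.Agent.Lib_helper8_GL2.NonScalar (!![1, 1; 0, 1] : Matrix (Fin 2) (Fin 2) F) := by
    right; left
    simp
  have htr : (!![1, 1; 0, 1] : Matrix (Fin 2) (Fin 2) F).trace = 2 := by
    rw [Matrix.trace_fin_two_of]; norm_num
  refine ⟨(QuotientGroup.mk (⟨_, hdet⟩ : SpecialLinearGroup (Fin 2) F) :
    ProjectiveSpecialLinearGroup (Fin 2) F), ?_⟩
  refine (index_val h2 ⟨_, hdet⟩ hns).1 1 ?_ (one_pow 2)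
  show (1 : F) ^ 2 - (!![1, 1; 0, 1] : Matrix (Fin 2) (Fin 2) F).trace * 1 + 1 = 0
  rw [htr]; ring

theorem mem_split (h2 : (2 : F) ≠ 0) (h7 : 7 ≤ Fintype.card F) :
    Fintype.card F * (Fintype.card F + 1) ∈
    Set.range (fun g : (Matrix.ProjectiveSpecialLinearGroup (Fin 2) F) =>
      (Subgroup.centralizer ({g} : Set (Matrix.ProjectiveSpecialLinearGroup (Fin 2) F))).index) := by
  obtain ⟨ρ, hρ0, hρ1, hρ2⟩ := exists_rho h7
  have hρσ : ρ * ρ⁻¹ = 1 := mul_inv_cancel₀ hρ0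
  have hdet : (!![ρ, 0; 0, ρ⁻¹] : Matrix (Fin 2) (Fin 2) F).det = 1 := by
    rw [Matrix.det_fin_two_of]; linear_combination hρσ
  have hns : Cfsg.Agent.Lib_helper8_GL2.NonScalar (!![ρ, 0; 0, ρ⁻¹] : Matrix (Fin 2) (Fin 2) F) := by
    right; right
    show ρ ≠ ρ⁻¹
    intro h
    apply hρ1
    rw [sq]
    nth_rewrite 2 [h]
    exact hρσ
  have htr : (!![ρ, 0; 0, ρ⁻¹] : Matrix (Fin 2) (Fin 2) F).trace = ρ + ρ⁻¹ := by
    rw [Matrix.trace_fin_two_of]
  refine ⟨(QuotientGroup.mk (⟨_, hdet⟩ : SpecialLinearGroup (Fin 2) F) :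
    ProjectiveSpecialLinearGroup (Fin 2) F), ?_⟩
  refine (index_val h2 ⟨_, hdet⟩ hns).2.1 ρ ?_ hρ1 ?_
  · show ρ ^ 2 - (!![ρ, 0; 0, ρ⁻¹] : Matrix (Fin 2) (Fin 2) F).trace * ρ + 1 = 0
    rw [htr]; linear_combination -hρσ
  · show (!![ρ, 0; 0, ρ⁻¹] : Matrix (Fin 2) (Fin 2) F).trace ≠ 0
    rw [htr]
    intro h
    apply hρ2
    have h5 : ρ * (ρ + ρ⁻¹) = 0 := by rw [h, mul_zero]
    linear_combination h5 - hρσ

theorem mem_nonsplit (h2 : (2 : F) ≠ 0) (t : F) (ht : t ≠ 0)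
    (hnr : ∀ ρ : F, ρ ^ 2 - t * ρ + 1 ≠ 0) :
    Fintype.card F * (Fintype.card F - 1) ∈
    Set.range (fun g : (Matrix.ProjectiveSpecialLinearGroup (Fin 2) F) =>
      (Subgroup.centralizer ({g} : Set (Matrix.ProjectiveSpecialLinearGroup (Fin 2) F))).index) := by
  refine ⟨(QuotientGroup.mk (comp t) : ProjectiveSpecialLinearGroup (Fin 2) F), ?_⟩
  refine (index_val h2 (comp t) (comp_ns t)).2.2.2.1 ?_ ?_
  · rw [comp_trace]; exact hnr
  · rw [comp_trace]; exact ht

theorem mem_split0 (h2 : (2 : F) ≠ 0) (i : F) (hi : i ^ 2 = -1) :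
    Fintype.card F * (Fintype.card F + 1) / 2 ∈
    Set.range (fun g : (Matrix.ProjectiveSpecialLinearGroup (Fin 2) F) =>
      (Subgroup.centralizer ({g} : Set (Matrix.ProjectiveSpecialLinearGroup (Fin 2) F))).index) := by
  refine ⟨(QuotientGroup.mk (comp 0) : ProjectiveSpecialLinearGroup (Fin 2) F), ?_⟩
  refine (index_val h2 (comp 0) (comp_ns 0)).2.2.1 i ?_ ?_ (comp_trace 0)
  · rw [comp_trace]; linear_combination hi
  · rw [hi]
    intro h
    apply h2
    linear_combination -h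

theorem mem_nonsplit0 (h2 : (2 : F) ≠ 0) (hnsq : ¬ IsSquare (-1 : F)) :
    Fintype.card F * (Fintype.card F - 1) / 2 ∈
    Set.range (fun g : (Matrix.ProjectiveSpecialLinearGroup (Fin 2) F) =>
      (Subgroup.centralizer ({g} : Set (Matrix.ProjectiveSpecialLinearGroup (Fin 2) F))).index) := by
  refine ⟨(QuotientGroup.mk (comp 0) : ProjectiveSpecialLinearGroup (Fin 2) F), ?_⟩
  refine (index_val h2 (comp 0) (comp_ns 0)).2.2.2.2 ?_ (comp_trace 0)
  rw [comp_trace]
  intro ρ hρ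
  apply hnsq
  exact ⟨ρ, by linear_combination -hρ⟩

theorem main (hodd : ¬ 2 ∣ Fintype.card F) (h7 : 7 ≤ Fintype.card F) :
    (Fintype.card F % 4 = 1 →
      Set.range (fun g : (Matrix.ProjectiveSpecialLinearGroup (Fin 2) F) => (Subgroup.centralizer ({g} : Set (Matrix.ProjectiveSpecialLinearGroup (Fin 2) F))).index) =
        {1, (Fintype.card F ^ 2 - 1) / 2, Fintype.card F * (Fintype.card F + 1) / 2,
          Fintype.card F * (Fintype.card F - 1), Fintype.card F * (Fintype.card F + 1)}) ∧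
    (Fintype.card F % 4 = 3 →
      Set.range (fun g : (Matrix.ProjectiveSpecialLinearGroup (Fin 2) F) => (Subgroup.centralizer ({g} : Set (Matrix.ProjectiveSpecialLinearGroup (Fin 2) F))).index) =
        {1, (Fintype.card F ^ 2 - 1) / 2, Fintype.card F * (Fintype.card F - 1) / 2,
          Fintype.card F * (Fintype.card F + 1), Fintype.card F * (Fintype.card F - 1)}) := by
  have h2 := two_ne hodd
  constructor
  · intro hmod
    have hsq : IsSquare (-1 : F) := FiniteField.isSquare_neg_one_iff.mpr (by omega)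
    obtain ⟨i, hi⟩ := hsq
    have hi' : i ^ 2 = -1 := by rw [sq]; exact hi.symm
    apply Set.Subset.antisymm
    · apply range_sub h2
      · simp
      · simp
      · simp
      · simp
      · intro _; simp
      · intro h; exact absurd ⟨i, hi'⟩ h
    · intro n hn
      simp only [Set.mem_insert_iff, Set.mem_singleton_iff] at hn
      rcases hn with rfl | rfl | rfl | rfl | rfl
      · exact mem_one
      · exact mem_unip h2
      · exact mem_split0 h2 i hi'
      · obtain ⟨t, ht, hnr⟩ := ex_nonsplit_of_sq i hi'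
        exact mem_nonsplit h2 t ht hnr
      · exact mem_split h2 h7
  · intro hmod
    have hnsq : ¬ IsSquare (-1 : F) := by
      rw [FiniteField.isSquare_neg_one_iff]
      omega
    apply Set.Subset.antisymm
    · apply range_sub h2
      · simp
      · simp
      · simp
      · simp
      · rintro ⟨i, hi⟩
        exact absurd ⟨i, by rw [← sq]; exact hi.symm⟩ hnsq
      · intro _; simp
    · intro n hn
      simp only [Set.mem_insert_iff, Set.mem_singleton_iff] at hn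
      rcases hn with rfl | rfl | rfl | rfl | rfl
      · exact mem_one
      · exact mem_unip h2
      · exact mem_nonsplit0 h2 hnsq
      · exact mem_split h2 h7
      · obtain ⟨t, ht, hnr⟩ := ex_nonsplit_of_nsq h2 h7 hnsq
        exact mem_nonsplit h2 t ht hnr

end Aux

/-- Let F be a finite field with q elements, q odd and q ≥ 7. If q ≡ 1 (mod 4) the conjugacy class sizes of PSL(2,F) are exactly 1, (q² − 1)/2, q(q + 1)/2, q(q − 1) and q(q + 1); if q ≡ 3 (mod 4) they are exactly 1, (q² − 1)/2, q(q − 1)/2, q(q + 1) and q(q − 1). -/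
theorem result {F : Type*} [Field F] [Fintype F]
    (hodd : ¬ 2 ∣ Fintype.card F) (h7 : 7 ≤ Fintype.card F) :
    (Fintype.card F % 4 = 1 →
      Set.range (fun g : (Matrix.ProjectiveSpecialLinearGroup (Fin 2) F) => (Subgroup.centralizer ({g} : Set (Matrix.ProjectiveSpecialLinearGroup (Fin 2) F))).index) =
        {1, (Fintype.card F ^ 2 - 1) / 2, Fintype.card F * (Fintype.card F + 1) / 2,
          Fintype.card F * (Fintype.card F - 1), Fintype.card F * (Fintype.card F + 1)}) ∧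
    (Fintype.card F % 4 = 3 →
      Set.range (fun g : (Matrix.ProjectiveSpecialLinearGroup (Fin 2) F) => (Subgroup.centralizer ({g} : Set (Matrix.ProjectiveSpecialLinearGroup (Fin 2) F))).index) =
        {1, (Fintype.card F ^ 2 - 1) / 2, Fintype.card F * (Fintype.card F - 1) / 2,
          Fintype.card F * (Fintype.card F + 1), Fintype.card F * (Fintype.card F - 1)}) := by
  exact main hodd h7

end Cfsg.Agent.S2508
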