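import Cfsg.Statements.S2450
import Mathlib
import Cfsg.Agent.Lib_helper8_GL2
import Cfsg.Agent.S2507
import Cfsg.Agent.S2508

set_option autoImplicit false
open Cfsg

namespace Cfsg.Agent.S2450

section Aux
open Matrix Cfsg.Agent.S2508

variable {F : Type*} [Field F] [Fintype F]

/-- Upper unitriangular element. -/
def uu (s : F) : SpecialLinearGroup (Fin 2) F :=
  ⟨!![1, s; 0, 1], by rw [Matrix.det_fin_two_of]; ring⟩

omit [Fintype F] in
theorem conj_val (g A : SpecialLinearGroup (Fin 2) F) :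
    ((g * A * g⁻¹ : SpecialLinearGroup (Fin 2) F) : Matrix (Fin 2) (Fin 2) F)
      = (g : Matrix (Fin 2) (Fin 2) F) * (A : Matrix (Fin 2) (Fin 2) F)
        * (g : Matrix (Fin 2) (Fin 2) F).adjugate := rfl

omit [Fintype F] in
theorem trace_conj (H C : SpecialLinearGroup (Fin 2) F) :
    ((H * C * H⁻¹ : SpecialLinearGroup (Fin 2) F) : Matrix (Fin 2) (Fin 2) F).trace
      = (C : Matrix (Fin 2) (Fin 2) F).trace := by
  rw [conj_val, Matrix.trace_mul_comm, ← Matrix.mul_assoc, Matrix.adjugate_mul, H.2, one_smul,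
    Matrix.one_mul]

omit [Fintype F] in
theorem entry10 (m₁ m₂ m₃ m₄ a b c d n₁ n₂ n₃ n₄ : F) :
    (!![m₁, m₂; m₃, m₄] * !![a, b; c, d] * !![n₁, n₂; n₃, n₄] : Matrix (Fin 2) (Fin 2) F) 1 0
      = (m₃ * a + m₄ * c) * n₁ + (m₃ * b + m₄ * d) * n₃ := by
  rw [Matrix.mul_fin_two, Matrix.mul_fin_two]
  rfl

omit [Fintype F] in
theorem conj_entry (A : SpecialLinearGroup (Fin 2) F)
    (hns : Cfsg.Agent.Lib_helper8_GL2.NonScalar (A : Matrix (Fin 2) (Fin 2) F)) :
    ∃ g : SpecialLinearGroup (Fin 2) F,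
      ((g * A * g⁻¹ : SpecialLinearGroup (Fin 2) F) : Matrix (Fin 2) (Fin 2) F) 1 0 ≠ 0 := by
  obtain ⟨a, b, c, d, hA⟩ : ∃ a b c d : F, (A : Matrix (Fin 2) (Fin 2) F) = !![a, b; c, d] :=
    ⟨_, _, _, _, Matrix.eta_fin_two _⟩
  have e10 : (A : Matrix (Fin 2) (Fin 2) F) 1 0 = c := by rw [hA]; rfl
  have e01 : (A : Matrix (Fin 2) (Fin 2) F) 0 1 = b := by rw [hA]; rfl
  have e00 : (A : Matrix (Fin 2) (Fin 2) F) 0 0 = a := by rw [hA]; rfl
  have e11 : (A : Matrix (Fin 2) (Fin 2) F) 1 1 = d := by rw [hA]; rfl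
  by_cases h10 : c ≠ 0
  · refine ⟨1, ?_⟩
    have : ((1 * A * 1⁻¹ : SpecialLinearGroup (Fin 2) F) : Matrix (Fin 2) (Fin 2) F) 1 0 = c := by
      rw [one_mul, inv_one, mul_one, e10]
    rw [this]; exact h10
  push Not at h10
  by_cases h01 : b ≠ 0
  · have hdet : (!![0, 1; -1, 0] : Matrix (Fin 2) (Fin 2) F).det = 1 := by
      rw [Matrix.det_fin_two_of]; ring
    let w : SpecialLinearGroup (Fin 2) F := ⟨_, hdet⟩
    refine ⟨w, ?_⟩
    rw [conj_val]
    show ((!![0, 1; -1, 0] : Matrix (Fin 2) (Fin 2) F) * (A : Matrix (Fin 2) (Fin 2) F)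
      * (!![0, 1; -1, 0] : Matrix (Fin 2) (Fin 2) F).adjugate) 1 0 ≠ 0
    rw [Matrix.adjugate_fin_two_of, hA, entry10]
    intro h
    apply h01
    linear_combination -h
  push Not at h01
  have hd : a ≠ d := by
    rcases hns with h | h | h
    · exact absurd (e10.trans h10) h
    · exact absurd (e01.trans h01) h
    · rw [e00, e11] at h; exact h
  have hdet : (!![1, 0; 1, 1] : Matrix (Fin 2) (Fin 2) F).det = 1 := by
    rw [Matrix.det_fin_two_of]; ring
  let w : SpecialLinearGroup (Fin 2) F := ⟨_, hdet⟩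
  refine ⟨w, ?_⟩
  rw [conj_val]
  show ((!![1, 0; 1, 1] : Matrix (Fin 2) (Fin 2) F) * (A : Matrix (Fin 2) (Fin 2) F)
    * (!![1, 0; 1, 1] : Matrix (Fin 2) (Fin 2) F).adjugate) 1 0 ≠ 0
  rw [Matrix.adjugate_fin_two_of, hA, entry10, h10, h01]
  intro h
  apply hd
  linear_combination h

omit [Fintype F] in
theorem trace_formula (A B : SpecialLinearGroup (Fin 2) F) (s : F) :
    ((A * (uu s * B * (uu s)⁻¹) : SpecialLinearGroup (Fin 2) F) :
        Matrix (Fin 2) (Fin 2) F).trace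
      = ((A : Matrix (Fin 2) (Fin 2) F) 0 0 * (B : Matrix (Fin 2) (Fin 2) F) 0 0
          + (A : Matrix (Fin 2) (Fin 2) F) 0 1 * (B : Matrix (Fin 2) (Fin 2) F) 1 0
          + (A : Matrix (Fin 2) (Fin 2) F) 1 0 * (B : Matrix (Fin 2) (Fin 2) F) 0 1
          + (A : Matrix (Fin 2) (Fin 2) F) 1 1 * (B : Matrix (Fin 2) (Fin 2) F) 1 1)
        + s * ((A : Matrix (Fin 2) (Fin 2) F) 0 0 * (B : Matrix (Fin 2) (Fin 2) F) 1 0
          - (A : Matrix (Fin 2) (Fin 2) F) 1 0 * (B : Matrix (Fin 2) (Fin 2) F) 0 0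
          + (A : Matrix (Fin 2) (Fin 2) F) 1 0 * (B : Matrix (Fin 2) (Fin 2) F) 1 1
          - (A : Matrix (Fin 2) (Fin 2) F) 1 1 * (B : Matrix (Fin 2) (Fin 2) F) 1 0)
        + s ^ 2 * (-((A : Matrix (Fin 2) (Fin 2) F) 1 0 * (B : Matrix (Fin 2) (Fin 2) F) 1 0)) := by
  show ((A : Matrix (Fin 2) (Fin 2) F) * (!![1, s; 0, 1] * (B : Matrix (Fin 2) (Fin 2) F)
      * (!![1, s; 0, 1] : Matrix (Fin 2) (Fin 2) F).adjugate)).trace = _
  obtain ⟨a, b, c, d, hA⟩ : ∃ a b c d : F, (A : Matrix (Fin 2) (Fin 2) F) = !![a, b; c, d] :=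
    ⟨_, _, _, _, Matrix.eta_fin_two _⟩
  obtain ⟨e, f, g, h, hB⟩ : ∃ e f g h : F, (B : Matrix (Fin 2) (Fin 2) F) = !![e, f; g, h] :=
    ⟨_, _, _, _, Matrix.eta_fin_two _⟩
  rw [hA, hB, Matrix.adjugate_fin_two_of]
  simp [Matrix.trace_fin_two_of]
  ring

theorem quad_card (c₀ c₁ c₂ τ : F) (hc : c₂ ≠ 0) [DecidableEq F] :
    (Finset.univ.filter (fun s : F => c₀ + s * c₁ + s ^ 2 * c₂ = τ)).card ≤ 2 := by
  by_contra hcon
  push Not at hcon
  obtain ⟨s₁, s₂, s₃, h1, h2, h3, h12, h13, h23⟩ := Finset.two_lt_card_iff.mp hcon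
  simp only [Finset.mem_filter, Finset.mem_univ, true_and] at h1 h2 h3
  have e1 : (s₁ - s₂) * (c₁ + (s₁ + s₂) * c₂) = 0 := by linear_combination h1 - h2
  have e2 : (s₁ - s₃) * (c₁ + (s₁ + s₃) * c₂) = 0 := by linear_combination h1 - h3
  have e1' := (mul_eq_zero.mp e1).resolve_left (sub_ne_zero.mpr h12)
  have e2' := (mul_eq_zero.mp e2).resolve_left (sub_ne_zero.mpr h13)
  have e3 : (s₂ - s₃) * c₂ = 0 := by linear_combination e1' - e2'
  rcases mul_eq_zero.mp e3 with h | h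
  · exact h23 (sub_eq_zero.mp h)
  · exact hc h

omit [Fintype F] in
theorem ns_of_ne_one (A : SpecialLinearGroup (Fin 2) F)
    (h : (QuotientGroup.mk A : ProjectiveSpecialLinearGroup (Fin 2) F) ≠ 1) :
    Cfsg.Agent.Lib_helper8_GL2.NonScalar (A : Matrix (Fin 2) (Fin 2) F) := by
  by_contra hns
  apply h
  rw [Cfsg.Agent.Lib_helper8_GL2.nonScalar_iff, not_not] at hns
  obtain ⟨c, hc⟩ := hns
  rw [QuotientGroup.eq_one_iff, Matrix.SpecialLinearGroup.mem_center_iff]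
  refine ⟨c, ?_, ?_⟩
  · have h5 := A.2
    rw [hc, Matrix.det_smul, Matrix.det_one, mul_one] at h5
    exact h5
  · rw [hc, Matrix.smul_one_eq_diagonal]
    rfl

theorem main (h4 : 4 ≤ Fintype.card F)
    (a b : Matrix.ProjectiveSpecialLinearGroup (Fin 2) F) (ha : a ≠ 1) (hb : b ≠ 1)
    (c : Matrix.ProjectiveSpecialLinearGroup (Fin 2) F) :
    {g : Matrix.ProjectiveSpecialLinearGroup (Fin 2) F |
      ∃ u v : Matrix.ProjectiveSpecialLinearGroup (Fin 2) F, g = (u * a * u⁻¹) * (v * b * v⁻¹)}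
      ≠ {g | IsConj c g} := by
  classical
  intro hset
  obtain ⟨A, rfl⟩ := QuotientGroup.mk_surjective a
  obtain ⟨B, rfl⟩ := QuotientGroup.mk_surjective b
  obtain ⟨C, rfl⟩ := QuotientGroup.mk_surjective c
  obtain ⟨g₁, hg₁⟩ := conj_entry A (ns_of_ne_one A ha)
  obtain ⟨g₂, hg₂⟩ := conj_entry B (ns_of_ne_one B hb)
  set A' := g₁ * A * g₁⁻¹ with hA'
  set B' := g₂ * B * g₂⁻¹ with hB'
  set τ := (C : Matrix (Fin 2) (Fin 2) F).trace with hτ
  have key : ∀ s : F,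
      ((A' * (uu s * B' * (uu s)⁻¹) : SpecialLinearGroup (Fin 2) F) :
        Matrix (Fin 2) (Fin 2) F).trace = τ ∨
      ((A' * (uu s * B' * (uu s)⁻¹) : SpecialLinearGroup (Fin 2) F) :
        Matrix (Fin 2) (Fin 2) F).trace = -τ := by
    intro s
    have hmem : (QuotientGroup.mk (A' * (uu s * B' * (uu s)⁻¹)) :
        ProjectiveSpecialLinearGroup (Fin 2) F) ∈
        {g : ProjectiveSpecialLinearGroup (Fin 2) F | IsConj (QuotientGroup.mk C) g} := by
      rw [← hset]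
      refine ⟨QuotientGroup.mk g₁, QuotientGroup.mk (uu s * g₂), ?_⟩
      rw [← QuotientGroup.mk_inv, ← QuotientGroup.mk_inv, ← QuotientGroup.mk_mul,
        ← QuotientGroup.mk_mul, ← QuotientGroup.mk_mul, ← QuotientGroup.mk_mul,
        ← QuotientGroup.mk_mul]
      congr 1
      rw [hA', hB']
      group
    obtain ⟨h, hh⟩ := isConj_iff.mp hmem
    obtain ⟨H, rfl⟩ := QuotientGroup.mk_surjective h
    rw [← QuotientGroup.mk_inv, ← QuotientGroup.mk_mul, ← QuotientGroup.mk_mul,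
      QuotientGroup.eq] at hh
    rcases center_cases _ hh with h1 | h1
    · left
      have h5 : A' * (uu s * B' * (uu s)⁻¹) = H * C * H⁻¹ := (inv_mul_eq_one.mp h1).symm
      rw [h5, trace_conj]
    · right
      have h5 : A' * (uu s * B' * (uu s)⁻¹) = H * C * H⁻¹ * zeta := by rw [← h1]; group
      rw [h5]
      have e2 : ((H * C * H⁻¹ * zeta : SpecialLinearGroup (Fin 2) F) :
          Matrix (Fin 2) (Fin 2) F)
          = -((H * C * H⁻¹ : SpecialLinearGroup (Fin 2) F) : Matrix (Fin 2) (Fin 2) F) := by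
        show ((H * C * H⁻¹ : SpecialLinearGroup (Fin 2) F) : Matrix (Fin 2) (Fin 2) F)
          * (-1 : Matrix (Fin 2) (Fin 2) F) = _
        simp
      rw [e2, Matrix.trace_neg, trace_conj]
  simp only [trace_formula] at key
  have hc2 : -((A' : Matrix (Fin 2) (Fin 2) F) 1 0 * (B' : Matrix (Fin 2) (Fin 2) F) 1 0) ≠ 0 :=
    neg_ne_zero.mpr (mul_ne_zero hg₁ hg₂)
  generalize -((A' : Matrix (Fin 2) (Fin 2) F) 1 0 * (B' : Matrix (Fin 2) (Fin 2) F) 1 0) = c₂
    at key hc2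
  generalize (A' : Matrix (Fin 2) (Fin 2) F) 0 0 * (B' : Matrix (Fin 2) (Fin 2) F) 0 0
          + (A' : Matrix (Fin 2) (Fin 2) F) 0 1 * (B' : Matrix (Fin 2) (Fin 2) F) 1 0
          + (A' : Matrix (Fin 2) (Fin 2) F) 1 0 * (B' : Matrix (Fin 2) (Fin 2) F) 0 1
          + (A' : Matrix (Fin 2) (Fin 2) F) 1 1 * (B' : Matrix (Fin 2) (Fin 2) F) 1 1 = c₀ at key
  generalize (A' : Matrix (Fin 2) (Fin 2) F) 0 0 * (B' : Matrix (Fin 2) (Fin 2) F) 1 0
          - (A' : Matrix (Fin 2) (Fin 2) F) 1 0 * (B' : Matrix (Fin 2) (Fin 2) F) 0 0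
          + (A' : Matrix (Fin 2) (Fin 2) F) 1 0 * (B' : Matrix (Fin 2) (Fin 2) F) 1 1
          - (A' : Matrix (Fin 2) (Fin 2) F) 1 1 * (B' : Matrix (Fin 2) (Fin 2) F) 1 0 = c₁ at key
  have hcov : (Finset.univ : Finset F) ⊆
      (Finset.univ.filter (fun s : F => c₀ + s * c₁ + s ^ 2 * c₂ = τ)) ∪
      (Finset.univ.filter (fun s : F => c₀ + s * c₁ + s ^ 2 * c₂ = -τ)) := by
    intro s _
    rw [Finset.mem_union, Finset.mem_filter, Finset.mem_filter]
    rcases key s with h | h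
    · exact Or.inl ⟨Finset.mem_univ _, h⟩
    · exact Or.inr ⟨Finset.mem_univ _, h⟩
  have hle := (Finset.card_le_card hcov).trans (Finset.card_union_le _ _)
  have q1 := quad_card c₀ c₁ c₂ τ hc2
  have q2 := quad_card c₀ c₁ c₂ (-τ) hc2
  rw [Finset.card_univ] at hle
  have hq4 : Fintype.card F = 4 := by omega
  have h2 : (2 : F) = 0 := Cfsg.Agent.S2507.two_zero (by rw [hq4]; norm_num)
  have hneg : -τ = τ := by linear_combination -τ * h2
  rw [hneg, Finset.union_self] at hcov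
  have := Finset.card_le_card hcov
  rw [Finset.card_univ] at this
  omega

end Aux

/-- The Arad–Herzog conjecture for PSL(2,q): let F be a finite field with q ≥ 4 elements. For any two non-identity elements a, b of PSL(2,F), the set of products of a conjugate of a with a conjugate of b is not a single conjugacy class. -/
theorem result {F : Type*} [Field F] [Fintype F] (h4 : 4 ≤ Fintype.card F)
    (a b : Matrix.ProjectiveSpecialLinearGroup (Fin 2) F) (ha : a ≠ 1) (hb : b ≠ 1) (c : Matrix.ProjectiveSpecialLinearGroup (Fin 2) F) :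
    {g : Matrix.ProjectiveSpecialLinearGroup (Fin 2) F | ∃ u v : Matrix.ProjectiveSpecialLinearGroup (Fin 2) F, g = (u * a * u⁻¹) * (v * b * v⁻¹)} ≠ {g | IsConj c g} := by
  exact main h4 a b ha hb c

end Cfsg.Agent.S2450
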