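import Cfsg.Statements.S2475
import Mathlib
import Cfsg.Agent.Lib_helper4_SL2Cyc
import Cfsg.Agent.Lib_helper4_SL2b
import Cfsg.Agent.Lib_helper8_GL2
import Cfsg.Agent.S2507
import Cfsg.Agent.S2508

set_option autoImplicit false
open Cfsg

namespace Cfsg.Agent.S2475

section Aux
open Matrix Cfsg.Agent.S2508

variable {F : Type*} [Field F] [Fintype F]

theorem even_of_two_zero (h2 : (2 : F) = 0) : 2 ∣ Fintype.card F := by
  have h1 : ringChar F ∣ 2 := by
    have := (ringChar.spec F 2).mp (by exact_mod_cast h2)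
    exact this
  have h3 : ringChar F = 2 := by
    rcases (Nat.dvd_prime Nat.prime_two).mp h1 with h | h
    · exact absurd h CharP.ringChar_ne_one
    · exact h
  exact Nat.dvd_of_mod_eq_zero (FiniteField.even_card_iff_char_two.mp h3)

theorem gcd_even (h2 : (2 : F) = 0) : Nat.gcd 2 (Fintype.card F - 1) = 1 := by
  have he := even_of_two_zero h2
  have hq : 1 < Fintype.card F := Fintype.one_lt_card
  have hodd : ¬ 2 ∣ Fintype.card F - 1 := by omega
  exact (Nat.Prime.coprime_iff_not_dvd Nat.prime_two).mpr hodd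

theorem gcd_odd (h2 : (2 : F) ≠ 0) : Nat.gcd 2 (Fintype.card F - 1) = 2 := by
  have hodd : ¬ 2 ∣ Fintype.card F := fun h => h2 (Cfsg.Agent.S2507.two_zero h)
  have hq : 1 < Fintype.card F := Fintype.one_lt_card
  exact Nat.gcd_eq_left (by omega)

theorem center_iff (B : SpecialLinearGroup (Fin 2) F) :
    B ∈ Subgroup.center (SpecialLinearGroup (Fin 2) F) ↔
      B ^ Nat.gcd 2 (Fintype.card F - 1) = 1 := by
  by_cases h2 : (2 : F) = 0
  · rw [gcd_even h2, pow_one, Cfsg.Agent.S2507.center_bot h2, Subgroup.mem_bot]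
  · rw [gcd_odd h2]
    constructor
    · intro h
      rcases center_cases B h with h1 | h1
      · rw [h1, one_pow]
      · rw [h1, sq, zeta_sq]
    · intro h
      have h5 : (B : Matrix (Fin 2) (Fin 2) F) * (B : Matrix (Fin 2) (Fin 2) F) = 1 := by
        have := congrArg (fun z : SpecialLinearGroup (Fin 2) F => (z : Matrix (Fin 2) (Fin 2) F)) h
        rw [sq] at this
        exact this
      rcases Cfsg.Agent.Lib_helper4_SL2b.eq_one_or_neg_one _ B.2 h5 h2 with h6 | h6
      · have : B = 1 := Subtype.ext h6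
        rw [this]; exact Subgroup.one_mem _
      · have : B = zeta := Subtype.ext h6
        rw [this]; exact zeta_mem

theorem pow_quot (A : SpecialLinearGroup (Fin 2) F) (n : ℕ)
    (hd : Nat.gcd 2 (Fintype.card F - 1) ∣ n) (hA : A ^ n = 1) :
    (QuotientGroup.mk A : ProjectiveSpecialLinearGroup (Fin 2) F)
      ^ (n / Nat.gcd 2 (Fintype.card F - 1)) = 1 := by
  rw [← QuotientGroup.mk_pow, QuotientGroup.eq_one_iff, center_iff, ← pow_mul,
    Nat.div_mul_cancel hd, hA]

theorem orderOf_mk (c : SpecialLinearGroup (Fin 2) F)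
    (hd : Nat.gcd 2 (Fintype.card F - 1) ∣ orderOf c) :
    orderOf (QuotientGroup.mk c : ProjectiveSpecialLinearGroup (Fin 2) F)
      = orderOf c / Nat.gcd 2 (Fintype.card F - 1) := by
  apply Nat.dvd_antisymm
  · exact orderOf_dvd_of_pow_eq_one (pow_quot c (orderOf c) hd (pow_orderOf_eq_one c))
  · rw [Nat.div_dvd_iff_dvd_mul hd (Nat.gcd_pos_of_pos_left _ (by norm_num))]
    have h1 := pow_orderOf_eq_one (QuotientGroup.mk c : ProjectiveSpecialLinearGroup (Fin 2) F)
    rw [← QuotientGroup.mk_pow, QuotientGroup.eq_one_iff, center_iff, ← pow_mul] at h1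
    rw [mul_comm]
    exact orderOf_dvd_of_pow_eq_one h1

omit [Fintype F] in
theorem pow_card_comm [Finite F] (A : SpecialLinearGroup (Fin 2) F) :
    A ^ Nat.card {B : SpecialLinearGroup (Fin 2) F // B * A = A * B} = 1 := by
  have e : Nat.card ↥(Subgroup.centralizer ({A} : Set (SpecialLinearGroup (Fin 2) F)))
      = Nat.card {B : SpecialLinearGroup (Fin 2) F // B * A = A * B} :=
    Nat.card_congr (Equiv.subtypeEquivRight (fun B => Subgroup.mem_centralizer_singleton_iff))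
  rw [← e]
  have hA : A ∈ Subgroup.centralizer ({A} : Set (SpecialLinearGroup (Fin 2) F)) :=
    Subgroup.mem_centralizer_singleton_iff.mpr rfl
  have := pow_card_eq_one' (G := ↥(Subgroup.centralizer ({A} : Set (SpecialLinearGroup (Fin 2) F))))
    (x := ⟨A, hA⟩)
  exact congrArg Subtype.val this

theorem unip_pow (p : ℕ) [Fact p.Prime] [CharP F p] (A : SpecialLinearGroup (Fin 2) F) (ρ : F)
    (hρ : ρ ^ 2 - (A : Matrix (Fin 2) (Fin 2) F).trace * ρ + 1 = 0) (hρ1 : ρ ^ 2 = 1) :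
    (QuotientGroup.mk A : ProjectiveSpecialLinearGroup (Fin 2) F) ^ p = 1 := by
  have hp : p.Prime := Fact.out
  obtain ⟨hρ0, hsum⟩ := root_sum _ ρ hρ
  have hinv : ρ⁻¹ = ρ := inv_eq_of_mul_eq_one_right (by rw [← sq]; exact hρ1)
  rw [hinv] at hsum
  have hρρ : ρ * ρ = 1 := by rw [← sq]; exact hρ1
  set N : Matrix (Fin 2) (Fin 2) F := (A : Matrix (Fin 2) (Fin 2) F) - ρ • 1 with hN
  have hNN : N * N = 0 := by
    rw [hN]
    simp only [sub_mul, mul_sub, Matrix.smul_mul, Matrix.mul_smul, Matrix.one_mul, Matrix.mul_one,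
      smul_smul]
    rw [Cfsg.Agent.Lib_helper4_SL2.cayley _ A.2, ← hsum, hρρ]
    module
  have hNp : N ^ p = 0 := by
    have h2 : 2 ≤ p := hp.two_le
    obtain ⟨k, rfl⟩ := Nat.exists_eq_add_of_le h2
    rw [pow_add, sq, hNN, zero_mul]
  have hcomm : Commute (ρ • (1 : Matrix (Fin 2) (Fin 2) F)) N := by
    show (ρ • (1 : Matrix (Fin 2) (Fin 2) F)) * N = N * (ρ • (1 : Matrix (Fin 2) (Fin 2) F))
    simp
  have hAp : (A : Matrix (Fin 2) (Fin 2) F) ^ p = (ρ ^ p) • (1 : Matrix (Fin 2) (Fin 2) F) := by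
    have h5 : (A : Matrix (Fin 2) (Fin 2) F) = ρ • (1 : Matrix (Fin 2) (Fin 2) F) + N := by
      rw [hN]; abel
    rw [h5, add_pow_char_of_commute p hcomm, hNp, add_zero, smul_pow, one_pow]
  rw [← QuotientGroup.mk_pow, QuotientGroup.eq_one_iff, Matrix.SpecialLinearGroup.mem_center_iff]
  refine ⟨ρ ^ p, ?_, ?_⟩
  · rw [Fintype.card_fin, ← pow_mul, mul_comm, pow_mul, hρ1, one_pow]
  · rw [Matrix.SpecialLinearGroup.coe_pow, hAp, Matrix.smul_one_eq_diagonal]
    rfl

theorem dvd_minus : Nat.gcd 2 (Fintype.card F - 1) ∣ Fintype.card F - 1 := Nat.gcd_dvd_right _ _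

theorem dvd_plus : Nat.gcd 2 (Fintype.card F - 1) ∣ Fintype.card F + 1 := by
  have hq : 1 < Fintype.card F := Fintype.one_lt_card
  have h1 := Nat.dvd_add (dvd_minus (F := F)) (Nat.gcd_dvd_left 2 (Fintype.card F - 1))
  have h2 : Fintype.card F - 1 + 2 = Fintype.card F + 1 := by omega
  rwa [h2] at h1

theorem sub_dir (p : ℕ) [Fact p.Prime] [CharP F p]
    (x : ProjectiveSpecialLinearGroup (Fin 2) F) :
    orderOf x ∣ p ∨ orderOf x ∣ (Fintype.card F - 1) / Nat.gcd 2 (Fintype.card F - 1) ∨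
      orderOf x ∣ (Fintype.card F + 1) / Nat.gcd 2 (Fintype.card F - 1) := by
  obtain ⟨A, rfl⟩ := QuotientGroup.mk_surjective x
  by_cases hns : Cfsg.Agent.Lib_helper8_GL2.NonScalar (A : Matrix (Fin 2) (Fin 2) F)
  · by_cases hroot : ∃ ρ : F, ρ ^ 2 - (A : Matrix (Fin 2) (Fin 2) F).trace * ρ + 1 = 0
    · obtain ⟨ρ, hρ⟩ := hroot
      by_cases hρ1 : ρ ^ 2 = 1
      · left
        exact orderOf_dvd_of_pow_eq_one (unip_pow p A ρ hρ hρ1)
      · right; left
        have h5 := pow_card_comm A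
        rw [card_comm A hns, card_S_split _ ρ hρ hρ1] at h5
        exact orderOf_dvd_of_pow_eq_one (pow_quot A _ dvd_minus h5)
    · push Not at hroot
      right; right
      have h5 := pow_card_comm A
      rw [card_comm A hns, card_S_nonsplit _ hroot] at h5
      exact orderOf_dvd_of_pow_eq_one (pow_quot A _ dvd_plus h5)
  · left
    rw [Cfsg.Agent.Lib_helper8_GL2.nonScalar_iff, not_not] at hns
    obtain ⟨c, hc⟩ := hns
    have hAc : A ∈ Subgroup.center (SpecialLinearGroup (Fin 2) F) := by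
      rw [Matrix.SpecialLinearGroup.mem_center_iff]
      refine ⟨c, ?_, ?_⟩
      · have h5 := A.2
        rw [hc, Matrix.det_smul, Matrix.det_one, mul_one] at h5
        exact h5
      · rw [hc, Matrix.smul_one_eq_diagonal]
        rfl
    have h1 : (QuotientGroup.mk A : ProjectiveSpecialLinearGroup (Fin 2) F) = 1 :=
      (QuotientGroup.eq_one_iff _).mpr hAc
    show orderOf (QuotientGroup.mk A : ProjectiveSpecialLinearGroup (Fin 2) F) ∣ p
    rw [h1, orderOf_one]
    exact one_dvd _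

theorem ex_p (p : ℕ) [Fact p.Prime] [CharP F p] :
    ∃ x : ProjectiveSpecialLinearGroup (Fin 2) F, orderOf x = p := by
  have hdet : (!![1, 1; 0, 1] : Matrix (Fin 2) (Fin 2) F).det = 1 := by
    rw [Matrix.det_fin_two_of]; ring
  have htr : (!![1, 1; 0, 1] : Matrix (Fin 2) (Fin 2) F).trace = 2 := by
    rw [Matrix.trace_fin_two_of]; norm_num
  let U : SpecialLinearGroup (Fin 2) F := ⟨!![1, 1; 0, 1], hdet⟩
  refine ⟨(QuotientGroup.mk U : ProjectiveSpecialLinearGroup (Fin 2) F), ?_⟩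
  apply orderOf_eq_prime
  · apply unip_pow p U 1 _ (one_pow 2)
    show (1 : F) ^ 2 - (!![1, 1; 0, 1] : Matrix (Fin 2) (Fin 2) F).trace * 1 + 1 = 0
    rw [htr]; ring
  · intro h
    have h := (QuotientGroup.eq_one_iff U).mp h
    have hU01 : (U : Matrix (Fin 2) (Fin 2) F) 0 1 = 1 := rfl
    rcases center_cases _ h with h1 | h1
    · have h6 : (U : Matrix (Fin 2) (Fin 2) F) 0 1 = (1 : Matrix (Fin 2) (Fin 2) F) 0 1 :=
        congrArg (fun z : SpecialLinearGroup (Fin 2) F => (z : Matrix (Fin 2) (Fin 2) F) 0 1) h1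
      rw [hU01] at h6
      simp at h6
    · have h6 : (U : Matrix (Fin 2) (Fin 2) F) 0 1 = (-1 : Matrix (Fin 2) (Fin 2) F) 0 1 :=
        congrArg (fun z : SpecialLinearGroup (Fin 2) F => (z : Matrix (Fin 2) (Fin 2) F) 0 1) h1
      rw [hU01] at h6
      simp at h6

theorem ex_minus : ∃ x : ProjectiveSpecialLinearGroup (Fin 2) F,
    orderOf x = (Fintype.card F - 1) / Nat.gcd 2 (Fintype.card F - 1) := by
  classical
  obtain ⟨g, hg⟩ := IsCyclic.exists_ofOrder_eq_natCard (α := Fˣ)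
  rw [Nat.card_units, Nat.card_eq_fintype_card] at hg
  have hc : orderOf (Cfsg.Agent.Lib_helper4_SL2Cyc.torusHom g) = Fintype.card F - 1 := by
    rw [orderOf_injective _ Cfsg.Agent.Lib_helper4_SL2Cyc.torusHom_injective, hg]
  refine ⟨(QuotientGroup.mk (Cfsg.Agent.Lib_helper4_SL2Cyc.torusHom g) :
    ProjectiveSpecialLinearGroup (Fin 2) F), ?_⟩
  rw [orderOf_mk _ (by rw [hc]; exact dvd_minus), hc]

theorem ex_plus : ∃ x : ProjectiveSpecialLinearGroup (Fin 2) F,
    orderOf x = (Fintype.card F + 1) / Nat.gcd 2 (Fintype.card F - 1) := by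
  classical
  obtain ⟨t₀, ht₀⟩ := Cfsg.Agent.S2507.exists_t0 (F := F)
  have hnr : ∀ ρ : F, ρ ^ 2 - t₀ * ρ + 1 ≠ 0 := by
    intro ρ hρ
    obtain ⟨hρ0, hsum⟩ := root_sum t₀ ρ hρ
    exact ht₀ ρ hρ0 hsum
  set A : SpecialLinearGroup (Fin 2) F := comp t₀ with hA
  have hNE : ∀ l : F, l ^ 2 - (A : Matrix (Fin 2) (Fin 2) F).trace * l
      + (A : Matrix (Fin 2) (Fin 2) F).det ≠ 0 := by
    intro l
    rw [comp_trace, A.2]
    exact hnr l
  have hcyc : IsCyclic ↥(Subgroup.centralizer ({A} : Set (SpecialLinearGroup (Fin 2) F))) := by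
    apply Cfsg.Agent.Lib_helper4_SL2Cyc.cyclic_of_subalgebra _ (A : Matrix (Fin 2) (Fin 2) F) hNE
    intro g hg
    rw [Subgroup.mem_centralizer_singleton_iff] at hg
    apply Cfsg.Agent.Lib_helper4_SL2Cyc.mem_D_of_commute _ _ hNE
    exact congrArg (fun z : SpecialLinearGroup (Fin 2) F => (z : Matrix (Fin 2) (Fin 2) F)) hg
  have hcard : Nat.card ↥(Subgroup.centralizer ({A} : Set (SpecialLinearGroup (Fin 2) F)))
      = Fintype.card F + 1 := by
    rw [Nat.card_congr (Equiv.subtypeEquivRight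
      (fun B => Subgroup.mem_centralizer_singleton_iff) :
      ↥(Subgroup.centralizer ({A} : Set (SpecialLinearGroup (Fin 2) F)))
        ≃ {B : SpecialLinearGroup (Fin 2) F // B * A = A * B}),
      card_comm A (comp_ns t₀)]
    apply card_S_nonsplit
    rw [comp_trace]
    exact hnr
  obtain ⟨h, hh⟩ := IsCyclic.exists_ofOrder_eq_natCard
    (α := ↥(Subgroup.centralizer ({A} : Set (SpecialLinearGroup (Fin 2) F))))
  rw [hcard] at hh
  have hc : orderOf (h : SpecialLinearGroup (Fin 2) F) = Fintype.card F + 1 := by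
    rw [Subgroup.orderOf_coe, hh]
  refine ⟨(QuotientGroup.mk (h : SpecialLinearGroup (Fin 2) F) :
    ProjectiveSpecialLinearGroup (Fin 2) F), ?_⟩
  rw [orderOf_mk _ (by rw [hc]; exact dvd_plus), hc]

theorem ex_dvd {G : Type*} [Group G] (x : G) (m : ℕ) (h0 : orderOf x ≠ 0) (hm : m ∣ orderOf x) :
    ∃ y : G, orderOf y = m := by
  obtain ⟨k, hk⟩ := hm
  have hk0 : k ≠ 0 := by
    rintro rfl
    rw [mul_zero] at hk
    exact h0 hk
  have hm0 : m ≠ 0 := by
    rintro rfl
    rw [zero_mul] at hk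
    exact h0 hk
  refine ⟨x ^ k, ?_⟩
  rw [orderOf_pow_of_dvd hk0 ⟨m, by rw [hk, mul_comm]⟩, hk]
  exact Nat.mul_div_cancel m (Nat.pos_of_ne_zero hk0)

theorem main (p : ℕ) [Fact p.Prime] [CharP F p] (h4 : 4 ≤ Fintype.card F) :
    Set.range (orderOf : Matrix.ProjectiveSpecialLinearGroup (Fin 2) F → ℕ) =
      {m : ℕ | m ∣ p ∨ m ∣ (Fintype.card F - 1) / Nat.gcd 2 (Fintype.card F - 1) ∨
        m ∣ (Fintype.card F + 1) / Nat.gcd 2 (Fintype.card F - 1)} := by
  have hp : p.Prime := Fact.out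
  have hd2 : Nat.gcd 2 (Fintype.card F - 1) ≤ 2 := Nat.le_of_dvd (by norm_num) (Nat.gcd_dvd_left _ _)
  have hdpos : 0 < Nat.gcd 2 (Fintype.card F - 1) := Nat.gcd_pos_of_pos_left _ (by norm_num)
  apply Set.Subset.antisymm
  · rintro _ ⟨x, rfl⟩
    exact sub_dir p x
  · intro m hm
    rcases hm with hm | hm | hm
    · obtain ⟨x, hx⟩ := ex_p (F := F) p
      exact ex_dvd x m (by rw [hx]; exact hp.ne_zero) (by rw [hx]; exact hm)
    · obtain ⟨x, hx⟩ := ex_minus (F := F)
      refine ex_dvd x m ?_ (by rw [hx]; exact hm)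
      rw [hx]
      have := Nat.div_pos (Nat.le_of_dvd (by omega) (dvd_minus (F := F))) hdpos
      omega
    · obtain ⟨x, hx⟩ := ex_plus (F := F)
      refine ex_dvd x m ?_ (by rw [hx]; exact hm)
      rw [hx]
      have := Nat.div_pos (Nat.le_of_dvd (by omega) (dvd_plus (F := F))) hdpos
      omega

end Aux

/-- The set of element orders of PSL(2,q): let F be a finite field of characteristic p with q ≥ 4 elements and d = gcd(2, q − 1). The orders of elements of PSL(2,F) are exactly the divisors of p, of (q − 1)/d and of (q + 1)/d. -/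
theorem result {F : Type*} [Field F] [Fintype F] (p : ℕ) [Fact p.Prime] [CharP F p] (h4 : 4 ≤ Fintype.card F) :
    Set.range (orderOf : Matrix.ProjectiveSpecialLinearGroup (Fin 2) F → ℕ) =
      {m : ℕ | m ∣ p ∨ m ∣ (Fintype.card F - 1) / Nat.gcd 2 (Fintype.card F - 1) ∨ m ∣ (Fintype.card F + 1) / Nat.gcd 2 (Fintype.card F - 1)} := by
  exact main p h4

end Cfsg.Agent.S2475
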