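import Cfsg.Statements.S2455
import Mathlib
import Cfsg.Agent.Lib_helper8_GL2
import Cfsg.Agent.S2507
import Cfsg.Agent.S2508
import Cfsg.Agent.S2475
import Cfsg.Agent.S2450

set_option autoImplicit false
open Cfsg

namespace Cfsg.Agent.S2455

section Aux
open Matrix Cfsg.Agent.S2508

variable {F : Type*} [Field F] [Fintype F]

theorem quad_rep (h2 : (2 : F) ≠ 0) (s : F) (hs : s ^ 2 ≠ 4) (δ : F) :
    ∃ u v : F, u ^ 2 + s * u * v + v ^ 2 = δ := by
  classical
  have hodd : Fintype.card F % 2 = 1 := by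
    apply FiniteField.odd_card_of_char_ne_two
    intro h
    haveI : CharP F 2 := (ringChar.eq_iff).mp h
    exact h2 (by exact_mod_cast CharP.cast_eq_zero F 2)
  have h4 : (4 : F) ≠ 0 := by
    have : (4 : F) = 2 * 2 := by norm_num
    rw [this]; exact mul_ne_zero h2 h2
  set D : F := 1 - s ^ 2 / 4 with hD
  have h5 : 4 * D = 4 - s ^ 2 := by rw [hD]; field_simp
  have hD0 : D ≠ 0 := by
    intro h
    apply hs
    rw [h, mul_zero] at h5
    linear_combination h5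
  have hf : (Polynomial.X ^ 2 - Polynomial.C δ : Polynomial F).degree = 2 :=
    Polynomial.degree_X_pow_sub_C (by norm_num) δ
  have hg : (Polynomial.C D * Polynomial.X ^ 2 : Polynomial F).degree = 2 := by
    rw [Polynomial.degree_C_mul_X_pow 2 hD0]; rfl
  obtain ⟨a, b, hab⟩ := FiniteField.exists_root_sum_quadratic hf hg hodd
  simp only [Polynomial.eval_sub, Polynomial.eval_pow, Polynomial.eval_X, Polynomial.eval_C,
    Polynomial.eval_mul] at hab
  refine ⟨a - s * b / 2, b, ?_⟩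
  have e : (a - s * b / 2) * 2 = 2 * a - s * b := by field_simp
  have h6 : 4 * ((a - s * b / 2) ^ 2 + s * (a - s * b / 2) * b + b ^ 2) = 4 * δ := by
    generalize a - s * b / 2 = w at e ⊢
    linear_combination (2 * w + 2 * a + s * b) * e + 4 * hab - b ^ 2 * h5
  exact mul_left_cancel₀ h4 h6

omit [Fintype F] in
theorem det_lin (A : Matrix (Fin 2) (Fin 2) F) (u v : F) :
    (u • (1 : Matrix (Fin 2) (Fin 2) F) + v • A).det
      = u ^ 2 + A.trace * u * v + A.det * v ^ 2 := by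
  obtain ⟨a, b, c, d, rfl⟩ : ∃ a b c d : F, A = !![a, b; c, d] :=
    ⟨_, _, _, _, Matrix.eta_fin_two _⟩
  rw [Matrix.det_fin_two, Matrix.det_fin_two_of, Matrix.trace_fin_two_of]
  simp
  ring

omit [Fintype F] in
theorem ns_of_trace (A : SpecialLinearGroup (Fin 2) F)
    (hs : (A : Matrix (Fin 2) (Fin 2) F).trace ^ 2 ≠ 4) :
    Cfsg.Agent.Lib_helper8_GL2.NonScalar (A : Matrix (Fin 2) (Fin 2) F) := by
  by_contra hns
  rw [Cfsg.Agent.Lib_helper8_GL2.nonScalar_iff, not_not] at hns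
  obtain ⟨c, hc⟩ := hns
  apply hs
  have hdet := A.2
  rw [hc] at hdet ⊢
  rw [Matrix.det_smul, Matrix.det_one, Fintype.card_fin, mul_one] at hdet
  rw [Matrix.trace_smul, Matrix.trace_one, Fintype.card_fin]
  simp only [smul_eq_mul]
  push_cast
  linear_combination 4 * hdet

theorem sl_conj (h2 : (2 : F) ≠ 0) (A B : SpecialLinearGroup (Fin 2) F)
    (ht : (A : Matrix (Fin 2) (Fin 2) F).trace = (B : Matrix (Fin 2) (Fin 2) F).trace)
    (hs : (A : Matrix (Fin 2) (Fin 2) F).trace ^ 2 ≠ 4) :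
    ∃ R : SpecialLinearGroup (Fin 2) F, R * A * R⁻¹ = B := by
  have hA := ns_of_trace A hs
  have hB := ns_of_trace B (ht ▸ hs)
  obtain ⟨R₀, hR₀, hRA⟩ := Cfsg.Agent.Lib_helper8_GL2.exists_semiconj _ _ hA hB ht
    (A.2.trans B.2.symm)
  obtain ⟨u, v, huv⟩ := quad_rep h2 _ hs (R₀.det)⁻¹
  have hdet : (R₀ * (u • (1 : Matrix (Fin 2) (Fin 2) F)
      + v • (A : Matrix (Fin 2) (Fin 2) F))).det = 1 := by
    rw [Matrix.det_mul, det_lin, A.2, one_mul, huv, mul_inv_cancel₀ hR₀]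
  let R : SpecialLinearGroup (Fin 2) F := ⟨_, hdet⟩
  refine ⟨R, ?_⟩
  rw [mul_inv_eq_iff_eq_mul]
  apply Subtype.ext
  show (R₀ * (u • (1 : Matrix (Fin 2) (Fin 2) F) + v • (A : Matrix (Fin 2) (Fin 2) F)))
      * (A : Matrix (Fin 2) (Fin 2) F)
    = (B : Matrix (Fin 2) (Fin 2) F)
      * (R₀ * (u • (1 : Matrix (Fin 2) (Fin 2) F) + v • (A : Matrix (Fin 2) (Fin 2) F)))
  rw [← Matrix.mul_assoc, ← hRA, Matrix.mul_assoc, Matrix.mul_assoc]
  congr 1
  simp [Matrix.add_mul, Matrix.mul_add]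

theorem conic_sol (h2 : (2 : F) ≠ 0) (t τ : F) (ht0 : t ≠ 0) (hτ : τ ≠ 2) :
    ∃ a c : F, a ^ 2 + τ * a * c + c ^ 2 - t * (a + c) + 1 = 0 := by
  by_cases hτ2 : τ = -2
  · refine ⟨1 / (2 * t), 1 / (2 * t), ?_⟩
    rw [hτ2]
    field_simp
    ring
  · have hτ4 : τ ^ 2 ≠ 4 := by
      intro h
      have : (τ - 2) * (τ + 2) = 0 := by linear_combination h
      rcases mul_eq_zero.mp this with h | h
      · exact hτ (by linear_combination h)
      · exact hτ2 (by linear_combination h)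
    have hτ' : 2 + τ ≠ 0 := fun h => hτ2 (by linear_combination h)
    set m := t / (2 + τ) with hm
    have hm' : m * (2 + τ) = t := by rw [hm]; field_simp
    obtain ⟨u, v, huv⟩ := quad_rep h2 τ hτ4 (t * m - 1)
    refine ⟨m + u, m + v, ?_⟩
    linear_combination huv + (m + u + v) * hm'

theorem key (h2 : (2 : F) ≠ 0) (t : F) (ht0 : t ≠ 0) (G : SpecialLinearGroup (Fin 2) F)
    (hns : Cfsg.Agent.Lib_helper8_GL2.NonScalar (G : Matrix (Fin 2) (Fin 2) F))
    (hτ : (G : Matrix (Fin 2) (Fin 2) F).trace ≠ 2) :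
    ∃ A B : SpecialLinearGroup (Fin 2) F, (A : Matrix (Fin 2) (Fin 2) F).trace = t ∧
      (B : Matrix (Fin 2) (Fin 2) F).trace = t ∧ G = A * B := by
  obtain ⟨h, hh⟩ := Cfsg.Agent.S2450.conj_entry G hns
  have htr := Cfsg.Agent.S2450.trace_conj h G
  obtain ⟨G₁, hG₁⟩ : ∃ G₁ : SpecialLinearGroup (Fin 2) F, G₁ = h * G * h⁻¹ := ⟨_, rfl⟩
  rw [← hG₁] at hh htr
  obtain ⟨g₁, g₂, l, g₄, hG⟩ : ∃ a b c d : F,
      (G₁ : Matrix (Fin 2) (Fin 2) F) = !![a, b; c, d] := ⟨_, _, _, _, Matrix.eta_fin_two _⟩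
  have hl : l ≠ 0 := by rw [hG] at hh; exact hh
  have hdet : g₁ * g₄ - g₂ * l = 1 := by
    have := G₁.2
    rw [hG, Matrix.det_fin_two_of] at this
    exact this
  have htr' : g₁ + g₄ = (G : Matrix (Fin 2) (Fin 2) F).trace := by
    rw [← htr, hG, Matrix.trace_fin_two_of]
  obtain ⟨a', c', hstar⟩ := conic_sol h2 t (g₁ + g₄) ht0 (by rw [htr']; exact hτ)
  obtain ⟨b, hb'⟩ : ∃ b : F, b * l = (t - (a' + g₁ * c')) * g₁ + (a' + g₁ * c') * g₄
      - (l * c') * g₂ - t :=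
    ⟨((t - (a' + g₁ * c')) * g₁ + (a' + g₁ * c') * g₄ - (l * c') * g₂ - t) / l, by field_simp⟩
  have hdetA : (!![a' + g₁ * c', b; l * c', t - (a' + g₁ * c')]
      : Matrix (Fin 2) (Fin 2) F).det = 1 := by
    rw [Matrix.det_fin_two_of]
    linear_combination (-c') * hb' - hstar - c' ^ 2 * hdet
  let A : SpecialLinearGroup (Fin 2) F := ⟨_, hdetA⟩
  have hAtr : (A : Matrix (Fin 2) (Fin 2) F).trace = t := by
    show (!![a' + g₁ * c', b; l * c', t - (a' + g₁ * c')]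
      : Matrix (Fin 2) (Fin 2) F).trace = t
    rw [Matrix.trace_fin_two_of]; ring
  have hBtr : ((A⁻¹ * G₁ : SpecialLinearGroup (Fin 2) F) : Matrix (Fin 2) (Fin 2) F).trace
      = t := by
    show (Matrix.adjugate (!![a' + g₁ * c', b; l * c', t - (a' + g₁ * c')]
      : Matrix (Fin 2) (Fin 2) F) * (G₁ : Matrix (Fin 2) (Fin 2) F)).trace = t
    rw [hG, Matrix.adjugate_fin_two_of, Matrix.mul_fin_two, Matrix.trace_fin_two_of]
    linear_combination (-1 : F) * hb'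
  refine ⟨h⁻¹ * A * h⁻¹⁻¹, h⁻¹ * (A⁻¹ * G₁) * h⁻¹⁻¹, ?_, ?_, ?_⟩
  · rw [Cfsg.Agent.S2450.trace_conj, hAtr]
  · rw [Cfsg.Agent.S2450.trace_conj, hBtr]
  · rw [hG₁]; group

theorem main (p : ℕ) [Fact p.Prime] [CharP F p] (hp : p ≠ 2)
    (x : Matrix.ProjectiveSpecialLinearGroup (Fin 2) F) (hx2 : 2 < orderOf x)
    (hxp : ¬ p ∣ orderOf x) :
    ∀ g : Matrix.ProjectiveSpecialLinearGroup (Fin 2) F, g ≠ 1 →
      ∃ u v : Matrix.ProjectiveSpecialLinearGroup (Fin 2) F,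
        g = (u * x * u⁻¹) * (v * x * v⁻¹) := by
  have hp' : p.Prime := Fact.out
  have h2 : (2 : F) ≠ 0 := by
    apply Ring.two_ne_zero
    rw [ringChar.eq F p]; exact hp
  obtain ⟨X, rfl⟩ := QuotientGroup.mk_surjective x
  obtain ⟨t, ht⟩ : ∃ t : F, t = (X : Matrix (Fin 2) (Fin 2) F).trace := ⟨_, rfl⟩
  have ht0 : t ≠ 0 := by
    intro h0
    have hc := Cfsg.Agent.Lib_helper4_SL2.cayley _ X.2
    rw [← ht, h0, zero_smul, zero_sub] at hc
    have hX2 : X * X = zeta := Subtype.ext hc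
    have h5 : (QuotientGroup.mk X : ProjectiveSpecialLinearGroup (Fin 2) F) ^ 2 = 1 := by
      rw [← QuotientGroup.mk_pow, sq, hX2, QuotientGroup.eq_one_iff]
      exact zeta_mem
    have := Nat.le_of_dvd (by norm_num) (orderOf_dvd_of_pow_eq_one h5)
    omega
  have ht4 : t ^ 2 ≠ 4 := by
    intro h4
    have h5 : (t - 2) * (t + 2) = 0 := by linear_combination h4
    have hroot : ∃ ρ : F, ρ ^ 2 - t * ρ + 1 = 0 ∧ ρ ^ 2 = 1 := by
      rcases mul_eq_zero.mp h5 with h | h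
      · refine ⟨1, ?_, by ring⟩
        linear_combination -h
      · refine ⟨-1, ?_, by ring⟩
        linear_combination h
    obtain ⟨ρ, hρ, hρ1⟩ := hroot
    rw [ht] at hρ
    have h6 := orderOf_dvd_of_pow_eq_one (Cfsg.Agent.S2475.unip_pow p X ρ hρ hρ1)
    rcases (Nat.dvd_prime hp').mp h6 with h | h
    · rw [h] at hx2; omega
    · exact hxp (by rw [h])
  intro g hg
  obtain ⟨G, rfl⟩ := QuotientGroup.mk_surjective g
  have hGns := Cfsg.Agent.S2450.ns_of_ne_one G hg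
  have hzm : (QuotientGroup.mk (zeta * G) : ProjectiveSpecialLinearGroup (Fin 2) F)
      = QuotientGroup.mk G := by
    rw [QuotientGroup.mk_mul, (QuotientGroup.eq_one_iff zeta).mpr zeta_mem, one_mul]
  obtain ⟨G', hG'mk, hG'ns, hG'tr⟩ : ∃ G' : SpecialLinearGroup (Fin 2) F,
      (QuotientGroup.mk G' : ProjectiveSpecialLinearGroup (Fin 2) F) = QuotientGroup.mk G ∧
      Cfsg.Agent.Lib_helper8_GL2.NonScalar (G' : Matrix (Fin 2) (Fin 2) F) ∧
      (G' : Matrix (Fin 2) (Fin 2) F).trace ≠ 2 := by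
    by_cases hτ : (G : Matrix (Fin 2) (Fin 2) F).trace = 2
    · refine ⟨zeta * G, hzm, ?_, ?_⟩
      · apply Cfsg.Agent.S2450.ns_of_ne_one
        rw [hzm]
        exact hg
      · show ((-1 : Matrix (Fin 2) (Fin 2) F) * (G : Matrix (Fin 2) (Fin 2) F)).trace ≠ 2
        rw [neg_one_mul, Matrix.trace_neg, hτ]
        intro h
        apply h2
        have h22 : (2 : F) * 2 = 0 := by linear_combination -h
        exact (mul_self_eq_zero.mp h22)
    · exact ⟨G, rfl, hGns, hτ⟩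
  obtain ⟨A, B, hA, hB, hAB⟩ := key h2 t ht0 G' hG'ns hG'tr
  obtain ⟨S₁, hS₁⟩ := sl_conj h2 X A (ht.symm.trans hA.symm) (ht ▸ ht4)
  obtain ⟨S₂, hS₂⟩ := sl_conj h2 X B (ht.symm.trans hB.symm) (ht ▸ ht4)
  refine ⟨QuotientGroup.mk S₁, QuotientGroup.mk S₂, ?_⟩
  rw [← hG'mk, hAB, ← hS₁, ← hS₂]
  simp only [QuotientGroup.mk_mul, QuotientGroup.mk_inv]

end Aux

/-- A strong covering result in the direction of Thompson's conjecture (non-identity elements) for PSL(2,q), q odd: let F be a finite field of odd characteristic p with at least 5 elements and let x ∈ PSL(2,F) have order greater than 2 and not divisible by p (so x is not unipotent). Then every non-identity element of PSL(2,F) is a product of two conjugates of x. -/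
theorem result {F : Type*} [Field F] [Fintype F] (p : ℕ) [Fact p.Prime] [CharP F p] (hp : p ≠ 2) (h5 : 5 ≤ Fintype.card F)
    (x : Matrix.ProjectiveSpecialLinearGroup (Fin 2) F) (hx2 : 2 < orderOf x) (hxp : ¬ p ∣ orderOf x) : ∀ g : Matrix.ProjectiveSpecialLinearGroup (Fin 2) F, g ≠ 1 → ∃ u v : Matrix.ProjectiveSpecialLinearGroup (Fin 2) F, g = (u * x * u⁻¹) * (v * x * v⁻¹) := by
  exact main p hp x hx2 hxp

end Cfsg.Agent.S2455
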