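import Mathlib
import Cfsg.Agent.Lib_helper8_SL2Odd
import Cfsg.Agent.Lib_helper8_SL2Conj
import Cfsg.Agent.S2455

set_option autoImplicit false

/-! Values of the irreducible characters of `SL_2` (odd characteristic) at the elements of
trace `±2`, through counting. -/

namespace Cfsg.Agent.Lib_helper8_SL2Vals

open Cfsg Cfsg.Agent.Lib_helper3_CharBasic Cfsg.Agent.Lib_helper3_CharInd
open Cfsg.Agent.Lib_helper3_CharMore
open Cfsg.Agent.Lib_helper8_IndB Cfsg.Agent.Lib_helper8_IndBGL Cfsg.Agent.Lib_helper8_GL2Irr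
open Cfsg.Agent.Lib_helper8_SL2Res Cfsg.Agent.Lib_helper8_SL2Cliff
open Cfsg.Agent.Lib_helper8_SL2Norm Cfsg.Agent.Lib_helper8_SL2Types
open Cfsg.Agent.Lib_helper8_SL2Odd Cfsg.Agent.Lib_helper8_SL2Conj
open Cfsg.Agent.Lib_helper4_SL2Quat
open scoped ComplexConjugate
open Matrix

universe u

variable {F : Type u} [Field F]

local notation "G2" => Matrix.GeneralLinearGroup (Fin 2) F
local notation "S2" => Matrix.SpecialLinearGroup (Fin 2) F
local notation "M2" => Matrix (Fin 2) (Fin 2) F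
local notation "BG" => (Cfsg.upperTriangularGL 2 F)

section Count

variable [Fintype F] [DecidableEq F] [Fintype (Matrix.SpecialLinearGroup (Fin 2) F)]

theorem card_triples :
    (Finset.univ.filter (fun p : F × F × F => p.1 ^ 2 + p.2.1 * p.2.2 = 0)).card =
      Fintype.card F ^ 2 := by
  rw [Finset.card_filter, Fintype.sum_prod_type]
  have h1 : ∀ a : F, (∑ y : F × F, if a ^ 2 + y.1 * y.2 = 0 then 1 else 0) =
      (if a = 0 then Fintype.card F else 0) + (Fintype.card F - 1) := by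
    intro a
    rw [Fintype.sum_prod_type]
    have h2 : ∀ b : F, (∑ c : F, if a ^ 2 + b * c = 0 then 1 else 0) =
        if b = 0 then (if a = 0 then Fintype.card F else 0) else 1 := by
      intro b
      by_cases hb : b = 0
      · rw [if_pos hb, hb]
        by_cases ha : a = 0
        · rw [if_pos ha, ha]
          simp
        · rw [if_neg ha]
          apply Finset.sum_eq_zero
          intro c _
          rw [if_neg]
          rw [zero_mul, add_zero]
          exact pow_ne_zero 2 ha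
      · rw [if_neg hb, Finset.sum_eq_single (-(a ^ 2) / b)]
        · rw [if_pos]
          field_simp
          ring
        · intro c _ hc
          rw [if_neg]
          intro h
          apply hc
          field_simp
          linear_combination h
        · intro h
          exact absurd (Finset.mem_univ _) h
    rw [Finset.sum_congr rfl (fun b _ => h2 b), ← Finset.add_sum_erase Finset.univ _ (Finset.mem_univ (0 : F)),
      if_pos rfl]
    congr 1
    rw [Finset.sum_congr rfl (fun b hb => if_neg (Finset.ne_of_mem_erase hb) : ∀ b ∈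
      (Finset.univ : Finset F).erase 0, (if b = 0 then (if a = 0 then Fintype.card F else 0)
        else 1) = 1), Finset.sum_const, Finset.card_erase_of_mem (Finset.mem_univ _),
      Finset.card_univ, smul_eq_mul, mul_one]
  rw [Finset.sum_congr rfl (fun a _ => h1 a), Finset.sum_add_distrib, Finset.sum_ite_eq',
    if_pos (Finset.mem_univ _), Finset.sum_const, Finset.card_univ, smul_eq_mul]
  obtain ⟨k, hk⟩ : ∃ k : ℕ, Fintype.card F = k + 1 := ⟨Fintype.card F - 1, by
    have := Fintype.card_pos (α := F); omega⟩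
  rw [hk]
  simp only [Nat.add_sub_cancel]
  ring

theorem card_trace (e : Fˣ) (he : e⁻¹ = e) :
    (Finset.univ.filter (fun g : S2 => (g : M2).trace = 2 * (e : F))).card =
      Fintype.card F ^ 2 := by
  have hee := unit_sq he
  rw [← card_triples]
  apply Finset.card_bij (fun (g : S2) _ => ((g : M2) 0 0 - (e : F), (g : M2) 0 1, (g : M2) 1 0))
  · intro g hg
    rw [Finset.mem_filter] at hg ⊢
    refine ⟨Finset.mem_univ _, ?_⟩
    have ht := hg.2
    rw [Matrix.trace_fin_two] at ht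
    have hdet := det_entries g
    show ((g : M2) 0 0 - (e : F)) ^ 2 + (g : M2) 0 1 * (g : M2) 1 0 = 0
    linear_combination (g : M2) 0 0 * ht - hdet + hee
  · intro g hg g' hg' h
    rw [Finset.mem_filter] at hg hg'
    have ht := hg.2
    have ht' := hg'.2
    rw [Matrix.trace_fin_two] at ht ht'
    have h00 : (g : M2) 0 0 = (g' : M2) 0 0 := by
      have := congrArg Prod.fst h
      simpa using this
    have h01 : (g : M2) 0 1 = (g' : M2) 0 1 := congrArg (fun p : F × F × F => p.2.1) h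
    have h10 : (g : M2) 1 0 = (g' : M2) 1 0 := congrArg (fun p : F × F × F => p.2.2) h
    exact ext2 g g' h00 h01 h10 (by linear_combination ht - ht' - h00)
  · rintro ⟨a, b, c⟩ hp
    rw [Finset.mem_filter] at hp
    have hp2 : a ^ 2 + b * c = 0 := hp.2
    obtain ⟨g, hg⟩ : ∃ g : S2, (g : M2) = !![(e : F) + a, b; c, (e : F) - a] :=
      ⟨⟨_, by rw [Matrix.det_fin_two_of]; linear_combination hee - hp2⟩, rfl⟩
    refine ⟨g, ?_, ?_⟩
    · rw [Finset.mem_filter]
      refine ⟨Finset.mem_univ _, ?_⟩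
      rw [hg, Matrix.trace_fin_two_of]
      ring
    · rw [hg]
      simp

theorem eu_zero_trace (e : Fˣ) (he : e⁻¹ = e) (b : F) :
    ((eu e b : S2) : M2).trace = 2 * (e : F) := by
  rw [Matrix.trace_fin_two, (eu_entries e b).1, (eu_entries e b).2.2.2, he]
  ring

theorem sum_trace (e : Fˣ) (he : e⁻¹ = e) (f : S2 → ℝ) (d : ℝ)
    (hU : ∀ g : S2, (g : M2).trace = 2 * (e : F) → g ≠ eu e 0 → f g = d) :
    ∑ g ∈ Finset.univ.filter (fun g : S2 => (g : M2).trace = 2 * (e : F)), f g =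
      f (eu e 0) + ((Fintype.card F : ℝ) ^ 2 - 1) * d := by
  have hmem : eu e 0 ∈ Finset.univ.filter (fun g : S2 => (g : M2).trace = 2 * (e : F)) := by
    rw [Finset.mem_filter]
    exact ⟨Finset.mem_univ _, eu_zero_trace e he 0⟩
  rw [← Finset.add_sum_erase _ _ hmem]
  congr 1
  rw [Finset.sum_congr rfl (fun g hg => hU g (Finset.mem_filter.mp (Finset.mem_of_mem_erase hg)).2
    (Finset.ne_of_mem_erase hg) : ∀ g ∈ (Finset.univ.filter (fun g : S2 =>
      (g : M2).trace = 2 * (e : F))).erase (eu e 0), f g = d), Finset.sum_const,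
    Finset.card_erase_of_mem hmem, card_trace e he, nsmul_eq_mul]
  have hpos : 1 ≤ Fintype.card F ^ 2 := Nat.one_le_pow _ _ Fintype.card_pos
  rw [Nat.cast_sub hpos]
  push_cast
  ring

end Count

section Split

variable [Fintype F] [DecidableEq F] [Fintype (Matrix.SpecialLinearGroup (Fin 2) F)]

omit [Fintype F] [DecidableEq F] in
theorem neg_one_unit_inv : ((-1 : Fˣ))⁻¹ = -1 := by
  rw [inv_eq_iff_mul_eq_one]
  simp

omit [Fintype F] [DecidableEq F] in
/-- The unit `t / 2` for `t ^ 2 = 4`. -/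
theorem half_unit (h2 : (2 : F) ≠ 0) (t : F) (ht : t ^ 2 = 4) :
    ∃ e : Fˣ, e⁻¹ = e ∧ t = 2 * (e : F) := by
  have h0 : t / 2 ≠ 0 := by
    intro h
    have : t = 0 := by
      rcases div_eq_zero_iff.mp h with h | h
      · exact h
      · exact absurd h h2
    rw [this] at ht
    have h4 : (4 : F) = 2 * 2 := by norm_num
    rw [h4] at ht
    simp at ht
    exact h2 ht
  refine ⟨Units.mk0 (t / 2) h0, ?_, ?_⟩
  · rw [inv_eq_iff_mul_eq_one]
    apply Units.ext
    rw [Units.val_mul, Units.val_mk0, Units.val_one]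
    field_simp
    linear_combination ht
  · rw [Units.val_mk0]
    field_simp

omit [Fintype F] [DecidableEq F] in
theorem scalar_eq (h2 : (2 : F) ≠ 0) (e : Fˣ) (he : e⁻¹ = e) (g : S2)
    (ht : (g : M2).trace = 2 * (e : F))
    (hns : ¬ Cfsg.Agent.Lib_helper8_GL2.NonScalar (g : M2)) : g = eu e 0 := by
  unfold Cfsg.Agent.Lib_helper8_GL2.NonScalar at hns
  push Not at hns
  rw [Matrix.trace_fin_two, ← hns.2.2] at ht
  have h00 : (g : M2) 0 0 = e := by
    have h5 : 2 * ((g : M2) 0 0 - (e : F)) = 0 := by linear_combination ht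
    rcases mul_eq_zero.mp h5 with h6 | h6
    · exact absurd h6 h2
    · exact sub_eq_zero.mp h6
  obtain ⟨e00, e01, e10, e11⟩ := eu_entries e (0 : F)
  apply ext2
  · rw [e00, h00]
  · rw [e01, hns.2.1]
  · rw [e10, hns.1]
  · rw [e11, he, ← hns.2.2, h00]

theorem sum_split (h2 : (2 : F) ≠ 0) (f : S2 → ℝ) (d : ℝ)
    (hU : ∀ g : S2, (g : M2).trace ^ 2 = 4 → Cfsg.Agent.Lib_helper8_GL2.NonScalar (g : M2) →
      f g = d) :
    ∑ g : S2, f g = f (eu 1 0) + f (eu (-1) 0) + 2 * ((Fintype.card F : ℝ) ^ 2 - 1) * d +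
      ∑ g ∈ Finset.univ.filter (fun g : S2 => ¬ (g : M2).trace ^ 2 = 4), f g := by
  rw [← Finset.sum_filter_add_sum_filter_not Finset.univ (fun g : S2 => (g : M2).trace ^ 2 = 4) f]
  congr 1
  have hsplit : Finset.univ.filter (fun g : S2 => (g : M2).trace ^ 2 = 4) =
      Finset.univ.filter (fun g : S2 => (g : M2).trace = 2 * ((1 : Fˣ) : F)) ∪
      Finset.univ.filter (fun g : S2 => (g : M2).trace = 2 * ((-1 : Fˣ) : F)) := by
    ext g
    simp only [Finset.mem_filter, Finset.mem_union, Finset.mem_univ, true_and]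
    rw [Units.val_neg, Units.val_one]
    constructor
    · intro h
      have h5 : ((g : M2).trace - 2) * ((g : M2).trace + 2) = 0 := by linear_combination h
      rcases mul_eq_zero.mp h5 with h6 | h6
      · left
        linear_combination h6
      · right
        linear_combination h6
    · rintro (h | h)
      · rw [h]
        ring
      · rw [h]
        ring
  have hdisj : Disjoint (Finset.univ.filter (fun g : S2 => (g : M2).trace = 2 * ((1 : Fˣ) : F)))
      (Finset.univ.filter (fun g : S2 => (g : M2).trace = 2 * ((-1 : Fˣ) : F))) := by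
    rw [Finset.disjoint_filter]
    intro g _ h1 h2'
    rw [h1, Units.val_neg, Units.val_one] at h2'
    have h6 : (2 : F) * 2 = 0 := by linear_combination h2'
    rcases mul_eq_zero.mp h6 with h7 | h7 <;> exact h2 h7
  have hconv : ∀ e : Fˣ, e⁻¹ = e → ∀ g : S2, (g : M2).trace = 2 * (e : F) → g ≠ eu e 0 →
      f g = d := by
    intro e he g ht hne
    apply hU g
    · rw [ht]
      have hee := unit_sq he
      linear_combination 4 * hee
    · by_contra hns
      exact hne (scalar_eq h2 e he g ht hns)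
  rw [hsplit, Finset.sum_union hdisj, sum_trace 1 inv_one f d (hconv 1 inv_one),
    sum_trace (-1) neg_one_unit_inv f d (hconv (-1) neg_one_unit_inv)]
  ring

omit [Fintype F] [DecidableEq F] in
theorem eu_center (e : Fˣ) (he : e⁻¹ = e) : eu e (0 : F) ∈ Subgroup.center S2 := by
  rw [Subgroup.mem_center_iff]
  intro g
  obtain ⟨e00, e01, e10, e11⟩ := eu_entries e (0 : F)
  apply ext2 <;> simp only [mul_entries, e00, e01, e10, e11, he] <;> ring

omit [Fintype F] [DecidableEq F] in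
theorem uS_entries (t : F) : ((uS t : S2) : M2) 0 0 = 1 ∧ ((uS t : S2) : M2) 0 1 = t ∧
    ((uS t : S2) : M2) 1 0 = 0 ∧ ((uS t : S2) : M2) 1 1 = 1 := ⟨rfl, rfl, rfl, rfl⟩

omit [Fintype F] [DecidableEq F] in
theorem eu_mul (e : Fˣ) (he : e⁻¹ = e) (b : F) : eu e b = eu e 0 * uS ((e : F) * b) := by
  have hee := unit_sq he
  obtain ⟨e00, e01, e10, e11⟩ := eu_entries e (0 : F)
  obtain ⟨f00, f01, f10, f11⟩ := eu_entries e b
  obtain ⟨u00, u01, u10, u11⟩ := uS_entries ((e : F) * b)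
  apply ext2
  · rw [mul_entries, e00, e01, u00, u10, f00]
    ring
  · rw [mul_entries, e00, e01, u01, u11, f01]
    linear_combination (-b) * hee
  · rw [mul_entries, e10, e11, u00, u10, f10]
    ring
  · rw [mul_entries, e10, e11, u01, u11, f11]
    ring

omit [Fintype F] [DecidableEq F] in
theorem uS_eq_eu (t : F) : uS t = eu 1 t := by
  obtain ⟨f00, f01, f10, f11⟩ := eu_entries (1 : Fˣ) t
  obtain ⟨u00, u01, u10, u11⟩ := uS_entries t
  apply ext2
  · rw [u00, f00]
    simp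
  · rw [u01, f01]
  · rw [u10, f10]
  · rw [u11, f11]
    simp

omit [Fintype F] [DecidableEq F] in
theorem uS_inv : (uS (1 : F))⁻¹ = uS (-1) := by
  apply inv_eq_of_mul_eq_one_right
  obtain ⟨u00, u01, u10, u11⟩ := uS_entries (1 : F)
  obtain ⟨v00, v01, v10, v11⟩ := uS_entries (-1 : F)
  apply ext2 <;> simp only [mul_entries, u00, u01, u10, u11, v00, v01, v10, v11] <;> simp

omit [Fintype F] [DecidableEq F] in
theorem eu_toGL (e : Fˣ) (he : e⁻¹ = e) : Matrix.SpecialLinearGroup.toGL (eu e (0 : F)) = zG e := by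
  apply Units.ext
  show ((eu e (0 : F) : S2) : M2) = ((zG e : G2) : M2)
  rw [eu_val, zG_val, he]

omit [Fintype F] [DecidableEq F] in
theorem conj_exists (y : G2) (g : S2) :
    ∃ h : S2, Matrix.SpecialLinearGroup.toGL h = y * Matrix.SpecialLinearGroup.toGL g * y⁻¹ := by
  have hn : y * Matrix.SpecialLinearGroup.toGL g * y⁻¹ ∈ Ndet F := by
    show _ ∈ (Matrix.GeneralLinearGroup.det : G2 →* Fˣ).ker
    rw [MonoidHom.mem_ker, map_mul, map_mul, map_inv, toGL_det, mul_one, mul_inv_cancel]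
  exact ⟨(eSN (F := F)).symm ⟨_, hn⟩,
    congrArg Subtype.val ((eSN (F := F)).apply_symm_apply ⟨_, hn⟩)⟩

/-- Conjugate characters agree at the elements of trace different from `±2`. -/
theorem conjRel_ss (h2 : (2 : F) ≠ 0) {χ χ' : S2 → ℂ} {y : G2} (hχ : IsClassFunction S2 χ)
    (hy : ConjRel χ χ' y) (g : S2) (hs : (g : M2).trace ^ 2 ≠ 4) : χ' g = χ g := by
  obtain ⟨h, hh⟩ := conj_exists y g
  rw [hy g h hh]
  have ht : (g : M2).trace = (h : M2).trace := by
    have h5 : (h : M2) = (y : M2) * (g : M2) * ((y⁻¹ : G2) : M2) := by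
      have h6 := congrArg (fun x : G2 => (x : M2)) hh
      exact h6
    rw [h5, Matrix.trace_mul_comm, ← Matrix.mul_assoc, ← Units.val_mul, inv_mul_cancel,
      Units.val_one, Matrix.one_mul]
  obtain ⟨R, hR⟩ := Cfsg.Agent.S2455.sl_conj h2 g h ht hs
  rw [← hR, hχ]

omit [Fintype F] [DecidableEq F] in
theorem conjRel_unip {χ χ' : S2 → ℂ} {y : G2} (hχ : IsClassFunction S2 χ)
    (hy : ConjRel χ χ' y) : ∃ δ : Fˣ, ∀ t : F, χ' (uS t) = χ (uS (t * (δ : F))) := by
  obtain ⟨δ, hδ⟩ : ∃ δ : Fˣ, δ = Matrix.GeneralLinearGroup.det y := ⟨_, rfl⟩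
  have hdet_d : Matrix.GeneralLinearGroup.det (((eBG (δ, 1, 0) : BG) : G2)) = δ := by
    apply Units.ext
    rw [Matrix.GeneralLinearGroup.val_det_apply, eBG_val, Matrix.det_fin_two_of]
    simp
  have hn : y * (((eBG (δ, 1, 0) : BG) : G2))⁻¹ ∈ Ndet F := by
    show y * (((eBG (δ, 1, 0) : BG) : G2))⁻¹ ∈ (Matrix.GeneralLinearGroup.det : G2 →* Fˣ).ker
    rw [MonoidHom.mem_ker, map_mul, map_inv, hdet_d, hδ, mul_inv_cancel]
  obtain ⟨nS, hnS⟩ : ∃ nS : S2, Matrix.SpecialLinearGroup.toGL nS =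
      y * (((eBG (δ, 1, 0) : BG) : G2))⁻¹ :=
    ⟨(eSN (F := F)).symm ⟨_, hn⟩,
      congrArg Subtype.val ((eSN (F := F)).apply_symm_apply ⟨_, hn⟩)⟩
  refine ⟨δ, ?_⟩
  intro t
  have h1 : Matrix.SpecialLinearGroup.toGL (nS * uS (t * (δ : F)) * nS⁻¹) =
      y * Matrix.SpecialLinearGroup.toGL (uS t) * y⁻¹ := by
    rw [map_mul, map_mul, map_inv, hnS, ← uS_conj_diag δ t]
    group
  rw [hy (uS t) _ h1, hχ]

omit [Fintype F] [DecidableEq F] in
/-- Elements without eigenvectors have trace different from `±2`. -/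
theorem ell_trace (h2 : (2 : F) ≠ 0) (g : S2)
    (hno : ∀ (c : F) (v : Fin 2 → F), v ≠ 0 → (g : M2).mulVec v ≠ c • v) :
    (g : M2).trace ^ 2 ≠ 4 := by
  obtain ⟨h10, hroot⟩ := ell_cond (Matrix.SpecialLinearGroup.toGL g) hno
  have hg : ((Matrix.SpecialLinearGroup.toGL g : G2) : M2) = (g : M2) := rfl
  rw [hg] at h10 hroot
  intro h4
  rw [Matrix.trace_fin_two] at h4
  have hdet := det_entries g
  apply hroot (((g : M2) 0 0 - (g : M2) 1 1) / (2 * (g : M2) 1 0))
  field_simp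
  linear_combination (-1 : F) * h4 + 4 * hdet

end Split

section Main

variable [Fintype F] [DecidableEq F] [Fintype (Matrix.GeneralLinearGroup (Fin 2) F)]
  [Fintype (Matrix.SpecialLinearGroup (Fin 2) F)]

omit [Fintype F] [DecidableEq F] [Fintype (Matrix.GeneralLinearGroup (Fin 2) F)] in
theorem norm_sum {f : S2 → ℂ} {k : ℝ} (h : classInner f f = (k : ℂ)) :
    ∑ g : S2, ‖f g‖ ^ 2 = k * (Nat.card S2 : ℝ) := by
  rw [classInner_def] at h
  have hne : (Nat.card S2 : ℂ) ≠ 0 := card_ne_zero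
  have h2 : ∑ g : S2, f g * conj (f g) = (k : ℂ) * (Nat.card S2 : ℂ) := by
    field_simp at h
    rw [h]
    ring
  have h3 : ((∑ g : S2, ‖f g‖ ^ 2 : ℝ) : ℂ) = ((k * (Nat.card S2 : ℝ) : ℝ) : ℂ) := by
    push_cast
    rw [← h2]
    apply Finset.sum_congr rfl
    intro g _
    rw [Complex.mul_conj']
  exact_mod_cast h3

omit [DecidableEq F] [Fintype (Matrix.GeneralLinearGroup (Fin 2) F)] in
theorem card_S_real : (Nat.card S2 : ℝ) =
    (Fintype.card F : ℝ) * ((Fintype.card F : ℝ) - 1) * ((Fintype.card F : ℝ) + 1) := by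
  have h := card_S (F := F)
  have h3 : ((Nat.card S2 : ℝ) : ℂ) = (((Fintype.card F : ℝ) * ((Fintype.card F : ℝ) - 1) *
      ((Fintype.card F : ℝ) + 1) : ℝ) : ℂ) := by
    push_cast
    exact h
  exact_mod_cast h3

/-- The values at the unipotent element of two `GL_2`-conjugate distinct irreducible characters
of `SL_2`. -/
theorem half_diff (hodd : Odd (Fintype.card F)) {χ χ' : S2 → ℂ} {y : G2}
    (hχ : IsIrrCharacter S2 χ) (hχ' : IsIrrCharacter S2 χ') (hne : χ' ≠ χ)
    (hy : ConjRel χ χ' y) :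
    (χ (uS 1) - χ' (uS 1)) ^ 2 =
      (-1 : ℂ) ^ ((Fintype.card F - 1) / 2) * (Fintype.card F : ℂ) := by
  classical
  have h2 := two_ne_of_odd hodd
  have hcf := isClassFunction_of_irr hχ
  have hcf' := isClassFunction_of_irr hχ'
  obtain ⟨δ, hδ⟩ := conjRel_unip hcf hy
  have hsq1 : ∀ ψ : S2 → ℂ, IsClassFunction S2 ψ → ∀ t t' : F, t ≠ 0 → t' ≠ 0 →
      IsSquare (t * t') → ψ (uS t) = ψ (uS t') := by
    intro ψ hψ t t' ht ht' hs
    have hc := eu_conj_of_sq (1 : Fˣ) t t' ht ht' hs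
    rw [← uS_eq_eu, ← uS_eq_eu] at hc
    obtain ⟨c, hc⟩ := isConj_iff.mp hc
    rw [← hc, hψ]
  have hδ0 : (δ : F) ≠ 0 := δ.ne_zero
  have hx' : χ' (uS 1) = χ (uS (δ : F)) := by rw [hδ 1, one_mul]
  have hnorm_u : ∀ t : F, t ≠ 0 → ‖χ (uS t) - χ' (uS t)‖ = ‖χ (uS 1) - χ' (uS 1)‖ := by
    intro t ht
    rw [hδ t, hx']
    by_cases hds : IsSquare (δ : F)
    · have e1 : χ (uS t) = χ (uS (t * (δ : F))) := by
        apply hsq1 χ hcf t (t * δ) ht (mul_ne_zero ht hδ0)
        obtain ⟨r, hr⟩ := hds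
        exact ⟨t * r, by rw [hr]; ring⟩
      have e2 : χ (uS 1) = χ (uS (δ : F)) :=
        hsq1 χ hcf 1 δ one_ne_zero hδ0 (by rwa [one_mul])
      rw [e1, e2, sub_self, sub_self]
    · by_cases hts : IsSquare t
      · have e1 : χ (uS t) = χ (uS 1) := hsq1 χ hcf t 1 ht one_ne_zero (by rwa [mul_one])
        have e2 : χ (uS (t * (δ : F))) = χ (uS (δ : F)) := by
          apply hsq1 χ hcf (t * δ) δ (mul_ne_zero ht hδ0) hδ0
          obtain ⟨r, hr⟩ := hts
          exact ⟨r * δ, by rw [hr]; ring⟩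
        rw [e1, e2]
      · have hsq : IsSquare (t * (δ : F)) := isSquare_mul_of_not hts hds
        have e1 : χ (uS t) = χ (uS (δ : F)) := hsq1 χ hcf t δ ht hδ0 hsq
        have e2 : χ (uS (t * (δ : F))) = χ (uS 1) :=
          hsq1 χ hcf (t * δ) 1 (mul_ne_zero ht hδ0) one_ne_zero (by rwa [mul_one])
        rw [e1, e2, ← norm_neg, neg_sub]
  have hzeq : ∀ e : Fˣ, e⁻¹ = e → χ' (eu e 0) = χ (eu e 0) := by
    intro e he
    apply hy
    rw [eu_toGL e he]
    have h5 := zG_center (F := F) e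
    rw [Subgroup.mem_center_iff] at h5
    rw [h5 y]
    group
  have hcen : ∀ e : Fˣ, e⁻¹ = e → ∃ ω : ℂ, ‖ω‖ = 1 ∧ (∀ g, χ (eu e 0 * g) = ω * χ g) ∧
      (∀ g, χ' (eu e 0 * g) = ω * χ' g) := by
    intro e he
    obtain ⟨ω, hω, hω2⟩ := central_char hχ (eu_center e he)
    obtain ⟨ω', hω', hω2'⟩ := central_char hχ' (eu_center e he)
    have h1 := hω2 1
    have h1' := hω2' 1
    rw [mul_one] at h1 h1'
    have hχ1 : χ' 1 = χ 1 := conjRel_one hy
    have hωeq : ω' = ω := by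
      have hne1 := irr_apply_one_ne_zero hχ
      have h6 : ω' * χ 1 = ω * χ 1 := by rw [← h1, ← hχ1, ← h1', hzeq e he]
      exact mul_right_cancel₀ hne1 h6
    exact ⟨ω, hω, hω2, by rw [← hωeq]; exact hω2'⟩
  have hfr := sum_split h2 (fun g => ‖χ g - χ' g‖ ^ 2) (‖χ (uS 1) - χ' (uS 1)‖ ^ 2) (by
    intro g h4 hns
    obtain ⟨e, he, hte⟩ := half_unit h2 _ h4
    obtain ⟨R, b, hb, hR⟩ := unip_normal g hns e he hte
    have e1 : χ g = χ (eu e b) := by rw [← hR, hcf]
    have e2 : χ' g = χ' (eu e b) := by rw [← hR, hcf']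
    obtain ⟨ω, hω, hω1, hω2⟩ := hcen e he
    show ‖χ g - χ' g‖ ^ 2 = _
    rw [e1, e2, eu_mul e he b, hω1, hω2, ← mul_sub, norm_mul, hω, one_mul,
      hnorm_u _ (mul_ne_zero e.ne_zero hb)])
  have hrest : ∑ g ∈ Finset.univ.filter (fun g : S2 => ¬ (g : M2).trace ^ 2 = 4),
      ‖χ g - χ' g‖ ^ 2 = 0 := by
    apply Finset.sum_eq_zero
    intro g hg
    rw [conjRel_ss h2 hcf hy g (Finset.mem_filter.mp hg).2, sub_self, norm_zero]
    simp
  have htot : ∑ g : S2, ‖χ g - χ' g‖ ^ 2 = 2 * (Nat.card S2 : ℝ) := by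
    have h5 := norm_sum (f := χ - χ') (k := 2) (by
      rw [classInner_sub_left, classInner_sub_right, classInner_sub_right, irr_inner_self hχ,
        irr_inner_self hχ', irr_inner_ne hχ hχ' (Ne.symm hne), irr_inner_ne hχ' hχ hne]
      push_cast
      ring)
    exact h5
  rw [htot, hrest, card_S_real] at hfr
  simp only [hzeq 1 inv_one, hzeq (-1) neg_one_unit_inv, sub_self, norm_zero] at hfr
  have hq1 : (1 : ℝ) < (Fintype.card F : ℝ) := by exact_mod_cast Fintype.one_lt_card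
  have hD : ‖χ (uS 1) - χ' (uS 1)‖ ^ 2 = (Fintype.card F : ℝ) := by
    have hpos : (0 : ℝ) < 2 * ((Fintype.card F : ℝ) ^ 2 - 1) := by nlinarith
    have h7 : 2 * ((Fintype.card F : ℝ) ^ 2 - 1) * ‖χ (uS 1) - χ' (uS 1)‖ ^ 2 =
        2 * ((Fintype.card F : ℝ) ^ 2 - 1) * (Fintype.card F : ℝ) := by linarith
    exact mul_left_cancel₀ hpos.ne' h7
  obtain ⟨z, hz⟩ : ∃ z : ℂ, z = χ (uS 1) - χ' (uS 1) := ⟨_, rfl⟩
  rw [← hz] at hD ⊢
  have hzz : z * conj z = (Fintype.card F : ℂ) := by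
    rw [Complex.mul_conj']
    exact_mod_cast hD
  have hcx : conj (χ (uS 1)) = χ (uS (-1)) := by
    rw [← isCharacter_inv (isCharacter_of_irr hχ), uS_inv]
  have hcx' : conj (χ' (uS 1)) = χ' (uS (-1)) := by
    rw [← isCharacter_inv (isCharacter_of_irr hχ'), uS_inv]
  obtain ⟨m, hm⟩ := hodd
  by_cases hm1 : IsSquare (-1 : F)
  · have hq4 := FiniteField.isSquare_neg_one_iff.mp hm1
    have hev : Even ((Fintype.card F - 1) / 2) := by
      rw [Nat.even_iff]
      omega
    rw [hev.neg_one_pow, one_mul]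
    have h8 : conj z = z := by
      rw [hz, map_sub, hcx, hcx',
        hsq1 χ hcf (-1) 1 (by simp) one_ne_zero (by rwa [mul_one]),
        hsq1 χ' hcf' (-1) 1 (by simp) one_ne_zero (by rwa [mul_one])]
    rw [h8] at hzz
    rw [sq]
    exact hzz
  · have hq4 : Fintype.card F % 4 = 3 := by
      by_contra h
      exact hm1 (FiniteField.isSquare_neg_one_iff.mpr h)
    have hod : Odd ((Fintype.card F - 1) / 2) := by
      rw [Nat.odd_iff]
      omega
    rw [hod.neg_one_pow]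
    by_cases hds : IsSquare (δ : F)
    · exfalso
      have e2 : χ (uS 1) = χ (uS (δ : F)) :=
        hsq1 χ hcf 1 δ one_ne_zero hδ0 (by rwa [one_mul])
      rw [hx', ← e2, sub_self] at hz
      rw [hz] at hD
      simp at hD
      have : (0 : ℝ) < (Fintype.card F : ℝ) := by linarith
      linarith
    · have hsq : IsSquare ((δ : F) * (-1)) := isSquare_mul_of_not hds hm1
      have e3 : χ' (uS 1) = conj (χ (uS 1)) := by
        rw [hx', hcx]
        exact hsq1 χ hcf δ (-1) hδ0 (by simp) hsq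
      have h8 : conj z = -z := by
        rw [hz, map_sub, e3, Complex.conj_conj]
        ring
      rw [h8] at hzz
      linear_combination -hzz

/-- A cuspidal character of `GL_2` restricting irreducibly to `SL_2`: the sum of the squared
norms over the elements of trace different from `±2`. -/
theorem cusp_rest (hodd : Odd (Fintype.card F)) {θ : G2 → ℂ} (hθ : IsCusp θ)
    (hirr : IsIrrCharacter S2 (fun s : S2 => θ (Matrix.SpecialLinearGroup.toGL s))) :
    ∑ g ∈ Finset.univ.filter (fun g : S2 => ¬ (g : M2).trace ^ 2 = 4),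
      ‖θ (Matrix.SpecialLinearGroup.toGL g)‖ ^ 2 =
      (Fintype.card F : ℝ) * ((Fintype.card F : ℝ) - 1) * ((Fintype.card F : ℝ) - 3) := by
  classical
  have h2 := two_ne_of_odd hodd
  obtain ⟨hθi, -, hθ1, hθu⟩ := hθ
  have hcfG := isClassFunction_of_irr hθi
  have hcf := isClassFunction_of_irr hirr
  have hcen : ∀ e : Fˣ, e⁻¹ = e → ∃ ω : ℂ, ‖ω‖ = 1 ∧
      ∀ s : S2, θ (Matrix.SpecialLinearGroup.toGL (eu e 0 * s)) =
        ω * θ (Matrix.SpecialLinearGroup.toGL s) := by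
    intro e he
    obtain ⟨ω, hω, hω2⟩ := central_char hθi (zG_center (F := F) e)
    refine ⟨ω, hω, ?_⟩
    intro s
    rw [map_mul, eu_toGL e he, hω2]
  have hfr := sum_split h2 (fun g => ‖θ (Matrix.SpecialLinearGroup.toGL g)‖ ^ 2) 1 (by
    intro g h4 hns
    obtain ⟨e, he, hte⟩ := half_unit h2 _ h4
    obtain ⟨R, b, hb, hR⟩ := unip_normal g hns e he hte
    have e1 : θ (Matrix.SpecialLinearGroup.toGL g) = θ (Matrix.SpecialLinearGroup.toGL (eu e b)) := by
      rw [← hR]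
      exact (hcf g R).symm
    obtain ⟨ω, hω, hω1⟩ := hcen e he
    have hu : θ (Matrix.SpecialLinearGroup.toGL (uS ((e : F) * b))) = -1 := by
      rw [uS_toGL]
      obtain ⟨c, hc⟩ := isConj_iff.mp (unip_conj ((e : F) * b) (mul_ne_zero e.ne_zero hb))
      rw [← hc, hcfG, hθu]
    show ‖θ (Matrix.SpecialLinearGroup.toGL g)‖ ^ 2 = 1
    rw [e1, eu_mul e he b, hω1, hu, norm_mul, hω]
    simp)
  have htot : ∑ g : S2, ‖θ (Matrix.SpecialLinearGroup.toGL g)‖ ^ 2 = 1 * (Nat.card S2 : ℝ) :=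
    norm_sum (f := fun s : S2 => θ (Matrix.SpecialLinearGroup.toGL s)) (k := 1) (by
      rw [irr_inner_self hirr]
      simp)
  have hsc : ∀ e : Fˣ, e⁻¹ = e → ‖θ (Matrix.SpecialLinearGroup.toGL (eu e 0))‖ ^ 2 =
      ((Fintype.card F : ℝ) - 1) ^ 2 := by
    intro e he
    obtain ⟨ω, hω, hω1⟩ := hcen e he
    have h5 := hω1 1
    rw [mul_one, map_one, hθ1] at h5
    rw [h5, norm_mul, hω, one_mul]
    have h6 : (Fintype.card F : ℂ) - 1 = (((Fintype.card F : ℝ) - 1 : ℝ) : ℂ) := by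
      push_cast
      ring
    rw [h6, Complex.norm_real, Real.norm_eq_abs, sq_abs]
  rw [htot, card_S_real] at hfr
  simp only [hsc 1 inv_one, hsc (-1) neg_one_unit_inv] at hfr
  linarith

end Main

section Deg

variable [Fintype F] [DecidableEq F] [Fintype (Matrix.GeneralLinearGroup (Fin 2) F)]
  [Fintype (Matrix.SpecialLinearGroup (Fin 2) F)]
  [Fintype (MulChar F ℂ)] [Fintype (IrrCharacter (Matrix.GeneralLinearGroup (Fin 2) F))]

/-- The six types of irreducible characters of `SL_2`, `q = 2m + 1`, with their degrees. -/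
theorem cls_deg (hodd : Odd (Fintype.card F)) (m : ℕ) (hm : Fintype.card F = 2 * m + 1)
    {χ : S2 → ℂ} (hχ : IsIrrCharacter S2 χ) :
    (χ 1 = ((1 : ℕ) : ℂ) ∧ χ = fun _ => 1) ∨
    (χ 1 = ((2 * m + 1 : ℕ) : ℂ) ∧ χ = fun s => stC 1 (Matrix.SpecialLinearGroup.toGL s)) ∨
    (χ 1 = ((2 * m + 2 : ℕ) : ℂ) ∧ ∃ γ : MulChar F ℂ, γ ^ 2 ≠ 1 ∧
      χ = fun s => psR γ 1 (Matrix.SpecialLinearGroup.toGL s)) ∨
    (χ 1 = ((2 * m : ℕ) : ℂ) ∧
      ∃ θ : G2 → ℂ, IsCusp θ ∧ ∀ s : S2, θ (Matrix.SpecialLinearGroup.toGL s) = χ s) ∨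
    (χ 1 = ((m + 1 : ℕ) : ℂ) ∧ ∃ (γ : MulChar F ℂ) (χ' : S2 → ℂ) (y : G2),
      γ ≠ 1 ∧ γ ^ 2 = 1 ∧ IsIrrCharacter S2 χ' ∧ χ' ≠ χ ∧ ConjRel χ χ' y ∧
      ∀ s : S2, psR γ 1 (Matrix.SpecialLinearGroup.toGL s) = χ s + χ' s) ∨
    (χ 1 = ((m : ℕ) : ℂ) ∧ ∃ (θ : G2 → ℂ) (χ' : S2 → ℂ) (y : G2),
      IsCusp θ ∧ IsIrrCharacter S2 χ' ∧ χ' ≠ χ ∧ ConjRel χ χ' y ∧
      ∀ s : S2, θ (Matrix.SpecialLinearGroup.toGL s) = χ s + χ' s) := by
  have hq0 : (Fintype.card F : ℂ) = ((2 * m + 1 : ℕ) : ℂ) := by rw [hm]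
  have hq1 : (Fintype.card F : ℂ) + 1 = ((2 * m + 2 : ℕ) : ℂ) := by
    rw [hm]
    push_cast
    ring
  have hq2 : (Fintype.card F : ℂ) - 1 = ((2 * m : ℕ) : ℂ) := by
    rw [hm]
    push_cast
    ring
  rcases cls_odd hodd hχ with h | h | ⟨γ, hγ, h⟩ | ⟨θ, hθ, h⟩ |
    ⟨n, γ, χ', y, hn, hχ1, hγ1, hγ2, hχ', hne, hy, hsum⟩ |
    ⟨n, θ, χ', y, hn, hχ1, hθ, hχ', hne, hy, hsum⟩
  · left
    refine ⟨?_, h⟩
    rw [h]
    simp
  · right; left
    refine ⟨?_, h⟩
    rw [h, ← hq0]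
    show stC 1 (Matrix.SpecialLinearGroup.toGL (1 : S2)) = _
    rw [map_one]
    exact stC_one 1
  · right; right; left
    refine ⟨?_, γ, hγ, h⟩
    rw [h, ← hq1]
    show psR γ 1 (Matrix.SpecialLinearGroup.toGL (1 : S2)) = _
    rw [map_one]
    exact psR_one γ 1
  · right; right; right; left
    refine ⟨?_, θ, hθ, h⟩
    rw [← h 1, map_one, ← hq2]
    exact hθ.2.2.1
  · right; right; right; right; left
    have hnm : n = m + 1 := by omega
    rw [hnm] at hχ1
    exact ⟨hχ1, γ, χ', y, hγ1, hγ2, hχ', hne, hy, hsum⟩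
  · right; right; right; right; right
    have hnm : n = m := by omega
    rw [hnm] at hχ1
    exact ⟨hχ1, θ, χ', y, hθ, hχ', hne, hy, hsum⟩

omit [Fintype F] [DecidableEq F] [Fintype (Matrix.SpecialLinearGroup (Fin 2) F)]
  [Fintype (MulChar F ℂ)] [Fintype (IrrCharacter (Matrix.GeneralLinearGroup (Fin 2) F))]
  [Fintype (Matrix.GeneralLinearGroup (Fin 2) F)] in
theorem uS_one_toGL : Matrix.SpecialLinearGroup.toGL (uS (1 : F)) = (uG : G2) :=
  Units.ext rfl

end Deg

end Cfsg.Agent.Lib_helper8_SL2Vals
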