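import Cfsg.Statements.S2325
import Mathlib
import Cfsg.Agent.Lib_helper8_SL2Conj
import Cfsg.Agent.Lib_helper8_SSCount
import Cfsg.Agent.S2455

set_option autoImplicit false
open Cfsg

namespace Cfsg.Agent.S2325

section Aux
open Matrix Cfsg.Agent.Lib_helper8_GL2 Cfsg.Agent.Lib_helper8_SSCount Cfsg.Agent.Lib_helper8_SL2Conj
open Cfsg.Agent.Lib_helper4_SL2Quat

variable {F : Type*} [Field F]

local notation "S2" => Matrix.SpecialLinearGroup (Fin 2) F
local notation "M2" => Matrix (Fin 2) (Fin 2) F

open Classical in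
/-- The complete conjugacy invariant of `SL_2` in odd characteristic. -/
noncomputable def J (g : S2) : F × Bool × Bool :=
  if (g : M2).trace ^ 2 = 4 then
    ((g : M2).trace, decide (¬ Lib_helper8_GL2.NonScalar (g : M2)), decide (kap g))
  else ((g : M2).trace, false, false)

/-- The range of the invariant. -/
def Qt (a : F × Bool × Bool) : Prop :=
  (a.1 ^ 2 ≠ 4 ∧ a.2.1 = false ∧ a.2.2 = false) ∨ (a.1 ^ 2 = 4 ∧ ¬ (a.2.1 = true ∧ a.2.2 = true))

theorem not_kap_of_scalar (g : S2) (h : ¬ Lib_helper8_GL2.NonScalar (g : M2)) : ¬ kap g := by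
  unfold Lib_helper8_GL2.NonScalar at h
  push Not at h
  rintro ⟨x, y, h0, -⟩
  apply h0
  unfold Qf
  rw [h.1, h.2.1, h.2.2]
  ring

theorem trace_conj (g h : S2) (hc : IsConj g h) : (g : M2).trace = (h : M2).trace := by
  obtain ⟨c, hc⟩ := isConj_iff.mp hc
  rw [← hc]
  simp only [Matrix.SpecialLinearGroup.coe_mul]
  rw [Matrix.trace_mul_comm, ← Matrix.mul_assoc, ← Matrix.SpecialLinearGroup.coe_mul,
    inv_mul_cancel, Matrix.SpecialLinearGroup.coe_one, Matrix.one_mul]

theorem ns_conj (g h : S2) (hc : IsConj g h) :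
    Lib_helper8_GL2.NonScalar (g : M2) ↔ Lib_helper8_GL2.NonScalar (h : M2) := by
  have key : ∀ (x y : S2) (c : S2), c * x * c⁻¹ = y → Lib_helper8_GL2.NonScalar (y : M2) →
      Lib_helper8_GL2.NonScalar (x : M2) := by
    intro x y c hxy hy
    rw [nonScalar_iff] at hy ⊢
    rintro ⟨a, ha⟩
    apply hy
    refine ⟨a, ?_⟩
    rw [← hxy]
    simp only [Matrix.SpecialLinearGroup.coe_mul]
    rw [ha, Matrix.mul_smul, Matrix.mul_one, Matrix.smul_mul, ← Matrix.SpecialLinearGroup.coe_mul,
      mul_inv_cancel, Matrix.SpecialLinearGroup.coe_one]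
  obtain ⟨c, hc⟩ := isConj_iff.mp hc
  exact ⟨fun hg => key h g c⁻¹ (by rw [← hc]; group) hg, fun hh => key g h c hc hh⟩

theorem J_isConj (g h : S2) (hc : IsConj g h) : J g = J h := by
  unfold J
  have ht := trace_conj g h hc
  have hn := ns_conj g h hc
  have hk := kap_conj hc
  by_cases h4 : (g : M2).trace ^ 2 = 4
  · have h4' : (h : M2).trace ^ 2 = 4 := ht ▸ h4
    rw [if_pos h4, if_pos h4']
    exact Prod.ext ht (Prod.ext (decide_eq_decide.mpr (not_congr hn)) (decide_eq_decide.mpr hk))
  · have h4' : ¬ (h : M2).trace ^ 2 = 4 := ht ▸ h4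
    rw [if_neg h4, if_neg h4']
    exact Prod.ext ht rfl

/-- The unit `t / 2` for `t ^ 2 = 4`. -/
theorem half_unit (h2 : (2 : F) ≠ 0) (t : F) (ht : t ^ 2 = 4) :
    ∃ e : Fˣ, e⁻¹ = e ∧ t = 2 * (e : F) := by
  have h0 : t / 2 ≠ 0 := by
    intro h
    have : t = 0 := by
      rcases div_eq_zero_iff.mp h with h | h
      · exact h
      · exact absurd h h2
    rw [this] at ht
    have h4 : (4 : F) = 2 * 2 := by norm_num
    rw [h4] at ht
    simp at ht
    exact h2 ht
  refine ⟨Units.mk0 (t / 2) h0, ?_, ?_⟩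
  · rw [inv_eq_iff_mul_eq_one]
    apply Units.ext
    rw [Units.val_mul, Units.val_mk0, Units.val_one]
    field_simp
    linear_combination ht
  · rw [Units.val_mk0]
    field_simp

theorem eu_trace (e : Fˣ) (he : e⁻¹ = e) (b : F) : ((eu e b : S2) : M2).trace = 2 * (e : F) := by
  rw [Matrix.trace_fin_two, (eu_entries e b).1, (eu_entries e b).2.2.2, he]
  ring

theorem J_inj [Fintype F] [DecidableEq F] (h2 : (2 : F) ≠ 0) (g h : S2) (e : J g = J h) :
    IsConj g h := by
  classical
  have ht : (g : M2).trace = (h : M2).trace := by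
    unfold J at e
    split_ifs at e <;> exact congrArg Prod.fst e
  by_cases h4 : (g : M2).trace ^ 2 = 4
  · have h4' : (h : M2).trace ^ 2 = 4 := ht ▸ h4
    unfold J at e
    rw [if_pos h4, if_pos h4'] at e
    have e1 : decide (¬ Lib_helper8_GL2.NonScalar (g : M2)) =
        decide (¬ Lib_helper8_GL2.NonScalar (h : M2)) := congrArg (fun a => a.2.1) e
    have e2 : decide (kap g) = decide (kap h) := congrArg (fun a => a.2.2) e
    have e1' : Lib_helper8_GL2.NonScalar (g : M2) ↔ Lib_helper8_GL2.NonScalar (h : M2) := by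
      exact not_iff_not.mp (decide_eq_decide.mp e1)
    have e2' : kap g ↔ kap h := decide_eq_decide.mp e2
    by_cases hg : Lib_helper8_GL2.NonScalar (g : M2)
    · have hh := e1'.mp hg
      obtain ⟨u, hu, htu⟩ := half_unit h2 _ h4
      obtain ⟨R, b, hb, hR⟩ := unip_normal g hg u hu htu
      obtain ⟨R', b', hb', hR'⟩ := unip_normal h hh u hu (ht ▸ htu)
      have c1 : IsConj g (eu u b) := isConj_iff.mpr ⟨R, hR⟩
      have c2 : IsConj h (eu u b') := isConj_iff.mpr ⟨R', hR'⟩
      have hkk : kap (eu u b) ↔ kap (eu u b') := by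
        rw [← kap_conj c1, ← kap_conj c2]
        exact e2'
      have c3 := eu_conj_of_sq u b b' hb hb' (eu_kap_of_sq u hu b b' hb hb' hkk)
      exact c1.trans (c3.trans c2.symm)
    · have hh : ¬ Lib_helper8_GL2.NonScalar (h : M2) := fun hh => hg (e1'.mpr hh)
      have hgh : g = h := by
        unfold Lib_helper8_GL2.NonScalar at hg hh
        push Not at hg hh
        rw [Matrix.trace_fin_two, Matrix.trace_fin_two, ← hg.2.2, ← hh.2.2] at ht
        have h00 : (g : M2) 0 0 = (h : M2) 0 0 := by
          have h5 : 2 * ((g : M2) 0 0 - (h : M2) 0 0) = 0 := by linear_combination ht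
          rcases mul_eq_zero.mp h5 with h6 | h6
          · exact absurd h6 h2
          · exact sub_eq_zero.mp h6
        apply ext2
        · exact h00
        · rw [hg.2.1, hh.2.1]
        · rw [hg.1, hh.1]
        · rw [← hg.2.2, ← hh.2.2, h00]
      rw [hgh]
  · obtain ⟨R, hR⟩ := Cfsg.Agent.S2455.sl_conj h2 g h ht h4
    exact isConj_iff.mpr ⟨R, hR⟩

theorem J_surj [Fintype F] [DecidableEq F] (h2 : (2 : F) ≠ 0) (a : F × Bool × Bool) (ha : Qt a) :
    ∃ g : S2, J g = a := by
  classical
  obtain ⟨t, b1, b2⟩ := a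
  rcases ha with ⟨h4, hb1, hb2⟩ | ⟨h4, hb⟩
  · simp only at h4 hb1 hb2
    subst hb1 hb2
    have hA : (!![0, -1; 1, t] : M2).det = 1 := by simp [Matrix.det_fin_two_of]
    refine ⟨(⟨!![0, -1; 1, t], hA⟩ : S2), ?_⟩
    have htr : ((⟨!![0, -1; 1, t], hA⟩ : S2) : M2).trace = t := by
      show (!![0, -1; 1, t] : M2).trace = t
      rw [Matrix.trace_fin_two_of, zero_add]
    unfold J
    rw [htr, if_neg h4]
  · simp only at h4 hb
    obtain ⟨u, hu, htu⟩ := half_unit h2 t h4
    have key : ∀ b : F, J (eu u b) = (t, decide (¬ Lib_helper8_GL2.NonScalar ((eu u b : S2) : M2)),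
        decide (kap (eu u b))) := by
      intro b
      unfold J
      rw [eu_trace u hu b, ← htu, if_pos h4]
    have hns : ∀ b : F, b ≠ 0 → Lib_helper8_GL2.NonScalar ((eu u b : S2) : M2) := by
      intro b hb
      right; left
      rw [(eu_entries u b).2.1]
      exact hb
    have hsc : ¬ Lib_helper8_GL2.NonScalar ((eu u 0 : S2) : M2) := by
      unfold Lib_helper8_GL2.NonScalar
      push Not
      obtain ⟨e00, e01, e10, e11⟩ := eu_entries u (0 : F)
      exact ⟨e10, e01, by rw [e00, e11, hu]⟩
    cases b1 with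
    | true =>
      cases b2 with
      | true => exact absurd ⟨rfl, rfl⟩ hb
      | false =>
        refine ⟨eu u 0, ?_⟩
        rw [key]
        simp [hsc, not_kap_of_scalar _ hsc]
    | false =>
      cases b2 with
      | true =>
        refine ⟨eu u (-1), ?_⟩
        rw [key]
        have h1 : kap (eu u (-1 : F)) := by
          rw [kap_eu u hu (-1) (by simp)]
          simp
        simp [hns (-1) (by simp), h1]
      | false =>
        obtain ⟨ν, hν⟩ := FiniteField.exists_nonsquare (F := F) (by
          intro h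
          haveI := ringChar.of_eq h
          exact h2 (CharTwo.two_eq_zero))
        have hν0 : ν ≠ 0 := fun h => hν (h ▸ IsSquare.zero)
        refine ⟨eu u (-ν), ?_⟩
        rw [key]
        have h1 : ¬ kap (eu u (-ν)) := by
          rw [kap_eu u hu (-ν) (by simpa using hν0), neg_neg]
          exact hν
        simp [hns (-ν) (by simpa using hν0), h1]

theorem card_sq_four [Fintype F] [DecidableEq F] (h2 : (2 : F) ≠ 0) :
    (Finset.univ.filter (fun t : F => t ^ 2 = 4)).card = 2 := by
  have h : Finset.univ.filter (fun t : F => t ^ 2 = 4) = {2, -2} := by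
    ext t
    rw [Finset.mem_filter, Finset.mem_insert, Finset.mem_singleton]
    constructor
    · rintro ⟨-, h⟩
      have h5 : (t - 2) * (t + 2) = 0 := by linear_combination h
      rcases mul_eq_zero.mp h5 with h6 | h6
      · left; exact sub_eq_zero.mp h6
      · right; linear_combination h6
    · rintro (rfl | rfl)
      · exact ⟨Finset.mem_univ _, by norm_num⟩
      · exact ⟨Finset.mem_univ _, by norm_num⟩
  rw [h, Finset.card_pair]
  intro h5
  have h6 : (2 : F) * 2 = 0 := by linear_combination h5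
  rcases mul_eq_zero.mp h6 with h7 | h7 <;> exact h2 h7

theorem card_Qt [Fintype F] [DecidableEq F] (h2 : (2 : F) ≠ 0) :
    Nat.card {a : F × Bool × Bool // Qt a} = Fintype.card F + 4 := by
  classical
  rw [Nat.card_eq_fintype_card, Fintype.card_subtype, Finset.card_filter, Fintype.sum_prod_type]
  have h1 : ∀ t : F, (∑ y : Bool × Bool, if Qt (t, y) then 1 else 0) =
      1 + if t ^ 2 = 4 then 2 else 0 := by
    intro t
    rw [Fintype.sum_prod_type, Fintype.sum_bool, Fintype.sum_bool, Fintype.sum_bool]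
    by_cases h4 : t ^ 2 = 4
    · simp [Qt, h4]
    · simp [Qt, h4]
  rw [Finset.sum_congr rfl (fun t _ => h1 t), Finset.sum_add_distrib, Finset.sum_const,
    Finset.card_univ, smul_eq_mul, mul_one, ← Finset.sum_filter, Finset.sum_const,
    card_sq_four h2]
  rfl

theorem main [Fintype F] (hodd : Odd (Fintype.card F)) :
    Nat.card (ConjClasses S2) = Fintype.card F + 4 := by
  classical
  have h2 : (2 : F) ≠ 0 := by
    have hchar : ringChar F ≠ 2 := by
      intro h
      have h1 := FiniteField.even_card_iff_char_two.mp h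
      obtain ⟨m, hm⟩ := hodd
      omega
    exact Ring.two_ne_zero hchar
  have key := card_classes (G := S2) (fun _ => True) (Qt (F := F)) J
    (fun g _ => by
      unfold J
      by_cases h4 : (g : M2).trace ^ 2 = 4
      · rw [if_pos h4]
        right
        refine ⟨h4, ?_⟩
        rintro ⟨h5, h6⟩
        simp only [decide_eq_true_eq] at h5 h6
        exact not_kap_of_scalar g h5 h6
      · rw [if_neg h4]
        left
        exact ⟨h4, rfl, rfl⟩)
    (fun g h _ _ e => J_inj h2 g h e) (fun a ha => by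
      obtain ⟨g, hg⟩ := J_surj h2 a ha; exact ⟨g, trivial, hg⟩) J_isConj
  have e1 : Nat.card {c : ConjClasses S2 // ∃ g : S2, ConjClasses.mk g = c ∧ True} =
      Nat.card (ConjClasses S2) := by
    apply Nat.card_congr
    apply Equiv.subtypeUnivEquiv
    intro c
    obtain ⟨g, hg⟩ := ConjClasses.mk_surjective c
    exact ⟨g, hg, trivial⟩
  rw [← e1, key, card_Qt h2]

end Aux

/-- Over a finite field with q elements, q odd, the special linear group SL₂ has exactly q + 4 conjugacy classes. -/
theorem result {F : Type*} [Field F] [Fintype F] (hodd : Odd (Fintype.card F)) :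
    Nat.card (ConjClasses (Matrix.SpecialLinearGroup (Fin 2) F)) = Fintype.card F + 4 := by
  exact main hodd

end Cfsg.Agent.S2325
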