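import Cfsg.Statements.S2299
import Mathlib
import Cfsg.Agent.Lib_helper8_SL2Odd
import Cfsg.Agent.S2325

set_option autoImplicit false
open Cfsg

namespace Cfsg.Agent.S2299

/-- Over a finite field F with q elements, q odd, every irreducible complex character of SL₂ has degree 1, q, q + 1, q − 1, (q + 1)/2 or (q − 1)/2; and when q ≥ 5 (so that these six numbers are distinct) there are exactly one irreducible character of degree 1, one of degree q, (q − 3)/2 of degree q + 1, (q − 1)/2 of degree q − 1, two of degree (q + 1)/2 and two of degree (q − 1)/2. -/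
theorem result {F : Type*} [Field F] [Fintype F] (hodd : Odd (Fintype.card F)) :
    (∀ χ : Matrix.SpecialLinearGroup (Fin 2) F → ℂ, Cfsg.IsIrrCharacter (Matrix.SpecialLinearGroup (Fin 2) F) χ →
      χ 1 = 1 ∨ χ 1 = (Fintype.card F : ℂ) ∨ χ 1 = (Fintype.card F : ℂ) + 1 ∨ χ 1 = (Fintype.card F : ℂ) - 1 ∨
        χ 1 = (((Fintype.card F + 1) / 2 : ℕ) : ℂ) ∨ χ 1 = (((Fintype.card F - 1) / 2 : ℕ) : ℂ)) ∧
    (5 ≤ Fintype.card F →
      Nat.card {χ : Cfsg.IrrCharacter (Matrix.SpecialLinearGroup (Fin 2) F) // (χ : Matrix.SpecialLinearGroup (Fin 2) F → ℂ) 1 = 1} = 1 ∧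
      Nat.card {χ : Cfsg.IrrCharacter (Matrix.SpecialLinearGroup (Fin 2) F) // (χ : Matrix.SpecialLinearGroup (Fin 2) F → ℂ) 1 = (Fintype.card F : ℂ)} = 1 ∧
      Nat.card {χ : Cfsg.IrrCharacter (Matrix.SpecialLinearGroup (Fin 2) F) // (χ : Matrix.SpecialLinearGroup (Fin 2) F → ℂ) 1 = (Fintype.card F : ℂ) + 1} = (Fintype.card F - 3) / 2 ∧
      Nat.card {χ : Cfsg.IrrCharacter (Matrix.SpecialLinearGroup (Fin 2) F) // (χ : Matrix.SpecialLinearGroup (Fin 2) F → ℂ) 1 = (Fintype.card F : ℂ) - 1} = (Fintype.card F - 1) / 2 ∧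
      Nat.card {χ : Cfsg.IrrCharacter (Matrix.SpecialLinearGroup (Fin 2) F) // (χ : Matrix.SpecialLinearGroup (Fin 2) F → ℂ) 1 = (((Fintype.card F + 1) / 2 : ℕ) : ℂ)} = 2 ∧
      Nat.card {χ : Cfsg.IrrCharacter (Matrix.SpecialLinearGroup (Fin 2) F) // (χ : Matrix.SpecialLinearGroup (Fin 2) F → ℂ) 1 = (((Fintype.card F - 1) / 2 : ℕ) : ℂ)} = 2) := by
  classical
  haveI : Fintype (Matrix.GeneralLinearGroup (Fin 2) F) := Fintype.ofFinite _
  haveI : Fintype (Matrix.SpecialLinearGroup (Fin 2) F) := Fintype.ofFinite _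
  haveI : Fintype (MulChar F ℂ) := Fintype.ofFinite _
  haveI : Finite (Cfsg.IrrCharacter (Matrix.GeneralLinearGroup (Fin 2) F)) :=
    Cfsg.Agent.Lib_helper3_CharBasic.irr_finite
  haveI : Fintype (Cfsg.IrrCharacter (Matrix.GeneralLinearGroup (Fin 2) F)) := Fintype.ofFinite _
  haveI : Finite (Cfsg.IrrCharacter (Matrix.SpecialLinearGroup (Fin 2) F)) :=
    Cfsg.Agent.Lib_helper3_CharBasic.irr_finite
  haveI : Fintype (Cfsg.IrrCharacter (Matrix.SpecialLinearGroup (Fin 2) F)) := Fintype.ofFinite _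
  have h2 : (2 : F) ≠ 0 := Cfsg.Agent.Lib_helper8_SL2Odd.two_ne_of_odd hodd
  have hodd' := hodd
  obtain ⟨m, hm⟩ := hodd
  have hq0 : (Fintype.card F : ℂ) = ((2 * m + 1 : ℕ) : ℂ) := by rw [hm]
  have hq1 : (Fintype.card F : ℂ) + 1 = ((2 * m + 2 : ℕ) : ℂ) := by
    rw [hm]
    push_cast
    ring
  have hq2 : (Fintype.card F : ℂ) - 1 = ((2 * m : ℕ) : ℂ) := by
    rw [hm]
    push_cast
    ring
  have e1 : (Fintype.card F + 1) / 2 = m + 1 := by omega
  have e2 : (Fintype.card F - 1) / 2 = m := by omega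
  have e3 : (Fintype.card F - 3) / 2 = m - 1 := by omega
  rw [e1, e2, e3]
  have hcls : ∀ χ : Matrix.SpecialLinearGroup (Fin 2) F → ℂ,
      Cfsg.IsIrrCharacter (Matrix.SpecialLinearGroup (Fin 2) F) χ →
      ((χ = fun _ => 1) ∧ χ 1 = ((1 : ℕ) : ℂ)) ∨
      ((χ = fun s => Cfsg.Agent.Lib_helper8_GL2Irr.stC 1 (Matrix.SpecialLinearGroup.toGL s)) ∧
        χ 1 = ((2 * m + 1 : ℕ) : ℂ)) ∨
      (∃ γ : MulChar F ℂ, γ ^ 2 ≠ 1 ∧
        (χ = fun s => Cfsg.Agent.Lib_helper8_GL2Irr.psR γ 1 (Matrix.SpecialLinearGroup.toGL s)) ∧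
        χ 1 = ((2 * m + 2 : ℕ) : ℂ)) ∨
      (χ 1 = ((2 * m : ℕ) : ℂ)) ∨
      (χ 1 = ((m + 1 : ℕ) : ℂ) ∧ ∃ (γ : MulChar F ℂ) (χ' : Matrix.SpecialLinearGroup (Fin 2) F → ℂ),
        γ ≠ 1 ∧ γ ^ 2 = 1 ∧ Cfsg.IsIrrCharacter (Matrix.SpecialLinearGroup (Fin 2) F) χ' ∧ χ' ≠ χ ∧
        ∀ s, Cfsg.Agent.Lib_helper8_GL2Irr.psR γ 1 (Matrix.SpecialLinearGroup.toGL s) = χ s + χ' s) ∨
      (χ 1 = ((m : ℕ) : ℂ)) := by
    intro χ hχ
    rcases Cfsg.Agent.Lib_helper8_SL2Odd.cls_odd hodd' hχ with h | h | ⟨γ, hγ, h⟩ | ⟨θ, hθ, h⟩ |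
      ⟨n, γ, χ', y, hn, hχ1, hγ1, hγ2, hχ', hne, -, hsum⟩ | ⟨n, θ, χ', y, hn, hχ1, -⟩
    · left
      refine ⟨h, ?_⟩
      rw [h]
      simp
    · right; left
      refine ⟨h, ?_⟩
      rw [h, ← hq0]
      show Cfsg.Agent.Lib_helper8_GL2Irr.stC 1 (Matrix.SpecialLinearGroup.toGL
        (1 : Matrix.SpecialLinearGroup (Fin 2) F)) = _
      rw [map_one]
      exact Cfsg.Agent.Lib_helper8_GL2Irr.stC_one 1
    · right; right; left
      refine ⟨γ, hγ, h, ?_⟩
      rw [h, ← hq1]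
      show Cfsg.Agent.Lib_helper8_GL2Irr.psR γ 1 (Matrix.SpecialLinearGroup.toGL
        (1 : Matrix.SpecialLinearGroup (Fin 2) F)) = _
      rw [map_one]
      exact Cfsg.Agent.Lib_helper8_GL2Irr.psR_one γ 1
    · right; right; right; left
      rw [← h 1, map_one, ← hq2]
      exact hθ.2.2.1
    · right; right; right; right; left
      have hnm : n = m + 1 := by omega
      rw [hnm] at hχ1
      exact ⟨hχ1, γ, χ', hγ1, hγ2, hχ', hne, hsum⟩
    · right; right; right; right; right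
      have hnm : n = m := by omega
      rw [hnm] at hχ1
      exact hχ1
  refine ⟨?_, ?_⟩
  · intro χ hχ
    rcases hcls χ hχ with ⟨-, h⟩ | ⟨-, h⟩ | ⟨γ, -, -, h⟩ | h | ⟨h, -⟩ | h
    · left
      rw [h]
      simp
    · right; left
      rw [h, hq0]
    · right; right; left
      rw [h, hq1]
    · right; right; right; left
      rw [h, hq2]
    · right; right; right; right; left
      exact h
    · right; right; right; right; right
      exact h
  · intro hq
    have hm2 : 2 ≤ m := by omega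
    -- natural-number degrees
    have hdgex : ∀ χ : Cfsg.IrrCharacter (Matrix.SpecialLinearGroup (Fin 2) F), ∃ d : ℕ,
        (χ : Matrix.SpecialLinearGroup (Fin 2) F → ℂ) 1 = (d : ℂ) := by
      intro χ
      obtain ⟨n, -, hn⟩ := Cfsg.Agent.Lib_helper3_CharMore.irr_apply_one_pos χ.2
      exact ⟨n, hn⟩
    choose dg hdg using hdgex
    have hdgeq : ∀ (χ : Cfsg.IrrCharacter (Matrix.SpecialLinearGroup (Fin 2) F)) (d : ℕ),
        (χ : Matrix.SpecialLinearGroup (Fin 2) F → ℂ) 1 = (d : ℂ) → dg χ = d :=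
      fun χ d h => Nat.cast_injective ((hdg χ).symm.trans h)
    have hcard : ∀ (c : ℂ) (c' : ℕ), c = (c' : ℂ) →
        Nat.card {χ : Cfsg.IrrCharacter (Matrix.SpecialLinearGroup (Fin 2) F) //
          (χ : Matrix.SpecialLinearGroup (Fin 2) F → ℂ) 1 = c} =
        (Finset.univ.filter (fun χ : Cfsg.IrrCharacter (Matrix.SpecialLinearGroup (Fin 2) F) =>
          dg χ = c')).card := by
      intro c c' hc
      rw [Nat.card_eq_fintype_card, Fintype.card_subtype]
      congr 1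
      apply Finset.filter_congr
      intro χ _
      rw [hdg χ, hc]
      exact Nat.cast_inj
    rw [hcard 1 1 (by simp), hcard _ (2 * m + 1) hq0, hcard _ (2 * m + 2) hq1, hcard _ (2 * m) hq2,
      hcard _ (m + 1) rfl, hcard _ m rfl]
    have hdgcases : ∀ χ : Cfsg.IrrCharacter (Matrix.SpecialLinearGroup (Fin 2) F),
        dg χ = 1 ∨ dg χ = 2 * m + 1 ∨ dg χ = 2 * m + 2 ∨ dg χ = 2 * m ∨ dg χ = m + 1 ∨ dg χ = m := by
      intro χ
      rcases hcls χ.1 χ.2 with ⟨-, h⟩ | ⟨-, h⟩ | ⟨γ, -, -, h⟩ | h | ⟨h, -⟩ | h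
      · exact Or.inl (hdgeq χ _ h)
      · exact Or.inr (Or.inl (hdgeq χ _ h))
      · exact Or.inr (Or.inr (Or.inl (hdgeq χ _ h)))
      · exact Or.inr (Or.inr (Or.inr (Or.inl (hdgeq χ _ h))))
      · exact Or.inr (Or.inr (Or.inr (Or.inr (Or.inl (hdgeq χ _ h)))))
      · exact Or.inr (Or.inr (Or.inr (Or.inr (Or.inr (hdgeq χ _ h)))))
    -- degree one
    have hA1 : (Finset.univ.filter (fun χ : Cfsg.IrrCharacter (Matrix.SpecialLinearGroup (Fin 2) F) =>
        dg χ = 1)).card = 1 := by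
      rw [Finset.card_eq_one]
      refine ⟨⟨fun _ => 1, Cfsg.Agent.Lib_helper3_CharMore.isIrrCharacter_one⟩, ?_⟩
      ext χ
      rw [Finset.mem_filter, Finset.mem_singleton]
      constructor
      · rintro ⟨-, h⟩
        apply Subtype.ext
        rcases hcls χ.1 χ.2 with ⟨h', hd⟩ | ⟨h', hd⟩ | ⟨γ, -, h', hd⟩ | hd | ⟨hd, -⟩ | hd
        · exact h'
        all_goals
          exfalso
          have := hdgeq χ _ hd
          omega
      · rintro rfl
        exact ⟨Finset.mem_univ _, hdgeq _ 1 (by simp)⟩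
    have hStirr := Cfsg.Agent.Lib_helper8_SL2Odd.st_irr_odd (F := F) hodd'
    have hAq : (Finset.univ.filter (fun χ : Cfsg.IrrCharacter (Matrix.SpecialLinearGroup (Fin 2) F) =>
        dg χ = 2 * m + 1)).card = 1 := by
      rw [Finset.card_eq_one]
      refine ⟨⟨_, hStirr⟩, ?_⟩
      ext χ
      rw [Finset.mem_filter, Finset.mem_singleton]
      constructor
      · rintro ⟨-, h⟩
        apply Subtype.ext
        rcases hcls χ.1 χ.2 with ⟨h', hd⟩ | ⟨h', hd⟩ | ⟨γ, -, h', hd⟩ | hd | ⟨hd, -⟩ | hd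
        · exfalso
          have := hdgeq χ _ hd
          omega
        · exact h'
        all_goals
          exfalso
          have := hdgeq χ _ hd
          omega
      · rintro rfl
        refine ⟨Finset.mem_univ _, hdgeq _ _ ?_⟩
        rw [← hq0]
        show Cfsg.Agent.Lib_helper8_GL2Irr.stC 1 (Matrix.SpecialLinearGroup.toGL
          (1 : Matrix.SpecialLinearGroup (Fin 2) F)) = _
        rw [map_one]
        exact Cfsg.Agent.Lib_helper8_GL2Irr.stC_one 1
    -- degree q + 1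
    obtain ⟨φ, hφ⟩ : ∃ φ : MulChar F ℂ → (Matrix.SpecialLinearGroup (Fin 2) F → ℂ),
        φ = fun γ => fun s => Cfsg.Agent.Lib_helper8_GL2Irr.psR γ 1
          (Matrix.SpecialLinearGroup.toGL s) := ⟨_, rfl⟩
    have hRirr : ∀ γ : MulChar F ℂ, γ ^ 2 ≠ 1 →
        Cfsg.IsIrrCharacter (Matrix.SpecialLinearGroup (Fin 2) F) (φ γ) := by
      intro γ hγ
      rw [hφ]
      exact Cfsg.Agent.Lib_helper8_SL2Odd.res_irr_of_sq_ne hγ
    have hφ1 : ∀ γ : MulChar F ℂ, φ γ 1 = ((2 * m + 2 : ℕ) : ℂ) := by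
      intro γ
      rw [hφ, ← hq1]
      show Cfsg.Agent.Lib_helper8_GL2Irr.psR γ 1 (Matrix.SpecialLinearGroup.toGL
        (1 : Matrix.SpecialLinearGroup (Fin 2) F)) = _
      rw [map_one]
      exact Cfsg.Agent.Lib_helper8_GL2Irr.psR_one γ 1
    have hinvsq : ∀ γ : MulChar F ℂ, γ ^ 2 ≠ 1 → γ⁻¹ ^ 2 ≠ 1 := by
      intro γ hγ h
      apply hγ
      rw [inv_pow, inv_eq_one] at h
      exact h
    have hD := Cfsg.Agent.Lib_helper8_SL2Types.two_to_one
      ((Finset.univ : Finset (MulChar F ℂ)).filter (fun γ => γ ^ 2 ≠ 1)) φ (fun γ => γ⁻¹)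
      (by
        intro γ hγ h
        have hγ' := (Finset.mem_filter.mp hγ).2
        apply hγ'
        rw [sq]
        nth_rewrite 1 [← h]
        exact inv_mul_cancel γ)
      (by
        intro γ hγ γ'
        have hγ1 := (Finset.mem_filter.mp hγ).2
        constructor
        · rintro ⟨hγ', he⟩
          have hγ'1 := (Finset.mem_filter.mp hγ').2
          have hi1 := hRirr γ hγ1
          have hi2 := hRirr γ' hγ'1
          rw [hφ] at he hi1 hi2
          exact (Cfsg.Agent.Lib_helper8_SL2Types.res_eq_iff hi1 hi2).mp he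
        · intro h
          have hγ'1 : γ' ^ 2 ≠ 1 := by
            rcases h with rfl | rfl
            · exact hγ1
            · exact hinvsq γ hγ1
          refine ⟨Finset.mem_filter.mpr ⟨Finset.mem_univ _, hγ'1⟩, ?_⟩
          have hi1 := hRirr γ hγ1
          have hi2 := hRirr γ' hγ'1
          rw [hφ] at hi1 hi2 ⊢
          exact (Cfsg.Agent.Lib_helper8_SL2Types.res_eq_iff hi1 hi2).mpr h)
    have hDcard : ((Finset.univ : Finset (MulChar F ℂ)).filter (fun γ => γ ^ 2 ≠ 1)).card =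
        2 * m - 2 := by
      have h5 := Finset.card_filter_add_card_filter_not (s := (Finset.univ : Finset (MulChar F ℂ)))
        (fun γ => γ ^ 2 = 1)
      rw [Cfsg.Agent.Lib_helper8_SL2Odd.card_quad_chars h2, Finset.card_univ,
        ← Nat.card_eq_fintype_card, Cfsg.Agent.Lib_helper8_GL2Irr.card_mulChar] at h5
      show ((Finset.univ : Finset (MulChar F ℂ)).filter (fun γ => ¬ γ ^ 2 = 1)).card = 2 * m - 2
      omega
    rw [hDcard] at hD
    have himg : (Finset.univ.filter (fun χ : Cfsg.IrrCharacter (Matrix.SpecialLinearGroup (Fin 2) F) =>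
        dg χ = 2 * m + 2)).image Subtype.val =
        ((Finset.univ : Finset (MulChar F ℂ)).filter (fun γ => γ ^ 2 ≠ 1)).image φ := by
      ext χ
      rw [Finset.mem_image, Finset.mem_image]
      constructor
      · rintro ⟨χ', hχ', rfl⟩
        rw [Finset.mem_filter] at hχ'
        have h := hχ'.2
        rcases hcls χ'.1 χ'.2 with ⟨h', hd⟩ | ⟨h', hd⟩ | ⟨γ, hγ, h', hd⟩ | hd | ⟨hd, -⟩ | hd
        · exfalso
          have := hdgeq χ' _ hd
          omega
        · exfalso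
          have := hdgeq χ' _ hd
          omega
        · refine ⟨γ, Finset.mem_filter.mpr ⟨Finset.mem_univ _, hγ⟩, ?_⟩
          rw [hφ, h']
        all_goals
          exfalso
          have := hdgeq χ' _ hd
          omega
      · rintro ⟨γ, hγ, rfl⟩
        have hγ1 := (Finset.mem_filter.mp hγ).2
        refine ⟨⟨φ γ, hRirr γ hγ1⟩, ?_, rfl⟩
        rw [Finset.mem_filter]
        exact ⟨Finset.mem_univ _, hdgeq _ _ (hφ1 γ)⟩
    have hAp : (Finset.univ.filter (fun χ : Cfsg.IrrCharacter (Matrix.SpecialLinearGroup (Fin 2) F) =>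
        dg χ = 2 * m + 2)).card = m - 1 := by
      rw [← Finset.card_image_of_injective _ Subtype.val_injective, himg]
      exact Nat.eq_of_mul_eq_mul_left zero_lt_two (hD.symm.trans (by omega))
    -- degree (q + 1) / 2
    obtain ⟨γ₀, χ₁, χ₂, y, hγ1, hγ2, huniq, hχ₁, hχ₂, hne12, hy, hsum⟩ :=
      Cfsg.Agent.Lib_helper8_SL2Odd.half_plus (F := F) h2
    have hχ₂1 : χ₂ 1 = χ₁ 1 := Cfsg.Agent.Lib_helper8_SL2Odd.conjRel_one hy
    obtain ⟨n₁, -, hn₁⟩ := Cfsg.Agent.Lib_helper3_CharMore.irr_apply_one_pos hχ₁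
    have hn₁m : n₁ = m + 1 := by
      have h5 := hsum 1
      rw [map_one, Cfsg.Agent.Lib_helper8_GL2Irr.psR_one, hχ₂1] at h5
      have h6 := Cfsg.Agent.Lib_helper8_SL2Odd.nat_half (q := Fintype.card F + 1) hn₁
        (by push_cast; exact h5)
      omega
    rw [hn₁m] at hn₁
    have hAh : (Finset.univ.filter (fun χ : Cfsg.IrrCharacter (Matrix.SpecialLinearGroup (Fin 2) F) =>
        dg χ = m + 1)).card = 2 := by
      rw [Finset.card_eq_two]
      refine ⟨⟨χ₁, hχ₁⟩, ⟨χ₂, hχ₂⟩, fun h => hne12 (congrArg Subtype.val h).symm, ?_⟩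
      ext χ
      rw [Finset.mem_filter, Finset.mem_insert, Finset.mem_singleton]
      constructor
      · rintro ⟨-, h⟩
        rcases hcls χ.1 χ.2 with ⟨h', hd⟩ | ⟨h', hd⟩ | ⟨γ, -, h', hd⟩ | hd |
          ⟨hd, γ, χ', hγ1', hγ2', hχ', hne', hsum'⟩ | hd
        · exfalso
          have := hdgeq χ _ hd
          omega
        · exfalso
          have := hdgeq χ _ hd
          omega
        · exfalso
          have := hdgeq χ _ hd
          omega
        · exfalso
          have := hdgeq χ _ hd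
          omega
        · have hγeq := huniq γ hγ1' hγ2'
          rw [hγeq] at hsum'
          have hfun : (χ : Matrix.SpecialLinearGroup (Fin 2) F → ℂ) + χ' = χ₁ + χ₂ := by
            funext s
            show (χ : Matrix.SpecialLinearGroup (Fin 2) F → ℂ) s + χ' s = χ₁ s + χ₂ s
            rw [← hsum' s, hsum s]
          rcases Cfsg.Agent.Lib_helper8_SL2Odd.eq_of_sum_eq χ.2 hχ' hχ₁ hχ₂ hne' hfun with h5 | h5
          · left
            exact Subtype.ext h5
          · right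
            exact Subtype.ext h5
        · exfalso
          have := hdgeq χ _ hd
          omega
      · rintro (rfl | rfl)
        · exact ⟨Finset.mem_univ _, hdgeq _ _ hn₁⟩
        · exact ⟨Finset.mem_univ _, hdgeq _ _ (hχ₂1.trans hn₁)⟩
    -- totals
    obtain ⟨T, hT⟩ : ∃ T : Finset ℕ, T = {1, 2 * m + 1, 2 * m + 2, 2 * m, m + 1, m} := ⟨_, rfl⟩
    have hTsum : ∀ f : ℕ → ℕ, ∑ d ∈ T, f d =
        f 1 + f (2 * m + 1) + f (2 * m + 2) + f (2 * m) + f (m + 1) + f m := by
      intro f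
      rw [hT, Finset.sum_insert (by simp only [Finset.mem_insert, Finset.mem_singleton]; omega),
        Finset.sum_insert (by simp only [Finset.mem_insert, Finset.mem_singleton]; omega),
        Finset.sum_insert (by simp only [Finset.mem_insert, Finset.mem_singleton]; omega),
        Finset.sum_insert (by simp only [Finset.mem_insert, Finset.mem_singleton]; omega),
        Finset.sum_insert (by simp only [Finset.mem_singleton]; omega), Finset.sum_singleton]
      ring
    have hmaps : ∀ χ ∈ (Finset.univ : Finset (Cfsg.IrrCharacter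
        (Matrix.SpecialLinearGroup (Fin 2) F))), dg χ ∈ T := by
      intro χ _
      rw [hT]
      simp only [Finset.mem_insert, Finset.mem_singleton]
      exact hdgcases χ
    have htot : Fintype.card (Cfsg.IrrCharacter (Matrix.SpecialLinearGroup (Fin 2) F)) =
        Fintype.card F + 4 := by
      rw [← Nat.card_eq_fintype_card,
        Cfsg.Agent.Lib_helper3_CharCount.card_irr_eq_card_conjClasses]
      exact Cfsg.Agent.S2325.result hodd'
    have hE1 := Finset.card_eq_sum_card_fiberwise (f := dg) hmaps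
    rw [hTsum, Finset.card_univ, htot, hA1, hAq, hAp, hAh] at hE1
    have hsq := Cfsg.Agent.Lib_helper3_CharBasic.sum_sq_degree
      (G := Matrix.SpecialLinearGroup (Fin 2) F)
    rw [Cfsg.Agent.Lib_helper8_SL2Norm.card_S, hq2, hq1, hq0] at hsq
    have hsq' : ∑ χ : Cfsg.IrrCharacter (Matrix.SpecialLinearGroup (Fin 2) F), (dg χ) ^ 2 =
        (2 * m + 1) * (2 * m) * (2 * m + 2) := by
      have h5 : ((∑ χ : Cfsg.IrrCharacter (Matrix.SpecialLinearGroup (Fin 2) F), (dg χ) ^ 2 : ℕ) : ℂ) =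
          (((2 * m + 1) * (2 * m) * (2 * m + 2) : ℕ) : ℂ) := by
        rw [Nat.cast_sum, Nat.cast_mul, Nat.cast_mul, ← hsq]
        apply Finset.sum_congr rfl
        intro χ _
        rw [hdg χ, Nat.cast_pow]
      exact Nat.cast_injective h5
    have hE2 := Finset.sum_fiberwise_of_maps_to (g := dg) hmaps (fun χ => (dg χ) ^ 2)
    rw [hsq'] at hE2
    have hfib : ∀ d : ℕ, ∑ χ ∈ Finset.univ.filter (fun χ : Cfsg.IrrCharacter
        (Matrix.SpecialLinearGroup (Fin 2) F) => dg χ = d), (dg χ) ^ 2 =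
        (Finset.univ.filter (fun χ : Cfsg.IrrCharacter
        (Matrix.SpecialLinearGroup (Fin 2) F) => dg χ = d)).card * d ^ 2 := by
      intro d
      rw [Finset.sum_congr rfl (fun χ hχ => by rw [(Finset.mem_filter.mp hχ).2] : ∀ χ ∈
        Finset.univ.filter (fun χ : Cfsg.IrrCharacter
        (Matrix.SpecialLinearGroup (Fin 2) F) => dg χ = d), (dg χ) ^ 2 = d ^ 2), Finset.sum_const,
        smul_eq_mul]
    rw [Finset.sum_congr rfl (fun d _ => hfib d), hTsum, hA1, hAq, hAp, hAh] at hE2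
    obtain ⟨Nm, hNm⟩ : ∃ Nm : ℕ, Nm = (Finset.univ.filter (fun χ : Cfsg.IrrCharacter
        (Matrix.SpecialLinearGroup (Fin 2) F) => dg χ = 2 * m)).card := ⟨_, rfl⟩
    obtain ⟨Nl, hNl⟩ : ∃ Nl : ℕ, Nl = (Finset.univ.filter (fun χ : Cfsg.IrrCharacter
        (Matrix.SpecialLinearGroup (Fin 2) F) => dg χ = m)).card := ⟨_, rfl⟩
    rw [← hNm, ← hNl] at hE1 hE2 ⊢
    obtain ⟨k, rfl⟩ : ∃ k : ℕ, m = k + 2 := ⟨m - 2, by omega⟩
    have hk1 : k + 2 - 1 = k + 1 := by omega
    rw [hk1] at hE2 hE1 ⊢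
    have hZ : ((k : ℤ) + 2) ^ 2 * (4 * (Nm : ℤ) + (Nl : ℤ)) = ((k : ℤ) + 2) ^ 2 * (4 * (k : ℤ) + 10) := by
      have hE := congrArg (Nat.cast : ℕ → ℤ) hE2
      push_cast at hE
      linear_combination hE
    have hpos : ((k : ℤ) + 2) ^ 2 ≠ 0 := by positivity
    have hZ' := mul_left_cancel₀ hpos hZ
    have hm' : Fintype.card F = 2 * k + 5 := by omega
    rw [hm'] at hE1
    refine ⟨hA1, hAq, hAp, ?_, hAh, ?_⟩ <;> omega

end Cfsg.Agent.S2299
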