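import Mathlib
import Cfsg.Agent.Lib_helper8_SL2Vals
import Cfsg.Agent.S2455
import Cfsg.Agent.S2299

set_option autoImplicit false

/-! The non-split torus of `SL_2` over a finite field of odd order and the cuspidal characters. -/

namespace Cfsg.Agent.Lib_helper8_SL2Tor

open Cfsg Cfsg.Agent.Lib_helper3_CharBasic Cfsg.Agent.Lib_helper3_CharInd
open Cfsg.Agent.Lib_helper3_CharMore
open Cfsg.Agent.Lib_helper8_IndB Cfsg.Agent.Lib_helper8_GL2 Cfsg.Agent.Lib_helper8_GL2Irr
open Cfsg.Agent.Lib_helper8_SL2Norm Cfsg.Agent.Lib_helper8_SL2Cliff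
open Cfsg.Agent.Lib_helper8_SL2Odd Cfsg.Agent.Lib_helper8_SL2Conj Cfsg.Agent.Lib_helper8_SL2Vals
open Cfsg.Agent.Lib_helper4_SL2Quat
open scoped ComplexConjugate
open Matrix

universe u

variable {F : Type u} [Field F]

local notation "S2" => Matrix.SpecialLinearGroup (Fin 2) F
local notation "M2" => Matrix (Fin 2) (Fin 2) F
local notation "BS" => (Subgroup.comap Matrix.SpecialLinearGroup.toGL (Cfsg.upperTriangularGL 2 F))

section Basic

theorem eu1_mul (b c : F) : eu (1 : Fˣ) b * eu 1 c = eu 1 (b + c) := by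
  obtain ⟨e00, e01, e10, e11⟩ := eu_entries (1 : Fˣ) b
  obtain ⟨f00, f01, f10, f11⟩ := eu_entries (1 : Fˣ) c
  obtain ⟨g00, g01, g10, g11⟩ := eu_entries (1 : Fˣ) (b + c)
  apply ext2 <;>
    simp only [mul_entries, e00, e01, e10, e11, f00, f01, f10, f11, g00, g01, g10, g11] <;>
    simp <;> ring

theorem eu1_zero : eu (1 : Fˣ) (0 : F) = 1 := by
  obtain ⟨e00, e01, e10, e11⟩ := eu_entries (1 : Fˣ) (0 : F)
  obtain ⟨o1, o2, o3, o4⟩ := one_entries (F := F)
  apply ext2
  · rw [e00, o1]; simp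
  · rw [e01, o2]
  · rw [e10, o3]
  · rw [e11, o4]; simp

theorem eu1_pow (b : F) (k : ℕ) : (eu (1 : Fˣ) b) ^ k = eu 1 ((k : F) * b) := by
  induction k with
  | zero => simp [eu1_zero]
  | succ k ih =>
    rw [pow_succ, ih, eu1_mul]
    congr 1
    push_cast
    ring

theorem eu_sq (e : Fˣ) (he : e⁻¹ = e) (b : F) : eu e b * eu e b = eu 1 (2 * (e : F) * b) := by
  have hee := unit_sq he
  obtain ⟨e00, e01, e10, e11⟩ := eu_entries e b
  obtain ⟨g00, g01, g10, g11⟩ := eu_entries (1 : Fˣ) (2 * (e : F) * b)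
  apply ext2
  · rw [mul_entries, e00, e10, g00, mul_zero, add_zero, hee]; simp
  · rw [mul_entries, e00, e01, e11, g01, he]; ring
  · rw [mul_entries, e00, e10, e11, g10]; ring
  · rw [mul_entries, e10, e11, g11, he, zero_mul, zero_add, hee]; simp

theorem eu0_mul (u v : Fˣ) : eu u (0 : F) * eu v 0 = eu (u * v) 0 := by
  obtain ⟨e00, e01, e10, e11⟩ := eu_entries u (0 : F)
  obtain ⟨f00, f01, f10, f11⟩ := eu_entries v (0 : F)
  obtain ⟨g00, g01, g10, g11⟩ := eu_entries (u * v) (0 : F)
  apply ext2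
  · rw [mul_entries, e00, e01, f00, f10, g00, Units.val_mul]; ring
  · rw [mul_entries, e00, e01, f01, f11, g01]; ring
  · rw [mul_entries, e10, e11, f00, f10, g10]; ring
  · rw [mul_entries, e10, e11, f01, f11, g11, mul_inv, Units.val_mul]; ring

theorem eu0_pow (u : Fˣ) (k : ℕ) : (eu u (0 : F)) ^ k = eu (u ^ k) 0 := by
  induction k with
  | zero => simp [eu1_zero]
  | succ k ih => rw [pow_succ, ih, eu0_mul, pow_succ]

theorem negOne_eq : (negOne : S2) = eu (-1 : Fˣ) 0 := by
  obtain ⟨e00, e01, e10, e11⟩ := eu_entries (-1 : Fˣ) (0 : F)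
  apply ext2
  · rw [negOne_00, e00]; simp
  · rw [negOne_01, e01]
  · rw [negOne_10, e10]
  · rw [negOne_11, e11]; simp

theorem trace_conj_mul (x g : S2) : ((x * g * x⁻¹ : S2) : M2).trace = (g : M2).trace := by
  simp only [Matrix.SpecialLinearGroup.coe_mul]
  rw [Matrix.trace_mul_comm, ← Matrix.mul_assoc, ← Matrix.SpecialLinearGroup.coe_mul,
    inv_mul_cancel, Matrix.SpecialLinearGroup.coe_one, Matrix.one_mul]

theorem inv_entries (g : S2) : ((g⁻¹ : S2) : M2) 0 0 = (g : M2) 1 1 ∧
    ((g⁻¹ : S2) : M2) 0 1 = -(g : M2) 0 1 ∧ ((g⁻¹ : S2) : M2) 1 0 = -(g : M2) 1 0 ∧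
    ((g⁻¹ : S2) : M2) 1 1 = (g : M2) 0 0 := by
  rw [Matrix.SpecialLinearGroup.coe_inv, Matrix.adjugate_fin_two]
  simp

theorem trace_inv (g : S2) : ((g⁻¹ : S2) : M2).trace = (g : M2).trace := by
  obtain ⟨i00, -, -, i11⟩ := inv_entries g
  rw [Matrix.trace_fin_two, Matrix.trace_fin_two, i00, i11]
  ring

/-- Commuting elements with the same regular trace are equal or inverse. -/
theorem eq_or_inv_of_comm (h2 : (2 : F) ≠ 0) (g c : S2) (hcomm : g * c = c * g)
    (ht : (g : M2).trace = (c : M2).trace) (h4 : (c : M2).trace ^ 2 ≠ 4) :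
    g = c ∨ g = c⁻¹ := by
  have k00 := congrArg (fun x : S2 => (x : M2) 0 0) hcomm
  have k01 := congrArg (fun x : S2 => (x : M2) 0 1) hcomm
  have k10 := congrArg (fun x : S2 => (x : M2) 1 0) hcomm
  simp only [mul_entries] at k00 k01 k10
  have dg := det_entries g
  have dc := det_entries c
  rw [Matrix.trace_fin_two, Matrix.trace_fin_two] at ht
  rw [Matrix.trace_fin_two] at h4
  obtain ⟨i00, i01, i10, i11⟩ := inv_entries c
  have h4' : (4 : F) ≠ 0 := by
    have h : (4 : F) = 2 * 2 := by norm_num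
    rw [h]
    exact mul_ne_zero h2 h2
  -- notation
  set g00 := (g : M2) 0 0
  set g01 := (g : M2) 0 1
  set g10 := (g : M2) 1 0
  set g11 := (g : M2) 1 1
  set c00 := (c : M2) 0 0
  set c01 := (c : M2) 0 1
  set c10 := (c : M2) 1 0
  set c11 := (c : M2) 1 1
  have H1 : g01 * c10 = c01 * g10 := by linear_combination k00
  have H2 : c01 * (g00 - g11) = g01 * (c00 - c11) := by linear_combination k01
  have H3 : c10 * (g00 - g11) = g10 * (c00 - c11) := by linear_combination -k10
  have hΔ : (c00 - c11) ^ 2 + 4 * c01 * c10 ≠ 0 := by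
    intro h
    apply h4
    linear_combination h + 4 * dc
  have hsq : ((g00 - g11) - (c00 - c11)) * ((g00 - g11) + (c00 - c11)) = 0 := by
    have hA : c01 * c10 * (g00 - g11) ^ 2 = g01 * g10 * (c00 - c11) ^ 2 := by
      calc c01 * c10 * (g00 - g11) ^ 2 = (c01 * (g00 - g11)) * (c10 * (g00 - g11)) := by ring
        _ = (g01 * (c00 - c11)) * (g10 * (c00 - c11)) := by rw [H2, H3]
        _ = g01 * g10 * (c00 - c11) ^ 2 := by ring
    have hB : (g00 - g11) ^ 2 + 4 * g01 * g10 = (c00 - c11) ^ 2 + 4 * c01 * c10 := by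
      linear_combination (g00 + g11 + c00 + c11) * ht - 4 * dg + 4 * dc
    have h5 : ((c00 - c11) ^ 2 + 4 * c01 * c10) *
        (((g00 - g11) - (c00 - c11)) * ((g00 - g11) + (c00 - c11))) = 0 := by
      linear_combination 4 * hA + (c00 - c11) ^ 2 * hB
    rcases mul_eq_zero.mp h5 with h6 | h6
    · exact absurd h6 hΔ
    · exact h6
  by_cases hδ : c00 - c11 = 0
  · -- both have equal diagonal entries
    have hδ' : g00 - g11 = 0 := by
      rcases mul_eq_zero.mp hsq with h | h
      · linear_combination h + hδ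
      · linear_combination h - hδ
    have hc01 : c01 ≠ 0 := by
      intro h
      apply hΔ
      rw [hδ, h]
      ring
    have hc10 : c10 ≠ 0 := by
      intro h
      apply hΔ
      rw [hδ, h]
      ring
    have e00 : g00 = c00 := by
      apply mul_left_cancel₀ h2
      linear_combination ht + hδ' - hδ
    have e11 : g11 = c11 := by
      apply mul_left_cancel₀ h2
      linear_combination ht - hδ' + hδ
    have hprod : g01 * g10 = c01 * c10 := by
      rw [e00, e11] at dg
      linear_combination dc - dg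
    have hsq2 : (g01 - c01) * (g01 + c01) = 0 := by
      have h5 : c10 * ((g01 - c01) * (g01 + c01)) = 0 := by
        linear_combination g01 * H1 + c01 * hprod
      rcases mul_eq_zero.mp h5 with h6 | h6
      · exact absurd h6 hc10
      · exact h6
    rcases mul_eq_zero.mp hsq2 with h | h
    · left
      have e01 : g01 = c01 := sub_eq_zero.mp h
      have e10 : g10 = c10 := by
        apply mul_left_cancel₀ hc01
        rw [← H1, e01]
      exact ext2 g c e00 e01 e10 e11
    · right
      have e01 : g01 = -c01 := by linear_combination h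
      have e10 : g10 = -c10 := by
        apply mul_left_cancel₀ hc01
        rw [← H1, e01]
        ring
      apply ext2
      · rw [i00]
        show g00 = c11
        linear_combination e00 + hδ
      · rw [i01]
        exact e01
      · rw [i10]
        exact e10
      · rw [i11]
        show g11 = c00
        linear_combination e11 - hδ
  · rcases mul_eq_zero.mp hsq with h | h
    · left
      have hd : g00 - g11 = c00 - c11 := sub_eq_zero.mp h
      have e01 : g01 = c01 := by
        apply mul_right_cancel₀ hδ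
        rw [← H2, hd]
      have e10 : g10 = c10 := by
        apply mul_right_cancel₀ hδ
        rw [← H3, hd]
      have e00 : g00 = c00 := by
        apply mul_left_cancel₀ h2
        linear_combination ht + hd
      have e11 : g11 = c11 := by
        apply mul_left_cancel₀ h2
        linear_combination ht - hd
      exact ext2 g c e00 e01 e10 e11
    · right
      have hd : g00 - g11 = -(c00 - c11) := by linear_combination h
      have e01 : g01 = -c01 := by
        apply mul_right_cancel₀ hδ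
        rw [← H2, hd]
        ring
      have e10 : g10 = -c10 := by
        apply mul_right_cancel₀ hδ
        rw [← H3, hd]
        ring
      have e00 : g00 = c11 := by
        apply mul_left_cancel₀ h2
        linear_combination ht + hd
      have e11 : g11 = c00 := by
        apply mul_left_cancel₀ h2
        linear_combination ht - hd
      apply ext2
      · rw [i00]
        exact e00
      · rw [i01]
        exact e01
      · rw [i10]
        exact e10
      · rw [i11]
        exact e11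

end Basic

section Count

variable [Fintype F] [DecidableEq F] [Fintype (Matrix.SpecialLinearGroup (Fin 2) F)]

omit [Fintype F] [DecidableEq F] [Fintype (Matrix.SpecialLinearGroup (Fin 2) F)] in
theorem ell_01_ne (t : F) (hns : ¬ IsSquare (t ^ 2 - 4)) (g : S2) (ht : (g : M2).trace = t) :
    (g : M2) 0 1 ≠ 0 := by
  intro h
  apply hns
  rw [Matrix.trace_fin_two] at ht
  have hdet := det_entries g
  rw [h] at hdet
  refine ⟨(g : M2) 0 0 - (g : M2) 1 1, ?_⟩
  rw [← ht]
  linear_combination 4 * hdet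

omit [Fintype F] [DecidableEq F] [Fintype (Matrix.SpecialLinearGroup (Fin 2) F)] in
theorem ell_10_ne (t : F) (hns : ¬ IsSquare (t ^ 2 - 4)) (g : S2) (ht : (g : M2).trace = t) :
    (g : M2) 1 0 ≠ 0 := by
  intro h
  apply hns
  rw [Matrix.trace_fin_two] at ht
  have hdet := det_entries g
  rw [h] at hdet
  refine ⟨(g : M2) 0 0 - (g : M2) 1 1, ?_⟩
  rw [← ht]
  linear_combination 4 * hdet

theorem card_trace_ell (t : F) (hns : ¬ IsSquare (t ^ 2 - 4)) :
    (Finset.univ.filter (fun g : S2 => (g : M2).trace = t)).card =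
      Fintype.card F * (Fintype.card F - 1) := by
  have hcard : Fintype.card (F × Fˣ) = Fintype.card F * (Fintype.card F - 1) := by
    rw [Fintype.card_prod, Fintype.card_units]
  rw [← hcard, ← Finset.card_univ]
  apply Finset.card_bij (fun (g : S2) hg => (((g : M2) 0 0,
    Units.mk0 ((g : M2) 0 1) (ell_01_ne t hns g (Finset.mem_filter.mp hg).2)) : F × Fˣ))
  · intro g hg
    exact Finset.mem_univ _
  · intro g hg g' hg' h
    have ht := (Finset.mem_filter.mp hg).2
    have ht' := (Finset.mem_filter.mp hg').2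
    have hne := ell_01_ne t hns g ht
    rw [Matrix.trace_fin_two] at ht ht'
    have h00 : (g : M2) 0 0 = (g' : M2) 0 0 := congrArg Prod.fst h
    have h01' : (g : M2) 0 1 = (g' : M2) 0 1 := by
      have := congrArg (fun p : F × Fˣ => (p.2 : F)) h
      simpa using this
    have h11 : (g : M2) 1 1 = (g' : M2) 1 1 := by linear_combination ht - ht' - h00
    have hdet := det_entries g
    have hdet' := det_entries g'
    have h10 : (g : M2) 1 0 = (g' : M2) 1 0 := by
      apply mul_left_cancel₀ hne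
      linear_combination hdet' - hdet - (g' : M2) 1 0 * h01' + (g : M2) 1 1 * h00 +
        (g' : M2) 0 0 * h11
    exact ext2 g g' h00 h01' h10 h11
  · rintro ⟨a, b⟩ -
    have hb := b.ne_zero
    obtain ⟨g, hg⟩ : ∃ g : S2, (g : M2) = !![a, (b : F); (a * (t - a) - 1) / (b : F), t - a] :=
      ⟨⟨_, by rw [Matrix.det_fin_two_of]; field_simp; ring⟩, rfl⟩
    refine ⟨g, ?_, ?_⟩
    · rw [Finset.mem_filter]
      refine ⟨Finset.mem_univ _, ?_⟩
      rw [hg, Matrix.trace_fin_two_of]
      ring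
    · apply Prod.ext
      · simp [hg]
      · apply Units.ext
        simp [hg]

theorem card_S_nat : Fintype.card S2 =
    Fintype.card F * (Fintype.card F - 1) * (Fintype.card F + 1) := by
  have h := card_S_real (F := F)
  rw [Nat.card_eq_fintype_card] at h
  have h1 : 1 ≤ Fintype.card F := Fintype.card_pos
  have h2 : ((Fintype.card S2 : ℕ) : ℝ) =
      ((Fintype.card F * (Fintype.card F - 1) * (Fintype.card F + 1) : ℕ) : ℝ) := by
    rw [h]
    push_cast [Nat.cast_sub h1]
    ring
  exact_mod_cast h2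

/-- Double counting for a transitive action. -/
theorem dcount {G₀ : Type*} [Group G₀] [Fintype G₀] {X : Type*} [Fintype X] [DecidableEq X]
    (act : G₀ → X → X) (hmul : ∀ g h x, act (g * h) x = act g (act h x))
    (htrans : ∀ x y, ∃ g, act g x = y) (x y : X) :
    (Finset.univ.filter (fun g => act g x = y)).card * Fintype.card X = Fintype.card G₀ := by
  have hle : ∀ y y' : X, (Finset.univ.filter (fun g => act g x = y)).card ≤
      (Finset.univ.filter (fun g => act g x = y')).card := by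
    intro y y'
    obtain ⟨g₀, hg₀⟩ := htrans y y'
    apply Finset.card_le_card_of_injOn (fun g => g₀ * g)
    · intro g hg
      simp only [Finset.coe_filter, Finset.mem_univ, true_and, Set.mem_setOf_eq] at hg ⊢
      rw [hmul, hg, hg₀]
    · intro a _ b _ hab
      exact mul_left_cancel hab
  have heq : ∀ y' : X, (Finset.univ.filter (fun g => act g x = y')).card =
      (Finset.univ.filter (fun g => act g x = y)).card := fun y' => le_antisymm (hle y' y) (hle y y')
  have hsum := Finset.card_eq_sum_card_fiberwise (f := fun g => act g x) (s := Finset.univ)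
    (t := Finset.univ) (fun g _ => Finset.mem_coe.mpr (Finset.mem_univ _))
  rw [Finset.sum_congr rfl (fun y' _ => heq y'), Finset.sum_const, Finset.card_univ,
    Finset.card_univ, smul_eq_mul] at hsum
  rw [mul_comm]
  exact hsum.symm

/-- The number of elements conjugating an elliptic element to another one of the same trace. -/
theorem conj_count (h2 : (2 : F) ≠ 0) (c y : S2) (hc : ¬ IsSquare ((c : M2).trace ^ 2 - 4))
    (hy : (y : M2).trace = (c : M2).trace) :
    (Finset.univ.filter (fun x : S2 => x * c * x⁻¹ = y)).card = Fintype.card F + 1 := by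
  have h4 : (c : M2).trace ^ 2 ≠ 4 := by
    intro h
    apply hc
    rw [h, sub_self]
    exact ⟨0, by ring⟩
  have key := dcount (G₀ := S2) (X := {g : S2 // (g : M2).trace = (c : M2).trace})
    (fun x g => ⟨x * g.1 * x⁻¹, (trace_conj_mul x g.1).trans g.2⟩)
    (fun g h x => Subtype.ext (by simp only [_root_.mul_inv_rev]; group))
    (fun x y => by
      obtain ⟨R, hR⟩ := Cfsg.Agent.S2455.sl_conj h2 x.1 y.1 (x.2.trans y.2.symm) (by rw [x.2]; exact h4)
      exact ⟨R, Subtype.ext hR⟩)
    ⟨c, rfl⟩ ⟨y, hy⟩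
  have e : (Finset.univ.filter (fun x : S2 => x * c * x⁻¹ = y)) =
      Finset.univ.filter (fun x : S2 =>
        (⟨x * c * x⁻¹, (trace_conj_mul x c).trans rfl⟩ :
          {g : S2 // (g : M2).trace = (c : M2).trace}) = ⟨y, hy⟩) := by
    ext x
    simp only [Finset.mem_filter, Finset.mem_univ, true_and, Subtype.mk.injEq]
  have hX : Fintype.card {g : S2 // (g : M2).trace = (c : M2).trace} =
      Fintype.card F * (Fintype.card F - 1) := by
    rw [Fintype.card_subtype]
    exact card_trace_ell _ hc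
  rw [e]
  rw [hX, card_S_nat] at key
  have hq : 2 ≤ Fintype.card F := Fintype.one_lt_card
  have hpos : 0 < Fintype.card F * (Fintype.card F - 1) :=
    Nat.mul_pos (by omega) (by omega)
  apply Nat.eq_of_mul_eq_mul_right hpos
  rw [key]
  ring

end Count

section Torus

variable [Fintype F] [DecidableEq F] [Fintype (Matrix.SpecialLinearGroup (Fin 2) F)]

theorem center_iff (g : S2) : g ∈ Subgroup.center S2 ↔ g = 1 ∨ g = negOne := by
  constructor
  · intro hg
    rw [Subgroup.mem_center_iff] at hg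
    have k1 := hg (uS 1)
    have k2 := hg J0
    obtain ⟨u00, u01, u10, u11⟩ := uS_entries (1 : F)
    have a00 := congrArg (fun x : S2 => (x : M2) 0 0) k1
    have a01 := congrArg (fun x : S2 => (x : M2) 0 1) k1
    have b00 := congrArg (fun x : S2 => (x : M2) 0 0) k2
    simp only [mul_entries, u00, u01, u10, u11] at a00 a01
    simp only [mul_entries, J0_00, J0_01, J0_10, J0_11] at b00
    have h10 : (g : M2) 1 0 = 0 := by linear_combination a00
    have h11 : (g : M2) 1 1 = (g : M2) 0 0 := by linear_combination a01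
    have h01 : (g : M2) 0 1 = 0 := by linear_combination -b00 - h10
    have hdet := det_entries g
    rw [h01, h11] at hdet
    have h5 : ((g : M2) 0 0 - 1) * ((g : M2) 0 0 + 1) = 0 := by linear_combination hdet
    obtain ⟨o1, o2, o3, o4⟩ := one_entries (F := F)
    rcases mul_eq_zero.mp h5 with h6 | h6
    · left
      have h00 : (g : M2) 0 0 = 1 := sub_eq_zero.mp h6
      exact ext2 g 1 (by rw [h00, o1]) (by rw [h01, o2]) (by rw [h10, o3]) (by rw [h11, h00, o4])
    · right
      have h00 : (g : M2) 0 0 = -1 := by linear_combination h6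
      exact ext2 g negOne (by rw [h00, negOne_00]) (by rw [h01, negOne_01])
        (by rw [h10, negOne_10]) (by rw [h11, h00, negOne_11])
  · rintro (rfl | rfl)
    · exact Subgroup.one_mem _
    · rw [negOne_eq]
      exact eu_center (-1) neg_one_unit_inv

theorem pow_torus (C : Subgroup S2) (hcard : Nat.card C = Fintype.card F + 1) (c : S2)
    (hc : c ∈ C) : c ^ (Fintype.card F + 1) = 1 := by
  have h := pow_card_eq_one' (G := C) (x := ⟨c, hc⟩)
  rw [hcard] at h
  have h2 := congrArg Subtype.val h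
  simpa using h2

theorem negOne_mem_torus (hodd : Odd (Fintype.card F)) (C : Subgroup S2)
    (hcard : Nat.card C = Fintype.card F + 1) : (negOne : S2) ∈ C := by
  have h2 := two_ne_of_odd hodd
  have hdvd : 2 ∣ Nat.card C := by
    rw [hcard]
    obtain ⟨m, hm⟩ := hodd
    exact ⟨m + 1, by omega⟩
  haveI : Fact (Nat.Prime 2) := ⟨Nat.prime_two⟩
  obtain ⟨x, hx⟩ := exists_prime_orderOf_dvd_card' 2 hdvd
  have hx2 : x ^ 2 = 1 := by
    have := pow_orderOf_eq_one x
    rwa [hx] at this
  have hx1 : x ≠ 1 := by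
    intro h
    rw [h, orderOf_one] at hx
    omega
  have e : (x : S2) = negOne := by
    apply eq_negOne_of_sq h2
    · have := congrArg Subtype.val hx2
      rw [sq] at this
      simpa using this
    · intro h
      exact hx1 (Subtype.ext h)
  rw [← e]
  exact x.2

/-- An element with split regular characteristic polynomial is conjugate to a diagonal one. -/
theorem split_conj (h2 : (2 : F) ≠ 0) (g : S2) (s : F) (hs : (g : M2).trace ^ 2 - 4 = s * s)
    (hs0 : s ≠ 0) : ∃ (a : Fˣ) (R : S2), a⁻¹ ≠ a ∧ R * g * R⁻¹ = eu a 0 := by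
  have h4' : (4 : F) ≠ 0 := by
    have h : (4 : F) = 2 * 2 := by norm_num
    rw [h]
    exact mul_ne_zero h2 h2
  have ha : (((g : M2).trace + s) / 2) * (((g : M2).trace - s) / 2) = 1 := by
    field_simp
    linear_combination hs
  have ha0 : ((g : M2).trace + s) / 2 ≠ 0 := left_ne_zero_of_mul_eq_one ha
  have hinv : ((Units.mk0 _ ha0)⁻¹ : Fˣ).val = ((g : M2).trace - s) / 2 := by
    rw [Units.val_inv_eq_inv_val, Units.val_mk0]
    exact inv_eq_of_mul_eq_one_right ha
  have hne : (Units.mk0 _ ha0)⁻¹ ≠ Units.mk0 _ ha0 := by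
    intro h
    have h5 := congrArg Units.val h
    rw [hinv, Units.val_mk0] at h5
    apply hs0
    field_simp at h5
    have h6 : 2 * s = 0 := by linear_combination -h5
    rcases mul_eq_zero.mp h6 with h7 | h7
    · exact absurd h7 h2
    · exact h7
  have h4 : (g : M2).trace ^ 2 ≠ 4 := by
    intro h
    apply hs0
    have : s * s = 0 := by linear_combination -hs + h
    exact mul_self_eq_zero.mp this
  have htr : (g : M2).trace = ((eu (Units.mk0 _ ha0) 0 : S2) : M2).trace := by
    obtain ⟨e00, e01, e10, e11⟩ := eu_entries (Units.mk0 _ ha0) (0 : F)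
    rw [Matrix.trace_fin_two ((eu (Units.mk0 _ ha0) 0 : S2) : M2), e00, e11, hinv, Units.val_mk0]
    field_simp
    ring
  obtain ⟨R, hR⟩ := Cfsg.Agent.S2455.sl_conj h2 g _ htr h4
  exact ⟨Units.mk0 _ ha0, R, hne, hR⟩

theorem ell_of_pow (h2 : (2 : F) ≠ 0) (c : S2) (hpow : c ^ (Fintype.card F + 1) = 1) (h1 : c ≠ 1)
    (hm1 : c ≠ negOne) : ¬ IsSquare ((c : M2).trace ^ 2 - 4) := by
  rintro ⟨s, hs⟩
  by_cases hs0 : s = 0
  · have ht : (c : M2).trace ^ 2 = 4 := by
      rw [hs0] at hs
      linear_combination hs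
    obtain ⟨e, he, hte⟩ := half_unit h2 _ ht
    have hee := unit_sq he
    by_cases hns : Cfsg.Agent.Lib_helper8_GL2.NonScalar (c : M2)
    · obtain ⟨R, b, hb, hR⟩ := unip_normal c hns e he hte
      have hp : (eu e b) ^ (Fintype.card F + 1) = 1 := by
        rw [← hR, conj_pow, hpow]
        group
      have hcomm : Commute (eu e (0 : F)) (uS ((e : F) * b)) :=
        ((Subgroup.mem_center_iff.mp (eu_center e he)) _).symm
      rw [eu_mul e he b, hcomm.mul_pow, eu0_pow, uS_eq_eu, eu1_pow] at hp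
      have h01 := congrArg (fun x : S2 => (x : M2) 0 1) hp
      obtain ⟨e00, e01, e10, e11⟩ := eu_entries (e ^ (Fintype.card F + 1)) (0 : F)
      obtain ⟨f00, f01, f10, f11⟩ := eu_entries (1 : Fˣ)
        (((Fintype.card F + 1 : ℕ) : F) * ((e : F) * b))
      obtain ⟨o1, o2, o3, o4⟩ := one_entries (F := F)
      simp only [mul_entries, e00, e01, f01, f11, o2] at h01
      have hq : ((Fintype.card F + 1 : ℕ) : F) = 1 := by
        push_cast
        rw [FiniteField.cast_card_eq_zero, zero_add]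
      rw [hq, one_mul, zero_mul, add_zero] at h01
      rcases mul_eq_zero.mp h01 with h5 | h5
      · exact (e ^ (Fintype.card F + 1)).ne_zero h5
      · rcases mul_eq_zero.mp h5 with h6 | h6
        · exact e.ne_zero h6
        · exact hb h6
    · have hc := scalar_eq h2 e he c hte hns
      have h5 : ((e : F) - 1) * ((e : F) + 1) = 0 := by linear_combination hee
      rcases mul_eq_zero.mp h5 with h6 | h6
      · apply h1
        have he1 : e = 1 := by
          apply Units.ext
          rw [Units.val_one]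
          exact sub_eq_zero.mp h6
        rw [hc, he1, eu1_zero]
      · apply hm1
        have he1 : e = -1 := by
          apply Units.ext
          rw [Units.val_neg, Units.val_one]
          linear_combination h6
        rw [hc, he1, negOne_eq]
  · obtain ⟨a, R, ha, hR⟩ := split_conj h2 c s hs hs0
    have hp : (eu a (0 : F)) ^ (Fintype.card F + 1) = 1 := by
      rw [← hR, conj_pow, hpow]
      group
    rw [eu0_pow] at hp
    have h00 := congrArg (fun x : S2 => (x : M2) 0 0) hp
    obtain ⟨e00, e01, e10, e11⟩ := eu_entries (a ^ (Fintype.card F + 1)) (0 : F)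
    obtain ⟨o1, o2, o3, o4⟩ := one_entries (F := F)
    simp only [e00, o1] at h00
    have hpow1 : a ^ (Fintype.card F + 1) = 1 := Units.ext (by rw [h00, Units.val_one])
    have hq1 : a ^ (Fintype.card F - 1) = 1 := by
      rw [← Fintype.card_units]
      exact pow_card_eq_one
    have hq : 1 ≤ Fintype.card F := Fintype.card_pos
    have hsplit : Fintype.card F + 1 = (Fintype.card F - 1) + 2 := by omega
    rw [hsplit, pow_add, hq1, one_mul] at hpow1
    apply ha
    rw [inv_eq_iff_mul_eq_one, ← sq]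
    exact hpow1

theorem torus_comm (C : Subgroup S2) (hC : IsCyclic C) (a b : S2) (ha : a ∈ C) (hb : b ∈ C) :
    a * b = b * a := by
  have := hC
  obtain ⟨γ, hγ⟩ := IsCyclic.exists_generator (α := C)
  obtain ⟨m, hm⟩ := Subgroup.mem_zpowers_iff.mp (hγ ⟨a, ha⟩)
  obtain ⟨n, hn⟩ := Subgroup.mem_zpowers_iff.mp (hγ ⟨b, hb⟩)
  have h : (⟨a, ha⟩ : C) * ⟨b, hb⟩ = ⟨b, hb⟩ * ⟨a, ha⟩ := by
    rw [← hm, ← hn, ← _root_.zpow_add, ← _root_.zpow_add, add_comm]
  exact congrArg Subtype.val h

/-- Non-central elements of the torus are elliptic. -/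
theorem torus_ell (hodd : Odd (Fintype.card F)) (C : Subgroup S2)
    (hcard : Nat.card C = Fintype.card F + 1) (c : S2) (hc : c ∈ C)
    (hnc : c ∉ Subgroup.center S2) : ¬ IsSquare ((c : M2).trace ^ 2 - 4) := by
  apply ell_of_pow (two_ne_of_odd hodd) c (pow_torus C hcard c hc)
  · intro h
    exact hnc ((center_iff c).mpr (Or.inl h))
  · intro h
    exact hnc ((center_iff c).mpr (Or.inr h))

theorem ne_inv_of_noncentral (h2 : (2 : F) ≠ 0) (c : S2) (hnc : c ∉ Subgroup.center S2) :
    c ≠ c⁻¹ := by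
  intro h
  apply hnc
  rw [center_iff]
  by_cases h1 : c = 1
  · left
    exact h1
  · right
    apply eq_negOne_of_sq h2 c _ h1
    nth_rewrite 2 [h]
    exact mul_inv_cancel c

theorem ne4_of_not_sq {t : F} (h : ¬ IsSquare (t ^ 2 - 4)) : t ^ 2 ≠ 4 := by
  intro h4
  apply h
  rw [h4, sub_self]
  exact ⟨0, by ring⟩

end Torus

section Virtual

/-- A virtual character of norm one and positive degree is an irreducible character. -/
theorem irr_of_virtual {G : Type u} [Group G] [Fintype G] {f : G → ℂ} (hf : IsClassFunction G f)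
    (hint : ∀ χ, IsIrrCharacter G χ → ∃ n : ℤ, classInner f χ = n)
    (hnorm : classInner f f = 1) (r : ℝ) (hr : 0 < r) (h1 : f 1 = r) : IsIrrCharacter G f := by
  have hne : f ≠ 0 := by
    rintro rfl
    rw [classInner_zero_left] at hnorm
    exact zero_ne_one hnorm
  have hex : ∃ χ, IsIrrCharacter G χ ∧ classInner f χ ≠ 0 := by
    by_contra hcon
    push Not at hcon
    exact hne (eq_zero_of_forall_irr_inner_eq_zero f hf hcon)
  obtain ⟨χ, hχ, hχne⟩ := hex
  obtain ⟨n, hn⟩ := hint χ hχ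
  have hn0 : n ≠ 0 := by
    rintro rfl
    apply hχne
    rw [hn]
    simp
  have hh : classInner (f - (n : ℂ) • χ) (f - (n : ℂ) • χ) = 1 - (n : ℂ) ^ 2 := by
    simp only [classInner_sub_left, classInner_sub_right, classInner_smul_left,
      classInner_smul_right]
    rw [hnorm, irr_inner_self hχ, ← classInner_conj_symm f χ, hn]
    simp only [map_intCast]
    ring
  have hge : (0 : ℝ) ≤ 1 - (n : ℝ) ^ 2 := by
    rw [classInner_self_eq] at hh
    have h3 : (((Nat.card G : ℝ)⁻¹ * ∑ g : G, ‖(f - (n : ℂ) • χ) g‖ ^ 2 : ℝ) : ℂ) =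
        ((1 - (n : ℝ) ^ 2 : ℝ) : ℂ) := by
      push_cast
      push_cast at hh
      exact hh
    have h4 : (Nat.card G : ℝ)⁻¹ * ∑ g : G, ‖(f - (n : ℂ) • χ) g‖ ^ 2 = 1 - (n : ℝ) ^ 2 := by
      exact_mod_cast h3
    rw [← h4]
    positivity
  have hn2 : n ^ 2 ≤ 1 := by
    have : (n : ℝ) ^ 2 ≤ 1 := by linarith
    exact_mod_cast this
  have hn1 : n = 1 ∨ n = -1 := by
    have h5 : -1 ≤ n ∧ n ≤ 1 := by
      constructor <;> nlinarith
    omega
  have hzero : f - (n : ℂ) • χ = 0 := by
    apply classInner_self_eq_zero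
    rw [hh]
    rcases hn1 with rfl | rfl <;> norm_num
  have hfeq : f = (n : ℂ) • χ := sub_eq_zero.mp hzero
  rcases hn1 with rfl | rfl
  · rw [hfeq]
    simpa using hχ
  · exfalso
    obtain ⟨m, hm, hm1⟩ := irr_apply_one_pos hχ
    have h6 := congrFun hfeq 1
    rw [h1, Pi.smul_apply, hm1] at h6
    have h7 : (r : ℂ) = ((-(m : ℝ) : ℝ) : ℂ) := by
      rw [h6]
      push_cast
      simp
    have h8 : r = -(m : ℝ) := by exact_mod_cast h7
    have : (0 : ℝ) < m := by exact_mod_cast hm
    linarith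

/-- Central twist of an induced function. -/
theorem ind_central {G : Type u} [Group G] [Fintype G] (H : Subgroup G) (φ : H → ℂ) (z : G)
    (hz : z ∈ H) (hzc : z ∈ Subgroup.center G) (lam : ℂ)
    (hφ : ∀ h : H, φ (⟨z, hz⟩ * h) = lam * φ h) (g : G) :
    indFun H φ (z * g) = lam * indFun H φ g := by
  rw [indFun_apply, indFun_apply]
  have hR : lam * ((Nat.card H : ℂ)⁻¹ * ∑ x : G, extendByZero H φ (x⁻¹ * g * x)) =
      (Nat.card H : ℂ)⁻¹ * ∑ x : G, lam * extendByZero H φ (x⁻¹ * g * x) := by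
    rw [← Finset.mul_sum]
    ring
  rw [hR]
  congr 1
  apply Finset.sum_congr rfl
  intro x _
  have e : x⁻¹ * (z * g) * x = z * (x⁻¹ * g * x) := by
    have := Subgroup.mem_center_iff.mp hzc x⁻¹
    calc x⁻¹ * (z * g) * x = (x⁻¹ * z) * g * x := by group
      _ = (z * x⁻¹) * g * x := by rw [this]
      _ = z * (x⁻¹ * g * x) := by group
  rw [e]
  by_cases hm : x⁻¹ * g * x ∈ H
  · rw [extendByZero_mem H _ hm, extendByZero_mem H _ (H.mul_mem hz hm)]
    exact hφ ⟨_, hm⟩
  · have hm' : z * (x⁻¹ * g * x) ∉ H := by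
      intro h
      apply hm
      have := H.mul_mem (H.inv_mem hz) h
      rwa [inv_mul_cancel_left] at this
    rw [extendByZero_not_mem H _ hm, extendByZero_not_mem H _ hm', mul_zero]

end Virtual

section Values

variable [Fintype F] [DecidableEq F] [Fintype (Matrix.SpecialLinearGroup (Fin 2) F)]

/-- The function induced from a linear character of the torus. -/
noncomputable def If (C : Subgroup S2) (θ : C →* ℂˣ) : S2 → ℂ :=
  indFun C (fun c : C => ((θ c : ℂˣ) : ℂ))

theorem If_char (C : Subgroup S2) (θ : C →* ℂˣ) : IsCharacter S2 (If C θ) :=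
  isCharacter_indFun C (isCharacter_of_monoidHom θ)

theorem If_class (C : Subgroup S2) (θ : C →* ℂˣ) : IsClassFunction S2 (If C θ) :=
  isClassFunction_indFun C _

theorem If_one (C : Subgroup S2) (hcard : Nat.card C = Fintype.card F + 1) (θ : C →* ℂˣ) :
    If C θ 1 = (Fintype.card F : ℂ) * ((Fintype.card F : ℂ) - 1) := by
  unfold If
  rw [indFun_apply_one]
  simp only [map_one, Units.val_one, mul_one]
  have h := Subgroup.card_mul_index C
  rw [hcard, Nat.card_eq_fintype_card, card_S_nat] at h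
  have hq : 1 ≤ Fintype.card F := Fintype.card_pos
  have h3 : C.index = Fintype.card F * (Fintype.card F - 1) := by
    apply Nat.eq_of_mul_eq_mul_left (show 0 < Fintype.card F + 1 by omega)
    rw [h]
    ring
  rw [h3]
  push_cast [Nat.cast_sub hq]
  ring

theorem If_central (C : Subgroup S2) (θ : C →* ℂˣ) (z : S2) (hz : z ∈ C)
    (hzc : z ∈ Subgroup.center S2) (g : S2) :
    If C θ (z * g) = ((θ ⟨z, hz⟩ : ℂˣ) : ℂ) * If C θ g := by
  unfold If
  apply ind_central C _ z hz hzc
  intro h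
  rw [map_mul, Units.val_mul]

theorem If_split (hodd : Odd (Fintype.card F)) (C : Subgroup S2)
    (hcard : Nat.card C = Fintype.card F + 1) (θ : C →* ℂˣ) (g : S2)
    (hnc : g ∉ Subgroup.center S2) (hsq : IsSquare ((g : M2).trace ^ 2 - 4)) :
    If C θ g = 0 := by
  unfold If
  rw [indFun_apply]
  have hz : ∀ x : S2, extendByZero C (fun c : C => ((θ c : ℂˣ) : ℂ)) (x⁻¹ * g * x) = 0 := by
    intro x
    apply extendByZero_not_mem
    intro hm
    have hnc' : x⁻¹ * g * x ∉ Subgroup.center S2 := by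
      intro h
      apply hnc
      have h5 := (inferInstance : (Subgroup.center S2).Normal).conj_mem _ h x
      have e : x * (x⁻¹ * g * x) * x⁻¹ = g := by group
      rwa [e] at h5
    have hell := torus_ell hodd C hcard _ hm hnc'
    apply hell
    have ht : ((x⁻¹ * g * x : S2) : M2).trace = (g : M2).trace := by
      have := trace_conj_mul x⁻¹ g
      rwa [inv_inv] at this
    rw [ht]
    exact hsq
  rw [Finset.sum_congr rfl (fun x _ => hz x), Finset.sum_const_zero, mul_zero]

theorem If_mem (hodd : Odd (Fintype.card F)) (C : Subgroup S2) (hC : IsCyclic C)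
    (hcard : Nat.card C = Fintype.card F + 1) (θ : C →* ℂˣ) (c : S2) (hc : c ∈ C)
    (hnc : c ∉ Subgroup.center S2) :
    If C θ c = ((θ ⟨c, hc⟩ : ℂˣ) : ℂ) + (((θ ⟨c, hc⟩)⁻¹ : ℂˣ) : ℂ) := by
  have h2 := two_ne_of_odd hodd
  have hell := torus_ell hodd C hcard c hc hnc
  have h4 := ne4_of_not_sq hell
  have hne := ne_inv_of_noncentral h2 c hnc
  unfold If
  rw [indFun_apply]
  have hsum : ∑ x : S2, extendByZero C (fun c : C => ((θ c : ℂˣ) : ℂ)) (x⁻¹ * c * x) =
      ∑ x : S2, extendByZero C (fun c : C => ((θ c : ℂˣ) : ℂ)) (x * c * x⁻¹) := by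
    rw [← Equiv.sum_comp (Equiv.inv S2)]
    apply Finset.sum_congr rfl
    intro x _
    simp only [Equiv.inv_apply, inv_inv]
  rw [hsum]
  have hpt : ∀ x : S2, extendByZero C (fun c : C => ((θ c : ℂˣ) : ℂ)) (x * c * x⁻¹) =
      (if x * c * x⁻¹ = c then ((θ ⟨c, hc⟩ : ℂˣ) : ℂ) else 0) +
      (if x * c * x⁻¹ = c⁻¹ then (((θ ⟨c, hc⟩)⁻¹ : ℂˣ) : ℂ) else 0) := by
    intro x
    by_cases hm : x * c * x⁻¹ ∈ C
    · have hcomm := torus_comm C hC _ _ hm hc
      rcases eq_or_inv_of_comm h2 _ c hcomm (trace_conj_mul x c) h4 with h | h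
      · rw [if_pos h, if_neg (by rw [h]; exact hne), add_zero, extendByZero_mem C _ hm]
        have e : (⟨x * c * x⁻¹, hm⟩ : C) = ⟨c, hc⟩ := Subtype.ext h
        rw [e]
      · rw [if_neg (by rw [h]; exact hne.symm), if_pos h, zero_add, extendByZero_mem C _ hm]
        have e : (⟨x * c * x⁻¹, hm⟩ : C) = (⟨c, hc⟩ : C)⁻¹ := Subtype.ext h
        rw [e, map_inv]
    · rw [extendByZero_not_mem C _ hm, if_neg, if_neg, add_zero]
      · intro h
        apply hm
        rw [h]
        exact C.inv_mem hc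
      · intro h
        apply hm
        rw [h]
        exact hc
  rw [Finset.sum_congr rfl (fun x _ => hpt x)]
  simp only [Finset.sum_add_distrib, Finset.sum_ite, Finset.sum_const, Finset.sum_const_zero,
    add_zero, nsmul_eq_mul]
  rw [conj_count h2 c c hell rfl, conj_count h2 c c⁻¹ hell (trace_inv c), hcard]
  have hq : ((Fintype.card F + 1 : ℕ) : ℂ) ≠ 0 := Nat.cast_ne_zero.mpr (Nat.succ_ne_zero _)
  simp only [mul_zero, add_zero]
  field_simp

/-- The principal series function. -/
noncomputable def Rf (α : MulChar F ℂ) : S2 → ℂ :=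
  indFun BS (fun b : BS => α (((b : S2) : M2) 0 0))

theorem Rf_class (α : MulChar F ℂ) : IsClassFunction S2 (Rf α) := isClassFunction_indFun _ _

theorem Rf_char (α : MulChar F ℂ) : IsCharacter S2 (Rf α) := isCharacter_indFun _ (theta_char α)

theorem Rf_scalar (α : MulChar F ℂ) (e : Fˣ) (he : e⁻¹ = e) :
    Rf α (eu e 0) = ((Fintype.card F : ℂ) + 1) * α (e : F) := by
  obtain ⟨e00, e01, e10, e11⟩ := eu_entries e (0 : F)
  unfold Rf
  rw [ind_SL2_psi, e00, e01, e10, e11, he, if_pos rfl]
  have h : ∀ t : F, (if (0 : F) * t ^ 2 + ((e : F) - (e : F)) * t - 0 = 0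
      then α ((0 : F) * t + (e : F)) else 0) = α (e : F) := by
    intro t
    rw [if_pos (by ring), zero_mul, zero_add]
  rw [Finset.sum_congr rfl (fun t _ => h t), Finset.sum_const, Finset.card_univ, nsmul_eq_mul]
  ring

theorem Rf_unip (α : MulChar F ℂ) (e : Fˣ) (he : e⁻¹ = e) (b : F) (hb : b ≠ 0) :
    Rf α (eu e b) = α (e : F) := by
  obtain ⟨e00, e01, e10, e11⟩ := eu_entries e b
  unfold Rf
  rw [ind_SL2_psi, e00, e01, e10, e11, he, if_pos rfl]
  have h : ∀ t : F, (if (0 : F) * t ^ 2 + ((e : F) - (e : F)) * t - b = 0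
      then α ((0 : F) * t + (e : F)) else 0) = 0 := by
    intro t
    rw [if_neg]
    intro h
    apply hb
    linear_combination -h
  rw [Finset.sum_congr rfl (fun t _ => h t), Finset.sum_const_zero, add_zero]

theorem Rf_diag (α : MulChar F ℂ) (a : Fˣ) (ha : a⁻¹ ≠ a) :
    Rf α (eu a 0) = α (a : F) + α ((a⁻¹ : Fˣ) : F) := by
  obtain ⟨e00, e01, e10, e11⟩ := eu_entries a (0 : F)
  unfold Rf
  rw [ind_SL2_psi, e00, e01, e10, e11, if_pos rfl]
  congr 1
  have hne : ((a⁻¹ : Fˣ) : F) - (a : F) ≠ 0 := by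
    intro h
    apply ha
    apply Units.ext
    exact sub_eq_zero.mp h
  rw [Finset.sum_eq_single 0]
  · rw [if_pos (by ring), zero_mul, zero_add]
  · intro t _ ht
    rw [if_neg]
    intro h
    apply ht
    have h5 : (((a⁻¹ : Fˣ) : F) - (a : F)) * t = 0 := by linear_combination h
    rcases mul_eq_zero.mp h5 with h6 | h6
    · exact absurd h6 hne
    · exact h6
  · intro h
    exact absurd (Finset.mem_univ _) h

theorem Rf_ell (α : MulChar F ℂ) (g : S2) (hns : ¬ IsSquare ((g : M2).trace ^ 2 - 4)) :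
    Rf α g = 0 := by
  unfold Rf
  rw [ind_SL2_psi, if_neg (ell_10_ne _ hns g rfl), zero_add]
  apply Finset.sum_eq_zero
  intro t _
  rw [if_neg]
  intro h
  apply hns
  have hdet := det_entries g
  refine ⟨2 * (g : M2) 1 0 * t + (g : M2) 1 1 - (g : M2) 0 0, ?_⟩
  rw [Matrix.trace_fin_two]
  linear_combination 4 * hdet - 4 * (g : M2) 1 0 * h

theorem Rf_trace2 (α : MulChar F ℂ) (e : Fˣ) (he : e⁻¹ = e) (g : S2)
    (ht : (g : M2).trace = 2 * (e : F)) (hns : Cfsg.Agent.Lib_helper8_GL2.NonScalar (g : M2)) :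
    Rf α g = α (e : F) := by
  obtain ⟨R, b, hb, hR⟩ := unip_normal g hns e he ht
  rw [← Rf_class α g R, hR, Rf_unip α e he b hb]

theorem Rf_one_split (h2 : (2 : F) ≠ 0) (g : S2) (s : F)
    (hs : (g : M2).trace ^ 2 - 4 = s * s) (hs0 : s ≠ 0) : Rf (1 : MulChar F ℂ) g = 2 := by
  obtain ⟨a, R, ha, hR⟩ := split_conj h2 g s hs hs0
  rw [← Rf_class 1 g R, hR, Rf_diag 1 a ha, MulChar.one_apply_coe, MulChar.one_apply_coe]
  norm_num

/-- The virtual character `(R(1) - 2) R(α)`, supported on the elements of trace `±2`. -/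
noncomputable def Df (α : MulChar F ℂ) : S2 → ℂ := fun g => (Rf 1 g - 2) * Rf α g

theorem Df_class (α : MulChar F ℂ) : IsClassFunction S2 (Df α) := by
  intro g h
  unfold Df
  rw [Rf_class 1 g h, Rf_class α g h]

theorem Df_scalar (α : MulChar F ℂ) (e : Fˣ) (he : e⁻¹ = e) :
    Df α (eu e 0) = ((Fintype.card F : ℂ) - 1) * ((Fintype.card F : ℂ) + 1) * α (e : F) := by
  unfold Df
  rw [Rf_scalar 1 e he, Rf_scalar α e he, MulChar.one_apply_coe]
  ring

theorem Df_trace2 (α : MulChar F ℂ) (e : Fˣ) (he : e⁻¹ = e) (g : S2)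
    (ht : (g : M2).trace = 2 * (e : F)) (hns : Cfsg.Agent.Lib_helper8_GL2.NonScalar (g : M2)) :
    Df α g = -α (e : F) := by
  unfold Df
  rw [Rf_trace2 1 e he g ht hns, Rf_trace2 α e he g ht hns, MulChar.one_apply_coe]
  ring

theorem Df_ne4 (h2 : (2 : F) ≠ 0) (α : MulChar F ℂ) (g : S2) (h4 : (g : M2).trace ^ 2 ≠ 4) :
    Df α g = 0 := by
  unfold Df
  by_cases hsq : IsSquare ((g : M2).trace ^ 2 - 4)
  · obtain ⟨s, hs⟩ := hsq
    have hs0 : s ≠ 0 := by
      rintro rfl
      apply h4
      linear_combination hs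
    rw [Rf_one_split h2 g s hs hs0, sub_self, zero_mul]
  · rw [Rf_ell α g hsq, mul_zero]

theorem Df_int (α : MulChar F ℂ) {χ : S2 → ℂ} (hχ : IsIrrCharacter S2 χ) :
    ∃ n : ℤ, classInner (Df α) χ = n := by
  have e : Df α = Rf 1 * Rf α - (2 : ℂ) • Rf α := by
    funext g
    simp only [Df, Pi.sub_apply, Pi.mul_apply, Pi.smul_apply, smul_eq_mul]
    ring
  obtain ⟨a, ha⟩ := classInner_nat (isCharacter_mul (Rf_char 1) (Rf_char α)) (isCharacter_of_irr hχ)
  obtain ⟨b, hb⟩ := classInner_nat (Rf_char α) (isCharacter_of_irr hχ)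
  refine ⟨(a : ℤ) - 2 * (b : ℤ), ?_⟩
  rw [e, classInner_sub_left, classInner_smul_left, ha, hb]
  push_cast
  ring

theorem Rf_negOne (α : MulChar F ℂ) (g : S2) :
    Rf α (negOne * g) = α (-1 : F) * Rf α g := by
  have hm : (negOne : S2) ∈ BS := by
    rw [negOne_eq]
    exact (eBS ((-1 : Fˣ), (0 : F))).2
  have hc : (negOne : S2) ∈ Subgroup.center S2 := (center_iff _).mpr (Or.inr rfl)
  unfold Rf
  apply ind_central BS _ negOne hm hc
  intro h
  have e : (((⟨negOne, hm⟩ * h : BS) : S2) : M2) 0 0 = (-1 : F) * ((h : S2) : M2) 0 0 := by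
    show ((negOne * (h : S2) : S2) : M2) 0 0 = _
    rw [mul_entries, negOne_00, negOne_01]
    ring
  rw [e, map_mul]

theorem Df_negOne (α : MulChar F ℂ) (g : S2) :
    Df α (negOne * g) = α (-1 : F) * Df α g := by
  unfold Df
  rw [Rf_negOne 1 g, Rf_negOne α g]
  have h1 : (1 : MulChar F ℂ) (-1 : F) = 1 := by
    have := MulChar.one_apply_coe (R' := ℂ) (-1 : Fˣ)
    rwa [Units.val_neg, Units.val_one] at this
  rw [h1]
  ring

end Values

section Norms

variable [Fintype F] [DecidableEq F] [Fintype (Matrix.SpecialLinearGroup (Fin 2) F)]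

theorem mulChar_norm (α : MulChar F ℂ) (e : Fˣ) : ‖α (e : F)‖ = 1 := by
  apply Complex.norm_eq_one_of_pow_eq_one (n := Fintype.card F - 1)
  · rw [← map_pow, ← Units.val_pow_eq_pow_val, ← Fintype.card_units, pow_card_eq_one,
      Units.val_one, map_one]
  · have := Fintype.one_lt_card (α := F)
    omega

theorem Df_norm (h2 : (2 : F) ≠ 0) (α : MulChar F ℂ) :
    classInner (Df α) (Df α) = 2 * (Fintype.card F : ℂ) := by
  have hsum : ∑ g : S2, ‖Df α g‖ ^ 2 = 2 * (Fintype.card F : ℝ) * (Nat.card S2 : ℝ) := by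
    have hU : ∀ g : S2, (g : M2).trace ^ 2 = 4 →
        Cfsg.Agent.Lib_helper8_GL2.NonScalar (g : M2) → ‖Df α g‖ ^ 2 = 1 := by
      intro g h4 hns
      obtain ⟨e, he, hte⟩ := half_unit h2 _ h4
      rw [Df_trace2 α e he g hte hns, norm_neg, mulChar_norm]
      norm_num
    have h0 : ∑ g ∈ Finset.univ.filter (fun g : S2 => ¬ (g : M2).trace ^ 2 = 4),
        ‖Df α g‖ ^ 2 = 0 := by
      apply Finset.sum_eq_zero
      intro g hg
      rw [Df_ne4 h2 α g (Finset.mem_filter.mp hg).2]
      simp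
    have hsc : ∀ e : Fˣ, e⁻¹ = e → ‖Df α (eu e 0)‖ ^ 2 =
        (((Fintype.card F : ℝ) - 1) * ((Fintype.card F : ℝ) + 1)) ^ 2 := by
      intro e he
      rw [Df_scalar α e he, norm_mul, mulChar_norm, mul_one]
      have h6 : ((Fintype.card F : ℂ) - 1) * ((Fintype.card F : ℂ) + 1) =
          ((((Fintype.card F : ℝ) - 1) * ((Fintype.card F : ℝ) + 1) : ℝ) : ℂ) := by
        push_cast
        ring
      rw [h6, Complex.norm_real, Real.norm_eq_abs, sq_abs]
    have hfr := sum_split h2 (fun g => ‖Df α g‖ ^ 2) 1 hU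
    simp only [hsc 1 inv_one, hsc (-1) neg_one_unit_inv] at hfr
    rw [h0] at hfr
    rw [hfr, card_S_real]
    ring
  rw [classInner_self_eq, hsum]
  have hne : (Nat.card S2 : ℂ) ≠ 0 := card_ne_zero
  push_cast
  field_simp

theorem one_ne_negOne (h2 : (2 : F) ≠ 0) : (1 : S2) ≠ negOne := by
  intro h
  have h00 := congrArg (fun x : S2 => (x : M2) 0 0) h
  simp only [(one_entries (F := F)).1, negOne_00] at h00
  apply h2
  linear_combination h00

theorem If_Df (hodd : Odd (Fintype.card F)) (C : Subgroup S2)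
    (hcard : Nat.card C = Fintype.card F + 1) (θ : C →* ℂˣ) (α : MulChar F ℂ)
    (hα : α (-1 : F) = ((θ ⟨negOne, negOne_mem_torus hodd C hcard⟩ : ℂˣ) : ℂ)) :
    classInner (If C θ) (Df α) = 2 * ((Fintype.card F : ℂ) - 1) := by
  have h2 := two_ne_of_odd hodd
  have hm := negOne_mem_torus hodd C hcard
  rw [classInner_def, Finset.sum_eq_add (1 : S2) negOne (one_ne_negOne h2)]
  · have hD1 : Df α 1 = ((Fintype.card F : ℂ) - 1) * ((Fintype.card F : ℂ) + 1) := by
      rw [← eu1_zero, Df_scalar α 1 inv_one, Units.val_one, map_one, mul_one]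
    have hDm : Df α negOne =
        ((Fintype.card F : ℂ) - 1) * ((Fintype.card F : ℂ) + 1) * α (-1 : F) := by
      rw [negOne_eq, Df_scalar α (-1) neg_one_unit_inv, Units.val_neg, Units.val_one]
    have hI1 := If_one C hcard θ
    have hIm : If C θ negOne = α (-1 : F) *
        ((Fintype.card F : ℂ) * ((Fintype.card F : ℂ) - 1)) := by
      have := If_central C θ negOne hm ((center_iff _).mpr (Or.inr rfl)) 1
      rwa [mul_one, hI1, ← hα] at this
    rw [hD1, hDm, hI1, hIm, inv_mul_eq_iff_eq_mul₀ card_ne_zero, card_S]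
    simp only [map_mul, map_sub, map_add, map_natCast, map_one]
    have hn : α (-1 : F) * conj (α (-1 : F)) = 1 :=
      Cfsg.Agent.Lib_helper8_GL2Irr.mulChar_mul_conj α (neg_ne_zero.mpr one_ne_zero)
    linear_combination ((Fintype.card F : ℂ) * ((Fintype.card F : ℂ) - 1) *
      (((Fintype.card F : ℂ) - 1) * ((Fintype.card F : ℂ) + 1))) * hn
  · intro g _ hg
    have hnc : g ∉ Subgroup.center S2 := by
      intro h
      rcases (center_iff g).mp h with h | h
      · exact hg.1 h
      · exact hg.2 h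
    by_cases h4 : (g : M2).trace ^ 2 = 4
    · rw [If_split hodd C hcard θ g hnc (by rw [h4, sub_self]; exact ⟨0, by ring⟩), zero_mul]
    · rw [Df_ne4 h2 α g h4, map_zero, mul_zero]
  · intro h
    exact absurd (Finset.mem_univ _) h
  · intro h
    exact absurd (Finset.mem_univ _) h

theorem theta_norm (C : Subgroup S2) (hcard : Nat.card C = Fintype.card F + 1) (θ : C →* ℂˣ)
    (c : C) : ‖((θ c : ℂˣ) : ℂ)‖ = 1 := by
  apply Complex.norm_eq_one_of_pow_eq_one (n := Fintype.card F + 1)
  · rw [← Units.val_pow_eq_pow_val, ← map_pow, ← hcard, pow_card_eq_one', map_one, Units.val_one]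
  · omega

theorem theta_negOne_sq (C : Subgroup S2) (θ : C →* ℂˣ) (hm : (negOne : S2) ∈ C) :
    ((θ ⟨negOne, hm⟩ : ℂˣ) : ℂ) ^ 2 = 1 := by
  rw [← Units.val_pow_eq_pow_val, ← map_pow]
  have : (⟨negOne, hm⟩ : C) ^ 2 = 1 := by
    apply Subtype.ext
    show (negOne : S2) ^ 2 = 1
    rw [negOne_eq, eu0_pow]
    have : ((-1 : Fˣ)) ^ 2 = 1 := by simp
    rw [this, eu1_zero]
  rw [this, map_one, Units.val_one]

theorem If_norm (hodd : Odd (Fintype.card F)) (C : Subgroup S2) (hC : IsCyclic C)
    (hcard : Nat.card C = Fintype.card F + 1) (θ : C →* ℂˣ) (hθ : ∃ c : C, θ c ^ 2 ≠ 1) :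
    classInner (If C θ) (If C θ) = 2 * (Fintype.card F : ℂ) - 3 := by
  classical
  haveI : Fintype C := Fintype.ofFinite C
  have h2 := two_ne_of_odd hodd
  have hm := negOne_mem_torus hodd C hcard
  have hfr : classInner (If C θ) (If C θ) =
      classInner (fun c : C => ((θ c : ℂˣ) : ℂ)) (fun h : C => If C θ h) :=
    frobenius_reciprocity C _ (If C θ) (If_class C θ)
  rw [hfr, classInner_def]
  have hsq : ∑ c : C, ((θ c : ℂˣ) : ℂ) ^ 2 = 0 := by
    obtain ⟨c₀, hc₀⟩ := hθ
    have h5 : ∑ c : C, ((θ c : ℂˣ) : ℂ) ^ 2 =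
        ((θ c₀ : ℂˣ) : ℂ) ^ 2 * ∑ c : C, ((θ c : ℂˣ) : ℂ) ^ 2 := by
      rw [Finset.mul_sum, ← Equiv.sum_comp (Equiv.mulLeft c₀)]
      apply Finset.sum_congr rfl
      intro c _
      rw [Equiv.coe_mulLeft, map_mul, Units.val_mul]
      ring
    have h6 : (((θ c₀ : ℂˣ) : ℂ) ^ 2 - 1) * ∑ c : C, ((θ c : ℂˣ) : ℂ) ^ 2 = 0 := by
      linear_combination -h5
    rcases mul_eq_zero.mp h6 with h7 | h7
    · exfalso
      apply hc₀
      apply Units.ext
      rw [Units.val_pow_eq_pow_val, Units.val_one]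
      linear_combination h7
    · exact h7
  have hn1 : (1 : C) ≠ ⟨negOne, hm⟩ := by
    intro h
    exact one_ne_negOne h2 (congrArg Subtype.val h)
  have hpt : ∀ c : C, ((θ c : ℂˣ) : ℂ) * conj (If C θ c) =
      (1 + ((θ c : ℂˣ) : ℂ) ^ 2) +
      (if c = 1 then (Fintype.card F : ℂ) * ((Fintype.card F : ℂ) - 1) - 2 else 0) +
      (if c = ⟨negOne, hm⟩ then (Fintype.card F : ℂ) * ((Fintype.card F : ℂ) - 1) - 2 else 0) := by
    intro c
    have hnorm := theta_norm C hcard θ c
    have hz0 : ((θ c : ℂˣ) : ℂ) ≠ 0 := (θ c).ne_zero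
    have hconj : conj ((θ c : ℂˣ) : ℂ) = (((θ c : ℂˣ) : ℂ))⁻¹ := (Complex.inv_eq_conj hnorm).symm
    by_cases hc1 : c = 1
    · rw [if_pos hc1, if_neg (by rw [hc1]; exact hn1), hc1, map_one, Units.val_one]
      show 1 * conj (If C θ (1 : S2)) = _
      rw [If_one C hcard θ]
      simp only [map_mul, map_sub, map_natCast, map_one]
      ring
    · by_cases hcn : c = ⟨negOne, hm⟩
      · rw [if_neg hc1, if_pos hcn, hcn]
        show _ * conj (If C θ negOne) = _
        have hIm : If C θ negOne = ((θ ⟨negOne, hm⟩ : ℂˣ) : ℂ) *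
            ((Fintype.card F : ℂ) * ((Fintype.card F : ℂ) - 1)) := by
          have := If_central C θ negOne hm ((center_iff _).mpr (Or.inr rfl)) 1
          rwa [mul_one, If_one C hcard θ] at this
        have hnn := theta_norm C hcard θ ⟨negOne, hm⟩
        have hmc : ((θ ⟨negOne, hm⟩ : ℂˣ) : ℂ) * conj ((θ ⟨negOne, hm⟩ : ℂˣ) : ℂ) = 1 := by
          rw [Complex.mul_conj', hnn]
          norm_num
        rw [hIm, theta_negOne_sq C θ hm]
        simp only [map_mul, map_sub, map_natCast, map_one]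
        linear_combination ((Fintype.card F : ℂ) * ((Fintype.card F : ℂ) - 1)) * hmc
      · have hnc : (c : S2) ∉ Subgroup.center S2 := by
          intro h
          rcases (center_iff _).mp h with h | h
          · exact hc1 (Subtype.ext h)
          · exact hcn (Subtype.ext h)
        rw [if_neg hc1, if_neg hcn, If_mem hodd C hC hcard θ c.1 c.2 hnc]
        simp only [Subtype.coe_eta, map_add, Units.val_inv_eq_inv_val, map_inv₀, hconj, inv_inv]
        field_simp
        ring
  rw [Finset.sum_congr rfl (fun c _ => hpt c)]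
  simp only [Finset.sum_add_distrib, Finset.sum_ite_eq', Finset.mem_univ, if_true,
    Finset.sum_const, Finset.card_univ, nsmul_eq_mul, mul_one]
  rw [hsq, ← Nat.card_eq_fintype_card, hcard]
  have hq : ((Fintype.card F : ℂ) + 1) ≠ 0 := Nat.cast_add_one_ne_zero _
  push_cast
  field_simp
  ring

end Norms

section Exist

variable [Fintype F] [DecidableEq F] [Fintype (Matrix.SpecialLinearGroup (Fin 2) F)]

theorem exists_cusp (hodd : Odd (Fintype.card F)) (C : Subgroup S2) (hC : IsCyclic C)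
    (hcard : Nat.card C = Fintype.card F + 1) (θ : C →* ℂˣ) (hθ : ∃ c : C, θ c ^ 2 ≠ 1) :
    ∃ χ : S2 → ℂ, IsIrrCharacter S2 χ ∧ χ 1 = (Fintype.card F : ℂ) - 1 ∧
      (∀ c : C, (c : S2) ∉ Subgroup.center S2 →
        χ c = -(((θ c : ℂˣ) : ℂ) + (((θ c)⁻¹ : ℂˣ) : ℂ))) ∧
      (∀ c : C, (c : S2) ∈ Subgroup.center S2 → ∀ g : S2,
        χ ((c : S2) * g) = ((θ c : ℂˣ) : ℂ) * χ g) ∧
      (∀ g : S2, (g : M2) 0 1 = 0 → (g : M2) 1 0 = 0 → (g : M2) 0 0 ^ 2 ≠ 1 → χ g = 0) ∧
      (∀ g : S2, (g : M2) 1 0 = 0 → (g : M2) 0 0 = 1 → (g : M2) 1 1 = 1 → (g : M2) 0 1 ≠ 0 →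
        χ g = -1) := by
  have h2 := two_ne_of_odd hodd
  have hm := negOne_mem_torus hodd C hcard
  have hθn := theta_negOne_sq C θ hm
  have hone : (1 : MulChar F ℂ) (-1 : F) = 1 := by
    have := MulChar.one_apply_coe (R' := ℂ) (-1 : Fˣ)
    rwa [Units.val_neg, Units.val_one] at this
  obtain ⟨α, hα⟩ : ∃ α : MulChar F ℂ, α (-1 : F) = ((θ ⟨negOne, hm⟩ : ℂˣ) : ℂ) := by
    have h5 : (((θ ⟨negOne, hm⟩ : ℂˣ) : ℂ) - 1) * (((θ ⟨negOne, hm⟩ : ℂˣ) : ℂ) + 1) = 0 := by
      linear_combination hθn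
    rcases mul_eq_zero.mp h5 with h6 | h6
    · refine ⟨1, ?_⟩
      rw [hone]
      linear_combination -h6
    · have hne : (-1 : F) ≠ 1 := by
        intro h
        apply h2
        linear_combination -h
      obtain ⟨α, hα⟩ := MulChar.exists_apply_ne_one_of_hasEnoughRootsOfUnity F ℂ hne
      refine ⟨α, ?_⟩
      have hsq : α (-1 : F) * α (-1 : F) = 1 := by
        rw [← map_mul]
        simp
      have h7 : (α (-1 : F) - 1) * (α (-1 : F) + 1) = 0 := by linear_combination hsq
      rcases mul_eq_zero.mp h7 with h8 | h8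
      · exact absurd (sub_eq_zero.mp h8) hα
      · linear_combination h8 - h6
  have hdeg : (Df α - If C θ) 1 = (Fintype.card F : ℂ) - 1 := by
    rw [Pi.sub_apply, ← eu1_zero, Df_scalar α 1 inv_one, eu1_zero, If_one C hcard θ,
      Units.val_one, map_one]
    ring
  refine ⟨Df α - If C θ, ?_, hdeg, ?_, ?_, ?_, ?_⟩
  · refine irr_of_virtual (isClassFunction_sub (Df_class α) (If_class C θ)) ?_ ?_
      ((Fintype.card F : ℝ) - 1) ?_ ?_
    · intro χ hχ
      obtain ⟨a, ha⟩ := Df_int α hχ
      obtain ⟨b, hb⟩ := classInner_nat (If_char C θ) (isCharacter_of_irr hχ)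
      exact ⟨a - b, by rw [classInner_sub_left, ha, hb]; push_cast; ring⟩
    · rw [classInner_sub_left, classInner_sub_right, classInner_sub_right, Df_norm h2 α,
        If_norm hodd C hC hcard θ hθ, If_Df hodd C hcard θ α hα,
        ← classInner_conj_symm (If C θ) (Df α), If_Df hodd C hcard θ α hα]
      simp only [map_mul, map_sub, map_natCast, map_one, map_ofNat]
      ring
    · have h1 : 1 < Fintype.card F := Fintype.one_lt_card
      have h1' : (1 : ℝ) < Fintype.card F := by exact_mod_cast h1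
      linarith
    · rw [hdeg]
      push_cast
      ring
  · intro c hnc
    have hell := torus_ell hodd C hcard c.1 c.2 hnc
    rw [Pi.sub_apply, Df_ne4 h2 α _ (ne4_of_not_sq hell), If_mem hodd C hC hcard θ c.1 c.2 hnc,
      zero_sub]
  · intro c hc g
    rcases (center_iff _).mp hc with h | h
    · have hc1 : c = 1 := Subtype.ext h
      rw [h, one_mul, hc1, map_one, Units.val_one, one_mul]
    · have hcn : c = ⟨negOne, hm⟩ := Subtype.ext h
      rw [h, Pi.sub_apply, Pi.sub_apply, Df_negOne,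
        If_central C θ negOne hm ((center_iff _).mpr (Or.inr rfl)), hcn, hα]
      ring
  · intro g h01 h10 h00
    have hdet := det_entries g
    rw [h01] at hdet
    have hsq : (g : M2).trace ^ 2 - 4 =
        ((g : M2) 0 0 - (g : M2) 1 1) * ((g : M2) 0 0 - (g : M2) 1 1) := by
      rw [Matrix.trace_fin_two]
      linear_combination 4 * hdet
    have hne : (g : M2) 0 0 - (g : M2) 1 1 ≠ 0 := by
      intro h
      apply h00
      have h11 : (g : M2) 1 1 = (g : M2) 0 0 := by linear_combination -h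
      rw [h11] at hdet
      linear_combination hdet
    have h4 : (g : M2).trace ^ 2 ≠ 4 := by
      intro h
      apply hne
      have h5 : ((g : M2) 0 0 - (g : M2) 1 1) * ((g : M2) 0 0 - (g : M2) 1 1) = 0 := by
        rw [← hsq, h]
        ring
      exact mul_self_eq_zero.mp h5
    have hnc : g ∉ Subgroup.center S2 := by
      intro h
      rcases (center_iff g).mp h with h | h
      · apply h00
        rw [h, (one_entries (F := F)).1]
        ring
      · apply h00
        rw [h, negOne_00]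
        ring
    rw [Pi.sub_apply, Df_ne4 h2 α g h4, If_split hodd C hcard θ g hnc ⟨_, hsq⟩, sub_zero]
  · intro g h10 h00 h11 h01
    have ht : (g : M2).trace = 2 * ((1 : Fˣ) : F) := by
      rw [Matrix.trace_fin_two, h00, h11, Units.val_one]
      ring
    have hns : Cfsg.Agent.Lib_helper8_GL2.NonScalar (g : M2) := Or.inr (Or.inl h01)
    have hnc : g ∉ Subgroup.center S2 := by
      intro h
      rcases (center_iff g).mp h with h | h
      · apply h01
        rw [h, (one_entries (F := F)).2.1]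
      · apply h01
        rw [h, negOne_01]
    have hsq : IsSquare ((g : M2).trace ^ 2 - 4) := ⟨0, by rw [ht, Units.val_one]; ring⟩
    rw [Pi.sub_apply, Df_trace2 α 1 inv_one g ht hns, If_split hodd C hcard θ g hnc hsq,
      Units.val_one, map_one, sub_zero]

end Exist

section Converse

variable [Fintype F] [DecidableEq F] [Fintype (Matrix.SpecialLinearGroup (Fin 2) F)]

theorem ell_no_root (g : S2) (hns : ¬ IsSquare ((g : M2).trace ^ 2 - 4)) (t : F) :
    (g : M2) 1 0 * t ^ 2 + ((g : M2) 1 1 - (g : M2) 0 0) * t - (g : M2) 0 1 ≠ 0 := by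
  intro h
  apply hns
  have hdet := det_entries g
  refine ⟨2 * (g : M2) 1 0 * t + (g : M2) 1 1 - (g : M2) 0 0, ?_⟩
  rw [Matrix.trace_fin_two]
  linear_combination 4 * hdet - 4 * (g : M2) 1 0 * h

/-- For `q = 3` the irreducible characters of degree `2` vanish at the elliptic elements. -/
theorem deg_two_vanish (hodd : Odd (Fintype.card F)) (hq : Fintype.card F = 3) {ψ : S2 → ℂ}
    (hψ : IsIrrCharacter S2 ψ) (h1 : ψ 1 = (Fintype.card F : ℂ) - 1) (c : S2)
    (hell : ¬ IsSquare ((c : M2).trace ^ 2 - 4)) : ψ c = 0 := by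
  classical
  haveI : Fintype (Matrix.GeneralLinearGroup (Fin 2) F) := Fintype.ofFinite _
  haveI : Fintype (MulChar F ℂ) := Fintype.ofFinite _
  haveI : Finite (Cfsg.IrrCharacter (Matrix.GeneralLinearGroup (Fin 2) F)) := irr_finite
  haveI : Fintype (Cfsg.IrrCharacter (Matrix.GeneralLinearGroup (Fin 2) F)) := Fintype.ofFinite _
  have h2 := two_ne_of_odd hodd
  have h4 := ne4_of_not_sq hell
  have hψ1 : ψ 1 = ((2 : ℕ) : ℂ) := by
    rw [h1, hq]
    norm_num
  have hm : Fintype.card F = 2 * 1 + 1 := by rw [hq]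
  rcases cls_deg hodd 1 hm hψ with ⟨h, -⟩ | ⟨h, -⟩ | ⟨h, -⟩ | ⟨-, θG, hθG, hres⟩ |
    ⟨-, γ, χ', y, hγ1, hγ2, hχ', hne, hy, hsum⟩ | ⟨h, -⟩
  · have := Nat.cast_injective (R := ℂ) (hψ1.symm.trans h)
    omega
  · have := Nat.cast_injective (R := ℂ) (hψ1.symm.trans h)
    omega
  · have := Nat.cast_injective (R := ℂ) (hψ1.symm.trans h)
    omega
  · have hirr : IsIrrCharacter S2 (fun s : S2 => θG (Matrix.SpecialLinearGroup.toGL s)) := by
      have : (fun s : S2 => θG (Matrix.SpecialLinearGroup.toGL s)) = ψ := funext hres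
      rw [this]
      exact hψ
    have hsum := cusp_rest hodd hθG hirr
    rw [hq] at hsum
    have hz : ∑ g ∈ Finset.univ.filter (fun g : S2 => ¬ (g : M2).trace ^ 2 = 4),
        ‖θG (Matrix.SpecialLinearGroup.toGL g)‖ ^ 2 = 0 := by
      rw [hsum]
      norm_num
    rw [Finset.sum_eq_zero_iff_of_nonneg (fun g _ => by positivity)] at hz
    have h5 := hz c (Finset.mem_filter.mpr ⟨Finset.mem_univ _, h4⟩)
    rw [← hres c]
    have h6 : ‖θG (Matrix.SpecialLinearGroup.toGL c)‖ = 0 := by simpa using h5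
    exact norm_eq_zero.mp h6
  · have hps : psR γ 1 (Matrix.SpecialLinearGroup.toGL c) = 0 := by
      apply psR_ell
      · exact ell_10_ne _ hell c rfl
      · exact ell_no_root c hell
    have hc := conjRel_ss h2 (isClassFunction_of_irr hψ) hy c h4
    have h5 := hsum c
    rw [hps, hc] at h5
    have h6 : (2 : ℂ) * ψ c = 0 := by linear_combination -h5
    rcases mul_eq_zero.mp h6 with h7 | h7
    · norm_num at h7
    · exact h7
  · have := Nat.cast_injective (R := ℂ) (hψ1.symm.trans h)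
    omega

theorem exists_theta (C : Subgroup S2) (hC : IsCyclic C)
    (hcard : Nat.card C = Fintype.card F + 1) :
    ∃ (γ : C) (ζ : ℂ) (θ : ℕ → C →* ℂˣ), IsPrimitiveRoot ζ (Fintype.card F + 1) ∧
      orderOf γ = Fintype.card F + 1 ∧ ∀ j, ((θ j γ : ℂˣ) : ℂ) = ζ ^ j := by
  have := hC
  obtain ⟨γ, hγ⟩ := IsCyclic.exists_generator (α := C)
  have hord : orderOf γ = Fintype.card F + 1 := by
    rw [orderOf_eq_card_of_forall_mem_zpowers hγ, hcard]
  obtain ⟨ζ, hζ⟩ : ∃ ζ : ℂ, IsPrimitiveRoot ζ (Fintype.card F + 1) :=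
    ⟨_, Complex.isPrimitiveRoot_exp (Fintype.card F + 1) (Nat.succ_ne_zero _)⟩
  have hζ0 : ζ ≠ 0 := hζ.ne_zero (Nat.succ_ne_zero _)
  have hdvd : ∀ j : ℕ, orderOf ((Units.mk0 _ hζ0) ^ j) ∣ orderOf γ := by
    intro j
    rw [hord]
    apply orderOf_dvd_of_pow_eq_one
    apply Units.ext
    rw [Units.val_pow_eq_pow_val, Units.val_pow_eq_pow_val, Units.val_mk0, Units.val_one,
      ← pow_mul, mul_comm, pow_mul, hζ.pow_eq_one, one_pow]
  refine ⟨γ, _, fun j => monoidHomOfForallMemZpowers hγ (hdvd j), hζ, hord, ?_⟩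
  intro j
  show ((monoidHomOfForallMemZpowers hγ (hdvd j) γ : ℂˣ) : ℂ) = _
  rw [monoidHomOfForallMemZpowers_apply_gen, Units.val_pow_eq_pow_val, Units.val_mk0]

theorem sum_inv_eq {x y : ℂ} (hx : x ≠ 0) (hy : y ≠ 0) (h : -(x + x⁻¹) = -(y + y⁻¹)) :
    (x - y) * (x * y - 1) = 0 := by
  have hxx : x * x⁻¹ = 1 := mul_inv_cancel₀ hx
  have hyy : y * y⁻¹ = 1 := mul_inv_cancel₀ hy
  linear_combination -(x * y) * h - y * hxx + x * hyy

theorem converse (hodd : Odd (Fintype.card F)) (C : Subgroup S2) (hC : IsCyclic C)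
    (hcard : Nat.card C = Fintype.card F + 1) (χ : S2 → ℂ) (hχ : IsIrrCharacter S2 χ)
    (h1 : χ 1 = (Fintype.card F : ℂ) - 1) :
    ∃ θ : C →* ℂˣ, (∃ c : C, θ c ^ 2 ≠ 1) ∧ ∀ c : C, (c : S2) ∉ Subgroup.center S2 →
      χ c = -(((θ c : ℂˣ) : ℂ) + (((θ c)⁻¹ : ℂˣ) : ℂ)) := by
  classical
  have : Finite (Cfsg.IrrCharacter S2) := irr_finite
  have h2 := two_ne_of_odd hodd
  obtain ⟨γ, ζ, θ, hζ, hord, hθ⟩ := exists_theta C hC hcard
  have hodd' := hodd
  obtain ⟨m, hm⟩ := hodd
  have hq2 : 2 ≤ Fintype.card F := Fintype.one_lt_card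
  have hm1 : 1 ≤ m := by omega
  have hζ0 : ζ ≠ 0 := hζ.ne_zero (Nat.succ_ne_zero _)
  have hθsq : ∀ j, 1 ≤ j → j ≤ m → ∃ c : C, θ j c ^ 2 ≠ 1 := by
    intro j hj1 hjm
    refine ⟨γ, ?_⟩
    intro h
    have h5 := congrArg Units.val h
    rw [Units.val_pow_eq_pow_val, hθ, Units.val_one, ← pow_mul] at h5
    exact hζ.pow_ne_one_of_pos_of_lt (by omega) (by omega) h5
  by_cases hq : 5 ≤ Fintype.card F
  · have hγnc : (γ : S2) ∉ Subgroup.center S2 := by
      intro h
      have hsq : γ ^ 2 = 1 := by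
        apply Subtype.ext
        show (γ : S2) ^ 2 = 1
        rcases (center_iff _).mp h with h | h
        · rw [h, one_pow]
        · rw [h, negOne_eq, eu0_pow]
          have : ((-1 : Fˣ)) ^ 2 = 1 := by simp
          rw [this, eu1_zero]
      have h5 := orderOf_dvd_of_pow_eq_one hsq
      rw [hord] at h5
      have h6 := Nat.le_of_dvd (by norm_num) h5
      omega
    have hex : ∀ j : Fin m, ∃ X : S2 → ℂ, IsIrrCharacter S2 X ∧
        X 1 = (Fintype.card F : ℂ) - 1 ∧
        (∀ c : C, (c : S2) ∉ Subgroup.center S2 →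
          X c = -(((θ (j.1 + 1) c : ℂˣ) : ℂ) + (((θ (j.1 + 1) c)⁻¹ : ℂˣ) : ℂ))) := by
      intro j
      obtain ⟨X, hX, hX1, hXv, -⟩ := exists_cusp hodd' C hC hcard (θ (j.1 + 1))
        (hθsq _ (by omega) (by have := j.2; omega))
      exact ⟨X, hX, hX1, hXv⟩
    choose X hX hX1 hXv using hex
    have hinj : Function.Injective (fun j : Fin m =>
        (⟨⟨X j, hX j⟩, hX1 j⟩ : {χ : Cfsg.IrrCharacter S2 //
          (χ : S2 → ℂ) 1 = (Fintype.card F : ℂ) - 1})) := by
      intro i j hij
      have hfun : X i = X j := congrArg (fun x : {χ : Cfsg.IrrCharacter S2 //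
          (χ : S2 → ℂ) 1 = (Fintype.card F : ℂ) - 1} => (x.1.1 : S2 → ℂ)) hij
      have hv := congrFun hfun γ
      rw [hXv i γ hγnc, hXv j γ hγnc, Units.val_inv_eq_inv_val, Units.val_inv_eq_inv_val,
        hθ, hθ] at hv
      have h5 := sum_inv_eq (pow_ne_zero _ hζ0) (pow_ne_zero _ hζ0) hv
      rcases mul_eq_zero.mp h5 with h6 | h6
      · have h7 := hζ.pow_inj (by have := i.2; omega) (by have := j.2; omega) (sub_eq_zero.mp h6)
        exact Fin.ext (by omega)
      · exfalso
        rw [← pow_add] at h6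
        exact hζ.pow_ne_one_of_pos_of_lt (by omega) (by have := i.2; have := j.2; omega)
          (sub_eq_zero.mp h6)
    have hcount := ((Cfsg.Agent.S2299.result hodd').2 hq).2.2.2.1
    have hbij := Function.Injective.bijective_of_nat_card_le hinj
      (by rw [Nat.card_fin, hcount]; omega)
    obtain ⟨j, hj⟩ := hbij.2 ⟨⟨χ, hχ⟩, h1⟩
    have hχeq : X j = χ := congrArg (fun x : {χ : Cfsg.IrrCharacter S2 //
      (χ : S2 → ℂ) 1 = (Fintype.card F : ℂ) - 1} => (x.1.1 : S2 → ℂ)) hj
    refine ⟨θ (j.1 + 1), hθsq _ (by omega) (by have := j.2; omega), ?_⟩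
    intro c hc
    rw [← hχeq]
    exact hXv j c hc
  · have hq3 : Fintype.card F = 3 := by omega
    obtain ⟨X, hX, hX1, hXv, -⟩ := exists_cusp hodd' C hC hcard (θ 1) (hθsq 1 le_rfl hm1)
    refine ⟨θ 1, hθsq 1 le_rfl hm1, ?_⟩
    intro c hc
    have hell := torus_ell hodd' C hcard c.1 c.2 hc
    rw [← hXv c hc, deg_two_vanish hodd' hq3 hχ h1 c hell, deg_two_vanish hodd' hq3 hX hX1 c hell]

end Converse

end Cfsg.Agent.Lib_helper8_SL2Tor
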