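import Cfsg.Statements.S2324
import Mathlib
import Cfsg.Agent.Lib_helper8_SL2Vals
import Cfsg.Agent.S2299

set_option autoImplicit false
open Cfsg

namespace Cfsg.Agent.S2324

/-- Over a finite field F with q elements, q odd and q ≥ 5, let u be the upper unitriangular matrix of SL₂ with off-diagonal entry 1 and let δ = (−1)^((q−1)/2). Every irreducible complex character χ of SL₂ of degree (q + 1)/2 satisfies (2χ(u) − 1)² = δq, and every irreducible complex character χ of degree (q − 1)/2 satisfies (2χ(u) + 1)² = δq; that is, χ(u) = (1 ± √(δq))/2 in the first case and χ(u) = (−1 ± √(δq))/2 in the second. Moreover two different irreducible characters of degree (q + 1)/2 take the two different values (their values at u add up to 1), and likewise for degree (q − 1)/2 (values adding up to −1). -/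
theorem result {F : Type*} [Field F] [Fintype F] (hodd : Odd (Fintype.card F)) (hq : 5 ≤ Fintype.card F)
    (u : Matrix.SpecialLinearGroup (Fin 2) F) (hu : (u : Matrix (Fin 2) (Fin 2) F) = !![1, 1; 0, 1]) :
    (∀ χ : Matrix.SpecialLinearGroup (Fin 2) F → ℂ, Cfsg.IsIrrCharacter (Matrix.SpecialLinearGroup (Fin 2) F) χ → χ 1 = (((Fintype.card F + 1) / 2 : ℕ) : ℂ) → (2 * χ u - 1) ^ 2 = (-1 : ℂ) ^ ((Fintype.card F - 1) / 2) * (Fintype.card F : ℂ)) ∧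
    (∀ χ : Matrix.SpecialLinearGroup (Fin 2) F → ℂ, Cfsg.IsIrrCharacter (Matrix.SpecialLinearGroup (Fin 2) F) χ → χ 1 = (((Fintype.card F - 1) / 2 : ℕ) : ℂ) → (2 * χ u + 1) ^ 2 = (-1 : ℂ) ^ ((Fintype.card F - 1) / 2) * (Fintype.card F : ℂ)) ∧
    (∀ χ₁ χ₂ : Matrix.SpecialLinearGroup (Fin 2) F → ℂ, Cfsg.IsIrrCharacter (Matrix.SpecialLinearGroup (Fin 2) F) χ₁ → Cfsg.IsIrrCharacter (Matrix.SpecialLinearGroup (Fin 2) F) χ₂ → χ₁ ≠ χ₂ →
      χ₁ 1 = (((Fintype.card F + 1) / 2 : ℕ) : ℂ) → χ₂ 1 = (((Fintype.card F + 1) / 2 : ℕ) : ℂ) → χ₁ u + χ₂ u = 1) ∧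
    (∀ χ₁ χ₂ : Matrix.SpecialLinearGroup (Fin 2) F → ℂ, Cfsg.IsIrrCharacter (Matrix.SpecialLinearGroup (Fin 2) F) χ₁ → Cfsg.IsIrrCharacter (Matrix.SpecialLinearGroup (Fin 2) F) χ₂ → χ₁ ≠ χ₂ →
      χ₁ 1 = (((Fintype.card F - 1) / 2 : ℕ) : ℂ) → χ₂ 1 = (((Fintype.card F - 1) / 2 : ℕ) : ℂ) → χ₁ u + χ₂ u = -1) := by
  classical
  haveI : Fintype (Matrix.GeneralLinearGroup (Fin 2) F) := Fintype.ofFinite _
  haveI : Fintype (Matrix.SpecialLinearGroup (Fin 2) F) := Fintype.ofFinite _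
  haveI : Fintype (MulChar F ℂ) := Fintype.ofFinite _
  haveI : Finite (Cfsg.IrrCharacter (Matrix.GeneralLinearGroup (Fin 2) F)) :=
    Cfsg.Agent.Lib_helper3_CharBasic.irr_finite
  haveI : Fintype (Cfsg.IrrCharacter (Matrix.GeneralLinearGroup (Fin 2) F)) := Fintype.ofFinite _
  have hodd' := hodd
  obtain ⟨m, hm⟩ := hodd
  have hm2 : 2 ≤ m := by omega
  have e1 : (Fintype.card F + 1) / 2 = m + 1 := by omega
  have e2 : (Fintype.card F - 1) / 2 = m := by omega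
  have hu' : u = Cfsg.Agent.Lib_helper8_SL2Cliff.uS 1 := Subtype.ext hu
  have hcount := (Cfsg.Agent.S2299.result hodd').2 hq
  rw [e1, e2] at hcount
  obtain ⟨-, -, -, -, hc1, hc2⟩ := hcount
  rw [e1, e2]
  subst hu'
  have Kp : ∀ χ : Matrix.SpecialLinearGroup (Fin 2) F → ℂ,
      Cfsg.IsIrrCharacter (Matrix.SpecialLinearGroup (Fin 2) F) χ → χ 1 = ((m + 1 : ℕ) : ℂ) →
      ∃ (χ' : Matrix.SpecialLinearGroup (Fin 2) F → ℂ) (y : Matrix.GeneralLinearGroup (Fin 2) F),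
        Cfsg.IsIrrCharacter (Matrix.SpecialLinearGroup (Fin 2) F) χ' ∧ χ' ≠ χ ∧
        Cfsg.Agent.Lib_helper8_SL2Odd.ConjRel χ χ' y ∧
        χ (Cfsg.Agent.Lib_helper8_SL2Cliff.uS 1) + χ' (Cfsg.Agent.Lib_helper8_SL2Cliff.uS 1) = 1 := by
    intro χ hχ hd
    rcases Cfsg.Agent.Lib_helper8_SL2Vals.cls_deg hodd' m hm hχ with ⟨h, -⟩ | ⟨h, -⟩ | ⟨h, -⟩ |
      ⟨h, -⟩ | ⟨h, γ, χ', y, hγ1, hγ2, hχ', hne, hy, hsum⟩ | ⟨h, -⟩
    · have := Nat.cast_injective (hd.symm.trans h)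
      omega
    · have := Nat.cast_injective (hd.symm.trans h)
      omega
    · have := Nat.cast_injective (hd.symm.trans h)
      omega
    · have := Nat.cast_injective (hd.symm.trans h)
      omega
    · refine ⟨χ', y, hχ', hne, hy, ?_⟩
      rw [← hsum, Cfsg.Agent.Lib_helper8_SL2Vals.uS_one_toGL]
      exact Cfsg.Agent.Lib_helper8_GL2Irr.psR_uG γ 1
    · have := Nat.cast_injective (hd.symm.trans h)
      omega
  have Km : ∀ χ : Matrix.SpecialLinearGroup (Fin 2) F → ℂ,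
      Cfsg.IsIrrCharacter (Matrix.SpecialLinearGroup (Fin 2) F) χ → χ 1 = ((m : ℕ) : ℂ) →
      ∃ (χ' : Matrix.SpecialLinearGroup (Fin 2) F → ℂ) (y : Matrix.GeneralLinearGroup (Fin 2) F),
        Cfsg.IsIrrCharacter (Matrix.SpecialLinearGroup (Fin 2) F) χ' ∧ χ' ≠ χ ∧
        Cfsg.Agent.Lib_helper8_SL2Odd.ConjRel χ χ' y ∧
        χ (Cfsg.Agent.Lib_helper8_SL2Cliff.uS 1) + χ' (Cfsg.Agent.Lib_helper8_SL2Cliff.uS 1) = -1 := by
    intro χ hχ hd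
    rcases Cfsg.Agent.Lib_helper8_SL2Vals.cls_deg hodd' m hm hχ with ⟨h, -⟩ | ⟨h, -⟩ | ⟨h, -⟩ |
      ⟨h, -⟩ | ⟨h, -⟩ | ⟨h, θ, χ', y, hθ, hχ', hne, hy, hsum⟩
    · have := Nat.cast_injective (hd.symm.trans h)
      omega
    · have := Nat.cast_injective (hd.symm.trans h)
      omega
    · have := Nat.cast_injective (hd.symm.trans h)
      omega
    · have := Nat.cast_injective (hd.symm.trans h)
      omega
    · have := Nat.cast_injective (hd.symm.trans h)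
      omega
    · refine ⟨χ', y, hχ', hne, hy, ?_⟩
      rw [← hsum, Cfsg.Agent.Lib_helper8_SL2Vals.uS_one_toGL]
      exact hθ.2.2.2
  refine ⟨?_, ?_, ?_, ?_⟩
  · intro χ hχ hd
    obtain ⟨χ', y, hχ', hne, hy, hs⟩ := Kp χ hχ hd
    have h5 := Cfsg.Agent.Lib_helper8_SL2Vals.half_diff hodd' hχ hχ' hne hy
    rw [e2] at h5
    rw [← h5]
    congr 1
    linear_combination hs
  · intro χ hχ hd
    obtain ⟨χ', y, hχ', hne, hy, hs⟩ := Km χ hχ hd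
    have h5 := Cfsg.Agent.Lib_helper8_SL2Vals.half_diff hodd' hχ hχ' hne hy
    rw [e2] at h5
    rw [← h5]
    congr 1
    linear_combination hs
  · intro χ₁ χ₂ hχ₁ hχ₂ hne12 hd1 hd2
    obtain ⟨χ', y, hχ', hne, hy, hs⟩ := Kp χ₁ hχ₁ hd1
    have hd' : χ' 1 = ((m + 1 : ℕ) : ℂ) :=
      (Cfsg.Agent.Lib_helper8_SL2Odd.conjRel_one hy).trans hd1
    obtain ⟨w, -, hw⟩ := (Nat.card_eq_two_iff' (⟨⟨χ₁, hχ₁⟩, hd1⟩ :
      {χ : Cfsg.IrrCharacter (Matrix.SpecialLinearGroup (Fin 2) F) //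
        (χ : Matrix.SpecialLinearGroup (Fin 2) F → ℂ) 1 = ((m + 1 : ℕ) : ℂ)})).mp hc1
    have h6 := hw ⟨⟨χ', hχ'⟩, hd'⟩ (fun h => hne (congrArg (fun a => a.1.1) h))
    have h7 := hw ⟨⟨χ₂, hχ₂⟩, hd2⟩ (fun h => hne12 (congrArg (fun a => a.1.1) h).symm)
    have h8 : χ' = χ₂ := congrArg (fun a => a.1.1) (h6.trans h7.symm)
    rw [← h8]
    exact hs
  · intro χ₁ χ₂ hχ₁ hχ₂ hne12 hd1 hd2
    obtain ⟨χ', y, hχ', hne, hy, hs⟩ := Km χ₁ hχ₁ hd1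
    have hd' : χ' 1 = ((m : ℕ) : ℂ) :=
      (Cfsg.Agent.Lib_helper8_SL2Odd.conjRel_one hy).trans hd1
    obtain ⟨w, -, hw⟩ := (Nat.card_eq_two_iff' (⟨⟨χ₁, hχ₁⟩, hd1⟩ :
      {χ : Cfsg.IrrCharacter (Matrix.SpecialLinearGroup (Fin 2) F) //
        (χ : Matrix.SpecialLinearGroup (Fin 2) F → ℂ) 1 = ((m : ℕ) : ℂ)})).mp hc2
    have h6 := hw ⟨⟨χ', hχ'⟩, hd'⟩ (fun h => hne (congrArg (fun a => a.1.1) h))
    have h7 := hw ⟨⟨χ₂, hχ₂⟩, hd2⟩ (fun h => hne12 (congrArg (fun a => a.1.1) h).symm)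
    have h8 : χ' = χ₂ := congrArg (fun a => a.1.1) (h6.trans h7.symm)
    rw [← h8]
    exact hs

end Cfsg.Agent.S2324
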