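import Mathlib
import Cfsg.Agent.Lib_helper8_SL2Tor
import Cfsg.Agent.S2324

set_option autoImplicit false

/-! The irreducible characters of `SL_2` of degrees `(q ± 1) / 2`: values at the split and at
the elliptic elements. -/

namespace Cfsg.Agent.Lib_helper8_SL2Half

open Cfsg Cfsg.Agent.Lib_helper3_CharBasic Cfsg.Agent.Lib_helper3_CharInd
open Cfsg.Agent.Lib_helper3_CharMore
open Cfsg.Agent.Lib_helper8_IndB Cfsg.Agent.Lib_helper8_GL2 Cfsg.Agent.Lib_helper8_GL2Irr
open Cfsg.Agent.Lib_helper8_SL2Norm Cfsg.Agent.Lib_helper8_SL2Cliff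
open Cfsg.Agent.Lib_helper8_SL2Odd Cfsg.Agent.Lib_helper8_SL2Conj Cfsg.Agent.Lib_helper8_SL2Vals
open Cfsg.Agent.Lib_helper4_SL2Quat Cfsg.Agent.Lib_helper8_SL2Tor
open scoped ComplexConjugate
open Matrix

universe u

variable {F : Type u} [Field F]

local notation "G2" => Matrix.GeneralLinearGroup (Fin 2) F
local notation "S2" => Matrix.SpecialLinearGroup (Fin 2) F
local notation "M2" => Matrix (Fin 2) (Fin 2) F
local notation "BS" => (Subgroup.comap Matrix.SpecialLinearGroup.toGL (Cfsg.upperTriangularGL 2 F))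

section CSum

variable [Fintype F] [DecidableEq F] [Fintype (Matrix.SpecialLinearGroup (Fin 2) F)]

theorem csum_trace (e : Fˣ) (he : e⁻¹ = e) (f : S2 → ℂ) (d : ℂ)
    (hU : ∀ g : S2, (g : M2).trace = 2 * (e : F) → g ≠ eu e 0 → f g = d) :
    ∑ g ∈ Finset.univ.filter (fun g : S2 => (g : M2).trace = 2 * (e : F)), f g =
      f (eu e 0) + ((Fintype.card F : ℂ) ^ 2 - 1) * d := by
  have hmem : eu e 0 ∈ Finset.univ.filter (fun g : S2 => (g : M2).trace = 2 * (e : F)) := by
    rw [Finset.mem_filter]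
    exact ⟨Finset.mem_univ _, eu_zero_trace e he 0⟩
  rw [← Finset.add_sum_erase _ _ hmem]
  congr 1
  rw [Finset.sum_congr rfl (fun g hg => hU g (Finset.mem_filter.mp (Finset.mem_of_mem_erase hg)).2
    (Finset.ne_of_mem_erase hg) : ∀ g ∈ (Finset.univ.filter (fun g : S2 =>
      (g : M2).trace = 2 * (e : F))).erase (eu e 0), f g = d), Finset.sum_const,
    Finset.card_erase_of_mem hmem, card_trace e he, nsmul_eq_mul]
  have hpos : 1 ≤ Fintype.card F ^ 2 := Nat.one_le_pow _ _ Fintype.card_pos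
  rw [Nat.cast_sub hpos]
  push_cast
  ring

theorem csum_split (h2 : (2 : F) ≠ 0) (f : S2 → ℂ) (d₁ d₂ : ℂ)
    (hU₁ : ∀ g : S2, (g : M2).trace = 2 * ((1 : Fˣ) : F) →
      Cfsg.Agent.Lib_helper8_GL2.NonScalar (g : M2) → f g = d₁)
    (hU₂ : ∀ g : S2, (g : M2).trace = 2 * ((-1 : Fˣ) : F) →
      Cfsg.Agent.Lib_helper8_GL2.NonScalar (g : M2) → f g = d₂) :
    ∑ g : S2, f g = f (eu 1 0) + f (eu (-1) 0) + ((Fintype.card F : ℂ) ^ 2 - 1) * (d₁ + d₂) +
      ∑ g ∈ Finset.univ.filter (fun g : S2 => ¬ (g : M2).trace ^ 2 = 4), f g := by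
  rw [← Finset.sum_filter_add_sum_filter_not Finset.univ (fun g : S2 => (g : M2).trace ^ 2 = 4) f]
  congr 1
  have hsplit : Finset.univ.filter (fun g : S2 => (g : M2).trace ^ 2 = 4) =
      Finset.univ.filter (fun g : S2 => (g : M2).trace = 2 * ((1 : Fˣ) : F)) ∪
      Finset.univ.filter (fun g : S2 => (g : M2).trace = 2 * ((-1 : Fˣ) : F)) := by
    ext g
    simp only [Finset.mem_filter, Finset.mem_union, Finset.mem_univ, true_and]
    rw [Units.val_neg, Units.val_one]
    constructor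
    · intro h
      have h5 : ((g : M2).trace - 2) * ((g : M2).trace + 2) = 0 := by linear_combination h
      rcases mul_eq_zero.mp h5 with h6 | h6
      · left
        linear_combination h6
      · right
        linear_combination h6
    · rintro (h | h)
      · rw [h]
        ring
      · rw [h]
        ring
  have hdisj : Disjoint (Finset.univ.filter (fun g : S2 => (g : M2).trace = 2 * ((1 : Fˣ) : F)))
      (Finset.univ.filter (fun g : S2 => (g : M2).trace = 2 * ((-1 : Fˣ) : F))) := by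
    rw [Finset.disjoint_filter]
    intro g _ h1 h2'
    rw [h1, Units.val_neg, Units.val_one] at h2'
    have h6 : (2 : F) * 2 = 0 := by linear_combination h2'
    rcases mul_eq_zero.mp h6 with h7 | h7 <;> exact h2 h7
  have hconv : ∀ (e : Fˣ) (d : ℂ), e⁻¹ = e →
      (∀ g : S2, (g : M2).trace = 2 * (e : F) →
        Cfsg.Agent.Lib_helper8_GL2.NonScalar (g : M2) → f g = d) →
      ∀ g : S2, (g : M2).trace = 2 * (e : F) → g ≠ eu e 0 → f g = d := by
    intro e d he hU g ht hne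
    apply hU g ht
    by_contra hns
    exact hne (scalar_eq h2 e he g ht hns)
  rw [hsplit, Finset.sum_union hdisj, csum_trace 1 inv_one f d₁ (hconv 1 d₁ inv_one hU₁),
    csum_trace (-1) neg_one_unit_inv f d₂ (hconv (-1) d₂ neg_one_unit_inv hU₂)]
  ring

end CSum

section Cent

variable [Fintype F] [DecidableEq F] [Fintype (Matrix.SpecialLinearGroup (Fin 2) F)]

omit [Fintype F] [DecidableEq F] [Fintype (Matrix.SpecialLinearGroup (Fin 2) F)] in
/-- Elements commuting with a given element with non-zero lower left entry commute. -/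
theorem comm_of_centralize (g : S2) (h10 : (g : M2) 1 0 ≠ 0) (x y : S2) (hx : g * x = x * g)
    (hy : g * y = y * g) : x * y = y * x := by
  have K00x := congrArg (fun z : S2 => (z : M2) 0 0) hx
  have K10x := congrArg (fun z : S2 => (z : M2) 1 0) hx
  have K00y := congrArg (fun z : S2 => (z : M2) 0 0) hy
  have K10y := congrArg (fun z : S2 => (z : M2) 1 0) hy
  simp only [mul_entries] at K00x K10x K00y K10y
  have h100 : (g : M2) 1 0 * (g : M2) 1 0 ≠ 0 := mul_ne_zero h10 h10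
  apply ext2
  · apply mul_left_cancel₀ h10
    rw [mul_entries, mul_entries]
    linear_combination -(y : M2) 1 0 * K00x + (x : M2) 1 0 * K00y
  · apply mul_left_cancel₀ h100
    rw [mul_entries, mul_entries]
    linear_combination ((g : M2) 1 0 * (y : M2) 0 1) * K10x - ((g : M2) 1 0 * (x : M2) 0 1) * K10y +
      ((g : M2) 0 0 - (g : M2) 1 1) * ((y : M2) 1 0 * K00x - (x : M2) 1 0 * K00y)
  · apply mul_left_cancel₀ h10
    rw [mul_entries, mul_entries]
    linear_combination (x : M2) 1 0 * K10y - (y : M2) 1 0 * K10x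
  · apply mul_left_cancel₀ h10
    rw [mul_entries, mul_entries]
    linear_combination (y : M2) 1 0 * K00x - (x : M2) 1 0 * K00y

omit [Fintype F] [DecidableEq F] [Fintype (Matrix.SpecialLinearGroup (Fin 2) F)] in
theorem mem_cen (g x : S2) : x ∈ Subgroup.centralizer ({g} : Set S2) ↔ g * x = x * g := by
  rw [Subgroup.mem_centralizer_iff]
  simp

theorem card_cen (h2 : (2 : F) ≠ 0) (g : S2) (hell : ¬ IsSquare ((g : M2).trace ^ 2 - 4)) :
    Nat.card (Subgroup.centralizer ({g} : Set S2)) = Fintype.card F + 1 := by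
  have e : ∀ x : S2, x ∈ Subgroup.centralizer ({g} : Set S2) ↔ x * g * x⁻¹ = g := by
    intro x
    rw [mem_cen]
    constructor
    · intro h
      rw [← h]
      group
    · intro h
      calc g * x = (x * g * x⁻¹) * x := by rw [h]
        _ = x * g := by group
  rw [Nat.card_congr (Equiv.subtypeEquivRight e), Nat.card_eq_fintype_card, Fintype.card_subtype]
  exact conj_count h2 g g hell rfl

/-- The quadratic character of an abelian torus. -/
theorem exists_th0 (h2 : (2 : F) ≠ 0) (C : Subgroup S2)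
    (hcomm : ∀ a b : S2, a ∈ C → b ∈ C → a * b = b * a) (k : ℕ)
    (hk : ∀ c : S2, c ∈ C → c ^ k = 1 ∨ c ^ k = negOne) :
    ∃ θ : C →* ℂˣ, ∀ c : C, ((c : S2) ^ k = 1 → θ c = 1) ∧ ((c : S2) ^ k ≠ 1 → θ c = -1) := by
  classical
  have hn : (negOne : S2) * negOne = 1 := by
    rw [negOne_eq, eu0_mul]
    have : ((-1 : Fˣ)) * (-1) = 1 := by simp
    rw [this, eu1_zero]
  have hne : (negOne : S2) ≠ 1 := (one_ne_negOne h2).symm
  refine ⟨MonoidHom.mk' (fun c : C => if (c : S2) ^ k = 1 then (1 : ℂˣ) else -1) ?_, ?_⟩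
  · intro a b
    have hab : ((a * b : C) : S2) ^ k = (a : S2) ^ k * (b : S2) ^ k := by
      rw [Subgroup.coe_mul]
      exact (show Commute (a : S2) (b : S2) from hcomm _ _ a.2 b.2).mul_pow k
    show (if ((a * b : C) : S2) ^ k = 1 then (1 : ℂˣ) else -1) =
      (if (a : S2) ^ k = 1 then 1 else -1) * (if (b : S2) ^ k = 1 then 1 else -1)
    rw [hab]
    rcases hk a a.2 with ha | ha <;> rcases hk b b.2 with hb | hb <;> rw [ha, hb] <;>
      simp [hn, hne]
  · intro c
    constructor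
    · intro h
      show (if (c : S2) ^ k = 1 then (1 : ℂˣ) else -1) = 1
      rw [if_pos h]
    · intro h
      show (if (c : S2) ^ k = 1 then (1 : ℂˣ) else -1) = -1
      rw [if_neg h]

end Cent

section Torus2

variable [Fintype F] [DecidableEq F] [Fintype (Matrix.SpecialLinearGroup (Fin 2) F)]

theorem If_mem' (hodd : Odd (Fintype.card F)) (C : Subgroup S2)
    (hcomm : ∀ a b : S2, a ∈ C → b ∈ C → a * b = b * a)
    (hcard : Nat.card C = Fintype.card F + 1) (θ : C →* ℂˣ) (c : S2) (hc : c ∈ C)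
    (hnc : c ∉ Subgroup.center S2) :
    If C θ c = ((θ ⟨c, hc⟩ : ℂˣ) : ℂ) + (((θ ⟨c, hc⟩)⁻¹ : ℂˣ) : ℂ) := by
  have h2 := two_ne_of_odd hodd
  have hell := torus_ell hodd C hcard c hc hnc
  have h4 := ne4_of_not_sq hell
  have hne := ne_inv_of_noncentral h2 c hnc
  unfold If
  rw [indFun_apply]
  have hsum : ∑ x : S2, extendByZero C (fun c : C => ((θ c : ℂˣ) : ℂ)) (x⁻¹ * c * x) =
      ∑ x : S2, extendByZero C (fun c : C => ((θ c : ℂˣ) : ℂ)) (x * c * x⁻¹) := by
    rw [← Equiv.sum_comp (Equiv.inv S2)]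
    apply Finset.sum_congr rfl
    intro x _
    simp only [Equiv.inv_apply, inv_inv]
  rw [hsum]
  have hpt : ∀ x : S2, extendByZero C (fun c : C => ((θ c : ℂˣ) : ℂ)) (x * c * x⁻¹) =
      (if x * c * x⁻¹ = c then ((θ ⟨c, hc⟩ : ℂˣ) : ℂ) else 0) +
      (if x * c * x⁻¹ = c⁻¹ then (((θ ⟨c, hc⟩)⁻¹ : ℂˣ) : ℂ) else 0) := by
    intro x
    by_cases hm : x * c * x⁻¹ ∈ C
    · have hcm := hcomm _ _ hm hc
      rcases eq_or_inv_of_comm h2 _ c hcm (trace_conj_mul x c) h4 with h | h
      · rw [if_pos h, if_neg (by rw [h]; exact hne), add_zero, extendByZero_mem C _ hm]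
        have e : (⟨x * c * x⁻¹, hm⟩ : C) = ⟨c, hc⟩ := Subtype.ext h
        rw [e]
      · rw [if_neg (by rw [h]; exact hne.symm), if_pos h, zero_add, extendByZero_mem C _ hm]
        have e : (⟨x * c * x⁻¹, hm⟩ : C) = (⟨c, hc⟩ : C)⁻¹ := Subtype.ext h
        rw [e, map_inv]
    · rw [extendByZero_not_mem C _ hm, if_neg, if_neg, add_zero]
      · intro h
        apply hm
        rw [h]
        exact C.inv_mem hc
      · intro h
        apply hm
        rw [h]
        exact hc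
  rw [Finset.sum_congr rfl (fun x _ => hpt x)]
  simp only [Finset.sum_add_distrib, Finset.sum_ite, Finset.sum_const, Finset.sum_const_zero,
    add_zero, nsmul_eq_mul]
  rw [conj_count h2 c c hell rfl, conj_count h2 c c⁻¹ hell (trace_inv c), hcard]
  have hq : ((Fintype.card F + 1 : ℕ) : ℂ) ≠ 0 := Nat.cast_ne_zero.mpr (Nat.succ_ne_zero _)
  simp only [mul_zero, add_zero]
  field_simp

theorem If_norm2 (hodd : Odd (Fintype.card F)) (C : Subgroup S2)
    (hcomm : ∀ a b : S2, a ∈ C → b ∈ C → a * b = b * a)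
    (hcard : Nat.card C = Fintype.card F + 1) (θ : C →* ℂˣ) (hsq : ∀ c : C, θ c ^ 2 = 1) :
    classInner (If C θ) (If C θ) = 2 * ((Fintype.card F : ℂ) - 1) := by
  classical
  haveI : Fintype C := Fintype.ofFinite C
  have h2 := two_ne_of_odd hodd
  have hm := negOne_mem_torus hodd C hcard
  have hfr : classInner (If C θ) (If C θ) =
      classInner (fun c : C => ((θ c : ℂˣ) : ℂ)) (fun h : C => If C θ h) :=
    frobenius_reciprocity C _ (If C θ) (If_class C θ)
  rw [hfr, classInner_def]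
  have hsq' : ∀ c : C, ((θ c : ℂˣ) : ℂ) ^ 2 = 1 := by
    intro c
    rw [← Units.val_pow_eq_pow_val, hsq c, Units.val_one]
  have hn1 : (1 : C) ≠ ⟨negOne, hm⟩ := by
    intro h
    exact one_ne_negOne h2 (congrArg Subtype.val h)
  have hpt : ∀ c : C, ((θ c : ℂˣ) : ℂ) * conj (If C θ c) =
      2 + (if c = 1 then (Fintype.card F : ℂ) * ((Fintype.card F : ℂ) - 1) - 2 else 0) +
      (if c = ⟨negOne, hm⟩ then (Fintype.card F : ℂ) * ((Fintype.card F : ℂ) - 1) - 2 else 0) := by
    intro c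
    have hnorm := theta_norm C hcard θ c
    have hz0 : ((θ c : ℂˣ) : ℂ) ≠ 0 := (θ c).ne_zero
    have hconj : conj ((θ c : ℂˣ) : ℂ) = (((θ c : ℂˣ) : ℂ))⁻¹ := (Complex.inv_eq_conj hnorm).symm
    by_cases hc1 : c = 1
    · rw [if_pos hc1, if_neg (by rw [hc1]; exact hn1), hc1, map_one, Units.val_one]
      show 1 * conj (If C θ (1 : S2)) = _
      rw [If_one C hcard θ]
      simp only [map_mul, map_sub, map_natCast, map_one]
      ring
    · by_cases hcn : c = ⟨negOne, hm⟩
      · rw [if_neg hc1, if_pos hcn, hcn]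
        show _ * conj (If C θ negOne) = _
        have hIm : If C θ negOne = ((θ ⟨negOne, hm⟩ : ℂˣ) : ℂ) *
            ((Fintype.card F : ℂ) * ((Fintype.card F : ℂ) - 1)) := by
          have := If_central C θ negOne hm ((center_iff _).mpr (Or.inr rfl)) 1
          rwa [mul_one, If_one C hcard θ] at this
        have hnn := theta_norm C hcard θ ⟨negOne, hm⟩
        have hmc : ((θ ⟨negOne, hm⟩ : ℂˣ) : ℂ) * conj ((θ ⟨negOne, hm⟩ : ℂˣ) : ℂ) = 1 := by
          rw [Complex.mul_conj', hnn]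
          norm_num
        rw [hIm]
        simp only [map_mul, map_sub, map_natCast, map_one]
        linear_combination ((Fintype.card F : ℂ) * ((Fintype.card F : ℂ) - 1)) * hmc
      · have hnc : (c : S2) ∉ Subgroup.center S2 := by
          intro h
          rcases (center_iff _).mp h with h | h
          · exact hc1 (Subtype.ext h)
          · exact hcn (Subtype.ext h)
        rw [if_neg hc1, if_neg hcn, If_mem' hodd C hcomm hcard θ c.1 c.2 hnc]
        simp only [Subtype.coe_eta, map_add, Units.val_inv_eq_inv_val, map_inv₀, hconj, inv_inv]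
        have hzz : ((θ c : ℂˣ) : ℂ) * (((θ c : ℂˣ) : ℂ))⁻¹ = 1 := mul_inv_cancel₀ hz0
        linear_combination hzz + hsq' c
  rw [Finset.sum_congr rfl (fun c _ => hpt c)]
  simp only [Finset.sum_add_distrib, Finset.sum_ite_eq', Finset.mem_univ, if_true,
    Finset.sum_const, Finset.card_univ, nsmul_eq_mul]
  rw [← Nat.card_eq_fintype_card, hcard]
  have hq : ((Fintype.card F : ℂ) + 1) ≠ 0 := Nat.cast_add_one_ne_zero _
  push_cast
  field_simp
  ring

theorem Df_inner_one (h2 : (2 : F) ≠ 0) (α : MulChar F ℂ) :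
    classInner (Df α) (fun _ : S2 => (1 : ℂ)) = 0 := by
  rw [classInner_def]
  have hsum : ∑ g : S2, Df α g * conj ((fun _ : S2 => (1 : ℂ)) g) = 0 := by
    have h0 : ∑ g ∈ Finset.univ.filter (fun g : S2 => ¬ (g : M2).trace ^ 2 = 4), Df α g = 0 := by
      apply Finset.sum_eq_zero
      intro g hg
      exact Df_ne4 h2 α g (Finset.mem_filter.mp hg).2
    have hs := csum_split h2 (Df α) (-α ((1 : Fˣ) : F)) (-α ((-1 : Fˣ) : F))
      (fun g ht hns => Df_trace2 α 1 inv_one g ht hns)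
      (fun g ht hns => Df_trace2 α (-1) neg_one_unit_inv g ht hns)
    simp only [map_one, mul_one]
    rw [hs, h0, Df_scalar α 1 inv_one, Df_scalar α (-1) neg_one_unit_inv]
    ring
  rw [hsum, mul_zero]

theorem If_inner_one (C : Subgroup S2) (θ : C →* ℂˣ) (hnt : ∃ c : C, θ c ≠ 1) :
    classInner (If C θ) (fun _ : S2 => (1 : ℂ)) = 0 := by
  classical
  haveI : Fintype C := Fintype.ofFinite C
  have hfr : classInner (If C θ) (fun _ : S2 => (1 : ℂ)) =
      classInner (fun c : C => ((θ c : ℂˣ) : ℂ)) (fun h : C => (fun _ : S2 => (1 : ℂ)) h) :=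
    frobenius_reciprocity C _ _ (fun g h => rfl)
  rw [hfr, classInner_def]
  have hsum : ∑ c : C, ((θ c : ℂˣ) : ℂ) = 0 := by
    obtain ⟨c₀, hc₀⟩ := hnt
    have h5 : ∑ c : C, ((θ c : ℂˣ) : ℂ) =
        ((θ c₀ : ℂˣ) : ℂ) * ∑ c : C, ((θ c : ℂˣ) : ℂ) := by
      rw [Finset.mul_sum, ← Equiv.sum_comp (Equiv.mulLeft c₀)]
      apply Finset.sum_congr rfl
      intro c _
      rw [Equiv.coe_mulLeft, map_mul, Units.val_mul]
    have h6 : (((θ c₀ : ℂˣ) : ℂ) - 1) * ∑ c : C, ((θ c : ℂˣ) : ℂ) = 0 := by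
      linear_combination -h5
    rcases mul_eq_zero.mp h6 with h7 | h7
    · exfalso
      apply hc₀
      apply Units.ext
      rw [Units.val_one]
      linear_combination h7
    · exact h7
  simp only [map_one, mul_one]
  rw [hsum, mul_zero]

theorem exists_alpha (h2 : (2 : F) ≠ 0) (C : Subgroup S2) (θ : C →* ℂˣ)
    (hm : (negOne : S2) ∈ C) :
    ∃ α : MulChar F ℂ, α (-1 : F) = ((θ ⟨negOne, hm⟩ : ℂˣ) : ℂ) := by
  have hθn := theta_negOne_sq C θ hm
  have hone : (1 : MulChar F ℂ) (-1 : F) = 1 := by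
    have := MulChar.one_apply_coe (R' := ℂ) (-1 : Fˣ)
    rwa [Units.val_neg, Units.val_one] at this
  have h5 : (((θ ⟨negOne, hm⟩ : ℂˣ) : ℂ) - 1) * (((θ ⟨negOne, hm⟩ : ℂˣ) : ℂ) + 1) = 0 := by
    linear_combination hθn
  rcases mul_eq_zero.mp h5 with h6 | h6
  · refine ⟨1, ?_⟩
    rw [hone]
    linear_combination -h6
  · have hne : (-1 : F) ≠ 1 := by
      intro h
      apply h2
      linear_combination -h
    obtain ⟨α, hα⟩ := MulChar.exists_apply_ne_one_of_hasEnoughRootsOfUnity F ℂ hne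
    refine ⟨α, ?_⟩
    have hsq : α (-1 : F) * α (-1 : F) = 1 := by
      rw [← map_mul]
      simp
    have h7 : (α (-1 : F) - 1) * (α (-1 : F) + 1) = 0 := by linear_combination hsq
    rcases mul_eq_zero.mp h7 with h8 | h8
    · exact absurd (sub_eq_zero.mp h8) hα
    · linear_combination h8 - h6

end Torus2

section Decomp

theorem norm_one_decomp {G : Type u} [Group G] [Fintype G] {f : G → ℂ}
    (hf : IsClassFunction G f)
    (hint : ∀ χ, IsIrrCharacter G χ → ∃ n : ℤ, classInner f χ = n)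
    (hnorm : classInner f f = 1) :
    ∃ (ψ : G → ℂ) (e : ℤ), IsIrrCharacter G ψ ∧ (e = 1 ∨ e = -1) ∧ classInner f ψ = e ∧
      f = (e : ℂ) • ψ := by
  have hne : f ≠ 0 := by
    rintro rfl
    rw [classInner_zero_left] at hnorm
    exact zero_ne_one hnorm
  have hex : ∃ χ, IsIrrCharacter G χ ∧ classInner f χ ≠ 0 := by
    by_contra hcon
    push Not at hcon
    exact hne (eq_zero_of_forall_irr_inner_eq_zero f hf hcon)
  obtain ⟨χ, hχ, hχne⟩ := hex
  obtain ⟨n, hn⟩ := hint χ hχ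
  have hn0 : n ≠ 0 := by
    rintro rfl
    apply hχne
    rw [hn]
    simp
  have hh : classInner (f - (n : ℂ) • χ) (f - (n : ℂ) • χ) = 1 - (n : ℂ) ^ 2 := by
    simp only [classInner_sub_left, classInner_sub_right, classInner_smul_left,
      classInner_smul_right]
    rw [hnorm, irr_inner_self hχ, ← classInner_conj_symm f χ, hn]
    simp only [map_intCast]
    ring
  have hge : (0 : ℝ) ≤ 1 - (n : ℝ) ^ 2 := by
    rw [classInner_self_eq] at hh
    have h3 : (((Nat.card G : ℝ)⁻¹ * ∑ g : G, ‖(f - (n : ℂ) • χ) g‖ ^ 2 : ℝ) : ℂ) =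
        ((1 - (n : ℝ) ^ 2 : ℝ) : ℂ) := by
      push_cast
      push_cast at hh
      exact hh
    have h4 : (Nat.card G : ℝ)⁻¹ * ∑ g : G, ‖(f - (n : ℂ) • χ) g‖ ^ 2 = 1 - (n : ℝ) ^ 2 := by
      exact_mod_cast h3
    rw [← h4]
    positivity
  have hn2 : n ^ 2 ≤ 1 := by
    have : (n : ℝ) ^ 2 ≤ 1 := by linarith
    exact_mod_cast this
  have hn1 : n = 1 ∨ n = -1 := by
    have h5 : -1 ≤ n ∧ n ≤ 1 := by
      constructor <;> nlinarith
    omega
  have hzero : f - (n : ℂ) • χ = 0 := by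
    apply classInner_self_eq_zero
    rw [hh]
    rcases hn1 with rfl | rfl <;> norm_num
  exact ⟨χ, n, hχ, hn1, hn, sub_eq_zero.mp hzero⟩

theorem norm_two_decomp {G : Type u} [Group G] [Fintype G] {f : G → ℂ}
    (hf : IsClassFunction G f)
    (hint : ∀ χ, IsIrrCharacter G χ → ∃ n : ℤ, classInner f χ = n)
    (hnorm : classInner f f = 2) :
    ∃ (ψ₁ ψ₂ : G → ℂ) (e₁ e₂ : ℤ), IsIrrCharacter G ψ₁ ∧ IsIrrCharacter G ψ₂ ∧
      (e₁ = 1 ∨ e₁ = -1) ∧ (e₂ = 1 ∨ e₂ = -1) ∧ classInner f ψ₁ = e₁ ∧ classInner f ψ₂ = e₂ ∧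
      f = (e₁ : ℂ) • ψ₁ + (e₂ : ℂ) • ψ₂ := by
  have hne : f ≠ 0 := by
    rintro rfl
    rw [classInner_zero_left] at hnorm
    norm_num at hnorm
  have hex : ∃ χ, IsIrrCharacter G χ ∧ classInner f χ ≠ 0 := by
    by_contra hcon
    push Not at hcon
    exact hne (eq_zero_of_forall_irr_inner_eq_zero f hf hcon)
  obtain ⟨χ, hχ, hχne⟩ := hex
  obtain ⟨n, hn⟩ := hint χ hχ
  have hn0 : n ≠ 0 := by
    rintro rfl
    apply hχne
    rw [hn]
    simp
  have hh : classInner (f - (n : ℂ) • χ) (f - (n : ℂ) • χ) = 2 - (n : ℂ) ^ 2 := by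
    simp only [classInner_sub_left, classInner_sub_right, classInner_smul_left,
      classInner_smul_right]
    rw [hnorm, irr_inner_self hχ, ← classInner_conj_symm f χ, hn]
    simp only [map_intCast]
    ring
  have hge : (0 : ℝ) ≤ 2 - (n : ℝ) ^ 2 := by
    rw [classInner_self_eq] at hh
    have h3 : (((Nat.card G : ℝ)⁻¹ * ∑ g : G, ‖(f - (n : ℂ) • χ) g‖ ^ 2 : ℝ) : ℂ) =
        ((2 - (n : ℝ) ^ 2 : ℝ) : ℂ) := by
      push_cast
      push_cast at hh
      exact hh
    have h4 : (Nat.card G : ℝ)⁻¹ * ∑ g : G, ‖(f - (n : ℂ) • χ) g‖ ^ 2 = 2 - (n : ℝ) ^ 2 := by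
      exact_mod_cast h3
    rw [← h4]
    positivity
  have hn2 : n ^ 2 ≤ 2 := by
    have : (n : ℝ) ^ 2 ≤ 2 := by linarith
    exact_mod_cast this
  have hn1 : n = 1 ∨ n = -1 := by
    have h5 : -1 ≤ n ∧ n ≤ 1 := by
      constructor <;> nlinarith
    omega
  have hh1 : classInner (f - (n : ℂ) • χ) (f - (n : ℂ) • χ) = 1 := by
    rw [hh]
    rcases hn1 with rfl | rfl <;> norm_num
  have hcf1 : IsClassFunction G (f - (n : ℂ) • χ) :=
    isClassFunction_sub hf (isClassFunction_smul _ (isClassFunction_of_irr hχ))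
  have hint1 : ∀ ψ, IsIrrCharacter G ψ → ∃ k : ℤ, classInner (f - (n : ℂ) • χ) ψ = k := by
    intro ψ hψ
    obtain ⟨k, hk⟩ := hint ψ hψ
    rw [classInner_sub_left, classInner_smul_left, irr_orthonormal hχ hψ, hk]
    by_cases h : χ = ψ
    · exact ⟨k - n, by rw [if_pos h]; push_cast; ring⟩
    · exact ⟨k, by rw [if_neg h]; ring⟩
  obtain ⟨ψ₂, e₂, hψ₂, he₂, hin₂, hf₂⟩ := norm_one_decomp hcf1 hint1 hh1
  have hne12 : χ ≠ ψ₂ := by
    intro h
    rw [← h, classInner_sub_left, classInner_smul_left, irr_inner_self hχ, hn, mul_one,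
      sub_self] at hin₂
    rcases he₂ with rfl | rfl <;> norm_num at hin₂
  refine ⟨χ, ψ₂, n, e₂, hχ, hψ₂, hn1, he₂, hn, ?_, ?_⟩
  · rw [classInner_sub_left, classInner_smul_left, irr_inner_ne hχ hψ₂ hne12, mul_zero,
      sub_zero] at hin₂
    exact hin₂
  · rw [← hf₂]
    exact (add_sub_cancel _ _).symm

end Decomp

section Main

variable [Fintype F] [DecidableEq F] [Fintype (Matrix.SpecialLinearGroup (Fin 2) F)]

omit [Fintype F] [DecidableEq F] in
theorem inner_conjRel {f χ χ' : S2 → ℂ} {y : G2} (hf : ConjRel f f y) (hy : ConjRel χ χ' y) :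
    classInner f χ' = classInner f χ := by
  classical
  have hex := fun g : S2 => conj_exists y g
  choose φ hφ using hex
  have hinj : Function.Injective φ := by
    intro a b hab
    have h1 := hφ a
    have h2 := hφ b
    rw [hab] at h1
    have h3 : y * Matrix.SpecialLinearGroup.toGL a * y⁻¹ =
        y * Matrix.SpecialLinearGroup.toGL b * y⁻¹ := h1.symm.trans h2
    have h4 : Matrix.SpecialLinearGroup.toGL a = Matrix.SpecialLinearGroup.toGL b := by
      calc Matrix.SpecialLinearGroup.toGL a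
          = y⁻¹ * (y * Matrix.SpecialLinearGroup.toGL a * y⁻¹) * y := by group
        _ = y⁻¹ * (y * Matrix.SpecialLinearGroup.toGL b * y⁻¹) * y := by rw [h3]
        _ = Matrix.SpecialLinearGroup.toGL b := by group
    exact toGL_inj h4
  have hbij : Function.Bijective φ := Finite.injective_iff_bijective.mp hinj
  rw [classInner_def, classInner_def]
  congr 1
  rw [← Equiv.sum_comp (Equiv.ofBijective φ hbij) (fun g => f g * conj (χ g))]
  apply Finset.sum_congr rfl
  intro g _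
  rw [Equiv.ofBijective_apply, ← hf g (φ g) (hφ g), ← hy g (φ g) (hφ g)]

theorem not_center_of_nonScalar (g : S2) (hns : Cfsg.Agent.Lib_helper8_GL2.NonScalar (g : M2)) :
    g ∉ Subgroup.center S2 := by
  intro h
  obtain ⟨o1, o2, o3, o4⟩ := one_entries (F := F)
  rcases (center_iff g).mp h with rfl | rfl
  · rcases hns with h9 | h9 | h9
    · exact h9 o3
    · exact h9 o2
    · exact h9 (o1.trans o4.symm)
  · rcases hns with h9 | h9 | h9
    · exact h9 negOne_10
    · exact h9 negOne_01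
    · exact h9 (negOne_00.trans negOne_11.symm)

theorem Psi_conjRel (hodd : Odd (Fintype.card F)) (C : Subgroup S2)
    (hcard : Nat.card C = Fintype.card F + 1) (θ : C →* ℂˣ) (α : MulChar F ℂ) (y : G2) :
    ConjRel (Df α - If C θ) (Df α - If C θ) y := by
  intro g h hh
  have h2 := two_ne_of_odd hodd
  have hcf : IsClassFunction S2 (Df α - If C θ) :=
    isClassFunction_sub (Df_class α) (If_class C θ)
  have ht : (g : M2).trace = (h : M2).trace := by
    have h5 : (h : M2) = (y : M2) * (g : M2) * ((y⁻¹ : G2) : M2) :=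
      congrArg (fun x : G2 => (x : M2)) hh
    rw [h5, Matrix.trace_mul_comm, ← Matrix.mul_assoc, ← Units.val_mul, inv_mul_cancel,
      Units.val_one, Matrix.one_mul]
  by_cases h4 : (g : M2).trace ^ 2 = 4
  · obtain ⟨e, he, hte⟩ := half_unit h2 _ h4
    have hte' : (h : M2).trace = 2 * (e : F) := by
      rw [← ht]
      exact hte
    by_cases hns : Cfsg.Agent.Lib_helper8_GL2.NonScalar (g : M2)
    · have hnsh : Cfsg.Agent.Lib_helper8_GL2.NonScalar (h : M2) := by
        by_contra hc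
        have hheq := scalar_eq h2 e he h hte' hc
        have h6 : Matrix.SpecialLinearGroup.toGL g = zG e := by
          have h7 : Matrix.SpecialLinearGroup.toGL g =
              y⁻¹ * Matrix.SpecialLinearGroup.toGL h * y := by
            rw [hh]
            group
          rw [h7, hheq, eu_toGL e he]
          have h8 := Subgroup.mem_center_iff.mp (zG_center (F := F) e) y⁻¹
          rw [h8]
          group
        have h8 : g = eu e 0 := toGL_inj (h6.trans (eu_toGL e he).symm)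
        rw [h8] at hns
        obtain ⟨e00, e01, e10, e11⟩ := eu_entries e (0 : F)
        rcases hns with h9 | h9 | h9
        · exact h9 e10
        · exact h9 e01
        · apply h9
          rw [e00, e11, he]
      have hsqg : IsSquare ((g : M2).trace ^ 2 - 4) := ⟨0, by rw [h4]; ring⟩
      have hsqh : IsSquare ((h : M2).trace ^ 2 - 4) := ⟨0, by rw [← ht, h4]; ring⟩
      rw [Pi.sub_apply, Pi.sub_apply, Df_trace2 α e he g hte hns, Df_trace2 α e he h hte' hnsh,
        If_split hodd C hcard θ g (not_center_of_nonScalar g hns) hsqg,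
        If_split hodd C hcard θ h (not_center_of_nonScalar h hnsh) hsqh]
    · have hg := scalar_eq h2 e he g hte hns
      have h6 : Matrix.SpecialLinearGroup.toGL h = Matrix.SpecialLinearGroup.toGL g := by
        rw [hh, hg, eu_toGL e he]
        have h8 := Subgroup.mem_center_iff.mp (zG_center (F := F) e) y
        rw [h8]
        group
      rw [toGL_inj h6]
  · obtain ⟨R, hR⟩ := Cfsg.Agent.S2455.sl_conj h2 g h ht h4
    rw [← hR, hcf g R]

/-- The values at the non-central elements of an abelian non-split torus of the irreducible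
characters of degree `(q - 1) / 2`. -/
theorem half_cusp (hodd : Odd (Fintype.card F)) (hq : 5 ≤ Fintype.card F) (C : Subgroup S2)
    (hcomm : ∀ a b : S2, a ∈ C → b ∈ C → a * b = b * a)
    (hcard : Nat.card C = Fintype.card F + 1) (θ : C →* ℂˣ) (hsq : ∀ c : C, θ c ^ 2 = 1)
    (hnt : ∃ c : C, θ c ≠ 1) {χ : S2 → ℂ} (hχ : IsIrrCharacter S2 χ)
    (h1 : χ 1 = (((Fintype.card F - 1) / 2 : ℕ) : ℂ)) (c : C)
    (hnc : (c : S2) ∉ Subgroup.center S2) : χ c = -((θ c : ℂˣ) : ℂ) := by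
  classical
  haveI : Fintype (Matrix.GeneralLinearGroup (Fin 2) F) := Fintype.ofFinite _
  haveI : Fintype (MulChar F ℂ) := Fintype.ofFinite _
  haveI : Finite (Cfsg.IrrCharacter (Matrix.GeneralLinearGroup (Fin 2) F)) := irr_finite
  haveI : Fintype (Cfsg.IrrCharacter (Matrix.GeneralLinearGroup (Fin 2) F)) := Fintype.ofFinite _
  have hfin : Finite (Cfsg.IrrCharacter S2) := irr_finite
  have h2 := two_ne_of_odd hodd
  have hm := negOne_mem_torus hodd C hcard
  have hodd' := hodd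
  obtain ⟨m, hmq⟩ := hodd
  have hm2 : 2 ≤ m := by omega
  have e2 : (Fintype.card F - 1) / 2 = m := by omega
  have hcount := ((Cfsg.Agent.S2299.result hodd').2 hq).2.2.2.2.2
  rw [e2] at h1 hcount
  obtain ⟨α, hα⟩ := exists_alpha h2 C θ hm
  obtain ⟨Ψ, hΨ⟩ : ∃ Ψ : S2 → ℂ, Ψ = Df α - If C θ := ⟨_, rfl⟩
  have hcf : IsClassFunction S2 Ψ := by
    rw [hΨ]
    exact isClassFunction_sub (Df_class α) (If_class C θ)
  have hint : ∀ ψ, IsIrrCharacter S2 ψ → ∃ n : ℤ, classInner Ψ ψ = n := by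
    intro ψ hψ
    obtain ⟨a, ha⟩ := Df_int α hψ
    obtain ⟨b, hb⟩ := classInner_nat (If_char C θ) (isCharacter_of_irr hψ)
    exact ⟨a - b, by rw [hΨ, classInner_sub_left, ha, hb]; push_cast; ring⟩
  have hnorm : classInner Ψ Ψ = 2 := by
    rw [hΨ, classInner_sub_left, classInner_sub_right, classInner_sub_right, Df_norm h2 α,
      If_norm2 hodd' C hcomm hcard θ hsq, If_Df hodd' C hcard θ α hα,
      ← classInner_conj_symm (If C θ) (Df α), If_Df hodd' C hcard θ α hα]
    simp only [map_mul, map_sub, map_natCast, map_one, map_ofNat]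
    ring
  have hdeg : Ψ 1 = (Fintype.card F : ℂ) - 1 := by
    rw [hΨ, Pi.sub_apply, ← eu1_zero, Df_scalar α 1 inv_one, eu1_zero, If_one C hcard θ,
      Units.val_one, map_one]
    ring
  have hone : classInner Ψ (fun _ : S2 => (1 : ℂ)) = 0 := by
    rw [hΨ, classInner_sub_left, Df_inner_one h2 α, If_inner_one C θ hnt, sub_zero]
  rcases cls_deg hodd' m hmq hχ with ⟨h, -⟩ | ⟨h, -⟩ | ⟨h, -⟩ | ⟨h, -⟩ | ⟨h, -⟩ |
    ⟨-, θG, χ', y, hθG, hχ', hne, hy, hsum⟩
  · have := Nat.cast_injective (R := ℂ) (h1.symm.trans h)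
    omega
  · have := Nat.cast_injective (R := ℂ) (h1.symm.trans h)
    omega
  · have := Nat.cast_injective (R := ℂ) (h1.symm.trans h)
    omega
  · have := Nat.cast_injective (R := ℂ) (h1.symm.trans h)
    omega
  · have := Nat.cast_injective (R := ℂ) (h1.symm.trans h)
    omega
  have hinv : ConjRel Ψ Ψ y := by
    rw [hΨ]
    exact Psi_conjRel hodd' C hcard θ α y
  obtain ⟨n, hn⟩ := hint χ hχ
  have hn' : classInner Ψ χ' = n := by rw [inner_conjRel hinv hy, hn]
  have hχχ' : classInner χ χ' = 0 := irr_inner_ne hχ hχ' (Ne.symm hne)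
  have hχ'χ : classInner χ' χ = 0 := irr_inner_ne hχ' hχ hne
  have hR : classInner (Ψ - (n : ℂ) • χ - (n : ℂ) • χ')
      (Ψ - (n : ℂ) • χ - (n : ℂ) • χ') = 2 - 2 * (n : ℂ) ^ 2 := by
    simp only [classInner_sub_left, classInner_sub_right, classInner_smul_left,
      classInner_smul_right]
    rw [hnorm, irr_inner_self hχ, irr_inner_self hχ', hχχ', hχ'χ,
      ← classInner_conj_symm Ψ χ, ← classInner_conj_symm Ψ χ', hn, hn']
    simp only [map_intCast]
    ring
  have hge : (0 : ℝ) ≤ 2 - 2 * (n : ℝ) ^ 2 := by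
    rw [classInner_self_eq] at hR
    have h3 : (((Nat.card S2 : ℝ)⁻¹ *
        ∑ g : S2, ‖(Ψ - (n : ℂ) • χ - (n : ℂ) • χ') g‖ ^ 2 : ℝ) : ℂ) =
        ((2 - 2 * (n : ℝ) ^ 2 : ℝ) : ℂ) := by
      push_cast
      push_cast at hR
      exact hR
    have h4 : (Nat.card S2 : ℝ)⁻¹ *
        ∑ g : S2, ‖(Ψ - (n : ℂ) • χ - (n : ℂ) • χ') g‖ ^ 2 =
        2 - 2 * (n : ℝ) ^ 2 := by
      exact_mod_cast h3
    rw [← h4]
    positivity
  have hn3 : n = 0 ∨ n = 1 ∨ n = -1 := by
    have h5 : (n : ℝ) ^ 2 ≤ 1 := by linarith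
    have h6 : n ^ 2 ≤ 1 := by exact_mod_cast h5
    have h7 : -1 ≤ n ∧ n ≤ 1 := by
      constructor <;> nlinarith
    omega
  have hχ'1 : χ' 1 = χ 1 := conjRel_one hy
  have hell := torus_ell hodd' C hcard c.1 c.2 hnc
  rcases hn3 with rfl | rfl | rfl
  · exfalso
    obtain ⟨ψ₁, ψ₂, e₁, e₂, hψ₁, hψ₂, he₁, he₂, hin₁, hin₂, hdec⟩ :=
      norm_two_decomp hcf hint hnorm
    have key : ∀ (ψ : S2 → ℂ) (e : ℤ), IsIrrCharacter S2 ψ → (e = 1 ∨ e = -1) →
        classInner Ψ ψ = e → ∃ d : ℕ, ψ 1 = d ∧ m + 1 ≤ d ∧ d ≤ 2 * m + 2 := by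
      intro ψ e hψ he hin
      have hne0 : classInner Ψ ψ ≠ 0 := by
        rw [hin]
        rcases he with rfl | rfl <;> norm_num
      have hψχ : ψ ≠ χ := by
        rintro rfl
        apply hne0
        rw [hn]
        simp
      have hψχ' : ψ ≠ χ' := by
        rintro rfl
        apply hne0
        rw [hn']
        simp
      have hψ1 : ψ ≠ fun _ => 1 := by
        rintro rfl
        exact hne0 hone
      rcases cls_deg hodd' m hmq hψ with ⟨-, h'⟩ | ⟨h, -⟩ | ⟨h, -⟩ | ⟨h, -⟩ | ⟨h, -⟩ | ⟨h, -⟩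
      · exact absurd h' hψ1
      · exact ⟨2 * m + 1, h, by omega, by omega⟩
      · exact ⟨2 * m + 2, h, by omega, by omega⟩
      · exact ⟨2 * m, h, by omega, by omega⟩
      · exact ⟨m + 1, h, by omega, by omega⟩
      · exfalso
        obtain ⟨x, z, hxz, huniv⟩ := Nat.card_eq_two_iff.mp hcount
        have hmem : ∀ w : {χ : Cfsg.IrrCharacter S2 // (χ : S2 → ℂ) 1 = ((m : ℕ) : ℂ)},
            w = x ∨ w = z := by
          intro w
          have hw : w ∈ ({x, z} : Set _) := by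
            rw [huniv]
            trivial
          simpa using hw
        have hab : (⟨⟨ψ, hψ⟩, h⟩ : {χ : Cfsg.IrrCharacter S2 // (χ : S2 → ℂ) 1 = ((m : ℕ) : ℂ)}) ≠
            ⟨⟨χ, hχ⟩, h1⟩ := fun hh => hψχ (congrArg (fun w : {χ : Cfsg.IrrCharacter S2 //
              (χ : S2 → ℂ) 1 = ((m : ℕ) : ℂ)} => (w.1.1 : S2 → ℂ)) hh)
        have hac : (⟨⟨ψ, hψ⟩, h⟩ : {χ : Cfsg.IrrCharacter S2 // (χ : S2 → ℂ) 1 = ((m : ℕ) : ℂ)}) ≠
            ⟨⟨χ', hχ'⟩, hχ'1.trans h1⟩ := fun hh => hψχ' (congrArg (fun w : {χ : Cfsg.IrrCharacter S2 //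
              (χ : S2 → ℂ) 1 = ((m : ℕ) : ℂ)} => (w.1.1 : S2 → ℂ)) hh)
        have hbc : (⟨⟨χ, hχ⟩, h1⟩ : {χ : Cfsg.IrrCharacter S2 // (χ : S2 → ℂ) 1 = ((m : ℕ) : ℂ)}) ≠
            ⟨⟨χ', hχ'⟩, hχ'1.trans h1⟩ := fun hh => hne (congrArg (fun w : {χ : Cfsg.IrrCharacter S2 //
              (χ : S2 → ℂ) 1 = ((m : ℕ) : ℂ)} => (w.1.1 : S2 → ℂ)) hh).symm
        rcases hmem ⟨⟨ψ, hψ⟩, h⟩ with ha | ha <;> rcases hmem ⟨⟨χ, hχ⟩, h1⟩ with hb | hb <;>
          rcases hmem ⟨⟨χ', hχ'⟩, hχ'1.trans h1⟩ with hc | hc <;>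
          first | exact hab (ha.trans hb.symm) | exact hac (ha.trans hc.symm) |
            exact hbc (hb.trans hc.symm)
    obtain ⟨d₁, hd₁, hl₁, hu₁⟩ := key ψ₁ e₁ hψ₁ he₁ hin₁
    obtain ⟨d₂, hd₂, hl₂, hu₂⟩ := key ψ₂ e₂ hψ₂ he₂ hin₂
    have h5 := congrFun hdec 1
    rw [hdeg, Pi.add_apply, Pi.smul_apply, Pi.smul_apply, hd₁, hd₂, hmq] at h5
    simp only [smul_eq_mul] at h5
    have h6 : ((2 * m : ℤ) : ℂ) = (((e₁ * d₁ + e₂ * d₂ : ℤ)) : ℂ) := by
      push_cast
      push_cast at h5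
      linear_combination h5
    have h7 : (2 * m : ℤ) = e₁ * d₁ + e₂ * d₂ := by exact_mod_cast h6
    rcases he₁ with rfl | rfl <;> rcases he₂ with rfl | rfl <;> omega
  · have hzero : Ψ - ((1 : ℤ) : ℂ) • χ - ((1 : ℤ) : ℂ) • χ' = 0 := by
      apply classInner_self_eq_zero
      rw [hR]
      norm_num
    have hval := congrFun hzero c
    simp only [Pi.sub_apply, Pi.smul_apply, smul_eq_mul, Int.cast_one, one_mul,
      Pi.zero_apply] at hval
    have hc := conjRel_ss h2 (isClassFunction_of_irr hχ) hy c (ne4_of_not_sq hell)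
    have hinvθ : (θ c)⁻¹ = θ c := by
      rw [inv_eq_iff_mul_eq_one, ← sq]
      exact hsq c
    rw [hΨ, Pi.sub_apply, Df_ne4 h2 α _ (ne4_of_not_sq hell),
      If_mem' hodd' C hcomm hcard θ c.1 c.2 hnc, hc] at hval
    simp only [Subtype.coe_eta, hinvθ] at hval
    have h6 : (2 : ℂ) * (χ c + ((θ c : ℂˣ) : ℂ)) = 0 := by linear_combination -hval
    rcases mul_eq_zero.mp h6 with h7 | h7
    · norm_num at h7
    · linear_combination h7
  · exfalso
    have hzero : Ψ - ((-1 : ℤ) : ℂ) • χ - ((-1 : ℤ) : ℂ) • χ' = 0 := by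
      apply classInner_self_eq_zero
      rw [hR]
      norm_num
    have hval := congrFun hzero 1
    rw [Pi.sub_apply, Pi.sub_apply, hdeg, Pi.smul_apply, Pi.smul_apply, hχ'1, h1, hmq] at hval
    simp only [smul_eq_mul, Pi.zero_apply] at hval
    push_cast at hval
    have h6 : (4 : ℂ) * (m : ℂ) = 0 := by linear_combination hval
    have h7 : ((4 * m : ℕ) : ℂ) = ((0 : ℕ) : ℂ) := by
      push_cast
      exact h6
    have h8 := Nat.cast_injective (R := ℂ) h7
    omega

end Main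

section Wrap

variable [Fintype F] [DecidableEq F] [Fintype (Matrix.SpecialLinearGroup (Fin 2) F)]

theorem negOne_pow_odd (k : ℕ) (hk : Odd k) : (negOne : S2) ^ k = negOne := by
  rw [negOne_eq, eu0_pow, Odd.neg_one_pow hk]

/-- An element commuting with a given elliptic element whose `(q + 1) / 2`-th power is not `1`. -/
theorem exists_nontriv (hodd : Odd (Fintype.card F)) (g : S2)
    (hell : ¬ IsSquare ((g : M2).trace ^ 2 - 4)) :
    ∃ x : S2, g * x = x * g ∧ x ^ ((Fintype.card F + 1) / 2) ≠ 1 := by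
  have h2 := two_ne_of_odd hodd
  have h4 := ne4_of_not_sq hell
  obtain ⟨j, hj⟩ := hodd
  by_cases h3 : Fintype.card F % 4 = 3
  · -- the torus of rotations
    have hC₀ := cent_cyclic (F := F) h3
    have hcard₀ := card_cent (F := F) h3
    have hneg : ¬ IsSquare (-1 : F) := fun h => (FiniteField.isSquare_neg_one_iff.mp h) h3
    obtain ⟨w, hw⟩ := isSquare_mul_of_not hneg hell
    have huv : ((g : M2).trace / 2) ^ 2 + (w / 2) ^ 2 = 1 := by
      field_simp
      linear_combination -hw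
    have htr : (g : M2).trace = ((rot ((g : M2).trace / 2) (w / 2) huv : S2) : M2).trace := by
      rw [Matrix.trace_fin_two ((rot ((g : M2).trace / 2) (w / 2) huv : S2) : M2)]
      show (g : M2).trace = (g : M2).trace / 2 + (g : M2).trace / 2
      field_simp
      ring
    obtain ⟨R, hR⟩ := Cfsg.Agent.S2455.sl_conj h2 g _ htr h4
    have := hC₀
    obtain ⟨γ, hγ⟩ := IsCyclic.exists_generator
      (α := Subgroup.centralizer ({J0} : Set S2))
    have hord : orderOf γ = Fintype.card F + 1 := by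
      rw [orderOf_eq_card_of_forall_mem_zpowers hγ, hcard₀]
    have hγk : (γ : S2) ^ ((Fintype.card F + 1) / 2) ≠ 1 := by
      intro h
      have h5 : γ ^ ((Fintype.card F + 1) / 2) = 1 := Subtype.ext h
      exact pow_ne_one_of_lt_orderOf (by omega) (by rw [hord]; omega) h5
    have hcm := torus_comm _ hC₀ (γ : S2) _ γ.2 (rot_mem ((g : M2).trace / 2) (w / 2) huv)
    rw [← hR] at hcm
    refine ⟨R⁻¹ * (γ : S2) * R, ?_, ?_⟩
    · calc g * (R⁻¹ * (γ : S2) * R) = R⁻¹ * ((R * g * R⁻¹) * (γ : S2)) * R := by group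
        _ = R⁻¹ * ((γ : S2) * (R * g * R⁻¹)) * R := by rw [hcm]
        _ = R⁻¹ * (γ : S2) * R * g := by group
    · intro h
      apply hγk
      have h5 : (R⁻¹ * (γ : S2) * R) ^ ((Fintype.card F + 1) / 2) =
          R⁻¹ * (γ : S2) ^ ((Fintype.card F + 1) / 2) * R := by
        have h6 := conj_pow (a := R⁻¹) (b := (γ : S2)) (i := (Fintype.card F + 1) / 2)
        rwa [inv_inv] at h6
      rw [h5] at h
      calc (γ : S2) ^ ((Fintype.card F + 1) / 2)
          = R * (R⁻¹ * (γ : S2) ^ ((Fintype.card F + 1) / 2) * R) * R⁻¹ := by group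
        _ = 1 := by rw [h]; group
  · refine ⟨negOne, ?_, ?_⟩
    · exact Subgroup.mem_center_iff.mp ((center_iff _).mpr (Or.inr rfl)) g
    · rw [negOne_pow_odd _ ⟨j / 2, by omega⟩]
      exact (one_ne_negOne h2).symm

theorem half_ell (hodd : Odd (Fintype.card F)) (hq : 5 ≤ Fintype.card F) {χ : S2 → ℂ}
    (hχ : IsIrrCharacter S2 χ) (h1 : χ 1 = (((Fintype.card F - 1) / 2 : ℕ) : ℂ)) (g : S2)
    (hell : ¬ IsSquare ((g : M2).trace ^ 2 - 4)) :
    (g ^ ((Fintype.card F + 1) / 2) = 1 → χ g = -1) ∧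
      (g ^ ((Fintype.card F + 1) / 2) ≠ 1 → χ g = 1) := by
  have h2 := two_ne_of_odd hodd
  have h10 := ell_10_ne _ hell g rfl
  have hcard := card_cen h2 g hell
  have hcomm : ∀ a b : S2, a ∈ Subgroup.centralizer ({g} : Set S2) →
      b ∈ Subgroup.centralizer ({g} : Set S2) → a * b = b * a :=
    fun a b ha hb => comm_of_centralize g h10 a b ((mem_cen g a).mp ha) ((mem_cen g b).mp hb)
  have hkk : ∀ c : S2, c ∈ Subgroup.centralizer ({g} : Set S2) →
      c ^ ((Fintype.card F + 1) / 2) = 1 ∨ c ^ ((Fintype.card F + 1) / 2) = negOne := by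
    intro c hc
    have hp := pow_torus _ hcard c hc
    by_cases h : c ^ ((Fintype.card F + 1) / 2) = 1
    · left
      exact h
    · right
      apply eq_negOne_of_sq h2 _ _ h
      rw [← pow_add]
      have h5 : (Fintype.card F + 1) / 2 + (Fintype.card F + 1) / 2 = Fintype.card F + 1 := by
        obtain ⟨j, hj⟩ := hodd
        omega
      rw [h5]
      exact hp
  obtain ⟨θ, hθ⟩ := exists_th0 h2 _ hcomm _ hkk
  have hsq : ∀ c : Subgroup.centralizer ({g} : Set S2), θ c ^ 2 = 1 := by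
    intro c
    by_cases h : (c : S2) ^ ((Fintype.card F + 1) / 2) = 1
    · rw [(hθ c).1 h]
      simp
    · rw [(hθ c).2 h]
      simp
  have hgC : g ∈ Subgroup.centralizer ({g} : Set S2) := (mem_cen g g).mpr rfl
  have hgnc : g ∉ Subgroup.center S2 := by
    intro h
    apply hell
    obtain ⟨o1, o2, o3, o4⟩ := one_entries (F := F)
    rcases (center_iff g).mp h with h | h
    · rw [h, Matrix.trace_fin_two, o1, o4]
      exact ⟨0, by ring⟩
    · rw [h, Matrix.trace_fin_two, negOne_00, negOne_11]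
      exact ⟨0, by ring⟩
  have hm1 : (-1 : ℂˣ) ≠ 1 := by
    intro h
    have h5 := congrArg Units.val h
    norm_num at h5
  have hnt : ∃ c : Subgroup.centralizer ({g} : Set S2), θ c ≠ 1 := by
    obtain ⟨x, hx, hxk⟩ := exists_nontriv hodd g hell
    refine ⟨⟨x, (mem_cen g x).mpr hx⟩, ?_⟩
    rw [(hθ ⟨x, (mem_cen g x).mpr hx⟩).2 hxk]
    exact hm1
  have hval := half_cusp hodd hq _ hcomm hcard θ hsq hnt hχ h1 ⟨g, hgC⟩ hgnc
  constructor
  · intro h
    rw [hval, (hθ ⟨g, hgC⟩).1 h, Units.val_one]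
  · intro h
    rw [hval, (hθ ⟨g, hgC⟩).2 h, Units.val_neg, Units.val_one, neg_neg]

omit [Fintype F] [DecidableEq F] [Fintype (Matrix.SpecialLinearGroup (Fin 2) F)] in
theorem noeig_ell (h2 : (2 : F) ≠ 0) (g : S2)
    (hno : ∀ (c : F) (v : Fin 2 → F), v ≠ 0 → (g : M2).mulVec v ≠ c • v) :
    ¬ IsSquare ((g : M2).trace ^ 2 - 4) := by
  obtain ⟨h10, hroot⟩ := ell_cond (Matrix.SpecialLinearGroup.toGL g) hno
  have hg : ((Matrix.SpecialLinearGroup.toGL g : G2) : M2) = (g : M2) := rfl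
  rw [hg] at h10 hroot
  rintro ⟨s, hs⟩
  rw [Matrix.trace_fin_two] at hs
  have hdet := det_entries g
  apply hroot ((s - ((g : M2) 1 1 - (g : M2) 0 0)) / (2 * (g : M2) 1 0))
  field_simp
  linear_combination (-1 : F) * hs + 4 * hdet

omit [Fintype F] [DecidableEq F] [Fintype (Matrix.SpecialLinearGroup (Fin 2) F)] in
theorem quad_sq (γ : MulChar F ℂ) (hγ2 : γ ^ 2 = 1) (b : F) (hb : b ≠ 0) : γ b * γ b = 1 := by
  have h := congrArg (fun χ : MulChar F ℂ => χ b) hγ2
  simp only [MulChar.pow_apply' γ two_ne_zero, MulChar.one_apply (isUnit_iff_ne_zero.mpr hb)] at h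
  rw [← sq]
  exact h

omit [Fintype (Matrix.SpecialLinearGroup (Fin 2) F)] in
theorem quad_val (γ : MulChar F ℂ) (hγ1 : γ ≠ 1) (hγ2 : γ ^ 2 = 1) (a : F) (ha : a ≠ 0) :
    (IsSquare a → γ a = 1) ∧ (¬ IsSquare a → γ a = -1) := by
  constructor
  · rintro ⟨b, rfl⟩
    have hb : b ≠ 0 := fun h => ha (by rw [h, mul_zero])
    rw [map_mul]
    exact quad_sq γ hγ2 b hb
  · intro hns
    obtain ⟨x, hx⟩ := MulChar.ne_one_iff.mp hγ1
    have hxs : ¬ IsSquare (x : F) := by
      rintro ⟨b, hb⟩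
      apply hx
      have hb0 : b ≠ 0 := by
        rintro rfl
        rw [mul_zero] at hb
        exact x.ne_zero hb
      rw [hb, map_mul]
      exact quad_sq γ hγ2 b hb0
    have hxm : γ (x : F) = -1 := by
      have h5 := quad_sq γ hγ2 x x.ne_zero
      have h6 : (γ (x : F) - 1) * (γ (x : F) + 1) = 0 := by linear_combination h5
      rcases mul_eq_zero.mp h6 with h7 | h7
      · exact absurd (sub_eq_zero.mp h7) hx
      · linear_combination h7
    obtain ⟨b, hb⟩ := isSquare_mul_of_not hns hxs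
    have hb0 : b ≠ 0 := by
      rintro rfl
      rw [mul_zero] at hb
      exact mul_ne_zero ha x.ne_zero hb
    have h8 : γ a * γ (x : F) = 1 := by
      rw [← map_mul, hb, map_mul]
      exact quad_sq γ hγ2 b hb0
    rw [hxm] at h8
    linear_combination -h8

theorem half_split (hodd : Odd (Fintype.card F)) (hq : 5 ≤ Fintype.card F) {χ : S2 → ℂ}
    (hχ : IsIrrCharacter S2 χ) (h1 : χ 1 = (((Fintype.card F + 1) / 2 : ℕ) : ℂ)) (g : S2)
    (h01 : (g : M2) 0 1 = 0) (h10 : (g : M2) 1 0 = 0) (h00 : (g : M2) 0 0 ^ 2 ≠ 1) :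
    (IsSquare ((g : M2) 0 0) → χ g = 1) ∧ (¬ IsSquare ((g : M2) 0 0) → χ g = -1) := by
  classical
  haveI : Fintype (Matrix.GeneralLinearGroup (Fin 2) F) := Fintype.ofFinite _
  haveI : Fintype (MulChar F ℂ) := Fintype.ofFinite _
  haveI : Finite (Cfsg.IrrCharacter (Matrix.GeneralLinearGroup (Fin 2) F)) := irr_finite
  haveI : Fintype (Cfsg.IrrCharacter (Matrix.GeneralLinearGroup (Fin 2) F)) := Fintype.ofFinite _
  have h2 := two_ne_of_odd hodd
  have hodd' := hodd
  obtain ⟨m, hmq⟩ := hodd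
  have hm2 : 2 ≤ m := by omega
  have e1 : (Fintype.card F + 1) / 2 = m + 1 := by omega
  rw [e1] at h1
  rcases cls_deg hodd' m hmq hχ with ⟨h, -⟩ | ⟨h, -⟩ | ⟨h, -⟩ | ⟨h, -⟩ |
    ⟨-, γ, χ', y, hγ1, hγ2, hχ', hne, hy, hsum⟩ | ⟨h, -⟩
  · have := Nat.cast_injective (R := ℂ) (h1.symm.trans h)
    omega
  · have := Nat.cast_injective (R := ℂ) (h1.symm.trans h)
    omega
  · have := Nat.cast_injective (R := ℂ) (h1.symm.trans h)
    omega
  · have := Nat.cast_injective (R := ℂ) (h1.symm.trans h)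
    omega
  · have hdet := det_entries g
    rw [h01] at hdet
    have hd : (g : M2) 0 0 * (g : M2) 1 1 = 1 := by linear_combination hdet
    have h00ne : (g : M2) 0 0 ≠ 0 := left_ne_zero_of_mul_eq_one hd
    have h11ne : (g : M2) 1 1 ≠ 0 := right_ne_zero_of_mul_eq_one hd
    have hne11 : (g : M2) 0 0 ≠ (g : M2) 1 1 := by
      intro h
      apply h00
      rw [← h] at hd
      rw [sq]
      exact hd
    have h4 : (g : M2).trace ^ 2 ≠ 4 := by
      rw [Matrix.trace_fin_two]
      intro h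
      apply hne11
      have h5 : ((g : M2) 0 0 - (g : M2) 1 1) ^ 2 = 0 := by linear_combination h - 4 * hd
      exact sub_eq_zero.mp (pow_eq_zero_iff two_ne_zero |>.mp h5)
    have hc := conjRel_ss h2 (isClassFunction_of_irr hχ) hy g h4
    have hps := psR_split γ 1 (Matrix.SpecialLinearGroup.toGL g) h01 h10 hne11
    have hs := hsum g
    rw [hps, hc] at hs
    have hg : ((Matrix.SpecialLinearGroup.toGL g : G2) : M2) = (g : M2) := rfl
    rw [hg, MulChar.one_apply (isUnit_iff_ne_zero.mpr h11ne),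
      MulChar.one_apply (isUnit_iff_ne_zero.mpr h00ne), mul_one, mul_one] at hs
    have hγ11 : γ ((g : M2) 1 1) = γ ((g : M2) 0 0) := by
      have h5 : γ ((g : M2) 0 0) * γ ((g : M2) 1 1) = 1 := by rw [← map_mul, hd, map_one]
      have h6 := quad_sq γ hγ2 _ h00ne
      calc γ ((g : M2) 1 1) = (γ ((g : M2) 0 0) * γ ((g : M2) 0 0)) * γ ((g : M2) 1 1) := by
            rw [h6, one_mul]
        _ = γ ((g : M2) 0 0) * (γ ((g : M2) 0 0) * γ ((g : M2) 1 1)) := by ring
        _ = γ ((g : M2) 0 0) := by rw [h5, mul_one]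
    rw [hγ11] at hs
    have hχg : χ g = γ ((g : M2) 0 0) := by
      have h6 : (2 : ℂ) * (χ g - γ ((g : M2) 0 0)) = 0 := by linear_combination -hs
      rcases mul_eq_zero.mp h6 with h7 | h7
      · norm_num at h7
      · exact sub_eq_zero.mp h7
    obtain ⟨q1, q2⟩ := quad_val γ hγ1 hγ2 _ h00ne
    exact ⟨fun h => by rw [hχg, q1 h], fun h => by rw [hχg, q2 h]⟩
  · have := Nat.cast_injective (R := ℂ) (h1.symm.trans h)
    omega

end Wrap

end Cfsg.Agent.Lib_helper8_SL2Half
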