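import Cfsg.Statements.S2301
import Mathlib
import Cfsg.Agent.Lib_helper8_SL2Vals

set_option autoImplicit false
open Cfsg

namespace Cfsg.Agent.S2301

section Aux
open Matrix Cfsg.Agent.Lib_helper8_GL2 Cfsg.Agent.Lib_helper8_SL2Conj Cfsg.Agent.Lib_helper8_SL2Vals
open Cfsg.Agent.Lib_helper8_SL2Cliff Cfsg.Agent.Lib_helper8_SL2Odd Cfsg.Agent.Lib_helper8_SL2Norm
open Cfsg.Agent.Lib_helper4_SL2Quat

variable {F : Type*} [Field F]

local notation "S2" => Matrix.SpecialLinearGroup (Fin 2) F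
local notation "M2" => Matrix (Fin 2) (Fin 2) F

theorem eu_one_mul (b c : F) : eu (1 : Fˣ) b * eu 1 c = eu 1 (b + c) := by
  obtain ⟨e00, e01, e10, e11⟩ := eu_entries (1 : Fˣ) b
  obtain ⟨f00, f01, f10, f11⟩ := eu_entries (1 : Fˣ) c
  obtain ⟨g00, g01, g10, g11⟩ := eu_entries (1 : Fˣ) (b + c)
  apply ext2 <;>
    simp only [mul_entries, e00, e01, e10, e11, f00, f01, f10, f11, g00, g01, g10, g11] <;>
    simp <;> ring

theorem eu_one_zero : eu (1 : Fˣ) (0 : F) = 1 := by
  obtain ⟨e00, e01, e10, e11⟩ := eu_entries (1 : Fˣ) (0 : F)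
  obtain ⟨o1, o2, o3, o4⟩ := one_entries (F := F)
  apply ext2
  · rw [e00, o1]; simp
  · rw [e01, o2]
  · rw [e10, o3]
  · rw [e11, o4]; simp

theorem eu_one_pow (b : F) (k : ℕ) : (eu (1 : Fˣ) b) ^ k = eu 1 ((k : F) * b) := by
  induction k with
  | zero => simp [eu_one_zero]
  | succ k ih =>
    rw [pow_succ, ih, eu_one_mul]
    congr 1
    push_cast
    ring

theorem order_eu (p : ℕ) [Fact p.Prime] [CharP F p] (b : F) (hb : b ≠ 0) :
    orderOf (eu (1 : Fˣ) b) = p := by
  apply orderOf_eq_prime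
  · rw [eu_one_pow, CharP.cast_eq_zero, zero_mul, eu_one_zero]
  · intro h
    have h01 := (eu_entries (1 : Fˣ) b).2.1
    rw [h] at h01
    exact hb (h01.symm.trans (one_entries (F := F)).2.1)

theorem order_iff [Fintype F] (h2 : (2 : F) ≠ 0) (p : ℕ) [Fact p.Prime] [CharP F p] (g : S2) :
    orderOf g = p ↔ ((g : M2).trace = 2 ∧ NonScalar (g : M2)) := by
  classical
  haveI : Fintype S2 := Fintype.ofFinite _
  constructor
  · intro ho
    have hp : p.Prime := Fact.out
    have hgp : g ^ p = 1 := by rw [← ho]; exact pow_orderOf_eq_one g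
    have hg1 : g ≠ 1 := by
      rintro rfl
      rw [orderOf_one] at ho
      exact hp.one_lt.ne ho
    have hM : ((g : M2) - 1) ^ p = 0 := by
      rw [sub_pow_char_of_commute p (Commute.one_right _), one_pow,
        ← Matrix.SpecialLinearGroup.coe_pow, hgp, Matrix.SpecialLinearGroup.coe_one, sub_self]
    have hnil : IsNilpotent ((g : M2) - 1) := ⟨p, hM⟩
    have htr := (Matrix.isNilpotent_trace_of_isNilpotent hnil).eq_zero
    rw [Matrix.trace_sub, Matrix.trace_one, Fintype.card_fin] at htr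
    have ht : (g : M2).trace = 2 := by
      have h := sub_eq_zero.mp htr
      rw [h]
      norm_num
    refine ⟨ht, ?_⟩
    by_contra hns
    have h := scalar_eq h2 1 inv_one g (by rw [ht]; simp) hns
    exact hg1 (h.trans eu_one_zero)
  · rintro ⟨ht, hns⟩
    obtain ⟨R, b, hb, hR⟩ := unip_normal g hns 1 inv_one (by rw [ht]; simp)
    have h : orderOf g = orderOf (eu (1 : Fˣ) b) := by
      rw [← hR]
      exact ((MulAut.conj R).orderOf_eq g).symm
    rw [h]
    exact order_eu p b hb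

theorem card_classes_p [Fintype F] (h2 : (2 : F) ≠ 0) (p : ℕ) [Fact p.Prime] [CharP F p] :
    Nat.card {C : ConjClasses S2 // ∃ g : S2, orderOf g = p ∧ ConjClasses.mk g = C} = 2 := by
  classical
  have hch : ringChar F ≠ 2 := by
    intro h
    have h3 := ringChar.Nat.cast_ringChar (R := F)
    rw [h] at h3
    exact h2 (by exact_mod_cast h3)
  obtain ⟨n, hn⟩ := FiniteField.exists_nonsquare (F := F) hch
  have hn0 : n ≠ 0 := by
    rintro rfl
    exact hn IsSquare.zero
  rw [Nat.card_eq_two_iff]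
  refine ⟨⟨ConjClasses.mk (eu 1 1), eu 1 1, order_eu p 1 one_ne_zero, rfl⟩,
    ⟨ConjClasses.mk (eu 1 n), eu 1 n, order_eu p n hn0, rfl⟩, ?_, ?_⟩
  · intro h
    have h1 : ConjClasses.mk (eu (1 : Fˣ) (1 : F)) = ConjClasses.mk (eu (1 : Fˣ) n) :=
      congrArg Subtype.val h
    rw [ConjClasses.mk_eq_mk_iff_isConj, unip_conj_iff h2 1 inv_one 1 n one_ne_zero hn0,
      one_mul] at h1
    exact hn h1
  · rw [Set.eq_univ_iff_forall]
    rintro ⟨C, g, hg, rfl⟩
    obtain ⟨ht, hns⟩ := (order_iff h2 p g).mp hg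
    obtain ⟨R, b, hb, hR⟩ := unip_normal g hns 1 inv_one (by rw [ht]; simp)
    have c1 : IsConj g (eu 1 b) := isConj_iff.mpr ⟨R, hR⟩
    by_cases hs : IsSquare b
    · left
      apply Subtype.ext
      show ConjClasses.mk g = ConjClasses.mk (eu 1 1)
      rw [ConjClasses.mk_eq_mk_iff_isConj]
      exact c1.trans (eu_conj_of_sq 1 b 1 hb one_ne_zero (by rwa [mul_one]))
    · right
      apply Subtype.ext
      show ConjClasses.mk g = ConjClasses.mk (eu 1 n)
      rw [ConjClasses.mk_eq_mk_iff_isConj]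
      exact c1.trans (eu_conj_of_sq 1 b n hb hn0 (isSquare_mul_of_not hs hn))

theorem centralizer_count [Fintype F] [DecidableEq F] [Fintype S2] (h2 : (2 : F) ≠ 0) (b : F)
    (hb : b ≠ 0) :
    (Finset.univ.filter (fun R : S2 => R * eu 1 b * R⁻¹ = eu 1 b)).card = 2 * Fintype.card F := by
  have hc : (Finset.univ.filter (fun u : Fˣ => u ^ 2 = 1) ×ˢ (Finset.univ : Finset F)).card =
      2 * Fintype.card F := by
    rw [Finset.card_product, card_sq_one_units h2, Finset.card_univ]
  rw [← hc]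
  symm
  obtain ⟨x00, x01, x10, x11⟩ := eu_entries (1 : Fˣ) b
  apply Finset.card_bij (fun (a : Fˣ × F) _ => (eu a.1 a.2 : S2))
  · rintro ⟨u, c⟩ hu
    rw [Finset.mem_product, Finset.mem_filter] at hu
    have hu2 : u⁻¹ = u := by
      apply inv_eq_of_mul_eq_one_right
      rw [← pow_two]
      exact hu.1.2
    rw [Finset.mem_filter]
    refine ⟨Finset.mem_univ _, ?_⟩
    rw [mul_inv_eq_iff_eq_mul]
    obtain ⟨e00, e01, e10, e11⟩ := eu_entries u c
    apply ext2 <;> simp only [mul_entries, e00, e01, e10, e11, x00, x01, x10, x11, hu2] <;>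
      simp <;> ring
  · rintro ⟨u, c⟩ hu ⟨u', c'⟩ hu' h
    obtain ⟨e00, e01, e10, e11⟩ := eu_entries u c
    obtain ⟨f00, f01, f10, f11⟩ := eu_entries u' c'
    have h00 : (u : F) = u' := by rw [← e00, ← f00]; exact congrArg (fun g : S2 => (g : M2) 0 0) h
    have h01 : c = c' := by rw [← e01, ← f01]; exact congrArg (fun g : S2 => (g : M2) 0 1) h
    exact Prod.ext (Units.ext h00) h01
  · intro R hR
    rw [Finset.mem_filter, mul_inv_eq_iff_eq_mul] at hR
    have hR2 := hR.2
    have k00 := congrArg (fun g : S2 => (g : M2) 0 0) hR2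
    have k01 := congrArg (fun g : S2 => (g : M2) 0 1) hR2
    simp only [mul_entries, x00, x01, x10, x11, inv_one, Units.val_one] at k00 k01
    have hdet := det_entries R
    have r10 : (R : M2) 1 0 = 0 := by
      have h5 : b * (R : M2) 1 0 = 0 := by
        linear_combination -k00
      rcases mul_eq_zero.mp h5 with h6 | h6
      · exact absurd h6 hb
      · exact h6
    have r11 : (R : M2) 1 1 = (R : M2) 0 0 := by
      have h5 : b * ((R : M2) 1 1 - (R : M2) 0 0) = 0 := by
        linear_combination -k01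
      rcases mul_eq_zero.mp h5 with h6 | h6
      · exact absurd h6 hb
      · exact sub_eq_zero.mp h6
    have hsq : (R : M2) 0 0 * (R : M2) 0 0 = 1 := by
      rw [r10, r11] at hdet
      linear_combination hdet
    have h0 : (R : M2) 0 0 ≠ 0 := by
      intro h
      rw [h] at hsq
      simp at hsq
    have hu2 : (Units.mk0 _ h0) ^ 2 = (1 : Fˣ) := by
      apply Units.ext
      rw [Units.val_pow_eq_pow_val, Units.val_mk0, Units.val_one, pow_two]
      exact hsq
    have hu3 : (Units.mk0 _ h0)⁻¹ = Units.mk0 _ h0 := by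
      apply inv_eq_of_mul_eq_one_right
      rw [← pow_two]
      exact hu2
    refine ⟨(Units.mk0 _ h0, (R : M2) 0 1), ?_, ?_⟩
    · rw [Finset.mem_product, Finset.mem_filter]
      exact ⟨⟨Finset.mem_univ _, hu2⟩, Finset.mem_univ _⟩
    · obtain ⟨e00, e01, e10, e11⟩ := eu_entries (Units.mk0 _ h0) ((R : M2) 0 1)
      apply ext2
      · rw [e00]; rfl
      · rw [e01]
      · rw [e10, r10]
      · rw [e11, hu3, r11]; rfl

theorem class_size [Fintype F] (h2 : (2 : F) ≠ 0) (b : F) (hb : b ≠ 0) :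
    Nat.card (ConjClasses.mk (eu (1 : Fˣ) b)).carrier = (Fintype.card F ^ 2 - 1) / 2 := by
  classical
  haveI : Fintype (Matrix.GeneralLinearGroup (Fin 2) F) := Fintype.ofFinite _
  haveI : Fintype S2 := Fintype.ofFinite _
  haveI : Fintype (ConjClasses.mk (eu (1 : Fˣ) b)).carrier := Fintype.ofFinite _
  haveI : Fintype (MulAction.stabilizer (ConjAct S2) (eu (1 : Fˣ) b)) := Fintype.ofFinite _
  rw [Nat.card_eq_fintype_card, ConjClasses.card_carrier]
  have hst : Fintype.card (MulAction.stabilizer (ConjAct S2) (eu (1 : Fˣ) b)) =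
      2 * Fintype.card F := by
    rw [← centralizer_count h2 b hb, ← Fintype.card_subtype]
    apply Fintype.card_congr
    exact Equiv.subtypeEquiv ConjAct.ofConjAct.toEquiv (fun c => by
      rw [MulAction.mem_stabilizer_iff, ConjAct.smul_def]; rfl)
  have hS : Fintype.card S2 = Fintype.card F * (Fintype.card F ^ 2 - 1) := by
    have h := card_S (F := F)
    have h1 : 1 ≤ Fintype.card F ^ 2 := Nat.one_le_pow _ _ Fintype.card_pos
    have h3 : (Nat.card S2 : ℂ) = ((Fintype.card F * (Fintype.card F ^ 2 - 1) : ℕ) : ℂ) := by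
      rw [h]
      push_cast [Nat.cast_sub h1]
      ring
    rw [← Nat.card_eq_fintype_card]
    exact_mod_cast h3
  rw [hst, hS, mul_comm 2, Nat.mul_div_mul_left _ _ Fintype.card_pos]

end Aux

/-- Over a finite field with q elements of odd characteristic p, the elements of order p of SL₂ (the non-identity unipotent elements) fall into exactly two conjugacy classes, each of size (q² − 1)/2; two upper unitriangular matrices with non-zero off-diagonal entries b and b′ are conjugate exactly when bb′ is a square. -/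
theorem result {F : Type*} [Field F] [Fintype F] (p : ℕ) [Fact p.Prime] [CharP F p] (hp : p ≠ 2) :
    Nat.card {C : ConjClasses (Matrix.SpecialLinearGroup (Fin 2) F) // ∃ g : Matrix.SpecialLinearGroup (Fin 2) F, orderOf g = p ∧ ConjClasses.mk g = C} = 2 ∧
    (∀ g : Matrix.SpecialLinearGroup (Fin 2) F, orderOf g = p → Nat.card (ConjClasses.mk g).carrier = (Fintype.card F ^ 2 - 1) / 2) ∧
    ∀ g h : Matrix.SpecialLinearGroup (Fin 2) F, (g : Matrix (Fin 2) (Fin 2) F) 0 0 = 1 → (g : Matrix (Fin 2) (Fin 2) F) 1 1 = 1 → (g : Matrix (Fin 2) (Fin 2) F) 1 0 = 0 → (g : Matrix (Fin 2) (Fin 2) F) 0 1 ≠ 0 →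
      (h : Matrix (Fin 2) (Fin 2) F) 0 0 = 1 → (h : Matrix (Fin 2) (Fin 2) F) 1 1 = 1 → (h : Matrix (Fin 2) (Fin 2) F) 1 0 = 0 → (h : Matrix (Fin 2) (Fin 2) F) 0 1 ≠ 0 →
      (IsConj g h ↔ IsSquare ((g : Matrix (Fin 2) (Fin 2) F) 0 1 * (h : Matrix (Fin 2) (Fin 2) F) 0 1)) := by
  classical
  have hp' : p.Prime := Fact.out
  have h2 : (2 : F) ≠ 0 := by
    intro h
    have h3 : ((2 : ℕ) : F) = 0 := by exact_mod_cast h
    have h4 := (CharP.cast_eq_zero_iff F p 2).mp h3
    exact hp ((Nat.prime_dvd_prime_iff_eq hp' Nat.prime_two).mp h4)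
  refine ⟨card_classes_p h2 p, ?_, ?_⟩
  · intro g hg
    obtain ⟨ht, hns⟩ := (order_iff h2 p g).mp hg
    obtain ⟨R, b, hb, hR⟩ := Cfsg.Agent.Lib_helper8_SL2Conj.unip_normal g hns 1 inv_one
      (by rw [ht]; simp)
    have c1 : ConjClasses.mk g = ConjClasses.mk (Cfsg.Agent.Lib_helper8_SL2Conj.eu (1 : Fˣ) b) :=
      ConjClasses.mk_eq_mk_iff_isConj.mpr (isConj_iff.mpr ⟨R, hR⟩)
    rw [c1]
    exact class_size h2 b hb
  · intro g h g00 g11 g10 g01 h00 h11 h10 h01
    have key : ∀ x : Matrix.SpecialLinearGroup (Fin 2) F,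
        (x : Matrix (Fin 2) (Fin 2) F) 0 0 = 1 → (x : Matrix (Fin 2) (Fin 2) F) 1 1 = 1 →
        (x : Matrix (Fin 2) (Fin 2) F) 1 0 = 0 →
        x = Cfsg.Agent.Lib_helper8_SL2Conj.eu (1 : Fˣ) ((x : Matrix (Fin 2) (Fin 2) F) 0 1) := by
      intro x x00 x11 x10
      obtain ⟨e00, e01, e10, e11⟩ := Cfsg.Agent.Lib_helper8_SL2Conj.eu_entries (1 : Fˣ)
        ((x : Matrix (Fin 2) (Fin 2) F) 0 1)
      apply Cfsg.Agent.Lib_helper4_SL2Quat.ext2
      · rw [e00, x00]; simp
      · rw [e01]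
      · rw [e10, x10]
      · rw [e11, x11]; simp
    have k := Cfsg.Agent.Lib_helper8_SL2Conj.unip_conj_iff h2 1 inv_one _ _ g01 h01
    rw [← key g g00 g11 g10, ← key h h00 h11 h10] at k
    exact k

end Cfsg.Agent.S2301
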