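import Mathlib
import Cfsg.Agent.Lib_helper8_SL2Half
import Cfsg.Agent.S2301
import Cfsg.Agent.S0914
import Cfsg.Agent.Lib_helper3_BlockAlg

set_option autoImplicit false

/-! The `p`-blocks of `SL_2(q)`, `q` a power of the odd prime `p`. -/

namespace Cfsg.Agent.Lib_helper8_SL2Blocks

open Cfsg Cfsg.Agent.Lib_helper3_CharBasic Cfsg.Agent.Lib_helper3_CharInd
open Cfsg.Agent.Lib_helper3_CharMore
open Cfsg.Agent.Lib_helper8_IndB Cfsg.Agent.Lib_helper8_GL2 Cfsg.Agent.Lib_helper8_GL2Irr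
open Cfsg.Agent.Lib_helper8_SL2Norm Cfsg.Agent.Lib_helper8_SL2Cliff
open Cfsg.Agent.Lib_helper8_SL2Odd Cfsg.Agent.Lib_helper8_SL2Conj Cfsg.Agent.Lib_helper8_SL2Vals
open Cfsg.Agent.Lib_helper4_SL2Quat Cfsg.Agent.Lib_helper8_SL2Tor
open Cfsg.Agent.Lib_helper8_SL2Half Cfsg.Agent.Lib_helper8_SL2Types
open Cfsg.Agent.Lib_helper3_Local Cfsg.Agent.Lib_helper3_Local2 Cfsg.Agent.Lib_helper3_BlockAlg
open scoped ComplexConjugate
open Matrix

universe u

variable {F : Type u} [Field F]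

local notation "G2" => Matrix.GeneralLinearGroup (Fin 2) F
local notation "S2" => Matrix.SpecialLinearGroup (Fin 2) F
local notation "M2" => Matrix (Fin 2) (Fin 2) F
local notation "BS" => (Subgroup.comap Matrix.SpecialLinearGroup.toGL (Cfsg.upperTriangularGL 2 F))

section GroupPart

theorem neg_one_eq : (-1 : S2) = negOne := by
  apply Subtype.ext
  rw [Matrix.SpecialLinearGroup.coe_neg, Matrix.SpecialLinearGroup.coe_one]
  ext i j
  fin_cases i <;> fin_cases j <;> simp [negOne]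

theorem negOne_sq : (negOne : S2) * negOne = 1 := by
  obtain ⟨o1, o2, o3, o4⟩ := one_entries (F := F)
  apply ext2
  · rw [mul_entries, negOne_00, negOne_01, negOne_10, o1]; ring
  · rw [mul_entries, negOne_00, negOne_01, negOne_11, o2]; ring
  · rw [mul_entries, negOne_00, negOne_10, negOne_11, o3]; ring
  · rw [mul_entries, negOne_01, negOne_10, negOne_11, o4]; ring

theorem negOne_center : (negOne : S2) ∈ Subgroup.center S2 := by
  rw [Subgroup.mem_center_iff]
  intro g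
  apply ext2
  · rw [mul_entries, mul_entries, negOne_00, negOne_01, negOne_10]; ring
  · rw [mul_entries, mul_entries, negOne_00, negOne_01, negOne_11]; ring
  · rw [mul_entries, mul_entries, negOne_00, negOne_10, negOne_11]; ring
  · rw [mul_entries, mul_entries, negOne_01, negOne_10, negOne_11]; ring

/-- The elements commuting with a non-trivial upper unitriangular matrix. -/
theorem comm_unip (g : S2) (b : F) (hb : b ≠ 0) (h : g * eu 1 b = eu 1 b * g) :
    ∃ x : F, g = eu 1 x ∨ g = negOne * eu 1 x := by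
  obtain ⟨e00, e01, e10, e11⟩ := eu_entries (1 : Fˣ) b
  have K00 := congrArg (fun z : S2 => (z : M2) 0 0) h
  have K01 := congrArg (fun z : S2 => (z : M2) 0 1) h
  simp only [mul_entries, e00, e01, e10, e11] at K00 K01
  simp only [Units.val_one, inv_one] at K00 K01
  have h10 : (g : M2) 1 0 = 0 := by
    have : b * (g : M2) 1 0 = 0 := by linear_combination -K00
    rcases mul_eq_zero.mp this with h | h
    · exact absurd h hb
    · exact h
  have h11 : (g : M2) 1 1 = (g : M2) 0 0 := by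
    have : b * ((g : M2) 1 1 - (g : M2) 0 0) = 0 := by linear_combination -K01
    rcases mul_eq_zero.mp this with h | h
    · exact absurd h hb
    · exact sub_eq_zero.mp h
  have hdet := det_entries g
  rw [h10, h11] at hdet
  have hsq : ((g : M2) 0 0 - 1) * ((g : M2) 0 0 + 1) = 0 := by linear_combination hdet
  rcases mul_eq_zero.mp hsq with h | h
  · have h00 : (g : M2) 0 0 = 1 := sub_eq_zero.mp h
    refine ⟨(g : M2) 0 1, Or.inl ?_⟩
    obtain ⟨f00, f01, f10, f11⟩ := eu_entries (1 : Fˣ) ((g : M2) 0 1)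
    apply ext2
    · rw [f00, h00]; simp
    · rw [f01]
    · rw [f10, h10]
    · rw [f11, h11, h00]; simp
  · have h00 : (g : M2) 0 0 = -1 := eq_neg_of_add_eq_zero_left h
    refine ⟨-(g : M2) 0 1, Or.inr ?_⟩
    obtain ⟨f00, f01, f10, f11⟩ := eu_entries (1 : Fˣ) (-(g : M2) 0 1)
    apply ext2
    · rw [mul_entries, negOne_00, negOne_01, f00, f10, h00]; simp
    · rw [mul_entries, negOne_00, negOne_01, f01, f11]; simp
    · rw [mul_entries, negOne_10, negOne_11, f00, f10, h10]; simp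
    · rw [mul_entries, negOne_10, negOne_11, f01, f11, h11, h00]; simp

theorem eu_pow_char (p : ℕ) [CharP F p] (x : F) : (eu (1 : Fˣ) x) ^ p = 1 := by
  rw [Cfsg.Agent.S2301.eu_one_pow, CharP.cast_eq_zero, zero_mul, Cfsg.Agent.S2301.eu_one_zero]

theorem char_dvd_card [Fintype F] (p : ℕ) [Fact p.Prime] [CharP F p] : p ∣ Fintype.card F := by
  obtain ⟨n, -, hn⟩ := FiniteField.card F p
  rw [hn]
  exact dvd_pow_self p n.ne_zero

theorem odd_card [Fintype F] (p : ℕ) [Fact p.Prime] [CharP F p] (hp : p ≠ 2) :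
    Odd (Fintype.card F) := by
  obtain ⟨n, hpr, hn⟩ := FiniteField.card F p
  rw [hn]
  exact (hpr.odd_of_ne_two hp).pow

theorem orderOf_negOne_dvd : orderOf (negOne : S2) ∣ 2 := by
  apply orderOf_dvd_of_pow_eq_one
  rw [pow_two, negOne_sq]

/-- An element whose class has size prime to `p` is `±1` times a `p`-element. -/
theorem ppart_of_index [Fintype F] (p : ℕ) [Fact p.Prime] [CharP F p] (hp : p ≠ 2) (g : S2)
    (h : ¬ p ∣ (Subgroup.centralizer ({g} : Set S2)).index) :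
    ∃ a y : S2, (y = 1 ∨ y = negOne) ∧ IsPPart p g a ∧ a⁻¹ * g = y := by
  classical
  haveI : Fintype S2 := Fintype.ofFinite _
  have hpr : p.Prime := Fact.out
  have h2 : (2 : F) ≠ 0 := two_ne_of_odd (odd_card p hp)
  have hcard : p ∣ Nat.card S2 := by
    rw [Nat.card_eq_fintype_card, card_S_nat, mul_assoc]
    exact Dvd.dvd.mul_right (char_dvd_card p) _
  rw [← Subgroup.card_mul_index (Subgroup.centralizer ({g} : Set S2))] at hcard
  have hC : p ∣ Nat.card (Subgroup.centralizer ({g} : Set S2)) := by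
    rcases (Nat.Prime.dvd_mul hpr).mp hcard with h1 | h1
    · exact h1
    · exact absurd h1 h
  obtain ⟨c, hc⟩ := exists_prime_orderOf_dvd_card' p hC
  have hc' : orderOf (c : S2) = p := by rw [Subgroup.orderOf_coe, hc]
  obtain ⟨ht, hns⟩ := (Cfsg.Agent.S2301.order_iff h2 p (c : S2)).mp hc'
  obtain ⟨R, b, hb, hR⟩ := unip_normal (c : S2) hns 1 inv_one (by rw [ht]; simp)
  have hcg : g * (c : S2) = (c : S2) * g := (mem_cen g (c : S2)).mp c.2
  have hcomm : (R * g * R⁻¹) * eu 1 b = eu 1 b * (R * g * R⁻¹) := by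
    rw [← hR]
    calc R * g * R⁻¹ * (R * (c : S2) * R⁻¹) = R * (g * (c : S2)) * R⁻¹ := by group
      _ = R * ((c : S2) * g) * R⁻¹ := by rw [hcg]
      _ = R * (c : S2) * R⁻¹ * (R * g * R⁻¹) := by group
  obtain ⟨x, hx⟩ := comm_unip (R * g * R⁻¹) b hb hcomm
  have hapow : (R⁻¹ * eu 1 x * R) ^ p = 1 := by
    have e : R⁻¹ * eu (1 : Fˣ) x * R = R⁻¹ * eu 1 x * R⁻¹⁻¹ := by rw [inv_inv]
    rw [e, conj_pow, eu_pow_char, mul_one, mul_inv_cancel]
  have hord : ∃ k : ℕ, orderOf (R⁻¹ * eu (1 : Fˣ) x * R) = p ^ k := by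
    have hdvd := orderOf_dvd_of_pow_eq_one hapow
    rcases (Nat.dvd_prime hpr).mp hdvd with h1 | h1
    · exact ⟨0, by rw [h1, pow_zero]⟩
    · exact ⟨1, by rw [h1, pow_one]⟩
  rcases hx with hx | hx
  · have hg : g = R⁻¹ * eu 1 x * R := by
      rw [← hx]
      group
    refine ⟨R⁻¹ * eu 1 x * R, 1, Or.inl rfl, ⟨1, ?_, Commute.one_right _, hord, ?_⟩, ?_⟩
    · rw [mul_one, ← hg]
    · rw [orderOf_one]
      exact hpr.one_lt.ne' ∘ Nat.dvd_one.mp
    · rw [← hg, inv_mul_cancel]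
  · have hzc := Subgroup.mem_center_iff.mp (negOne_center (F := F))
    have hg : g = R⁻¹ * eu 1 x * R * negOne := by
      have e1 : g = R⁻¹ * (R * g * R⁻¹) * R := by group
      have e2 : R⁻¹ * (negOne * eu 1 x) * R = negOne * (R⁻¹ * eu 1 x * R) := by
        calc R⁻¹ * (negOne * eu 1 x) * R = (R⁻¹ * negOne) * (eu 1 x * R) := by group
          _ = (negOne * R⁻¹) * (eu 1 x * R) := by rw [hzc R⁻¹]
          _ = negOne * (R⁻¹ * eu 1 x * R) := by group
      rw [e1, hx, e2, ← hzc (R⁻¹ * eu 1 x * R)]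
    refine ⟨R⁻¹ * eu 1 x * R, negOne, Or.inr rfl, ⟨negOne, hg.symm, ?_, hord, ?_⟩, ?_⟩
    · exact hzc (R⁻¹ * eu 1 x * R)
    · intro hdvd
      have h3 := Nat.dvd_trans hdvd (orderOf_negOne_dvd (F := F))
      exact hp ((Nat.prime_dvd_prime_iff_eq hpr Nat.prime_two).mp h3)
    · rw [hg]
      group

end GroupPart

section BlockGen

variable {G : Type u} [Group G] [Finite G] {M : Ideal AlgInt}

theorem centralChar_central {χ : G → ℂ} {z : G} (hz : z ∈ Subgroup.center G) :
    centralChar χ z = χ z / χ 1 := by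
  unfold centralChar
  have h : Subgroup.centralizer ({z} : Set G) = ⊤ := by
    rw [Subgroup.centralizer_eq_top_iff_subset]
    intro x hx
    rw [Set.mem_singleton_iff] at hx
    rw [hx]
    exact hz
  rw [h, Subgroup.index_top, Nat.cast_one, one_mul]

/-- The identity represents a defect class as soon as the idempotent coefficient is a unit. -/
theorem defect_of_coeff {p : ℕ} [Fact p.Prime] (hM : IsPModular p M)
    {B : Set (IrrCharacter G)} {N D : ℕ} (hN : ¬ p ∣ N) (hD : ¬ p ∣ D)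
    (h : blockCoeff B 1 = (N : ℂ) * (D : ℂ)⁻¹) (P : Sylow p G) :
    IsDefectGroup p M B (P : Subgroup G) := by
  haveI hMp : M.IsPrime := isPrime_of_modular hM
  have hne := hMp.ne_top
  haveI := Fintype.ofFinite G
  have hDinv : MemLocalRing M ((D : ℂ)⁻¹) :=
    memLocalRing_inv (memLocalRing_natCast hne D) (not_memLocalIdeal_natCast hM hD)
  have hD0 : (D : ℂ) ≠ 0 := by
    intro h0
    have h1 : D = 0 := by exact_mod_cast h0
    rw [h1] at hD
    exact hD (dvd_zero p)
  refine ⟨1, ⟨?_, ?_, ?_⟩, ?_⟩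
  · rw [h]
    exact memLocalRing_mul (memLocalRing_natCast hne N) hDinv
  · rw [h]
    intro hI
    have h1 := memLocalIdeal_mul_left (memLocalRing_natCast hne D) hI
    have h2 : (D : ℂ) * ((N : ℂ) * (D : ℂ)⁻¹) = (N : ℂ) := by field_simp
    rw [h2] at h1
    exact not_memLocalIdeal_natCast hM hN h1
  · intro χ _
    rw [centralChar_one (irr_apply_one_ne_zero χ.2)]
    exact not_memLocalIdeal_one
  · have hle : (P : Subgroup G) ≤ Subgroup.centralizer ({1} : Set G) := by
      intro x _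
      rw [Subgroup.mem_centralizer_iff]
      intro y hy
      rw [Set.mem_singleton_iff] at hy
      rw [hy, one_mul, mul_one]
    refine ⟨P.subtype hle, ?_⟩
    rw [Sylow.coe_subtype, Subgroup.map_subgroupOf_eq_of_le hle]

/-- Characters with different signs at a central involution lie in different blocks. -/
theorem sign_sep {p : ℕ} (hM : IsPModular p M) (hp : p ≠ 2) {χ ψ : G → ℂ} {z : G}
    (hz : z ∈ Subgroup.center G) (hs : SameBlock M χ ψ) (hχ1 : χ 1 ≠ 0) (hψ1 : ψ 1 ≠ 0)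
    (e1 : χ z = χ 1) (e2 : ψ z = -ψ 1) : False := by
  haveI hMp : M.IsPrime := isPrime_of_modular hM
  have h := hs z
  rw [centralChar_central hz, centralChar_central hz, e1, e2, div_self hχ1, neg_div,
    div_self hψ1] at h
  have h2 : (1 : ℂ) - -1 = ((2 : ℕ) : ℂ) := by norm_num
  rw [h2] at h
  refine not_memLocalIdeal_natCast hM ?_ h
  intro hd
  exact hp ((Nat.prime_dvd_prime_iff_eq hM.1 Nat.prime_two).mp hd)

end BlockGen

section CharPart

variable [Fintype F] [DecidableEq F] [Fintype (Matrix.GeneralLinearGroup (Fin 2) F)]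
  [Fintype (Matrix.SpecialLinearGroup (Fin 2) F)]

omit [Fintype F] [DecidableEq F] [Fintype (Matrix.GeneralLinearGroup (Fin 2) F)] in
/-- The sign of an irreducible character at `-1`. -/
theorem sign_negOne {χ : S2 → ℂ} (hχ : IsIrrCharacter S2 χ) :
    χ negOne = χ 1 ∨ χ negOne = -χ 1 := by
  obtain ⟨ω, -, hω⟩ := central_char hχ (negOne_center (F := F))
  have h1 := hω 1
  have h2 := hω negOne
  rw [mul_one] at h1
  rw [negOne_sq, h1] at h2
  have h0 := irr_apply_one_ne_zero hχ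
  have h3 : (ω - 1) * (ω + 1) = 0 := by
    have h4 : (ω * ω - 1) * χ 1 = 0 := by linear_combination -h2
    rcases mul_eq_zero.mp h4 with h | h
    · linear_combination h
    · exact absurd h h0
  rcases mul_eq_zero.mp h3 with h | h
  · left
    rw [h1, sub_eq_zero.mp h, one_mul]
  · right
    rw [h1, eq_neg_of_add_eq_zero_left h]
    ring

/-- The Steinberg character of `SL_2`. -/
noncomputable def stS : S2 → ℂ := fun s => stC 1 (Matrix.SpecialLinearGroup.toGL s)

theorem stS_one : (stS : S2 → ℂ) 1 = (Fintype.card F : ℂ) := by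
  unfold stS
  rw [map_one, stC_one]

theorem stS_negOne : (stS : S2 → ℂ) negOne = (Fintype.card F : ℂ) := by
  have h : ∀ s : S2, (stS : S2 → ℂ) s = Rf (1 * 1⁻¹) s - 1 := by
    intro s
    show psR 1 1 (Matrix.SpecialLinearGroup.toGL s) - linL 1 (Matrix.SpecialLinearGroup.toGL s)
      = _
    rw [linL_res, psR_toGL]
    rfl
  have h2 := Rf_negOne (1 * 1⁻¹ : MulChar F ℂ) 1
  rw [mul_one] at h2
  have hγ : ((1 : MulChar F ℂ) * 1⁻¹) (-1 : F) = 1 := by
    rw [mul_inv_cancel]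
    exact MulChar.one_apply isUnit_one.neg
  rw [h negOne, h2, hγ, one_mul, ← h 1, stS_one]

omit [DecidableEq F] [Fintype (Matrix.GeneralLinearGroup (Fin 2) F)]
  [Fintype (Matrix.SpecialLinearGroup (Fin 2) F)] in
theorem not_dvd_one (p : ℕ) [Fact p.Prime] : ¬ p ∣ 1 :=
  (Fact.out : p.Prime).one_lt.ne' ∘ Nat.dvd_one.mp

omit [DecidableEq F] [Fintype (Matrix.GeneralLinearGroup (Fin 2) F)]
  [Fintype (Matrix.SpecialLinearGroup (Fin 2) F)] in
theorem not_dvd_succ (p : ℕ) [Fact p.Prime] [CharP F p] : ¬ p ∣ Fintype.card F + 1 :=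
  fun h => not_dvd_one p ((Nat.dvd_add_right (char_dvd_card (F := F) p)).mp h)

omit [DecidableEq F] [Fintype (Matrix.GeneralLinearGroup (Fin 2) F)]
  [Fintype (Matrix.SpecialLinearGroup (Fin 2) F)] in
theorem not_dvd_pred (p : ℕ) [Fact p.Prime] [CharP F p] : ¬ p ∣ Fintype.card F - 1 := by
  intro h
  apply not_dvd_one p
  have hq := char_dvd_card (F := F) p
  have h1 : Fintype.card F - 1 + 1 = Fintype.card F := Nat.sub_add_cancel Fintype.card_pos
  rw [← h1] at hq
  exact (Nat.dvd_add_right h).mp hq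

variable [Fintype (MulChar F ℂ)] [Fintype (IrrCharacter (Matrix.GeneralLinearGroup (Fin 2) F))]

theorem stS_irr (hodd : Odd (Fintype.card F)) : IsIrrCharacter S2 (stS : S2 → ℂ) :=
  st_irr_odd hodd

/-- Every irreducible character other than the Steinberg character has degree prime to `p`. -/
theorem deg_cases (p : ℕ) [Fact p.Prime] [CharP F p] (hp : p ≠ 2) {χ : S2 → ℂ}
    (hχ : IsIrrCharacter S2 χ) : χ = stS ∨ ∃ d : ℕ, χ 1 = d ∧ ¬ p ∣ d := by
  have hodd := odd_card (F := F) p hp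
  have hq1 : 1 ≤ Fintype.card F := Fintype.card_pos
  have hn1 := not_dvd_one p
  have hqp := not_dvd_succ (F := F) p
  have hqm := not_dvd_pred (F := F) p
  rcases cls_odd hodd hχ with h | h | ⟨γ, -, h⟩ | ⟨θ, hθ, h⟩ |
      ⟨n, γ, χ', y, hn, hχ1, -⟩ | ⟨n, θ, χ', y, hn, hχ1, -⟩
  · right
    exact ⟨1, by rw [h]; simp, hn1⟩
  · left
    exact h
  · right
    refine ⟨Fintype.card F + 1, ?_, hqp⟩
    rw [h]
    show psR γ 1 (Matrix.SpecialLinearGroup.toGL (1 : S2)) = _
    rw [map_one, psR_one]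
    push_cast
    ring
  · right
    refine ⟨Fintype.card F - 1, ?_, hqm⟩
    rw [← h 1, map_one, hθ.2.2.1, Nat.cast_sub hq1]
    simp
  · right
    refine ⟨n, hχ1, ?_⟩
    intro hd
    apply hqp
    rw [hn]
    exact Dvd.dvd.mul_left hd 2
  · right
    refine ⟨n, hχ1, ?_⟩
    intro hd
    apply hqm
    rw [hn]
    exact Dvd.dvd.mul_left hd 2

theorem eq_stS_of_deg (p : ℕ) [Fact p.Prime] [CharP F p] (hp : p ≠ 2) {χ : S2 → ℂ}
    (hχ : IsIrrCharacter S2 χ) (h : χ 1 = (Fintype.card F : ℂ)) : χ = stS := by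
  rcases deg_cases p hp hχ with h1 | ⟨d, hd, hpd⟩
  · exact h1
  · exfalso
    rw [hd] at h
    have h2 : d = Fintype.card F := by exact_mod_cast h
    rw [h2] at hpd
    exact hpd (char_dvd_card p)

end CharPart

section SameBlock

variable [Fintype F]

/-- Two irreducible characters of degree prime to `p` with the same sign at `-1` lie in the same
block. -/
theorem sameBlock_of_sign (p : ℕ) [Fact p.Prime] [CharP F p] (hp : p ≠ 2) {M : Ideal AlgInt}
    (hM : IsPModular p M) {χ ψ : S2 → ℂ} (hχ : IsIrrCharacter S2 χ) (hψ : IsIrrCharacter S2 ψ)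
    {dχ dψ : ℕ} (h1 : χ 1 = dχ) (h2 : ψ 1 = dψ) (hd1 : ¬ p ∣ dχ) (hd2 : ¬ p ∣ dψ)
    {ε : ℂ} (e1 : χ negOne = ε * χ 1) (e2 : ψ negOne = ε * ψ 1) : SameBlock M χ ψ := by
  classical
  haveI : Fintype S2 := Fintype.ofFinite _
  haveI hMp : M.IsPrime := isPrime_of_modular hM
  have hne := hMp.ne_top
  intro g
  have hχint : ∀ x, MemLocalRing M (χ x) := fun x => memLocalRing_of_algInt hne
    (Cfsg.Agent.Lib_helper3_CharDiag.isCharacter_isIntegral (isCharacter_of_irr hχ) x)
  have hψint : ∀ x, MemLocalRing M (ψ x) := fun x => memLocalRing_of_algInt hne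
    (Cfsg.Agent.Lib_helper3_CharDiag.isCharacter_isIntegral (isCharacter_of_irr hψ) x)
  have hinvχ : MemLocalRing M ((dχ : ℂ)⁻¹) :=
    memLocalRing_inv (memLocalRing_natCast hne dχ) (not_memLocalIdeal_natCast hM hd1)
  have hinvψ : MemLocalRing M ((dψ : ℂ)⁻¹) :=
    memLocalRing_inv (memLocalRing_natCast hne dψ) (not_memLocalIdeal_natCast hM hd2)
  have hd1' : (dχ : ℂ) ≠ 0 := by
    intro h0
    have h3 : dχ = 0 := by exact_mod_cast h0
    rw [h3] at hd1
    exact hd1 (dvd_zero p)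
  have hd2' : (dψ : ℂ) ≠ 0 := by
    intro h0
    have h3 : dψ = 0 := by exact_mod_cast h0
    rw [h3] at hd2
    exact hd2 (dvd_zero p)
  unfold centralChar
  rw [h1, h2]
  obtain ⟨n, hn⟩ : ∃ n : ℕ, n = (Subgroup.centralizer ({g} : Set S2)).index := ⟨_, rfl⟩
  rw [← hn]
  by_cases hdvd : p ∣ n
  · have hn' : MemLocalIdeal M (n : ℂ) := memLocalIdeal_natCast hM hdvd
    have a1 : MemLocalIdeal M ((n : ℂ) * χ g / dχ) := by
      have e : (n : ℂ) * χ g / dχ = (χ g * (dχ : ℂ)⁻¹) * (n : ℂ) := by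
        rw [div_eq_mul_inv]
        ring
      rw [e]
      exact memLocalIdeal_mul_left (memLocalRing_mul (hχint g) hinvχ) hn'
    have a2 : MemLocalIdeal M ((n : ℂ) * ψ g / dψ) := by
      have e : (n : ℂ) * ψ g / dψ = (ψ g * (dψ : ℂ)⁻¹) * (n : ℂ) := by
        rw [div_eq_mul_inv]
        ring
      rw [e]
      exact memLocalIdeal_mul_left (memLocalRing_mul (hψint g) hinvψ) hn'
    exact memLocalIdeal_sub a1 a2
  · rw [hn] at hdvd
    obtain ⟨a, y, hy, hpp, hay⟩ := ppart_of_index p hp g hdvd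
    obtain ⟨w1, hw1, ew1⟩ := char_sub_reg_mem hM (isCharacter_of_irr hχ) hpp
    obtain ⟨w2, hw2, ew2⟩ := char_sub_reg_mem hM (isCharacter_of_irr hψ) hpp
    rw [hay] at ew1 ew2
    obtain ⟨ε', f1, f2⟩ : ∃ ε' : ℂ, χ y = ε' * dχ ∧ ψ y = ε' * dψ := by
      rcases hy with rfl | rfl
      · exact ⟨1, by rw [h1, one_mul], by rw [h2, one_mul]⟩
      · exact ⟨ε, by rw [e1, h1], by rw [e2, h2]⟩
    have key : (n : ℂ) * χ g / dχ - (n : ℂ) * ψ g / dψ =
        ((n : ℂ) * (dχ : ℂ)⁻¹) * (w1 : ℂ) - ((n : ℂ) * (dψ : ℂ)⁻¹) * (w2 : ℂ) := by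
      have e1' : χ g = (w1 : ℂ) + ε' * dχ := by rw [ew1, f1]; ring
      have e2' : ψ g = (w2 : ℂ) + ε' * dψ := by rw [ew2, f2]; ring
      rw [e1', e2']
      field_simp
      ring
    rw [key]
    exact memLocalIdeal_sub
      (memLocalIdeal_mul_left (memLocalRing_mul (memLocalRing_natCast hne n) hinvχ)
        (memLocalIdeal_of_mem hne hw1))
      (memLocalIdeal_mul_left (memLocalRing_mul (memLocalRing_natCast hne n) hinvψ)
        (memLocalIdeal_of_mem hne hw2))

end SameBlock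

section Main

variable [Fintype F]

/-- The block of the Steinberg character. -/
def B0 : Set (IrrCharacter S2) := {χ | (χ : S2 → ℂ) 1 = (Fintype.card F : ℂ)}

/-- The principal block. -/
def B1 : Set (IrrCharacter S2) :=
  {χ | (χ : S2 → ℂ) negOne = (χ : S2 → ℂ) 1 ∧ (χ : S2 → ℂ) 1 ≠ (Fintype.card F : ℂ)}

/-- The block of the faithful characters. -/
def B2 : Set (IrrCharacter S2) := {χ | (χ : S2 → ℂ) negOne = -(χ : S2 → ℂ) 1}

/-- The `p`-blocks of `SL_2(q)`. -/
theorem blocks_final (p : ℕ) [Fact p.Prime] [CharP F p] (hp : p ≠ 2) (M : Ideal AlgInt)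
    (hM : IsPModular p M) :
    (∀ B : Set (IrrCharacter S2), IsPBlock M B ↔ (B = B0 ∨ B = B1 ∨ B = B2)) ∧
    Nat.card {B : Set (IrrCharacter S2) // IsPBlock M B} = 3 ∧
    ∀ P : Sylow p S2, IsDefectGroup p M (B1 : Set (IrrCharacter S2)) (P : Subgroup S2) ∧
      IsDefectGroup p M (B2 : Set (IrrCharacter S2)) (P : Subgroup S2) := by
  classical
  haveI : Fintype G2 := Fintype.ofFinite _
  haveI : Fintype S2 := Fintype.ofFinite _
  haveI : Fintype (MulChar F ℂ) := Fintype.ofFinite _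
  haveI : Finite (IrrCharacter G2) := irr_finite
  haveI : Fintype (IrrCharacter G2) := Fintype.ofFinite _
  haveI : Finite (IrrCharacter S2) := irr_finite
  haveI : Fintype (IrrCharacter S2) := Fintype.ofFinite _
  have hMp : M.IsPrime := isPrime_of_modular hM
  have hne := hMp.ne_top
  have hpr : p.Prime := Fact.out
  have hodd := odd_card (F := F) p hp
  have h2 : (2 : F) ≠ 0 := two_ne_of_odd hodd
  have hqdvd := char_dvd_card (F := F) p
  have hn1 := not_dvd_one p
  have hqp := not_dvd_succ (F := F) p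
  have hqm := not_dvd_pred (F := F) p
  have hn2 : ¬ p ∣ 2 := fun hd => hp ((Nat.prime_dvd_prime_iff_eq hpr Nat.prime_two).mp hd)
  have hq3 : 3 ≤ Fintype.card F := by
    have h3 := Nat.le_of_dvd Fintype.card_pos hqdvd
    have h4 := hpr.two_le
    have h5 : p ≠ 2 := hp
    omega
  have hq0 : (Fintype.card F : ℂ) ≠ 0 := by
    have h3 := Fintype.card_ne_zero (α := F)
    exact_mod_cast h3
  obtain ⟨St, hSt⟩ : ∃ St : IrrCharacter S2, (St : S2 → ℂ) = stS := ⟨⟨stS, stS_irr hodd⟩, rfl⟩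
  obtain ⟨T, hT⟩ : ∃ T : IrrCharacter S2, (T : S2 → ℂ) = fun _ => 1 :=
    ⟨⟨_, isIrrCharacter_one⟩, rfl⟩
  have hSt1 : (St : S2 → ℂ) 1 = (Fintype.card F : ℂ) := by rw [hSt]; exact stS_one
  have hStz : (St : S2 → ℂ) negOne = (Fintype.card F : ℂ) := by rw [hSt]; exact stS_negOne
  have hT1 : (T : S2 → ℂ) 1 = 1 := by rw [hT]
  have hTz : (T : S2 → ℂ) negOne = 1 := by rw [hT]
  have huniq : ∀ χ : IrrCharacter S2, (χ : S2 → ℂ) 1 = (Fintype.card F : ℂ) → χ = St := by
    intro χ h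
    apply Subtype.ext
    rw [hSt]
    exact eq_stS_of_deg p hp χ.2 h
  have hdeg : ∀ χ : IrrCharacter S2, (χ : S2 → ℂ) 1 ≠ (Fintype.card F : ℂ) →
      ∃ d : ℕ, (χ : S2 → ℂ) 1 = d ∧ ¬ p ∣ d := by
    intro χ h
    rcases deg_cases p hp χ.2 with h1 | h1
    · exfalso
      apply h
      rw [h1]
      exact stS_one
    · exact h1
  have hsign : ∀ χ : IrrCharacter S2, (χ : S2 → ℂ) negOne = (χ : S2 → ℂ) 1 ∨
      (χ : S2 → ℂ) negOne = -(χ : S2 → ℂ) 1 := fun χ => sign_negOne χ.2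
  have hpos : ∀ χ : IrrCharacter S2, (χ : S2 → ℂ) 1 ≠ 0 := fun χ => irr_apply_one_ne_zero χ.2
  have hconj1 : ∀ χ : IrrCharacter S2, conj ((χ : S2 → ℂ) 1) = (χ : S2 → ℂ) 1 := by
    intro χ
    obtain ⟨n, hn⟩ := isCharacter_apply_one (isCharacter_of_irr χ.2)
    rw [hn, Complex.conj_natCast]
  have hconjz : ∀ χ : IrrCharacter S2, conj ((χ : S2 → ℂ) negOne) = (χ : S2 → ℂ) negOne := by
    intro χ
    rcases hsign χ with h | h
    · rw [h, hconj1]
    · rw [h, map_neg, hconj1]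
  have hS1 : ∑ χ : IrrCharacter S2, (χ : S2 → ℂ) 1 ^ 2 = (Nat.card S2 : ℂ) := sum_sq_degree
  have hS2 : ∑ χ : IrrCharacter S2, (χ : S2 → ℂ) 1 * (χ : S2 → ℂ) negOne = 0 := by
    have h := second_orthogonality (G := S2) negOne 1
    rw [if_neg] at h
    · rw [← h]
      apply Finset.sum_congr rfl
      intro χ _
      rw [hconjz]
    · intro hc
      exact one_ne_negOne h2 (isConj_one_left.mp hc).symm
  -- the sums of squares of the degrees over the two signs
  have hB2sum : 2 * ∑ χ : IrrCharacter S2, (B2 : Set (IrrCharacter S2)).indicator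
      (fun ψ : IrrCharacter S2 => (ψ : S2 → ℂ) 1 * conj ((ψ : S2 → ℂ) 1)) χ =
      (Nat.card S2 : ℂ) := by
    have e : ∀ χ : IrrCharacter S2, 2 * (B2 : Set (IrrCharacter S2)).indicator
        (fun ψ : IrrCharacter S2 => (ψ : S2 → ℂ) 1 * conj ((ψ : S2 → ℂ) 1)) χ =
        (χ : S2 → ℂ) 1 ^ 2 - (χ : S2 → ℂ) 1 * (χ : S2 → ℂ) negOne := by
      intro χ
      by_cases hmem : χ ∈ (B2 : Set (IrrCharacter S2))
      · rw [Set.indicator_of_mem hmem, hconj1]
        have h : (χ : S2 → ℂ) negOne = -(χ : S2 → ℂ) 1 := hmem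
        rw [h]
        ring
      · rw [Set.indicator_of_notMem hmem]
        have h : (χ : S2 → ℂ) negOne = (χ : S2 → ℂ) 1 := by
          rcases hsign χ with h | h
          · exact h
          · exact absurd h hmem
        rw [h]
        ring
    rw [Finset.mul_sum, Finset.sum_congr rfl (fun χ _ => e χ), Finset.sum_sub_distrib, hS1, hS2,
      sub_zero]
  have hB1sum : 2 * ∑ χ : IrrCharacter S2, (B1 : Set (IrrCharacter S2)).indicator
      (fun ψ : IrrCharacter S2 => (ψ : S2 → ℂ) 1 * conj ((ψ : S2 → ℂ) 1)) χ =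
      (Nat.card S2 : ℂ) - 2 * (Fintype.card F : ℂ) ^ 2 := by
    have e : ∀ χ : IrrCharacter S2, 2 * (B1 : Set (IrrCharacter S2)).indicator
        (fun ψ : IrrCharacter S2 => (ψ : S2 → ℂ) 1 * conj ((ψ : S2 → ℂ) 1)) χ =
        (χ : S2 → ℂ) 1 ^ 2 + (χ : S2 → ℂ) 1 * (χ : S2 → ℂ) negOne -
          (if χ = St then 2 * (Fintype.card F : ℂ) ^ 2 else 0) := by
      intro χ
      by_cases hχ : χ = St
      · have hmem : χ ∉ (B1 : Set (IrrCharacter S2)) := by
          intro hmem
          rw [hχ] at hmem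
          exact hmem.2 hSt1
        rw [if_pos hχ, Set.indicator_of_notMem hmem, hχ, hSt1, hStz]
        ring
      · rw [if_neg hχ]
        have hne1 : (χ : S2 → ℂ) 1 ≠ (Fintype.card F : ℂ) := fun h => hχ (huniq χ h)
        rcases hsign χ with h | h
        · have hmem : χ ∈ (B1 : Set (IrrCharacter S2)) := ⟨h, hne1⟩
          rw [Set.indicator_of_mem hmem, hconj1, h]
          ring
        · have hmem : χ ∉ (B1 : Set (IrrCharacter S2)) := by
            intro hm
            have h3 : (χ : S2 → ℂ) 1 = -(χ : S2 → ℂ) 1 := hm.1.symm.trans h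
            have h4 : (χ : S2 → ℂ) 1 = 0 := by linear_combination h3 / 2
            exact hpos χ h4
          rw [Set.indicator_of_notMem hmem, h]
          ring
    rw [Finset.mul_sum, Finset.sum_congr rfl (fun χ _ => e χ), Finset.sum_sub_distrib,
      Finset.sum_add_distrib, hS1, hS2, add_zero,
      Finset.sum_ite_eq' Finset.univ St (fun _ => 2 * (Fintype.card F : ℂ) ^ 2),
      if_pos (Finset.mem_univ _)]
  obtain ⟨X, hX⟩ : ∃ X : IrrCharacter S2, X ∈ (B2 : Set (IrrCharacter S2)) := by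
    by_contra hno
    push_neg at hno
    have h0 : ∑ χ : IrrCharacter S2, (B2 : Set (IrrCharacter S2)).indicator
        (fun ψ : IrrCharacter S2 => (ψ : S2 → ℂ) 1 * conj ((ψ : S2 → ℂ) 1)) χ = 0 :=
      Finset.sum_eq_zero (fun χ _ => Set.indicator_of_notMem (hno χ) _)
    rw [h0, mul_zero] at hB2sum
    exact card_ne_zero (G := S2) hB2sum.symm
  have hXz : (X : S2 → ℂ) negOne = -(X : S2 → ℂ) 1 := hX
  have hStB0 : St ∈ (B0 : Set (IrrCharacter S2)) := hSt1
  have hTB1 : T ∈ (B1 : Set (IrrCharacter S2)) := by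
    refine ⟨by rw [hT1, hTz], ?_⟩
    rw [hT1]
    intro h
    have h3 : Fintype.card F = 1 := by exact_mod_cast h.symm
    omega
  have hStB2 : St ∉ (B2 : Set (IrrCharacter S2)) := by
    intro h
    have h3 : (St : S2 → ℂ) negOne = -(St : S2 → ℂ) 1 := h
    rw [hStz, hSt1] at h3
    apply hq0
    linear_combination h3 / 2
  have hStB1 : St ∉ (B1 : Set (IrrCharacter S2)) := fun h => h.2 hSt1
  have hTB2 : T ∉ (B2 : Set (IrrCharacter S2)) := by
    intro h
    have h3 : (T : S2 → ℂ) negOne = -(T : S2 → ℂ) 1 := h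
    rw [hTz, hT1] at h3
    norm_num at h3
  have hXne : (X : S2 → ℂ) 1 ≠ (Fintype.card F : ℂ) := by
    intro h
    rw [huniq X h] at hX
    exact hStB2 hX
  -- the three blocks
  have hblk0 : blockOf M (St : S2 → ℂ) = B0 := by
    have h1 : ¬ p ∣ Nat.card S2 / charDegree (St : S2 → ℂ) := by
      rw [Cfsg.Agent.Lib_helper3_DefectZero.charDegree_eq hSt1, Nat.card_eq_fintype_card,
        card_S_nat, mul_assoc, Nat.mul_div_cancel_left _ Fintype.card_pos]
      intro hd
      rcases (Nat.Prime.dvd_mul hpr).mp hd with h | h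
      · exact hqm h
      · exact hqp h
    rw [(Cfsg.Agent.S0914.result p M hM St).mp h1]
    ext χ
    constructor
    · intro h
      rw [Set.mem_singleton_iff] at h
      rw [h]
      exact hStB0
    · intro h
      exact huniq χ h
  have hblk1 : blockOf M (T : S2 → ℂ) = B1 := by
    ext ψ
    constructor
    · intro hψ
      have hψ' : SameBlock M (T : S2 → ℂ) (ψ : S2 → ℂ) := hψ
      refine ⟨?_, ?_⟩
      · rcases hsign ψ with h | h
        · exact h
        · exfalso
          exact sign_sep hM hp negOne_center hψ' (hpos T) (hpos ψ) (by rw [hT1, hTz]) h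
      · intro h
        rw [huniq ψ h] at hψ'
        have h3 : T ∈ blockOf M (St : S2 → ℂ) := sameBlock_symm hψ'
        rw [hblk0] at h3
        exact hTB1.2 h3
    · rintro ⟨hz, h1⟩
      obtain ⟨d, hd, hpd⟩ := hdeg ψ h1
      show SameBlock M (T : S2 → ℂ) (ψ : S2 → ℂ)
      exact sameBlock_of_sign p hp hM T.2 ψ.2 (dχ := 1) (by rw [hT1, Nat.cast_one]) hd hn1 hpd
        (ε := 1) (by rw [hTz, hT1, one_mul]) (by rw [hz, one_mul])
  have hblk2 : blockOf M (X : S2 → ℂ) = B2 := by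
    obtain ⟨dX, hdX, hpdX⟩ := hdeg X hXne
    ext ψ
    constructor
    · intro hψ
      have hψ' : SameBlock M (X : S2 → ℂ) (ψ : S2 → ℂ) := hψ
      rcases hsign ψ with h | h
      · exfalso
        exact sign_sep hM hp negOne_center (sameBlock_symm hψ') (hpos ψ) (hpos X) h hXz
      · exact h
    · intro hψ
      have hψz : (ψ : S2 → ℂ) negOne = -(ψ : S2 → ℂ) 1 := hψ
      have hψne : (ψ : S2 → ℂ) 1 ≠ (Fintype.card F : ℂ) := by
        intro h
        rw [huniq ψ h] at hψ
        exact hStB2 hψ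
      obtain ⟨d, hd, hpd⟩ := hdeg ψ hψne
      show SameBlock M (X : S2 → ℂ) (ψ : S2 → ℂ)
      exact sameBlock_of_sign p hp hM X.2 ψ.2 hdX hd hpdX hpd (ε := -1)
        (by rw [hXz]; ring) (by rw [hψz]; ring)
  have hcover : ∀ χ : IrrCharacter S2, χ ∈ (B0 : Set (IrrCharacter S2)) ∨
      χ ∈ (B1 : Set (IrrCharacter S2)) ∨ χ ∈ (B2 : Set (IrrCharacter S2)) := by
    intro χ
    by_cases h : (χ : S2 → ℂ) 1 = (Fintype.card F : ℂ)
    · left
      exact h
    · rcases hsign χ with h' | h'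
      · right; left
        exact ⟨h', h⟩
      · right; right
        exact h'
  have h01 : (B0 : Set (IrrCharacter S2)) ≠ B1 := by
    intro h
    rw [h] at hStB0
    exact hStB1 hStB0
  have h02 : (B0 : Set (IrrCharacter S2)) ≠ B2 := by
    intro h
    rw [h] at hStB0
    exact hStB2 hStB0
  have h12 : (B1 : Set (IrrCharacter S2)) ≠ B2 := by
    intro h
    rw [h] at hTB1
    exact hTB2 hTB1
  have part1 : ∀ B : Set (IrrCharacter S2), IsPBlock M B ↔ (B = B0 ∨ B = B1 ∨ B = B2) := by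
    intro B
    constructor
    · rintro ⟨χ, rfl⟩
      rcases hcover χ with h | h | h
      · left
        rw [← hblk0] at h
        exact (blockOf_eq_of_mem h).trans hblk0
      · right; left
        rw [← hblk1] at h
        exact (blockOf_eq_of_mem h).trans hblk1
      · right; right
        rw [← hblk2] at h
        exact (blockOf_eq_of_mem h).trans hblk2
    · rintro (rfl | rfl | rfl)
      · exact ⟨St, hblk0.symm⟩
      · exact ⟨T, hblk1.symm⟩
      · exact ⟨X, hblk2.symm⟩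
  -- the idempotent coefficients at the identity
  have hcard := card_S (F := F)
  obtain ⟨k, hk⟩ := Nat.exists_eq_add_of_le hq3
  have hqk : (Fintype.card F : ℂ) = (k : ℂ) + 3 := by
    rw [hk]
    push_cast
    ring
  have hk2 : ((k : ℂ) + 2) ≠ 0 := by exact_mod_cast (by omega : k + 2 ≠ 0)
  have hk3 : ((k : ℂ) + 3) ≠ 0 := by exact_mod_cast (by omega : k + 3 ≠ 0)
  have hk4 : ((k : ℂ) + 4) ≠ 0 := by exact_mod_cast (by omega : k + 4 ≠ 0)
  have hcard' : (Nat.card S2 : ℂ) = ((k : ℂ) + 3) * ((k : ℂ) + 2) * ((k : ℂ) + 4) := by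
    rw [hcard, hqk]
    ring
  have hcoeff2 : blockCoeff (B2 : Set (IrrCharacter S2)) 1 =
      ((1 : ℕ) : ℂ) * ((2 : ℕ) : ℂ)⁻¹ := by
    rw [blockCoeff_eq_sum]
    have h3 : ∑ χ : IrrCharacter S2, (B2 : Set (IrrCharacter S2)).indicator
        (fun ψ : IrrCharacter S2 => (ψ : S2 → ℂ) 1 * conj ((ψ : S2 → ℂ) 1)) χ =
        (Nat.card S2 : ℂ) / 2 := by
      rw [← hB2sum]
      ring
    rw [h3, hcard']
    push_cast
    field_simp
  have hcoeff1 : blockCoeff (B1 : Set (IrrCharacter S2)) 1 =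
      ((k ^ 2 + 4 * k + 2 : ℕ) : ℂ) * ((2 * ((k + 2) * (k + 4)) : ℕ) : ℂ)⁻¹ := by
    rw [blockCoeff_eq_sum]
    have h3 : ∑ χ : IrrCharacter S2, (B1 : Set (IrrCharacter S2)).indicator
        (fun ψ : IrrCharacter S2 => (ψ : S2 → ℂ) 1 * conj ((ψ : S2 → ℂ) 1)) χ =
        ((Nat.card S2 : ℂ) - 2 * (Fintype.card F : ℂ) ^ 2) / 2 := by
      rw [← hB1sum]
      ring
    rw [h3, hcard', hqk]
    push_cast
    field_simp
    ring
  have hqk' : p ∣ 3 + k := by
    rw [← hk]
    exact hqdvd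
  have hN : ¬ p ∣ k ^ 2 + 4 * k + 2 := by
    intro hd
    have e : k ^ 2 + 4 * k + 2 + (2 * (3 + k) + 1) = (3 + k) * (3 + k) := by ring
    have h3 : p ∣ k ^ 2 + 4 * k + 2 + (2 * (3 + k) + 1) := by
      rw [e]
      exact Dvd.dvd.mul_right hqk' _
    have h4 : p ∣ 2 * (3 + k) + 1 := (Nat.dvd_add_right hd).mp h3
    have h5 : p ∣ 2 * (3 + k) := Dvd.dvd.mul_left hqk' 2
    exact hn1 ((Nat.dvd_add_right h5).mp h4)
  have hD : ¬ p ∣ 2 * ((k + 2) * (k + 4)) := by
    intro hd
    rcases (Nat.Prime.dvd_mul hpr).mp hd with h | h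
    · exact hn2 h
    · rcases (Nat.Prime.dvd_mul hpr).mp h with h | h
      · have h3 : p ∣ k + 2 + 1 := by
          have e : k + 2 + 1 = 3 + k := by ring
          rw [e]
          exact hqk'
        exact hn1 ((Nat.dvd_add_right h).mp h3)
      · have h3 : p ∣ 3 + k + 1 := by
          have e : 3 + k + 1 = k + 4 := by ring
          rw [e]
          exact h
        exact hn1 ((Nat.dvd_add_right hqk').mp h3)
  refine ⟨part1, ?_, ?_⟩
  · have hset : {B : Set (IrrCharacter S2) | IsPBlock M B} =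
        {(B0 : Set (IrrCharacter S2)), B1, B2} := by
      ext B
      rw [Set.mem_setOf_eq, part1 B]
      simp only [Set.mem_insert_iff, Set.mem_singleton_iff]
    show Nat.card ↥{B : Set (IrrCharacter S2) | IsPBlock M B} = 3
    rw [Nat.card_coe_set_eq, hset]
    exact Set.ncard_eq_three.mpr ⟨B0, B1, B2, h01, h02, h12, rfl⟩
  · intro P
    exact ⟨defect_of_coeff hM hN hD hcoeff1 P, defect_of_coeff hM hn1 hn2 hcoeff2 P⟩

end Main

end Cfsg.Agent.Lib_helper8_SL2Blocks
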