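import Mathlib
import Cfsg.Agent.Lib_helper8_SL2Blocks

set_option autoImplicit false

/-! Subgroups of order `4` of `SL_2(q)`, `q` odd, and the involutions of `PSL_2(q)`. -/

namespace Cfsg.Agent.Lib_helper8_SL2Four

open Cfsg
open Cfsg.Agent.Lib_helper8_GL2 Cfsg.Agent.Lib_helper8_SL2Conj Cfsg.Agent.Lib_helper8_SL2Vals
open Cfsg.Agent.Lib_helper8_SL2Odd
open Cfsg.Agent.Lib_helper4_SL2Quat Cfsg.Agent.Lib_helper8_SL2Tor
open Cfsg.Agent.Lib_helper8_SL2Half Cfsg.Agent.Lib_helper8_SL2Blocks
open Matrix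

universe u

variable {F : Type u} [Field F]

local notation "S2" => Matrix.SpecialLinearGroup (Fin 2) F
local notation "M2" => Matrix (Fin 2) (Fin 2) F

section Main

variable [Fintype F] [DecidableEq F] [Fintype (Matrix.SpecialLinearGroup (Fin 2) F)]

omit [Fintype F] [DecidableEq F] [Fintype (Matrix.SpecialLinearGroup (Fin 2) F)] in
/-- Elements squaring to `-1` have trace zero. -/
theorem trace_of_sq (a : S2) (ha : a * a = negOne) : (a : M2).trace = 0 := by
  have e00 := congrArg (fun z : S2 => (z : M2) 0 0) ha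
  have e01 := congrArg (fun z : S2 => (z : M2) 0 1) ha
  have e10 := congrArg (fun z : S2 => (z : M2) 1 0) ha
  have e11 := congrArg (fun z : S2 => (z : M2) 1 1) ha
  simp only [mul_entries, negOne_00, negOne_01, negOne_10, negOne_11] at e00 e01 e10 e11
  have hdet := det_entries a
  rw [Matrix.trace_fin_two]
  by_contra ht
  have h01 : (a : M2) 0 1 = 0 := by
    have h : (a : M2) 0 1 * ((a : M2) 0 0 + (a : M2) 1 1) = 0 := by linear_combination e01
    rcases mul_eq_zero.mp h with h | h
    · exact h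
    · exact absurd h ht
  have h10 : (a : M2) 1 0 = 0 := by
    have h : (a : M2) 1 0 * ((a : M2) 0 0 + (a : M2) 1 1) = 0 := by linear_combination e10
    rcases mul_eq_zero.mp h with h | h
    · exact h
    · exact absurd h ht
  rw [h01, h10] at e00 e11 hdet
  apply ht
  have hsq : ((a : M2) 0 0 + (a : M2) 1 1) ^ 2 = 0 := by linear_combination e00 + e11 + 2 * hdet
  exact (pow_eq_zero_iff (by norm_num : (2 : ℕ) ≠ 0)).mp hsq

theorem ne_one_of_sq (h2 : (2 : F) ≠ 0) (a : S2) (ha : a * a = negOne) :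
    a ≠ 1 ∧ a ≠ negOne := by
  constructor
  · rintro rfl
    rw [one_mul] at ha
    exact one_ne_negOne h2 ha
  · rintro rfl
    rw [negOne_sq] at ha
    exact one_ne_negOne h2 ha

omit [Fintype F] [DecidableEq F] [Fintype (Matrix.SpecialLinearGroup (Fin 2) F)] in
theorem inv_of_sq (a : S2) (ha : a * a = negOne) : a⁻¹ = negOne * a := by
  apply inv_eq_of_mul_eq_one_right
  have hz := Subgroup.mem_center_iff.mp (negOne_center (F := F))
  rw [← mul_assoc, hz a, mul_assoc, ha, negOne_sq]

theorem order_four (h2 : (2 : F) ≠ 0) (a : S2) (ha : a * a = negOne) : orderOf a = 4 := by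
  obtain ⟨h1, hm1⟩ := ne_one_of_sq h2 a ha
  rw [orderOf_eq_iff (by norm_num)]
  constructor
  · have e : a ^ 4 = (a * a) * (a * a) := by
      rw [show (4 : ℕ) = 2 + 2 from rfl, pow_add, pow_two]
    rw [e, ha, negOne_sq]
  · intro m hm hm0
    interval_cases m
    · rw [pow_one]
      exact h1
    · rw [pow_two, ha]
      exact (one_ne_negOne h2).symm
    · have e : a ^ 3 = (a * a) * a := by rw [pow_succ, pow_two]
      rw [e, ha]
      intro h
      apply hm1
      have e2 : a = negOne * (negOne * a) := by rw [← mul_assoc, negOne_sq, one_mul]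
      rw [e2, h, mul_one]

theorem mem_zp (h2 : (2 : F) ≠ 0) (a : S2) (ha : a * a = negOne) (x : S2) :
    x ∈ Subgroup.zpowers a ↔ x = 1 ∨ x = a ∨ x = negOne ∨ x = negOne * a := by
  classical
  constructor
  · intro hx
    rw [mem_zpowers_iff_mem_range_orderOf, order_four h2 a ha] at hx
    obtain ⟨k, hk, rfl⟩ := Finset.mem_image.mp hx
    rw [Finset.mem_range] at hk
    interval_cases k
    · left
      exact pow_zero a
    · right; left
      exact pow_one a
    · right; right; left
      rw [pow_two, ha]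
    · right; right; right
      have e : a ^ 3 = (a * a) * a := by rw [pow_succ, pow_two]
      rw [e, ha]
  · intro hx
    have hmem := Subgroup.mem_zpowers a
    have hneg : negOne ∈ Subgroup.zpowers a := by
      rw [← ha]
      exact mul_mem hmem hmem
    rcases hx with h | h | h | h
    · rw [h]
      exact one_mem _
    · rw [h]
      exact hmem
    · rw [h]
      exact hneg
    · rw [h]
      exact mul_mem hneg hmem

theorem four_struct (h2 : (2 : F) ≠ 0) (A : Subgroup S2) (hA : Nat.card A = 4) :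
    ∃ a : S2, a * a = negOne ∧ A = Subgroup.zpowers a := by
  classical
  have hex : ∃ a ∈ A, a ≠ 1 ∧ a ≠ negOne := by
    by_contra hno
    push_neg at hno
    have hsub : (A : Set S2) ⊆ {1, negOne} := by
      intro x hx
      by_cases h1 : x = 1
      · left
        exact h1
      · right
        exact hno x hx h1
    have hc : (A : Set S2).ncard ≤ 2 := by
      refine (Set.ncard_le_ncard hsub (Set.toFinite _)).trans ?_
      refine (Set.ncard_insert_le _ _).trans ?_
      rw [Set.ncard_singleton]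
    have hc2 : Nat.card A = (A : Set S2).ncard := Nat.card_coe_set_eq (A : Set S2)
    omega
  obtain ⟨a, haA, h1, hm1⟩ := hex
  have h4 : a ^ 4 = 1 := by
    have h5 := pow_card_eq_one' (G := A) (x := ⟨a, haA⟩)
    rw [hA] at h5
    have h6 := congrArg Subtype.val h5
    simpa using h6
  have hsq : (a * a) * (a * a) = 1 := by
    rw [← h4, show (4 : ℕ) = 2 + 2 from rfl, pow_add, pow_two]
  have haa : a * a = negOne := by
    by_cases h : a * a = 1
    · exact absurd (eq_negOne_of_sq h2 a h h1) hm1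
    · exact eq_negOne_of_sq h2 (a * a) hsq h
  refine ⟨a, haa, ?_⟩
  symm
  apply Subgroup.eq_of_le_of_card_ge
  · rw [Subgroup.zpowers_le]
    exact haA
  · rw [Nat.card_zpowers, order_four h2 a haa, hA]

omit [DecidableEq F] [Fintype (Matrix.SpecialLinearGroup (Fin 2) F)] in
theorem conj_of_sq (h2 : (2 : F) ≠ 0) (a b : S2) (ha : a * a = negOne) (hb : b * b = negOne) :
    ∃ R : S2, R * a * R⁻¹ = b := by
  have ht : (a : M2).trace = (b : M2).trace := by
    rw [trace_of_sq a ha, trace_of_sq b hb]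
  have hs : (a : M2).trace ^ 2 ≠ 4 := by
    rw [trace_of_sq a ha]
    intro h
    have h4 : (2 : F) * 2 = 0 := by linear_combination -h
    exact h2 (mul_self_eq_zero.mp h4)
  exact Cfsg.Agent.S2455.sl_conj h2 a b ht hs

omit [Fintype F] [DecidableEq F] [Fintype (Matrix.SpecialLinearGroup (Fin 2) F)] in
theorem diag_comm (a : Fˣ) (ha : a⁻¹ ≠ a) (z : S2) (hz : z * eu a 0 = eu a 0 * z) :
    ∃ d : Fˣ, z = eu d 0 := by
  obtain ⟨e00, e01, e10, e11⟩ := eu_entries a (0 : F)
  have K01 := congrArg (fun x : S2 => (x : M2) 0 1) hz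
  have K10 := congrArg (fun x : S2 => (x : M2) 1 0) hz
  simp only [mul_entries, e00, e01, e10, e11] at K01 K10
  have hne : ((a⁻¹ : Fˣ) : F) - (a : F) ≠ 0 := by
    intro h
    exact ha (Units.ext (sub_eq_zero.mp h))
  have h01 : (z : M2) 0 1 = 0 := by
    have h : (z : M2) 0 1 * (((a⁻¹ : Fˣ) : F) - (a : F)) = 0 := by linear_combination K01
    rcases mul_eq_zero.mp h with h | h
    · exact h
    · exact absurd h hne
  have h10 : (z : M2) 1 0 = 0 := by
    have h : (z : M2) 1 0 * (((a⁻¹ : Fˣ) : F) - (a : F)) = 0 := by linear_combination -K10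
    rcases mul_eq_zero.mp h with h | h
    · exact h
    · exact absurd h hne
  have hdet := det_entries z
  rw [h01, h10] at hdet
  have hdet' : (z : M2) 0 0 * (z : M2) 1 1 = 1 := by linear_combination hdet
  have h00 : (z : M2) 0 0 ≠ 0 := left_ne_zero_of_mul_eq_one hdet'
  refine ⟨Units.mk0 _ h00, ?_⟩
  obtain ⟨f00, f01, f10, f11⟩ := eu_entries (Units.mk0 _ h00) (0 : F)
  apply ext2
  · rw [f00, Units.val_mk0]
  · rw [f01, h01]
  · rw [f10, h10]
  · rw [f11, Units.val_inv_eq_inv_val, Units.val_mk0]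
    exact eq_inv_of_mul_eq_one_right hdet'

/-- The number of elements conjugating a split element to a given conjugate. -/
theorem conj_count_split (h2 : (2 : F) ≠ 0) (c y : S2) (s : F)
    (hs : (c : M2).trace ^ 2 - 4 = s * s) (hs0 : s ≠ 0) (hy : (y : M2).trace = (c : M2).trace) :
    (Finset.univ.filter (fun x : S2 => x * c * x⁻¹ = y)).card = Fintype.card F - 1 := by
  obtain ⟨a, R, ha, hR⟩ := split_conj h2 c s hs hs0
  have h4 : (c : M2).trace ^ 2 ≠ 4 := by
    intro h
    rw [h, sub_self] at hs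
    exact hs0 (mul_self_eq_zero.mp hs.symm)
  obtain ⟨R₁, hR₁⟩ := Cfsg.Agent.S2455.sl_conj h2 c y hy.symm h4
  rw [← Fintype.card_units, ← Finset.card_univ]
  symm
  apply Finset.card_bij (fun (d : Fˣ) _ => R₁ * R⁻¹ * eu d 0 * R)
  · intro d _
    rw [Finset.mem_filter]
    refine ⟨Finset.mem_univ _, ?_⟩
    have hcomm : eu d (0 : F) * eu a 0 * (eu d 0)⁻¹ = eu a 0 := by
      rw [eu0_mul, mul_comm d a, ← eu0_mul]
      group
    calc R₁ * R⁻¹ * eu d 0 * R * c * (R₁ * R⁻¹ * eu d 0 * R)⁻¹
        = R₁ * R⁻¹ * (eu d 0 * (R * c * R⁻¹) * (eu d 0)⁻¹) * R * R₁⁻¹ := by group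
      _ = R₁ * R⁻¹ * eu a 0 * R * R₁⁻¹ := by rw [hR, hcomm]
      _ = R₁ * (R⁻¹ * (R * c * R⁻¹) * R) * R₁⁻¹ := by
        rw [hR]
        group
      _ = R₁ * c * R₁⁻¹ := by group
      _ = y := hR₁
  · intro d₁ _ d₂ _ h
    have e1 : ∀ d : Fˣ, R * R₁⁻¹ * (R₁ * R⁻¹ * eu d (0 : F) * R) * R⁻¹ = eu d 0 := fun d => by
      group
    have h' : eu d₁ (0 : F) = eu d₂ 0 := by
      rw [← e1 d₁, ← e1 d₂, h]
    have h00 := congrArg (fun x : S2 => (x : M2) 0 0) h'
    simp only [(eu_entries d₁ (0 : F)).1, (eu_entries d₂ (0 : F)).1] at h00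
    exact Units.ext h00
  · intro x hx
    rw [Finset.mem_filter] at hx
    have hx' := hx.2
    have hz : (R * R₁⁻¹ * x * R⁻¹) * eu a 0 = eu a 0 * (R * R₁⁻¹ * x * R⁻¹) := by
      rw [← hR]
      have e : x * c = y * x := by
        rw [← hx']
        group
      calc R * R₁⁻¹ * x * R⁻¹ * (R * c * R⁻¹) = R * R₁⁻¹ * (x * c) * R⁻¹ := by group
        _ = R * R₁⁻¹ * (y * x) * R⁻¹ := by rw [e]
        _ = R * R₁⁻¹ * (R₁ * c * R₁⁻¹ * x) * R⁻¹ := by rw [hR₁]
        _ = R * c * R⁻¹ * (R * R₁⁻¹ * x * R⁻¹) := by group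
    obtain ⟨d, hd⟩ := diag_comm a ha _ hz
    refine ⟨d, Finset.mem_univ _, ?_⟩
    rw [← hd]
    group

theorem mem_norm (h2 : (2 : F) ≠ 0) (a : S2) (ha : a * a = negOne) (g : S2) :
    g ∈ Subgroup.normalizer ((Subgroup.zpowers a : Subgroup S2) : Set S2) ↔
      g * a * g⁻¹ = a ∨ g * a * g⁻¹ = a⁻¹ := by
  obtain ⟨h1, hm1⟩ := ne_one_of_sq h2 a ha
  have hz := Subgroup.mem_center_iff.mp (negOne_center (F := F))
  constructor
  · intro hg
    have h := (Subgroup.mem_normalizer_iff.mp hg a).mp (Subgroup.mem_zpowers a)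
    have e : a = g⁻¹ * (g * a * g⁻¹) * g := by group
    rcases (mem_zp h2 a ha _).mp h with h | h | h | h
    · exfalso
      apply h1
      rw [e, h]
      group
    · left
      exact h
    · exfalso
      apply hm1
      rw [e, h, mul_assoc, ← hz g, ← mul_assoc, inv_mul_cancel, one_mul]
    · right
      rw [h, inv_of_sq a ha]
  · intro hg
    have hmap : (Subgroup.zpowers a).map (MulAut.conj g).toMonoidHom = Subgroup.zpowers a := by
      rw [MonoidHom.map_zpowers]
      show Subgroup.zpowers (g * a * g⁻¹) = Subgroup.zpowers a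
      rcases hg with h | h
      · rw [h]
      · rw [h, Subgroup.zpowers_inv]
    rw [Subgroup.mem_normalizer_iff]
    intro x
    constructor
    · intro hx
      have h3 := Subgroup.mem_map_of_mem (MulAut.conj g).toMonoidHom hx
      rw [hmap] at h3
      exact h3
    · intro hx
      rw [← hmap] at hx
      obtain ⟨x', hx', he⟩ := Subgroup.mem_map.mp hx
      have h3 : x' = x := (MulAut.conj g).injective he
      rw [← h3]
      exact hx'

theorem norm_card (h2 : (2 : F) ≠ 0) (a : S2) (ha : a * a = negOne) (n : ℕ)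
    (hc1 : (Finset.univ.filter (fun x : S2 => x * a * x⁻¹ = a)).card = n)
    (hc2 : (Finset.univ.filter (fun x : S2 => x * a * x⁻¹ = a⁻¹)).card = n) :
    Nat.card (Subgroup.normalizer ((Subgroup.zpowers a : Subgroup S2) : Set S2)) = 2 * n := by
  classical
  rw [Nat.card_eq_fintype_card, Fintype.card_subtype]
  have hne : a ≠ a⁻¹ := by
    intro h
    have h3 : a * a = 1 := by
      nth_rewrite 2 [h]
      exact mul_inv_cancel a
    rw [ha] at h3
    exact one_ne_negOne h2 h3.symm
  have hset : Finset.univ.filter (fun g : S2 =>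
      g ∈ Subgroup.normalizer ((Subgroup.zpowers a : Subgroup S2) : Set S2)) =
      Finset.univ.filter (fun x : S2 => x * a * x⁻¹ = a) ∪
        Finset.univ.filter (fun x : S2 => x * a * x⁻¹ = a⁻¹) := by
    ext g
    rw [Finset.mem_filter, Finset.mem_union, Finset.mem_filter, Finset.mem_filter,
      mem_norm h2 a ha]
    simp
  rw [hset, Finset.card_union_of_disjoint, hc1, hc2]
  · ring
  · rw [Finset.disjoint_left]
    intro x hx1 hx2
    rw [Finset.mem_filter] at hx1 hx2
    exact hne (hx1.2.symm.trans hx2.2)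

end Main

/-- Subgroups of order four in `SL_2(q)`, `q` odd. -/
theorem four_final {F : Type u} [Field F] [Fintype F] (hodd : Odd (Fintype.card F))
    (A : Subgroup (Matrix.SpecialLinearGroup (Fin 2) F)) (hA : Nat.card A = 4) :
    (∀ B : Subgroup (Matrix.SpecialLinearGroup (Fin 2) F), Nat.card B = 4 →
      ∃ g : Matrix.SpecialLinearGroup (Fin 2) F, B = A.map (MulAut.conj g).toMonoidHom) ∧
    (Fintype.card F % 4 = 1 → Nat.card ↥(Subgroup.normalizer
      (A : Set (Matrix.SpecialLinearGroup (Fin 2) F))) = 2 * (Fintype.card F - 1)) ∧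
    (Fintype.card F % 4 = 3 → Nat.card ↥(Subgroup.normalizer
      (A : Set (Matrix.SpecialLinearGroup (Fin 2) F))) = 2 * (Fintype.card F + 1)) ∧
    (∀ x y : Matrix.ProjectiveSpecialLinearGroup (Fin 2) F, orderOf x = 2 → orderOf y = 2 →
      IsConj x y) := by
  classical
  haveI : Fintype (Matrix.SpecialLinearGroup (Fin 2) F) := Fintype.ofFinite _
  have h2 : (2 : F) ≠ 0 := two_ne_of_odd hodd
  obtain ⟨a, ha, rfl⟩ := four_struct h2 A hA
  have hta := trace_of_sq a ha
  have hainv : a⁻¹ * a⁻¹ = negOne := by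
    rw [← _root_.mul_inv_rev, ha]
    exact inv_eq_of_mul_eq_one_right negOne_sq
  have htinv := trace_of_sq a⁻¹ hainv
  refine ⟨?_, ?_, ?_, ?_⟩
  · intro B hB
    obtain ⟨b, hb, rfl⟩ := four_struct h2 B hB
    obtain ⟨R, hR⟩ := conj_of_sq h2 a b ha hb
    refine ⟨R, ?_⟩
    rw [MonoidHom.map_zpowers]
    show Subgroup.zpowers b = Subgroup.zpowers (R * a * R⁻¹)
    rw [hR]
  · intro hq
    have hsq : IsSquare (-1 : F) := FiniteField.isSquare_neg_one_iff.mpr (by omega)
    obtain ⟨i, hi⟩ := hsq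
    have hs : ((a : Matrix (Fin 2) (Fin 2) F)).trace ^ 2 - 4 = (2 * i) * (2 * i) := by
      rw [hta]
      linear_combination 4 * hi
    have hs0 : 2 * i ≠ 0 := by
      apply mul_ne_zero h2
      rintro rfl
      rw [mul_zero] at hi
      exact one_ne_zero (neg_eq_zero.mp hi)
    exact norm_card h2 a ha _ (conj_count_split h2 a a (2 * i) hs hs0 rfl)
      (conj_count_split h2 a a⁻¹ (2 * i) hs hs0 (by rw [htinv, hta]))
  · intro hq
    have hns : ¬ IsSquare (-1 : F) := by
      rw [FiniteField.isSquare_neg_one_iff]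
      omega
    have hell : ¬ IsSquare (((a : Matrix (Fin 2) (Fin 2) F)).trace ^ 2 - 4) := by
      rw [hta]
      rintro ⟨s, hs⟩
      apply hns
      refine ⟨s * 2⁻¹, ?_⟩
      have hinv : (2 : F) * 2⁻¹ = 1 := mul_inv_cancel₀ h2
      linear_combination (2⁻¹ * 2⁻¹ : F) * hs + (2 * 2⁻¹ + 1 : F) * hinv
    exact norm_card h2 a ha _ (conj_count h2 a a hell rfl)
      (conj_count h2 a a⁻¹ hell (by rw [htinv, hta]))
  · intro x y hx hy
    obtain ⟨a', rfl⟩ := QuotientGroup.mk_surjective x
    obtain ⟨b', rfl⟩ := QuotientGroup.mk_surjective y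
    have key : ∀ c : Matrix.SpecialLinearGroup (Fin 2) F,
        orderOf (QuotientGroup.mk c : Matrix.ProjectiveSpecialLinearGroup (Fin 2) F) = 2 →
        c * c = negOne := by
      intro c hc
      have hc2 : (QuotientGroup.mk c : Matrix.ProjectiveSpecialLinearGroup (Fin 2) F) ^ 2 = 1 := by
        have h5 := pow_orderOf_eq_one
          (QuotientGroup.mk c : Matrix.ProjectiveSpecialLinearGroup (Fin 2) F)
        rwa [hc] at h5
      have hc1 : (QuotientGroup.mk c : Matrix.ProjectiveSpecialLinearGroup (Fin 2) F) ≠ 1 := by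
        intro h
        rw [h, orderOf_one] at hc
        omega
      have hmem : c * c ∈ Subgroup.center (Matrix.SpecialLinearGroup (Fin 2) F) := by
        rw [← QuotientGroup.eq_one_iff, QuotientGroup.mk_mul, ← pow_two]
        exact hc2
      have hnot : c ∉ Subgroup.center (Matrix.SpecialLinearGroup (Fin 2) F) :=
        fun h => hc1 ((QuotientGroup.eq_one_iff c).mpr h)
      rcases (center_iff _).mp hmem with h | h
      · exfalso
        apply hnot
        rw [center_iff]
        by_cases h1 : c = 1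
        · left
          exact h1
        · right
          exact eq_negOne_of_sq h2 c h h1
      · exact h
    obtain ⟨R, hR⟩ := conj_of_sq h2 a' b' (key a' hx) (key b' hy)
    rw [isConj_iff]
    refine ⟨QuotientGroup.mk R, ?_⟩
    rw [← hR]
    rfl

end Cfsg.Agent.Lib_helper8_SL2Four
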