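import Mathlib
import Cfsg.Agent.Lib_helper8_SL2Four

set_option autoImplicit false

/-! Klein four-subgroups of `PSL_2(q)`, `q` odd: twelve times their number is the group order. -/

namespace Cfsg.Agent.Lib_helper8_PSL2Klein

open Cfsg
open Cfsg.Agent.Lib_helper8_GL2 Cfsg.Agent.Lib_helper8_SL2Conj Cfsg.Agent.Lib_helper8_SL2Vals
open Cfsg.Agent.Lib_helper8_SL2Odd
open Cfsg.Agent.Lib_helper4_SL2Quat Cfsg.Agent.Lib_helper8_SL2Tor
open Cfsg.Agent.Lib_helper8_SL2Half Cfsg.Agent.Lib_helper8_SL2Blocks
open Cfsg.Agent.Lib_helper8_SL2Four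
open Matrix

universe u

section Grp

variable {G : Type*} [Group G]

/-- The four-group generated by two commuting involutions. -/
def kl (x y : G) (hx : x * x = 1) (hy : y * y = 1) (hxy : x * y = y * x) : Subgroup G where
  carrier := {z | z = 1 ∨ z = x ∨ z = y ∨ z = x * y}
  mul_mem' := by
    have Lx : ∀ v : G, (v = 1 ∨ v = x ∨ v = y ∨ v = x * y) →
        (x * v = 1 ∨ x * v = x ∨ x * v = y ∨ x * v = x * y) := by
      rintro v (h | h | h | h)
      · right; left
        rw [h, mul_one]
      · left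
        rw [h, hx]
      · right; right; right
        rw [h]
      · right; right; left
        rw [h, ← mul_assoc, hx, one_mul]
    have Ly : ∀ v : G, (v = 1 ∨ v = x ∨ v = y ∨ v = x * y) →
        (y * v = 1 ∨ y * v = x ∨ y * v = y ∨ y * v = x * y) := by
      rintro v (h | h | h | h)
      · right; right; left
        rw [h, mul_one]
      · right; right; right
        rw [h, hxy]
      · left
        rw [h, hy]
      · right; left
        rw [h, ← mul_assoc, ← hxy, mul_assoc, hy, mul_one]
    intro u v hu hv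
    rw [Set.mem_setOf_eq] at hu hv ⊢
    rcases hu with h | h | h | h
    · rw [h, one_mul]
      exact hv
    · rw [h]
      exact Lx v hv
    · rw [h]
      exact Ly v hv
    · rw [h, mul_assoc]
      exact Lx _ (Ly v hv)
  one_mem' := Or.inl rfl
  inv_mem' := by
    intro u hu
    rw [Set.mem_setOf_eq] at hu ⊢
    have hxy2 : (x * y) * (x * y) = 1 := by
      rw [mul_assoc, ← mul_assoc y, ← hxy, mul_assoc x y y, hy, mul_one, hx]
    rcases hu with h | h | h | h
    · left
      rw [h, inv_one]
    · right; left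
      rw [h]
      exact inv_eq_of_mul_eq_one_right hx
    · right; right; left
      rw [h]
      exact inv_eq_of_mul_eq_one_right hy
    · right; right; right
      rw [h]
      exact inv_eq_of_mul_eq_one_right hxy2

theorem mem_kl (x y : G) (hx : x * x = 1) (hy : y * y = 1) (hxy : x * y = y * x) (z : G) :
    z ∈ kl x y hx hy hxy ↔ z = 1 ∨ z = x ∨ z = y ∨ z = x * y := Iff.rfl

theorem kl_klein (x y : G) (hx : x * x = 1) (hy : y * y = 1) (hxy : x * y = y * x)
    (hx1 : x ≠ 1) (hy1 : y ≠ 1) (hne : x ≠ y) : IsKleinFour (kl x y hx hy hxy) := by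
  have hcard : Nat.card (kl x y hx hy hxy) = 4 := by
    have hset : ((kl x y hx hy hxy : Subgroup G) : Set G) =
        insert 1 (insert x (insert y {x * y})) := by
      ext z
      simp only [SetLike.mem_coe, mem_kl, Set.mem_insert_iff, Set.mem_singleton_iff]
    have h' : Nat.card (kl x y hx hy hxy) = ((kl x y hx hy hxy : Subgroup G) : Set G).ncard :=
      Nat.card_coe_set_eq ((kl x y hx hy hxy : Subgroup G) : Set G)
    have n3 : y ∉ ({x * y} : Set G) := by
      rw [Set.mem_singleton_iff]
      intro h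
      apply hx1
      have h1 : x * y = 1 * y := by
        rw [one_mul]
        exact h.symm
      exact mul_right_cancel h1
    have n2 : x ∉ (insert y {x * y} : Set G) := by
      rw [Set.mem_insert_iff, Set.mem_singleton_iff]
      rintro (h | h)
      · exact hne h
      · apply hy1
        have h1 : x * y = x * 1 := by
          rw [mul_one]
          exact h.symm
        exact mul_left_cancel h1
    have n1 : (1 : G) ∉ (insert x (insert y {x * y}) : Set G) := by
      rw [Set.mem_insert_iff, Set.mem_insert_iff, Set.mem_singleton_iff]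
      rintro (h | h | h)
      · exact hx1 h.symm
      · exact hy1 h.symm
      · apply hne
        have h1 : x * y = x * x := by
          rw [hx]
          exact h.symm
        exact (mul_left_cancel h1).symm
    rw [h', hset, Set.ncard_insert_of_notMem n1 (Set.toFinite _),
      Set.ncard_insert_of_notMem n2 (Set.toFinite _),
      Set.ncard_insert_of_notMem n3 (Set.toFinite _), Set.ncard_singleton]
  have hsq : ∀ g : kl x y hx hy hxy, g ^ 2 = 1 := by
    intro g
    have hxy2 : (x * y) * (x * y) = 1 := by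
      rw [mul_assoc, ← mul_assoc y, ← hxy, mul_assoc x y y, hy, mul_one, hx]
    apply Subtype.ext
    rw [pow_two]
    show (g : G) * (g : G) = 1
    rcases (mem_kl x y hx hy hxy g).mp g.2 with h | h | h | h
    · rw [h, one_mul]
    · rw [h, hx]
    · rw [h, hy]
    · rw [h, hxy2]
  refine ⟨hcard, ?_⟩
  have hdvd : Monoid.exponent (kl x y hx hy hxy) ∣ 2 :=
    Monoid.exponent_dvd_of_forall_pow_eq_one hsq
  rcases (Nat.dvd_prime Nat.prime_two).mp hdvd with h | h
  · exfalso
    rw [Monoid.exp_eq_one_iff] at h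
    have h3 := h.elim (⟨x, (mem_kl x y hx hy hxy x).mpr (Or.inr (Or.inl rfl))⟩ :
      kl x y hx hy hxy) ⟨1, one_mem _⟩
    exact hx1 (congrArg Subtype.val h3)
  · exact h

theorem kl_unique (x y : G) (hx : x * x = 1) (hy : y * y = 1) (hxy : x * y = y * x)
    (hx1 : x ≠ 1) (hy1 : y ≠ 1) (hne : x ≠ y) (V : Subgroup G) (hV : IsKleinFour V)
    (hxV : x ∈ V) (hyV : y ∈ V) : V = kl x y hx hy hxy := by
  symm
  haveI : Finite V := Nat.finite_of_card_ne_zero (by rw [hV.card_four]; norm_num)
  apply Subgroup.eq_of_le_of_card_ge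
  · intro z hz
    rcases (mem_kl x y hx hy hxy z).mp hz with h | h | h | h
    · rw [h]
      exact one_mem _
    · rw [h]
      exact hxV
    · rw [h]
      exact hyV
    · rw [h]
      exact mul_mem hxV hyV
  · rw [(kl_klein x y hx hy hxy hx1 hy1 hne).card_four, hV.card_four]

theorem klein_sq (V : Subgroup G) (hV : IsKleinFour V) (z : G) (hz : z ∈ V) : z * z = 1 := by
  have h := Monoid.pow_exponent_eq_one (⟨z, hz⟩ : V)
  rw [hV.exponent_two, pow_two] at h
  exact congrArg Subtype.val h

theorem klein_comm (V : Subgroup G) (hV : IsKleinFour V) (z w : G) (hz : z ∈ V) (hw : w ∈ V) :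
    z * w = w * z := by
  have h := mul_comm_of_exponent_two hV.exponent_two (⟨z, hz⟩ : V) ⟨w, hw⟩
  exact congrArg Subtype.val h

end Grp

section Main

variable {F : Type u} [Field F]

local notation "S2" => Matrix.SpecialLinearGroup (Fin 2) F
local notation "M2" => Matrix (Fin 2) (Fin 2) F
local notation "PS" => Matrix.ProjectiveSpecialLinearGroup (Fin 2) F

/-- The projection `SL_2(F) → PSL_2(F)`. -/
def pr (a : S2) : PS := (QuotientGroup.mk a : PS)

theorem pr_mul (a b : S2) : pr (a * b) = pr a * pr b := rfl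

theorem pr_surj : Function.Surjective (pr (F := F)) := QuotientGroup.mk_surjective

section Fin

variable [Fintype F] [DecidableEq F] [Fintype (Matrix.SpecialLinearGroup (Fin 2) F)]

theorem pr_eq_one (a : S2) : pr a = 1 ↔ a = 1 ∨ a = negOne := by
  unfold pr
  rw [QuotientGroup.eq_one_iff, center_iff]

theorem pr_eq (a b : S2) : pr a = pr b ↔ a = b ∨ a = negOne * b := by
  unfold pr
  rw [QuotientGroup.eq, center_iff]
  have hz := Subgroup.mem_center_iff.mp (negOne_center (F := F))
  constructor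
  · rintro (h | h)
    · left
      exact inv_mul_eq_one.mp h
    · right
      have hb : b = a * negOne := by rw [← h, mul_inv_cancel_left]
      rw [hb, hz a, ← mul_assoc, negOne_sq, one_mul]
  · rintro (h | h)
    · left
      rw [h, inv_mul_cancel]
    · right
      rw [h, _root_.mul_inv_rev, inv_eq_of_mul_eq_one_right negOne_sq, mul_assoc, ← hz b,
        inv_mul_cancel_left]

theorem J0_sq : (J0 : S2) * J0 = negOne := by
  apply ext2
  · rw [mul_entries, J0_00, J0_01, J0_10, negOne_00]; ring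
  · rw [mul_entries, J0_00, J0_01, J0_11, negOne_01]; ring
  · rw [mul_entries, J0_10, J0_00, J0_11, negOne_10]; ring
  · rw [mul_entries, J0_10, J0_01, J0_11, negOne_11]; ring

theorem sq_of_trace (x : S2) (ht : (x : M2).trace = 0) : x * x = negOne := by
  rw [Matrix.trace_fin_two] at ht
  have hdet := det_entries x
  apply ext2
  · rw [mul_entries, negOne_00]; linear_combination (x : M2) 0 0 * ht - hdet
  · rw [mul_entries, negOne_01]; linear_combination (x : M2) 0 1 * ht
  · rw [mul_entries, negOne_10]; linear_combination (x : M2) 1 0 * ht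
  · rw [mul_entries, negOne_11]; linear_combination (x : M2) 1 1 * ht - hdet

theorem sq_of_anti (h2 : (2 : F) ≠ 0) (a x : S2) (hax : a * x = negOne * (x * a)) :
    x * x = negOne := by
  apply sq_of_trace
  have h1 : a * x * a⁻¹ = negOne * x := by
    rw [hax, mul_assoc, mul_assoc, mul_inv_cancel, mul_one]
  have h3 := trace_conj_mul a x
  rw [h1] at h3
  rw [Matrix.trace_fin_two, Matrix.trace_fin_two, mul_entries, mul_entries, negOne_00, negOne_01,
    negOne_10, negOne_11] at h3
  rw [Matrix.trace_fin_two]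
  have h4 : (2 : F) * ((x : M2) 0 0 + (x : M2) 1 1) = 0 := by linear_combination -h3
  rcases mul_eq_zero.mp h4 with h | h
  · exact absurd h h2
  · exact h

theorem anti_iff (h2 : (2 : F) ≠ 0) (a b : S2) (ha : a * a = negOne) :
    (b * b = negOne ∧ a * b = negOne * (b * a)) ↔ b * a * b⁻¹ = a⁻¹ := by
  rw [inv_of_sq a ha]
  constructor
  · rintro ⟨_, hab⟩
    have h1 : b * a = negOne * (a * b) := by
      rw [hab, ← mul_assoc, negOne_sq, one_mul]
    rw [h1, mul_assoc, mul_assoc, mul_inv_cancel, mul_one]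
  · intro h
    have hab : a * b = negOne * (b * a) := by
      have h1 : b * a = negOne * a * b := by
        rw [← h, inv_mul_cancel_right]
      rw [h1, mul_assoc negOne a b, ← mul_assoc, negOne_sq, one_mul]
    exact ⟨sq_of_anti h2 a b hab, hab⟩

theorem pr_ne_one (h2 : (2 : F) ≠ 0) (a : S2) (ha : a * a = negOne) : pr a ≠ 1 := by
  rw [Ne, pr_eq_one]
  exact not_or.mpr (ne_one_of_sq h2 a ha)

theorem pr_ne_of_anti (h2 : (2 : F) ≠ 0) (a b : S2) (hab : a * b = negOne * (b * a)) :
    pr a ≠ pr b := by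
  have hz := Subgroup.mem_center_iff.mp (negOne_center (F := F))
  rw [Ne, pr_eq]
  have key : a * b = b * a → False := by
    intro h
    rw [h] at hab
    apply one_ne_negOne h2
    have h1 : 1 * (b * a) = negOne * (b * a) := by
      rw [one_mul]
      exact hab
    exact mul_right_cancel h1
  rintro (h | h)
  · apply key
    rw [h]
  · apply key
    rw [h, ← mul_assoc b, hz b]

theorem sq_of_pr (h2 : (2 : F) ≠ 0) (c : S2) (hc1 : pr c ≠ 1) (hc2 : pr c * pr c = 1) :
    c * c = negOne := by
  rw [← pr_mul, pr_eq_one] at hc2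
  rcases hc2 with h | h
  · exfalso
    apply hc1
    rw [pr_eq_one]
    by_cases h1 : c = 1
    · left
      exact h1
    · right
      exact eq_negOne_of_sq h2 c h h1
  · exact h

theorem anti_of_pr (h2 : (2 : F) ≠ 0) (a b : S2) (ha : a * a = negOne) (hb : b * b = negOne)
    (hne : pr a ≠ pr b) (hcomm : pr a * pr b = pr b * pr a) : a * b = negOne * (b * a) := by
  rw [← pr_mul, ← pr_mul, pr_eq] at hcomm
  rcases hcomm with h | h
  · exfalso
    have hsq : (a * b) * (a * b) = 1 := by
      calc (a * b) * (a * b) = a * (b * a) * b := by simp only [mul_assoc]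
        _ = a * (a * b) * b := by rw [h]
        _ = (a * a) * (b * b) := by simp only [mul_assoc]
        _ = 1 := by rw [ha, hb, negOne_sq]
    apply hne
    rw [pr_eq]
    by_cases h1 : a * b = 1
    · right
      rw [← inv_of_sq b hb]
      exact eq_inv_of_mul_eq_one_left h1
    · left
      have h3 := eq_negOne_of_sq h2 (a * b) hsq h1
      rw [← hb] at h3
      exact mul_right_cancel h3
  · exact h

theorem conj_count_sq (h2 : (2 : F) ≠ 0) : ∃ n : ℕ, ∀ c y : S2, c * c = negOne → y * y = negOne →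
    (Finset.univ.filter (fun x : S2 => x * c * x⁻¹ = y)).card = n := by
  by_cases hsq : IsSquare (-1 : F)
  · obtain ⟨i, hi⟩ := hsq
    refine ⟨Fintype.card F - 1, ?_⟩
    intro c y hc hy
    have hs : ((c : M2)).trace ^ 2 - 4 = (2 * i) * (2 * i) := by
      rw [trace_of_sq c hc]
      linear_combination 4 * hi
    have hs0 : 2 * i ≠ 0 := by
      apply mul_ne_zero h2
      rintro rfl
      rw [mul_zero] at hi
      exact one_ne_zero (neg_eq_zero.mp hi)
    exact conj_count_split h2 c y (2 * i) hs hs0 (by rw [trace_of_sq y hy, trace_of_sq c hc])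
  · refine ⟨Fintype.card F + 1, ?_⟩
    intro c y hc hy
    have hell : ¬ IsSquare (((c : M2)).trace ^ 2 - 4) := by
      rw [trace_of_sq c hc]
      rintro ⟨s, hs⟩
      apply hsq
      refine ⟨s * 2⁻¹, ?_⟩
      have hinv : (2 : F) * 2⁻¹ = 1 := mul_inv_cancel₀ h2
      linear_combination (2⁻¹ * 2⁻¹ : F) * hs + (2 * 2⁻¹ + 1 : F) * hinv
    exact conj_count h2 c y hell (by rw [trace_of_sq y hy, trace_of_sq c hc])

/-- The number of anticommuting pairs of elements of order four is the group order. -/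
theorem pairs_card (h2 : (2 : F) ≠ 0) :
    (Finset.univ.filter (fun p : S2 × S2 =>
      p.1 * p.1 = negOne ∧ p.2 * p.2 = negOne ∧ p.1 * p.2 = negOne * (p.2 * p.1))).card =
      Fintype.card S2 := by
  obtain ⟨n, hn⟩ := conj_count_sq h2
  have hz := Subgroup.mem_center_iff.mp (negOne_center (F := F))
  have hI : (Finset.univ.filter (fun a : S2 => a * a = negOne)).card * n = Fintype.card S2 := by
    have hmaps : Set.MapsTo (fun x : S2 => x * J0 * x⁻¹) ↑(Finset.univ : Finset S2)
        ↑(Finset.univ.filter (fun a : S2 => a * a = negOne)) := by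
      intro x _
      apply Finset.mem_coe.mpr
      rw [Finset.mem_filter]
      refine ⟨Finset.mem_univ _, ?_⟩
      show x * J0 * x⁻¹ * (x * J0 * x⁻¹) = negOne
      calc x * J0 * x⁻¹ * (x * J0 * x⁻¹) = x * (J0 * J0) * x⁻¹ := by group
        _ = negOne := by rw [J0_sq, hz x, mul_assoc, mul_inv_cancel, mul_one]
    rw [← Finset.card_univ, Finset.card_eq_sum_card_fiberwise hmaps,
      Finset.sum_const_nat (m := n)]
    intro a ha
    exact hn J0 a J0_sq (Finset.mem_filter.mp ha).2
  have hmaps2 : Set.MapsTo (fun p : S2 × S2 => p.1)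
      ↑(Finset.univ.filter (fun p : S2 × S2 =>
        p.1 * p.1 = negOne ∧ p.2 * p.2 = negOne ∧ p.1 * p.2 = negOne * (p.2 * p.1)))
      ↑(Finset.univ.filter (fun a : S2 => a * a = negOne)) := by
    intro p hp
    rw [Finset.mem_coe, Finset.mem_filter] at hp
    rw [Finset.mem_coe, Finset.mem_filter]
    exact ⟨Finset.mem_univ _, hp.2.1⟩
  rw [← hI, Finset.card_eq_sum_card_fiberwise hmaps2, Finset.sum_const_nat (m := n)]
  intro a ha
  have ha' := (Finset.mem_filter.mp ha).2
  have hainv : a⁻¹ * a⁻¹ = negOne := by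
    rw [← _root_.mul_inv_rev, ha']
    exact inv_eq_of_mul_eq_one_right negOne_sq
  rw [← hn a a⁻¹ ha' hainv]
  apply Finset.card_nbij' (fun p => p.2) (fun x => (a, x))
  · intro p hp
    rw [Finset.mem_coe, Finset.mem_filter, Finset.mem_filter] at hp
    obtain ⟨⟨_, _, hb, hab⟩, h1⟩ := hp
    rw [Finset.mem_coe, Finset.mem_filter]
    refine ⟨Finset.mem_univ _, ?_⟩
    rw [h1] at hab
    exact (anti_iff h2 a p.2 ha').mp ⟨hb, hab⟩
  · intro x hx
    rw [Finset.mem_coe, Finset.mem_filter] at hx
    rw [Finset.mem_coe, Finset.mem_filter, Finset.mem_filter]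
    obtain ⟨hb, hab⟩ := (anti_iff h2 a x ha').mpr hx.2
    exact ⟨⟨Finset.mem_univ _, ha', hb, hab⟩, rfl⟩
  · intro p hp
    rw [Finset.mem_coe, Finset.mem_filter] at hp
    exact Prod.ext hp.2.symm rfl
  · intro x _
    rfl

theorem fiber_card [DecidableEq (Matrix.ProjectiveSpecialLinearGroup (Fin 2) F)]
    (h2 : (2 : F) ≠ 0) (x : PS) :
    (Finset.univ.filter (fun a : S2 => pr a = x)).card = 2 := by
  obtain ⟨a₀, rfl⟩ := pr_surj x
  have hset : Finset.univ.filter (fun a : S2 => pr a = pr a₀) = {a₀, negOne * a₀} := by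
    ext a
    rw [Finset.mem_filter, Finset.mem_insert, Finset.mem_singleton, pr_eq]
    simp
  rw [hset]
  apply Finset.card_pair
  intro h
  apply one_ne_negOne h2
  have h1 : 1 * a₀ = negOne * a₀ := by
    rw [one_mul]
    exact h
  exact mul_right_cancel h1

theorem pair_count [DecidableEq (Matrix.ProjectiveSpecialLinearGroup (Fin 2) F)]
    (h2 : (2 : F) ≠ 0) (D : Finset (PS × PS)) :
    (Finset.univ.filter (fun p : S2 × S2 => (pr p.1, pr p.2) ∈ D)).card = 4 * D.card := by
  have hmaps : Set.MapsTo (fun p : S2 × S2 => (pr p.1, pr p.2))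
      ↑(Finset.univ.filter (fun p : S2 × S2 => (pr p.1, pr p.2) ∈ D)) ↑D := by
    intro p hp
    exact (Finset.mem_filter.mp hp).2
  rw [Finset.card_eq_sum_card_fiberwise hmaps, Finset.sum_const_nat (m := 4), mul_comm]
  intro d hd
  have hset : (Finset.univ.filter (fun p : S2 × S2 => (pr p.1, pr p.2) ∈ D)).filter
      (fun p => (pr p.1, pr p.2) = d) =
      (Finset.univ.filter (fun a : S2 => pr a = d.1)) ×ˢ
        (Finset.univ.filter (fun a : S2 => pr a = d.2)) := by
    ext p
    rw [Finset.mem_filter, Finset.mem_filter, Finset.mem_product, Finset.mem_filter,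
      Finset.mem_filter]
    constructor
    · rintro ⟨_, h⟩
      rw [Prod.ext_iff] at h
      exact ⟨⟨Finset.mem_univ _, h.1⟩, ⟨Finset.mem_univ _, h.2⟩⟩
    · rintro ⟨⟨_, h1⟩, ⟨_, h3⟩⟩
      have he : (pr p.1, pr p.2) = d := Prod.ext h1 h3
      refine ⟨⟨Finset.mem_univ _, ?_⟩, he⟩
      rw [he]
      exact hd
  rw [hset, Finset.card_product, fiber_card h2, fiber_card h2]

theorem card_sl_psl [Fintype (Matrix.ProjectiveSpecialLinearGroup (Fin 2) F)]
    [DecidableEq (Matrix.ProjectiveSpecialLinearGroup (Fin 2) F)] (h2 : (2 : F) ≠ 0) :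
    Fintype.card S2 = 2 * Fintype.card PS := by
  have hmaps : Set.MapsTo (fun a : S2 => pr a) ↑(Finset.univ : Finset S2)
      ↑(Finset.univ : Finset PS) := by
    intro a _
    exact Finset.mem_coe.mpr (Finset.mem_univ _)
  rw [← Finset.card_univ, Finset.card_eq_sum_card_fiberwise hmaps,
    Finset.sum_const_nat (m := 2), Finset.card_univ, mul_comm]
  intro x _
  exact fiber_card h2 x

theorem klein_pairs (h2 : (2 : F) ≠ 0) (V : Subgroup PS) (hV : IsKleinFour V) (a b : S2) :
    ((a * a = negOne ∧ b * b = negOne ∧ a * b = negOne * (b * a)) ∧ pr a ∈ V ∧ pr b ∈ V) ↔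
      ((pr a ∈ V ∧ pr a ≠ 1) ∧ (pr b ∈ V ∧ pr b ≠ 1) ∧ pr a ≠ pr b) := by
  constructor
  · rintro ⟨⟨ha, hb, hab⟩, haV, hbV⟩
    exact ⟨⟨haV, pr_ne_one h2 a ha⟩, ⟨hbV, pr_ne_one h2 b hb⟩, pr_ne_of_anti h2 a b hab⟩
  · rintro ⟨⟨haV, ha1⟩, ⟨hbV, hb1⟩, hne⟩
    have ha := sq_of_pr h2 a ha1 (klein_sq V hV _ haV)
    have hb := sq_of_pr h2 b hb1 (klein_sq V hV _ hbV)
    exact ⟨⟨ha, hb, anti_of_pr h2 a b ha hb hne (klein_comm V hV _ _ haV hbV)⟩, haV, hbV⟩

theorem klein_unique_of_pair (h2 : (2 : F) ≠ 0) (a b : S2) (ha : a * a = negOne)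
    (hb : b * b = negOne) (hab : a * b = negOne * (b * a)) :
    ∃ V₀ : Subgroup PS, IsKleinFour V₀ ∧ pr a ∈ V₀ ∧ pr b ∈ V₀ ∧
      ∀ V : Subgroup PS, IsKleinFour V → pr a ∈ V → pr b ∈ V → V = V₀ := by
  have hx : pr a * pr a = 1 := by
    rw [← pr_mul, ha, pr_eq_one]
    right
    rfl
  have hy : pr b * pr b = 1 := by
    rw [← pr_mul, hb, pr_eq_one]
    right
    rfl
  have hxy : pr a * pr b = pr b * pr a := by
    rw [← pr_mul, ← pr_mul, pr_eq]
    right
    exact hab
  have hx1 := pr_ne_one h2 a ha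
  have hy1 := pr_ne_one h2 b hb
  have hne := pr_ne_of_anti h2 a b hab
  refine ⟨kl (pr a) (pr b) hx hy hxy, kl_klein _ _ hx hy hxy hx1 hy1 hne, ?_, ?_, ?_⟩
  · exact (mem_kl _ _ hx hy hxy _).mpr (Or.inr (Or.inl rfl))
  · exact (mem_kl _ _ hx hy hxy _).mpr (Or.inr (Or.inr (Or.inl rfl)))
  · intro V hV haV hbV
    exact kl_unique _ _ hx hy hxy hx1 hy1 hne V hV haV hbV

end Fin

end Main

/-- Twelve times the number of Klein four-subgroups of `PSL_2(q)`, `q` odd, is the group order. -/
theorem klein_final {F : Type u} [Field F] [Fintype F] (hodd : Odd (Fintype.card F)) :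
    12 * Nat.card {V : Subgroup (Matrix.ProjectiveSpecialLinearGroup (Fin 2) F) // IsKleinFour V} =
      Nat.card (Matrix.ProjectiveSpecialLinearGroup (Fin 2) F) := by
  classical
  haveI : Fintype (Matrix.SpecialLinearGroup (Fin 2) F) := Fintype.ofFinite _
  haveI : Fintype (Matrix.ProjectiveSpecialLinearGroup (Fin 2) F) := Fintype.ofFinite _
  haveI : Fintype (Subgroup (Matrix.ProjectiveSpecialLinearGroup (Fin 2) F)) := Fintype.ofFinite _
  have h2 : (2 : F) ≠ 0 := two_ne_of_odd hodd
  rw [Nat.card_eq_fintype_card, Nat.card_eq_fintype_card, Fintype.card_subtype]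
  have hP := pairs_card h2
  have hSL := card_sl_psl h2
  have hA : ∀ V ∈ Finset.univ.filter
      (fun V : Subgroup (Matrix.ProjectiveSpecialLinearGroup (Fin 2) F) => IsKleinFour V),
      (Finset.bipartiteAbove (fun (V : Subgroup (Matrix.ProjectiveSpecialLinearGroup (Fin 2) F))
        (p : Matrix.SpecialLinearGroup (Fin 2) F × Matrix.SpecialLinearGroup (Fin 2) F) =>
          pr p.1 ∈ V ∧ pr p.2 ∈ V)
        (Finset.univ.filter (fun p : Matrix.SpecialLinearGroup (Fin 2) F ×
          Matrix.SpecialLinearGroup (Fin 2) F =>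
          p.1 * p.1 = negOne ∧ p.2 * p.2 = negOne ∧ p.1 * p.2 = negOne * (p.2 * p.1))) V).card
        = 24 := by
    intro V hV
    have hVk : IsKleinFour V := (Finset.mem_filter.mp hV).2
    have hset : Finset.bipartiteAbove
        (fun (V : Subgroup (Matrix.ProjectiveSpecialLinearGroup (Fin 2) F))
        (p : Matrix.SpecialLinearGroup (Fin 2) F × Matrix.SpecialLinearGroup (Fin 2) F) =>
          pr p.1 ∈ V ∧ pr p.2 ∈ V)
        (Finset.univ.filter (fun p : Matrix.SpecialLinearGroup (Fin 2) F ×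
          Matrix.SpecialLinearGroup (Fin 2) F =>
          p.1 * p.1 = negOne ∧ p.2 * p.2 = negOne ∧ p.1 * p.2 = negOne * (p.2 * p.1))) V =
        Finset.univ.filter (fun p : Matrix.SpecialLinearGroup (Fin 2) F ×
          Matrix.SpecialLinearGroup (Fin 2) F => (pr p.1, pr p.2) ∈
            ((Finset.univ.filter (fun x : Matrix.ProjectiveSpecialLinearGroup (Fin 2) F =>
              x ∈ V)).erase 1).offDiag) := by
      ext p
      have h3 := klein_pairs h2 V hVk p.1 p.2
      simp only [Finset.mem_bipartiteAbove, Finset.mem_filter, Finset.mem_offDiag,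
        Finset.mem_erase, Finset.mem_univ, true_and]
      tauto
    rw [hset, pair_count h2, Finset.offDiag_card]
    have h4 : (Finset.univ.filter (fun x : Matrix.ProjectiveSpecialLinearGroup (Fin 2) F =>
        x ∈ V)).card = 4 := by
      rw [← Fintype.card_subtype, ← Nat.card_eq_fintype_card]
      exact hVk.card_four
    rw [Finset.card_erase_of_mem (Finset.mem_filter.mpr ⟨Finset.mem_univ _, one_mem V⟩), h4]
  have hB : ∀ p ∈ Finset.univ.filter (fun p : Matrix.SpecialLinearGroup (Fin 2) F ×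
          Matrix.SpecialLinearGroup (Fin 2) F =>
          p.1 * p.1 = negOne ∧ p.2 * p.2 = negOne ∧ p.1 * p.2 = negOne * (p.2 * p.1)),
      (Finset.bipartiteBelow (fun (V : Subgroup (Matrix.ProjectiveSpecialLinearGroup (Fin 2) F))
        (p : Matrix.SpecialLinearGroup (Fin 2) F × Matrix.SpecialLinearGroup (Fin 2) F) =>
          pr p.1 ∈ V ∧ pr p.2 ∈ V)
        (Finset.univ.filter
          (fun V : Subgroup (Matrix.ProjectiveSpecialLinearGroup (Fin 2) F) => IsKleinFour V))
        p).card = 1 := by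
    intro p hp
    obtain ⟨_, hpa, hpb, hpab⟩ := Finset.mem_filter.mp hp
    obtain ⟨V₀, hV₀, ha₀, hb₀, huniq⟩ := klein_unique_of_pair h2 p.1 p.2 hpa hpb hpab
    rw [Finset.card_eq_one]
    refine ⟨V₀, ?_⟩
    ext V
    rw [Finset.mem_bipartiteBelow, Finset.mem_filter, Finset.mem_singleton]
    constructor
    · rintro ⟨⟨_, hV⟩, h1, h3⟩
      exact huniq V hV h1 h3
    · intro h
      rw [h]
      exact ⟨⟨Finset.mem_univ _, hV₀⟩, ha₀, hb₀⟩
  have key := Finset.card_mul_eq_card_mul _ hA hB
  rw [hP, hSL] at key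
  omega

end Cfsg.Agent.Lib_helper8_PSL2Klein
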