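import Mathlib
import Cfsg.Agent.Lib_helper8_PSL2Klein
import Cfsg.Agent.Lib_helper4_PSL2

set_option autoImplicit false

/-! Conjugacy classes of Klein four-subgroups of `PSL_2(q)`, `q` odd. -/

namespace Cfsg.Agent.Lib_helper8_PSL2KleinConj

open Cfsg
open Cfsg.Agent.Lib_helper8_GL2 Cfsg.Agent.Lib_helper8_SL2Conj Cfsg.Agent.Lib_helper8_SL2Vals
open Cfsg.Agent.Lib_helper8_SL2Odd
open Cfsg.Agent.Lib_helper4_SL2Quat Cfsg.Agent.Lib_helper8_SL2Tor
open Cfsg.Agent.Lib_helper8_SL2Half Cfsg.Agent.Lib_helper8_SL2Blocks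
open Cfsg.Agent.Lib_helper8_SL2Four Cfsg.Agent.Lib_helper8_PSL2Klein
open Matrix

universe u

section Grp

variable {G : Type*} [Group G]

theorem conj_of_card4 [Finite G] (h8 : ¬ 8 ∣ Nat.card G) (V W : Subgroup G)
    (hV : Nat.card V = 4) (hW : Nat.card W = 4) :
    ∃ g : G, W = V.map (MulAut.conj g).toMonoidHom := by
  have h0 : Nat.card G ≠ 0 := Nat.card_pos.ne'
  have hf : (Nat.card G).factorization 2 = 2 := by
    have h4 : 2 ^ 2 ∣ Nat.card G := by
      rw [show (2 : ℕ) ^ 2 = 4 from rfl, ← hV]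
      exact Subgroup.card_subgroup_dvd_card V
    have h1 := (Nat.Prime.pow_dvd_iff_le_factorization Nat.prime_two h0).mp h4
    have h3 : ¬ 3 ≤ (Nat.card G).factorization 2 := by
      intro h
      have h5 := (Nat.Prime.pow_dvd_iff_le_factorization Nat.prime_two h0).mpr h
      rw [show (2 : ℕ) ^ 3 = 8 from rfl] at h5
      exact h8 h5
    omega
  haveI : Fact (Nat.Prime 2) := ⟨Nat.prime_two⟩
  have hV' : Nat.card V = 2 ^ (Nat.card G).factorization 2 := by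
    rw [hV, hf]
    norm_num
  have hW' : Nat.card W = 2 ^ (Nat.card G).factorization 2 := by
    rw [hW, hf]
    norm_num
  obtain ⟨g, hg⟩ := MulAction.exists_smul_eq G (Sylow.ofCard V hV') (Sylow.ofCard W hW')
  refine ⟨g, ?_⟩
  have h5 : ((g • Sylow.ofCard V hV' : Sylow 2 G) : Subgroup G) = W := by
    rw [hg, Sylow.coe_ofCard]
  rw [← h5, Sylow.smul_def, Sylow.pointwise_smul_def, Subgroup.pointwise_smul_def,
    Sylow.coe_ofCard]
  rfl

end Grp

theorem not8 {F : Type u} [Field F] [Fintype F]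
    (hq : Fintype.card F % 8 = 3 ∨ Fintype.card F % 8 = 5) :
    ¬ 8 ∣ Nat.card (Matrix.ProjectiveSpecialLinearGroup (Fin 2) F) := by
  have h := Cfsg.Agent.Lib_helper4_PSL2.card_PSL2 (F := F) (q := Fintype.card F) rfl
  generalize Nat.card (Matrix.ProjectiveSpecialLinearGroup (Fin 2) F) = N at h ⊢
  generalize Fintype.card F = q at h hq
  rcases hq with hq | hq
  · obtain ⟨k, rfl⟩ : ∃ k, q = 8 * k + 3 := ⟨q / 8, by omega⟩
    have e1 : 8 * k + 3 - 1 = 8 * k + 2 := by omega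
    have e2 : (8 * k + 3) ^ 2 - 1 = (8 * k + 2) * (8 * k + 4) :=
      Nat.sub_eq_of_eq_add (by ring)
    have e3 : (8 * k + 3) ^ 2 - (8 * k + 3) = (8 * k + 3) * (8 * k + 2) :=
      Nat.sub_eq_of_eq_add (by ring)
    have e4 : Nat.gcd 2 (8 * k + 2) = 2 := Nat.gcd_eq_left ⟨4 * k + 1, by ring⟩
    rw [e1, e2, e3, e4] at h
    have hodd : Odd ((2 * k + 1) * (8 * k + 3) * (4 * k + 1)) :=
      Odd.mul (Odd.mul ⟨k, rfl⟩ ⟨4 * k + 1, by ring⟩) ⟨2 * k, by ring⟩
    have h' : (8 * k + 2) * (2 * N) =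
        (8 * k + 2) * (8 * ((2 * k + 1) * (8 * k + 3) * (4 * k + 1))) := by
      calc (8 * k + 2) * (2 * N) = 2 * ((8 * k + 2) * N) := by ring
        _ = (8 * k + 2) * (8 * k + 4) * ((8 * k + 3) * (8 * k + 2)) := h
        _ = _ := by ring
    have h3 := Nat.eq_of_mul_eq_mul_left (by omega : 0 < 8 * k + 2) h'
    generalize (2 * k + 1) * (8 * k + 3) * (4 * k + 1) = m at hodd h3
    rintro ⟨c, hc⟩
    exact (Nat.not_even_iff_odd.mpr hodd) ⟨c, by omega⟩
  · obtain ⟨k, rfl⟩ : ∃ k, q = 8 * k + 5 := ⟨q / 8, by omega⟩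
    have e1 : 8 * k + 5 - 1 = 8 * k + 4 := by omega
    have e2 : (8 * k + 5) ^ 2 - 1 = (8 * k + 4) * (8 * k + 6) :=
      Nat.sub_eq_of_eq_add (by ring)
    have e3 : (8 * k + 5) ^ 2 - (8 * k + 5) = (8 * k + 5) * (8 * k + 4) :=
      Nat.sub_eq_of_eq_add (by ring)
    have e4 : Nat.gcd 2 (8 * k + 4) = 2 := Nat.gcd_eq_left ⟨4 * k + 2, by ring⟩
    rw [e1, e2, e3, e4] at h
    have hodd : Odd ((4 * k + 3) * (8 * k + 5) * (2 * k + 1)) :=
      Odd.mul (Odd.mul ⟨2 * k + 1, by ring⟩ ⟨4 * k + 2, by ring⟩) ⟨k, rfl⟩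
    have h' : (8 * k + 4) * (2 * N) =
        (8 * k + 4) * (8 * ((4 * k + 3) * (8 * k + 5) * (2 * k + 1))) := by
      calc (8 * k + 4) * (2 * N) = 2 * ((8 * k + 4) * N) := by ring
        _ = (8 * k + 4) * (8 * k + 6) * ((8 * k + 5) * (8 * k + 4)) := h
        _ = _ := by ring
    have h3 := Nat.eq_of_mul_eq_mul_left (by omega : 0 < 8 * k + 4) h'
    generalize (4 * k + 3) * (8 * k + 5) * (2 * k + 1) = m at hodd h3
    rintro ⟨c, hc⟩
    exact (Nat.not_even_iff_odd.mpr hodd) ⟨c, by omega⟩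

section Main

variable {F : Type u} [Field F]

local notation "S2" => Matrix.SpecialLinearGroup (Fin 2) F
local notation "M2" => Matrix (Fin 2) (Fin 2) F
local notation "PS" => Matrix.ProjectiveSpecialLinearGroup (Fin 2) F

/-- Anticommuting pairs of elements of order four. -/
def IsP (p : S2 × S2) : Prop :=
  p.1 * p.1 = negOne ∧ p.2 * p.2 = negOne ∧ p.1 * p.2 = negOne * (p.2 * p.1)

/-- Simultaneous conjugacy of pairs. -/
def CJ (p p' : S2 × S2) : Prop := ∃ g : S2, g * p.1 * g⁻¹ = p'.1 ∧ g * p.2 * g⁻¹ = p'.2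

theorem cj_refl (p : S2 × S2) : CJ p p := ⟨1, by simp, by simp⟩

theorem cj_symm {p p' : S2 × S2} (h : CJ p p') : CJ p' p := by
  obtain ⟨g, h1, h2⟩ := h
  refine ⟨g⁻¹, ?_, ?_⟩
  · rw [← h1]
    group
  · rw [← h2]
    group

theorem cj_trans {p p' p'' : S2 × S2} (h : CJ p p') (h' : CJ p' p'') : CJ p p'' := by
  obtain ⟨g, h1, h2⟩ := h
  obtain ⟨g', h1', h2'⟩ := h'
  refine ⟨g' * g, ?_, ?_⟩
  · rw [← h1', ← h1]
    group
  · rw [← h2', ← h2]
    group

/-- An element of `SL_2` from a matrix of determinant one. -/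
def mkS (M : M2) (hdet : M.det = 1) : S2 := ⟨M, hdet⟩

theorem conj_of_mat (M : M2) (hdet : M.det = 1) (x y : S2) (h : M * (x : M2) = (y : M2) * M) :
    mkS M hdet * x * (mkS M hdet)⁻¹ = y := by
  rw [mul_inv_eq_iff_eq_mul]
  apply Subtype.ext
  exact h

theorem coe_sq (x : S2) (hx : x * x = negOne) :
    (x : M2) * (x : M2) = ((negOne : S2) : M2) := by
  rw [← Matrix.SpecialLinearGroup.coe_mul, hx]

section Fin

variable [Fintype F] [DecidableEq F] [Fintype (Matrix.SpecialLinearGroup (Fin 2) F)]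

theorem isP_of_cj {p p' : S2 × S2} (hp : IsP p) (h : CJ p p') : IsP p' := by
  obtain ⟨g, h1, h2⟩ := h
  obtain ⟨ha, hb, hab⟩ := hp
  have hz := Subgroup.mem_center_iff.mp (negOne_center (F := F))
  have hc : g * negOne * g⁻¹ = negOne := by
    rw [hz g, mul_assoc, mul_inv_cancel, mul_one]
  refine ⟨?_, ?_, ?_⟩
  · rw [← h1]
    calc g * p.1 * g⁻¹ * (g * p.1 * g⁻¹) = g * (p.1 * p.1) * g⁻¹ := by group
      _ = negOne := by rw [ha, hc]
  · rw [← h2]
    calc g * p.2 * g⁻¹ * (g * p.2 * g⁻¹) = g * (p.2 * p.2) * g⁻¹ := by group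
      _ = negOne := by rw [hb, hc]
  · rw [← h1, ← h2]
    calc g * p.1 * g⁻¹ * (g * p.2 * g⁻¹) = g * (p.1 * p.2) * g⁻¹ := by group
      _ = g * (negOne * (p.2 * p.1)) * g⁻¹ := by rw [hab]
      _ = (g * negOne * g⁻¹) * (g * p.2 * g⁻¹ * (g * p.1 * g⁻¹)) := by group
      _ = negOne * (g * p.2 * g⁻¹ * (g * p.1 * g⁻¹)) := by rw [hc]

theorem stab_pm (h2 : (2 : F) ≠ 0) (a b x : S2) (hp : IsP (a, b)) (hxa : x * a = a * x)
    (hxb : x * b = b * x) : x = 1 ∨ x = negOne := by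
  obtain ⟨ha, hb, hab⟩ := hp
  dsimp only at ha hb hab
  have hz := Subgroup.mem_center_iff.mp (negOne_center (F := F))
  have h0 : (x * a) * b = negOne * (b * (x * a)) := by
    rw [mul_assoc, hab, ← mul_assoc x, hz x, mul_assoc negOne, ← mul_assoc x b a, hxb, mul_assoc]
  have h1 : b * (x * a) = negOne * ((x * a) * b) := by
    rw [h0, ← mul_assoc negOne negOne, negOne_sq, one_mul]
  have h3 := sq_of_anti h2 b (x * a) h1
  have e : (x * a) * (x * a) = (x * x) * (a * a) := by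
    calc (x * a) * (x * a) = x * (a * x) * a := by simp only [mul_assoc]
      _ = x * (x * a) * a := by rw [← hxa]
      _ = (x * x) * (a * a) := by simp only [mul_assoc]
  rw [e, ha] at h3
  have h4 : (x * x) * negOne = 1 * negOne := by
    rw [one_mul]
    exact h3
  have hxx : x * x = 1 := mul_right_cancel h4
  by_cases hx1 : x = 1
  · left
    exact hx1
  · right
    exact eq_negOne_of_sq h2 x hxx hx1

theorem cj_fiber (h2 : (2 : F) ≠ 0) (p : S2 × S2) (hp : IsP p) (g g₀ : S2) :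
    (g * p.1 * g⁻¹ = g₀ * p.1 * g₀⁻¹ ∧ g * p.2 * g⁻¹ = g₀ * p.2 * g₀⁻¹) ↔
      (g = g₀ ∨ g = g₀ * negOne) := by
  have hz := Subgroup.mem_center_iff.mp (negOne_center (F := F))
  constructor
  · rintro ⟨h1, h3⟩
    have k1 : (g₀⁻¹ * g) * p.1 = p.1 * (g₀⁻¹ * g) := by
      calc g₀⁻¹ * g * p.1 = g₀⁻¹ * (g * p.1 * g⁻¹) * g := by group
        _ = g₀⁻¹ * (g₀ * p.1 * g₀⁻¹) * g := by rw [h1]
        _ = p.1 * (g₀⁻¹ * g) := by group
    have k2 : (g₀⁻¹ * g) * p.2 = p.2 * (g₀⁻¹ * g) := by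
      calc g₀⁻¹ * g * p.2 = g₀⁻¹ * (g * p.2 * g⁻¹) * g := by group
        _ = g₀⁻¹ * (g₀ * p.2 * g₀⁻¹) * g := by rw [h3]
        _ = p.2 * (g₀⁻¹ * g) := by group
    rcases stab_pm h2 p.1 p.2 (g₀⁻¹ * g) hp k1 k2 with h | h
    · left
      exact (inv_mul_eq_one.mp h).symm
    · right
      rw [← h, mul_inv_cancel_left]
  · rintro (h | h)
    · rw [h]
      exact ⟨rfl, rfl⟩
    · have e : ∀ y : S2, g₀ * negOne * y * (g₀ * negOne)⁻¹ = g₀ * y * g₀⁻¹ := by
        intro y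
        calc g₀ * negOne * y * (g₀ * negOne)⁻¹ = g₀ * (negOne * y * negOne⁻¹) * g₀⁻¹ := by group
          _ = g₀ * y * g₀⁻¹ := by rw [← hz y, mul_inv_cancel_right]
      rw [h]
      exact ⟨e _, e _⟩

/-- The orbit of a pair under simultaneous conjugation. -/
def orb (p : S2 × S2) : Finset (S2 × S2) :=
  Finset.univ.image (fun g : S2 => (g * p.1 * g⁻¹, g * p.2 * g⁻¹))

/-- The set of anticommuting pairs. -/
def pset : Finset (S2 × S2) :=
  Finset.univ.filter (fun p : S2 × S2 =>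
    p.1 * p.1 = negOne ∧ p.2 * p.2 = negOne ∧ p.1 * p.2 = negOne * (p.2 * p.1))

theorem mem_pset (p : S2 × S2) : p ∈ pset ↔ IsP p := by
  unfold pset IsP
  rw [Finset.mem_filter]
  simp

theorem pset_card (h2 : (2 : F) ≠ 0) : (pset (F := F)).card = Fintype.card S2 := pairs_card h2

theorem mem_orb (p p' : S2 × S2) : p' ∈ orb p ↔ CJ p p' := by
  unfold orb
  rw [Finset.mem_image]
  constructor
  · rintro ⟨g, _, rfl⟩
    exact ⟨g, rfl, rfl⟩
  · rintro ⟨g, h1, h3⟩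
    exact ⟨g, Finset.mem_univ _, Prod.ext h1 h3⟩

theorem orb_sub (p : S2 × S2) (hp : IsP p) : orb p ⊆ pset := by
  intro p' hp'
  rw [mem_orb] at hp'
  rw [mem_pset]
  exact isP_of_cj hp hp'

theorem orb_card (h2 : (2 : F) ≠ 0) (p : S2 × S2) (hp : IsP p) :
    2 * (orb p).card = Fintype.card S2 := by
  have hfib : ∀ g₀ : S2, (Finset.univ.filter (fun g : S2 =>
      (g * p.1 * g⁻¹, g * p.2 * g⁻¹) = (g₀ * p.1 * g₀⁻¹, g₀ * p.2 * g₀⁻¹))).card = 2 := by
    intro g₀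
    have hset : Finset.univ.filter (fun g : S2 =>
        (g * p.1 * g⁻¹, g * p.2 * g⁻¹) = (g₀ * p.1 * g₀⁻¹, g₀ * p.2 * g₀⁻¹)) =
        {g₀, g₀ * negOne} := by
      ext g
      rw [Finset.mem_filter, Finset.mem_insert, Finset.mem_singleton, Prod.mk.injEq,
        cj_fiber h2 p hp]
      simp
    rw [hset]
    apply Finset.card_pair
    intro h
    apply one_ne_negOne h2
    have h1 : g₀ * 1 = g₀ * negOne := by
      rw [mul_one]
      exact h
    exact mul_left_cancel h1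
  have hmaps : Set.MapsTo (fun g : S2 => (g * p.1 * g⁻¹, g * p.2 * g⁻¹))
      ↑(Finset.univ : Finset S2) ↑(orb p) := by
    intro g _
    exact Finset.mem_coe.mpr (Finset.mem_image_of_mem _ (Finset.mem_univ g))
  rw [← Finset.card_univ (α := S2), Finset.card_eq_sum_card_fiberwise hmaps,
    Finset.sum_const_nat (m := 2), mul_comm]
  intro p' hp'
  obtain ⟨g₀, _, rfl⟩ := Finset.mem_image.mp hp'
  exact hfib g₀

theorem three_cj (h2 : (2 : F) ≠ 0) (p₁ p₂ p₃ : S2 × S2) (h₁ : IsP p₁) (h₂ : IsP p₂)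
    (h₃ : IsP p₃) : CJ p₁ p₂ ∨ CJ p₁ p₃ ∨ CJ p₂ p₃ := by
  by_contra hno
  obtain ⟨n12, hno'⟩ := not_or.mp hno
  obtain ⟨n13, n23⟩ := not_or.mp hno'
  have hdis : ∀ p q : S2 × S2, ¬ CJ p q → Disjoint (orb p) (orb q) := by
    intro p q hpq
    rw [Finset.disjoint_left]
    intro r hr hr'
    rw [mem_orb] at hr hr'
    exact hpq (cj_trans hr (cj_symm hr'))
  have c1 := orb_card h2 p₁ h₁
  have c2 := orb_card h2 p₂ h₂
  have c3 := orb_card h2 p₃ h₃
  have hP := pset_card h2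
  have hsub : (orb p₁ ∪ orb p₂) ∪ orb p₃ ⊆ pset :=
    Finset.union_subset (Finset.union_subset (orb_sub p₁ h₁) (orb_sub p₂ h₂)) (orb_sub p₃ h₃)
  have hle := Finset.card_le_card hsub
  have hd3 : Disjoint (orb p₁ ∪ orb p₂) (orb p₃) := by
    rw [Finset.disjoint_union_left]
    exact ⟨hdis p₁ p₃ n13, hdis p₂ p₃ n23⟩
  rw [Finset.card_union_of_disjoint hd3, Finset.card_union_of_disjoint (hdis p₁ p₂ n12), hP]
    at hle
  have hpos : 0 < Fintype.card S2 := Fintype.card_pos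
  omega

theorem exists_not_cj (h2 : (2 : F) ≠ 0) (p₀ : S2 × S2) (h₀ : IsP p₀) :
    ∃ p : S2 × S2, IsP p ∧ ¬ CJ p₀ p := by
  by_contra hno
  have hall : ∀ p : S2 × S2, IsP p → CJ p₀ p := by
    intro p hp
    by_contra h
    exact hno ⟨p, hp, h⟩
  have hsub : pset ⊆ orb p₀ := by
    intro p hp
    rw [mem_orb]
    exact hall p ((mem_pset p).mp hp)
  have hle := Finset.card_le_card hsub
  have c1 := orb_card h2 p₀ h₀
  rw [pset_card h2] at hle
  have hpos : 0 < Fintype.card S2 := Fintype.card_pos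
  omega

theorem move_s1 (x y : S2) (hp : IsP (x, y)) : CJ (x, y) (x, negOne * y) := by
  obtain ⟨hx, hy, hxy⟩ := hp
  dsimp only at hx hy hxy
  refine ⟨x, ?_, ?_⟩
  · show x * x * x⁻¹ = x
    rw [mul_inv_cancel_right]
  · show x * y * x⁻¹ = negOne * y
    rw [hxy, mul_assoc, mul_assoc, mul_inv_cancel, mul_one]

theorem move_s2 (x y : S2) (hp : IsP (x, y)) : CJ (x, y) (negOne * x, y) := by
  obtain ⟨hx, hy, hxy⟩ := hp
  dsimp only at hx hy hxy
  have hyx : y * x = negOne * (x * y) := by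
    rw [hxy, ← mul_assoc negOne negOne, negOne_sq, one_mul]
  refine ⟨y, ?_, ?_⟩
  · show y * x * y⁻¹ = negOne * x
    rw [hyx, mul_assoc, mul_assoc, mul_inv_cancel, mul_one]
  · show y * y * y⁻¹ = y
    rw [mul_inv_cancel_right]

theorem move_s3 (s : F) (hs : s * s = 2) (h2 : (2 : F) ≠ 0) (x y : S2) (hp : IsP (x, y)) :
    CJ (x, y) (y, x) := by
  obtain ⟨hx, hy, hxy⟩ := hp
  dsimp only at hx hy hxy
  have hs0 : s ≠ 0 := by
    rintro rfl
    rw [mul_zero] at hs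
    exact h2 hs.symm
  have hsi : s⁻¹ ^ 2 * 2 = 1 := by
    rw [← hs, pow_two]
    calc s⁻¹ * s⁻¹ * (s * s) = (s⁻¹ * s) * (s⁻¹ * s) := by ring
      _ = 1 := by rw [inv_mul_cancel₀ hs0, one_mul]
  have htx := trace_of_sq x hx
  have hty := trace_of_sq y hy
  rw [Matrix.trace_fin_two] at htx hty
  have hdx := det_entries x
  have hdy := det_entries y
  have hE := congrArg (fun z : S2 => (z : M2) 0 0) hxy
  simp only [mul_entries, negOne_00, negOne_01] at hE
  have hdet : (s⁻¹ • ((x : M2) + (y : M2))).det = 1 := by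
    rw [Matrix.det_smul, Fintype.card_fin, Matrix.det_fin_two]
    simp only [Matrix.add_apply]
    linear_combination (s⁻¹ ^ 2) * (hdx + hdy + (x : M2) 0 0 * hty + (y : M2) 0 0 * htx - hE) + hsi
  have hx' := coe_sq x hx
  have hy' := coe_sq y hy
  refine ⟨mkS (s⁻¹ • ((x : M2) + (y : M2))) hdet, ?_, ?_⟩
  · show mkS _ hdet * x * (mkS _ hdet)⁻¹ = y
    apply conj_of_mat
    rw [Matrix.smul_mul, Matrix.mul_smul, add_mul, mul_add, hx', hy', add_comm]
  · show mkS _ hdet * y * (mkS _ hdet)⁻¹ = x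
    apply conj_of_mat
    rw [Matrix.smul_mul, Matrix.mul_smul, add_mul, mul_add, hx', hy', add_comm]

theorem move_s4 (s : F) (hs : s * s = 2) (h2 : (2 : F) ≠ 0) (x y : S2) (hp : IsP (x, y)) :
    CJ (x, y) (x, x * y) := by
  obtain ⟨hx, hy, hxy⟩ := hp
  dsimp only at hx hy hxy
  have hz := Subgroup.mem_center_iff.mp (negOne_center (F := F))
  have hs0 : s ≠ 0 := by
    rintro rfl
    rw [mul_zero] at hs
    exact h2 hs.symm
  have hsi : s⁻¹ ^ 2 * 2 = 1 := by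
    rw [← hs, pow_two]
    calc s⁻¹ * s⁻¹ * (s * s) = (s⁻¹ * s) * (s⁻¹ * s) := by ring
      _ = 1 := by rw [inv_mul_cancel₀ hs0, one_mul]
  have htx := trace_of_sq x hx
  rw [Matrix.trace_fin_two] at htx
  have hdx := det_entries x
  have hdet : (s⁻¹ • ((1 : M2) + (x : M2))).det = 1 := by
    rw [Matrix.det_smul, Fintype.card_fin, Matrix.det_fin_two]
    simp only [Matrix.add_apply, Matrix.one_apply_eq,
      Matrix.one_apply_ne (by decide : (0 : Fin 2) ≠ 1),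
      Matrix.one_apply_ne (by decide : (1 : Fin 2) ≠ 0)]
    linear_combination (s⁻¹ ^ 2) * (hdx + htx) + hsi
  have hxyx : x * y * x = y := by
    rw [hxy, mul_assoc, mul_assoc, hx, hz y, ← mul_assoc negOne negOne, negOne_sq, one_mul]
  have hm : ((x * y : S2) : M2) * (x : M2) = (y : M2) := by
    rw [← Matrix.SpecialLinearGroup.coe_mul, hxyx]
  refine ⟨mkS (s⁻¹ • ((1 : M2) + (x : M2))) hdet, ?_, ?_⟩
  · show mkS _ hdet * x * (mkS _ hdet)⁻¹ = x
    apply conj_of_mat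
    rw [Matrix.smul_mul, Matrix.mul_smul, add_mul, mul_add, one_mul, mul_one]
  · show mkS _ hdet * y * (mkS _ hdet)⁻¹ = x * y
    apply conj_of_mat
    rw [Matrix.smul_mul, Matrix.mul_smul, add_mul, mul_add, one_mul, mul_one, hm,
      Matrix.SpecialLinearGroup.coe_mul, add_comm]

theorem sign_cj (u v x y : S2) (hp : IsP (u, v)) (hx : pr x = pr u) (hy : pr y = pr v) :
    CJ (u, v) (x, y) := by
  rw [pr_eq] at hx hy
  rcases hx with hx | hx
  · rcases hy with hy | hy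
    · rw [hx, hy]
      exact cj_refl _
    · rw [hx, hy]
      exact move_s1 _ _ hp
  · rcases hy with hy | hy
    · rw [hx, hy]
      exact move_s2 _ _ hp
    · rw [hx, hy]
      exact cj_trans (move_s1 _ _ hp) (move_s2 _ _ (isP_of_cj hp (move_s1 _ _ hp)))

theorem fiber_cj (s : F) (hs : s * s = 2) (h2 : (2 : F) ≠ 0) (a b x y : S2) (hp : IsP (a, b))
    (hx : pr x = pr a ∨ pr x = pr b ∨ pr x = pr a * pr b)
    (hy : pr y = pr a ∨ pr y = pr b ∨ pr y = pr a * pr b) (hne : pr x ≠ pr y) :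
    CJ (a, b) (x, y) := by
  have hab : a * b = negOne * (b * a) := hp.2.2
  have hpab : pr (a * b) = pr (b * a) := by
    rw [pr_eq]
    right
    exact hab
  have c3 : CJ (a, b) (b, a) := move_s3 s hs h2 a b hp
  have p3 : IsP (b, a) := isP_of_cj hp c3
  have c4 : CJ (a, b) (a, a * b) := move_s4 s hs h2 a b hp
  have p4 : IsP (a, a * b) := isP_of_cj hp c4
  have c5 : CJ (a, b) (b, b * a) := cj_trans c3 (move_s4 s hs h2 b a p3)
  have p5 : IsP (b, b * a) := isP_of_cj hp c5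
  have c6 : CJ (a, b) (a * b, a) := cj_trans c4 (move_s3 s hs h2 a (a * b) p4)
  have p6 : IsP (a * b, a) := isP_of_cj hp c6
  have c7 : CJ (a, b) (b * a, b) := cj_trans c5 (move_s3 s hs h2 b (b * a) p5)
  have p7 : IsP (b * a, b) := isP_of_cj hp c7
  rcases hx with hx | hx | hx
  · rcases hy with hy | hy | hy
    · exact absurd (hx.trans hy.symm) hne
    · exact sign_cj a b x y hp hx hy
    · exact cj_trans c4 (sign_cj a (a * b) x y p4 hx (by rw [hy, pr_mul]))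
  · rcases hy with hy | hy | hy
    · exact cj_trans c3 (sign_cj b a x y p3 hx hy)
    · exact absurd (hx.trans hy.symm) hne
    · exact cj_trans c5 (sign_cj b (b * a) x y p5 hx (by rw [hy, ← pr_mul, hpab]))
  · rcases hy with hy | hy | hy
    · exact cj_trans c6 (sign_cj (a * b) a x y p6 (by rw [hx, pr_mul]) hy)
    · exact cj_trans c7 (sign_cj (b * a) b x y p7 (by rw [hx, ← pr_mul, hpab]) hy)
    · exact absurd (hx.trans hy.symm) hne


theorem map_of_cj (h2 : (2 : F) ≠ 0) (p p' : S2 × S2) (hp : IsP p) (h : CJ p p')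
    (V W : Subgroup PS) (hV : IsKleinFour V) (hW : IsKleinFour W)
    (h1 : pr p.1 ∈ V) (h3 : pr p.2 ∈ V) (h1' : pr p'.1 ∈ W) (h3' : pr p'.2 ∈ W) :
    ∃ g : PS, W = V.map (MulAut.conj g).toMonoidHom := by
  have hp' := isP_of_cj hp h
  obtain ⟨g, hg1, hg2⟩ := h
  refine ⟨pr g, ?_⟩
  obtain ⟨ha', hb', hab'⟩ := hp'
  have hx : pr p'.1 * pr p'.1 = 1 := by
    rw [← pr_mul, ha', pr_eq_one]
    right
    rfl
  have hy : pr p'.2 * pr p'.2 = 1 := by
    rw [← pr_mul, hb', pr_eq_one]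
    right
    rfl
  have hxy : pr p'.1 * pr p'.2 = pr p'.2 * pr p'.1 := by
    rw [← pr_mul, ← pr_mul, pr_eq]
    right
    exact hab'
  have hx1 := pr_ne_one h2 _ ha'
  have hy1 := pr_ne_one h2 _ hb'
  have hne := pr_ne_of_anti h2 _ _ hab'
  have hW' := kl_unique _ _ hx hy hxy hx1 hy1 hne W hW h1' h3'
  rw [hW']
  have hm1 : pr p'.1 ∈ V.map (MulAut.conj (pr g)).toMonoidHom := by
    rw [Subgroup.mem_map]
    refine ⟨pr p.1, h1, ?_⟩
    show pr g * pr p.1 * (pr g)⁻¹ = pr p'.1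
    rw [← hg1]
    rfl
  have hm2 : pr p'.2 ∈ V.map (MulAut.conj (pr g)).toMonoidHom := by
    rw [Subgroup.mem_map]
    refine ⟨pr p.2, h3, ?_⟩
    show pr g * pr p.2 * (pr g)⁻¹ = pr p'.2
    rw [← hg2]
    rfl
  apply Subgroup.eq_of_le_of_card_ge
  · intro z hz
    rcases (mem_kl _ _ hx hy hxy z).mp hz with h | h | h | h
    · rw [h]
      exact one_mem _
    · rw [h]
      exact hm1
    · rw [h]
      exact hm2
    · rw [h]
      exact mul_mem hm1 hm2
  · rw [Subgroup.card_map_of_injective (MulAut.conj (pr g)).injective, hV.card_four,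
      (kl_klein _ _ hx hy hxy hx1 hy1 hne).card_four]

theorem cj_of_map (s : F) (hs : s * s = 2) (h2 : (2 : F) ≠ 0) (p p' : S2 × S2) (hp : IsP p)
    (hp' : IsP p') (V W : Subgroup PS) (hW : IsKleinFour W)
    (h1 : pr p.1 ∈ V) (h3 : pr p.2 ∈ V) (h1' : pr p'.1 ∈ W) (h3' : pr p'.2 ∈ W)
    (g : PS) (hg : W = V.map (MulAut.conj g).toMonoidHom) : CJ p p' := by
  obtain ⟨g₀, rfl⟩ := pr_surj g
  have hc : CJ p (g₀ * p.1 * g₀⁻¹, g₀ * p.2 * g₀⁻¹) := ⟨g₀, rfl, rfl⟩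
  have hp'' := isP_of_cj hp hc
  refine cj_trans hc ?_
  obtain ⟨ha'', hb'', hab''⟩ := hp''
  dsimp only at ha'' hb'' hab''
  have hx : pr (g₀ * p.1 * g₀⁻¹) * pr (g₀ * p.1 * g₀⁻¹) = 1 := by
    rw [← pr_mul, ha'', pr_eq_one]
    right
    rfl
  have hy : pr (g₀ * p.2 * g₀⁻¹) * pr (g₀ * p.2 * g₀⁻¹) = 1 := by
    rw [← pr_mul, hb'', pr_eq_one]
    right
    rfl
  have hxy : pr (g₀ * p.1 * g₀⁻¹) * pr (g₀ * p.2 * g₀⁻¹) =
      pr (g₀ * p.2 * g₀⁻¹) * pr (g₀ * p.1 * g₀⁻¹) := by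
    rw [← pr_mul, ← pr_mul, pr_eq]
    right
    exact hab''
  have hx1 := pr_ne_one h2 _ ha''
  have hy1 := pr_ne_one h2 _ hb''
  have hne := pr_ne_of_anti h2 _ _ hab''
  have m1 : pr (g₀ * p.1 * g₀⁻¹) ∈ W := by
    rw [hg, Subgroup.mem_map]
    exact ⟨pr p.1, h1, rfl⟩
  have m2 : pr (g₀ * p.2 * g₀⁻¹) ∈ W := by
    rw [hg, Subgroup.mem_map]
    exact ⟨pr p.2, h3, rfl⟩
  have hW' := kl_unique _ _ hx hy hxy hx1 hy1 hne W hW m1 m2
  rw [hW'] at h1' h3'
  have k1 := (mem_kl _ _ hx hy hxy (pr p'.1)).mp h1'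
  have k2 := (mem_kl _ _ hx hy hxy (pr p'.2)).mp h3'
  obtain ⟨q1, q2, q3⟩ := hp'
  have n1 := pr_ne_one h2 _ q1
  have n2 := pr_ne_one h2 _ q2
  have n3 := pr_ne_of_anti h2 _ _ q3
  apply fiber_cj s hs h2 _ _ p'.1 p'.2 ⟨ha'', hb'', hab''⟩
  · rcases k1 with h | h | h | h
    · exact absurd h n1
    · left
      exact h
    · right; left
      exact h
    · right; right
      exact h
  · rcases k2 with h | h | h | h
    · exact absurd h n2
    · left
      exact h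
    · right; left
      exact h
    · right; right
      exact h
  · exact n3

theorem exists_pair_in (h2 : (2 : F) ≠ 0) (W : Subgroup PS) (hW : IsKleinFour W) :
    ∃ p : S2 × S2, IsP p ∧ pr p.1 ∈ W ∧ pr p.2 ∈ W := by
  classical
  haveI : Fintype (Matrix.ProjectiveSpecialLinearGroup (Fin 2) F) := Fintype.ofFinite _
  have h4 : (Finset.univ.filter (fun x : PS => x ∈ W)).card = 4 := by
    rw [← Fintype.card_subtype, ← Nat.card_eq_fintype_card]
    exact hW.card_four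
  have h3 : ((Finset.univ.filter (fun x : PS => x ∈ W)).erase 1).card = 3 := by
    rw [Finset.card_erase_of_mem (Finset.mem_filter.mpr ⟨Finset.mem_univ _, one_mem W⟩), h4]
  have hpos : 0 < ((Finset.univ.filter (fun x : PS => x ∈ W)).erase 1).card := by
    rw [h3]
    norm_num
  obtain ⟨u, hu⟩ := Finset.card_pos.mp hpos
  have h2' : (((Finset.univ.filter (fun x : PS => x ∈ W)).erase 1).erase u).card = 2 := by
    rw [Finset.card_erase_of_mem hu, h3]
  have hpos' : 0 < (((Finset.univ.filter (fun x : PS => x ∈ W)).erase 1).erase u).card := by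
    rw [h2']
    norm_num
  obtain ⟨v, hv⟩ := Finset.card_pos.mp hpos'
  rw [Finset.mem_erase, Finset.mem_filter] at hu
  rw [Finset.mem_erase, Finset.mem_erase, Finset.mem_filter] at hv
  obtain ⟨x, rfl⟩ := pr_surj u
  obtain ⟨y, rfl⟩ := pr_surj v
  have h := (klein_pairs h2 W hW x y).mpr
    ⟨⟨hu.2.2, hu.1⟩, ⟨hv.2.2.2, hv.2.1⟩, fun h => hv.1 h.symm⟩
  exact ⟨(x, y), h.1, h.2.1, h.2.2⟩

end Fin

end Main

/-- Conjugacy classes of Klein four-subgroups of `PSL_2(q)`, `q` odd. -/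
theorem klein_classes {F : Type u} [Field F] [Fintype F] (hodd : Odd (Fintype.card F)) :
    ((Fintype.card F % 8 = 3 ∨ Fintype.card F % 8 = 5) →
      ∀ V W : Subgroup (Matrix.ProjectiveSpecialLinearGroup (Fin 2) F),
        IsKleinFour V → IsKleinFour W →
        ∃ g : Matrix.ProjectiveSpecialLinearGroup (Fin 2) F,
          W = V.map (MulAut.conj g).toMonoidHom) ∧
    ((Fintype.card F % 8 = 1 ∨ Fintype.card F % 8 = 7) →
      ∃ V₁ V₂ : Subgroup (Matrix.ProjectiveSpecialLinearGroup (Fin 2) F),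
        IsKleinFour V₁ ∧ IsKleinFour V₂ ∧
        (¬ ∃ g : Matrix.ProjectiveSpecialLinearGroup (Fin 2) F,
          V₂ = V₁.map (MulAut.conj g).toMonoidHom) ∧
        ∀ W : Subgroup (Matrix.ProjectiveSpecialLinearGroup (Fin 2) F), IsKleinFour W →
          (∃ g : Matrix.ProjectiveSpecialLinearGroup (Fin 2) F,
            W = V₁.map (MulAut.conj g).toMonoidHom) ∨
          (∃ g : Matrix.ProjectiveSpecialLinearGroup (Fin 2) F,
            W = V₂.map (MulAut.conj g).toMonoidHom)) := by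
  classical
  haveI : Fintype (Matrix.SpecialLinearGroup (Fin 2) F) := Fintype.ofFinite _
  have h2 : (2 : F) ≠ 0 := two_ne_of_odd hodd
  constructor
  · intro hq V W hV hW
    exact conj_of_card4 (not8 hq) V W hV.card_four hW.card_four
  · intro hq
    have hsq : IsSquare (2 : F) := FiniteField.isSquare_two_iff.mpr (by omega)
    obtain ⟨s, hs⟩ := hsq
    have hs' : s * s = 2 := hs.symm
    have hpos : 0 < (pset (F := F)).card := by
      rw [pset_card h2]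
      exact Fintype.card_pos
    obtain ⟨p₀, hp₀m⟩ := Finset.card_pos.mp hpos
    have hp₀ : IsP p₀ := (mem_pset p₀).mp hp₀m
    obtain ⟨p₂, hp₂, hn⟩ := exists_not_cj h2 p₀ hp₀
    obtain ⟨q1, q2, q3⟩ := hp₀
    obtain ⟨r1, r2, r3⟩ := hp₂
    obtain ⟨V₁, hV₁, a1, b1, -⟩ := klein_unique_of_pair h2 p₀.1 p₀.2 q1 q2 q3
    obtain ⟨V₂, hV₂, a2, b2, -⟩ := klein_unique_of_pair h2 p₂.1 p₂.2 r1 r2 r3
    refine ⟨V₁, V₂, hV₁, hV₂, ?_, ?_⟩
    · rintro ⟨g, hg⟩
      exact hn (cj_of_map s hs' h2 p₀ p₂ ⟨q1, q2, q3⟩ ⟨r1, r2, r3⟩ V₁ V₂ hV₂ a1 b1 a2 b2 g hg)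
    · intro W hW
      obtain ⟨p, hp, w1, w2⟩ := exists_pair_in h2 W hW
      rcases three_cj h2 p₀ p₂ p ⟨q1, q2, q3⟩ ⟨r1, r2, r3⟩ hp with h | h | h
      · exact absurd h hn
      · left
        exact map_of_cj h2 p₀ p ⟨q1, q2, q3⟩ h V₁ W hV₁ hW a1 b1 w1 w2
      · right
        exact map_of_cj h2 p₂ p ⟨r1, r2, r3⟩ h V₂ W hV₂ hW a2 b2 w1 w2

end Cfsg.Agent.Lib_helper8_PSL2KleinConj
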