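import Mathlib
import Cfsg.Agent.Lib_helper8_PSL2KleinConj
import Cfsg.Agent.S1012

set_option autoImplicit false

/-! Subgroups of `PSL_2(q)` isomorphic to `S_4`. -/

namespace Cfsg.Agent.Lib_helper8_PSL2S4

open Cfsg
open Cfsg.Agent.Lib_helper8_GL2 Cfsg.Agent.Lib_helper8_SL2Conj Cfsg.Agent.Lib_helper8_SL2Vals
open Cfsg.Agent.Lib_helper8_SL2Odd
open Cfsg.Agent.Lib_helper4_SL2Quat Cfsg.Agent.Lib_helper8_SL2Tor
open Cfsg.Agent.Lib_helper8_SL2Half Cfsg.Agent.Lib_helper8_SL2Blocks
open Cfsg.Agent.Lib_helper8_SL2Four Cfsg.Agent.Lib_helper8_PSL2Klein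
open Cfsg.Agent.Lib_helper8_PSL2KleinConj
open Matrix

universe u

section Grp

variable {G : Type*} [Group G]

/-- An element normalising a four-group which is its own centraliser does not have order six. -/
theorem no6 (u v y : G) (hu : u * u = 1) (hv : v * v = 1) (huv : u * v = v * u)
    (hu1 : u ≠ 1) (hv1 : v ≠ 1) (hne : u ≠ v)
    (cent : ∀ z : G, z * u * z⁻¹ = u → z * v * z⁻¹ = v → z = 1 ∨ z = u ∨ z = v ∨ z = u * v)
    (hA : y * u * y⁻¹ = u ∨ y * u * y⁻¹ = v ∨ y * u * y⁻¹ = u * v)
    (hB : y * v * y⁻¹ = u ∨ y * v * y⁻¹ = v ∨ y * v * y⁻¹ = u * v) : orderOf y ≠ 6 := by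
  have hw2 : (u * v) * (u * v) = 1 := by
    rw [mul_assoc, ← mul_assoc v, ← huv, mul_assoc u v v, hv, mul_one, hu]
  have sqV : ∀ z : G, (z = 1 ∨ z = u ∨ z = v ∨ z = u * v) → z * z = 1 := by
    rintro z (h | h | h | h)
    · rw [h, one_mul]
    · rw [h, hu]
    · rw [h, hv]
    · rw [h, hw2]
  have conj_mul : ∀ z₁ z₂ : G, y * (z₁ * z₂) * y⁻¹ = (y * z₁ * y⁻¹) * (y * z₂ * y⁻¹) := by
    intro z₁ z₂
    group
  have c2 : ∀ z : G, (y * y) * z * (y * y)⁻¹ = y * (y * z * y⁻¹) * y⁻¹ := by
    intro z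
    group
  have c3 : ∀ z : G, (y * y * y) * z * (y * y * y)⁻¹ =
      y * (y * (y * z * y⁻¹) * y⁻¹) * y⁻¹ := by
    intro z
    group
  have fin2 : y * y = 1 → orderOf y ≠ 6 := by
    intro h h6
    have hd : orderOf y ∣ 2 := orderOf_dvd_of_pow_eq_one (by rw [pow_two]; exact h)
    rw [h6] at hd
    omega
  have fin3 : y * y * y = 1 → orderOf y ≠ 6 := by
    intro h h6
    have hd : orderOf y ∣ 3 := orderOf_dvd_of_pow_eq_one (by rw [pow_succ, pow_two]; exact h)
    rw [h6] at hd
    omega
  have fin4 : (y * y) * (y * y) = 1 → orderOf y ≠ 6 := by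
    intro h h6
    have hd : orderOf y ∣ 4 := orderOf_dvd_of_pow_eq_one
      (by rw [show (4 : ℕ) = 2 + 2 from rfl, pow_add, pow_two]; exact h)
    rw [h6] at hd
    omega
  have cancel : ∀ z₁ z₂ : G, y * z₁ * y⁻¹ = y * z₂ * y⁻¹ → z₁ = z₂ := by
    intro z₁ z₂ h
    exact mul_left_cancel (mul_right_cancel h)
  rcases hA with hA | hA | hA
  · rcases hB with hB | hB | hB
    · exact absurd (cancel u v (hA.trans hB.symm)) hne
    · exact fin2 (sqV y (cent y hA hB))
    · apply fin4
      apply sqV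
      apply cent
      · rw [c2, hA, hA]
      · rw [c2, hB, conj_mul, hA, hB, ← mul_assoc, hu, one_mul]
  · rcases hB with hB | hB | hB
    · apply fin4
      apply sqV
      apply cent
      · rw [c2, hA, hB]
      · rw [c2, hB, hA]
    · exact absurd (cancel u v (hA.trans hB.symm)) hne
    · have hw : y * (u * v) * y⁻¹ = u := by
        rw [conj_mul, hA, hB, ← mul_assoc, ← huv, mul_assoc, hv, mul_one]
      have h3 := cent (y * y * y) (by rw [c3, hA, hB, hw]) (by rw [c3, hB, hw, hA])
      have hcomm : y * (y * y * y) * y⁻¹ = y * y * y := by group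
      apply fin3
      rcases h3 with h | h | h | h
      · exact h
      · exfalso
        rw [h, hA] at hcomm
        exact hne hcomm.symm
      · exfalso
        rw [h, hB] at hcomm
        apply hu1
        have h5 : u * v = 1 * v := by
          rw [one_mul]
          exact hcomm
        exact mul_right_cancel h5
      · exfalso
        rw [h, hw] at hcomm
        apply hv1
        have h5 : u * v = u * 1 := by
          rw [mul_one]
          exact hcomm.symm
        exact mul_left_cancel h5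
  · rcases hB with hB | hB | hB
    · have hw : y * (u * v) * y⁻¹ = v := by
        rw [conj_mul, hA, hB, mul_assoc, ← huv, ← mul_assoc, hu, one_mul]
      have h3 := cent (y * y * y) (by rw [c3, hA, hw, hB]) (by rw [c3, hB, hA, hw])
      have hcomm : y * (y * y * y) * y⁻¹ = y * y * y := by group
      apply fin3
      rcases h3 with h | h | h | h
      · exact h
      · exfalso
        rw [h, hA] at hcomm
        apply hv1
        have h5 : u * v = u * 1 := by
          rw [mul_one]
          exact hcomm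
        exact mul_left_cancel h5
      · exfalso
        rw [h, hB] at hcomm
        exact hne hcomm
      · exfalso
        rw [h, hw] at hcomm
        apply hu1
        have h5 : u * v = 1 * v := by
          rw [one_mul]
          exact hcomm.symm
        exact mul_right_cancel h5
    · apply fin4
      apply sqV
      apply cent
      · rw [c2, hA, conj_mul, hA, hB, mul_assoc, hv, mul_one]
      · rw [c2, hB, hB]
    · exact absurd (cancel u v (hA.trans hB.symm)) hne

end Grp

section Main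

variable {F : Type u} [Field F]

local notation "S2" => Matrix.SpecialLinearGroup (Fin 2) F
local notation "M2" => Matrix (Fin 2) (Fin 2) F
local notation "PS" => Matrix.ProjectiveSpecialLinearGroup (Fin 2) F

section Fin

variable [Fintype F] [DecidableEq F] [Fintype (Matrix.SpecialLinearGroup (Fin 2) F)]

/-- In characteristic two, elements of `SL_2` of order dividing four have order dividing two. -/
theorem char2_sq (h2' : (2 : F) = 0) (g : S2) (h4 : (g * g) * (g * g) = 1) : g * g = 1 := by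
  obtain ⟨o1, o2, o3, o4⟩ := one_entries (F := F)
  have E00 := congrArg (fun z : S2 => (z : M2) 0 0) h4
  have E11 := congrArg (fun z : S2 => (z : M2) 1 1) h4
  simp only [mul_entries, o1, o4] at E00 E11
  have hdet := det_entries g
  have ht4 : ((g : M2) 0 0 + (g : M2) 1 1) ^ 4 = 0 := by
    linear_combination E00 - E11 + ((g : M2) 1 1 ^ 4 + 2 * (g : M2) 0 0 ^ 3 * (g : M2) 1 1 +
      3 * (g : M2) 0 0 ^ 2 * (g : M2) 1 1 ^ 2 + 2 * (g : M2) 0 0 * (g : M2) 1 1 ^ 3 -
      (g : M2) 0 1 * (g : M2) 1 0 * ((g : M2) 0 0 ^ 2 - (g : M2) 1 1 ^ 2)) * h2'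
  have ht : (g : M2) 0 0 + (g : M2) 1 1 = 0 :=
    (pow_eq_zero_iff (by norm_num : (4 : ℕ) ≠ 0)).mp ht4
  apply ext2
  · rw [mul_entries, o1]; linear_combination (g : M2) 0 0 * ht - hdet - h2'
  · rw [mul_entries, o2]; linear_combination (g : M2) 0 1 * ht
  · rw [mul_entries, o3]; linear_combination (g : M2) 1 0 * ht
  · rw [mul_entries, o4]; linear_combination (g : M2) 1 1 * ht - hdet - h2'

theorem negOne_eq_one (h2' : (2 : F) = 0) : (negOne : S2) = 1 := by
  obtain ⟨o1, o2, o3, o4⟩ := one_entries (F := F)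
  apply ext2
  · rw [negOne_00, o1]; linear_combination -h2'
  · rw [negOne_01, o2]
  · rw [negOne_10, o3]
  · rw [negOne_11, o4]; linear_combination -h2'

theorem psl_char2 (h2' : (2 : F) = 0) (y : PS) (h4 : y ^ 4 = 1) : y ^ 2 = 1 := by
  obtain ⟨g, rfl⟩ := pr_surj y
  have e4 : pr (g * g * (g * g)) = pr g ^ 4 := by
    rw [show (4 : ℕ) = 2 + 2 from rfl, pow_add, pow_two, ← pr_mul, ← pr_mul]
  rw [h4, pr_eq_one] at e4
  have h5 : (g * g) * (g * g) = 1 := by
    rcases e4 with h | h
    · exact h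
    · rw [h, negOne_eq_one h2']
  have hgg := char2_sq h2' g h5
  rw [pow_two, ← pr_mul, hgg, pr_eq_one]
  left
  rfl

theorem cent_klein (h2 : (2 : F) ≠ 0) (a b : S2) (hp : IsP (a, b)) (z : PS)
    (h1 : z * pr a * z⁻¹ = pr a) (h3 : z * pr b * z⁻¹ = pr b) :
    z = 1 ∨ z = pr a ∨ z = pr b ∨ z = pr a * pr b := by
  obtain ⟨g, rfl⟩ := pr_surj z
  have hz := Subgroup.mem_center_iff.mp (negOne_center (F := F))
  obtain ⟨ha, hb, hab⟩ := hp
  dsimp only at ha hb hab
  have hba : b * a = negOne * (a * b) := by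
    rw [hab, ← mul_assoc negOne negOne, negOne_sq, one_mul]
  have e1 : a * b * a⁻¹ = negOne * b := by
    rw [hab, mul_assoc, mul_assoc, mul_inv_cancel, mul_one]
  have e2 : b * a * b⁻¹ = negOne * a := by
    rw [hba, mul_assoc, mul_assoc, mul_inv_cancel, mul_one]
  have e3 : (a * b) * a * (a * b)⁻¹ = negOne * a := by
    calc (a * b) * a * (a * b)⁻¹ = a * (b * a * b⁻¹) * a⁻¹ := by group
      _ = negOne * a := by rw [e2, ← mul_assoc a, hz a, mul_inv_cancel_right]
  have e4 : (a * b) * b * (a * b)⁻¹ = negOne * b := by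
    calc (a * b) * b * (a * b)⁻¹ = a * b * a⁻¹ := by group
      _ = negOne * b := e1
  have k1 : pr (g * a * g⁻¹) = pr a := h1
  have k3 : pr (g * b * g⁻¹) = pr b := h3
  rw [pr_eq] at k1 k3
  have fib : ∀ g₀ : S2, (g * a * g⁻¹ = g₀ * a * g₀⁻¹ ∧ g * b * g⁻¹ = g₀ * b * g₀⁻¹) ↔
      (g = g₀ ∨ g = g₀ * negOne) := fun g₀ => cj_fiber h2 (a, b) ⟨ha, hb, hab⟩ g g₀
  rcases k1 with k1 | k1
  · rcases k3 with k3 | k3
    · have h5 := (fib 1).mp ⟨by rw [k1, one_mul, inv_one, mul_one],
        by rw [k3, one_mul, inv_one, mul_one]⟩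
      left
      rw [pr_eq_one]
      rcases h5 with h5 | h5
      · left
        exact h5
      · right
        rw [h5, one_mul]
    · have h5 := (fib a).mp ⟨by rw [k1, mul_inv_cancel_right], by rw [k3, e1]⟩
      right; left
      rw [pr_eq]
      rcases h5 with h5 | h5
      · left
        exact h5
      · right
        rw [h5, hz a]
  · rcases k3 with k3 | k3
    · have h5 := (fib b).mp ⟨by rw [k1, e2], by rw [k3, mul_inv_cancel_right]⟩
      right; right; left
      rw [pr_eq]
      rcases h5 with h5 | h5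
      · left
        exact h5
      · right
        rw [h5, hz b]
    · have h5 := (fib (a * b)).mp ⟨by rw [k1, e3], by rw [k3, e4]⟩
      right; right; right
      rw [← pr_mul, pr_eq]
      rcases h5 with h5 | h5
      · left
        exact h5
      · right
        rw [h5, hz (a * b)]

theorem cj_fiber_card (h2 : (2 : F) ≠ 0) (p : S2 × S2) (hp : IsP p) (g₀ : S2) :
    (Finset.univ.filter (fun g : S2 =>
      (g * p.1 * g⁻¹, g * p.2 * g⁻¹) = (g₀ * p.1 * g₀⁻¹, g₀ * p.2 * g₀⁻¹))).card = 2 := by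
  have hset : Finset.univ.filter (fun g : S2 =>
      (g * p.1 * g⁻¹, g * p.2 * g⁻¹) = (g₀ * p.1 * g₀⁻¹, g₀ * p.2 * g₀⁻¹)) =
      {g₀, g₀ * negOne} := by
    ext g
    rw [Finset.mem_filter, Finset.mem_insert, Finset.mem_singleton, Prod.mk.injEq,
      cj_fiber h2 p hp]
    simp
  rw [hset]
  apply Finset.card_pair
  intro h
  apply one_ne_negOne h2
  have h1 : g₀ * 1 = g₀ * negOne := by
    rw [mul_one]
    exact h
  exact mul_left_cancel h1

theorem mem_norm_iff (a b : S2) (V : Subgroup PS)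
    (hVm : ∀ z : PS, z ∈ V ↔ z = 1 ∨ z = pr a ∨ z = pr b ∨ z = pr a * pr b) (y : PS) :
    y ∈ Subgroup.normalizer (V : Set PS) ↔ (y * pr a * y⁻¹ ∈ V ∧ y * pr b * y⁻¹ ∈ V) := by
  have haV : pr a ∈ V := (hVm _).mpr (Or.inr (Or.inl rfl))
  have hbV : pr b ∈ V := (hVm _).mpr (Or.inr (Or.inr (Or.inl rfl)))
  constructor
  · intro hy
    exact ⟨(Subgroup.mem_normalizer_iff.mp hy _).mp haV,
      (Subgroup.mem_normalizer_iff.mp hy _).mp hbV⟩
  · rintro ⟨h1, h3⟩
    have hle : V.map (MulAut.conj y).toMonoidHom ≤ V := by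
      rintro _ ⟨z, hz, rfl⟩
      show y * z * y⁻¹ ∈ V
      rcases (hVm z).mp hz with h | h | h | h
      · rw [h, mul_one, mul_inv_cancel]
        exact one_mem V
      · rw [h]
        exact h1
      · rw [h]
        exact h3
      · rw [h]
        have e : y * (pr a * pr b) * y⁻¹ = (y * pr a * y⁻¹) * (y * pr b * y⁻¹) := by group
        rw [e]
        exact mul_mem h1 h3
    have hmap : V.map (MulAut.conj y).toMonoidHom = V := by
      apply Subgroup.eq_of_le_of_card_ge hle
      exact (Subgroup.card_map_of_injective (MulAut.conj y).injective).ge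
    rw [Subgroup.mem_normalizer_iff]
    intro x
    constructor
    · intro hx
      have h5 := Subgroup.mem_map_of_mem (MulAut.conj y).toMonoidHom hx
      rw [hmap] at h5
      exact h5
    · intro hx
      rw [← hmap] at hx
      obtain ⟨x', hx', he⟩ := Subgroup.mem_map.mp hx
      have h5 : x' = x := (MulAut.conj y).injective he
      rw [← h5]
      exact hx'

theorem norm_card24 (s : F) (hs : s * s = 2) (h2 : (2 : F) ≠ 0) (a b : S2) (hp : IsP (a, b))
    (V : Subgroup PS)
    (hVm : ∀ z : PS, z ∈ V ↔ z = 1 ∨ z = pr a ∨ z = pr b ∨ z = pr a * pr b)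
    (hcard : Nat.card V = 4) :
    Nat.card (Subgroup.normalizer (V : Set PS)) = 24 := by
  classical
  haveI : Fintype (Matrix.ProjectiveSpecialLinearGroup (Fin 2) F) := Fintype.ofFinite _
  have hN := mem_norm_iff a b V hVm
  have h4 : (Finset.univ.filter (fun x : PS => x ∈ V)).card = 4 := by
    rw [← Fintype.card_subtype, ← Nat.card_eq_fintype_card]
    exact hcard
  have h3c : ((Finset.univ.filter (fun x : PS => x ∈ V)).erase 1).card = 3 := by
    rw [Finset.card_erase_of_mem (Finset.mem_filter.mpr ⟨Finset.mem_univ _, one_mem V⟩), h4]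
  have hPhi : (Finset.univ.filter (fun p : S2 × S2 => (pr p.1, pr p.2) ∈
      ((Finset.univ.filter (fun x : PS => x ∈ V)).erase 1).offDiag)).card = 24 := by
    rw [pair_count h2, Finset.offDiag_card, h3c]
  have hS1 : (Finset.univ.filter (fun g : S2 =>
      pr g ∈ Subgroup.normalizer (V : Set PS))).card =
      2 * (Finset.univ.filter (fun y : PS => y ∈ Subgroup.normalizer (V : Set PS))).card := by
    have hmaps : Set.MapsTo (fun g : S2 => pr g)
        ↑(Finset.univ.filter (fun g : S2 => pr g ∈ Subgroup.normalizer (V : Set PS)))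
        ↑(Finset.univ.filter (fun y : PS => y ∈ Subgroup.normalizer (V : Set PS))) := by
      intro g hg
      rw [Finset.mem_coe, Finset.mem_filter] at hg
      rw [Finset.mem_coe, Finset.mem_filter]
      exact ⟨Finset.mem_univ _, hg.2⟩
    rw [Finset.card_eq_sum_card_fiberwise hmaps, Finset.sum_const_nat (m := 2), mul_comm]
    intro y hy
    rw [Finset.mem_filter] at hy
    have hset : (Finset.univ.filter (fun g : S2 =>
        pr g ∈ Subgroup.normalizer (V : Set PS))).filter (fun g => pr g = y) =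
        Finset.univ.filter (fun g : S2 => pr g = y) := by
      ext g
      rw [Finset.mem_filter, Finset.mem_filter, Finset.mem_filter]
      constructor
      · rintro ⟨_, h⟩
        exact ⟨Finset.mem_univ _, h⟩
      · rintro ⟨_, h⟩
        refine ⟨⟨Finset.mem_univ _, ?_⟩, h⟩
        rw [h]
        exact hy.2
    rw [hset, fiber_card h2]
  have hS2 : (Finset.univ.filter (fun g : S2 =>
      pr g ∈ Subgroup.normalizer (V : Set PS))).card =
      2 * (Finset.univ.filter (fun p : S2 × S2 => (pr p.1, pr p.2) ∈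
      ((Finset.univ.filter (fun x : PS => x ∈ V)).erase 1).offDiag)).card := by
    have hmaps : Set.MapsTo (fun g : S2 => (g * a * g⁻¹, g * b * g⁻¹))
        ↑(Finset.univ.filter (fun g : S2 => pr g ∈ Subgroup.normalizer (V : Set PS)))
        ↑(Finset.univ.filter (fun p : S2 × S2 => (pr p.1, pr p.2) ∈
          ((Finset.univ.filter (fun x : PS => x ∈ V)).erase 1).offDiag)) := by
      intro g hg
      rw [Finset.mem_coe, Finset.mem_filter] at hg
      have hc : CJ (a, b) (g * a * g⁻¹, g * b * g⁻¹) := ⟨g, rfl, rfl⟩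
      obtain ⟨q1, q2, q3⟩ := isP_of_cj hp hc
      dsimp only at q1 q2 q3
      obtain ⟨m1, m2⟩ := (hN (pr g)).mp hg.2
      have m1' : pr (g * a * g⁻¹) ∈ V := m1
      have m2' : pr (g * b * g⁻¹) ∈ V := m2
      simp only [Finset.mem_coe, Finset.mem_filter, Finset.mem_offDiag, Finset.mem_erase,
        Finset.mem_univ, true_and]
      exact ⟨⟨pr_ne_one h2 _ q1, m1'⟩, ⟨pr_ne_one h2 _ q2, m2'⟩, pr_ne_of_anti h2 _ _ q3⟩
    rw [Finset.card_eq_sum_card_fiberwise hmaps, Finset.sum_const_nat (m := 2), mul_comm]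
    rintro ⟨φ1, φ2⟩ hφ
    simp only [Finset.mem_filter, Finset.mem_offDiag, Finset.mem_erase, Finset.mem_univ,
      true_and] at hφ
    obtain ⟨⟨n1, m1⟩, ⟨n2, m2⟩, n3⟩ := hφ
    have hx' : pr φ1 = pr a ∨ pr φ1 = pr b ∨ pr φ1 = pr a * pr b := by
      rcases (hVm _).mp m1 with h | h | h | h
      · exact absurd h n1
      · left
        exact h
      · right; left
        exact h
      · right; right
        exact h
    have hy' : pr φ2 = pr a ∨ pr φ2 = pr b ∨ pr φ2 = pr a * pr b := by
      rcases (hVm _).mp m2 with h | h | h | h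
      · exact absurd h n2
      · left
        exact h
      · right; left
        exact h
      · right; right
        exact h
    obtain ⟨g₀, e1, e2⟩ := fiber_cj s hs h2 a b φ1 φ2 hp hx' hy' n3
    dsimp only at e1 e2
    subst e1 e2
    have hset : (Finset.univ.filter (fun g : S2 =>
        pr g ∈ Subgroup.normalizer (V : Set PS))).filter
        (fun g => (g * a * g⁻¹, g * b * g⁻¹) = (g₀ * a * g₀⁻¹, g₀ * b * g₀⁻¹)) =
        Finset.univ.filter (fun g : S2 =>
          (g * a * g⁻¹, g * b * g⁻¹) = (g₀ * a * g₀⁻¹, g₀ * b * g₀⁻¹)) := by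
      ext g
      rw [Finset.mem_filter, Finset.mem_filter, Finset.mem_filter]
      constructor
      · rintro ⟨_, h⟩
        exact ⟨Finset.mem_univ _, h⟩
      · rintro ⟨_, h⟩
        refine ⟨⟨Finset.mem_univ _, ?_⟩, h⟩
        rw [hN]
        rw [Prod.mk.injEq] at h
        have k1 : pr g * pr a * (pr g)⁻¹ = pr (g₀ * a * g₀⁻¹) := by
          rw [← h.1]
          rfl
        have k2 : pr g * pr b * (pr g)⁻¹ = pr (g₀ * b * g₀⁻¹) := by
          rw [← h.2]
          rfl
        rw [k1, k2]
        exact ⟨m1, m2⟩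
    rw [hset]
    exact cj_fiber_card h2 (a, b) hp g₀
  rw [Nat.card_eq_fintype_card, Fintype.card_subtype]
  omega

theorem exists_s4 (hodd : Odd (Fintype.card F))
    (hq : Fintype.card F % 8 = 1 ∨ Fintype.card F % 8 = 7) :
    ∃ H : Subgroup PS, Nonempty (H ≃* Equiv.Perm (Fin 4)) := by
  have h2 : (2 : F) ≠ 0 := two_ne_of_odd hodd
  have hsq : IsSquare (2 : F) := FiniteField.isSquare_two_iff.mpr (by omega)
  obtain ⟨s, hs⟩ := hsq
  have hs' : s * s = 2 := hs.symm
  have hpos : 0 < (pset (F := F)).card := by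
    rw [pset_card h2]
    exact Fintype.card_pos
  obtain ⟨⟨a, b⟩, hpm⟩ := Finset.card_pos.mp hpos
  have hp : IsP (a, b) := (mem_pset _).mp hpm
  obtain ⟨ha, hb, hab⟩ := hp
  dsimp only at ha hb hab
  have hp : IsP (a, b) := ⟨ha, hb, hab⟩
  have hx : pr a * pr a = 1 := by
    rw [← pr_mul, ha, pr_eq_one]
    right
    rfl
  have hy : pr b * pr b = 1 := by
    rw [← pr_mul, hb, pr_eq_one]
    right
    rfl
  have hxy : pr a * pr b = pr b * pr a := by
    rw [← pr_mul, ← pr_mul, pr_eq]
    right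
    exact hab
  have hx1 := pr_ne_one h2 a ha
  have hy1 := pr_ne_one h2 b hb
  have hne := pr_ne_of_anti h2 a b hab
  have hVm : ∀ z : PS, z ∈ kl (pr a) (pr b) hx hy hxy ↔
      z = 1 ∨ z = pr a ∨ z = pr b ∨ z = pr a * pr b := fun z => mem_kl _ _ hx hy hxy z
  have hcard : Nat.card (kl (pr a) (pr b) hx hy hxy) = 4 :=
    (kl_klein _ _ hx hy hxy hx1 hy1 hne).card_four
  have h24 := norm_card24 s hs' h2 a b hp _ hVm hcard
  refine ⟨Subgroup.normalizer ((kl (pr a) (pr b) hx hy hxy : Subgroup PS) : Set PS), ?_⟩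
  apply Cfsg.Agent.S1012.result h24
  intro y
  rw [← Subgroup.orderOf_coe]
  have hyN := (mem_norm_iff a b _ hVm (y : PS)).mp y.2
  have hA : (y : PS) * pr a * (y : PS)⁻¹ = pr a ∨ (y : PS) * pr a * (y : PS)⁻¹ = pr b ∨
      (y : PS) * pr a * (y : PS)⁻¹ = pr a * pr b := by
    rcases (hVm _).mp hyN.1 with h | h | h | h
    · exfalso
      apply hx1
      have e : pr a = (y : PS)⁻¹ * ((y : PS) * pr a * (y : PS)⁻¹) * (y : PS) := by group
      rw [e, h]
      group
    · left
      exact h
    · right; left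
      exact h
    · right; right
      exact h
  have hB : (y : PS) * pr b * (y : PS)⁻¹ = pr a ∨ (y : PS) * pr b * (y : PS)⁻¹ = pr b ∨
      (y : PS) * pr b * (y : PS)⁻¹ = pr a * pr b := by
    rcases (hVm _).mp hyN.2 with h | h | h | h
    · exfalso
      apply hy1
      have e : pr b = (y : PS)⁻¹ * ((y : PS) * pr b * (y : PS)⁻¹) * (y : PS) := by group
      rw [e, h]
      group
    · left
      exact h
    · right; left
      exact h
    · right; right
      exact h
  exact no6 (pr a) (pr b) (y : PS) hx hy hxy hx1 hy1 hne (cent_klein h2 a b hp) hA hB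

end Fin

end Main

theorem s4_imp {F : Type u} [Field F] [Fintype F]
    (H : Subgroup (Matrix.ProjectiveSpecialLinearGroup (Fin 2) F))
    (e : H ≃* Equiv.Perm (Fin 4)) : Fintype.card F % 8 = 1 ∨ Fintype.card F % 8 = 7 := by
  classical
  haveI : Fintype (Matrix.SpecialLinearGroup (Fin 2) F) := Fintype.ofFinite _
  have hc : Nat.card H = 24 := by
    rw [Nat.card_congr e.toEquiv, Nat.card_eq_fintype_card, Fintype.card_perm, Fintype.card_fin]
    rfl
  have hdvd : 24 ∣ Nat.card (Matrix.ProjectiveSpecialLinearGroup (Fin 2) F) := by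
    rw [← hc]
    exact Subgroup.card_subgroup_dvd_card H
  by_cases hev : Fintype.card F % 2 = 0
  · exfalso
    have hchar : ringChar F = 2 := FiniteField.even_card_iff_char_two.mpr hev
    haveI := ringChar.of_eq hchar
    have h2' : (2 : F) = 0 := by
      have h := CharP.cast_eq_zero F 2
      exact_mod_cast h
    have hσ4 : (finRotate 4) ^ 4 = (1 : Equiv.Perm (Fin 4)) := by decide
    have hσ2 : (finRotate 4) ^ 2 ≠ (1 : Equiv.Perm (Fin 4)) := by decide
    have h5 : (e.symm (finRotate 4)) ^ 4 = (1 : H) := by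
      rw [← map_pow, hσ4, map_one]
    have h4 : ((e.symm (finRotate 4) : H) :
        Matrix.ProjectiveSpecialLinearGroup (Fin 2) F) ^ 4 = 1 := by
      rw [← Subgroup.coe_pow, h5, Subgroup.coe_one]
    have h2 := Lib_helper8_PSL2S4.psl_char2 h2' _ h4
    apply hσ2
    apply e.symm.injective
    apply Subtype.ext
    rw [map_pow, map_one, Subgroup.coe_pow, Subgroup.coe_one]
    exact h2
  · by_contra hno
    have h8 : Fintype.card F % 8 = 3 ∨ Fintype.card F % 8 = 5 := by omega
    apply not8 h8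
    exact Dvd.dvd.trans (by norm_num) hdvd

/-- `PSL_2(q)` has a subgroup isomorphic to `S_4` iff `q^2 ≡ 1 (mod 16)`. -/
theorem s4_final {F : Type u} [Field F] [Fintype F] :
    (∃ H : Subgroup (Matrix.ProjectiveSpecialLinearGroup (Fin 2) F),
      Nonempty (H ≃* Equiv.Perm (Fin 4))) ↔ Fintype.card F ^ 2 % 16 = 1 := by
  classical
  haveI : Fintype (Matrix.SpecialLinearGroup (Fin 2) F) := Fintype.ofFinite _
  have key : ∀ r : ℕ, r < 16 → (r ^ 2 % 16 = 1 ↔ (r % 8 = 1 ∨ r % 8 = 7)) := by decide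
  have hmod : Fintype.card F ^ 2 % 16 = 1 ↔
      (Fintype.card F % 8 = 1 ∨ Fintype.card F % 8 = 7) := by
    have h := key (Fintype.card F % 16) (Nat.mod_lt _ (by norm_num))
    rw [← Nat.pow_mod, Nat.mod_mod_of_dvd _ (by norm_num : 8 ∣ 16)] at h
    exact h
  rw [hmod]
  constructor
  · rintro ⟨H, ⟨e⟩⟩
    exact s4_imp H e
  · intro hq
    exact exists_s4 (Nat.odd_iff.mpr (by omega)) hq

end Cfsg.Agent.Lib_helper8_PSL2S4
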