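import Mathlib

set_option autoImplicit false

namespace Cfsg.Agent.Lib_helper9_AffPrim

theorem mem_sup_of_le_normalizer {G : Type*} [Group G] (L H : Subgroup G)
    (hn : H ≤ Subgroup.normalizer (L : Set G)) (g : G) (hg : g ∈ L ⊔ H) :
    ∃ l ∈ L, ∃ h ∈ H, g = l * h := by
  let T : Subgroup G :=
    { carrier := {g | ∃ l ∈ L, ∃ h ∈ H, g = l * h}
      one_mem' := ⟨1, L.one_mem, 1, H.one_mem, (mul_one 1).symm⟩
      mul_mem' := by
        rintro _ _ ⟨l₁, hl₁, h₁, hh₁, rfl⟩ ⟨l₂, hl₂, h₂, hh₂, rfl⟩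
        refine ⟨l₁ * (h₁ * l₂ * h₁⁻¹),
          L.mul_mem hl₁ ((Subgroup.mem_normalizer_iff.mp (hn hh₁) l₂).mp hl₂), h₁ * h₂,
          H.mul_mem hh₁ hh₂, by group⟩
      inv_mem' := by
        rintro _ ⟨l, hl, h, hh, rfl⟩
        refine ⟨h⁻¹ * l⁻¹ * h⁻¹⁻¹,
          (Subgroup.mem_normalizer_iff.mp (hn (H.inv_mem hh)) l⁻¹).mp (L.inv_mem hl), h⁻¹,
          H.inv_mem hh, by group⟩ }
  have hle : L ⊔ H ≤ T :=
    sup_le (fun l hl => ⟨l, hl, 1, H.one_mem, (mul_one l).symm⟩)
      (fun h hh => ⟨1, L.one_mem, h, hh, (one_mul h).symm⟩)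
  exact hle hg

theorem s3495 {G : Type*} [Group G] [Finite G] {Ω : Type*} [Fintype Ω] [MulAction G Ω]
    [FaithfulSMul G Ω]
    (hprim : MulAction.IsPreprimitive G Ω) (hH : ∀ α : Ω, MulAction.stabilizer G α ≠ ⊥)
    (hep : ∀ (α : Ω) (ω : Ω), MulAction.IsPreprimitive (MulAction.stabilizer G α)
      (MulAction.orbit (MulAction.stabilizer G α) ω))
    (N : Subgroup G) [hNn : N.Normal]
    (hNtr : MulAction.IsPretransitive N Ω) (hNreg : ∀ ω : Ω, MulAction.stabilizer N ω = ⊥) (α : Ω)
    (M : Subgroup G) (hM : M ≠ ⊥) (hMle : M ≤ MulAction.stabilizer G α)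
    (hMn : MulAction.stabilizer G α ≤ Subgroup.normalizer (M : Set G)) :
    (∀ ω : Ω, MulAction.orbit M ω = MulAction.orbit (MulAction.stabilizer G α) ω) ∧
    (∀ L : Subgroup G, L ≤ N → M ≤ Subgroup.normalizer (L : Set G) → L = ⊥ ∨ L = N) := by
  haveI : Nontrivial Ω := by
    by_contra hnt
    rw [not_nontrivial_iff_subsingleton] at hnt
    apply hH α
    rw [eq_bot_iff]
    intro g _
    rw [Subgroup.mem_bot]
    apply FaithfulSMul.eq_of_smul_eq_smul (α := Ω)
    intro ω
    exact Subsingleton.elim _ _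
  have hco : IsCoatom (MulAction.stabilizer G α) :=
    MulAction.IsPreprimitive.isCoatom_stabilizer_of_isPreprimitive G α
  have hreg : ∀ n ∈ N, ∀ ω : Ω, n • ω = ω → n = 1 := by
    intro n hn ω h
    have : (⟨n, hn⟩ : N) ∈ MulAction.stabilizer N ω := h
    rw [hNreg ω, Subgroup.mem_bot] at this
    exact congrArg Subtype.val this
  have htrans : ∀ ω : Ω, ∃ n ∈ N, n • α = ω := by
    intro ω
    obtain ⟨n, hn⟩ := MulAction.exists_smul_eq N α ω
    exact ⟨n, n.2, hn⟩
  have step1 : ∀ L : Subgroup G, L ≤ N →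
      MulAction.stabilizer G α ≤ Subgroup.normalizer (L : Set G) → L = ⊥ ∨ L = N := by
    intro L hLN hLn
    have hle : MulAction.stabilizer G α ≤ L ⊔ MulAction.stabilizer G α := le_sup_right
    rcases eq_or_lt_of_le hle with heq | hlt
    · left
      rw [eq_bot_iff]
      intro l hl
      have h1 : l ∈ L ⊔ MulAction.stabilizer G α := Subgroup.mem_sup_left hl
      rw [← heq] at h1
      exact Subgroup.mem_bot.mpr (hreg l (hLN hl) α h1)
    · right
      have htop : L ⊔ MulAction.stabilizer G α = ⊤ := hco.2 _ hlt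
      apply le_antisymm hLN
      intro n hn
      obtain ⟨l, hl, h, hh, rfl⟩ := mem_sup_of_le_normalizer L _ hLn n
        (by rw [htop]; exact Subgroup.mem_top n)
      have hhN : h ∈ N := by
        have : h = l⁻¹ * (l * h) := by group
        rw [this]; exact N.mul_mem (N.inv_mem (hLN hl)) hn
      have : h = 1 := hreg h hhN α hh
      rw [this, mul_one]; exact hl
  have hC : N ⊓ Subgroup.centralizer (M : Set G) = ⊥ := by
    have hCn : MulAction.stabilizer G α ≤
        Subgroup.normalizer ((N ⊓ Subgroup.centralizer (M : Set G) : Subgroup G) : Set G) := by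
      intro h hh
      rw [Subgroup.mem_normalizer_iff]
      intro n
      have hMh : ∀ m, m ∈ M ↔ h * m * h⁻¹ ∈ M := Subgroup.mem_normalizer_iff.mp (hMn hh)
      constructor
      · intro hn0
        have hnN : n ∈ N := (Subgroup.mem_inf.mp hn0).1
        have hnC : n ∈ Subgroup.centralizer (M : Set G) := (Subgroup.mem_inf.mp hn0).2
        refine Subgroup.mem_inf.mpr ⟨hNn.conj_mem n hnN h, ?_⟩
        rw [Subgroup.mem_centralizer_iff] at hnC ⊢
        intro m hm
        have hm' : h⁻¹ * m * h ∈ M := by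
          apply (hMh (h⁻¹ * m * h)).mpr
          have : h * (h⁻¹ * m * h) * h⁻¹ = m := by group
          rw [this]; exact hm
        have := hnC _ hm'
        calc m * (h * n * h⁻¹) = h * ((h⁻¹ * m * h) * n) * h⁻¹ := by group
          _ = h * (n * (h⁻¹ * m * h)) * h⁻¹ := by rw [this]
          _ = h * n * h⁻¹ * m := by group
      · intro hn0
        have hnN : h * n * h⁻¹ ∈ N := (Subgroup.mem_inf.mp hn0).1
        have hnC : h * n * h⁻¹ ∈ Subgroup.centralizer (M : Set G) := (Subgroup.mem_inf.mp hn0).2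
        refine Subgroup.mem_inf.mpr ⟨?_, ?_⟩
        · have := hNn.conj_mem _ hnN h⁻¹
          have e : h⁻¹ * (h * n * h⁻¹) * h⁻¹⁻¹ = n := by group
          rwa [e] at this
        · rw [Subgroup.mem_centralizer_iff] at hnC ⊢
          intro m hm
          have hm' : h * m * h⁻¹ ∈ M := (hMh m).mp hm
          have := hnC _ hm'
          have e1 : m * n = h⁻¹ * ((h * m * h⁻¹) * (h * n * h⁻¹)) * h := by group
          have e2 : n * m = h⁻¹ * ((h * n * h⁻¹) * (h * m * h⁻¹)) * h := by group
          rw [e1, e2, this]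
    rcases step1 _ inf_le_left hCn with h | h
    · exact h
    · exfalso
      apply hM
      rw [eq_bot_iff]
      intro m hm
      rw [Subgroup.mem_bot]
      apply FaithfulSMul.eq_of_smul_eq_smul (α := Ω)
      intro ω
      obtain ⟨n, hn, rfl⟩ := htrans ω
      have hnC : n ∈ Subgroup.centralizer (M : Set G) := by
        have : n ∈ N ⊓ Subgroup.centralizer (M : Set G) := by rw [h]; exact hn
        exact (Subgroup.mem_inf.mp this).2
      rw [Subgroup.mem_centralizer_iff] at hnC
      rw [one_smul, ← mul_smul, hnC m hm, mul_smul]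
      congr 1
      exact hMle hm
  have step3 : ∀ ω : Ω, (∀ m ∈ M, m • ω = ω) → ω = α := by
    intro ω hω
    obtain ⟨n, hn, rfl⟩ := htrans ω
    have hnC : n ∈ N ⊓ Subgroup.centralizer (M : Set G) := by
      refine Subgroup.mem_inf.mpr ⟨hn, ?_⟩
      rw [Subgroup.mem_centralizer_iff]
      intro m hm
      have h1 : (n⁻¹ * (m * n * m⁻¹)) • α = α := by
        have hmα : m • α = α := hMle hm
        have hmα' : m⁻¹ • α = α := by rw [inv_smul_eq_iff, hmα]
        rw [mul_smul, mul_smul, mul_smul, hmα', hω m hm, inv_smul_smul]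
      have h2 := hreg _ (N.mul_mem (N.inv_mem hn) (hNn.conj_mem n hn m)) α h1
      have h3 : m * n * m⁻¹ = n := by
        calc m * n * m⁻¹ = n * (n⁻¹ * (m * n * m⁻¹)) := by group
          _ = n := by rw [h2, mul_one]
      calc m * n = (m * n * m⁻¹) * m := by group
        _ = n * m := by rw [h3]
    rw [hC, Subgroup.mem_bot] at hnC
    rw [hnC, one_smul]
  have horb : ∀ ω : Ω, MulAction.orbit M ω = MulAction.orbit (MulAction.stabilizer G α) ω := by
    intro ω
    apply Set.Subset.antisymm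
    · rintro _ ⟨m, rfl⟩
      exact ⟨⟨m, hMle m.2⟩, rfl⟩
    · by_cases hωα : ω = α
      · rintro _ ⟨h, rfl⟩
        have h1 : (h : G) • α = α := h.2
        refine ⟨1, ?_⟩
        show (1 : M) • ω = (h : G) • ω
        rw [one_smul, hωα, h1]
      · have hnotfix : ¬ ∀ m ∈ M, m • ω = ω := fun h => hωα (step3 ω h)
        push Not at hnotfix
        obtain ⟨m₀, hm₀, hm₀ω⟩ := hnotfix
        haveI := hep α ω
        haveI hnorm : (M.subgroupOf (MulAction.stabilizer G α)).Normal :=
          (Subgroup.normal_subgroupOf_iff_le_normalizer hMle).mpr hMn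
        have hne : MulAction.fixedPoints (M.subgroupOf (MulAction.stabilizer G α))
            (MulAction.orbit (MulAction.stabilizer G α) ω) ≠ Set.univ := by
          intro huniv
          have hmem : (⟨ω, MulAction.mem_orbit_self ω⟩ :
              MulAction.orbit (MulAction.stabilizer G α) ω) ∈
              MulAction.fixedPoints (M.subgroupOf (MulAction.stabilizer G α))
                (MulAction.orbit (MulAction.stabilizer G α) ω) := by
            rw [huniv]; exact Set.mem_univ _
          have := hmem ⟨⟨m₀, hMle hm₀⟩, hm₀⟩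
          exact hm₀ω (congrArg Subtype.val this)
        have htr' := MulAction.IsQuasiPreprimitive.isPretransitive_of_normal
          (G := MulAction.stabilizer G α) (X := MulAction.orbit (MulAction.stabilizer G α) ω) hne
        rintro _ ⟨h, rfl⟩
        obtain ⟨m, hm⟩ := htr'.exists_smul_eq ⟨ω, MulAction.mem_orbit_self ω⟩
          ⟨h • ω, MulAction.mem_orbit _ h⟩
        refine ⟨⟨((m : MulAction.stabilizer G α) : G), m.2⟩, ?_⟩
        exact congrArg Subtype.val hm
  refine ⟨horb, ?_⟩
  intro L hLN hML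
  apply step1 L hLN
  have hfwd : ∀ h ∈ MulAction.stabilizer G α, ∀ l ∈ L, h * l * h⁻¹ ∈ L := by
    intro h hh l hl
    have hmem : h • l • α ∈ MulAction.orbit (MulAction.stabilizer G α) (l • α) :=
      ⟨⟨h, hh⟩, rfl⟩
    rw [← horb] at hmem
    obtain ⟨m, hm⟩ := hmem
    have hm' : (m : G) • l • α = h • l • α := hm
    have hmL : (m : G) * l * (m : G)⁻¹ ∈ L := (Subgroup.mem_normalizer_iff.mp (hML m.2) l).mp hl
    have hmα : (m : G) • α = α := hMle m.2
    have hhα : h • α = α := hh
    have e : ((h * l * h⁻¹)⁻¹ * ((m : G) * l * (m : G)⁻¹)) • α = α := by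
      have h1 : ((m : G) * l * (m : G)⁻¹) • α = h • l • α := by
        rw [mul_smul, mul_smul, inv_smul_eq_iff.mpr hmα.symm]; exact hm'
      have h2 : (h * l * h⁻¹) • α = h • l • α := by
        rw [mul_smul, mul_smul, inv_smul_eq_iff.mpr hhα.symm]
      rw [mul_smul, h1, ← h2, inv_smul_smul]
    have hN1 : h * l * h⁻¹ ∈ N := hNn.conj_mem l (hLN hl) h
    have hN2 : (m : G) * l * (m : G)⁻¹ ∈ N := hLN hmL
    have h3 := hreg _ (N.mul_mem (N.inv_mem hN1) hN2) α e
    have e2 : h * l * h⁻¹ = (m : G) * l * (m : G)⁻¹ := by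
      rw [inv_mul_eq_one] at h3; exact h3
    rw [e2]; exact hmL
  intro h hh
  rw [Subgroup.mem_normalizer_iff]
  intro x
  constructor
  · exact hfwd h hh x
  · intro hx
    have := hfwd h⁻¹ (Subgroup.inv_mem _ hh) _ hx
    have e : h⁻¹ * (h * x * h⁻¹) * h⁻¹⁻¹ = x := by group
    rwa [e] at this

end Cfsg.Agent.Lib_helper9_AffPrim
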