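import Mathlib
import Cfsg.Prelude.Def_Solvable
import Cfsg.Agent.Lib_helper9_Derangement
import Cfsg.Agent.Lib_helper9_Frob

namespace Cfsg.Agent.Lib_helper9_DerInv

open MulAction
open scoped Pointwise

variable {G Ω : Type*} [Group G] [MulAction G Ω]

theorem card_fixed_pairs {X : Type*} [MulAction G X] [Fintype G] [Finite X] :
    Nat.card {p : G × X // p.1 • p.2 = p.2} = ∑ g : G, Nat.card (fixedBy X g) := by
  rw [← Nat.card_sigma]
  exact Nat.card_congr
    { toFun := fun p => ⟨p.1.1, ⟨p.1.2, p.2⟩⟩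
      invFun := fun s => ⟨(s.1, s.2.1), s.2.2⟩
      left_inv := fun _ => rfl
      right_inv := fun _ => rfl }

theorem count_b [Fintype G] [Finite Ω] (hinv : ∀ d : G, (∀ ω : Ω, d • ω ≠ ω) → d * d = 1) :
    Nat.card {d : G // ∀ ω : Ω, d • ω ≠ ω} * Nat.card Ω + ∑ g : G, Nat.card (fixedBy Ω g) ≤
      ∑ g : G, Nat.card (fixedBy Ω g) * Nat.card (fixedBy Ω g) := by
  classical
  let d₀ : Ω → Ω → G := fun α β =>
    if h : ∃ d : G, (∀ ω : Ω, d • ω ≠ ω) ∧ d • α = β then h.choose else 1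
  have hd₀ : ∀ (d : G) (hd : ∀ ω : Ω, d • ω ≠ ω) (ω : Ω),
      (∀ ω' : Ω, d₀ ω (d • ω) • ω' ≠ ω') ∧ d₀ ω (d • ω) • ω = d • ω := by
    intro d hd ω
    have h : ∃ d' : G, (∀ ω' : Ω, d' • ω' ≠ ω') ∧ d' • ω = d • ω := ⟨d, hd, rfl⟩
    simp only [d₀, dif_pos h]
    exact h.choose_spec
  have key1 : ∀ (d : G) (hd : ∀ ω : Ω, d • ω ≠ ω) (ω : Ω),
      ((d₀ ω (d • ω))⁻¹ * d) • ((ω, d • ω) : Ω × Ω) = (ω, d • ω) := by
    intro d hd ω
    obtain ⟨h1, h2⟩ := hd₀ d hd ω
    have he := hinv _ h1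
    have hdd := hinv d hd
    generalize d₀ ω (d • ω) = e at h1 h2 he
    apply Prod.ext
    · show (e⁻¹ * d) • ω = ω
      rw [mul_smul, inv_smul_eq_iff]; exact h2.symm
    · show (e⁻¹ * d) • (d • ω) = d • ω
      rw [mul_smul, ← mul_smul d d, hdd, one_smul, inv_smul_eq_iff, ← h2, ← mul_smul, he,
        one_smul]
  let φ₁ : {d : G // ∀ ω : Ω, d • ω ≠ ω} × Ω → {p : G × (Ω × Ω) // p.1 • p.2 = p.2} :=
    fun p => ⟨((d₀ p.2 (p.1.1 • p.2))⁻¹ * p.1.1, (p.2, p.1.1 • p.2)), key1 p.1.1 p.1.2 p.2⟩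
  let φ₂ : {p : G × Ω // p.1 • p.2 = p.2} → {p : G × (Ω × Ω) // p.1 • p.2 = p.2} :=
    fun p => ⟨(p.1.1, (p.1.2, p.1.2)), Prod.ext p.2 p.2⟩
  have hφ₁ : Function.Injective φ₁ := by
    rintro ⟨⟨d, hd⟩, ω⟩ ⟨⟨d', hd'⟩, ω'⟩ h
    have h1 := congrArg Subtype.val h
    simp only [φ₁, Prod.mk.injEq] at h1
    obtain ⟨h2, h3, h4⟩ := h1
    subst h3
    rw [h4] at h2
    have h5 := mul_left_cancel h2
    subst h5
    rfl
  have hφ₂ : Function.Injective φ₂ := by
    rintro ⟨⟨g, α⟩, h⟩ ⟨⟨g', α'⟩, h'⟩ heq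
    have h1 := congrArg Subtype.val heq
    simp only [φ₂, Prod.mk.injEq] at h1
    obtain ⟨rfl, rfl, -⟩ := h1
    rfl
  have hne : ∀ a b, φ₁ a ≠ φ₂ b := by
    rintro ⟨⟨d, hd⟩, ω⟩ ⟨⟨g, α⟩, h⟩ heq
    have h1 := congrArg Subtype.val heq
    simp only [φ₁, φ₂, Prod.mk.injEq] at h1
    obtain ⟨-, h3, h4⟩ := h1
    exact hd ω (h4.trans h3.symm)
  have hcard := Nat.card_le_card_of_injective (Sum.elim φ₁ φ₂)
    (Function.Injective.sumElim hφ₁ hφ₂ hne)
  rw [Nat.card_sum, Nat.card_prod, card_fixed_pairs, card_fixed_pairs] at hcard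
  simp only [Cfsg.Agent.Lib_helper9_Derangement.card_fixedBy_prod] at hcard
  exact hcard

theorem fix_le_one [Finite G] [Finite Ω] [FaithfulSMul G Ω]
    (htrans : IsPretransitive G Ω)
    (hinv : ∀ d : G, (∀ ω : Ω, d • ω ≠ ω) → d * d = 1) :
    ∀ g : G, g ≠ 1 → ∀ α β : Ω, g • α = α → g • β = β → α = β := by
  classical
  intro g hg α β hα hβ
  have : Fintype G := Fintype.ofFinite G
  have ha : ∑ g : G, Nat.card (fixedBy Ω g) = Nat.card G := by
    have hB := Cfsg.Agent.Lib_helper9_Derangement.burnside_nat (H := G) (X := Ω)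
    have hq : Nat.card (Quotient (orbitRel G Ω)) = 1 := by
      rw [Nat.card_eq_one_iff_unique]
      exact ⟨(pretransitive_iff_subsingleton_quotient G Ω).mp htrans, ⟨Quotient.mk'' α⟩⟩
    rw [hq, one_mul] at hB
    exact hB
  have hb := count_b (G := G) (Ω := Ω) hinv
  have hfle : ∀ x : G, Nat.card (fixedBy Ω x) ≤ Nat.card Ω :=
    fun x => Finite.card_subtype_le _
  have hpt : ∀ x : G, Nat.card (fixedBy Ω x) * Nat.card (fixedBy Ω x) + Nat.card Ω ≤
      (if (∀ ω : Ω, x • ω ≠ ω) then Nat.card Ω else 0) +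
        (Nat.card Ω + 1) * Nat.card (fixedBy Ω x) := by
    intro x
    by_cases hx : ∀ ω : Ω, x • ω ≠ ω
    · have h0 : Nat.card (fixedBy Ω x) = 0 := by
        have : IsEmpty (fixedBy Ω x) := ⟨fun ⟨ω, hω⟩ => hx ω hω⟩
        exact Nat.card_of_isEmpty
      rw [if_pos hx, h0]
      simp
    · rw [if_neg hx]
      push Not at hx
      obtain ⟨ω, hω⟩ := hx
      have h1 : 1 ≤ Nat.card (fixedBy Ω x) := by
        have : Nonempty (fixedBy Ω x) := ⟨⟨ω, hω⟩⟩
        exact Nat.card_pos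
      have h2 := hfle x
      generalize Nat.card (fixedBy Ω x) = f at h1 h2
      generalize Nat.card Ω = n at h2
      obtain ⟨a, rfl⟩ : ∃ a, f = a + 1 := ⟨f - 1, by omega⟩
      obtain ⟨b, rfl⟩ : ∃ b, n = a + 1 + b := ⟨n - (a + 1), by omega⟩
      nlinarith [Nat.zero_le (a * b)]
  have h1 : ∑ x : G, (if (∀ ω : Ω, x • ω ≠ ω) then Nat.card Ω else 0) =
      Nat.card {d : G // ∀ ω : Ω, d • ω ≠ ω} * Nat.card Ω := by
    rw [← Finset.sum_filter, Finset.sum_const, smul_eq_mul,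
      Nat.card_eq_fintype_card (α := {d : G // ∀ ω : Ω, d • ω ≠ ω}), Fintype.card_subtype]
  have h2 : ∑ _x : G, Nat.card Ω = Nat.card G * Nat.card Ω := by
    rw [Finset.sum_const, Finset.card_univ, smul_eq_mul, Nat.card_eq_fintype_card (α := G)]
  have h3 : ∑ x : G, (Nat.card Ω + 1) * Nat.card (fixedBy Ω x) =
      (Nat.card Ω + 1) * Nat.card G := by
    rw [← Finset.mul_sum, ha]
  rw [ha] at hb
  have hsum_eq : ∑ x : G, (Nat.card (fixedBy Ω x) * Nat.card (fixedBy Ω x) + Nat.card Ω) =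
      ∑ x : G, ((if (∀ ω : Ω, x • ω ≠ ω) then Nat.card Ω else 0) +
        (Nat.card Ω + 1) * Nat.card (fixedBy Ω x)) := by
    apply le_antisymm (Finset.sum_le_sum (fun x _ => hpt x))
    rw [Finset.sum_add_distrib, Finset.sum_add_distrib, h1, h2, h3]
    nlinarith
  have hpt_eq := (Finset.sum_eq_sum_iff_of_le (fun x _ => hpt x)).mp hsum_eq g
    (Finset.mem_univ g)
  have hgD : ¬ ∀ ω : Ω, g • ω ≠ ω := fun h => h α hα
  rw [if_neg hgD, zero_add] at hpt_eq
  have h1f : 1 ≤ Nat.card (fixedBy Ω g) := by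
    have : Nonempty (fixedBy Ω g) := ⟨⟨α, hα⟩⟩
    exact Nat.card_pos
  have hfn := hfle g
  have hcases : Nat.card (fixedBy Ω g) = 1 ∨ Nat.card (fixedBy Ω g) = Nat.card Ω := by
    generalize Nat.card (fixedBy Ω g) = f at hpt_eq h1f hfn
    generalize Nat.card Ω = n at hpt_eq hfn
    by_contra hc
    push Not at hc
    obtain ⟨a, rfl⟩ : ∃ a, f = a + 2 := ⟨f - 2, by omega⟩
    obtain ⟨b, rfl⟩ : ∃ b, n = a + 2 + b + 1 := ⟨n - (a + 2) - 1, by omega⟩
    nlinarith [Nat.zero_le (a * b)]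
  rcases hcases with h1c | hnc
  · rw [Nat.card_eq_one_iff_unique] at h1c
    have h4 := h1c.1.elim (⟨α, hα⟩ : fixedBy Ω g) ⟨β, hβ⟩
    exact congrArg Subtype.val h4
  · exfalso
    apply hg
    have huniv : fixedBy Ω g = Set.univ := by
      rw [Set.eq_univ_iff_ncard, ← Nat.card_coe_set_eq]
      exact hnc
    apply FaithfulSMul.eq_of_smul_eq_smul (α := Ω)
    intro ω
    rw [one_smul]
    have h5 : ω ∈ fixedBy Ω g := by rw [huniv]; exact Set.mem_univ ω
    exact h5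

theorem main [Finite G] [Finite Ω] [FaithfulSMul G Ω]
    (htrans : IsPretransitive G Ω)
    (hinv : ∀ g : G, (∀ ω : Ω, g • ω ≠ ω) → orderOf g = 2) :
    (IsMulCommutative G ∧ ∀ g : G, g ^ 2 = 1) ∨
    (∃ H : Subgroup G, Cfsg.IsFrobeniusComplement H ∧
      (∀ x ∈ Cfsg.frobeniusKernel H, x ^ 2 = 1) ∧
      ∀ x ∈ Cfsg.frobeniusKernel H, ∀ y ∈ Cfsg.frobeniusKernel H, x * y = y * x) := by
  have hinv' : ∀ d : G, (∀ ω : Ω, d • ω ≠ ω) → d * d = 1 := by
    intro d hd
    have h := pow_orderOf_eq_one d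
    rw [hinv d hd, sq] at h
    exact h
  have hfix := fix_le_one htrans hinv'
  by_cases hreg : ∀ g : G, g ≠ 1 → ∀ ω : Ω, g • ω ≠ ω
  · left
    have hsq : ∀ g : G, g * g = 1 := by
      intro g
      by_cases hg : g = 1
      · rw [hg, one_mul]
      · exact hinv' g (hreg g hg)
    refine ⟨⟨⟨fun a b => ?_⟩⟩, fun g => by rw [sq]; exact hsq g⟩
    have ha : a⁻¹ = a := inv_eq_of_mul_eq_one_right (hsq a)
    have hb : b⁻¹ = b := inv_eq_of_mul_eq_one_right (hsq b)
    have hab : (a * b)⁻¹ = a * b := inv_eq_of_mul_eq_one_right (hsq (a * b))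
    rw [← hab, mul_inv_rev, ha, hb]
  · right
    push Not at hreg
    obtain ⟨g₀, hg₀, α, hα⟩ := hreg
    have hker : ∀ x ∈ Cfsg.frobeniusKernel (stabilizer G α), x = 1 ∨ ∀ ω : Ω, x • ω ≠ ω := by
      intro x hx
      rcases hx with h | h
      · left; exact h
      · right
        intro ω hω
        obtain ⟨k, rfl⟩ := exists_smul_eq G α ω
        apply h k
        rw [Cfsg.Agent.Lib_helper9_Frob.mem_conj_smul_iff, mem_stabilizer_iff, mul_smul,
          mul_smul, hω, inv_smul_smul]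
    refine ⟨stabilizer G α, ⟨?_, ?_, ?_⟩, ?_, ?_⟩
    · intro h
      have h1 : g₀ ∈ stabilizer G α := hα
      rw [h, Subgroup.mem_bot] at h1
      exact hg₀ h1
    · intro h
      apply hg₀
      apply FaithfulSMul.eq_of_smul_eq_smul (α := Ω)
      intro ω
      rw [one_smul]
      obtain ⟨k, rfl⟩ := exists_smul_eq G α ω
      have hk : k ∈ stabilizer G α := by rw [h]; exact Subgroup.mem_top k
      have hkα : k • α = α := hk
      rw [hkα]
      exact hα
    · intro g hg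
      rw [eq_bot_iff]
      intro x hx
      rw [Subgroup.mem_inf, Cfsg.Agent.Lib_helper9_Frob.mem_conj_smul_iff] at hx
      obtain ⟨hx1, hx2⟩ := hx
      rw [Subgroup.mem_bot]
      by_contra hxne
      apply hg
      have h1 : x • α = α := hx1
      have h2 : x • (g • α) = g • α := by
        have h3 : (g⁻¹ * x * g) • α = α := hx2
        rw [mul_smul, mul_smul, inv_smul_eq_iff] at h3
        exact h3
      exact hfix x hxne _ _ h2 h1
    · intro x hx
      rcases hker x hx with h | h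
      · rw [h, one_pow]
      · rw [sq]; exact hinv' x h
    · intro x hx y hy
      rcases hker x hx with rfl | hxD
      · rw [one_mul, mul_one]
      rcases hker y hy with rfl | hyD
      · rw [one_mul, mul_one]
      have hxx := hinv' x hxD
      have hyy := hinv' y hyD
      by_cases hxy : x * y = 1
      · have h1 : x⁻¹ = y := inv_eq_of_mul_eq_one_right hxy
        have h2 : x⁻¹ = x := inv_eq_of_mul_eq_one_right hxx
        rw [← h1, h2]
      · have hD : ∀ ω : Ω, (x * y) • ω ≠ ω := by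
          intro ω hω
          have hyx : y * x = (x * y)⁻¹ := by
            rw [mul_inv_rev, inv_eq_of_mul_eq_one_right hxx, inv_eq_of_mul_eq_one_right hyy]
          have h1 : (x * y) • (x • ω) = x • ω := by
            rw [← mul_smul, mul_assoc, hyx, mul_smul, inv_smul_eq_iff.mpr hω.symm]
          exact hxD ω (hfix (x * y) hxy _ _ h1 hω)
        have h2 := hinv' (x * y) hD
        have h3 : (x * y)⁻¹ = x * y := inv_eq_of_mul_eq_one_right h2
        rw [← h3, mul_inv_rev, inv_eq_of_mul_eq_one_right hxx, inv_eq_of_mul_eq_one_right hyy]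

end Cfsg.Agent.Lib_helper9_DerInv
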