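import Mathlib
import Cfsg.Agent.Lib_helper1_Basic
import Cfsg.Agent.Lib_helper7_SylGraph

set_option autoImplicit false

namespace Cfsg.Agent.Lib_helper9_Fixity

theorem card_dvd_of_free {Z X : Type*} [Group Z] [Finite Z] [MulAction Z X] [Finite X]
    (hfree : ∀ (z : Z) (x : X), z • x = x → z = 1) : Nat.card Z ∣ Nat.card X := by
  classical
  haveI := Fintype.ofFinite (MulAction.orbitRel.Quotient Z X)
  rw [Nat.card_congr (MulAction.selfEquivSigmaOrbits Z X), Nat.card_sigma]
  apply Finset.dvd_sum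
  intro q _
  have hstab : MulAction.stabilizer Z (Quotient.out q) = ⊥ := by
    rw [eq_bot_iff]; intro z hz; exact (Subgroup.mem_bot).mpr (hfree z _ hz)
  have h1 := MulAction.index_stabilizer (G := Z) (x := Quotient.out q)
  rw [hstab, Subgroup.index_bot] at h1
  rw [Nat.card_coe_set_eq, ← h1]

theorem two_dvd_of_swap {G Ω : Type*} [Group G] [Finite G] [MulAction G Ω] (n : G) (α β : Ω)
    (hne : α ≠ β) (h1 : n • α = β) (h2 : n • β = α) : 2 ∣ Nat.card G := by
  have hdvd : 2 ∣ orderOf n := by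
    by_contra hodd
    have hodd' : Odd (orderOf n) := Nat.odd_iff.mpr (by omega)
    obtain ⟨m, hm⟩ := hodd'
    have hsq : ∀ j : ℕ, (n ^ (2 * j)) • α = α := by
      intro j
      induction j with
      | zero => simp
      | succ i ih => rw [mul_add, mul_one, pow_add, mul_smul, pow_two, mul_smul, h1, h2, ih]
    have hpow : n ^ (2 * (m + 1)) = n := by
      have : 2 * (m + 1) = orderOf n + 1 := by omega
      rw [this, pow_succ, pow_orderOf_eq_one, one_mul]
    have h3 := hsq (m + 1)
    rw [hpow, h1] at h3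
    exact hne h3.symm
  exact hdvd.trans (orderOf_dvd_natCard n)

theorem fix_two {G Ω : Type*} [Group G] [MulAction G Ω] [Finite Ω] (x : G) (α β : Ω) (hne : α ≠ β)
    (hα : x • α = α) (hβ : x • β = β) (hcard : Nat.card (MulAction.fixedBy Ω x) ≤ 2) (ω : Ω)
    (hω : x • ω = ω) : ω = α ∨ ω = β := by
  have hsub : ({α, β} : Set Ω) ⊆ MulAction.fixedBy Ω x := by
    intro y hy
    rcases hy with rfl | rfl
    · exact hα
    · exact hβ
  have heq := Set.eq_of_subset_of_ncard_le hsub
    (by rw [Set.ncard_pair hne, ← Nat.card_coe_set_eq]; exact hcard) (Set.toFinite _)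
  have : ω ∈ ({α, β} : Set Ω) := by rw [heq]; exact hω
  exact this

theorem cent_fix {G Ω : Type*} [Group G] [Finite G] [MulAction G Ω] [Finite Ω] (x n : G) (α β : Ω)
    (hne : α ≠ β) (hα : x • α = α) (hβ : x • β = β)
    (hcard : Nat.card (MulAction.fixedBy Ω x) ≤ 2)
    (hcomm : n * x = x * n) (h2 : ¬ 2 ∣ Nat.card G) : n • α = α ∧ n • β = β := by
  have hfa : x • (n • α) = n • α := by rw [← mul_smul, ← hcomm, mul_smul, hα]
  have hfb : x • (n • β) = n • β := by rw [← mul_smul, ← hcomm, mul_smul, hβ]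
  rcases fix_two x α β hne hα hβ hcard _ hfa with ha | ha
  · refine ⟨ha, ?_⟩
    rcases fix_two x α β hne hα hβ hcard _ hfb with hb | hb
    · exact absurd (MulAction.injective n (hb.trans ha.symm)) hne.symm
    · exact hb
  · rcases fix_two x α β hne hα hβ hcard _ hfb with hb | hb
    · exact absurd (two_dvd_of_swap n α β hne ha hb) h2
    · exact absurd (MulAction.injective n (ha.trans hb.symm)) hne

theorem s3389 {G : Type*} [Group G] [Finite G] {Ω : Type*} [Fintype Ω] [MulAction G Ω]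
    [FaithfulSMul G Ω]
    (htr : MulAction.IsPretransitive G Ω) (k : ℕ) (hk : 1 ≤ k)
    (hfix : ∀ g : G, g ≠ 1 → Nat.card (MulAction.fixedBy Ω g) ≤ k)
    (hex : ∃ g : G, g ≠ 1 ∧ Nat.card (MulAction.fixedBy Ω g) = k) :
    Nat.card (Subgroup.center G) ∣ k ∧ (k = 2 → 2 ∣ Nat.card G) ∧
      ∀ (p : ℕ), p.Prime → k < p → p ∣ Nat.card G → ∀ α : Ω,
        ¬ p ∣ Nat.card (MulAction.stabilizer G α) ∨ ¬ p ∣ (MulAction.stabilizer G α).index := by
  refine ⟨?_, ?_, ?_⟩
  · obtain ⟨g, hg1, hgk⟩ := hex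
    rw [← hgk]
    let S : SubMulAction (Subgroup.center G) Ω :=
      { carrier := MulAction.fixedBy Ω g
        smul_mem' := by
          intro z ω hω
          have hω' : g • ω = ω := hω
          show g • (z • ω) = z • ω
          rw [Subgroup.smul_def, ← mul_smul, Subgroup.mem_center_iff.mp z.2 g, mul_smul, hω'] }
    have hfree : ∀ (z : Subgroup.center G) (x : S), z • x = x → z = 1 := by
      intro z x hzx
      have h1 : (z : G) • (x : Ω) = x := congrArg Subtype.val hzx
      apply Subtype.ext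
      apply FaithfulSMul.eq_of_smul_eq_smul (α := Ω)
      intro ω
      obtain ⟨h, rfl⟩ := MulAction.exists_smul_eq G (x : Ω) ω
      show (z : G) • h • (x : Ω) = (1 : G) • h • (x : Ω)
      rw [one_smul, ← mul_smul, ← Subgroup.mem_center_iff.mp z.2 h, mul_smul, h1]
    have hd : Nat.card (Subgroup.center G) ∣ Nat.card S := card_dvd_of_free hfree
    exact hd
  · intro hk2
    subst hk2
    by_contra h2
    obtain ⟨g, hg1, hgk⟩ := hex
    rw [Nat.card_coe_set_eq, Set.ncard_eq_two] at hgk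
    obtain ⟨α, β, hne, hfixg⟩ := hgk
    have hgα : g • α = α := by
      have : α ∈ MulAction.fixedBy Ω g := by rw [hfixg]; exact Set.mem_insert _ _
      exact this
    have hgβ : g • β = β := by
      have : β ∈ MulAction.fixedBy Ω g := by rw [hfixg]; exact Set.mem_insert_of_mem _ rfl
      exact this
    have hog : orderOf g ≠ 1 := by rwa [Ne, orderOf_eq_one_iff]
    obtain ⟨p, hp, hpg⟩ := Nat.exists_prime_and_dvd hog
    haveI : Fact p.Prime := ⟨hp⟩
    obtain ⟨m, hm⟩ := hpg
    have hm0 : m ≠ 0 := by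
      rintro rfl
      rw [mul_zero] at hm
      exact (orderOf_pos g).ne' hm
    obtain ⟨x, hx⟩ : ∃ x : G, x = g ^ m := ⟨_, rfl⟩
    have hxo : orderOf x = p := by
      rw [hx, orderOf_pow_of_dvd hm0 ⟨p, by rw [hm, mul_comm]⟩, hm,
        Nat.mul_div_cancel _ (Nat.pos_of_ne_zero hm0)]
    have hx1 : x ≠ 1 := by
      intro h; rw [h, orderOf_one] at hxo; exact hp.one_lt.ne hxo
    have hxα : x • α = α := by
      rw [hx]; exact (MulAction.stabilizer G α).pow_mem hgα m
    have hxβ : x • β = β := by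
      rw [hx]; exact (MulAction.stabilizer G β).pow_mem hgβ m
    have hpgx : IsPGroup p (Subgroup.zpowers x) :=
      IsPGroup.of_card (n := 1) (by rw [Nat.card_zpowers, hxo, pow_one])
    obtain ⟨Q, hQ⟩ := hpgx.exists_le_sylow
    have hxQ : x ∈ (Q : Subgroup G) := hQ (Subgroup.mem_zpowers x)
    haveI : Nontrivial ↥(Q : Subgroup G) :=
      ⟨⟨⟨x, hxQ⟩, 1, fun h => hx1 (congrArg Subtype.val h)⟩⟩
    haveI := Q.isPGroup'.center_nontrivial
    obtain ⟨z', hz'⟩ := exists_ne (1 : Subgroup.center ↥(Q : Subgroup G))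
    obtain ⟨z, hz⟩ : ∃ z : G, z = ((z' : ↥(Q : Subgroup G)) : G) := ⟨_, rfl⟩
    have hzQ : z ∈ (Q : Subgroup G) := by rw [hz]; exact (z' : ↥(Q : Subgroup G)).2
    have hz1 : z ≠ 1 := by
      intro h
      apply hz'
      apply Subtype.ext
      apply Subtype.ext
      rw [← hz, h]; rfl
    have hzc : ∀ q ∈ (Q : Subgroup G), q * z = z * q := by
      intro q hq
      have := Subgroup.mem_center_iff.mp z'.2 ⟨q, hq⟩
      rw [hz]
      exact congrArg Subtype.val this
    have hcardx := hfix x hx1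
    obtain ⟨hzα, hzβ⟩ := cent_fix x z α β hne hxα hxβ hcardx (hzc x hxQ).symm h2
    have hcardz := hfix z hz1
    have hQfix : ∀ q ∈ (Q : Subgroup G), q • α = α ∧ q • β = β :=
      fun q hq => cent_fix z q α β hne hzα hzβ hcardz (hzc q hq) h2
    obtain ⟨h, hh⟩ := MulAction.exists_smul_eq G α β
    have h1 : (Q : Subgroup G) ≤ MulAction.stabilizer G β := fun q hq => (hQfix q hq).2
    have h2' : ((h • Q : Sylow p G) : Subgroup G) ≤ MulAction.stabilizer G β := by
      intro y hy
      rw [Lib_helper7_SylGraph.mem_smul_iff] at hy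
      have := (hQfix _ hy).1
      rw [MulAction.mem_stabilizer_iff, ← hh]
      rw [mul_smul, mul_smul] at this
      rw [inv_smul_eq_iff] at this; exact this
    obtain ⟨y, hy, hn⟩ := Lib_helper1_Basic.sylow_conj_in_subgroup Q h _ h1 h2'
    have hnα : (y * h) • α = β := by rw [mul_smul, hh]; exact hy
    obtain ⟨n, hnd⟩ : ∃ n : G, n = y * h := ⟨_, rfl⟩
    rw [← hnd] at hn hnα
    have hn' : ∀ q, q ∈ (Q : Subgroup G) ↔ n * q * n⁻¹ ∈ (Q : Subgroup G) :=
      Subgroup.mem_normalizer_iff.mp hn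
    have hγ : z • (n⁻¹ • α) = n⁻¹ • α := by
      have hmem : n * z * n⁻¹ ∈ (Q : Subgroup G) := (hn' z).mp hzQ
      have := (hQfix _ hmem).1
      rw [mul_smul, mul_smul] at this
      rw [smul_eq_iff_eq_inv_smul] at this; exact this
    rcases fix_two z α β hne hzα hzβ hcardz _ hγ with hc | hc
    · apply hne
      rw [inv_smul_eq_iff] at hc
      exact hc.trans hnα
    · have hb : n⁻¹ • β = α := by rw [inv_smul_eq_iff]; exact hnα.symm
      exact h2 (two_dvd_of_swap n⁻¹ α β hne hc hb)
  · intro p hp hkp hpG α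
    by_contra hcon
    push Not at hcon
    obtain ⟨hps, hpi⟩ := hcon
    haveI : Fact p.Prime := ⟨hp⟩
    obtain ⟨x', hx'⟩ := exists_prime_orderOf_dvd_card' p hps
    obtain ⟨x, hxd⟩ : ∃ x : G, x = (x' : G) := ⟨_, rfl⟩
    have hxo : orderOf x = p := by rw [hxd, ← hx']; exact Subgroup.orderOf_coe x'
    have hx1 : x ≠ 1 := by
      intro h; rw [h, orderOf_one] at hxo; exact hp.one_lt.ne hxo
    have hxα : x • α = α := by rw [hxd]; exact x'.2
    have hpg : IsPGroup p (Subgroup.zpowers x) :=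
      IsPGroup.of_card (n := 1) (by rw [Nat.card_zpowers, hxo, pow_one])
    have hmod := hpg.card_modEq_card_fixedPoints Ω
    have hfp : MulAction.fixedPoints (Subgroup.zpowers x) Ω = MulAction.fixedBy Ω x := by
      ext ω
      constructor
      · intro h; exact h ⟨x, Subgroup.mem_zpowers x⟩
      · intro h y
        have : Subgroup.zpowers x ≤ MulAction.stabilizer G ω := by
          rw [Subgroup.zpowers_le]; exact h
        exact this y.2
    rw [hfp] at hmod
    rw [MulAction.index_stabilizer_of_transitive] at hpi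
    have hdvd : p ∣ Nat.card (MulAction.fixedBy Ω x) :=
      (Nat.modEq_zero_iff_dvd.mp ((hmod.symm).trans (Nat.modEq_zero_iff_dvd.mpr hpi)))
    have hpos : 0 < Nat.card (MulAction.fixedBy Ω x) :=
      Nat.card_pos_iff.mpr ⟨⟨⟨α, hxα⟩⟩, inferInstance⟩
    have h3 := Nat.le_of_dvd hpos hdvd
    have h4 := hfix x hx1
    omega

end Cfsg.Agent.Lib_helper9_Fixity
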