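import Mathlib
import Cfsg.Prelude.Def_FusionSystem
import Cfsg.Prelude.Def_FusionComponents
import Cfsg.Agent.Lib_helper9_FusionSolv2

set_option autoImplicit false

namespace Cfsg.Agent.Lib_helper9_FusionConstr

open Cfsg Cfsg.FusionSystem Cfsg.Agent.Lib_helper9_Fusion Cfsg.Agent.Lib_helper9_FusionSat
  Cfsg.Agent.Lib_helper9_FusionGen Cfsg.Agent.Lib_helper9_FusionGen2
  Cfsg.Agent.Lib_helper9_FusionLift Cfsg.Agent.Lib_helper9_FusionLift2
  Cfsg.Agent.Lib_helper9_FusionChain Cfsg.Agent.Lib_helper9_FusionNC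
  Cfsg.Agent.Lib_helper9_FusionChain2 Cfsg.Agent.Lib_helper9_FusionSolv
  Cfsg.Agent.Lib_helper9_FusionSolv2

open scoped commutatorElement

variable {Ω : Type*} [Group Ω]

theorem commutator_sup_le {N A : Subgroup Ω} (hA : A ≤ Subgroup.normalizer (N : Set Ω))
    (h : ⁅A, A⁆ ≤ N) : ⁅N ⊔ A, N ⊔ A⁆ ≤ N := by
  rw [Subgroup.commutator_le]
  intro a ha b hb
  have ha' : a ∈ A ⊔ N := by rw [sup_comm]; exact ha
  have hb' : b ∈ A ⊔ N := by rw [sup_comm]; exact hb
  obtain ⟨u, hu, q, hq, rfl⟩ := mem_sup_of_le_normalizer hA ha'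
  obtain ⟨v, hv, r, hr, rfl⟩ := mem_sup_of_le_normalizer hA hb'
  have huv : ⁅u, v⁆ ∈ N := h (Subgroup.commutator_mem_commutator hu hv)
  have hun := hA hu
  have hvn := hA hv
  have key : ⁅u * q, v * r⁆ = (u * q * u⁻¹) * ((u * v) * (r * q⁻¹) * (u * v)⁻¹) * ⁅u, v⁆ *
      (v * r⁻¹ * v⁻¹) := by
    rw [commutatorElement_def, commutatorElement_def]; group
  rw [key]
  exact Subgroup.mul_mem _ (Subgroup.mul_mem _ (Subgroup.mul_mem _
    (conj_mem_of_mem_normalizer hun hq)
    (conj_mem_of_mem_normalizer (Subgroup.mul_mem _ hun hvn)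
      (Subgroup.mul_mem _ hr (Subgroup.inv_mem _ hq)))) huv)
    (conj_mem_of_mem_normalizer hvn (Subgroup.inv_mem _ hr))

/-- a normal subsystem of a constrained system is constrained. -/
theorem constrained_of_normalIn {S : Subgroup Ω} [Finite S] (p : ℕ) [Fact p.Prime]
    (hS : IsPGroup p S) (F : FusionSystem S) (hF : F.IsConstrained p) {T : Subgroup Ω}
    (E : FusionSystem T) (hE : E.IsNormalIn F p) : E.IsConstrained p := by
  obtain ⟨hFsat, Q', hQ'n, hQ'c⟩ := hF
  have hEsat : E.IsSaturated p := hE.1.1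
  obtain ⟨hsub, hTsc, -, -⟩ := hE.1.2.2
  have hTS : T ≤ S := hTsc.1
  haveI : Finite T := finite_of_le hTS
  have hT : IsPGroup p T := hS.to_le hTS
  have hQn := isNormal_core F
  have hQsc := stronglyClosed_of_isNormal F hQn
  have hQ'Q : Q' ≤ F.core := le_sSup hQ'n
  have hcent : centralizerIn S F.core ≤ F.core := by
    intro c hc
    apply hQ'Q
    apply hQ'c.2 Q' (isConj_refl F hQ'c.1)
    exact ⟨hc.1, Subgroup.centralizer_le (SetLike.coe_subset_coe.mpr hQ'Q) hc.2⟩
  have hQ₀n := isNormal_core E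
  have hQ₀sc := stronglyClosed_of_isNormal E hQ₀n
  -- `R = Q ∩ T` is normal in `E`
  have hRF : F.IsNormal (F.core ⊓ T) :=
    isNormal_of_stronglyClosed_le p hS F hFsat (inf_stronglyClosed F hQsc hTsc)
      (fun U _ hcen hrad => inf_le_left.trans (le_of_isNormal_of_centric_radical hS F hQn hcen hrad))
  have hRE : E.IsNormal (F.core ⊓ T) := by
    obtain ⟨n, Rs, h0, hn, hmono, hstep⟩ := (isNormal_iff_chain p hS F hFsat _).mp hRF
    apply isNormal_of_chain p hT E hEsat Rs h0 hn hmono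
    intro i
    have hle : Rs i.succ ≤ T := (hn ▸ hmono (Fin.le_last i.succ) : Rs i.succ ≤ F.core ⊓ T).trans
      inf_le_right
    exact ⟨⟨hle, fun A hA φ hφ x => (hstep i).1.2 A hA φ (hsub A hφ) x⟩, (hstep i).2⟩
  have hRQ₀ : F.core ⊓ T ≤ E.core := le_sSup hRE
  have hSnT := le_normalizer_of_stronglyClosed F hTsc
  have hSnQ := le_normalizer_of_stronglyClosed F hQsc
  have hYT : centralizerIn T E.core ≤ T := inf_le_left
  -- `[Y, Q] ≤ R`
  have hYQ : ⁅centralizerIn T E.core, F.core⁆ ≤ F.core ⊓ T := by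
    rw [Subgroup.commutator_le]
    intro y hy q hq
    have hyT := hYT hy
    have hqS := hQn.1 hq
    refine ⟨?_, ?_⟩
    · rw [commutatorElement_def]
      have h1 : y * q * y⁻¹ ∈ F.core := conj_mem_of_mem_normalizer (hSnQ (hTS hyT)) hq
      exact Subgroup.mul_mem _ h1 (Subgroup.inv_mem _ hq)
    · rw [commutatorElement_def]
      have h1 : q * y⁻¹ * q⁻¹ ∈ T := conj_mem_of_mem_normalizer (hSnT hqS) (T.inv_mem hyT)
      have h2 : y * q * y⁻¹ * q⁻¹ = y * (q * y⁻¹ * q⁻¹) := by group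
      rw [h2]
      exact T.mul_mem hyT h1
  have hQ₀Y : ⁅E.core, centralizerIn T E.core⁆ = ⊥ := by
    rw [Subgroup.commutator_comm, Subgroup.commutator_eq_bot_iff_le_centralizer]
    exact inf_le_right
  have h1 : ⁅⁅centralizerIn T E.core, F.core⁆, centralizerIn T E.core⁆ = ⊥ := by
    rw [eq_bot_iff, ← hQ₀Y]
    exact Subgroup.commutator_mono (hYQ.trans hRQ₀) le_rfl
  have h2 : ⁅⁅F.core, centralizerIn T E.core⁆, centralizerIn T E.core⁆ = ⊥ := by
    rw [Subgroup.commutator_comm F.core]; exact h1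
  have h3 : ⁅⁅centralizerIn T E.core, centralizerIn T E.core⁆, F.core⁆ = ⊥ :=
    Subgroup.commutator_commutator_eq_bot_of_rotate h1 h2
  have hYY : ⁅centralizerIn T E.core, centralizerIn T E.core⁆ ≤ E.core := by
    have h4 : ⁅centralizerIn T E.core, centralizerIn T E.core⁆ ≤
        Subgroup.centralizer (F.core : Set Ω) :=
      Subgroup.commutator_eq_bot_iff_le_centralizer.mp h3
    have h5 : ⁅centralizerIn T E.core, centralizerIn T E.core⁆ ≤ centralizerIn T E.core :=
      Subgroup.commutator_le.mpr (fun a ha b hb => by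
        rw [commutatorElement_def]
        exact Subgroup.mul_mem _ (Subgroup.mul_mem _ (Subgroup.mul_mem _ ha hb)
          (Subgroup.inv_mem _ ha)) (Subgroup.inv_mem _ hb))
    intro z hz
    have hzT : z ∈ T := hYT (h5 hz)
    exact hRQ₀ ⟨hcent ⟨hTS hzT, h4 hz⟩, hzT⟩
  have hWsc := sup_centralizer_stronglyClosed p hT E hEsat E.core hQ₀sc
  have hYn : centralizerIn T E.core ≤ Subgroup.normalizer (E.core : Set Ω) :=
    inf_le_right.trans (Subgroup.centralizer_le_normalizer _)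
  have hWn : E.IsNormal (E.core ⊔ centralizerIn T E.core) :=
    isNormal_of_central_ext p hT E hEsat hQ₀n hWsc le_sup_left le_rfl
      (commutator_sup_le hYn hYY)
  have hWQ₀ : E.core ⊔ centralizerIn T E.core ≤ E.core := le_sSup hWn
  refine ⟨hEsat, E.core, hQ₀n, hQ₀n.1, fun Q₂ hconj => ?_⟩
  obtain ⟨φ, hφ, rfl⟩ := hconj
  rw [(weaklyClosed_of_stronglyClosed E hQ₀sc).2 φ hφ]
  exact le_sup_right.trans hWQ₀

/-- `S5342` -/
theorem constrained_of_subnormal : ∀ {T : Subgroup Ω} {E : FusionSystem T} {S : Subgroup Ω}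
    {F : FusionSystem S} {p : ℕ}, E.IsSubnormalIn F p → Fact p.Prime → Finite S → IsPGroup p S →
    F.IsConstrained p → E.IsConstrained p := by
  intro T E S F p h
  induction h with
  | refl F p => intro _ _ _ h; exact h
  | @step U S E D F p hED hDF ih =>
    intro hp hfin hS hF
    have hSC : F.StronglyClosed U := hDF.1.2.2.2.1
    have hUS : U ≤ S := hSC.1
    haveI : Finite U := finite_of_le hUS
    exact ih hp inferInstance (hS.to_le hUS) (constrained_of_normalIn p hS F hF D hDF)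

end Cfsg.Agent.Lib_helper9_FusionConstr
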