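import Mathlib
import Cfsg.Agent.Lib_helper1_PGroup
import Cfsg.Agent.Lib_helper5_Fitting
import Cfsg.Agent.Lib_helper5_Omega

set_option autoImplicit false

namespace Cfsg.Agent.Lib_helper9_Omega

open Cfsg Cfsg.Agent.Lib_helper5_Omega

/-- A `p'`-element normalizing the `p`-group `Q` and centralizing all elements of order
dividing `q` of `Q` centralizes `Q`; here `q = p` for odd `p` and `q = 4` for `p = 2` (any `q`
divisible by `p` with `p ∣ 0 + 1 + ⋯ + (q - 1)`). Generalizes `Lib_helper5_Omega.omega_cent`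
(same proof). -/
theorem omega_cent_gen {G : Type*} [Group G] [Finite G] (p : ℕ) [hp : Fact p.Prime] (q : ℕ)
    (hpq : p ∣ q) (hsum : p ∣ ∑ i ∈ Finset.range q, i)
    (g : G) (hg : (orderOf g).Coprime p) :
    ∀ (n : ℕ) (Q : Subgroup G), Nat.card Q = n → IsPGroup p Q →
      g ∈ Subgroup.normalizer (Q : Set G) → (∀ y ∈ Q, y ^ q = 1 → g * y = y * g) →
      g ∈ Subgroup.centralizer (Q : Set G) := by
  intro n
  induction n using Nat.strong_induction_on with
  | _ n ih =>
    intro Q hn hQ hgQ hom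
    have hgQ' : ∀ x ∈ Q, g * x * g⁻¹ ∈ Q := fun x hx =>
      (Subgroup.mem_normalizer_iff.mp hgQ x).mp hx
    have hpel : ∀ y ∈ Q, ∃ j : ℕ, orderOf y = p ^ j := by
      intro y hy
      obtain ⟨k, hk⟩ := hQ ⟨y, hy⟩
      have h1 : y ^ p ^ k = 1 := congrArg Subtype.val hk
      obtain ⟨j, -, hj⟩ := (Nat.dvd_prime_pow hp.out).mp (orderOf_dvd_of_pow_eq_one h1)
      exact ⟨j, hj⟩
    have hfin : ∀ x ∈ Q, g * (g * x * g⁻¹ * x⁻¹) = (g * x * g⁻¹ * x⁻¹) * g →
        g * x = x * g := by
      intro x hx hc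
      have hyQ : g * x * g⁻¹ * x⁻¹ ∈ Q := Q.mul_mem (hgQ' x hx) (Q.inv_mem hx)
      have hyx : g * x * g⁻¹ = (g * x * g⁻¹ * x⁻¹) * x := by group
      have h4 := conj_pow_mul g x _ hyx hc (orderOf g)
      rw [pow_orderOf_eq_one] at h4
      simp only [one_mul, inv_one, mul_one] at h4
      have h5 : (g * x * g⁻¹ * x⁻¹) ^ orderOf g = 1 := by
        have : (g * x * g⁻¹ * x⁻¹) ^ orderOf g * x = 1 * x := by rw [one_mul]; exact h4.symm
        exact mul_right_cancel this
      obtain ⟨j, hj⟩ := hpel _ hyQ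
      have h6 : (g * x * g⁻¹ * x⁻¹) ^ p ^ j = 1 := by rw [← hj]; exact pow_orderOf_eq_one _
      have h7 := pow_gcd_eq_one.mpr ⟨h5, h6⟩
      rw [Nat.Coprime.gcd_eq_one (Nat.Coprime.pow_right j hg), pow_one] at h7
      have h8 : g * x * g⁻¹ = x := by rw [hyx, h7, one_mul]
      calc g * x = (g * x * g⁻¹) * g := by group
        _ = x * g := by rw [h8]
    rw [Subgroup.mem_centralizer_iff]
    intro x hx
    symm
    apply hfin x hx
    rcases eq_top_or_exists_le_coatom (⊥ : Subgroup ↥Q) with hbt | ⟨M, hM, -⟩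
    · have h1 : (⟨x, hx⟩ : ↥Q) ∈ (⊥ : Subgroup ↥Q) := by rw [hbt]; trivial
      rw [Subgroup.mem_bot] at h1
      have h2 : x = 1 := congrArg Subtype.val h1
      rw [h2]; simp
    · have hQ' : IsPGroup p ↥Q := hQ
      have hΦM : Subgroup.closure (phiSet p Q) ≤ M.map Q.subtype := by
        rw [Subgroup.closure_le]
        rintro z (⟨x, hx, rfl⟩ | ⟨x, hx, y, hy, rfl⟩)
        · exact ⟨⟨x, hx⟩ ^ p,
            Cfsg.Agent.Lib_helper1_PGroup.pow_p_mem_coatom hQ' M hM ⟨x, hx⟩, rfl⟩
        · refine ⟨⟨x, hx⟩ * ⟨y, hy⟩ * ⟨x, hx⟩⁻¹ * ⟨y, hy⟩⁻¹, ?_, rfl⟩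
          apply Cfsg.Agent.Lib_helper1_PGroup.commutator_le_coatom hQ' M hM
          rw [commutator_def]
          exact Subgroup.commutator_mem_commutator (Subgroup.mem_top _) (Subgroup.mem_top _)
      have hΦQ : Subgroup.closure (phiSet p Q) ≤ Q := hΦM.trans (Subgroup.map_subtype_le M)
      have hΦcard : Nat.card (Subgroup.closure (phiSet p Q)) < n := by
        have h1 := Subgroup.card_le_of_le hΦM
        rw [Subgroup.card_map_of_injective Q.subtype_injective] at h1
        have h2 := Cfsg.Agent.Lib_helper5_Fitting.card_lt_of_lt_top (lt_top_iff_ne_top.mpr hM.1)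
        omega
      have hgΦ : g ∈ Subgroup.normalizer
          ((Subgroup.closure (phiSet p Q) : Subgroup G) : Set G) := by
        apply mem_normalizer_closure
        rintro z (⟨x, hx, rfl⟩ | ⟨x, hx, y, hy, rfl⟩)
        · left; exact ⟨g * x * g⁻¹, hgQ' x hx, by rw [conj_pow]⟩
        · right; exact ⟨g * x * g⁻¹, hgQ' x hx, g * y * g⁻¹, hgQ' y hy, by group⟩
      have hΦcent := ih _ hΦcard _ rfl (hQ.to_le hΦQ) hgΦ
        (fun y hy hyp => hom y (hΦQ hy) hyp)
      rw [Subgroup.mem_centralizer_iff] at hΦcent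
      have hRQ : Subgroup.closure (commSet g Q) ≤ Q := by
        rw [Subgroup.closure_le]
        rintro z ⟨x, hx, rfl⟩
        exact Q.mul_mem (hgQ' x hx) (Q.inv_mem hx)
      by_cases hR : Subgroup.closure (commSet g Q) = Q
      · have hΦZ : ∀ φ ∈ Subgroup.closure (phiSet p Q), ∀ r ∈ Q, φ * r = r * φ := by
          intro φ hφ r hr
          have hle : Subgroup.closure (commSet g Q) ≤ Subgroup.centralizer {φ} := by
            rw [Subgroup.closure_le]
            rintro z ⟨x, hx, rfl⟩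
            show _ ∈ Subgroup.centralizer {φ}
            rw [Subgroup.mem_centralizer_iff]
            intro h hh
            rw [Set.mem_singleton_iff] at hh
            subst hh
            have h1 : x⁻¹ * h * x ∈ Subgroup.closure (phiSet p Q) := by
              have e : x⁻¹ * h * x = (x⁻¹ * h * x⁻¹⁻¹ * h⁻¹) * h := by group
              rw [e]
              exact Subgroup.mul_mem _ (Subgroup.subset_closure
                (Or.inr ⟨x⁻¹, Q.inv_mem hx, h, hΦQ hφ, rfl⟩)) hφ
            have h2 := hΦcent _ h1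
            have h3 := hΦcent _ hφ
            symm
            calc (g * x * g⁻¹ * x⁻¹) * h
                = g * x * g⁻¹ * ((x⁻¹ * h * x) * g) * g⁻¹ * x⁻¹ := by group
              _ = g * x * g⁻¹ * (g * (x⁻¹ * h * x)) * g⁻¹ * x⁻¹ := by rw [h2]
              _ = (g * h) * x * g⁻¹ * x⁻¹ := by group
              _ = (h * g) * x * g⁻¹ * x⁻¹ := by rw [h3]
              _ = h * (g * x * g⁻¹ * x⁻¹) := by group
          rw [hR] at hle
          have h4 := hle hr
          rw [Subgroup.mem_centralizer_iff] at h4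
          exact h4 φ rfl
        have hu : g * x * g⁻¹ ∈ Q := hgQ' x hx
        have hv : x⁻¹ ∈ Q := Q.inv_mem hx
        have hcΦ : x⁻¹ * (g * x * g⁻¹) * x⁻¹⁻¹ * (g * x * g⁻¹)⁻¹ ∈
            Subgroup.closure (phiSet p Q) :=
          Subgroup.subset_closure (Or.inr ⟨x⁻¹, hv, g * x * g⁻¹, hu, rfl⟩)
        have hvp : x⁻¹ ^ p ∈ Subgroup.closure (phiSet p Q) :=
          Subgroup.subset_closure (Or.inl ⟨x⁻¹, hv, rfl⟩)
        have hxp : x ^ p ∈ Subgroup.closure (phiSet p Q) :=
          Subgroup.subset_closure (Or.inl ⟨x, hx, rfl⟩)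
        have hcv := hΦZ _ hcΦ _ hv
        have hcu := hΦZ _ hcΦ _ hu
        have f1 := class_two_pow_mul x⁻¹ (g * x * g⁻¹) _ rfl hcv p
        have f2 := class_two_mul_pow x⁻¹ (g * x * g⁻¹) _ rfl hcv hcu q
        have hcp : (x⁻¹ * (g * x * g⁻¹) * x⁻¹⁻¹ * (g * x * g⁻¹)⁻¹) ^ p = 1 := by
          have e1 := hΦZ _ hvp _ hu
          rw [e1] at f1
          have e2 : 1 * ((g * x * g⁻¹) * x⁻¹ ^ p) =
              (x⁻¹ * (g * x * g⁻¹) * x⁻¹⁻¹ * (g * x * g⁻¹)⁻¹) ^ p * ((g * x * g⁻¹) * x⁻¹ ^ p) := by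
            rw [one_mul, ← mul_assoc]; exact f1
          exact (mul_right_cancel e2).symm
        have hT : (x⁻¹ * (g * x * g⁻¹) * x⁻¹⁻¹ * (g * x * g⁻¹)⁻¹) ^ (∑ i ∈ Finset.range q, i) = 1 := by
          obtain ⟨t, ht⟩ := hsum
          rw [ht, pow_mul, hcp, one_pow]
        have hxq : x ^ q ∈ Subgroup.closure (phiSet p Q) := by
          obtain ⟨t, ht⟩ := hpq
          rw [ht, pow_mul]
          exact Subgroup.pow_mem _ hxp t
        have hup : (g * x * g⁻¹) ^ q = x ^ q := by
          rw [conj_pow]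
          have := hΦcent _ hxq
          calc g * x ^ q * g⁻¹ = (g * x ^ q) * g⁻¹ := by group
            _ = (x ^ q * g) * g⁻¹ := by rw [this]
            _ = x ^ q := by group
        have hyp : (g * x * g⁻¹ * x⁻¹) ^ q = 1 := by
          rw [f2, hT, hup, inv_pow]; group
        exact hom _ (Q.mul_mem hu hv) hyp
      · have hRcard : Nat.card (Subgroup.closure (commSet g Q)) < n := by
          by_contra hc
          push Not at hc
          rw [← hn] at hc
          exact hR (Subgroup.eq_of_le_of_card_ge hRQ hc)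
        have hgR : g ∈ Subgroup.normalizer
            ((Subgroup.closure (commSet g Q) : Subgroup G) : Set G) := by
          apply mem_normalizer_closure
          rintro z ⟨x, hx, rfl⟩
          exact ⟨g * x * g⁻¹, hgQ' x hx, by group⟩
        have hRcent := ih _ hRcard _ rfl (hQ.to_le hRQ) hgR
          (fun y hy hyp => hom y (hRQ hy) hyp)
        rw [Subgroup.mem_centralizer_iff] at hRcent
        exact (hRcent _ (Subgroup.subset_closure ⟨x, hx, rfl⟩)).symm


theorem sum_range_dvd_of_odd {p : ℕ} (hp : p.Prime) (hp2 : p ≠ 2) :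
    p ∣ ∑ i ∈ Finset.range p, i := by
  have h1 : p ∣ (∑ i ∈ Finset.range p, i) * 2 := by
    rw [Finset.sum_range_id_mul_two]; exact dvd_mul_right _ _
  exact Nat.Coprime.dvd_of_dvd_mul_right ((Nat.coprime_primes hp Nat.prime_two).mpr hp2) h1

theorem sum_range_four : (2 : ℕ) ∣ ∑ i ∈ Finset.range 4, i := by
  decide

/-- automorphism form: an automorphism of order prime to `p` of a finite group `V` leaving a
`p`-subgroup `W` invariant and fixing all elements of `W` of order dividing `q` fixes `W`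
pointwise. -/
theorem omega_aut_sub {V : Type*} [Group V] [Finite V] (p : ℕ) [Fact p.Prime] (q : ℕ)
    (hpq : p ∣ q) (hsum : p ∣ ∑ i ∈ Finset.range q, i) (W : Subgroup V) (hW : IsPGroup p W)
    (α : MulAut V) (hα : (orderOf α).Coprime p) (hinv : ∀ w ∈ W, α w ∈ W)
    (h : ∀ y ∈ W, y ^ q = 1 → α y = y) : ∀ y ∈ W, α y = y := by
  haveI : Finite (V ⋊[MonoidHom.id (MulAut V)] MulAut V) :=
    Finite.of_equiv _ (SemidirectProduct.equivProd).symm
  obtain ⟨g, hgdef⟩ : ∃ g : V ⋊[MonoidHom.id (MulAut V)] MulAut V,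
      g = SemidirectProduct.inr α := ⟨_, rfl⟩
  have hg : (orderOf g).Coprime p := by
    rw [hgdef, orderOf_injective (SemidirectProduct.inr : MulAut V →* _)
      SemidirectProduct.inr_injective]
    exact hα
  have hQ : IsPGroup p (W.map (SemidirectProduct.inl :
      V →* V ⋊[MonoidHom.id (MulAut V)] MulAut V)) := hW.map _
  have hconj : ∀ v : V, g * SemidirectProduct.inl v * g⁻¹ = SemidirectProduct.inl (α v) := by
    intro v
    rw [hgdef, ← map_inv]
    exact (SemidirectProduct.inl_aut α v).symm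
  have hgN : g ∈ Subgroup.normalizer ((W.map (SemidirectProduct.inl :
      V →* V ⋊[MonoidHom.id (MulAut V)] MulAut V) : Subgroup _) : Set _) := by
    apply Subgroup.mem_normalizer_fintype
    rintro _ ⟨w, hw, rfl⟩
    exact ⟨α w, hinv w hw, (hconj w).symm⟩
  have hom : ∀ y ∈ W.map (SemidirectProduct.inl :
      V →* V ⋊[MonoidHom.id (MulAut V)] MulAut V), y ^ q = 1 → g * y = y * g := by
    rintro _ ⟨v, hvW, rfl⟩ hy
    have hv : v ^ q = 1 := by
      apply SemidirectProduct.inl_injective (φ := MonoidHom.id (MulAut V))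
      rw [map_pow, hy, map_one]
    have h1 := hconj v
    rw [h v hvW hv] at h1
    calc g * SemidirectProduct.inl v = g * SemidirectProduct.inl v * g⁻¹ * g := by group
      _ = SemidirectProduct.inl v * g := by rw [h1]
  have hc := omega_cent_gen p q hpq hsum g hg _ _ rfl hQ hgN hom
  intro y hy
  have h1 := (Subgroup.mem_centralizer_iff.mp hc) (SemidirectProduct.inl y) ⟨y, hy, rfl⟩
  have h2 := hconj y
  apply SemidirectProduct.inl_injective (φ := MonoidHom.id (MulAut V))
  rw [← h2, ← h1]; group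

theorem omega_aut {V : Type*} [Group V] [Finite V] (p : ℕ) [Fact p.Prime] (q : ℕ) (hpq : p ∣ q)
    (hsum : p ∣ ∑ i ∈ Finset.range q, i) (hV : IsPGroup p V) (α : MulAut V)
    (hα : (orderOf α).Coprime p) (h : ∀ y : V, y ^ q = 1 → α y = y) : ∀ y : V, α y = y :=
  fun y => omega_aut_sub p q hpq hsum ⊤ (hV.to_subgroup ⊤) α hα (fun _ _ => Subgroup.mem_top _)
    (fun y _ hy => h y hy) y (Subgroup.mem_top y)

end Cfsg.Agent.Lib_helper9_Omega
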