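import Mathlib
import Cfsg.Prelude.Def_FusionSystem
import Cfsg.Prelude.Def_PLocal
import Cfsg.Agent.Lib_helper9_FusionChain
import Cfsg.Agent.Lib_helper9_Omega
import Cfsg.Agent.Lib_helper9_FusionFocal
import Cfsg.Agent.Lib_helper1_Critical

set_option autoImplicit false

namespace Cfsg.Agent.Lib_helper9_FusionCyc

open Cfsg Cfsg.FusionSystem Cfsg.Agent.Lib_helper9_Fusion Cfsg.Agent.Lib_helper9_FusionNC
  Cfsg.Agent.Lib_helper9_FusionSat Cfsg.Agent.Lib_helper9_FusionGen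
  Cfsg.Agent.Lib_helper9_FusionGen2 Cfsg.Agent.Lib_helper9_FusionNormal
  Cfsg.Agent.Lib_helper9_FusionChain Cfsg.Agent.Lib_helper9_Omega
  Cfsg.Agent.Lib_helper9_FusionFocal Cfsg.Agent.Lib_helper5_Omega

open scoped commutatorElement

variable {Ω : Type*} [Group Ω] {S : Subgroup Ω}

/-- the exponent `q`: `p` for odd `p`, `4` for `p = 2`. -/
theorem exists_q (p : ℕ) [Fact p.Prime] :
    ∃ q : ℕ, p ∣ q ∧ p ∣ ∑ i ∈ Finset.range q, i ∧ (q = p ∨ (p = 2 ∧ q = 4)) := by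
  by_cases hp2 : p = 2
  · refine ⟨4, by rw [hp2]; norm_num, ?_, Or.inr ⟨hp2, rfl⟩⟩
    rw [hp2]; exact sum_range_four
  · exact ⟨p, dvd_rfl, sum_range_dvd_of_odd Fact.out hp2, Or.inl rfl⟩

theorem card_zpowers_of_pow {G : Type*} [Group G] {p q : ℕ} [Fact p.Prime]
    (hq : q = p ∨ (p = 2 ∧ q = 4)) {x : G} (hx : x ^ q = 1) (hx1 : x ≠ 1) :
    Nat.card (Subgroup.zpowers x) = p ∨ Nat.card (Subgroup.zpowers x) = 4 := by
  rw [Nat.card_zpowers]
  rcases hq with hq | ⟨hp2, hq4⟩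
  · left
    rw [hq] at hx
    exact orderOf_eq_prime hx hx1
  · rw [hq4] at hx
    have hd : orderOf x ∣ 2 ^ 2 := orderOf_dvd_of_pow_eq_one (by norm_num; exact hx)
    obtain ⟨k, hk, hk2⟩ := (Nat.dvd_prime_pow Nat.prime_two).mp hd
    interval_cases k
    · exfalso; exact hx1 (orderOf_eq_one_iff.mp (by simpa using hk2))
    · left; rw [hp2]; simpa using hk2
    · right; simpa using hk2

/-- critical subgroup data. -/
structure Crit {U : Type*} [Group U] (p : ℕ) (Cr : Subgroup U) : Prop where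
  char : Cr.Characteristic
  comm : ⁅Cr, (⊤ : Subgroup U)⁆ ≤ Cr ⊓ Subgroup.centralizer (Cr : Set U)
  cent : Subgroup.centralizer (Cr : Set U) ≤ Cr
  pow : ∀ x ∈ Cr, x ^ p ∈ Cr ⊓ Subgroup.centralizer (Cr : Set U)

theorem exists_crit {U : Type*} [Group U] [Finite U] {p : ℕ} [Fact p.Prime] (hU : IsPGroup p U) :
    ∃ Cr : Subgroup U, Crit p Cr := by
  obtain ⟨H, h1, -, h3, h4, h5⟩ := Cfsg.Agent.Lib_helper1_Critical.exists_critical hU
  exact ⟨H, ⟨h1, h3, h4, h5⟩⟩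

theorem crit_mul_pow {U : Type*} [Group U] {p q : ℕ} {Cr : Subgroup U} (hC : Crit p Cr)
    (hsum : p ∣ ∑ i ∈ Finset.range q, i) {a b : U} (ha : a ∈ Cr) (hb : b ∈ Cr) :
    (b * a) ^ q = b ^ q * a ^ q := by
  obtain ⟨c, hc⟩ : ∃ c, c = a * b * a⁻¹ * b⁻¹ := ⟨_, rfl⟩
  have hcm : c ∈ Cr ⊓ Subgroup.centralizer (Cr : Set U) := by
    apply hC.comm
    have h1 := Subgroup.commutator_mem_commutator ha (Subgroup.mem_top b)
    rw [commutatorElement_def, ← hc] at h1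
    exact h1
  have hcz : ∀ h ∈ Cr, c * h = h * c := fun h hh =>
    ((Subgroup.mem_centralizer_iff.mp hcm.2) h hh).symm
  have hca := hcz a ha
  have hcb := hcz b hb
  have f1 := class_two_pow_mul a b c hc hca p
  have hap : a ^ p * b = b * a ^ p :=
    ((Subgroup.mem_centralizer_iff.mp (hC.pow a ha).2) b hb).symm
  have hcp : c ^ p = 1 := by
    rw [hap] at f1
    have h2 : 1 * (b * a ^ p) = c ^ p * (b * a ^ p) := by rw [one_mul, ← mul_assoc]; exact f1
    exact (mul_right_cancel h2).symm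
  have f2 := class_two_mul_pow a b c hc hca hcb q
  obtain ⟨t, ht⟩ := hsum
  rw [f2, ht, pow_mul, hcp, one_pow, mul_one]

theorem crit_mem_of_aut {U : Type*} [Group U] {p : ℕ} {Cr : Subgroup U} (hC : Crit p Cr)
    (γ : MulAut U) {x : U} (hx : x ∈ Cr) : γ x ∈ Cr := by
  haveI := hC.char
  exact (Subgroup.characteristic_iff_le_comap.mp inferInstance γ) hx

/-- membership in the `i`-th term of the upper central series of `S`. -/
def InZ {U : Subgroup Ω} (hUS : U ≤ S) (i : ℕ) (x : U) : Prop :=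
  (⟨(x : Ω), hUS x.2⟩ : S) ∈ Subgroup.upperCentralSeries S i

theorem inZ_zero {U : Subgroup Ω} (hUS : U ≤ S) {x : U} (h : InZ hUS 0 x) : x = 1 := by
  unfold InZ at h
  rw [Subgroup.upperCentralSeries_zero, Subgroup.mem_bot] at h
  apply Subtype.ext
  have h2 : ((⟨(x : Ω), hUS x.2⟩ : S) : Ω) = ((1 : S) : Ω) := congrArg Subtype.val h
  exact h2

theorem inZ_one {U : Subgroup Ω} (hUS : U ≤ S) (i : ℕ) : InZ hUS i (1 : U) := by
  unfold InZ
  have h1 : (⟨((1 : U) : Ω), hUS (1 : U).2⟩ : S) = 1 := Subtype.ext rfl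
  rw [h1]; exact Subgroup.one_mem _

theorem inZ_mul {U : Subgroup Ω} (hUS : U ≤ S) {i : ℕ} {x y : U} (hx : InZ hUS i x)
    (hy : InZ hUS i y) : InZ hUS i (x * y) := by
  unfold InZ at hx hy ⊢
  have h1 : (⟨((x * y : U) : Ω), hUS (x * y).2⟩ : S) =
      ⟨(x : Ω), hUS x.2⟩ * ⟨(y : Ω), hUS y.2⟩ := Subtype.ext rfl
  rw [h1]; exact Subgroup.mul_mem _ hx hy

theorem inZ_comm {U : Subgroup Ω} (hUS : U ≤ S) {i : ℕ} {x y : U} (hx : InZ hUS (i + 1) x)
    {g : Ω} (hg : g ∈ S) (hy : (y : Ω) = g * x * g⁻¹) : InZ hUS i (x⁻¹ * y) := by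
  unfold InZ at hx ⊢
  have h1 := Subgroup.inv_mem _ hx
  have h2 := Subgroup.mem_upperCentralSeries_succ_iff.mp h1 ⟨g, hg⟩
  have h3 : (⟨((x⁻¹ * y : U) : Ω), hUS (x⁻¹ * y).2⟩ : S) =
      ⁅(⟨(x : Ω), hUS x.2⟩ : S)⁻¹, ⟨g, hg⟩⁆ := by
    apply Subtype.ext
    rw [commutatorElement_def]
    show (x : Ω)⁻¹ * (y : Ω) = (x : Ω)⁻¹ * g * (x : Ω)⁻¹⁻¹ * g⁻¹
    rw [hy]; group
  rw [h3]; exact h2

theorem inZ_top [Finite S] {p : ℕ} [Fact p.Prime] (hS : IsPGroup p S) {U : Subgroup Ω}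
    (hUS : U ≤ S) : ∃ c : ℕ, ∀ x : U, InZ hUS c x := by
  haveI : Group.IsNilpotent S := hS.isNilpotent
  obtain ⟨c, hc⟩ := Group.IsNilpotent.nilpotent S
  refine ⟨c, fun x => ?_⟩
  unfold InZ
  rw [hc]; trivial

/-- an automorphism of `p'`-order fixing `x⁻¹ β(x)` fixes `x`. -/
theorem aut_fix_of_comm_fix {p : ℕ} [Fact p.Prime] (hS : IsPGroup p S) {U : Subgroup Ω}
    (hUS : U ≤ S) (β : MulAut U) (hord : (orderOf β).Coprime p) (x : U)
    (hc : β (x⁻¹ * β x) = x⁻¹ * β x) : β x = x := by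
  have h5 := pow_apply_of_fixed β x (x⁻¹ * β x) (by group) hc (orderOf β)
  rw [pow_orderOf_eq_one] at h5
  have h6 : (x⁻¹ * β x) ^ orderOf β = 1 := by
    have h7 : x = x * (x⁻¹ * β x) ^ orderOf β := h5
    exact mul_eq_left.mp h7.symm
  have h8 : ((x⁻¹ * β x : U) : Ω) ^ orderOf β = 1 := by
    rw [← Subgroup.coe_pow, h6, Subgroup.coe_one]
  have h9 := eq_one_of_pow_coprime hS (hUS (x⁻¹ * β x).2) hord h8
  have h10 : x⁻¹ * β x = 1 := Subtype.ext h9
  exact (inv_mul_eq_one.mp h10).symm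

/-- core: a `p'`-automorphism in `Aut_F(U)` fixing the elements of order dividing `q` of the
critical subgroup lying in the hyperfocal subgroup is trivial. -/
theorem aut_trivial_of_fix [Finite S] {p q : ℕ} [Fact p.Prime] (hS : IsPGroup p S)
    (F : FusionSystem S) (hF : F.IsSaturated p) (hpq : p ∣ q)
    (hsum : p ∣ ∑ i ∈ Finset.range q, i) {U : Subgroup Ω} (hUS : U ≤ S) {Cr : Subgroup U}
    (hC : Crit p Cr) (β : MulAut U) (hβ : β ∈ F.autGroup U) (hord : (orderOf β).Coprime p)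
    (hfix : ∀ x : U, x ∈ Cr → (x : Ω) ∈ F.hyperfocalSubgroup p → x ^ q = 1 → β x = x) :
    β = 1 := by
  haveI : Finite U := finite_of_le hUS
  have hhyp := hyperfocal_stronglyClosed p hS F hF
  have hUp : IsPGroup p U := hS.to_le hUS
  obtain ⟨W, hWdef⟩ : ∃ W : Subgroup U, W = Cr ⊓ (F.hyperfocalSubgroup p).subgroupOf U :=
    ⟨_, rfl⟩
  have hWinv : ∀ w ∈ W, β w ∈ W := by
    intro w hw
    rw [hWdef] at hw ⊢
    exact ⟨crit_mem_of_aut hC β hw.1, Subgroup.mem_subgroupOf.mpr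
      (pres_of_stronglyClosed F hhyp hUS β hβ w (Subgroup.mem_subgroupOf.mp hw.2))⟩
  have hWfix : ∀ y ∈ W, β y = y :=
    omega_aut_sub p q hpq hsum W (hUp.to_subgroup W) β hord hWinv
      (fun y hy hyq => by
        rw [hWdef] at hy
        exact hfix y hy.1 (Subgroup.mem_subgroupOf.mp hy.2) hyq)
  have hres : (⟨β, hβ⟩ : F.autGroup U) ∈ pResidual p (F.autGroup U) := by
    apply Subgroup.subset_closure
    show (orderOf (⟨β, hβ⟩ : F.autGroup U)).Coprime p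
    rw [Subgroup.orderOf_mk]; exact hord
  have hCrfix : ∀ x ∈ Cr, β x = x := by
    intro x hx
    apply aut_fix_of_comm_fix hS hUS β hord x
    apply hWfix
    rw [hWdef]
    exact ⟨Cr.mul_mem (Cr.inv_mem hx) (crit_mem_of_aut hC β hx),
      Subgroup.mem_subgroupOf.mpr (mem_hyperfocal_of F p hUS ⟨β, hβ⟩ hres x)⟩
  haveI := hC.char
  have hCrn : Cr.Normal := inferInstance
  ext x
  have hall : β x = x := by
    apply aut_fix_of_comm_fix hS hUS β hord x
    apply hCrfix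
    apply hC.cent
    rw [Subgroup.mem_centralizer_iff]
    intro h hh
    have e1 : β (x * h * x⁻¹) = x * h * x⁻¹ := hCrfix _ (hCrn.conj_mem h hh x)
    have e : β x * h * (β x)⁻¹ = x * h * x⁻¹ := by
      rw [← e1, map_mul, map_mul, map_inv, hCrfix h hh]
    calc h * (x⁻¹ * β x) = x⁻¹ * (x * h * x⁻¹) * β x := by group
      _ = x⁻¹ * (β x * h * (β x)⁻¹) * β x := by rw [e]
      _ = (x⁻¹ * β x) * h := by group
  rw [hall]; rfl

/-- the restriction of an `F`-automorphism of `U` to the cyclic subgroup generated by `x`. -/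
theorem restrict_zpowers_mem (F : FusionSystem S) {U : Subgroup Ω} (hUS : U ≤ S) (γ : MulAut U)
    (hγ : γ ∈ F.autGroup U) (x : U) :
    ∃ φ : Subgroup.zpowers (x : Ω) →* Ω,
      φ ∈ F.homSet (Subgroup.zpowers (x : Ω)) (Subgroup.zpowers ((γ x : U) : Ω)) ∧
      φ ⟨x, Subgroup.mem_zpowers _⟩ = ((γ x : U) : Ω) := by
  have hle : Subgroup.zpowers (x : Ω) ≤ U := (Subgroup.zpowers_le).mpr x.2
  have hγF := (mem_autGroup_iff F hUS γ).mp hγ
  refine ⟨(U.subtype.comp γ.toMonoidHom).comp (Subgroup.inclusion hle),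
    ⟨restrict_mem F hγF hle, fun y => ?_⟩, rfl⟩
  obtain ⟨k, hk⟩ := Subgroup.mem_zpowers_iff.mp y.2
  have h1 : Subgroup.inclusion hle y = x ^ k := by
    apply Subtype.ext
    rw [Subgroup.coe_zpow]
    exact hk.symm
  show ((γ (Subgroup.inclusion hle y) : U) : Ω) ∈ _
  rw [h1, map_zpow, Subgroup.coe_zpow]
  exact Subgroup.zpow_mem_zpowers _ k

/-- the two cyclic subgroups have order `p` or `4`. -/
theorem zpowers_data {p q : ℕ} [Fact p.Prime] (hq : q = p ∨ (p = 2 ∧ q = 4)) {U : Subgroup Ω}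
    (γ : MulAut U) {x : U} (hxq : x ^ q = 1) (hx1 : x ≠ 1) :
    (Nat.card (Subgroup.zpowers (x : Ω)) = p ∨ Nat.card (Subgroup.zpowers (x : Ω)) = 4) ∧
    (Nat.card (Subgroup.zpowers ((γ x : U) : Ω)) = p ∨
      Nat.card (Subgroup.zpowers ((γ x : U) : Ω)) = 4) := by
  constructor
  · apply card_zpowers_of_pow hq
    · rw [← Subgroup.coe_pow, hxq, Subgroup.coe_one]
    · intro h; exact hx1 (Subtype.ext h)
  · apply card_zpowers_of_pow hq
    · rw [← Subgroup.coe_pow, ← map_pow, hxq, map_one, Subgroup.coe_one]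
    · intro h
      have h1 : γ x = 1 := Subtype.ext h
      exact hx1 (by rw [← map_one γ] at h1; exact γ.injective h1)

/-- `S5298`: all automorphism groups are `p`-groups. -/
theorem autGroup_isPGroup_of_inner_control [Finite S] (p : ℕ) [Fact p.Prime] (hS : IsPGroup p S)
    (F : FusionSystem S) (hF : F.IsSaturated p)
    (h : ∀ A B : Subgroup Ω, A ≤ (F.hyperfocalSubgroup p) → B ≤ (F.hyperfocalSubgroup p) →
      IsCyclic ↥A → (Nat.card ↥A = p ∨ Nat.card ↥A = 4) → IsCyclic ↥B →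
      (Nat.card ↥B = p ∨ Nat.card ↥B = 4) → F.homSet A B ⊆ (innerFusionSystem S).Hom A)
    (V : Subgroup Ω) (hVS : V ≤ S) : IsPGroup p (F.autGroup V) := by
  haveI : Finite V := finite_of_le hVS
  have hhyp := hyperfocal_stronglyClosed p hS F hF
  obtain ⟨q, hpq, hsum, hq⟩ := exists_q p
  obtain ⟨Cr, hC⟩ := exists_crit (hS.to_le hVS)
  apply isPGroup_of_coprime_trivial
  rintro ⟨β, hβ⟩ hord
  have hord' : (orderOf β).Coprime p := by
    rw [Subgroup.orderOf_mk] at hord; exact hord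
  apply Subtype.ext
  show β = 1
  apply aut_trivial_of_fix hS F hF hpq hsum hVS hC β hβ hord'
  have hconj : ∀ x : V, (x : Ω) ∈ F.hyperfocalSubgroup p → x ^ q = 1 →
      ∃ s ∈ S, ((β x : V) : Ω) = s * x * s⁻¹ := by
    intro x hxH hxq
    by_cases hx1 : x = 1
    · refine ⟨1, S.one_mem, ?_⟩
      rw [hx1, map_one]; simp
    obtain ⟨φ, hφ, hφx⟩ := restrict_zpowers_mem F hVS β hβ x
    obtain ⟨hcA, hcB⟩ := zpowers_data hq β hxq hx1
    have hA : Subgroup.zpowers (x : Ω) ≤ F.hyperfocalSubgroup p :=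
      (Subgroup.zpowers_le).mpr hxH
    have hB : Subgroup.zpowers ((β x : V) : Ω) ≤ F.hyperfocalSubgroup p :=
      (Subgroup.zpowers_le).mpr (pres_of_stronglyClosed F hhyp hVS β hβ x hxH)
    obtain ⟨-, g, hg, hgφ⟩ := h _ _ hA hB inferInstance hcA inferInstance hcB hφ
    exact ⟨g, hg, by rw [← hφx]; exact hgφ _⟩
  obtain ⟨c, hc⟩ := inZ_top hS hVS
  have key : ∀ i : ℕ, ∀ x : V, x ∈ Cr → (x : Ω) ∈ F.hyperfocalSubgroup p → x ^ q = 1 →
      InZ hVS i x → β x = x := by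
    intro i
    induction i with
    | zero =>
      intro x _ _ _ hx
      rw [inZ_zero hVS hx, map_one]
    | succ i ih =>
      intro x hxC hxH hxq hxZ
      obtain ⟨s, hs, hsx⟩ := hconj x hxH hxq
      have hz : InZ hVS i (x⁻¹ * β x) := inZ_comm hVS hxZ hs hsx
      have hβC : β x ∈ Cr := crit_mem_of_aut hC β hxC
      apply aut_fix_of_comm_fix hS hVS β hord' x
      apply ih _ (Cr.mul_mem (Cr.inv_mem hxC) hβC) _ _ hz
      · exact (F.hyperfocalSubgroup p).mul_mem ((F.hyperfocalSubgroup p).inv_mem hxH)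
          (pres_of_stronglyClosed F hhyp hVS β hβ x hxH)
      · rw [crit_mul_pow hC hsum hβC (Cr.inv_mem hxC), inv_pow, hxq, ← map_pow, hxq, map_one]
        simp
  intro x hxC hxH hxq
  exact key c x hxC hxH hxq (hc x)

/-- `S5298` -/
theorem eq_inner_of_cyclic_control [Finite S] (p : ℕ) [Fact p.Prime] (hS : IsPGroup p S)
    (F : FusionSystem S) (hF : F.IsSaturated p)
    (h : ∀ A B : Subgroup Ω, A ≤ (F.hyperfocalSubgroup p) → B ≤ (F.hyperfocalSubgroup p) →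
      IsCyclic ↥A → (Nat.card ↥A = p ∨ Nat.card ↥A = 4) → IsCyclic ↥B →
      (Nat.card ↥B = p ∨ Nat.card ↥B = 4) → F.homSet A B ⊆ (innerFusionSystem S).Hom A) :
    ∀ P : Subgroup Ω, F.Hom P = (innerFusionSystem S).Hom P :=
  eq_inner_of_isPGroup p hS F hF
    (fun P hP => autGroup_isPGroup_of_inner_control p hS F hF h P hP)

end Cfsg.Agent.Lib_helper9_FusionCyc
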