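import Mathlib
import Cfsg.Prelude.Def_FusionSystem
import Cfsg.Prelude.Def_PLocal
import Cfsg.Agent.Lib_helper9_FusionCyc

set_option autoImplicit false

namespace Cfsg.Agent.Lib_helper9_FusionCyc2

open Cfsg Cfsg.FusionSystem Cfsg.Agent.Lib_helper9_Fusion Cfsg.Agent.Lib_helper9_FusionNC
  Cfsg.Agent.Lib_helper9_FusionSat Cfsg.Agent.Lib_helper9_FusionGen
  Cfsg.Agent.Lib_helper9_FusionGen2 Cfsg.Agent.Lib_helper9_FusionNormal
  Cfsg.Agent.Lib_helper9_FusionChain Cfsg.Agent.Lib_helper9_Omega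
  Cfsg.Agent.Lib_helper9_FusionFocal Cfsg.Agent.Lib_helper9_FusionCyc

open scoped commutatorElement

variable {Ω : Type*} [Group Ω] {S : Subgroup Ω}

/-- a map of the normalizer system of `S` preserves the upper central series of `S`. -/
theorem inZ_of_normalizerHom [Finite S] (F : FusionSystem S) {U : Subgroup Ω} (hUS : U ≤ S)
    {A : Subgroup Ω} (φ : A →* Ω) (hφ : φ ∈ F.normalizerHom S A) (x : U) (hxA : (x : Ω) ∈ A)
    (y : U) (hy : (y : Ω) = φ ⟨x, hxA⟩) (i : ℕ) (hx : InZ hUS i x) : InZ hUS i y := by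
  obtain ⟨hφF, -, -, ψ, hψ, hext, hmap⟩ := hφ
  have hSle : S ≤ A ⊔ S := le_sup_right
  have hmem : ∀ s : S, ψ (Subgroup.inclusion hSle s) ∈ S := by
    intro s
    have h1 : ψ (Subgroup.inclusion hSle s) ∈ (S.subgroupOf (A ⊔ S)).map ψ :=
      ⟨Subgroup.inclusion hSle s, Subgroup.mem_subgroupOf.mpr s.2, rfl⟩
    rw [hmap] at h1; exact h1
  obtain ⟨θ, hθ⟩ : ∃ θ : S →* S,
      θ = (ψ.comp (Subgroup.inclusion hSle)).codRestrict S hmem := ⟨_, rfl⟩
  have hθx : ∀ s : S, ((θ s : S) : Ω) = ψ (Subgroup.inclusion hSle s) := by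
    intro s; rw [hθ]; rfl
  have hinj : Function.Injective θ := by
    intro a b hab
    have h1 : ψ (Subgroup.inclusion hSle a) = ψ (Subgroup.inclusion hSle b) := by
      rw [← hθx, ← hθx, hab]
    have h2 := F.injective_of_mem hψ h1
    exact Subgroup.inclusion_injective hSle h2
  have hbij : Function.Bijective θ := ⟨hinj, Finite.surjective_of_injective hinj⟩
  obtain ⟨e, he⟩ : ∃ e : S ≃* S, e = MulEquiv.ofBijective θ hbij := ⟨_, rfl⟩
  unfold InZ at hx ⊢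
  have h3 := (Subgroup.characteristic_iff_le_comap.mp inferInstance e) hx
  have h4 : e ⟨(x : Ω), hUS x.2⟩ ∈ Subgroup.upperCentralSeries S i := h3
  have h5 : (⟨(y : Ω), hUS y.2⟩ : S) = e ⟨(x : Ω), hUS x.2⟩ := by
    apply Subtype.ext
    rw [he]
    show (y : Ω) = ((θ ⟨(x : Ω), hUS x.2⟩ : S) : Ω)
    rw [hθx, hy, ← hext ⟨x, hxA⟩]
    rfl
  rw [h5]; exact h4

/-- invariance condition for automorphisms. -/
def Pres (F : FusionSystem S) (p q : ℕ) {U : Subgroup Ω} (hUS : U ≤ S) (Cr : Subgroup U)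
    (χ : MulAut U) : Prop :=
  ∀ x : U, x ∈ Cr → (x : Ω) ∈ F.hyperfocalSubgroup p → x ^ q = 1 →
    (χ x ∈ Cr ∧ ((χ x : U) : Ω) ∈ F.hyperfocalSubgroup p ∧ (χ x) ^ q = 1 ∧
      ∀ i, InZ hUS i x → InZ hUS i (χ x))

/-- the stability condition. -/
def SC (F : FusionSystem S) (p q : ℕ) {U : Subgroup Ω} (hUS : U ≤ S) (Cr : Subgroup U)
    (χ : MulAut U) : Prop :=
  ∀ i : ℕ, ∀ x : U, x ∈ Cr → (x : Ω) ∈ F.hyperfocalSubgroup p → x ^ q = 1 →
    InZ hUS (i + 1) x → InZ hUS i (x⁻¹ * χ x)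

theorem sc_one (F : FusionSystem S) (p q : ℕ) {U : Subgroup Ω} (hUS : U ≤ S) (Cr : Subgroup U) :
    SC F p q hUS Cr 1 := by
  intro i x _ _ _ _
  have h1 : x⁻¹ * (1 : MulAut U) x = 1 := by simp
  rw [h1]; exact inZ_one hUS i

theorem sc_mul {F : FusionSystem S} {p q : ℕ} {U : Subgroup Ω} {hUS : U ≤ S} {Cr : Subgroup U}
    {χ₁ χ₂ : MulAut U} (h₁ : SC F p q hUS Cr χ₁) (h₂ : SC F p q hUS Cr χ₂)
    (hp₂ : Pres F p q hUS Cr χ₂) : SC F p q hUS Cr (χ₁ * χ₂) := by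
  intro i x hxC hxH hxq hxZ
  obtain ⟨hcC, hcH, hcq, hcZ⟩ := hp₂ x hxC hxH hxq
  have h3 := inZ_mul hUS (h₂ i x hxC hxH hxq hxZ) (h₁ i (χ₂ x) hcC hcH hcq (hcZ _ hxZ))
  have h4 : x⁻¹ * χ₂ x * ((χ₂ x)⁻¹ * χ₁ (χ₂ x)) = x⁻¹ * (χ₁ * χ₂) x := by
    rw [MulAut.mul_apply]; group
  rw [h4] at h3; exact h3

theorem sc_pow {F : FusionSystem S} {p q : ℕ} {U : Subgroup Ω} {hUS : U ≤ S} {Cr : Subgroup U}
    {χ : MulAut U} (h : SC F p q hUS Cr χ) (hp : Pres F p q hUS Cr χ) (k : ℕ) :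
    SC F p q hUS Cr (χ ^ k) := by
  induction k with
  | zero => rw [pow_zero]; exact sc_one F p q hUS Cr
  | succ k ih => rw [pow_succ]; exact sc_mul ih h hp

theorem pres_of_mem [Finite S] {p q : ℕ} [Fact p.Prime] (hS : IsPGroup p S) (F : FusionSystem S)
    (hF : F.IsSaturated p)
    (h : ∀ A B : Subgroup Ω, A ≤ (F.hyperfocalSubgroup p) → B ≤ (F.hyperfocalSubgroup p) →
      IsCyclic ↥A → (Nat.card ↥A = p ∨ Nat.card ↥A = 4) → IsCyclic ↥B →
      (Nat.card ↥B = p ∨ Nat.card ↥B = 4) → F.homSet A B ⊆ F.normalizerHom S A)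
    (hq : q = p ∨ (p = 2 ∧ q = 4)) {U : Subgroup Ω} (hUS : U ≤ S) {Cr : Subgroup U}
    (hC : Crit p Cr) (γ : MulAut U) (hγ : γ ∈ F.autGroup U) : Pres F p q hUS Cr γ := by
  have hhyp := hyperfocal_stronglyClosed p hS F hF
  intro x hxC hxH hxq
  have hγH := pres_of_stronglyClosed F hhyp hUS γ hγ x hxH
  refine ⟨crit_mem_of_aut hC γ hxC, hγH, by rw [← map_pow, hxq, map_one], fun i hxZ => ?_⟩
  by_cases hx1 : x = 1
  · rw [hx1, map_one]; exact inZ_one hUS i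
  obtain ⟨φ, hφ, hφx⟩ := restrict_zpowers_mem F hUS γ hγ x
  obtain ⟨hcA, hcB⟩ := zpowers_data hq γ hxq hx1
  have hA : Subgroup.zpowers (x : Ω) ≤ F.hyperfocalSubgroup p := (Subgroup.zpowers_le).mpr hxH
  have hB : Subgroup.zpowers ((γ x : U) : Ω) ≤ F.hyperfocalSubgroup p :=
    (Subgroup.zpowers_le).mpr hγH
  have hφN := h _ _ hA hB inferInstance hcA inferInstance hcB hφ
  exact inZ_of_normalizerHom F hUS φ hφN x (Subgroup.mem_zpowers _) (γ x) hφx.symm i hxZ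

theorem autInducedBy_le_inn_of_cyclic_control [Finite S] {p : ℕ} [Fact p.Prime]
    (hS : IsPGroup p S) (F : FusionSystem S) (hF : F.IsSaturated p)
    (h : ∀ A B : Subgroup Ω, A ≤ (F.hyperfocalSubgroup p) → B ≤ (F.hyperfocalSubgroup p) →
      IsCyclic ↥A → (Nat.card ↥A = p ∨ Nat.card ↥A = 4) → IsCyclic ↥B →
      (Nat.card ↥B = p ∨ Nat.card ↥B = 4) → F.homSet A B ⊆ F.normalizerHom S A)
    {U : Subgroup Ω} (hUS : U ≤ S) (hrad : F.IsRadical p U) :
    autInducedBy S U ≤ Inn U := by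
  haveI : Finite U := finite_of_le hUS
  have hhyp := hyperfocal_stronglyClosed p hS F hF
  obtain ⟨q, hpq, hsum, hq⟩ := exists_q p
  obtain ⟨Cr, hC⟩ := exists_crit (hS.to_le hUS)
  have hpres : ∀ γ ∈ F.autGroup U, Pres F p q hUS Cr γ :=
    fun γ hγ => pres_of_mem hS F hF h hq hUS hC γ hγ
  have hcl : ∀ χ : F.autGroup U,
      χ ∈ Subgroup.closure {χ : F.autGroup U | SC F p q hUS Cr (χ : MulAut U)} →
      SC F p q hUS Cr (χ : MulAut U) := by
    intro χ hχ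
    induction hχ using Subgroup.closure_induction with
    | mem x hx => exact hx
    | one => exact sc_one F p q hUS Cr
    | mul x y _ _ hx hy => exact sc_mul hx hy (hpres _ y.2)
    | inv x _ hx =>
      have h1 : (x : MulAut U)⁻¹ = (x : MulAut U) ^ (orderOf (x : MulAut U) - 1) := by
        apply inv_eq_of_mul_eq_one_right
        rw [← pow_succ', Nat.sub_add_cancel (orderOf_pos _), pow_orderOf_eq_one]
      show SC F p q hUS Cr ((x : MulAut U)⁻¹)
      rw [h1]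
      exact sc_pow hx (hpres _ x.2) _
  have hnormal :
      (Subgroup.closure {χ : F.autGroup U | SC F p q hUS Cr (χ : MulAut U)}).Normal := by
    apply closure_normal_of_conj_closed
    intro γ χ hχ
    have hγi : ((γ : MulAut U)⁻¹) ∈ F.autGroup U := (γ⁻¹).2
    intro i x hxC hxH hxq hxZ
    obtain ⟨hwC, hwH, hwq, hwZ⟩ := hpres _ hγi x hxC hxH hxq
    have hzZ := hχ i _ hwC hwH hwq (hwZ _ hxZ)
    obtain ⟨hcC, hcH, hcq, -⟩ := hpres _ χ.2 _ hwC hwH hwq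
    have hzC : ((γ : MulAut U)⁻¹ x)⁻¹ * (χ : MulAut U) ((γ : MulAut U)⁻¹ x) ∈ Cr :=
      Cr.mul_mem (Cr.inv_mem hwC) hcC
    have hzH : (((((γ : MulAut U)⁻¹ x)⁻¹ * (χ : MulAut U) ((γ : MulAut U)⁻¹ x) : U)) : Ω) ∈
        F.hyperfocalSubgroup p :=
      (F.hyperfocalSubgroup p).mul_mem ((F.hyperfocalSubgroup p).inv_mem hwH) hcH
    have hzq : (((γ : MulAut U)⁻¹ x)⁻¹ * (χ : MulAut U) ((γ : MulAut U)⁻¹ x)) ^ q = 1 := by
      rw [crit_mul_pow hC hsum hcC (Cr.inv_mem hwC), inv_pow, hwq, hcq]; simp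
    have h2 := (hpres _ γ.2 _ hzC hzH hzq).2.2.2 i hzZ
    rw [map_mul, map_inv, MulAut.apply_inv_self] at h2
    exact h2
  have hp' : IsPGroup p
      (Subgroup.closure {χ : F.autGroup U | SC F p q hUS Cr (χ : MulAut U)}) := by
    apply isPGroup_of_coprime_trivial
    rintro ⟨χ, hχ⟩ hord
    have hcc := hcl χ hχ
    have e1 : orderOf (χ : MulAut U) = orderOf χ := Subgroup.orderOf_coe χ
    have e2 : orderOf χ = orderOf (⟨χ, hχ⟩ :
        Subgroup.closure {χ : F.autGroup U | SC F p q hUS Cr (χ : MulAut U)}) :=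
      Subgroup.orderOf_coe (⟨χ, hχ⟩ :
        Subgroup.closure {χ : F.autGroup U | SC F p q hUS Cr (χ : MulAut U)})
    have hord' : (orderOf (χ : MulAut U)).Coprime p := by rw [e1, e2]; exact hord
    apply Subtype.ext
    apply Subtype.ext
    show (χ : MulAut U) = 1
    apply aut_trivial_of_fix hS F hF hpq hsum hUS hC _ χ.2 hord'
    obtain ⟨c, hc⟩ := inZ_top hS hUS
    have key : ∀ i : ℕ, ∀ x : U, x ∈ Cr → (x : Ω) ∈ F.hyperfocalSubgroup p → x ^ q = 1 →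
        InZ hUS i x → (χ : MulAut U) x = x := by
      intro i
      induction i with
      | zero =>
        intro x _ _ _ hx
        rw [inZ_zero hUS hx, map_one]
      | succ i ih =>
        intro x hxC hxH hxq hxZ
        have hz := hcc i x hxC hxH hxq hxZ
        obtain ⟨hcC, hcH, hcq, -⟩ := hpres _ χ.2 x hxC hxH hxq
        apply aut_fix_of_comm_fix hS hUS _ hord' x
        apply ih _ (Cr.mul_mem (Cr.inv_mem hxC) hcC) _ _ hz
        · exact (F.hyperfocalSubgroup p).mul_mem ((F.hyperfocalSubgroup p).inv_mem hxH) hcH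
        · rw [crit_mul_pow hC hsum hcC (Cr.inv_mem hxC), inv_pow, hxq, hcq]; simp
    intro x hxC hxH hxq
    exact key c x hxC hxH hxq (hc x)
  have hX := le_pCore' hnormal hp'
  intro β hβ
  have hβA : β ∈ F.autGroup U := autInducedBy_le_autGroup F hUS hβ
  rw [mem_autInducedBy_iff] at hβ
  obtain ⟨g, hg, hgx⟩ := hβ
  have hβX : (⟨β, hβA⟩ : F.autGroup U) ∈
      Subgroup.closure {χ : F.autGroup U | SC F p q hUS Cr (χ : MulAut U)} := by
    apply Subgroup.subset_closure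
    intro i x _ _ _ hxZ
    exact inZ_comm hUS hxZ hg (hgx x)
  have h6 : β ∈ (pCore p (F.autGroup U)).map (F.autGroup U).subtype :=
    ⟨⟨β, hβA⟩, hX hβX, rfl⟩
  rw [hrad.2] at h6; exact h6

/-- `S5297` -/
theorem isNormal_top_of_cyclic_control [Finite S] (p : ℕ) [Fact p.Prime] (hS : IsPGroup p S)
    (F : FusionSystem S) (hF : F.IsSaturated p)
    (h : ∀ A B : Subgroup Ω, A ≤ (F.hyperfocalSubgroup p) → B ≤ (F.hyperfocalSubgroup p) →
      IsCyclic ↥A → (Nat.card ↥A = p ∨ Nat.card ↥A = 4) → IsCyclic ↥B →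
      (Nat.card ↥B = p ∨ Nat.card ↥B = 4) → F.homSet A B ⊆ F.normalizerHom S A) :
    F.IsNormal S := by
  have hSC : F.StronglyClosed S := ⟨le_rfl, fun R hR φ hφ x => (F.le_of_mem hφ).2 x⟩
  apply isNormal_of_stronglyClosed_le p hS F hF hSC
  intro U hfn hcen hrad
  have hUS := hfn.1
  have hle := autInducedBy_le_inn_of_cyclic_control hS F hF h hUS hrad
  exact le_of_normalizer_le hS hUS le_rfl (hUS.trans Subgroup.le_normalizer) (fun q hq hqN =>
    mem_of_autInducedBy_le_inn le_rfl hUS (hcen.2 U (isConj_refl F hUS)) hle hq hqN)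

end Cfsg.Agent.Lib_helper9_FusionCyc2
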