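import Mathlib
import Cfsg.Prelude.Def_FusionSystem
import Cfsg.Prelude.Def_FusionComponents
import Cfsg.Agent.Lib_helper9_FusionQuot
import Cfsg.Agent.Lib_helper9_FusionLift2
import Cfsg.Agent.Lib_helper9_FusionInner

set_option autoImplicit false

namespace Cfsg.Agent.Lib_helper9_FusionQS

open Cfsg Cfsg.FusionSystem Cfsg.Agent.Lib_helper9_Fusion Cfsg.Agent.Lib_helper9_FusionSat
  Cfsg.Agent.Lib_helper9_FusionGen Cfsg.Agent.Lib_helper9_FusionGen2
  Cfsg.Agent.Lib_helper9_FusionLift Cfsg.Agent.Lib_helper9_FusionLift2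
  Cfsg.Agent.Lib_helper9_FusionQuot Cfsg.Agent.Lib_helper9_FusionInner

variable {Ω : Type*} [Group Ω] {S : Subgroup Ω}

theorem isNormal_of_isCentral (F : FusionSystem S) {Q : Subgroup Ω} (hQ : F.IsCentral Q) :
    F.IsNormal Q := by
  refine ⟨hQ.1, fun P φ hφ => ?_⟩
  obtain ⟨ψ, hψ, hext, hfix⟩ := hQ.2 P φ hφ
  refine ⟨ψ, hψ, hext, ?_⟩
  ext y
  constructor
  · rintro ⟨z, hz, rfl⟩
    have h1 := hfix ⟨z, Subgroup.mem_subgroupOf.mp hz⟩
    have h2 : Subgroup.inclusion (le_sup_right : Q ≤ P ⊔ Q) ⟨z, Subgroup.mem_subgroupOf.mp hz⟩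
        = z := Subtype.ext rfl
    rw [h2] at h1
    rw [h1]; exact Subgroup.mem_subgroupOf.mp hz
  · intro hy
    exact ⟨⟨y, Subgroup.mem_sup_right hy⟩, Subgroup.mem_subgroupOf.mpr hy, hfix ⟨y, hy⟩⟩

theorem center_stronglyClosed [Finite S] (F : FusionSystem S) : F.StronglyClosed F.center :=
  stronglyClosed_of_isNormal F (isNormal_of_isCentral F (isCentral_center F))

/-- `S5148` -/
theorem quasisimple_nonabelian [Finite S] (p : ℕ) [Fact p.Prime] (hS : IsPGroup p S)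
    (F : FusionSystem S) (hq : F.Quasisimple p) : ¬ IsMulCommutative S := by
  intro hab
  obtain ⟨hF, hhyp, hall⟩ := hq
  have hZsc : F.StronglyClosed F.center := center_stronglyClosed F
  obtain ⟨E, hE⟩ := exists_factorSystem F F.center hZsc
  have hsimple := hall E hE
  have hmor := factor_morphism p hS F hF F.center hZsc _ E hE
  have hS' : IsPGroup p (⊤ : Subgroup (S ⧸ (F.center).subgroupOf S)) :=
    (hS.to_quotient _).to_subgroup _
  have hab' : ∀ x ∈ (⊤ : Subgroup (S ⧸ (F.center).subgroupOf S)),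
      ∀ y ∈ (⊤ : Subgroup (S ⧸ (F.center).subgroupOf S)), x * y = y * x := by
    intro x _ y _
    obtain ⟨a, rfl⟩ := QuotientGroup.mk_surjective x
    obtain ⟨b, rfl⟩ := QuotientGroup.mk_surjective y
    rw [← QuotientGroup.mk_mul, ← QuotientGroup.mk_mul, hab.is_comm.comm a b]
  obtain ⟨-, hinner⟩ := (simple_abelian_iff p hS' E hsimple.1 hab').mp hsimple
  have key : ∀ (P : Subgroup Ω) (φ : P →* Ω), φ ∈ F.Hom P → ∀ x : P,
      (x : Ω)⁻¹ * φ x ∈ F.center := by
    intro P φ hφ x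
    obtain ⟨φ', hφ', hPS, hφS, hPP', he⟩ := hmor.1.2 P φ hφ
    rw [hinner] at hφ'
    obtain ⟨-, g, -, hg⟩ := hφ'
    have h1 := he x
    rw [hg] at h1
    have h2 : g * (QuotientGroup.mk' ((F.center).subgroupOf S) ⟨x, hPS x.2⟩) * g⁻¹ =
        QuotientGroup.mk' ((F.center).subgroupOf S) ⟨x, hPS x.2⟩ := by
      rw [hab' g (Subgroup.mem_top _) _ (Subgroup.mem_top _)]; group
    have h3 : QuotientGroup.mk' ((F.center).subgroupOf S)
        ((⟨x, hPS x.2⟩ : S)⁻¹ * ⟨φ x, hφS x⟩) = 1 := by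
      rw [map_mul, map_inv, ← h1]
      rw [h2]
      exact inv_mul_cancel _
    exact (hE.2.1 _).mp h3
  have hle : F.hyperfocalSubgroup p ≤ F.center := by
    unfold hyperfocalSubgroup
    rw [Subgroup.closure_le]
    rintro y ⟨P, α, x, hPS, -, rfl⟩
    exact key P (P.subtype.comp (α : MulAut P).toMonoidHom) ((mem_autGroup_iff F hPS _).mp α.2) x
  rw [hhyp] at hle
  apply hsimple.2.1
  rw [eq_bot_iff]
  intro y _
  obtain ⟨a, rfl⟩ := QuotientGroup.mk_surjective y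
  rw [Subgroup.mem_bot, QuotientGroup.eq_one_iff, Subgroup.mem_subgroupOf]
  exact hle a.2

end Cfsg.Agent.Lib_helper9_FusionQS
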