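import Mathlib
import Cfsg.Prelude.Def_FusionSystem
import Cfsg.Agent.Lib_helper9_FusionGen
import Cfsg.Agent.Lib_helper9_FusionQS

set_option autoImplicit false

namespace Cfsg.Agent.Lib_helper9_FusionZDir

open Cfsg Cfsg.FusionSystem Cfsg.Agent.Lib_helper9_Fusion Cfsg.Agent.Lib_helper9_FusionSat
  Cfsg.Agent.Lib_helper9_FusionGen Cfsg.Agent.Lib_helper9_FusionQS

/-- fixed points of a group are a direct factor of the fixed points of a subgroup of index
prime to the order of the (abelian) group acted on. -/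
theorem fixed_direct_factor {Γ A : Type*} [Group Γ] [Finite Γ] [CommGroup A] [Finite A]
    (ρ : Γ →* MulAut A) (H : Subgroup Γ) (hcop : (H.index).Coprime (Nat.card A))
    (AH AΓ : Subgroup A) (hAH : ∀ a, a ∈ AH ↔ ∀ h ∈ H, ρ h a = a)
    (hAΓ : ∀ a, a ∈ AΓ ↔ ∀ g, ρ g a = a) :
    ∃ K : Subgroup A, K ≤ AH ∧ AΓ ⊓ K = ⊥ ∧ AΓ ⊔ K = AH := by
  classical
  haveI : Fintype (Γ ⧸ H) := Fintype.ofFinite _
  obtain ⟨rep, hrep⟩ : ∃ rep : Γ ⧸ H → Γ, ∀ q, ((rep q : Γ) : Γ ⧸ H) = q :=
    ⟨fun q => Quotient.out q, fun q => QuotientGroup.out_eq' q⟩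
  obtain ⟨tr, htr⟩ : ∃ tr : A →* A, ∀ a, tr a = ∏ q : Γ ⧸ H, ρ (rep q) a :=
    ⟨{ toFun := fun a => ∏ q : Γ ⧸ H, ρ (rep q) a
       map_one' := by simp
       map_mul' := fun a b => by simp [Finset.prod_mul_distrib] }, fun a => rfl⟩
  have hcoset : ∀ a ∈ AH, ∀ g g' : Γ, g⁻¹ * g' ∈ H → ρ g' a = ρ g a := by
    intro a ha g g' hgg'
    have h1 := (hAH a).mp ha _ hgg'
    have h2 : g' = g * (g⁻¹ * g') := by group
    rw [h2, map_mul, MulAut.mul_apply, h1]
  have hinv : ∀ a ∈ AH, ∀ g : Γ, ρ g (tr a) = tr a := by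
    intro a ha g
    rw [htr, map_prod]
    have h1 : ∀ q : Γ ⧸ H, ρ g (ρ (rep q) a) = ρ (rep (g • q)) a := by
      intro q
      rw [← MulAut.mul_apply, ← map_mul]
      apply hcoset a ha
      have h2 : ((g * rep q : Γ) : Γ ⧸ H) = g • q := by
        conv_rhs => rw [← hrep q]
        rfl
      have h3 : ((rep (g • q) : Γ) : Γ ⧸ H) = ((g * rep q : Γ) : Γ ⧸ H) := by
        rw [h2]; exact hrep _
      exact QuotientGroup.eq.mp h3
    rw [Finset.prod_congr rfl (fun q _ => h1 q)]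
    exact Function.Bijective.prod_comp (MulAction.bijective g) (fun q => ρ (rep q) a)
  have hpow : ∀ a ∈ AΓ, tr a = a ^ H.index := by
    intro a ha
    rw [htr, Finset.prod_congr rfl (fun q _ => (hAΓ a).mp ha _), Finset.prod_const,
      Finset.card_univ, Subgroup.index_eq_card, Nat.card_eq_fintype_card]
  have hΓH : AΓ ≤ AH := fun a ha => (hAH a).mpr (fun h _ => (hAΓ a).mp ha h)
  refine ⟨AH ⊓ tr.ker, inf_le_left, ?_, ?_⟩
  · rw [eq_bot_iff]
    rintro a ⟨ha, -, hk⟩
    rw [Subgroup.mem_bot]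
    have h1 : a ^ H.index = 1 := by rw [← hpow a ha]; exact hk
    have h2 : orderOf a ∣ H.index := orderOf_dvd_of_pow_eq_one h1
    have h3 : orderOf a ∣ Nat.card A := orderOf_dvd_natCard a
    exact orderOf_eq_one_iff.mp (Nat.eq_one_of_dvd_coprimes hcop h2 h3)
  · apply le_antisymm (sup_le hΓH inf_le_left)
    intro a ha
    have htrΓ : tr a ∈ AΓ := (hAΓ _).mpr (fun g => hinv a ha g)
    have hcop' : (Nat.card AΓ).Coprime H.index :=
      Nat.Coprime.coprime_dvd_left (Subgroup.card_subgroup_dvd_card AΓ) hcop.symm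
    obtain ⟨b, hb⟩ := (powCoprime hcop').surjective ⟨tr a, htrΓ⟩
    have hb' : (b : A) ^ H.index = tr a := by
      have h1 := congrArg Subtype.val hb
      simpa using h1
    have h1 : tr (a * (b : A)⁻¹) = 1 := by
      rw [map_mul, map_inv, hpow b b.2, hb', mul_inv_cancel]
    have h2 : a = (b : A) * (a * (b : A)⁻¹) := by
      rw [mul_comm a, mul_inv_cancel_left]
    rw [h2]
    exact Subgroup.mul_mem _ (Subgroup.mem_sup_left b.2)
      (Subgroup.mem_sup_right ⟨AH.mul_mem ha (AH.inv_mem (hΓH b.2)), h1⟩)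

variable {Ω : Type*} [Group Ω] {S : Subgroup Ω}

theorem center_le_center [Finite S] (p : ℕ) [Fact p.Prime] (hS : IsPGroup p S)
    (F : FusionSystem S) (hF : F.IsSaturated p) :
    F.center ≤ S ⊓ Subgroup.centralizer (S : Set Ω) := by
  have hc := (isCentral_iff_singleton p hS F hF F.center).mp (isCentral_center F)
  intro x hx
  refine ⟨hc.1 hx, Subgroup.mem_centralizer_iff.mpr (fun s hs => ?_)⟩
  have hle : Subgroup.zpowers x ≤ S := Subgroup.zpowers_le.mpr (hc.1 hx)
  have h1 : F.IsConjElt x (s * x * s⁻¹) := ⟨conjHom (Subgroup.zpowers x) s, F.conj_mem hle hs, rfl⟩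
  have h2 := hc.2 x hx _ h1
  calc s * x = s * x * s⁻¹ * s := by group
    _ = x * s := by rw [h2]

/-- `S5294` -/
theorem center_direct_factor [Finite S] (p : ℕ) [Fact p.Prime] (hS : IsPGroup p S)
    (F : FusionSystem S) (hF : F.IsSaturated p)
    (hZ : (S ⊓ Subgroup.centralizer (S : Set Ω)) ≤ F.core) :
    ∃ K : Subgroup Ω, K ≤ (S ⊓ Subgroup.centralizer (S : Set Ω)) ∧ F.center ⊓ K = ⊥ ∧
      F.center ⊔ K = (S ⊓ Subgroup.centralizer (S : Set Ω)) := by
  obtain ⟨Q, hQdef⟩ : ∃ Q, Q = F.core := ⟨_, rfl⟩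
  rw [← hQdef] at hZ
  have hQn : F.IsNormal Q := hQdef ▸ isNormal_core F
  have hQS : Q ≤ S := hQn.1
  haveI : Finite Q := finite_of_le hQS
  have hQsc := stronglyClosed_of_isNormal F hQn
  have hQnorm : S ≤ Subgroup.normalizer (Q : Set Ω) := le_normalizer_of_stronglyClosed F hQsc
  have hFN : F.IsFullyNormalized Q := by
    refine ⟨hQS, fun Q' _ => ?_⟩
    have h1 : normalizerIn S Q = S := inf_eq_left.mpr hQnorm
    rw [h1]
    exact Subgroup.card_le_of_le inf_le_left
  obtain ⟨-, R, hR⟩ := (fullyNormalized_imp p hS F hF hFN).2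
  have hcen := (isCentral_iff_singleton p hS F hF F.center).mp (isCentral_center F)
  have hcenZ := center_le_center p hS F hF
  letI : CommGroup (Subgroup.center Q) :=
    { (inferInstance : Group (Subgroup.center Q)) with
      mul_comm := fun a b => Subtype.ext (Subgroup.mem_center_iff.mp b.2 a) }
  obtain ⟨ρ, hρ⟩ : ∃ ρ : F.autGroup Q →* MulAut (Subgroup.center Q),
      ∀ (g : F.autGroup Q) (a : Subgroup.center Q),
        ((ρ g a : Subgroup.center Q) : Q) = (g : MulAut Q) (a : Q) :=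
    ⟨(MulAut.characteristic (Subgroup.center Q)).comp (F.autGroup Q).subtype, fun g a => rfl⟩
  obtain ⟨ι, hι⟩ : ∃ ι : Subgroup.center Q →* Ω, ∀ a, ι a = ((a : Q) : Ω) :=
    ⟨Q.subtype.comp (Subgroup.center Q).subtype, fun a => rfl⟩
  have hιinj : Function.Injective ι := by
    intro a b hab
    rw [hι, hι] at hab
    exact Subtype.ext (Subtype.ext hab)
  have hZr : S ⊓ Subgroup.centralizer (S : Set Ω) ≤ ι.range := by
    intro z hz
    have hzQ : z ∈ Q := hZ hz
    have hzc : (⟨z, hzQ⟩ : Q) ∈ Subgroup.center Q := by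
      rw [Subgroup.mem_center_iff]
      intro g
      apply Subtype.ext
      exact (Subgroup.mem_centralizer_iff.mp hz.2) g (hQS g.2)
    exact ⟨⟨⟨z, hzQ⟩, hzc⟩, hι _⟩
  have hAHeq : ((S ⊓ Subgroup.centralizer (S : Set Ω)).comap ι).map ι =
      S ⊓ Subgroup.centralizer (S : Set Ω) := Subgroup.map_comap_eq_self hZr
  have hAΓeq : (F.center.comap ι).map ι = F.center :=
    Subgroup.map_comap_eq_self (hcenZ.trans hZr)
  have hAH : ∀ a, a ∈ (S ⊓ Subgroup.centralizer (S : Set Ω)).comap ι ↔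
      ∀ h ∈ (R : Subgroup (F.autGroup Q)), ρ h a = a := by
    intro a
    rw [Subgroup.mem_comap]
    constructor
    · intro ha h hh
      rw [hR] at hh
      have hh' : (h : MulAut Q) ∈ autInducedBy S Q := Subgroup.mem_subgroupOf.mp hh
      obtain ⟨s, hs, hsx⟩ := (mem_autInducedBy_iff S Q _).mp hh'
      apply hιinj
      rw [hι, hρ, hsx, ← hι]
      have h1 := (Subgroup.mem_centralizer_iff.mp ha.2) s hs
      rw [h1]; group
    · intro ha
      refine ⟨by rw [hι]; exact hQS (a : Q).2, Subgroup.mem_centralizer_iff.mpr (fun s hs => ?_)⟩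
      have hcs : Subgroup.normalizerMonoidHom Q ⟨s, hQnorm hs⟩ ∈ autInducedBy S Q :=
        (mem_autInducedBy_iff S Q _).mpr ⟨s, hs, fun x => rfl⟩
      have hcsF := autInducedBy_le_autGroup F hQS hcs
      have h1 := ha ⟨_, hcsF⟩ (by rw [hR]; exact Subgroup.mem_subgroupOf.mpr hcs)
      have h2 : ι (ρ ⟨_, hcsF⟩ a) = s * ι a * s⁻¹ := by
        rw [hι, hρ, hι]; rfl
      rw [h1] at h2
      calc s * ι a = s * ι a * s⁻¹ * s := by group
        _ = ι a * s := by rw [← h2]
  have hAΓ : ∀ a, a ∈ F.center.comap ι ↔ ∀ g, ρ g a = a := by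
    intro a
    rw [Subgroup.mem_comap]
    constructor
    · intro ha g
      apply hιinj
      have hgF := (mem_autGroup_iff F hQS (g : MulAut Q)).mp g.2
      have haQ : ι a ∈ Q := by rw [hι]; exact (a : Q).2
      have hle : Subgroup.zpowers (ι a) ≤ Q := Subgroup.zpowers_le.mpr haQ
      have h1 : F.IsConjElt (ι a) (ι (ρ g a)) := by
        refine ⟨_, restrict_mem F hgF hle, ?_⟩
        rw [hι (ρ g a), hρ]
        have h3 : (⟨ι a, haQ⟩ : Q) = (a : Q) := Subtype.ext (hι a)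
        show (((g : MulAut Q) ⟨ι a, haQ⟩ : Q) : Ω) = _
        rw [h3]
      exact hcen.2 _ ha _ h1
    · intro ha
      have haQ : ι a ∈ Q := by rw [hι]; exact (a : Q).2
      have hle : Subgroup.zpowers (ι a) ≤ S := Subgroup.zpowers_le.mpr (hQS haQ)
      have hcentral : F.IsCentral (Subgroup.zpowers (ι a)) := by
        rw [isCentral_iff_singleton p hS F hF]
        refine ⟨hle, fun x' hx' y hy => ?_⟩
        obtain ⟨k, rfl⟩ := Subgroup.mem_zpowers_iff.mp hx'
        obtain ⟨φ, hφ, rfl⟩ := hy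
        obtain ⟨ψ, hψ, hext, hmap⟩ := hQn.2 _ φ hφ
        have hQle : Q ≤ Subgroup.zpowers (ι a ^ k) ⊔ Q := le_sup_right
        have hψQ : ψ.comp (Subgroup.inclusion le_sup_right) ∈ F.Hom Q :=
          restrict_mem F hψ le_sup_right
        have hr : (ψ.comp (Subgroup.inclusion
            (le_sup_right : Q ≤ Subgroup.zpowers (ι a ^ k) ⊔ Q))).range = Q := by
          ext y
          constructor
          · rintro ⟨q, rfl⟩
            have h1 : ψ (Subgroup.inclusion le_sup_right q) ∈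
                (Q.subgroupOf (Subgroup.zpowers (ι a ^ k) ⊔ Q)).map ψ :=
              ⟨_, Subgroup.mem_subgroupOf.mpr q.2, rfl⟩
            rw [hmap] at h1
            exact h1
          · intro hy
            rw [← hmap] at hy
            obtain ⟨u, hu, rfl⟩ := hy
            exact ⟨⟨u, Subgroup.mem_subgroupOf.mp hu⟩, rfl⟩
        have h1 := ha ⟨_, isoOf_mem_autGroup F hψQ hr⟩
        have h2 : ψ ⟨ι a, hQle haQ⟩ = ι a := by
          have h3 := congrArg ι h1
          rw [hι (ρ _ a), hρ] at h3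
          refine Eq.trans ?_ h3
          show _ = (ψ.comp (Subgroup.inclusion le_sup_right)) ⟨((a : Q) : Ω), _⟩
          show ψ _ = ψ _
          congr 1
          exact Subtype.ext (hι a)
        have h4 : (⟨ι a ^ k, hQle (Q.zpow_mem haQ k)⟩ :
            ↥(Subgroup.zpowers (ι a ^ k) ⊔ Q)) = ⟨ι a, hQle haQ⟩ ^ k := Subtype.ext rfl
        have h5 : φ ⟨ι a ^ k, Subgroup.mem_zpowers _⟩ =
            ψ ⟨ι a ^ k, hQle (Q.zpow_mem haQ k)⟩ := by
          rw [← hext]
          congr 1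
        rw [h5, h4, map_zpow, h2]
      exact (le_sSup hcentral : Subgroup.zpowers (ι a) ≤ F.center) (Subgroup.mem_zpowers _)
  have hcard : ∃ n : ℕ, Nat.card (Subgroup.center Q) = p ^ n :=
    IsPGroup.iff_card.mp ((hS.to_le hQS).to_subgroup _)
  obtain ⟨n, hn⟩ := hcard
  have hcop : ((R : Subgroup (F.autGroup Q)).index).Coprime (Nat.card (Subgroup.center Q)) := by
    rw [hn]
    apply Nat.Coprime.pow_right
    exact (Nat.coprime_comm.mp ((Nat.Prime.coprime_iff_not_dvd (Fact.out)).mpr R.not_dvd_index))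
  obtain ⟨K, hK1, hK2, hK3⟩ := fixed_direct_factor ρ (R : Subgroup (F.autGroup Q)) hcop _ _ hAH hAΓ
  refine ⟨K.map ι, ?_, ?_, ?_⟩
  · rw [← hAHeq]; exact Subgroup.map_mono hK1
  · rw [← hAΓeq, ← Subgroup.map_inf _ _ ι hιinj, hK2, Subgroup.map_bot]
  · rw [← hAΓeq, ← Subgroup.map_sup, hK3, hAHeq]

end Cfsg.Agent.Lib_helper9_FusionZDir
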