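import Mathlib
import Cfsg.Prelude.Def_FusionSystem
import Cfsg.Prelude.Def_FusionComponents
import Cfsg.Agent.Lib_helper9_FusionFocal
import Cfsg.Agent.Lib_helper9_FusionQS
import Cfsg.Agent.Lib_helper9_FusionSolv
import Cfsg.Agent.Lib_helper9_FusionZDir

set_option autoImplicit false

namespace Cfsg.Agent.Lib_helper9_FusionGrun

open Cfsg Cfsg.FusionSystem Cfsg.Agent.Lib_helper9_Fusion Cfsg.Agent.Lib_helper9_FusionSat
  Cfsg.Agent.Lib_helper9_FusionGen Cfsg.Agent.Lib_helper9_FusionNC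
  Cfsg.Agent.Lib_helper9_FusionFocal Cfsg.Agent.Lib_helper9_FusionQS
  Cfsg.Agent.Lib_helper9_FusionQuot Cfsg.Agent.Lib_helper9_FusionLift2
  Cfsg.Agent.Lib_helper9_FusionZDir

theorem comm_mul_left {G : Type*} [Group G] (x z y : G) (hz : z * y = y * z) :
    x * z * y * (x * z)⁻¹ * y⁻¹ = x * y * x⁻¹ * y⁻¹ := by
  calc x * z * y * (x * z)⁻¹ * y⁻¹ = x * (z * y) * z⁻¹ * x⁻¹ * y⁻¹ := by group
    _ = x * (y * z) * z⁻¹ * x⁻¹ * y⁻¹ := by rw [hz]
    _ = x * y * x⁻¹ * y⁻¹ := by group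

theorem comm_mul_right {G : Type*} [Group G] (x w z : G) (hz : z * x⁻¹ = x⁻¹ * z) :
    x * (w * z) * x⁻¹ * (w * z)⁻¹ = x * w * x⁻¹ * w⁻¹ := by
  calc x * (w * z) * x⁻¹ * (w * z)⁻¹ = x * w * (z * x⁻¹) * z⁻¹ * w⁻¹ := by group
    _ = x * w * (x⁻¹ * z) * z⁻¹ * w⁻¹ := by rw [hz]
    _ = x * w * x⁻¹ * w⁻¹ := by group

theorem commute_of_comm_eq {G : Type*} [Group G] (x a b : G)
    (h : x * a * x⁻¹ * a⁻¹ = x * b * x⁻¹ * b⁻¹) : x * (b⁻¹ * a) = (b⁻¹ * a) * x := by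
  have h1 : a * x⁻¹ * a⁻¹ = b * x⁻¹ * b⁻¹ := by
    calc a * x⁻¹ * a⁻¹ = x⁻¹ * (x * a * x⁻¹ * a⁻¹) := by group
      _ = x⁻¹ * (x * b * x⁻¹ * b⁻¹) := by rw [h]
      _ = b * x⁻¹ * b⁻¹ := by group
  have h2 : a * x * a⁻¹ = b * x * b⁻¹ := by
    calc a * x * a⁻¹ = (a * x⁻¹ * a⁻¹)⁻¹ := by group
      _ = (b * x⁻¹ * b⁻¹)⁻¹ := by rw [h1]
      _ = b * x * b⁻¹ := by group
  calc x * (b⁻¹ * a) = b⁻¹ * (b * x * b⁻¹) * a := by group
    _ = b⁻¹ * (a * x * a⁻¹) * a := by rw [h2]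
    _ = (b⁻¹ * a) * x := by group

variable {Ω : Type*} [Group Ω] {S : Subgroup Ω}

section
variable [Finite S] (p : ℕ) [Fact p.Prime] (hS : IsPGroup p S) (F : FusionSystem S)
  (hF : F.IsSaturated p)

include hS hF in
/-- maps of `F` fix the elements of the centre. -/
theorem center_fixed {D : Subgroup Ω} {ψ : D →* Ω} (hψ : ψ ∈ F.Hom D) {z : Ω}
    (hz : z ∈ F.center) (hzD : z ∈ D) : ψ ⟨z, hzD⟩ = z := by
  have hcen := (isCentral_iff_singleton p hS F hF F.center).mp (isCentral_center F)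
  have hle : Subgroup.zpowers z ≤ D := Subgroup.zpowers_le.mpr hzD
  exact hcen.2 z hz _ ⟨ψ.comp (Subgroup.inclusion hle), restrict_mem F hψ hle, rfl⟩

variable {Ω' : Type*} [Group Ω'] {S' : Subgroup Ω'} [Finite S'] (θ : S →* Ω')
  (E : FusionSystem S') (hE : F.IsFactorSystem F.center θ E)

include hS hF hE in
/-- maps of `F` move the elements of the second centre by central elements. -/
theorem second_center_move {x : Ω} (hx : x ∈ preimageAlong θ E.center) {P : Subgroup Ω}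
    {φ : P →* Ω} (hφ : φ ∈ F.Hom P) (hxP : x ∈ P) : x⁻¹ * φ ⟨x, hxP⟩ ∈ F.center := by
  obtain ⟨hmor, hr, hsurj⟩ := factor_morphism p hS F hF F.center (center_stronglyClosed F) θ E hE
  obtain ⟨φ', hφ', hPS, hφS, hPP', he⟩ := hmor.2 P φ hφ
  obtain ⟨ψ', hψ', hext, hfix⟩ := (isCentral_center E).2 (imageAlong θ P) φ' hφ'
  obtain ⟨hxS, hxc⟩ := (mem_preimageAlong θ E.center x).mp hx
  have h1 := hfix ⟨θ ⟨x, hxS⟩, hxc⟩
  have h2 := hext ⟨θ ⟨x, hPS hxP⟩, hPP' ⟨x, hxP⟩⟩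
  have h3 := he ⟨x, hxP⟩
  have h4 : θ ⟨φ ⟨x, hxP⟩, hφS _⟩ = θ ⟨x, hxS⟩ := by
    rw [← h3, ← h2]
    exact h1
  have h5 : θ ((⟨x, hxS⟩ : S)⁻¹ * ⟨φ ⟨x, hxP⟩, hφS _⟩) = 1 := by
    rw [map_mul, map_inv, h4, inv_mul_cancel]
  exact (hE.2.1 _).mp h5

include hS hF hE in
theorem center_le_second : F.center ≤ preimageAlong θ E.center := by
  intro z hz
  have hzS : z ∈ S := (isCentral_center F).1 hz
  refine (mem_preimageAlong θ E.center z).mpr ⟨hzS, ?_⟩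
  rw [(hE.2.1 ⟨z, hzS⟩).mpr hz]
  exact Subgroup.one_mem _

include hS hF hE in
/-- commutators with elements of the second centre are invariant under `F`. -/
theorem second_center_comm {x : Ω} (hx : x ∈ preimageAlong θ E.center) {R : Subgroup Ω}
    {φ : R →* Ω} (hφ : φ ∈ F.Hom R) (u : R) :
    x * φ u * x⁻¹ * (φ u)⁻¹ = x * u * x⁻¹ * (u : Ω)⁻¹ := by
  obtain ⟨hmor, hr, hsurj⟩ := factor_morphism p hS F hF F.center (center_stronglyClosed F) θ E hE
  have hcenZ := center_le_center p hS F hF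
  have hRS := (F.le_of_mem hφ).1
  obtain ⟨hxS, hxc⟩ := (mem_preimageAlong θ E.center x).mp hx
  obtain ⟨ψ₁, hψ₁, hext₁, hfix₁⟩ := (isCentral_center F).2 R φ hφ
  obtain ⟨ψ₁', hψ₁', hP₁S, hψ₁S, hP₁P', he₁⟩ := hmor.2 _ ψ₁ hψ₁
  obtain ⟨ψ₂', hψ₂', hext₂, hfix₂⟩ := (isCentral_center E).2 _ ψ₁' hψ₁'
  obtain ⟨hD'S', αt, hαt, hDS, hαtS, hDD', he₃⟩ := (hE.2.2.2 _ ψ₂').mp hψ₂'
  have huD : (u : Ω) ∈ preimageAlong θ (imageAlong θ (R ⊔ F.center) ⊔ E.center) :=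
    (mem_preimageAlong θ _ _).mpr ⟨hRS u.2, Subgroup.mem_sup_left
      ((mem_imageAlong θ _ _).mpr ⟨u, hRS u.2, Subgroup.mem_sup_left u.2, rfl⟩)⟩
  have hxD : x ∈ preimageAlong θ (imageAlong θ (R ⊔ F.center) ⊔ E.center) :=
    (mem_preimageAlong θ _ _).mpr ⟨hxS, Subgroup.mem_sup_right hxc⟩
  -- `αt u ∈ φ u * Z`
  have h4 : θ ⟨αt ⟨u, huD⟩, hαtS _⟩ = θ ⟨φ u, (F.le_of_mem hφ).2 u⟩ := by
    have e3 := he₃ ⟨u, huD⟩
    have e2 := hext₂ ⟨θ ⟨u, hRS u.2⟩, hP₁P' ⟨u, Subgroup.mem_sup_left u.2⟩⟩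
    have e1 := he₁ ⟨u, Subgroup.mem_sup_left u.2⟩
    have e0 := hext₁ u
    rw [← e3]
    refine Eq.trans e2 (Eq.trans e1 ?_)
    congr 1
    exact Subtype.ext e0
  have hz₂ : (φ u)⁻¹ * αt ⟨u, huD⟩ ∈ F.center := by
    have h5 : θ ((⟨φ u, (F.le_of_mem hφ).2 u⟩ : S)⁻¹ * ⟨αt ⟨u, huD⟩, hαtS _⟩) = 1 := by
      rw [map_mul, map_inv, h4, inv_mul_cancel]
    exact (hE.2.1 _).mp h5
  have hz₁ : x⁻¹ * αt ⟨x, hxD⟩ ∈ F.center := second_center_move p hS F hF θ E hE hx hαt hxD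
  -- the commutator is central
  have hκ : x * u * x⁻¹ * (u : Ω)⁻¹ ∈ F.center := by
    have hle : Subgroup.zpowers x ≤ S := Subgroup.zpowers_le.mpr hxS
    have h5 := second_center_move p hS F hF θ E hE hx (F.conj_mem hle (hRS u.2))
      (Subgroup.mem_zpowers x)
    have h6 : x⁻¹ * (conjHom (Subgroup.zpowers x) (u : Ω)) ⟨x, Subgroup.mem_zpowers x⟩ =
        x⁻¹ * ((u : Ω) * x * (u : Ω)⁻¹) := rfl
    rw [h6] at h5
    have h7 := Subgroup.inv_mem _ h5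
    have h8 := (Subgroup.mem_centralizer_iff.mp (hcenZ h7).2) x hxS
    have h9 : x * u * x⁻¹ * (u : Ω)⁻¹ = x * (x⁻¹ * ((u : Ω) * x * (u : Ω)⁻¹))⁻¹ * x⁻¹ := by group
    rw [h9, h8, mul_inv_cancel_right]
    exact h7
  have hκD : x * u * x⁻¹ * (u : Ω)⁻¹ ∈
      preimageAlong θ (imageAlong θ (R ⊔ F.center) ⊔ E.center) :=
    Subgroup.mul_mem _ (Subgroup.mul_mem _ (Subgroup.mul_mem _ hxD huD) (Subgroup.inv_mem _ hxD))
      (Subgroup.inv_mem _ huD)
  have h10 := center_fixed p hS F hF hαt hκ hκD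
  have h11 : (⟨x * u * x⁻¹ * (u : Ω)⁻¹, hκD⟩ :
      preimageAlong θ (imageAlong θ (R ⊔ F.center) ⊔ E.center)) =
      ⟨x, hxD⟩ * ⟨u, huD⟩ * ⟨x, hxD⟩⁻¹ * ⟨u, huD⟩⁻¹ := Subtype.ext rfl
  rw [h11, map_mul, map_mul, map_mul, map_inv, map_inv] at h10
  have h12 : αt ⟨x, hxD⟩ = x * (x⁻¹ * αt ⟨x, hxD⟩) := by group
  have h13 : αt ⟨u, huD⟩ = φ u * ((φ u)⁻¹ * αt ⟨u, huD⟩) := by group
  rw [h12, h13] at h10
  have hαuS : φ u * ((φ u)⁻¹ * αt ⟨u, huD⟩) ∈ S := by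
    rw [← h13]; exact hαtS _
  have c1 := (Subgroup.mem_centralizer_iff.mp (hcenZ hz₁).2) _ hαuS
  have c2 := (Subgroup.mem_centralizer_iff.mp (hcenZ hz₂).2) _ (S.inv_mem hxS)
  rw [comm_mul_left _ _ _ c1.symm, comm_mul_right _ _ _ c2.symm] at h10
  exact h10

include hS hF hE in
theorem second_center_le_centralizer (hperf : F.hyperfocalSubgroup p = S) :
    preimageAlong θ E.center ≤ Subgroup.centralizer (S : Set Ω) := by
  intro x hx
  have hle : F.hyperfocalSubgroup p ≤ Subgroup.centralizer ({x} : Set Ω) := by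
    unfold FusionSystem.hyperfocalSubgroup
    rw [Subgroup.closure_le]
    rintro y ⟨R, α, u, hRS, -, rfl⟩
    show _ ∈ Subgroup.centralizer ({x} : Set Ω)
    rw [Subgroup.mem_centralizer_iff]
    intro h hh
    rw [Set.mem_singleton_iff] at hh
    subst hh
    have hαF := (mem_autGroup_iff F hRS (α : MulAut R)).mp α.2
    have h1 := second_center_comm p hS F hF θ E hE hx hαF u
    exact commute_of_comm_eq _ _ _ h1
  rw [Subgroup.mem_centralizer_iff]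
  intro s hs
  rw [← hperf] at hs
  have h1 := (Subgroup.mem_centralizer_iff.mp (hle hs)) x (Set.mem_singleton x)
  exact h1.symm

include hS hF hE in
theorem presidual_fix {R : Subgroup Ω} (hRS : R ≤ S) (β : F.autGroup R)
    (hβ : β ∈ pResidual p (F.autGroup R)) :
    ∀ x : R, (x : Ω) ∈ preimageAlong θ E.center → (β : MulAut R) x = x := by
  unfold pResidual at hβ
  induction hβ using Subgroup.closure_induction with
  | mem g hg =>
    intro x hx
    have hg' : Nat.Coprime (orderOf g) p := hg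
    have hgF := (mem_autGroup_iff F hRS (g : MulAut R)).mp g.2
    have hz : ((x⁻¹ * (g : MulAut R) x : R) : Ω) ∈ F.center :=
      second_center_move p hS F hF θ E hE hx hgF x.2
    have hfix : (g : MulAut R) (x⁻¹ * (g : MulAut R) x) = x⁻¹ * (g : MulAut R) x :=
      Subtype.ext (center_fixed p hS F hF hgF hz (x⁻¹ * (g : MulAut R) x).2)
    have h1 := pow_apply_of_fixed (g : MulAut R) x (x⁻¹ * (g : MulAut R) x) (by group) hfix
      (orderOf g)
    have h2 : (g : MulAut R) ^ orderOf g = 1 := by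
      rw [← Subgroup.coe_pow, pow_orderOf_eq_one, Subgroup.coe_one]
    rw [h2] at h1
    have h3 : (x⁻¹ * (g : MulAut R) x) ^ orderOf g = 1 := by
      have h4 : x = x * (x⁻¹ * (g : MulAut R) x) ^ orderOf g := h1
      exact (mul_eq_left.mp h4.symm)
    have h5 : ((x⁻¹ * (g : MulAut R) x : R) : Ω) ^ orderOf g = 1 := by
      have := congrArg Subtype.val h3
      simpa using this
    have h6 := eq_one_of_pow_coprime hS (hRS (x⁻¹ * (g : MulAut R) x).2) hg' h5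
    have h7 : x⁻¹ * (g : MulAut R) x = 1 := Subtype.ext h6
    exact (inv_mul_eq_one.mp h7).symm
  | one => intro x _; rfl
  | mul a b _ _ ha hb =>
    intro x hx
    show (a : MulAut R) ((b : MulAut R) x) = x
    rw [hb x hx, ha x hx]
  | inv a _ ha =>
    intro x hx
    show (a : MulAut R)⁻¹ x = x
    have h1 := ha x hx
    calc (a : MulAut R)⁻¹ x = (a : MulAut R)⁻¹ ((a : MulAut R) x) := by rw [h1]
      _ = x := MulAut.inv_apply_self _ _ _

include hS hF hE in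
/-- `S5315` (general form) -/
theorem center_factor_eq_bot (hperf : F.hyperfocalSubgroup p = S) : E.center = ⊥ := by
  have hZ₂c := second_center_le_centralizer p hS F hF θ E hE hperf
  have hZZ₂ := center_le_second p hS F hF θ E hE
  let F₀ : FusionSystem S := subsystemOf F
    (fun P φ => ∀ x : P, (x : Ω) ∈ preimageAlong θ E.center → φ x = x)
    (fun {P g} _ hg x hx => by
      rw [conjHom_apply]
      have h1 := (Subgroup.mem_centralizer_iff.mp (hZ₂c hx)) g hg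
      rw [h1]; group)
    (fun {P Q φ ψ} _ _ h1 h2 h x hx => by
      have h3 : ((⟨φ x, h x⟩ : Q) : Ω) ∈ preimageAlong θ E.center := by
        show φ x ∈ _
        rw [h1 x hx]; exact hx
      exact (h2 ⟨φ x, h x⟩ h3).trans (h1 x hx))
    (fun {P φ ψ} hφ h1 hψ hψx => by
      rintro ⟨_, x, rfl⟩ hmem
      rw [hψx x]
      have h2 := second_center_move p hS F hF θ E hE hmem hψ ⟨x, rfl⟩
      rw [hψx x] at h2
      have h3 : (x : Ω) ∈ preimageAlong θ E.center := by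
        have h4 := Subgroup.mul_mem _ hmem (hZZ₂ h2)
        rw [mul_inv_cancel_left] at h4
        exact h4
      exact (h1 x h3).symm)
  have hle : F ≤ F₀ := by
    apply gen_fn p hS F hF F₀
    intro Q hQ α hα
    have hQS := hQ.1
    rw [mem_autGroup_iff F₀ hQS]
    refine ⟨(mem_autGroup_iff F hQS α).mp hα, fun x hx => ?_⟩
    obtain ⟨g, hg, β, hβ, hαx⟩ :=
      exists_decomp F (fullyNormalized_imp p hS F hF hQ).2 α hα
    show ((α x : Q) : Ω) = x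
    rw [hαx x, presidual_fix p hS F hF θ E hE hQS β hβ x hx]
    have h1 := (Subgroup.mem_centralizer_iff.mp (hZ₂c hx)) g hg
    rw [h1]; group
  have hcentral : F.IsCentral (preimageAlong θ E.center) := by
    rw [isCentral_iff_singleton p hS F hF]
    refine ⟨preimageAlong_le θ _, fun x hx y hy => ?_⟩
    obtain ⟨φ, hφ, rfl⟩ := hy
    exact (hle _ hφ).2 ⟨x, Subgroup.mem_zpowers x⟩ hx
  have hZ₂Z : preimageAlong θ E.center ≤ F.center := le_sSup hcentral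
  rw [eq_bot_iff]
  intro y hy
  have hyS' : y ∈ S' := (isCentral_center E).1 hy
  obtain ⟨s, rfl⟩ : y ∈ θ.range := by rw [hE.2.2.1]; exact hyS'
  have hs : (s : Ω) ∈ preimageAlong θ E.center := (mem_preimageAlong θ _ _).mpr ⟨s.2, hy⟩
  exact Subgroup.mem_bot.mpr ((hE.2.1 s).mpr (hZ₂Z hs))

end

end Cfsg.Agent.Lib_helper9_FusionGrun
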