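import Mathlib
import Cfsg.Prelude.Def_FusionSystem
import Cfsg.Prelude.Def_FusionComponents
import Cfsg.Agent.Lib_helper9_FusionQuot2
import Cfsg.Agent.Lib_helper9_GroupFusion
import Cfsg.Agent.Lib_helper9_FusionNormal
import Cfsg.Agent.Lib_helper9_FusionChain2

set_option autoImplicit false

namespace Cfsg.Agent.Lib_helper9_FusionModel

open Cfsg Cfsg.FusionSystem Cfsg.Agent.Lib_helper9_Fusion Cfsg.Agent.Lib_helper9_FusionSat
  Cfsg.Agent.Lib_helper9_FusionGen Cfsg.Agent.Lib_helper9_FusionGen2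
  Cfsg.Agent.Lib_helper9_FusionQuot Cfsg.Agent.Lib_helper9_FusionQuot2
  Cfsg.Agent.Lib_helper9_FusionNC Cfsg.Agent.Lib_helper9_FusionEss2
  Cfsg.Agent.Lib_helper9_PGroup Cfsg.Agent.Lib_helper9_GroupFusion
  Cfsg.Agent.Lib_helper9_FusionNormal Cfsg.Agent.Lib_helper9_FusionChain2

variable {Ω : Type*} [Group Ω] {S : Subgroup Ω} {G : Type*} [Group G]

/-- a fusion system realized by a finite group on a Sylow subgroup is saturated. -/
theorem realized_saturated [Finite S] [Finite G] (p : ℕ) [Fact p.Prime] (F : FusionSystem S)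
    (ι : S →* G) (hι : F.IsRealizedBy ι) (hT : ∃ T : Sylow p G, (T : Subgroup G) = ι.range) :
    F.IsSaturated p := by
  obtain ⟨hinj, hreal⟩ := hι
  obtain ⟨T, hT⟩ := hT
  have hsat := groupFusionSystem_saturated T
  have hp : IsPGroup p (T : Subgroup G) := T.isPGroup'
  rw [hT] at hsat hp
  obtain ⟨e, he⟩ : ∃ e : S ≃* ι.range, e = MonoidHom.ofInjective hinj := ⟨_, rfl⟩
  have he1 : ∀ t : ι.range, ι (e.symm t) = t := fun t => by
    have h1 : e (e.symm t) = t := e.apply_symm_apply t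
    have h2 : ((e (e.symm t) : ι.range) : G) = ι (e.symm t) := by rw [he]; rfl
    rw [← h2, h1]
  have hα : ∀ t : ι.range, (S.subtype.comp e.symm.toMonoidHom) t ∈ S := fun t => (e.symm t).2
  have hια : ∀ (t : ι.range) (h : (S.subtype.comp e.symm.toMonoidHom) t ∈ S),
      ι ⟨(S.subtype.comp e.symm.toMonoidHom) t, h⟩ = t := fun t h => he1 t
  have hker : ∀ t : ι.range, (S.subtype.comp e.symm.toMonoidHom) t = 1 → t = 1 := by
    intro t ht
    have h1 : e.symm t = 1 := Subtype.ext ht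
    exact (MulEquiv.map_eq_one_iff e.symm).mp h1
  apply surjective_saturated p hp (groupFusionSystem ι.range) hsat F
    (S.subtype.comp e.symm.toMonoidHom)
  refine ⟨⟨hα, ?_⟩, ?_, ?_⟩
  · rintro P' φ' ⟨hP', hφ'T, g, hg⟩
    have hk : ∀ x : P', (S.subtype.comp e.symm.toMonoidHom) ⟨x, hP' x.2⟩ = 1 →
        (S.subtype.comp e.symm.toMonoidHom) ⟨φ' x, hφ'T x⟩ = 1 := by
      intro x hx
      have h1 : (⟨x, hP' x.2⟩ : ι.range) = 1 := hker _ hx
      have h2 : (x : G) = 1 := congrArg Subtype.val h1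
      have h2' : x = 1 := Subtype.ext h2
      have h3 : (⟨φ' x, hφ'T x⟩ : ι.range) = 1 :=
        Subtype.ext (show φ' x = 1 by rw [h2', map_one])
      rw [h3, map_one]
    have hind := indHom_induced (S.subtype.comp e.symm.toMonoidHom) hP'
      (img_res _ hP') (img_surj _ hP') φ' hφ'T hk
    refine ⟨_, ?_, hind⟩
    have himgS : imageAlong (S.subtype.comp e.symm.toMonoidHom) P' ≤ S := by
      rintro _ ⟨t, -, rfl⟩
      exact hα t
    have hvalS : ∀ y : imageAlong (S.subtype.comp e.symm.toMonoidHom) P',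
        indHom (S.subtype.comp e.symm.toMonoidHom) hP' (img_res _ hP') (img_surj _ hP') φ' hφ'T hk y
          ∈ S := by
      intro y
      obtain ⟨x, rfl⟩ := img_surj (S.subtype.comp e.symm.toMonoidHom) hP' y
      have h1 := indHom_apply (S.subtype.comp e.symm.toMonoidHom) hP'
        (img_res _ hP') (img_surj _ hP') φ' hφ'T hk x
      refine (congrArg (· ∈ S) h1).mpr (hα _)
    rw [hreal _ himgS _ hvalS]
    refine ⟨g, fun y => ?_⟩
    obtain ⟨x, rfl⟩ := img_surj (S.subtype.comp e.symm.toMonoidHom) hP' y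
    have h1 := indHom_apply (S.subtype.comp e.symm.toMonoidHom) hP'
      (img_res _ hP') (img_surj _ hP') φ' hφ'T hk x
    have h2 : (⟨indHom (S.subtype.comp e.symm.toMonoidHom) hP' (img_res _ hP') (img_surj _ hP') φ'
        hφ'T hk (resHom (S.subtype.comp e.symm.toMonoidHom) hP' (img_res _ hP') x), hvalS _⟩ : S) =
        ⟨(S.subtype.comp e.symm.toMonoidHom) ⟨φ' x, hφ'T x⟩, hα _⟩ := Subtype.ext h1
    rw [h2, hια]
    have h3 : (⟨((resHom (S.subtype.comp e.symm.toMonoidHom) hP' (img_res _ hP') x :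
        imageAlong (S.subtype.comp e.symm.toMonoidHom) P') : Ω), himgS (resHom _ hP' (img_res _ hP') x).2⟩ : S) =
        ⟨(S.subtype.comp e.symm.toMonoidHom) ⟨x, hP' x.2⟩, hα _⟩ := Subtype.ext rfl
    rw [h3, hια]
    exact hg x
  · ext s
    constructor
    · rintro ⟨t, rfl⟩
      exact hα t
    · intro hs
      refine ⟨e ⟨s, hs⟩, ?_⟩
      show ((e.symm (e ⟨s, hs⟩) : S) : Ω) = s
      rw [e.symm_apply_apply]
  · intro P hP φ hφ
    have hφS := (F.le_of_mem hφ).2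
    obtain ⟨g, hg⟩ := (hreal P hP φ hφS).mp hφ
    have hle := preimageAlong_le (S.subtype.comp e.symm.toMonoidHom) P
    have hres := pre_res (S.subtype.comp e.symm.toMonoidHom) P
    have hval : ∀ t : preimageAlong (S.subtype.comp e.symm.toMonoidHom) P,
        conjHom _ g t ∈ ι.range := by
      intro t
      have h1 := hg ⟨_, hres t⟩
      rw [hια] at h1
      show g * (t : G) * g⁻¹ ∈ ι.range
      rw [← h1]
      exact ⟨_, rfl⟩
    refine ⟨conjHom _ g, ⟨hle, hval, g, fun x => rfl⟩, hle, hval, hres, fun t => ?_⟩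
    have h1 : ι ⟨φ ⟨_, hres t⟩, hφS _⟩ = g * ((⟨t, hle t.2⟩ : ι.range) : G) * g⁻¹ :=
      (hg ⟨_, hres t⟩).trans (congrArg (fun z => g * z * g⁻¹) (hια ⟨t, hle t.2⟩ (hα _)))
    have h2 : ι ⟨φ ⟨_, hres t⟩, hφS _⟩ = ι (e.symm ⟨conjHom _ g t, hval t⟩) := by
      rw [he1]; exact h1
    exact congrArg Subtype.val (hinj h2)

/-- `S5103` -/
theorem constrained_of_model [Finite S] (p : ℕ) [Fact p.Prime] (hS : IsPGroup p S)
    (F : FusionSystem S) (ι : S →* G) (hG : F.IsModel p G ι) : F.IsConstrained p := by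
  obtain ⟨hfin, hι, hT, hcent⟩ := hG
  haveI := hfin
  have hFsat := realized_saturated p F ι hι hT
  obtain ⟨hinj, hreal⟩ := hι
  obtain ⟨T, hT⟩ := hT
  have hOT : pCore p G ≤ ι.range := hT ▸ pCore_le_sylow' T
  haveI : (pCore p G).Normal := pCore_normal' p G
  obtain ⟨e, he⟩ : ∃ e : S ≃* ι.range, e = MonoidHom.ofInjective hinj := ⟨_, rfl⟩
  have he1 : ∀ t : ι.range, ι (e.symm t) = t := fun t => by
    have h1 : e (e.symm t) = t := e.apply_symm_apply t
    have h2 : ((e (e.symm t) : ι.range) : G) = ι (e.symm t) := by rw [he]; rfl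
    rw [← h2, h1]
  obtain ⟨Q, hQdef⟩ : ∃ Q : Subgroup Ω, Q = ((pCore p G).comap ι).map S.subtype := ⟨_, rfl⟩
  have hQmem : ∀ x : Ω, x ∈ Q ↔ ∃ h : x ∈ S, ι ⟨x, h⟩ ∈ pCore p G := by
    intro x
    rw [hQdef]
    constructor
    · rintro ⟨s, hs, rfl⟩; exact ⟨s.2, hs⟩
    · rintro ⟨h, hx⟩; exact ⟨⟨x, h⟩, hx, rfl⟩
  have hQS : Q ≤ S := fun x hx => ((hQmem x).mp hx).1
  have hQn : F.IsNormal Q := by
    rw [isNormal_iff_extend p hS F hFsat Q hQS]
    intro P hPQ φ hφ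
    have hP := hPQ.trans hQS
    have hφS := (F.le_of_mem hφ).2
    obtain ⟨g, hg⟩ := (hreal P hP φ hφS).mp hφ
    have hcg : ∀ q : Q, (MulAut.conj g).toMonoidHom.comp (ι.comp (Subgroup.inclusion hQS)) q ∈
        ι.range := fun q =>
      hOT (Subgroup.Normal.conj_mem inferInstance _ ((hQmem q).mp q.2).2 g)
    obtain ⟨ψ, hψdef⟩ : ∃ ψ : Q →* Ω, ψ = S.subtype.comp (e.symm.toMonoidHom.comp
        (((MulAut.conj g).toMonoidHom.comp (ι.comp (Subgroup.inclusion hQS))).codRestrict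
          ι.range hcg)) := ⟨_, rfl⟩
    have hψS : ∀ q : Q, ψ q ∈ S := fun q => by
      rw [hψdef]; exact (e.symm _).2
    have hιψ : ∀ q : Q, ι ⟨ψ q, hψS q⟩ = g * ι ⟨q, hQS q.2⟩ * g⁻¹ := by
      intro q
      have h1 : (⟨ψ q, hψS q⟩ : S) = e.symm ⟨(MulAut.conj g).toMonoidHom.comp
          (ι.comp (Subgroup.inclusion hQS)) q, hcg q⟩ := by
        apply Subtype.ext
        show ψ q = _
        rw [hψdef]; rfl
      rw [h1, he1]
      rfl
    have hψ : ψ ∈ F.Hom Q := (hreal Q hQS ψ hψS).mpr ⟨g, hιψ⟩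
    have hinto : ∀ q : Q, ψ q ∈ Q := fun q => by
      rw [hQmem]
      refine ⟨hψS q, ?_⟩
      rw [hιψ]
      exact Subgroup.Normal.conj_mem inferInstance _ ((hQmem q).mp q.2).2 g
    have hrange := range_eq_of_maps_into F hψ hinto
    refine ⟨isoOf ψ (F.injective_of_mem hψ) hrange, isoOf_mem_autGroup F hψ hrange, fun x => ?_⟩
    have h1 : ι ⟨ψ (Subgroup.inclusion hPQ x), hψS _⟩ = ι ⟨φ x, hφS x⟩ :=
      (hιψ _).trans (hg x).symm
    exact congrArg Subtype.val (hinj h1)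
  have hQsc := stronglyClosed_of_isNormal F hQn
  refine ⟨hFsat, Q, hQn, hQS, fun Q₂ hconj => ?_⟩
  obtain ⟨φ, hφ, rfl⟩ := hconj
  rw [(weaklyClosed_of_stronglyClosed F hQsc).2 φ hφ]
  intro c hc
  rw [hQmem]
  refine ⟨hc.1, hcent ?_⟩
  rw [Subgroup.mem_centralizer_iff]
  intro y hy
  obtain ⟨s, rfl⟩ := hOT hy
  have hsQ : (s : Ω) ∈ Q := (hQmem _).mpr ⟨s.2, hy⟩
  have h1 : (s : Ω) * c = c * s := Subgroup.mem_centralizer_iff.mp hc.2 _ hsQ
  have h2 : s * ⟨c, hc.1⟩ = ⟨c, hc.1⟩ * s := Subtype.ext h1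
  rw [← map_mul, h2, map_mul]

end Cfsg.Agent.Lib_helper9_FusionModel
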