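import Mathlib
import Cfsg.Prelude.Def_FusionSystem
import Cfsg.Prelude.Def_FusionComponents
import Cfsg.Agent.Lib_helper9_FusionQuot2
import Cfsg.Agent.Lib_helper9_FusionLift2
import Cfsg.Agent.Lib_helper9_FusionHyp
import Cfsg.Agent.Lib_helper9_FusionFocal

set_option autoImplicit false

namespace Cfsg.Agent.Lib_helper9_FusionQuot3

open Cfsg Cfsg.FusionSystem Cfsg.Agent.Lib_helper9_Fusion Cfsg.Agent.Lib_helper9_FusionSat
  Cfsg.Agent.Lib_helper9_FusionGen Cfsg.Agent.Lib_helper9_FusionGen2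
  Cfsg.Agent.Lib_helper9_FusionLift Cfsg.Agent.Lib_helper9_FusionLift2
  Cfsg.Agent.Lib_helper9_FusionQuot Cfsg.Agent.Lib_helper9_FusionQuot2
  Cfsg.Agent.Lib_helper9_FusionFocal Cfsg.Agent.Lib_helper9_FusionHyp

theorem pResidual_le_map {p : ℕ} [Fact p.Prime] {A B : Type*} [Group A] [Group B] [Finite A]
    (Φ : A →* B) (hΦ : Function.Surjective Φ) : pResidual p B ≤ (pResidual p A).map Φ := by
  unfold pResidual
  rw [Subgroup.closure_le]
  intro b hb
  obtain ⟨a, rfl⟩ := hΦ b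
  obtain ⟨k, hk1, hk2⟩ := exists_pprime_pow p a (Φ a) hb
  exact ⟨a ^ k, Subgroup.subset_closure hk1, by rw [map_pow, hk2]⟩

variable {Ω : Type*} [Group Ω] {S : Subgroup Ω} {Ω' : Type*} [Group Ω'] {S' : Subgroup Ω'}

theorem transport_aux (E : FusionSystem S') (p : ℕ) (H : Subgroup Ω') {P'' P' : Subgroup Ω'}
    (h : P'' = P')
    (hyp : ∀ β'' ∈ pResidual p (E.autGroup P''), ∀ x'' : P'',
      (x'' : Ω')⁻¹ * (((β'' : MulAut P'') x'' : P'') : Ω') ∈ H) :
    ∀ β' ∈ pResidual p (E.autGroup P'), ∀ x' : P',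
      (x' : Ω')⁻¹ * (((β' : MulAut P') x' : P') : Ω') ∈ H := by
  subst h; exact hyp

/-- `S5256` -/
theorem hyperfocal_factor [Finite S] (p : ℕ) [Fact p.Prime] (hS : IsPGroup p S)
    (F : FusionSystem S) (hF : F.IsSaturated p) (T : Subgroup Ω) (hT : F.StronglyClosed T)
    (θ : S →* Ω') (E : FusionSystem S') (hE : F.IsFactorSystem T θ E) :
    E.hyperfocalSubgroup p = ((F.hyperfocalSubgroup p).subgroupOf S).map θ := by
  obtain ⟨hmor, hr, hsurj⟩ := factor_morphism p hS F hF T hT θ E hE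
  have hK := Cfsg.Agent.S5131.result p hS F E θ hmor
  apply le_antisymm
  · have h0 : E.hyperfocalSubgroup p = Subgroup.closure _ := rfl
    rw [h0, Subgroup.closure_le]
    rintro y ⟨P', β', x', hP', hβ', rfl⟩
    have hKP := ker_le_pre θ P'
    have hPS := preimageAlong_le θ P'
    haveI : Finite (preimageAlong θ P') := finite_of_le hPS
    refine transport_aux E p _ (img_pre θ hr hP') ?_ β' hβ' x'
    intro β'' hβ'' x''
    have hΦ := autMap_surjective F E θ hK hmor hr hsurj hPS hKP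
    obtain ⟨β, hβ, rfl⟩ := pResidual_le_map _ hΦ hβ''
    obtain ⟨x, rfl⟩ := img_surj θ hPS x''
    refine ⟨(⟨x, hPS x.2⟩ : S)⁻¹ * ⟨((β : MulAut _) x : _), hPS ((β : MulAut _) x).2⟩,
      Subgroup.mem_subgroupOf.mpr (mem_hyperfocal_of F p hPS β hβ x), ?_⟩
    rw [map_mul, map_inv]
    congr 1
    exact (autMap_apply F E θ hK hmor hr hPS β x).symm
  · rw [Subgroup.map_le_iff_le_comap]
    have key : F.hyperfocalSubgroup p ≤ preimageAlong θ (E.hyperfocalSubgroup p) := by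
      have h0 : F.hyperfocalSubgroup p = Subgroup.closure _ := rfl
      rw [h0, Subgroup.closure_le]
      rintro y ⟨P, β, x, hP, hβ, rfl⟩
      have hyS : (x : Ω)⁻¹ * (((β : MulAut P) x : P) : Ω) ∈ S :=
        S.mul_mem (S.inv_mem (hP x.2)) (hP ((β : MulAut P) x).2)
      refine (mem_preimageAlong θ _ _).mpr ⟨hyS, ?_⟩
      have h1 : autMap F E θ hK hmor hr hP β ∈ pResidual p (E.autGroup (imageAlong θ P)) :=
        pResidual_map_le (p := p) (autMap F E θ hK hmor hr hP) ⟨β, hβ, rfl⟩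
      have h2 := mem_hyperfocal_of E p (imageAlong_le θ hr P) _ h1
        ⟨θ ⟨x, hP x.2⟩, img_res θ hP x⟩
      rw [autMap_apply] at h2
      have h3 : θ ⟨(x : Ω)⁻¹ * (((β : MulAut P) x : P) : Ω), hyS⟩ =
          (θ ⟨x, hP x.2⟩)⁻¹ * θ ⟨((β : MulAut P) x : P), hP ((β : MulAut P) x).2⟩ := by
        rw [← map_inv, ← map_mul]; rfl
      rw [h3]; exact h2
    intro s hs
    obtain ⟨_, h1⟩ := (mem_preimageAlong θ _ _).mp (key (Subgroup.mem_subgroupOf.mp hs))
    exact h1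

end Cfsg.Agent.Lib_helper9_FusionQuot3
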