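import Mathlib
import Cfsg.Prelude.Def_FusionSystem
import Cfsg.Prelude.Def_PLocal
import Cfsg.Agent.Lib_helper9_FusionCyc2
import Cfsg.Agent.Lib_helper9_FusionModel

set_option autoImplicit false

namespace Cfsg.Agent.Lib_helper9_FusionSparse

open Cfsg Cfsg.FusionSystem Cfsg.Agent.Lib_helper9_Fusion Cfsg.Agent.Lib_helper9_FusionNC
  Cfsg.Agent.Lib_helper9_FusionSat Cfsg.Agent.Lib_helper9_FusionGen
  Cfsg.Agent.Lib_helper9_FusionGen2 Cfsg.Agent.Lib_helper9_FusionNormal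
  Cfsg.Agent.Lib_helper9_FusionChain Cfsg.Agent.Lib_helper9_Omega
  Cfsg.Agent.Lib_helper9_FusionFocal Cfsg.Agent.Lib_helper9_FusionCyc
  Cfsg.Agent.Lib_helper9_FusionQuot2 Cfsg.Agent.Lib_helper9_FusionModel
  Cfsg.Agent.Lib_helper9_GroupFusion

variable {Ω : Type*} [Group Ω]

section Pullback

variable {G : Type*} [Group G] (P : Subgroup Ω) (ι : P →* G) (hinj : Function.Injective ι)

theorem pb_inj {R : Subgroup Ω} {φ : R →* Ω} (hinj : Function.Injective ι) (hR : R ≤ P)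
    (hφ : ∀ x : R, φ x ∈ P) (g : G)
    (hg : ∀ x : R, ι ⟨φ x, hφ x⟩ = g * ι ⟨x, hR x.2⟩ * g⁻¹) : Function.Injective φ := by
  intro a b hab
  have h1 : (⟨φ a, hφ a⟩ : P) = ⟨φ b, hφ b⟩ := Subtype.ext hab
  have h2 : g * ι ⟨a, hR a.2⟩ * g⁻¹ = g * ι ⟨b, hR b.2⟩ * g⁻¹ := by
    rw [← hg a, ← hg b]; exact congrArg ι h1
  have h3 := hinj (mul_left_cancel (mul_right_cancel h2))
  have h4 : ((⟨a, hR a.2⟩ : P) : Ω) = ((⟨b, hR b.2⟩ : P) : Ω) := congrArg Subtype.val h3
  exact Subtype.ext h4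

/-- the fusion system on `P` pulled back from a group `G` along an injective homomorphism. -/
def pullback : FusionSystem P where
  Hom R := {φ | ∃ (hR : R ≤ P) (hφ : ∀ x : R, φ x ∈ P), ∃ g : G,
    ∀ x : R, ι ⟨φ x, hφ x⟩ = g * ι ⟨x, hR x.2⟩ * g⁻¹}
  le_of_mem := by
    rintro R φ ⟨hR, hφ, -⟩
    exact ⟨hR, hφ⟩
  injective_of_mem := by
    rintro R φ ⟨hR, hφ, g, hg⟩
    exact pb_inj P ι hinj hR hφ g hg
  conj_mem := by
    intro R g hR hg
    have hc : ∀ x : R, conjHom R g x ∈ P := fun x =>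
      show g * (x : Ω) * g⁻¹ ∈ P from P.mul_mem (P.mul_mem hg (hR x.2)) (P.inv_mem hg)
    refine ⟨hR, hc, ι ⟨g, hg⟩, fun x => ?_⟩
    rw [← map_inv, ← map_mul, ← map_mul]
    exact congrArg ι (Subtype.ext rfl)
  comp_mem := by
    rintro R Q φ ψ ⟨hR, hφ, g, hg⟩ ⟨hQ, hψ, k, hk⟩ h
    refine ⟨hR, fun x => hψ _, k * g, fun x => ?_⟩
    have h1 := hk ⟨φ x, h x⟩
    have h2 : (⟨(ψ.comp (φ.codRestrict Q h)) x, hψ _⟩ : P) = ⟨ψ ⟨φ x, h x⟩, hψ _⟩ := rfl
    rw [h2, h1, hg x]; group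
  inv_mem := by
    rintro R φ ⟨hR, hφ, g, hg⟩
    have hinjφ := pb_inj P ι hinj hR hφ g hg
    obtain ⟨e, he⟩ : ∃ e : R ≃* φ.range, e = MonoidHom.ofInjective hinjφ := ⟨_, rfl⟩
    have hex : ∀ x : R, e x = ⟨φ x, ⟨x, rfl⟩⟩ := fun x => by rw [he]; rfl
    have hrP : φ.range ≤ P := by rintro _ ⟨x, rfl⟩; exact hφ x
    have hb : ∀ y : φ.range, (R.subtype.comp e.symm.toMonoidHom) y ∈ P := fun y =>
      hR (e.symm y).2
    refine ⟨R.subtype.comp e.symm.toMonoidHom, ⟨hrP, hb, g⁻¹, fun y => ?_⟩, fun x => ?_⟩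
    · obtain ⟨x, rfl⟩ := e.surjective y
      have h1 : (⟨(R.subtype.comp e.symm.toMonoidHom) (e x), hb (e x)⟩ : P) = ⟨x, hR x.2⟩ :=
        Subtype.ext (show ((e.symm (e x) : R) : Ω) = x by rw [e.symm_apply_apply])
      have h2 : (⟨((e x : φ.range) : Ω), hrP (e x).2⟩ : P) = ⟨φ x, hφ x⟩ :=
        Subtype.ext (by rw [hex x])
      rw [h1, h2, hg x]; group
    · show ((e.symm ⟨φ x, ⟨x, rfl⟩⟩ : R) : Ω) = x
      rw [← hex x, e.symm_apply_apply]

theorem pullback_realized : (pullback P ι hinj).IsRealizedBy ι := by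
  refine ⟨hinj, fun R hR φ hφ => ⟨?_, fun ⟨g, hg⟩ => ⟨hR, hφ, g, hg⟩⟩⟩
  rintro ⟨_, _, g, hg⟩
  exact ⟨g, hg⟩

theorem pullback_saturated [Finite P] [Finite G] (p : ℕ) [Fact p.Prime]
    (hT : ∃ T : Sylow p G, (T : Subgroup G) = ι.range) : (pullback P ι hinj).IsSaturated p :=
  realized_saturated p _ ι (pullback_realized P ι hinj) hT

end Pullback

section Semi

variable (P : Subgroup Ω) (B : Subgroup (MulAut P))

/-- the fusion system of `P ⋊ B` on `P`. -/
def autSys : FusionSystem P :=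
  pullback P (SemidirectProduct.inl : P →* P ⋊[B.subtype] B) SemidirectProduct.inl_injective

theorem conj_inl (g : P ⋊[B.subtype] B) (x : P) :
    g * SemidirectProduct.inl x * g⁻¹ =
      SemidirectProduct.inl (g.left * (g.right : MulAut P) x * g.left⁻¹) := by
  ext
  · simp [SemidirectProduct.mul_left, SemidirectProduct.inv_left]
  · simp

theorem mem_autSys_iff {R : Subgroup Ω} (φ : R →* Ω) :
    φ ∈ (autSys P B).Hom R ↔ ∃ hR : R ≤ P, ∃ n : P, ∃ b ∈ B,
      ∀ x : R, φ x = (n : Ω) * ((b ⟨x, hR x.2⟩ : P) : Ω) * (n : Ω)⁻¹ := by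
  constructor
  · rintro ⟨hR, hφ, g, hg⟩
    refine ⟨hR, g.left, (g.right : MulAut P), g.right.2, fun x => ?_⟩
    have h1 := hg x
    rw [conj_inl] at h1
    have h2 := SemidirectProduct.inl_injective h1
    exact congrArg Subtype.val h2
  · rintro ⟨hR, n, b, hb, h⟩
    have hφ : ∀ x : R, φ x ∈ P := fun x => by
      rw [h x]; exact P.mul_mem (P.mul_mem n.2 (b _).2) (P.inv_mem n.2)
    refine ⟨hR, hφ, ⟨n, ⟨b, hb⟩⟩, fun x => ?_⟩
    rw [conj_inl]
    exact congrArg _ (Subtype.ext (h x))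

theorem autSys_le {S : Subgroup Ω} (F : FusionSystem S) {P : Subgroup Ω} (hPS : P ≤ S)
    {B : Subgroup (MulAut P)} (hB : B ≤ F.autGroup P) : (autSys P B).IsSubsystemOf F := by
  intro R φ hφ
  obtain ⟨hR, n, b, hb, h⟩ := (mem_autSys_iff P B φ).mp hφ
  have hbF := (mem_autGroup_iff F hPS b).mp (hB hb)
  have hc : conjHom P (n : Ω) ∈ F.Hom P := F.conj_mem hPS (hPS n.2)
  have h1 := F.comp_mem hbF hc (fun x => (b x).2)
  exact restrict_mem' F h1 hR (fun x => h x)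

theorem autSys_saturated [Finite P] (p : ℕ) [Fact p.Prime] (hP : IsPGroup p P)
    (hB : (Nat.card B).Coprime p) : (autSys P B).IsSaturated p := by
  have : Finite (P ⋊[B.subtype] B) := Finite.of_equiv _ SemidirectProduct.equivProd.symm
  apply pullback_saturated
  have hpr : IsPGroup p (SemidirectProduct.inl : P →* P ⋊[B.subtype] B).range :=
    hP.of_equiv (MonoidHom.ofInjective SemidirectProduct.inl_injective)
  rw [exists_sylow_eq_iff _ hpr]
  intro K' hK'
  obtain ⟨k, hk⟩ := IsPGroup.iff_card.mp hK'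
  have h1 : Nat.card K' ∣ Nat.card (P ⋊[B.subtype] B) := Subgroup.card_subgroup_dvd_card K'
  rw [SemidirectProduct.card, hk] at h1
  have h2 : (p ^ k).Coprime (Nat.card B) := Nat.Coprime.pow_left k hB.symm
  have h3 : p ^ k ∣ Nat.card P := h2.dvd_of_dvd_mul_right h1
  rw [hk, ← Nat.card_congr (MonoidHom.ofInjective
    (SemidirectProduct.inl_injective (N := P) (G := B) (φ := B.subtype))).toEquiv]
  exact Nat.le_of_dvd Nat.card_pos h3

end Semi

variable {S : Subgroup Ω}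

theorem coe_inn_pow_trivial [Finite S] {p : ℕ} [Fact p.Prime] (hS : IsPGroup p S)
    {H : Subgroup Ω} (hHS : H ≤ S) (b : MulAut H) {g : Ω} (hg : g ∈ H)
    (hgx : ∀ x : H, ((b x : H) : Ω) = g * (x : Ω) * g⁻¹) : ∃ k : ℕ, b ^ p ^ k = 1 := by
  have hInn : b ∈ Inn H := ⟨⟨g, hg⟩, by
    apply MulEquiv.ext; intro x; apply Subtype.ext; exact (hgx x).symm⟩
  obtain ⟨k, hk⟩ := (isPGroup_inn hS hHS) ⟨b, hInn⟩
  exact ⟨k, by simpa using congrArg Subtype.val hk⟩

theorem sparse_key [Finite S] (p : ℕ) [Fact p.Prime] (hS : IsPGroup p S)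
    (F : FusionSystem S)
    (hsp : ∀ (T : Subgroup Ω) (E : FusionSystem T), E.IsSaturated p → E.IsSubsystemOf F →
        (T = S ∧ ∀ P : Subgroup Ω, E.Hom P = F.Hom P) ∨
          (∀ P : Subgroup Ω, E.Hom P = (innerFusionSystem T).Hom P))
    {P : Subgroup Ω} (hPS : P ≤ S) (β : MulAut P) (hβ : β ∈ F.autGroup P) {q : ℕ}
    (hq : q.Prime) (hqp : q ≠ p) (hord : orderOf β = q) :
    P = S ∧ ∀ R, (autSys P (Subgroup.zpowers β)).Hom R = F.Hom R := by
  have hpp : p.Prime := Fact.out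
  have : Finite P := finite_of_le hPS
  have hB : Subgroup.zpowers β ≤ F.autGroup P := (Subgroup.zpowers_le).mpr hβ
  have hcard : (Nat.card (Subgroup.zpowers β)).Coprime p := by
    rw [Nat.card_zpowers, hord]; exact (Nat.coprime_primes hq hpp).mpr hqp
  have hsat := autSys_saturated P (Subgroup.zpowers β) p (hS.to_le hPS) hcard
  have hsub := autSys_le F hPS hB
  rcases hsp P _ hsat hsub with h | h
  · exact h
  · exfalso
    have h1 : P.subtype.comp β.toMonoidHom ∈ (autSys P (Subgroup.zpowers β)).Hom P := by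
      rw [mem_autSys_iff]
      exact ⟨le_rfl, 1, β, Subgroup.mem_zpowers β, fun x => by simp⟩
    rw [h P] at h1
    obtain ⟨-, g, hg, hgx⟩ := h1
    obtain ⟨k, h5⟩ := coe_inn_pow_trivial hS hPS β hg hgx
    have h6 : q ∣ p ^ k := hord ▸ orderOf_dvd_of_pow_eq_one h5
    exact hqp ((Nat.prime_dvd_prime_iff_eq hq hpp).mp (hq.dvd_of_dvd_pow h6))

theorem sparse_top [Finite S] (p : ℕ) [Fact p.Prime] (hS : IsPGroup p S)
    (F : FusionSystem S) (hF : F.IsSaturated p)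
    (hsp : ∀ (T : Subgroup Ω) (E : FusionSystem T), E.IsSaturated p → E.IsSubsystemOf F →
        (T = S ∧ ∀ P : Subgroup Ω, E.Hom P = F.Hom P) ∨
          (∀ P : Subgroup Ω, E.Hom P = (innerFusionSystem T).Hom P))
    (β : MulAut S) (hβ : β ∈ F.autGroup S) {q : ℕ} (hq : q.Prime) (hqp : q ≠ p)
    (hord : orderOf β = q)
    (hEF : ∀ R, (autSys S (Subgroup.zpowers β)).Hom R = F.Hom R) :
    F.IsNormal S ∧ F.focalSubgroup = S ∧ F.hyperfocalSubgroup p = S ∧
      (F.autGroup S : Subgroup (MulAut ↥S)) = Cfsg.Inn ↥S ⊔ Subgroup.zpowers β := by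
  have hpp : p.Prime := Fact.out
  have hcop : Nat.Coprime q p := (Nat.coprime_primes hq hpp).mpr hqp
  have hform : ∀ (R : Subgroup Ω) (φ : R →* Ω), φ ∈ F.Hom R → ∃ hR : R ≤ S, ∃ n : S,
      ∃ b ∈ Subgroup.zpowers β,
        ∀ x : R, φ x = (n : Ω) * ((b ⟨x, hR x.2⟩ : S) : Ω) * (n : Ω)⁻¹ := by
    intro R φ hφ
    rw [← hEF R] at hφ
    exact (mem_autSys_iff S _ φ).mp hφ
  have hzp : Subgroup.zpowers β ≤ F.autGroup S := Subgroup.zpowers_le.mpr hβ
  have hinn : Inn S ≤ F.autGroup S :=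
    (inn_le_autInducedBy le_rfl).trans (autInducedBy_le_autGroup F le_rfl)
  have hhypS : F.hyperfocalSubgroup p = S := by
    obtain ⟨H, hH⟩ : ∃ H, H = F.hyperfocalSubgroup p := ⟨_, rfl⟩
    rw [← hH]
    have hHS : H ≤ S := hH ▸ hyperfocal_le F p
    have hSC : F.StronglyClosed H := hH ▸ hyperfocal_stronglyClosed p hS F hF
    have : Finite H := finite_of_le hHS
    have hβF := (mem_autGroup_iff F le_rfl β).mp hβ
    have hres : (S.subtype.comp β.toMonoidHom).comp (Subgroup.inclusion hHS) ∈ F.Hom H :=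
      restrict_mem F hβF hHS
    have hinto : ∀ x : H,
        ((S.subtype.comp β.toMonoidHom).comp (Subgroup.inclusion hHS)) x ∈ H :=
      fun x => hSC.2 H le_rfl _ hres x
    have hr := range_eq_of_maps_into F hres hinto
    obtain ⟨βH, hβH⟩ : ∃ βH : MulAut H, βH = isoOf _ (F.injective_of_mem hres) hr := ⟨_, rfl⟩
    have hβHF : βH ∈ F.autGroup H := hβH ▸ isoOf_mem_autGroup F hres hr
    have hβHx : ∀ x : H, ((βH x : H) : Ω) = ((β ⟨x, hHS x.2⟩ : S) : Ω) := fun x => by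
      rw [hβH]; rfl
    have hpow : ∀ (k : ℕ) (x : H),
        (((βH ^ k) x : H) : Ω) = (((β ^ k) ⟨x, hHS x.2⟩ : S) : Ω) := by
      intro k
      induction k with
      | zero => intro x; simp
      | succ k ih =>
        intro x
        have h1 : (⟨((βH ^ k) x : H), hHS ((βH ^ k) x).2⟩ : S) = (β ^ k) ⟨x, hHS x.2⟩ :=
          Subtype.ext (ih x)
        rw [pow_succ', pow_succ', MulAut.mul_apply, MulAut.mul_apply, hβHx, h1]
    have hβHq : βH ^ q = 1 := by
      apply MulEquiv.ext; intro x; apply Subtype.ext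
      rw [hpow q x, ← hord, pow_orderOf_eq_one]; rfl
    have hBcard : (Nat.card (Subgroup.zpowers βH)).Coprime p := by
      rw [Nat.card_zpowers]
      exact Nat.Coprime.coprime_dvd_left (orderOf_dvd_of_pow_eq_one hβHq) hcop
    have hsat := autSys_saturated H (Subgroup.zpowers βH) p (hS.to_le hHS) hBcard
    have hsub := autSys_le F hHS (Subgroup.zpowers_le.mpr hβHF)
    rcases hsp H _ hsat hsub with h | h
    · exact h.1
    · exfalso
      have h1 : H.subtype.comp βH.toMonoidHom ∈ (autSys H (Subgroup.zpowers βH)).Hom H := by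
        rw [mem_autSys_iff]
        exact ⟨le_rfl, 1, βH, Subgroup.mem_zpowers βH, fun x => by simp⟩
      rw [h H] at h1
      obtain ⟨-, g, hg, hgx⟩ := h1
      obtain ⟨k, h5⟩ := coe_inn_pow_trivial hS hHS βH hg hgx
      have h6 : βH = 1 := by
        have h7 : orderOf βH ∣ Nat.gcd q (p ^ k) :=
          Nat.dvd_gcd (orderOf_dvd_of_pow_eq_one hβHq) (orderOf_dvd_of_pow_eq_one h5)
        have h8 : Nat.gcd q (p ^ k) = 1 := Nat.Coprime.pow_right k hcop
        rw [h8, Nat.dvd_one] at h7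
        exact orderOf_eq_one_iff.mp h7
      have hβres : (⟨β, hβ⟩ : F.autGroup S) ∈ pResidual p (F.autGroup S) := by
        apply Subgroup.subset_closure
        show Nat.Coprime (orderOf (⟨β, hβ⟩ : F.autGroup S)) p
        rw [Subgroup.orderOf_mk, hord]; exact hcop
      have hβ1 : β = 1 := by
        apply MulEquiv.ext
        intro x
        apply aut_fix_of_comm_fix hS le_rfl β (by rw [hord]; exact hcop) x
        have hm : ((x⁻¹ * β x : S) : Ω) ∈ H := by
          rw [hH]; exact mem_hyperfocal_of F p le_rfl ⟨β, hβ⟩ hβres x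
        have h9 := hβHx ⟨_, hm⟩
        rw [h6] at h9
        exact Subtype.ext h9.symm
      rw [hβ1, orderOf_one] at hord
      exact hq.one_lt.ne hord
  refine ⟨?_, ?_, hhypS, ?_⟩
  · refine ⟨le_rfl, fun R φ hφ => ?_⟩
    obtain ⟨hR, n, b, hb, h⟩ := hform R φ hφ
    have hbF := (mem_autGroup_iff F le_rfl b).mp (hzp hb)
    have hc : conjHom S (n : Ω) ∈ F.Hom S := F.conj_mem le_rfl n.2
    have h1 := F.comp_mem hbF hc (fun x => (b x).2)
    have hle : R ⊔ S ≤ S := sup_le hR le_rfl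
    refine ⟨_, restrict_mem F h1 hle, fun x => ?_, ?_⟩
    · rw [h x]; rfl
    · rw [map_subgroupOf_comp_inclusion hle _ S le_sup_right]
      exact map_eq_of_stronglyClosed F (stronglyClosed_top F) le_rfl h1
  · rw [focal_eq p hS F hF, hhypS]
    apply sup_eq_left.mpr
    rw [Subgroup.commutator_le]
    intro x hx y hy
    exact S.mul_mem (S.mul_mem (S.mul_mem hx hy) (S.inv_mem hx)) (S.inv_mem hy)
  · apply le_antisymm
    · intro α hα
      have hαF := (mem_autGroup_iff F le_rfl α).mp hα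
      obtain ⟨hR, n, b, hb, h⟩ := hform S _ hαF
      have h1 : α = MulAut.conj n * b := by
        apply MulEquiv.ext; intro x; apply Subtype.ext
        exact h x
      rw [h1]
      exact Subgroup.mul_mem _ (Subgroup.mem_sup_left ⟨n, rfl⟩) (Subgroup.mem_sup_right hb)
    · exact sup_le hinn hzp

/-- `S5245`: extremely sparse fusion systems. -/
theorem sparse_main [Finite S] (p : ℕ) [Fact p.Prime] (hS : IsPGroup p S)
    (F : FusionSystem S) (hF : F.IsSaturated p)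
    (hxs : ¬ (∀ P : Subgroup Ω, F.Hom P = (innerFusionSystem S).Hom P) ∧
      ∀ (T : Subgroup Ω) (E : FusionSystem T), E.IsSaturated p → E.IsSubsystemOf F →
        (T = S ∧ ∀ P : Subgroup Ω, E.Hom P = F.Hom P) ∨
          (∀ P : Subgroup Ω, E.Hom P = (innerFusionSystem T).Hom P)) :
    F.IsNormal S ∧ F.focalSubgroup = S ∧ F.hyperfocalSubgroup p = S ∧
      ∃ (q : ℕ) (β : MulAut ↥S), q.Prime ∧ q ≠ p ∧ β ∈ F.autGroup S ∧ orderOf β = q ∧
        (F.autGroup S : Subgroup (MulAut ↥S)) = Cfsg.Inn ↥S ⊔ Subgroup.zpowers β := by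
  obtain ⟨hni, hsp⟩ := hxs
  have hpp : p.Prime := Fact.out
  have h1 : ¬ ∀ P : Subgroup Ω, P ≤ S → IsPGroup p (F.autGroup P) :=
    fun h => hni (eq_inner_of_isPGroup p hS F hF h)
  push Not at h1
  obtain ⟨P, hPS, hnp⟩ := h1
  have : Finite P := finite_of_le hPS
  obtain ⟨q, hq, hqp, hqd⟩ : ∃ q : ℕ, q.Prime ∧ q ≠ p ∧ q ∣ Nat.card (F.autGroup P) := by
    by_contra hcon
    push Not at hcon
    apply hnp
    have h2 := Nat.eq_prime_pow_of_unique_prime_dvd (Nat.card_pos (α := F.autGroup P)).ne'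
      (fun {d} hd hdd => by_contra fun hne => hcon d hd hne hdd)
    exact IsPGroup.of_card h2
  haveI : Fact q.Prime := ⟨hq⟩
  obtain ⟨β₀, hβ₀⟩ := exists_prime_orderOf_dvd_card' q hqd
  have hord : orderOf (β₀ : MulAut P) = q := by rw [Subgroup.orderOf_coe]; exact hβ₀
  obtain ⟨hPeq, hEF⟩ := sparse_key p hS F hsp hPS (β₀ : MulAut P) β₀.2 hq hqp hord
  subst hPeq
  obtain ⟨hn, hfoc, hhyp, haut⟩ :=
    sparse_top p hS F hF hsp (β₀ : MulAut P) β₀.2 hq hqp hord hEF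
  exact ⟨hn, hfoc, hhyp, q, (β₀ : MulAut P), hq, hqp, β₀.2, hord, haut⟩

end Cfsg.Agent.Lib_helper9_FusionSparse
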