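import Mathlib
import Cfsg.Prelude.Def_LocalEven
import Cfsg.Prelude.Def_FusionReduction

set_option autoImplicit false

namespace Cfsg.Agent.Lib_helper9_Involves

open Cfsg

universe u v w

theorem involves_iff {A : Type u} [Group A] {G : Type v} [Group G] :
    Involves A G ↔ ∃ (K : Subgroup G) (f : K →* A), Function.Surjective f := by
  constructor
  · rintro ⟨K, R, hn, ⟨e⟩⟩
    haveI := hn
    exact ⟨K, e.toMonoidHom.comp (QuotientGroup.mk' (R.subgroupOf K)),
      e.surjective.comp (QuotientGroup.mk'_surjective _)⟩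
  · rintro ⟨K, f, hf⟩
    have key : ∀ (X : Subgroup K), X = f.ker → ∃ (_ : X.Normal), Nonempty (K ⧸ X ≃* A) := by
      intro X hX
      subst hX
      exact ⟨inferInstance, ⟨QuotientGroup.quotientKerEquivOfSurjective f hf⟩⟩
    obtain ⟨hn, he⟩ := key ((f.ker.map K.subtype).subgroupOf K)
      (Subgroup.comap_map_eq_self_of_injective K.subtype_injective _)
    exact ⟨K, f.ker.map K.subtype, hn, he⟩

theorem involves_of_surjective {A : Type u} [Group A] {G : Type v} [Group G] (g : G →* A)
    (hg : Function.Surjective g) : Involves A G :=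
  involves_iff.mpr ⟨⊤, g.comp (Subgroup.topEquiv : (⊤ : Subgroup G) ≃* G).toMonoidHom,
    hg.comp (Subgroup.topEquiv).surjective⟩

theorem involves_of_injective {A : Type u} [Group A] {G : Type v} [Group G] (g : A →* G)
    (hg : Function.Injective g) : Involves A G :=
  involves_iff.mpr ⟨g.range, (MonoidHom.ofInjective hg).symm.toMonoidHom,
    (MonoidHom.ofInjective hg).symm.surjective⟩

theorem involves_trans {A : Type u} [Group A] {B : Type v} [Group B] {G : Type w} [Group G]
    (h1 : Involves A B) (h2 : Involves B G) : Involves A G := by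
  obtain ⟨K₁, f₁, hf₁⟩ := involves_iff.mp h1
  obtain ⟨K₂, f₂, hf₂⟩ := involves_iff.mp h2
  refine involves_iff.mpr ⟨(K₁.comap f₂).map K₂.subtype,
    f₁.comp ((f₂.subgroupComap K₁).comp (Subgroup.equivMapOfInjective (K₁.comap f₂) K₂.subtype
      K₂.subtype_injective).symm.toMonoidHom), ?_⟩
  exact hf₁.comp ((f₂.subgroupComap_surjective_of_surjective K₁ hf₂).comp (MulEquiv.surjective _))

theorem involves_sylow {p : ℕ} [Fact p.Prime] {Q : Type u} [Group Q] (hQ : IsPGroup p Q)
    {L : Type v} [Group L] [Finite L] (h : Involves Q L) (T : Sylow p L) :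
    Involves Q (↥(T : Subgroup L)) := by
  obtain ⟨K, f, hf⟩ := involves_iff.mp h
  obtain ⟨P⟩ : Nonempty (Sylow p K) := inferInstance
  have htop : (⊤ : Subgroup Q) = ((P.mapSurjective hf : Sylow p Q) : Subgroup Q) :=
    (P.mapSurjective hf).is_maximal' (hQ.to_subgroup ⊤) le_top
  have hsurj : Function.Surjective (f.comp (P : Subgroup K).subtype) := by
    intro q
    have hq : q ∈ ((P.mapSurjective hf : Sylow p Q) : Subgroup Q) := by
      rw [← htop]; exact Subgroup.mem_top q
    rw [Sylow.coe_mapSurjective] at hq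
    obtain ⟨x, hx, rfl⟩ := Subgroup.mem_map.mp hq
    exact ⟨⟨x, hx⟩, rfl⟩
  have h1 : Involves Q (↥(P : Subgroup K)) := involves_of_surjective _ hsurj
  have hP' : IsPGroup p ((P : Subgroup K).map K.subtype) := P.isPGroup'.map K.subtype
  obtain ⟨T', hT'⟩ := hP'.exists_le_sylow
  have h2 : Involves (↥(P : Subgroup K)) (↥(T' : Subgroup L)) := by
    apply involves_of_injective ((Subgroup.inclusion hT').comp
      (Subgroup.equivMapOfInjective (P : Subgroup K) K.subtype K.subtype_injective).toMonoidHom)
    exact (Subgroup.inclusion_injective hT').comp (MulEquiv.injective _)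
  have h3 : Involves (↥(T' : Subgroup L)) (↥(T : Subgroup L)) :=
    involves_of_injective (T'.equiv T).toMonoidHom (T'.equiv T).injective
  exact involves_trans (involves_trans h1 h2) h3

theorem s5299 {Ω : Type u} [Group Ω] {S : Subgroup Ω} [Finite S] (p : ℕ) [Fact p.Prime]
    (F : Cfsg.FusionSystem S) (H : Type*) [Group H] [Finite H] (Q : Subgroup H)
    (hQ : IsPGroup p Q) (hfree : ¬ Cfsg.Involves (↥Q) (↥S)) : F.IsSectionFree p H := by
  intro Q' _ _ N _ L _ ι hmodel hinv
  obtain ⟨hfin, -, ⟨T, hT⟩, -⟩ := hmodel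
  haveI := hfin
  apply hfree
  have h1 : Involves (↥Q) L :=
    involves_trans (involves_of_injective Q.subtype Q.subtype_injective) hinv
  have h2 : Involves (↥Q) (↥(T : Subgroup L)) := involves_sylow hQ h1 T
  have h3 : Involves (↥(T : Subgroup L)) (↥(FusionSystem.normalizerIn S Q')) := by
    apply involves_of_surjective ((MulEquiv.subgroupCongr hT).symm.toMonoidHom.comp ι.rangeRestrict)
    exact ((MulEquiv.subgroupCongr hT).symm.surjective).comp ι.rangeRestrict_surjective
  have h4 : Involves (↥(FusionSystem.normalizerIn S Q')) (↥S) :=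
    involves_of_injective (Subgroup.inclusion (inf_le_left : FusionSystem.normalizerIn S Q' ≤ S))
      (Subgroup.inclusion_injective _)
  exact involves_trans (involves_trans h2 h3) h4

end Cfsg.Agent.Lib_helper9_Involves
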