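import Mathlib

set_option autoImplicit false

namespace Cfsg.Agent.Lib_helper9_OrbitIndex

theorem card_subgroupOf_eq {𝔾 : Type*} [Group 𝔾] (X Y : Subgroup 𝔾) :
    Nat.card (X.subgroupOf Y) = Nat.card (X ⊓ Y : Subgroup 𝔾) := by
  rw [← Subgroup.inf_subgroupOf_right X Y]
  exact Nat.card_congr (Subgroup.subgroupOfEquivOfLe (inf_le_right : X ⊓ Y ≤ Y)).toEquiv

theorem ded {𝔾 : Type*} [Group 𝔾] [Finite 𝔾] (A B : Subgroup 𝔾)
    (hn : B ≤ Subgroup.normalizer (A : Set 𝔾)) : B.relIndex (A ⊔ B) = B.relIndex A := by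
  have hAL : A ≤ A ⊔ B := le_sup_left
  have hBL : B ≤ A ⊔ B := le_sup_right
  haveI : (A.subgroupOf (A ⊔ B)).Normal :=
    (Subgroup.normal_subgroupOf_iff_le_normalizer hAL).mpr (sup_le Subgroup.le_normalizer hn)
  have h1 : A.relIndex (A ⊔ B) = A.relIndex B := by
    have := Subgroup.relIndex_sup_left (K := A.subgroupOf (A ⊔ B)) (H := B.subgroupOf (A ⊔ B))
    rw [← Subgroup.subgroupOf_sup hAL hBL, Subgroup.subgroupOf_self, Subgroup.relIndex_top_right,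
      Subgroup.relIndex_subgroupOf hBL] at this
    exact this
  have cA : Nat.card (A.subgroupOf (A ⊔ B)) * A.relIndex (A ⊔ B) = Nat.card (A ⊔ B : Subgroup 𝔾) :=
    Subgroup.card_mul_index _
  have cB : Nat.card (B.subgroupOf (A ⊔ B)) * B.relIndex (A ⊔ B) = Nat.card (A ⊔ B : Subgroup 𝔾) :=
    Subgroup.card_mul_index _
  have dA : Nat.card (B.subgroupOf A) * B.relIndex A = Nat.card A := Subgroup.card_mul_index _
  have dB : Nat.card (A.subgroupOf B) * A.relIndex B = Nat.card B := Subgroup.card_mul_index _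
  rw [card_subgroupOf_eq, inf_eq_left.mpr hAL] at cA
  rw [card_subgroupOf_eq, inf_eq_left.mpr hBL] at cB
  rw [card_subgroupOf_eq] at dA dB
  rw [inf_comm] at dA
  obtain ⟨c, hc⟩ : ∃ c, c = Nat.card (A ⊓ B : Subgroup 𝔾) := ⟨_, rfl⟩
  rw [← hc] at dA dB
  have hcpos : 0 < c := by rw [hc]; exact Nat.card_pos
  have hrpos : 0 < A.relIndex B := Nat.pos_of_ne_zero (Subgroup.index_ne_zero_of_finite)
  have key : (c * A.relIndex B) * B.relIndex (A ⊔ B) = (c * A.relIndex B) * B.relIndex A := by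
    calc (c * A.relIndex B) * B.relIndex (A ⊔ B) = Nat.card B * B.relIndex (A ⊔ B) := by rw [dB]
      _ = Nat.card A * A.relIndex (A ⊔ B) := by rw [cB, cA]
      _ = (c * B.relIndex A) * A.relIndex B := by rw [dA, h1]
      _ = (c * A.relIndex B) * B.relIndex A := by ring
  exact Nat.eq_of_mul_eq_mul_left (Nat.mul_pos hcpos hrpos) key

theorem relIndex_dvd_of_normal {𝔾 : Type*} [Group 𝔾] [Finite 𝔾] (S K H : Subgroup 𝔾) (hKH : K ≤ H)
    (hn : H ≤ Subgroup.normalizer (K : Set 𝔾)) : S.relIndex K ∣ S.relIndex H := by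
  have h1 := ded K (S ⊓ H) (inf_le_right.trans hn)
  have h2 : (S ⊓ H).relIndex K = S.relIndex K := by
    rw [← Subgroup.inf_relIndex_right (S ⊓ H) K, inf_assoc, inf_eq_right.mpr hKH,
      Subgroup.inf_relIndex_right]
  have h3 : (S ⊓ H).relIndex (K ⊔ (S ⊓ H)) * (K ⊔ (S ⊓ H)).relIndex H = (S ⊓ H).relIndex H :=
    Subgroup.relIndex_mul_relIndex _ _ _ le_sup_right (sup_le hKH inf_le_right)
  rw [Subgroup.inf_relIndex_right] at h3
  rw [← h2, ← h1, ← h3]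
  exact dvd_mul_right _ _

theorem relIndex_sup_not_dvd {𝔾 : Type*} [Group 𝔾] [Finite 𝔾] (p : ℕ) (hp : p.Prime)
    (S N H : Subgroup 𝔾) (hN : ¬ p ∣ Nat.card N)
    (hn : H ≤ Subgroup.normalizer (N : Set 𝔾)) (hS : ¬ p ∣ S.relIndex H) :
    ¬ p ∣ S.relIndex (N ⊔ H) := by
  have h1 := ded N H hn
  have h2 : H.relIndex N ∣ Nat.card N := Subgroup.relIndex_dvd_card H N
  have h3 : (S ⊓ H).relIndex H * H.relIndex (N ⊔ H) = (S ⊓ H).relIndex (N ⊔ H) :=
    Subgroup.relIndex_mul_relIndex _ _ _ inf_le_right le_sup_right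
  rw [Subgroup.inf_relIndex_right] at h3
  have h4 : S.relIndex (N ⊔ H) ∣ (S ⊓ H).relIndex (N ⊔ H) :=
    Subgroup.relIndex_dvd_of_le_left _ inf_le_left
  intro hdvd
  have h5 : p ∣ S.relIndex H * H.relIndex (N ⊔ H) := by rw [h3]; exact hdvd.trans h4
  rcases hp.dvd_mul.mp h5 with h | h
  · exact hS h
  · rw [h1] at h; exact hN (h.trans h2)

theorem card_orbit_eq_relIndex {𝔾 X : Type*} [Group 𝔾] [MulAction 𝔾 X] (L : Subgroup 𝔾) (v : X) :
    Nat.card {u : X | ∃ x ∈ L, x • v = u} = (MulAction.stabilizer 𝔾 v).relIndex L := by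
  have hset : {u : X | ∃ x ∈ L, x • v = u} = MulAction.orbit L v := by
    ext u
    constructor
    · rintro ⟨x, hx, rfl⟩; exact ⟨⟨x, hx⟩, rfl⟩
    · rintro ⟨x, rfl⟩; exact ⟨x, x.2, rfl⟩
  have hstab : MulAction.stabilizer L v = (MulAction.stabilizer 𝔾 v).subgroupOf L := by
    ext x
    rw [MulAction.mem_stabilizer_iff, Subgroup.mem_subgroupOf, MulAction.mem_stabilizer_iff]
    rfl
  rw [hset, Nat.card_coe_set_eq, ← MulAction.index_stabilizer, hstab]
  rfl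

theorem s3514 (p : ℕ) [Fact p.Prime] {V : Type*} [AddCommGroup V] [Module (ZMod p) V] [Finite V]
    (H : Subgroup (V ≃ₗ[ZMod p] V)) (hH : ∀ v : V, ¬ p ∣ Nat.card {u : V | ∃ h ∈ H, h v = u}) :
    (∀ K : Subgroup (V ≃ₗ[ZMod p] V), K ≤ H → H ≤ Subgroup.normalizer (K : Set (V ≃ₗ[ZMod p] V)) →
        ∀ v : V, ¬ p ∣ Nat.card {u : V | ∃ k ∈ K, k v = u}) ∧
    (∀ N : Subgroup (V ≃ₗ[ZMod p] V), ¬ p ∣ Nat.card N → H ≤ Subgroup.normalizer (N : Set (V ≃ₗ[ZMod p] V)) →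
        ∀ v : V, ¬ p ∣ Nat.card {u : V | ∃ x ∈ N ⊔ H, x v = u}) := by
  haveI : Finite (V ≃ₗ[ZMod p] V) := DFunLike.finite _
  have hcard : ∀ (L : Subgroup (V ≃ₗ[ZMod p] V)) (v : V),
      Nat.card {u : V | ∃ x ∈ L, x v = u} = (MulAction.stabilizer (V ≃ₗ[ZMod p] V) v).relIndex L :=
    fun L v => card_orbit_eq_relIndex L v
  constructor
  · intro K hKH hn v
    rw [hcard]
    have := hH v
    rw [hcard] at this
    exact fun h => this (h.trans (relIndex_dvd_of_normal _ K H hKH hn))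
  · intro N hN hn v
    rw [hcard]
    have := hH v
    rw [hcard] at this
    exact relIndex_sup_not_dvd p Fact.out _ N H hN hn this

end Cfsg.Agent.Lib_helper9_OrbitIndex
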