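import Mathlib
import Cfsg.Agent.Lib_helper9_OrbitIndex

namespace Cfsg.Agent.Lib_helper9_Manning

open MulAction

/-- A normal subgroup of a point stabilizer which moves `σ` is transitive on the orbit of `σ`
when the stabilizer acts primitively on that orbit. -/
theorem normal_trans {G : Type*} [Group G] {Ω : Type*} [MulAction G Ω] (α σ : Ω)
    (hep : MulAction.IsPreprimitive (MulAction.stabilizer G α)
      (MulAction.orbit (MulAction.stabilizer G α) σ))
    (N : Subgroup G) (hN : N ≤ MulAction.stabilizer G α)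
    (hnorm : MulAction.stabilizer G α ≤ Subgroup.normalizer (N : Set G))
    (k : G) (hk : k ∈ N) (hkσ : k • σ ≠ σ) (g : G) (hg : g ∈ MulAction.stabilizer G α) :
    ∃ k' ∈ N, g • σ = k' • σ := by
  haveI : (N.subgroupOf (MulAction.stabilizer G α)).Normal :=
    (Subgroup.normal_subgroupOf_iff_le_normalizer hN).mpr hnorm
  have hfix : MulAction.fixedPoints (N.subgroupOf (MulAction.stabilizer G α))
      (MulAction.orbit (MulAction.stabilizer G α) σ) ≠ Set.univ := by
    intro h
    have h1 : (⟨σ, MulAction.mem_orbit_self σ⟩ : MulAction.orbit (MulAction.stabilizer G α) σ) ∈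
        MulAction.fixedPoints (N.subgroupOf (MulAction.stabilizer G α)) _ := by rw [h]; trivial
    have h2 := h1 ⟨⟨k, hN hk⟩, hk⟩
    exact hkσ (congrArg Subtype.val h2)
  have htr := MulAction.IsQuasiPreprimitive.isPretransitive_of_normal hfix
  obtain ⟨n, hn⟩ := htr.exists_smul_eq
    (⟨σ, MulAction.mem_orbit_self σ⟩ : MulAction.orbit (MulAction.stabilizer G α) σ)
    ⟨g • σ, ⟨⟨g, hg⟩, rfl⟩⟩
  exact ⟨((n : MulAction.stabilizer G α) : G), n.2, (congrArg Subtype.val hn).symm⟩

theorem card_stab_eq {G : Type*} [Group G] {Ω : Type*} [MulAction G Ω]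
    [MulAction.IsPretransitive G Ω] (α β : Ω) :
    Nat.card (MulAction.stabilizer G α) = Nat.card (MulAction.stabilizer G β) := by
  obtain ⟨g, rfl⟩ := MulAction.exists_smul_eq G α β
  rw [MulAction.stabilizer_smul_eq_stabilizer_map_conj]
  exact (Subgroup.card_map_of_injective (MulAut.conj g).injective).symm

theorem card_stab2_smul {G : Type*} [Group G] {Ω : Type*} [MulAction G Ω] (g : G) (x y : Ω) :
    Nat.card (MulAction.stabilizer G (g • x) ⊓ MulAction.stabilizer G (g • y) : Subgroup G) =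
      Nat.card (MulAction.stabilizer G x ⊓ MulAction.stabilizer G y : Subgroup G) := by
  rw [MulAction.stabilizer_smul_eq_stabilizer_map_conj, MulAction.stabilizer_smul_eq_stabilizer_map_conj,
    ← Subgroup.map_inf _ _ _ (MulAut.conj g).injective]
  exact Subgroup.card_map_of_injective (MulAut.conj g).injective

theorem orbit_card_mul {G : Type*} [Group G] [Finite G] {Ω : Type*} [MulAction G Ω]
    (H : Subgroup G) (τ : Ω) :
    Nat.card (MulAction.stabilizer G τ ⊓ H : Subgroup G) * Nat.card {u : Ω | ∃ x ∈ H, x • τ = u} =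
      Nat.card H := by
  rw [Cfsg.Agent.Lib_helper9_OrbitIndex.card_orbit_eq_relIndex H τ,
    ← Cfsg.Agent.Lib_helper9_OrbitIndex.card_subgroupOf_eq]
  exact Subgroup.card_mul_index _

/-- In a primitive faithful action with nontrivial stabilizers, distinct points have
incomparable stabilizers. -/
theorem stab_not_le {G : Type*} [Group G] {Ω : Type*} [MulAction G Ω] [FaithfulSMul G Ω]
    (hprim : MulAction.IsPreprimitive G Ω) (hH : ∀ α : Ω, MulAction.stabilizer G α ≠ ⊥)
    (α β : Ω) (hle : MulAction.stabilizer G β ≤ MulAction.stabilizer G α) : β = α := by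
  by_contra hne
  haveI : Nontrivial Ω := ⟨⟨β, α, hne⟩⟩
  have hcoα : IsCoatom (MulAction.stabilizer G α) :=
    MulAction.IsPreprimitive.isCoatom_stabilizer_of_isPreprimitive G α
  have hcoβ : IsCoatom (MulAction.stabilizer G β) :=
    MulAction.IsPreprimitive.isCoatom_stabilizer_of_isPreprimitive G β
  have heq : MulAction.stabilizer G α = MulAction.stabilizer G β := by
    rcases hcoβ.le_iff.mp hle with h | h
    · exact absurd h hcoα.1
    · exact h
  obtain ⟨g, hg⟩ := MulAction.exists_smul_eq G α β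
  have hgn : g ∈ Subgroup.normalizer (MulAction.stabilizer G α : Set G) := by
    rw [Subgroup.mem_normalizer_iff]
    intro x
    constructor
    · intro hx
      rw [heq, MulAction.mem_stabilizer_iff, ← hg, smul_smul]
      have : g * x * g⁻¹ * g = g * x := by group
      rw [this, mul_smul, MulAction.mem_stabilizer_iff.mp hx]
    · intro hx
      rw [heq, MulAction.mem_stabilizer_iff, ← hg, smul_smul] at hx
      have : g * x * g⁻¹ * g = g * x := by group
      rw [this, mul_smul] at hx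
      exact MulAction.mem_stabilizer_iff.mpr (smul_left_cancel g hx)
  rcases hcoα.le_iff.mp (Subgroup.le_normalizer (H := MulAction.stabilizer G α)) with h | h
  · -- normal
    apply hH α
    rw [Subgroup.eq_bot_iff_forall]
    intro y hy
    apply FaithfulSMul.eq_of_smul_eq_smul (α := Ω)
    intro u
    obtain ⟨g', rfl⟩ := MulAction.exists_smul_eq G α u
    have hg' : g'⁻¹ ∈ Subgroup.normalizer (MulAction.stabilizer G α : Set G) := by rw [h]; trivial
    have h1 := (Subgroup.mem_normalizer_iff.mp hg' y).mp hy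
    rw [MulAction.mem_stabilizer_iff] at h1
    rw [one_smul]
    have h2 : y • g' • α = g' • ((g'⁻¹ * y * g'⁻¹⁻¹) • α) := by
      rw [smul_smul, smul_smul]; congr 1; group
    rw [h2, h1]
  · rw [h] at hgn
    exact hne (hg ▸ (MulAction.mem_stabilizer_iff.mp hgn))

/-- The key counting contradiction. -/
theorem key {G : Type*} [Group G] [Finite G] {Ω : Type*} [Finite Ω] [MulAction G Ω]
    [FaithfulSMul G Ω]
    (hprim : MulAction.IsPreprimitive G Ω) (hH : ∀ α : Ω, MulAction.stabilizer G α ≠ ⊥)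
    (α β τ : Ω) (hβα : β ≠ α) (hτα : τ ≠ α)
    (hsub : ∀ g ∈ MulAction.stabilizer G α, ∃ h ∈ MulAction.stabilizer G β, g • τ = h • τ)
    (hd : Nat.card (MulAction.stabilizer G τ ⊓ MulAction.stabilizer G α : Subgroup G) ≤
      Nat.card (MulAction.stabilizer G τ ⊓ MulAction.stabilizer G β : Subgroup G)) : False := by
  have : Nontrivial Ω := ⟨⟨β, α, hβα⟩⟩
  have hcoα : IsCoatom (MulAction.stabilizer G α) :=
    MulAction.IsPreprimitive.isCoatom_stabilizer_of_isPreprimitive G α
  have h1 := orbit_card_mul (MulAction.stabilizer G α) τ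
  have h2 := orbit_card_mul (MulAction.stabilizer G β) τ
  have h3 := card_stab_eq (G := G) α β
  have hss : {u : Ω | ∃ x ∈ MulAction.stabilizer G α, x • τ = u} ⊆
      {u : Ω | ∃ x ∈ MulAction.stabilizer G β, x • τ = u} := by
    rintro u ⟨x, hx, rfl⟩
    obtain ⟨h, hh, e⟩ := hsub x hx
    exact ⟨h, hh, e.symm⟩
  have hle : Nat.card {u : Ω | ∃ x ∈ MulAction.stabilizer G α, x • τ = u} ≤
      Nat.card {u : Ω | ∃ x ∈ MulAction.stabilizer G β, x • τ = u} :=
    Nat.card_mono (Set.toFinite _) hss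
  have hpos : 0 < Nat.card (MulAction.stabilizer G τ ⊓ MulAction.stabilizer G α : Subgroup G) :=
    Nat.card_pos
  have hcard : Nat.card {u : Ω | ∃ x ∈ MulAction.stabilizer G β, x • τ = u} ≤
      Nat.card {u : Ω | ∃ x ∈ MulAction.stabilizer G α, x • τ = u} := by
    by_contra hlt
    rw [not_le] at hlt
    have : Nat.card (MulAction.stabilizer G τ ⊓ MulAction.stabilizer G α : Subgroup G) *
        Nat.card {u : Ω | ∃ x ∈ MulAction.stabilizer G α, x • τ = u} <
        Nat.card (MulAction.stabilizer G τ ⊓ MulAction.stabilizer G β : Subgroup G) *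
        Nat.card {u : Ω | ∃ x ∈ MulAction.stabilizer G β, x • τ = u} :=
      calc _ < Nat.card (MulAction.stabilizer G τ ⊓ MulAction.stabilizer G α : Subgroup G) *
              Nat.card {u : Ω | ∃ x ∈ MulAction.stabilizer G β, x • τ = u} :=
            Nat.mul_lt_mul_of_pos_left hlt hpos
        _ ≤ _ := Nat.mul_le_mul_right _ hd
    rw [h1, h2, h3] at this
    exact lt_irrefl _ this
  have hEq : {u : Ω | ∃ x ∈ MulAction.stabilizer G α, x • τ = u} =
      {u : Ω | ∃ x ∈ MulAction.stabilizer G β, x • τ = u} := by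
    apply Set.eq_of_subset_of_ncard_le hss _ (Set.toFinite _)
    rw [← Nat.card_coe_set_eq, ← Nat.card_coe_set_eq]
    exact hcard
  -- the subgroup preserving the orbit
  let S : Subgroup G :=
    { carrier := {g | ∀ u, g • u ∈ {u : Ω | ∃ x ∈ MulAction.stabilizer G α, x • τ = u} ↔
        u ∈ {u : Ω | ∃ x ∈ MulAction.stabilizer G α, x • τ = u}}
      mul_mem' := by
        intro a b ha hb u
        rw [mul_smul, ha (b • u), hb u]
      one_mem' := by
        intro u
        rw [one_smul]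
      inv_mem' := by
        intro a ha u
        rw [← ha (a⁻¹ • u), smul_inv_smul] }
  have hinv : ∀ γ : Ω, ∀ g ∈ MulAction.stabilizer G γ, ∀ u,
      g • u ∈ {u : Ω | ∃ x ∈ MulAction.stabilizer G γ, x • τ = u} ↔
      u ∈ {u : Ω | ∃ x ∈ MulAction.stabilizer G γ, x • τ = u} := by
    intro γ g hg u
    constructor
    · rintro ⟨x, hx, e⟩
      refine ⟨g⁻¹ * x, Subgroup.mul_mem _ (Subgroup.inv_mem _ hg) hx, ?_⟩
      rw [mul_smul, e, inv_smul_smul]
    · rintro ⟨x, hx, rfl⟩
      exact ⟨g * x, Subgroup.mul_mem _ hg hx, mul_smul _ _ _⟩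
  have hSα : MulAction.stabilizer G α ≤ S := fun g hg u => hinv α g hg u
  have hSβ : MulAction.stabilizer G β ≤ S := by
    intro g hg u
    show g • u ∈ {u : Ω | ∃ x ∈ MulAction.stabilizer G α, x • τ = u} ↔
        u ∈ {u : Ω | ∃ x ∈ MulAction.stabilizer G α, x • τ = u}
    rw [hEq]
    exact hinv β g hg u
  rcases hcoα.le_iff.mp hSα with h | h
  · obtain ⟨g, hg⟩ := MulAction.exists_smul_eq G τ α
    have hgS : g ∈ S := by rw [h]; trivial
    have h4 := (hgS τ).mpr ⟨1, Subgroup.one_mem _, one_smul _ _⟩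
    rw [hg] at h4
    obtain ⟨x, hx, e⟩ := h4
    apply hτα
    have : τ = x⁻¹ • α := by rw [← e, inv_smul_smul]
    rw [this]
    exact MulAction.mem_stabilizer_iff.mp (Subgroup.inv_mem _ hx)
  · rw [h] at hSβ
    exact hβα (stab_not_le hprim hH α β hSβ)

theorem manning {G : Type*} [Group G] [Finite G] {Ω : Type*} [Finite Ω] [MulAction G Ω]
    [FaithfulSMul G Ω]
    (hprim : MulAction.IsPreprimitive G Ω) (hH : ∀ α : Ω, MulAction.stabilizer G α ≠ ⊥)
    (hep : ∀ (α : Ω) (ω : Ω), MulAction.IsPreprimitive (MulAction.stabilizer G α)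
      (MulAction.orbit (MulAction.stabilizer G α) ω))
    (α ω : Ω) (hω : ω ≠ α) (N : Subgroup G) (hN : N ≤ MulAction.stabilizer G α)
    (hnorm : MulAction.stabilizer G α ≤ Subgroup.normalizer (N : Set G))
    (hfix : ∀ k ∈ N, k • ω = ω) : N = ⊥ := by
  by_contra hN1
  obtain ⟨k₀, hk₀, hk₀1⟩ : ∃ k₀ ∈ N, k₀ ≠ 1 := by
    obtain ⟨a, ha⟩ := Subgroup.ne_bot_iff_exists_ne_one.mp hN1
    exact ⟨a, a.2, fun h => ha (Subtype.ext h)⟩
  have hσ : ∃ σ : Ω, k₀ • σ ≠ σ := by
    by_contra hall
    simp only [not_exists, not_not] at hall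
    apply hk₀1
    apply FaithfulSMul.eq_of_smul_eq_smul (α := Ω)
    intro u
    rw [hall u, one_smul]
  obtain ⟨σ, hσ⟩ := hσ
  haveI : MulAction.IsPretransitive G Ω := hprim.toIsPretransitive
  -- minimal pair
  obtain ⟨⟨x, y⟩, hxy, hmin⟩ := Set.exists_min_image {p : Ω × Ω | p.1 ≠ p.2}
    (fun p => Nat.card (MulAction.stabilizer G p.2 ⊓ MulAction.stabilizer G p.1 : Subgroup G))
    (Set.toFinite _) ⟨(ω, α), hω⟩
  obtain ⟨g, hg⟩ := MulAction.exists_smul_eq G x α
  have hτα : g • y ≠ α := by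
    rw [← hg]
    intro h
    exact hxy (smul_left_cancel g h).symm
  have hmin' : ∀ x' y' : Ω, x' ≠ y' →
      Nat.card (MulAction.stabilizer G (g • y) ⊓ MulAction.stabilizer G α : Subgroup G) ≤
      Nat.card (MulAction.stabilizer G y' ⊓ MulAction.stabilizer G x' : Subgroup G) := by
    intro x' y' hne
    have := hmin (x', y') hne
    rw [← hg, card_stab2_smul]
    exact this
  have hα_fix : ∀ k ∈ N, k • α = α := fun k hk => MulAction.mem_stabilizer_iff.mp (hN hk)
  by_cases hτ : ∀ k ∈ N, k • (g • y) = g • y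
  · -- τ fixed: use σ
    have hσα : σ ≠ α := by
      rintro rfl
      exact hσ (hα_fix k₀ hk₀)
    have hστ : σ ≠ g • y := by
      intro h
      rw [h] at hσ
      exact hσ (hτ k₀ hk₀)
    refine key hprim hH α σ (g • y) hσα hτα ?_ (hmin' σ (g • y) hστ)
    intro a ha
    obtain ⟨k₁, hk₁, e⟩ := normal_trans α σ (hep α σ) N hN hnorm k₀ hk₀ hσ a⁻¹
      (Subgroup.inv_mem _ ha)
    refine ⟨a * k₁, ?_, ?_⟩
    · rw [MulAction.mem_stabilizer_iff, mul_smul, ← e, smul_inv_smul]
    · rw [mul_smul, hτ k₁ hk₁]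
  · -- τ moved: use ω
    simp only [not_forall] at hτ
    obtain ⟨k, hk, hkτ⟩ := hτ
    have hωτ : ω ≠ g • y := by
      intro h
      rw [← h] at hkτ
      exact hkτ (hfix k hk)
    refine key hprim hH α ω (g • y) hω hτα ?_ (hmin' ω (g • y) hωτ)
    intro a ha
    obtain ⟨k', hk', e⟩ := normal_trans α (g • y) (hep α (g • y)) N hN hnorm k hk hkτ a ha
    exact ⟨k', MulAction.mem_stabilizer_iff.mpr (hfix k' hk'), e⟩

theorem s3494 {G : Type*} [Group G] [Finite G] {Ω : Type*} [Finite Ω] [MulAction G Ω]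
    [FaithfulSMul G Ω]
    (hprim : MulAction.IsPreprimitive G Ω) (hH : ∀ α : Ω, MulAction.stabilizer G α ≠ ⊥)
    (hep : ∀ (α : Ω) (ω : Ω), MulAction.IsPreprimitive (MulAction.stabilizer G α)
      (MulAction.orbit (MulAction.stabilizer G α) ω))
    (α ω : Ω) (hω : ω ≠ α) (h : MulAction.stabilizer G α)
    (hfix : ∀ x ∈ MulAction.orbit (MulAction.stabilizer G α) ω, h • x = x) : h = 1 := by
  let N : Subgroup G :=
    { carrier := {k | k ∈ MulAction.stabilizer G α ∧
        ∀ x ∈ MulAction.orbit (MulAction.stabilizer G α) ω, k • x = x}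
      mul_mem' := by
        rintro a b ⟨ha, ha'⟩ ⟨hb, hb'⟩
        refine ⟨Subgroup.mul_mem _ ha hb, fun x hx => ?_⟩
        rw [mul_smul, hb' x hx, ha' x hx]
      one_mem' := ⟨Subgroup.one_mem _, fun x _ => one_smul _ _⟩
      inv_mem' := by
        rintro a ⟨ha, ha'⟩
        refine ⟨Subgroup.inv_mem _ ha, fun x hx => ?_⟩
        rw [inv_smul_eq_iff, ha' x hx] }
  have hNle : N ≤ MulAction.stabilizer G α := fun k hk => hk.1
  have hconj : ∀ g ∈ MulAction.stabilizer G α, ∀ k ∈ N, g * k * g⁻¹ ∈ N := by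
    rintro g hg k ⟨hk, hk'⟩
    refine ⟨Subgroup.mul_mem _ (Subgroup.mul_mem _ hg hk) (Subgroup.inv_mem _ hg), fun x hx => ?_⟩
    have hx' : g⁻¹ • x ∈ MulAction.orbit (MulAction.stabilizer G α) ω := by
      obtain ⟨a, rfl⟩ := hx
      exact ⟨⟨g⁻¹, Subgroup.inv_mem _ hg⟩ * a, mul_smul _ _ _⟩
    rw [mul_smul, mul_smul, hk' _ hx', smul_inv_smul]
  have hnorm : MulAction.stabilizer G α ≤ Subgroup.normalizer (N : Set G) := by
    intro g hg
    rw [Subgroup.mem_normalizer_iff]
    intro k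
    constructor
    · exact hconj g hg k
    · intro hk
      have := hconj g⁻¹ (Subgroup.inv_mem _ hg) _ hk
      have e : g⁻¹ * (g * k * g⁻¹) * g⁻¹⁻¹ = k := by group
      rwa [e] at this
  have hNfix : ∀ k ∈ N, k • ω = ω := fun k hk => hk.2 ω (MulAction.mem_orbit_self ω)
  have hbot := manning hprim hH hep α ω hω N hNle hnorm hNfix
  have hmem : (h : G) ∈ N := ⟨h.2, fun x hx => hfix x hx⟩
  rw [hbot, Subgroup.mem_bot] at hmem
  exact Subtype.ext hmem

end Cfsg.Agent.Lib_helper9_Manning
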