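import Mathlib

set_option autoImplicit false

namespace Cfsg.Agent.Lib_helper9_TransferTwo

open MulAction Subgroup

variable {G : Type*} [Group G]

/-- the sign character of a subgroup of index 2. -/
noncomputable def signHom (S : Subgroup G) (M' : Subgroup S) (hidx : M'.index = 2) : S →* ℤˣ :=
  haveI : DecidablePred (· ∈ M') := Classical.decPred _
  { toFun := fun s => if s ∈ M' then 1 else -1
    map_one' := by simp [M'.one_mem]
    map_mul' := by
      intro a b
      by_cases ha : a ∈ M' <;> by_cases hb : b ∈ M' <;>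
        simp [Subgroup.mul_mem_iff_of_index_two hidx, ha, hb] }

theorem signHom_of_mem (S : Subgroup G) (M' : Subgroup S) (hidx : M'.index = 2) {s : S}
    (hs : s ∈ M') : signHom S M' hidx s = 1 := by
  unfold signHom
  simp [hs]

theorem signHom_of_not_mem (S : Subgroup G) (M' : Subgroup S) (hidx : M'.index = 2) {s : S}
    (hs : s ∉ M') : signHom S M' hidx s = -1 := by
  unfold signHom
  simp [hs]

/-- `S3225`: generalized Thompson transfer lemma. -/
theorem conj_mem_of_no_index_two [Finite G] (hG : ∀ H : Subgroup G, H.index ≠ 2) (S : Sylow 2 G)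
    (M : Subgroup G) (hM : M.relIndex (S : Subgroup G) = 2)
    (n : ℕ) (hord : ∀ y ∈ (S : Subgroup G), y ∉ M → 2 ^ (n - 1) < orderOf y)
    (x : G) (hxn : orderOf x = 2 ^ n) :
    ∃ g : G, g * x * g⁻¹ ∈ M := by
  classical
  by_contra hcon
  push Not at hcon
  have hidx : (M.subgroupOf (S : Subgroup G)).index = 2 := hM
  obtain ⟨ϕ, hϕ1, hϕ2⟩ : ∃ ϕ : (S : Subgroup G) →* ℤˣ,
      (∀ s : (S : Subgroup G), (s : G) ∈ M → ϕ s = 1) ∧
      (∀ s : (S : Subgroup G), (s : G) ∉ M → ϕ s = -1) :=
    ⟨signHom (S : Subgroup G) (M.subgroupOf S) hidx,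
      fun s hs => signHom_of_mem _ _ hidx (Subgroup.mem_subgroupOf.mpr hs),
      fun s hs => signHom_of_not_mem _ _ hidx (fun h => hs (Subgroup.mem_subgroupOf.mp h))⟩
  letI : Fintype (Quotient (orbitRel (zpowers x) (G ⧸ (S : Subgroup G)))) := Fintype.ofFinite _
  have hT := MonoidHom.transfer_eq_prod_quotient_orbitRel_zpowers_quot ϕ x
  have hgen : ∀ (k : G) (m : ℕ) (hmem : k⁻¹ * x ^ m * k ∈ (S : Subgroup G)), m ∣ 2 ^ n →
      ϕ ⟨k⁻¹ * x ^ m * k, hmem⟩ = (-1) ^ m := by
    intro k m hmem hmdvd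
    obtain ⟨j, hj, hmj⟩ := (Nat.dvd_prime_pow Nat.prime_two).mp hmdvd
    by_cases hj0 : j = 0
    · have hm1 : m = 1 := by rw [hmj, hj0, pow_zero]
      subst hm1
      have hpo : ((-1 : ℤˣ)) ^ 1 = -1 := pow_one _
      rw [hpo]
      apply hϕ2
      show k⁻¹ * x ^ 1 * k ∉ M
      rw [pow_one]
      have := hcon (k⁻¹)
      rwa [inv_inv] at this
    · have hev : Even m := by rw [hmj]; exact (Nat.even_pow.mpr ⟨even_two, hj0⟩)
      rw [hev.neg_one_pow]
      apply hϕ1
      by_contra hnot
      have h1 := hord _ hmem hnot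
      have h2 : orderOf (k⁻¹ * x ^ m * k) = orderOf (x ^ m) := by
        have : k⁻¹ * x ^ m * k = MulAut.conj (k⁻¹) (x ^ m) := by
          simp [MulAut.conj_apply]
        rw [this, MulEquiv.orderOf_eq]
      have hm0 : m ≠ 0 := by rw [hmj]; positivity
      have h3 : orderOf (x ^ m) = 2 ^ (n - j) := by
        rw [orderOf_pow' x hm0, hxn, hmj, Nat.gcd_eq_right (pow_dvd_pow 2 hj),
          Nat.pow_div hj (by norm_num)]
      rw [h2, h3] at h1
      have h4 : n - j ≤ n - 1 := by omega
      exact absurd (Nat.pow_le_pow_right (by norm_num) h4) (not_le.mpr h1)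
  have hfac : ∀ q : Quotient (orbitRel (zpowers x) (G ⧸ (S : Subgroup G))),
      ϕ ⟨q.out.out⁻¹ * x ^ Function.minimalPeriod (x • ·) q.out * q.out.out,
        QuotientGroup.out_conj_pow_minimalPeriod_mem (S : Subgroup G) x q.out⟩ =
        (-1) ^ Function.minimalPeriod (x • ·) q.out := by
    intro q
    apply hgen
    rw [← hxn]
    apply Function.IsPeriodicPt.minimalPeriod_dvd
    show (fun y => x • y)^[orderOf x] q.out = q.out
    rw [smul_iterate, pow_orderOf_eq_one]
    exact one_smul _ _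
  have hprod : MonoidHom.transfer ϕ x = (-1) ^ (S : Subgroup G).index := by
    rw [hT, Finset.prod_congr rfl (fun q _ => hfac q), Finset.prod_pow_eq_pow_sum,
      ← Subgroup.index_eq_sum_minimalPeriod]
  have hodd : Odd (S : Subgroup G).index :=
    Nat.not_even_iff_odd.mp (fun h => S.not_dvd_index (even_iff_two_dvd.mp h))
  rw [hodd.neg_one_pow] at hprod
  have hker : (MonoidHom.transfer ϕ).ker.index = 2 := by
    rw [Subgroup.index_ker]
    have hsurj : (MonoidHom.transfer ϕ).range = ⊤ := by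
      rw [eq_top_iff]
      intro u _
      rcases Int.units_eq_one_or u with rfl | rfl
      · exact Subgroup.one_mem _
      · exact ⟨x, hprod⟩
    rw [hsurj, Subgroup.card_top, Nat.card_eq_fintype_card, Fintype.card_units_int]
  exact hG _ hker

end Cfsg.Agent.Lib_helper9_TransferTwo
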