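import Mathlib
import Cfsg.Prelude.Def_LocalStructure

set_option autoImplicit false

namespace Cfsg.Agent.Lib_lead_AltPClosed

/-- In a `p`-closed finite group, the product of two elements of order dividing `p` has
`p`-power order. -/
theorem orderOf_mul_of_pclosed {G : Type*} [Group G] [Finite G] (p : ℕ) [Fact p.Prime]
    (h : Cfsg.IsPClosed p G) (x y : G) (hx : x ^ p = 1) (hy : y ^ p = 1) :
    ∃ k : ℕ, orderOf (x * y) = p ^ k := by
  obtain ⟨P⟩ : Nonempty (Sylow p G) := inferInstance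
  haveI hPn : (P : Subgroup G).Normal := h P
  have mem : ∀ g : G, g ^ p = 1 → g ∈ (P : Subgroup G) := by
    intro g hg
    have hd : orderOf g ∣ p := orderOf_dvd_of_pow_eq_one hg
    have hpg : IsPGroup p (Subgroup.zpowers g) := by
      rcases (Nat.dvd_prime (Fact.out : p.Prime)).mp hd with h1 | h1
      · exact IsPGroup.of_card (n := 0) (by rw [Nat.card_zpowers, h1, pow_zero])
      · exact IsPGroup.of_card (n := 1) (by rw [Nat.card_zpowers, h1, pow_one])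
    obtain ⟨Q, hQ⟩ := hpg.exists_le_sylow
    obtain ⟨c, rfl⟩ := MulAction.exists_smul_eq G P Q
    rw [Sylow.smul_eq_of_normal] at hQ
    exact hQ (Subgroup.mem_zpowers g)
  have hxy : x * y ∈ (P : Subgroup G) := (P : Subgroup G).mul_mem (mem x hx) (mem y hy)
  obtain ⟨k, hk⟩ := (IsPGroup.iff_orderOf.mp P.isPGroup') ⟨x * y, hxy⟩
  refine ⟨k, ?_⟩
  rw [← hk, ← Subgroup.orderOf_coe]

theorem ne_pow_of_prime {p q : ℕ} (hp : p.Prime) (hq : q.Prime) (hne : p ≠ q) (k : ℕ) :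
    q ≠ p ^ k := by
  intro h
  rcases Nat.eq_zero_or_pos k with rfl | hk
  · rw [pow_zero] at h
    exact hq.one_lt.ne' h
  · have hd : p ∣ q := by rw [h]; exact dvd_pow_self p hk.ne'
    exact hne ((Nat.prime_dvd_prime_iff_eq hp hq).mp hd)

theorem ne_of_val {n : ℕ} (u v : Fin n) (h : u.val ≠ v.val) : u ≠ v :=
  fun e => h (congrArg Fin.val e)

/-- a 3-cycle moving the point `a` -/
theorem exists_mover {n : ℕ} (a P0 P1 : Fin n) (h0 : a ≠ P0) (h1 : a ≠ P1) (h01 : P0 ≠ P1) :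
    ∃ g : Equiv.Perm (Fin n), Equiv.Perm.sign g = 1 ∧ g a ≠ a := by
  refine ⟨Equiv.swap a P0 * Equiv.swap a P1,
    (Equiv.Perm.isThreeCycle_swap_mul_swap_same h0 h1 h01).sign, ?_⟩
  rw [Equiv.Perm.mul_apply, Equiv.swap_apply_left, Equiv.swap_apply_of_ne_of_ne h1.symm h01.symm]
  exact h1.symm

/-- the case `p = 3` -/
theorem aux3 (n : ℕ) (hn : 5 ≤ n) :
    ∃ (a : Fin n) (x y : Equiv.Perm (Fin n)), Equiv.Perm.sign x = 1 ∧ Equiv.Perm.sign y = 1 ∧
      x a = a ∧ y a = a ∧ orderOf x = 3 ∧ y ^ 3 = 1 ∧ (∀ k, orderOf (x * y) ≠ 3 ^ k) ∧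
      ∃ g : Equiv.Perm (Fin n), Equiv.Perm.sign g = 1 ∧ g a ≠ a := by
  obtain ⟨P0, hP0⟩ : ∃ P : Fin n, P.val = 0 := ⟨⟨0, by omega⟩, rfl⟩
  obtain ⟨P1, hP1⟩ : ∃ P : Fin n, P.val = 1 := ⟨⟨1, by omega⟩, rfl⟩
  obtain ⟨P2, hP2⟩ : ∃ P : Fin n, P.val = 2 := ⟨⟨2, by omega⟩, rfl⟩
  obtain ⟨P3, hP3⟩ : ∃ P : Fin n, P.val = 3 := ⟨⟨3, by omega⟩, rfl⟩
  obtain ⟨a, ha⟩ : ∃ P : Fin n, P.val = 4 := ⟨⟨4, by omega⟩, rfl⟩
  have h01 : P0 ≠ P1 := ne_of_val _ _ (by omega)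
  have h02 : P0 ≠ P2 := ne_of_val _ _ (by omega)
  have h03 : P0 ≠ P3 := ne_of_val _ _ (by omega)
  have h12 : P1 ≠ P2 := ne_of_val _ _ (by omega)
  have h13 : P1 ≠ P3 := ne_of_val _ _ (by omega)
  have h23 : P2 ≠ P3 := ne_of_val _ _ (by omega)
  have ha0 : a ≠ P0 := ne_of_val _ _ (by omega)
  have ha1 : a ≠ P1 := ne_of_val _ _ (by omega)
  have ha2 : a ≠ P2 := ne_of_val _ _ (by omega)
  have ha3 : a ≠ P3 := ne_of_val _ _ (by omega)
  have hx3 := Equiv.Perm.isThreeCycle_swap_mul_swap_same h02 h01 h12.symm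
  have hy3 := Equiv.Perm.isThreeCycle_swap_mul_swap_same h01.symm h13 h03
  refine ⟨a, Equiv.swap P0 P2 * Equiv.swap P0 P1, Equiv.swap P1 P0 * Equiv.swap P1 P3,
    hx3.sign, hy3.sign, ?_, ?_, hx3.orderOf, ?_, ?_, exists_mover a P0 P1 ha0 ha1 h01⟩
  · rw [Equiv.Perm.mul_apply, Equiv.swap_apply_of_ne_of_ne ha0 ha1,
      Equiv.swap_apply_of_ne_of_ne ha0 ha2]
  · rw [Equiv.Perm.mul_apply, Equiv.swap_apply_of_ne_of_ne ha1 ha3,
      Equiv.swap_apply_of_ne_of_ne ha1 ha0]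
  · rw [← hy3.orderOf]; exact pow_orderOf_eq_one _
  · have e : Equiv.swap P0 P2 * Equiv.swap P0 P1 * (Equiv.swap P1 P0 * Equiv.swap P1 P3)
        = Equiv.swap P0 P2 * Equiv.swap P1 P3 := by
      rw [Equiv.swap_comm P1 P0, mul_assoc, Equiv.swap_mul_self_mul]
    rw [e]
    have hcomm : Equiv.swap P1 P3 * Equiv.swap P0 P2 = Equiv.swap P0 P2 * Equiv.swap P1 P3 := by
      have h1 := Equiv.swap_apply_apply (Equiv.swap P0 P2) P1 P3
      rw [Equiv.swap_apply_of_ne_of_ne h01.symm h12, Equiv.swap_apply_of_ne_of_ne h03.symm h23.symm,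
        Equiv.swap_inv] at h1
      -- h1 : swap P1 P3 = swap P0 P2 * swap P1 P3 * swap P0 P2
      calc Equiv.swap P1 P3 * Equiv.swap P0 P2
          = (Equiv.swap P0 P2 * Equiv.swap P1 P3 * Equiv.swap P0 P2) * Equiv.swap P0 P2 := by
            rw [← h1]
        _ = Equiv.swap P0 P2 * Equiv.swap P1 P3 := by
            rw [mul_assoc, Equiv.swap_mul_self, mul_one]
    have hord : orderOf (Equiv.swap P0 P2 * Equiv.swap P1 P3) = 2 := by
      apply orderOf_eq_prime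
      · rw [pow_two]
        calc Equiv.swap P0 P2 * Equiv.swap P1 P3 * (Equiv.swap P0 P2 * Equiv.swap P1 P3)
            = Equiv.swap P0 P2 * (Equiv.swap P1 P3 * Equiv.swap P0 P2) * Equiv.swap P1 P3 := by
              simp only [mul_assoc]
          _ = Equiv.swap P0 P2 * (Equiv.swap P0 P2 * Equiv.swap P1 P3) * Equiv.swap P1 P3 := by
              rw [hcomm]
          _ = 1 := by
              rw [← mul_assoc, Equiv.swap_mul_self, one_mul, Equiv.swap_mul_self]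
      · intro h1
        have h2 := congrArg (fun f : Equiv.Perm (Fin n) => f P0) h1
        simp only [Equiv.Perm.mul_apply, Equiv.Perm.one_apply] at h2
        rw [Equiv.swap_apply_of_ne_of_ne h01 h03, Equiv.swap_apply_left] at h2
        exact h02 h2.symm
    intro k
    rw [hord]
    exact ne_pow_of_prime Nat.prime_three Nat.prime_two (by norm_num) k

/-- the case `p ≥ 5` -/
theorem aux5 (n p : ℕ) (hp : p.Prime) (hp5 : 5 ≤ p) (hpn : p < n) :
    ∃ (a : Fin n) (x y : Equiv.Perm (Fin n)), Equiv.Perm.sign x = 1 ∧ Equiv.Perm.sign y = 1 ∧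
      x a = a ∧ y a = a ∧ orderOf x = p ∧ y ^ p = 1 ∧ (∀ k, orderOf (x * y) ≠ p ^ k) ∧
      ∃ g : Equiv.Perm (Fin n), Equiv.Perm.sign g = 1 ∧ g a ≠ a := by
  have : NeZero n := ⟨by omega⟩
  obtain ⟨P0, hP0⟩ : ∃ P : Fin n, P.val = 0 := ⟨⟨0, by omega⟩, rfl⟩
  obtain ⟨P1, hP1⟩ : ∃ P : Fin n, P.val = 1 := ⟨⟨1, by omega⟩, rfl⟩
  obtain ⟨P2, hP2⟩ : ∃ P : Fin n, P.val = 2 := ⟨⟨2, by omega⟩, rfl⟩
  obtain ⟨i, hi⟩ : ∃ P : Fin n, P.val = p - 1 := ⟨⟨p - 1, by omega⟩, rfl⟩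
  obtain ⟨a, ha⟩ : ∃ P : Fin n, P.val = p := ⟨⟨p, hpn⟩, rfl⟩
  have h01 : P0 ≠ P1 := ne_of_val _ _ (by omega)
  have h02 : P0 ≠ P2 := ne_of_val _ _ (by omega)
  have h12 : P1 ≠ P2 := ne_of_val _ _ (by omega)
  have ha0 : a ≠ P0 := ne_of_val _ _ (by omega)
  have ha1 : a ≠ P1 := ne_of_val _ _ (by omega)
  have hi0 : i ≠ 0 := by
    intro h
    have h2 : i.val = 0 := congrArg Fin.val h
    omega
  have hxa : Fin.cycleRange i a = a := Fin.cycleRange_of_gt (Fin.lt_def.mpr (by omega))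
  have hx0 : Fin.cycleRange i P0 = P1 :=
    Fin.ext (by rw [Fin.coe_cycleRange_of_lt (Fin.lt_def.mpr (by omega))]; omega)
  have hx1 : Fin.cycleRange i P1 = P2 :=
    Fin.ext (by rw [Fin.coe_cycleRange_of_lt (Fin.lt_def.mpr (by omega))]; omega)
  have hord : orderOf (Fin.cycleRange i) = p := by
    rw [← Equiv.Perm.lcm_cycleType, Fin.cycleType_cycleRange hi0, Multiset.lcm_singleton,
      normalize_eq, hi]
    omega
  have hsx : Equiv.Perm.sign (Fin.cycleRange i) = 1 := by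
    rw [Fin.sign_cycleRange, hi]
    exact (hp.even_sub_one (by omega)).neg_one_pow
  have hxp : Fin.cycleRange i ^ p = 1 := by
    rw [← hord]; exact pow_orderOf_eq_one _
  have e : Fin.cycleRange i * (Equiv.swap P0 P1 * (Fin.cycleRange i)⁻¹ * (Equiv.swap P0 P1)⁻¹)
      = Equiv.swap P1 P2 * Equiv.swap P1 P0 := by
    rw [← hx0, ← hx1, Equiv.swap_apply_apply, hx0, Equiv.swap_inv, Equiv.swap_comm P1 P0]
    simp only [mul_assoc]
  have h3 := Equiv.Perm.isThreeCycle_swap_mul_swap_same h12 h01.symm h02.symm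
  refine ⟨a, Fin.cycleRange i, Equiv.swap P0 P1 * (Fin.cycleRange i)⁻¹ * (Equiv.swap P0 P1)⁻¹,
    hsx, ?_, hxa, ?_, hord, ?_, ?_, exists_mover a P0 P1 ha0 ha1 h01⟩
  · rw [Equiv.Perm.sign_mul, Equiv.Perm.sign_mul, Equiv.Perm.sign_inv, Equiv.Perm.sign_inv, hsx,
      Equiv.Perm.sign_swap h01]
    rfl
  · rw [Equiv.Perm.mul_apply, Equiv.Perm.mul_apply, Equiv.swap_inv,
      Equiv.swap_apply_of_ne_of_ne ha0 ha1]
    have h4 : (Fin.cycleRange i)⁻¹ a = a := by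
      rw [Equiv.Perm.inv_eq_iff_eq]; exact hxa.symm
    rw [h4, Equiv.swap_apply_of_ne_of_ne ha0 ha1]
  · rw [conj_pow, inv_pow, hxp, inv_one, mul_one, mul_inv_cancel]
  · intro k
    rw [e, h3.orderOf]
    exact ne_pow_of_prime hp Nat.prime_three (by omega) k

theorem main (n p : ℕ) (hn : 5 ≤ n) [Fact p.Prime] (hp : p ≠ 2) (hpn : p ≤ n)
    (h : ∀ H : Subgroup ↥(alternatingGroup (Fin n)), H ≠ ⊤ → p ∣ Nat.card ↥H →
      Cfsg.IsPClosed p ↥H) : n = p := by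
  by_contra hne
  have hlt : p < n := lt_of_le_of_ne hpn (Ne.symm hne)
  have hpp : p.Prime := Fact.out
  have haux : ∃ (a : Fin n) (x y : Equiv.Perm (Fin n)), Equiv.Perm.sign x = 1 ∧
      Equiv.Perm.sign y = 1 ∧ x a = a ∧ y a = a ∧ orderOf x = p ∧ y ^ p = 1 ∧
      (∀ k, orderOf (x * y) ≠ p ^ k) ∧
      ∃ g : Equiv.Perm (Fin n), Equiv.Perm.sign g = 1 ∧ g a ≠ a := by
    by_cases h3 : p = 3
    · subst h3
      exact aux3 n hn
    · have h4 : p ≠ 4 := by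
        rintro rfl
        exact absurd hpp (by decide)
      have h2 := hpp.two_le
      exact aux5 n p hpp (by omega) hlt
  obtain ⟨a, x, y, hsx, hsy, hxa, hya, hxo, hyp, hxy, g, hsg, hga⟩ := haux
  have hxp : x ^ p = 1 := by rw [← hxo]; exact pow_orderOf_eq_one _
  have key : ∀ z'' : ↥(MulAction.stabilizer ↥(alternatingGroup (Fin n)) a),
      orderOf z'' = orderOf ((z'' : ↥(alternatingGroup (Fin n))) : Equiv.Perm (Fin n)) := by
    intro z''
    rw [Subgroup.orderOf_coe, Subgroup.orderOf_coe]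
  have hxH : (⟨x, Equiv.Perm.mem_alternatingGroup.mpr hsx⟩ : ↥(alternatingGroup (Fin n)))
      ∈ MulAction.stabilizer ↥(alternatingGroup (Fin n)) a :=
    MulAction.mem_stabilizer_iff.mpr hxa
  have hyH : (⟨y, Equiv.Perm.mem_alternatingGroup.mpr hsy⟩ : ↥(alternatingGroup (Fin n)))
      ∈ MulAction.stabilizer ↥(alternatingGroup (Fin n)) a :=
    MulAction.mem_stabilizer_iff.mpr hya
  have hHne : MulAction.stabilizer ↥(alternatingGroup (Fin n)) a ≠ ⊤ := by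
    intro htop
    have hg : (⟨g, Equiv.Perm.mem_alternatingGroup.mpr hsg⟩ : ↥(alternatingGroup (Fin n)))
        ∈ MulAction.stabilizer ↥(alternatingGroup (Fin n)) a := by
      rw [htop]; exact Subgroup.mem_top _
    exact hga (MulAction.mem_stabilizer_iff.mp hg)
  have hox : orderOf (⟨_, hxH⟩ : ↥(MulAction.stabilizer ↥(alternatingGroup (Fin n)) a)) = p := by
    rw [key]; exact hxo
  have hdvd : p ∣ Nat.card ↥(MulAction.stabilizer ↥(alternatingGroup (Fin n)) a) := by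
    rw [← hox]; exact orderOf_dvd_natCard _
  have hcl := h _ hHne hdvd
  have hx'' : (⟨_, hxH⟩ : ↥(MulAction.stabilizer ↥(alternatingGroup (Fin n)) a)) ^ p = 1 := by
    rw [← hox]; exact pow_orderOf_eq_one _
  have hy'' : (⟨_, hyH⟩ : ↥(MulAction.stabilizer ↥(alternatingGroup (Fin n)) a)) ^ p = 1 := by
    rw [← orderOf_dvd_iff_pow_eq_one, key]
    exact orderOf_dvd_of_pow_eq_one hyp
  obtain ⟨k, hk⟩ := orderOf_mul_of_pclosed p hcl _ _ hx'' hy''
  rw [key] at hk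
  exact hxy k hk

end Cfsg.Agent.Lib_lead_AltPClosed
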