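import Mathlib
import Cfsg.Prelude.Def_Sporadic_a

/-! A computable bit-mask model of the length-24 code built from the squares modulo 23. -/

set_option autoImplicit false

namespace Cfsg.Agent.Lib_lead_Golay

open Cfsg

/-- the `j`-th point -/
def pt (j : Fin 24) : GolayPt := if j.val = 23 then none else some ((j.val : ℕ) : ZMod 23)

theorem pt_bijective : Function.Bijective pt := by decide

/-- bit-mask of a word -/
def enc (w : GolayPt → ZMod 2) : ℕ := Nat.ofBits (fun j : Fin 24 => decide (w (pt j) = 1))

theorem enc_lt (w : GolayPt → ZMod 2) : enc w < 2 ^ 24 := Nat.ofBits_lt_two_pow _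

theorem testBit_enc (w : GolayPt → ZMod 2) (j : Fin 24) :
    (enc w).testBit j.val = decide (w (pt j) = 1) := by
  unfold enc
  rw [Nat.testBit_ofBits_lt _ _ j.2]

theorem testBit_enc_ge (w : GolayPt → ZMod 2) (i : ℕ) (hi : 24 ≤ i) :
    (enc w).testBit i = false :=
  Nat.testBit_ofBits_ge _ _ hi

theorem enc_add (v w : GolayPt → ZMod 2) : enc (v + w) = enc v ^^^ enc w := by
  apply Nat.eq_of_testBit_eq
  intro i
  rw [Nat.testBit_xor]
  by_cases hi : i < 24
  · have h1 := testBit_enc (v + w) ⟨i, hi⟩
    have h2 := testBit_enc v ⟨i, hi⟩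
    have h3 := testBit_enc w ⟨i, hi⟩
    rw [h1, h2, h3, Pi.add_apply]
    have key : ∀ a b : ZMod 2, decide (a + b = 1) = (decide (a = 1) ^^ decide (b = 1)) := by
      decide
    exact key _ _
  · rw [not_lt] at hi
    rw [testBit_enc_ge _ _ hi, testBit_enc_ge _ _ hi, testBit_enc_ge _ _ hi]
    rfl

theorem enc_zero : enc 0 = 0 := by decide

theorem enc_injective : Function.Injective enc := by
  intro v w h
  funext p
  obtain ⟨j, rfl⟩ := pt_bijective.2 p
  have h1 := testBit_enc v j
  have h2 := testBit_enc w j
  rw [h, h2] at h1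
  have key : ∀ a b : ZMod 2, decide (b = 1) = decide (a = 1) → a = b := by decide
  exact key _ _ h1

/-- number of set bits among the lowest `j` -/
def popcAux : ℕ → ℕ → ℕ
  | 0, _ => 0
  | (j+1), n => popcAux j n + (n >>> j) % 2

/-- number of set bits among the lowest 24 -/
def popc (n : ℕ) : ℕ := popcAux 24 n

theorem popcAux_eq (j n : ℕ) :
    popcAux j n = ((Finset.range j).filter (fun i => n.testBit i = true)).card := by
  induction j with
  | zero => simp [popcAux]
  | succ j ih =>
    rw [popcAux, ih, Finset.range_add_one, Finset.filter_insert]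
    have hb : n.testBit j = decide (n / 2 ^ j % 2 = 1) := Nat.testBit_eq_decide_div_mod_eq
    rw [Nat.shiftRight_eq_div_pow]
    by_cases h : n.testBit j = true
    · rw [if_pos h, Finset.card_insert_of_notMem (by simp)]
      rw [hb] at h
      rw [of_decide_eq_true h]
    · rw [if_neg h]
      rw [hb] at h
      have h' : ¬ (n / 2 ^ j % 2 = 1) := fun h1 => h (decide_eq_true h1)
      have : n / 2 ^ j % 2 = 0 := by omega
      rw [this, add_zero]

theorem hammingNorm_eq (w : GolayPt → ZMod 2) : hammingNorm w = popc (enc w) := by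
  classical
  unfold popc
  rw [popcAux_eq]
  unfold hammingNorm
  have h1 : (Finset.univ.filter (fun p : GolayPt => w p ≠ 0))
      = (Finset.univ.filter (fun j : Fin 24 => (enc w).testBit j.val = true)).map
          ⟨pt, pt_bijective.1⟩ := by
    ext p
    simp only [Finset.mem_filter, Finset.mem_univ, true_and, Finset.mem_map,
      Function.Embedding.coeFn_mk]
    constructor
    · intro hp
      obtain ⟨j, rfl⟩ := pt_bijective.2 p
      refine ⟨j, ?_, rfl⟩
      rw [testBit_enc]
      have key : ∀ a : ZMod 2, a ≠ 0 → a = 1 := by decide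
      exact decide_eq_true (key _ hp)
    · rintro ⟨j, hj, rfl⟩
      rw [testBit_enc] at hj
      have h := of_decide_eq_true hj
      rw [h]
      decide
  rw [h1, Finset.card_map]
  rw [Finset.card_filter, Finset.card_filter]
  exact Fin.sum_univ_eq_sum_range (fun i => if (enc w).testBit i = true then 1 else 0) 24

theorem card_support₂ (w : GolayPt → ZMod 2) : (support₂ w).card = hammingNorm w := by
  unfold support₂ hammingNorm
  congr 1

theorem support₂_injective : Function.Injective (support₂ : (GolayPt → ZMod 2) → Finset GolayPt) := by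
  intro v w h
  funext p
  have h1 : p ∈ support₂ v ↔ p ∈ support₂ w := by rw [h]
  simp only [support₂, Finset.mem_filter, Finset.mem_univ, true_and] at h1
  have key : ∀ a b : ZMod 2, (a ≠ 0 ↔ b ≠ 0) → a = b := by decide
  exact key _ _ h1

/-- xor-combination of a list of masks selected by the bits of `k` -/
def comb : List ℕ → ℕ → ℕ
  | [], _ => 0
  | m :: ms, k => (if k % 2 = 1 then m else 0) ^^^ comb ms (k / 2)

theorem comb_xor (ms : List ℕ) (k k' : ℕ) : comb ms (k ^^^ k') = comb ms k ^^^ comb ms k' := by
  induction ms generalizing k k' with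
  | nil => simp [comb]
  | cons m ms ih =>
    simp only [comb]
    have hd : (k ^^^ k') / 2 = k / 2 ^^^ k' / 2 := Nat.xor_div_two
    have h2 : (k ^^^ k') % 2 = (k % 2) ^^^ (k' % 2) := by
      have := Nat.xor_mod_two_pow (a := k) (b := k') (n := 1)
      simpa using this
    rw [hd, ih, h2]
    rcases Nat.mod_two_eq_zero_or_one k with h | h <;>
      rcases Nat.mod_two_eq_zero_or_one k' with h' | h' <;>
      simp [h, h', Nat.xor_assoc, Nat.xor_left_comm]

/-- sum of a list of words selected by the bits of `k` -/
def combW : List (GolayPt → ZMod 2) → ℕ → (GolayPt → ZMod 2)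
  | [], _ => 0
  | b :: bs, k => (if k % 2 = 1 then b else 0) + combW bs (k / 2)

theorem enc_combW (bs : List (GolayPt → ZMod 2)) (k : ℕ) :
    enc (combW bs k) = comb (bs.map enc) k := by
  induction bs generalizing k with
  | nil => simp [combW, comb, enc_zero]
  | cons b bs ih =>
    simp only [combW, comb, List.map_cons, enc_add, ih]
    split_ifs <;> simp [enc_zero]

theorem combW_mem (S : Submodule (ZMod 2) (GolayPt → ZMod 2)) (bs : List (GolayPt → ZMod 2))
    (h : ∀ b ∈ bs, b ∈ S) (k : ℕ) : combW bs k ∈ S := by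
  induction bs generalizing k with
  | nil => simp [combW]
  | cons b bs ih =>
    simp only [combW]
    apply S.add_mem
    · split_ifs
      · exact h b List.mem_cons_self
      · exact S.zero_mem
    · exact ih (fun b' hb' => h b' (List.mem_cons_of_mem _ hb')) _

/-- masks of the 23 translates of the squares -/
def qmask (t : ℕ) : ℕ := ([340831, 681662, 1363324, 2726648, 5453296, 2517985, 5035970, 1683333, 3366666, 6733332, 5078057, 1767507, 3535014, 7070028, 5751449, 3114291, 6228582, 4068557, 8137114, 7885621, 7382635, 6376663, 4364719] : List ℕ).getD t 0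

/-- masks of a basis: the translates by `0, …, 10` and the all-ones word -/
def basisMask : List ℕ := [340831, 681662, 1363324, 2726648, 5453296, 2517985, 5035970, 1683333, 3366666, 6733332, 5078057, 16777215]

/-- the basis words -/
def basisW : List (GolayPt → ZMod 2) :=
  [qrWord 0, qrWord 1, qrWord 2, qrWord 3, qrWord 4, qrWord 5, qrWord 6, qrWord 7, qrWord 8,
    qrWord 9, qrWord 10, 1]

/-- coefficients of the translates in terms of the basis -/
def ktab (t : ℕ) : ℕ := ([1, 2, 4, 8, 16, 32, 64, 128, 256, 512, 1024, 739, 1478, 367, 734, 1468, 411, 822, 1644, 1595, 1685, 1993, 1393] : List ℕ).getD t 0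

/-- the mask of the `k`-th codeword -/
def M (k : ℕ) : ℕ := comb basisMask k

/-- the `k`-th codeword -/
def W (k : ℕ) : GolayPt → ZMod 2 := combW basisW k

theorem enc_qr : ∀ t : ZMod 23, enc (qrWord t) = qmask t.val := by decide

theorem enc_one : enc 1 = 16777215 := by decide

theorem basis_enc : basisW.map enc = basisMask := by
  simp only [basisW, List.map, enc_qr, enc_one]
  rfl

theorem ktab_spec : ∀ t : Fin 23, ktab t.val < 4096 ∧ M (ktab t.val) = qmask t.val := by decide

theorem forall_of_card_filter {P : ℕ → Prop} [DecidablePred P] {n : ℕ}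
    (h : ((Finset.range n).filter (fun k => ¬ P k)).card = 0) : ∀ k < n, P k := by
  intro k hk
  by_contra hP
  have hmem : k ∈ (Finset.range n).filter (fun k => ¬ P k) :=
    Finset.mem_filter.mpr ⟨Finset.mem_range.mpr hk, hP⟩
  rw [Finset.card_eq_zero] at h
  rw [h] at hmem
  exact absurd hmem (Finset.notMem_empty k)

theorem M_zero_iff : ∀ k < 4096, M k = 0 → k = 0 :=
  forall_of_card_filter (by decide +kernel)

theorem enc_W (k : ℕ) : enc (W k) = M k := by
  unfold W M
  rw [enc_combW, basis_enc]

theorem W_mem (k : ℕ) : W k ∈ golayCode := by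
  apply combW_mem
  intro b hb
  unfold golayCode
  apply Submodule.subset_span
  simp only [basisW, List.mem_cons, List.not_mem_nil, or_false] at hb
  rcases hb with rfl | rfl | rfl | rfl | rfl | rfl | rfl | rfl | rfl | rfl | rfl | rfl
  all_goals first | exact Or.inl ⟨_, rfl⟩ | exact Or.inr rfl

theorem M_xor (k k' : ℕ) : M (k ^^^ k') = M k ^^^ M k' := comb_xor _ _ _

theorem exists_of_mem {w : GolayPt → ZMod 2} (hw : w ∈ golayCode) :
    ∃ k < 4096, enc w = M k := by
  unfold golayCode at hw
  induction hw using Submodule.span_induction with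
  | mem x hx =>
    rcases hx with ⟨t, rfl⟩ | hx
    · have h := ktab_spec t
      exact ⟨ktab t.val, h.1, by rw [enc_qr]; exact h.2.symm⟩
    · rw [Set.mem_singleton_iff] at hx
      subst hx
      exact ⟨2048, by norm_num, by rw [enc_one]; decide⟩
  | zero => exact ⟨0, by norm_num, by rw [enc_zero]; decide⟩
  | add x y _ _ hx hy =>
    obtain ⟨k, hk, hk'⟩ := hx
    obtain ⟨l, hl, hl'⟩ := hy
    exact ⟨k ^^^ l, Nat.xor_lt_two_pow (n := 12) hk hl, by rw [enc_add, M_xor, hk', hl']⟩
  | smul a x _ hx =>
    obtain ⟨k, hk, hk'⟩ := hx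
    have ha : ∀ a : ZMod 2, a = 0 ∨ a = 1 := by decide
    rcases ha a with rfl | rfl
    · exact ⟨0, by norm_num, by rw [zero_smul, enc_zero]; decide⟩
    · exact ⟨k, hk, by rw [one_smul, hk']⟩

theorem mem_iff (w : GolayPt → ZMod 2) : w ∈ golayCode ↔ ∃ k < 4096, w = W k := by
  constructor
  · intro hw
    obtain ⟨k, hk, h⟩ := exists_of_mem hw
    exact ⟨k, hk, enc_injective (by rw [h, enc_W])⟩
  · rintro ⟨k, _, rfl⟩
    exact W_mem k

theorem M_injOn {k k' : ℕ} (hk : k < 4096) (hk' : k' < 4096) (h : M k = M k') : k = k' := by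
  have h1 : M (k ^^^ k') = 0 := by rw [M_xor, h, Nat.xor_self]
  have h2 := M_zero_iff (k ^^^ k') (Nat.xor_lt_two_pow (n := 12) hk hk') h1
  exact Nat.xor_eq_zero_iff.mp h2

theorem W_injOn {k k' : ℕ} (hk : k < 4096) (hk' : k' < 4096) (h : W k = W k') : k = k' :=
  M_injOn hk hk' (by rw [← enc_W, ← enc_W, h])

theorem hammingNorm_W (k : ℕ) : hammingNorm (W k) = popc (M k) := by
  rw [hammingNorm_eq, enc_W]

theorem weights : ∀ k < 4096, popc (M k) = 0 ∨ popc (M k) = 8 ∨ popc (M k) = 12 ∨
    popc (M k) = 16 ∨ popc (M k) = 24 :=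
  forall_of_card_filter (by decide +kernel)

theorem count8 : ((Finset.range 4096).filter (fun k => popc (M k) = 8)).card = 759 := by
  decide +kernel

theorem count12 : ((Finset.range 4096).filter (fun k => popc (M k) = 12)).card = 2576 := by
  decide +kernel

end Cfsg.Agent.Lib_lead_Golay
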