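import Mathlib
import Cfsg.Prelude.Def_Sporadic_a
import Cfsg.Agent.Lib_lead_Golay

/-! Permutations preserving the length-24 code. -/

set_option autoImplicit false

namespace Cfsg.Agent.Lib_lead_GolayPerm

open Cfsg Cfsg.Agent.Lib_lead_Golay
open scoped Pointwise

/-- masks of a decoder -/
def decMask : List ℕ := [3753, 280, 3225, 1400, 3770, 3991, 3533, 2000, 1347, 101, 3683, 3621]

/-- decoder: recovers the index of a codeword mask from its lowest 12 bits -/
def dec (x : ℕ) : ℕ := comb decMask x

theorem mem_of_dec {w : GolayPt → ZMod 2} (h : M (dec (enc w)) = enc w) : w ∈ golayCode := by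
  have h1 : enc w = enc (W (dec (enc w))) := by rw [enc_W, h]
  rw [enc_injective h1]
  exact W_mem _

theorem support₂_comp (σ : Equiv.Perm GolayPt) (w : GolayPt → ZMod 2) :
    support₂ (fun p => w (σ.symm p)) = σ • support₂ w := by
  ext p
  rw [Finset.mem_smul_finset]
  simp only [support₂, Finset.mem_filter, Finset.mem_univ, true_and]
  constructor
  · intro h
    exact ⟨σ.symm p, h, by simp⟩
  · rintro ⟨y, hy, rfl⟩
    simpa using hy

theorem mem_M24_of_preserves (σ : Equiv.Perm GolayPt)
    (h : ∀ w ∈ golayCode, (fun p => w (σ.symm p)) ∈ golayCode) : σ ∈ M24 := by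
  show σ ∈ MulAction.stabilizer (Equiv.Perm GolayPt)
    (supports (golayCode : Set (GolayPt → ZMod 2)))
  rw [MulAction.mem_stabilizer_set_iff_smul_set_subset (Set.toFinite _)]
  rintro _ ⟨b, ⟨w, hw, rfl⟩, rfl⟩
  exact ⟨_, h w hw, support₂_comp σ w⟩

theorem preserves_of_gen (f : GolayPt → GolayPt)
    (h : ∀ t : ZMod 23, (fun p => qrWord t (f p)) ∈ golayCode) :
    ∀ w ∈ golayCode, (fun p => w (f p)) ∈ golayCode := by
  intro w hw
  unfold golayCode at hw
  induction hw using Submodule.span_induction with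
  | mem x hx =>
    rcases hx with ⟨t, rfl⟩ | hx
    · exact h t
    · rw [Set.mem_singleton_iff] at hx
      subst hx
      exact Submodule.subset_span (Or.inr rfl)
  | zero => exact golayCode.zero_mem
  | add x y _ _ hx hy => exact golayCode.add_mem hx hy
  | smul a x _ hx => exact golayCode.smul_mem a hx

theorem mem_M24_of_gen (σ : Equiv.Perm GolayPt)
    (h : ∀ t : ZMod 23, (fun p => qrWord t (σ.symm p)) ∈ golayCode) : σ ∈ M24 :=
  mem_M24_of_preserves σ (preserves_of_gen _ h)

theorem mem_M24_of_gen' (σ : Equiv.Perm GolayPt)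
    (h : ∀ t : ZMod 23, (fun p => qrWord t (σ p)) ∈ golayCode) : σ ∈ M24 := by
  have h1 : σ⁻¹ ∈ M24 := mem_M24_of_preserves σ⁻¹ (fun w hw => preserves_of_gen σ h w hw)
  have h2 := M24.inv_mem h1
  rwa [inv_inv] at h2

theorem smul_mem_supports {σ : Equiv.Perm GolayPt} (hσ : σ ∈ M24) {b : Finset GolayPt}
    (hb : b ∈ supports (golayCode : Set (GolayPt → ZMod 2))) :
    σ • b ∈ supports (golayCode : Set (GolayPt → ZMod 2)) := by
  have h : σ • supports (golayCode : Set (GolayPt → ZMod 2))
      = supports (golayCode : Set (GolayPt → ZMod 2)) := hσ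
  rw [← h]
  exact Set.smul_mem_smul_set hb

end Cfsg.Agent.Lib_lead_GolayPerm
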