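import Mathlib
import Cfsg.Prelude.Def_Sporadic_a
import Cfsg.Agent.Lib_lead_Golay
import Cfsg.Agent.Lib_lead_GolayPerm

/-! Explicit permutations of the 24 points given by tables, and orbit certificates. -/

set_option autoImplicit false

namespace Cfsg.Agent.Lib_lead_M24

open Cfsg Cfsg.Agent.Lib_lead_Golay Cfsg.Agent.Lib_lead_GolayPerm
open scoped Pointwise

/-- index of a point -/
def idx : GolayPt → ℕ
  | none => 23
  | some x => x.val

/-- the point with a given index -/
def ptN (j : ℕ) : GolayPt := if j = 23 then none else some ((j : ℕ) : ZMod 23)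

theorem ptN_idx : ∀ p : GolayPt, ptN (idx p) = p := by decide

theorem idx_lt : ∀ p : GolayPt, idx p < 24 := by decide

theorem idx_ptN : ∀ j : Fin 24, idx (ptN j.val) = j.val := by decide

theorem idx_ptN' (j : ℕ) (hj : j < 24) : idx (ptN j) = j := idx_ptN ⟨j, hj⟩

theorem pt_eq (j : Fin 24) : pt j = ptN j.val := rfl

/-- the map of the points given by a table of indices -/
def tabFun (tab : List ℕ) : GolayPt → GolayPt := fun p => ptN (tab.getD (idx p) 0)

/-- `tab` and `itab` are mutually inverse tables of length 24 -/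
def validTab (tab itab : List ℕ) : Bool :=
  (tab.length == 24) && (itab.length == 24) &&
  (List.range 24).all (fun j => decide (tab.getD j 0 < 24) && decide (itab.getD j 0 < 24) &&
    (itab.getD (tab.getD j 0) 0 == j) && (tab.getD (itab.getD j 0) 0 == j))

theorem validTab_len {tab itab : List ℕ} (h : validTab tab itab = true) :
    tab.length = 24 ∧ itab.length = 24 := by
  unfold validTab at h
  simp only [Bool.and_eq_true, beq_iff_eq] at h
  exact ⟨h.1.1, h.1.2⟩

theorem validTab_spec {tab itab : List ℕ} (h : validTab tab itab = true) (j : ℕ) (hj : j < 24) :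
    tab.getD j 0 < 24 ∧ itab.getD j 0 < 24 ∧ itab.getD (tab.getD j 0) 0 = j ∧
      tab.getD (itab.getD j 0) 0 = j := by
  unfold validTab at h
  rw [Bool.and_eq_true, List.all_eq_true] at h
  have h' := h.2 j (List.mem_range.mpr hj)
  simp only [Bool.and_eq_true, decide_eq_true_eq, beq_iff_eq] at h'
  tauto

theorem tabFun_cancel {a b : List ℕ}
    (h : ∀ j < 24, a.getD j 0 < 24 ∧ b.getD (a.getD j 0) 0 = j) (p : GolayPt) :
    tabFun b (tabFun a p) = p := by
  obtain ⟨h1, h3⟩ := h (idx p) (idx_lt p)
  unfold tabFun
  rw [idx_ptN' _ h1, h3, ptN_idx]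

/-- the permutation given by a pair of mutually inverse tables -/
def permOf (tab itab : List ℕ) (h : validTab tab itab = true) : Equiv.Perm GolayPt where
  toFun := tabFun tab
  invFun := tabFun itab
  left_inv := tabFun_cancel (fun j hj => ⟨(validTab_spec h j hj).1, (validTab_spec h j hj).2.2.1⟩)
  right_inv :=
    tabFun_cancel (fun j hj => ⟨(validTab_spec h j hj).2.1, (validTab_spec h j hj).2.2.2⟩)

/-- bit `i` of the result is bit `tab[i]` of `x` -/
def pullAux : List ℕ → ℕ → ℕ
  | [], _ => 0
  | t :: ts, x => (x >>> t) % 2 + 2 * pullAux ts x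

/-- `pullAux`, strict in the mask -/
def pull (tab : List ℕ) (x : ℕ) : ℕ :=
  match x with
  | 0 => 0
  | n + 1 => pullAux tab (n + 1)

theorem pullAux_zero (tab : List ℕ) : pullAux tab 0 = 0 := by
  induction tab with
  | nil => rfl
  | cons t ts ih => simp [pullAux, ih]

theorem pull_eq (tab : List ℕ) (x : ℕ) : pull tab x = pullAux tab x := by
  cases x with
  | zero => simp [pull, pullAux_zero]
  | succ n => rfl

theorem pullAux_lt (tab : List ℕ) (x : ℕ) : pullAux tab x < 2 ^ tab.length := by
  induction tab with
  | nil => simp [pullAux]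
  | cons t ts ih =>
    simp only [pullAux, List.length_cons, pow_succ]
    have hb : (x >>> t) % 2 < 2 := Nat.mod_lt _ (by norm_num)
    omega

theorem testBit_pullAux (tab : List ℕ) (x i : ℕ) (hi : i < tab.length) :
    (pullAux tab x).testBit i = x.testBit (tab.getD i 0) := by
  induction tab generalizing i with
  | nil => simp at hi
  | cons t ts ih =>
    have hb : (x >>> t) % 2 < 2 := Nat.mod_lt _ (by norm_num)
    cases i with
    | zero =>
      simp only [pullAux, List.getD_cons_zero]
      rw [Nat.testBit_zero, Nat.testBit_eq_decide_div_mod_eq (x := x) (i := t),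
        ← Nat.shiftRight_eq_div_pow]
      have hiff : (((x >>> t) % 2 + 2 * pullAux ts x) % 2 = 1) ↔ ((x >>> t) % 2 = 1) := by omega
      simp only [hiff]
    | succ i =>
      simp only [pullAux, List.getD_cons_succ]
      rw [Nat.testBit_succ]
      have hd : ((x >>> t) % 2 + 2 * pullAux ts x) / 2 = pullAux ts x := by omega
      rw [hd]
      exact ih i (by simpa using hi)

theorem testBit_pullAux_ge (tab : List ℕ) (x i : ℕ) (hi : tab.length ≤ i) :
    (pullAux tab x).testBit i = false := by
  apply Nat.testBit_lt_two_pow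
  exact lt_of_lt_of_le (pullAux_lt tab x) (Nat.pow_le_pow_right (by norm_num) hi)

theorem pull_lt (tab : List ℕ) (hlen : tab.length = 24) (x : ℕ) : pull tab x < 2 ^ 24 := by
  rw [pull_eq, ← hlen]
  exact pullAux_lt tab x

theorem enc_comp (tab : List ℕ) (hlen : tab.length = 24) (hlt : ∀ j < 24, tab.getD j 0 < 24)
    (w : GolayPt → ZMod 2) : enc (fun p => w (tabFun tab p)) = pull tab (enc w) := by
  rw [pull_eq]
  apply Nat.eq_of_testBit_eq
  intro i
  by_cases hi : i < 24
  · rw [testBit_pullAux tab _ i (by rw [hlen]; exact hi)]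
    have h1 := testBit_enc (fun p => w (tabFun tab p)) ⟨i, hi⟩
    have h2 := testBit_enc w ⟨tab.getD i 0, hlt i hi⟩
    have h3 : tabFun tab (pt ⟨i, hi⟩) = pt ⟨tab.getD i 0, hlt i hi⟩ := by
      rw [pt_eq, pt_eq]
      unfold tabFun
      rw [idx_ptN' i hi]
    rw [h1, h2, h3]
  · rw [not_lt] at hi
    rw [testBit_enc_ge _ _ hi, testBit_pullAux_ge tab _ i (by rw [hlen]; exact hi)]

/-- strict application -/
def strictApp (f : ℕ → Bool) (x : ℕ) : Bool :=
  match x with
  | 0 => f 0
  | n + 1 => f (n + 1)

theorem strictApp_eq (f : ℕ → Bool) (x : ℕ) : strictApp f x = f x := by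
  cases x <;> rfl

/-- the table maps the code into itself -/
def codeChk (tab : List ℕ) : Bool :=
  (List.range 23).all (fun t =>
    strictApp (fun y => strictApp (fun k => M k == y) (dec y)) (pull tab (qmask t)))

theorem mem_M24_of_chk {tab itab : List ℕ} (h : validTab tab itab = true)
    (hc : codeChk tab = true) : permOf tab itab h ∈ M24 := by
  apply mem_M24_of_gen'
  intro t
  apply mem_of_dec
  have henc : enc (fun p => qrWord t ((permOf tab itab h) p)) = pull tab (qmask t.val) := by
    have h1 := enc_comp tab (validTab_len h).1 (fun j hj => (validTab_spec h j hj).1) (qrWord t)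
    rw [enc_qr] at h1
    exact h1
  rw [henc]
  unfold codeChk at hc
  rw [List.all_eq_true] at hc
  have h2 := hc t.val (List.mem_range.mpr (ZMod.val_lt t))
  rw [strictApp_eq, strictApp_eq] at h2
  exact beq_iff_eq.mp h2

/-- the word with a given mask -/
def ofMask (x : ℕ) : GolayPt → ZMod 2 := fun p => if x.testBit (idx p) then 1 else 0

theorem enc_ofMask (x : ℕ) (hx : x < 2 ^ 24) : enc (ofMask x) = x := by
  apply Nat.eq_of_testBit_eq
  intro i
  by_cases hi : i < 24
  · have h1 := testBit_enc (ofMask x) ⟨i, hi⟩
    rw [h1, pt_eq]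
    unfold ofMask
    rw [idx_ptN' i hi]
    by_cases hb : x.testBit i = true <;> simp [hb]
  · rw [not_lt] at hi
    rw [testBit_enc_ge _ _ hi]
    symm
    apply Nat.testBit_lt_two_pow
    exact lt_of_lt_of_le hx (Nat.pow_le_pow_right (by norm_num) hi)

theorem ofMask_enc (w : GolayPt → ZMod 2) : ofMask (enc w) = w :=
  enc_injective (enc_ofMask _ (enc_lt w))

/-- the set of points with a given mask -/
def fsOf (x : ℕ) : Finset GolayPt := support₂ (ofMask x)

theorem support₂_eq (w : GolayPt → ZMod 2) : support₂ w = fsOf (enc w) := by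
  unfold fsOf
  rw [ofMask_enc]

theorem smul_fsOf {tab itab : List ℕ} (h : validTab tab itab = true) (x : ℕ) (hx : x < 2 ^ 24) :
    permOf tab itab h • fsOf x = fsOf (pull itab x) := by
  unfold fsOf
  rw [← support₂_comp]
  congr 1
  apply enc_injective
  have h1 := enc_comp itab (validTab_len h).2 (fun j hj => (validTab_spec h j hj).2.1) (ofMask x)
  rw [enc_ofMask x hx] at h1
  rw [enc_ofMask _ (pull_lt itab (validTab_len h).2 x)]
  exact h1

/-- a generator is valid and preserves the code -/
def genOK (g : List ℕ × List ℕ) : Bool := validTab g.1 g.2 && codeChk g.1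

/-- check an orbit certificate: each entry `(x, y, gi)` says that generator `gi` maps the
already-seen mask `y` to `x` -/
def chk (gens : List (List ℕ × List ℕ)) : List (ℕ × ℕ × ℕ) → List ℕ → Bool
  | [], _ => true
  | (x, y, gi) :: rest, seen =>
    (match gens[gi]? with
     | none => false
     | some g => seen.contains y && decide (y < 16777216) && (pull g.2 y == x)) &&
      chk gens rest (x :: seen)

/-- `fsOf x` is in the orbit of `fsOf root` under the group of the code -/
def Q (root x : ℕ) : Prop := ∃ σ ∈ M24, σ • fsOf root = fsOf x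

theorem Q_refl (root : ℕ) : Q root root := ⟨1, M24.one_mem, one_smul _ _⟩

theorem chk_sound (gens : List (List ℕ × List ℕ)) (hg : ∀ g ∈ gens, genOK g = true) (root : ℕ) :
    ∀ (l : List (ℕ × ℕ × ℕ)) (seen : List ℕ), chk gens l seen = true →
      (∀ s ∈ seen, Q root s) → ∀ e ∈ l, Q root e.1 := by
  intro l
  induction l with
  | nil =>
    intro seen _ _ e he
    simp at he
  | cons a rest ih =>
    obtain ⟨x, y, gi⟩ := a
    intro seen hchk hseen e he
    simp only [chk, Bool.and_eq_true] at hchk
    obtain ⟨h1, h2⟩ := hchk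
    have hQx : Q root x := by
      cases hgi : gens[gi]? with
      | none =>
        rw [hgi] at h1
        simp at h1
      | some g =>
        rw [hgi] at h1
        simp only [Bool.and_eq_true, decide_eq_true_eq, beq_iff_eq] at h1
        obtain ⟨⟨hy, hylt⟩, hpull⟩ := h1
        have hymem : y ∈ seen := by simpa using hy
        have hgmem : g ∈ gens := List.mem_of_getElem? hgi
        have hgok := hg g hgmem
        unfold genOK at hgok
        rw [Bool.and_eq_true] at hgok
        obtain ⟨σ, hσ, hσy⟩ := hseen y hymem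
        refine ⟨permOf g.1 g.2 hgok.1 * σ, M24.mul_mem (mem_M24_of_chk hgok.1 hgok.2) hσ, ?_⟩
        rw [mul_smul, hσy, smul_fsOf hgok.1 y (by norm_num; exact hylt), hpull]
    rcases List.mem_cons.mp he with rfl | he'
    · exact hQx
    · exact ih (x :: seen) h2 (fun s hs => by
        rcases List.mem_cons.mp hs with rfl | hs'
        · exact hQx
        · exact hseen s hs') e he'

end Cfsg.Agent.Lib_lead_M24
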