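import Mathlib
import Cfsg.Prelude.Def_Sporadic_a

set_option autoImplicit false

namespace Cfsg.Agent.Lib_lead_Steiner

open Finset

variable {α : Type*} [DecidableEq α]

/-- relative counting: a family `F` of `k`-subsets of `X` such that each `t`-subset of `X` lies in
exactly one member has `|F| * C(k,t) = C(|X|,t)`. -/
theorem rel_count (X : Finset α) (F : Finset (Finset α)) (t k : ℕ)
    (hk : ∀ e ∈ F, e.card = k)
    (hsub : ∀ e ∈ F, e ⊆ X)
    (hu : ∀ s ⊆ X, s.card = t → ∃! e, e ∈ F ∧ s ⊆ e) :
    F.card * k.choose t = X.card.choose t := by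
  have h1 : powersetCard t X = F.biUnion (fun e => powersetCard t e) := by
    ext s
    simp only [mem_powersetCard, mem_biUnion]
    constructor
    · rintro ⟨hs, hc⟩
      obtain ⟨e, ⟨he, hse⟩, -⟩ := hu s hs hc
      exact ⟨e, he, hse, hc⟩
    · rintro ⟨e, he, hse, hc⟩
      exact ⟨hse.trans (hsub e he), hc⟩
  have h2 : (F.biUnion (fun e => powersetCard t e)).card = ∑ e ∈ F, (powersetCard t e).card := by
    apply card_biUnion
    intro e he e' he' hne
    show Disjoint (powersetCard t e) (powersetCard t e')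
    rw [Finset.disjoint_left]
    intro s hs hs'
    rw [mem_powersetCard] at hs hs'
    apply hne
    obtain ⟨e0, -, huniq⟩ := hu s (hs.1.trans (hsub e he)) hs.2
    rw [huniq e ⟨he, hs.1⟩, huniq e' ⟨he', hs'.1⟩]
  rw [← card_powersetCard, h1, h2]
  rw [Finset.sum_congr rfl (fun e he => by rw [card_powersetCard, hk e he]), Finset.sum_const,
    smul_eq_mul]

/-- number of blocks through a set `I` of at most `t` points. -/
theorem through_count [Fintype α] {t k : ℕ} {B : Set (Finset α)} (hB : Cfsg.IsSteinerSystem t k B)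
    (BF : Finset (Finset α)) (hBF : ∀ b, b ∈ BF ↔ b ∈ B) (I : Finset α) (hI : I.card ≤ t) :
    (BF.filter (fun b => I ⊆ b)).card * (k - I.card).choose (t - I.card)
      = (Fintype.card α - I.card).choose (t - I.card) := by
  classical
  set F := (BF.filter (fun b => I ⊆ b)).image (fun b => b \ I) with hF
  have hinj : Set.InjOn (fun b : Finset α => b \ I) (BF.filter (fun b => I ⊆ b) : Set (Finset α)) := by
    intro b hb b' hb' h
    have hb2 : I ⊆ b := (Finset.mem_filter.mp hb).2
    have hb2' : I ⊆ b' := (Finset.mem_filter.mp hb').2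
    have h' : b \ I = b' \ I := h
    have : b = (b \ I) ∪ I := (Finset.sdiff_union_of_subset hb2).symm
    rw [this, h', Finset.sdiff_union_of_subset hb2']
  have hcard : F.card = (BF.filter (fun b => I ⊆ b)).card := Finset.card_image_of_injOn hinj
  have key := rel_count (Finset.univ \ I) F (t - I.card) (k - I.card) ?_ ?_ ?_
  · rw [hcard] at key
    rw [key, Finset.card_sdiff_of_subset (Finset.subset_univ I), Finset.card_univ]
  · intro e he
    obtain ⟨b, hb, rfl⟩ := Finset.mem_image.mp he
    rw [Finset.mem_filter] at hb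
    rw [Finset.card_sdiff_of_subset hb.2, hB.1 b ((hBF b).mp hb.1)]
  · intro e he
    obtain ⟨b, hb, rfl⟩ := Finset.mem_image.mp he
    exact Finset.sdiff_subset_sdiff (Finset.subset_univ b) (le_refl I)
  · intro s hs hsc
    have hdisj : Disjoint s I := by
      rw [Finset.disjoint_left]
      intro x hx hxI
      exact (Finset.mem_sdiff.mp (hs hx)).2 hxI
    have hcard' : (s ∪ I).card = t := by
      rw [Finset.card_union_of_disjoint hdisj, hsc]; omega
    obtain ⟨b, ⟨hb, hsb⟩, huniq⟩ := hB.2 (s ∪ I) hcard'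
    refine ⟨b \ I, ⟨?_, ?_⟩, ?_⟩
    · exact Finset.mem_image.mpr ⟨b, Finset.mem_filter.mpr
        ⟨(hBF b).mpr hb, Finset.union_subset_right hsb⟩, rfl⟩
    · intro x hx
      rw [Finset.mem_sdiff]
      exact ⟨hsb (Finset.mem_union_left _ hx), Finset.disjoint_left.mp hdisj hx⟩
    · rintro e ⟨he, hse⟩
      obtain ⟨b', hb', rfl⟩ := Finset.mem_image.mp he
      rw [Finset.mem_filter] at hb'
      have : b' = b := huniq b' ⟨(hBF b').mp hb'.1,
        Finset.union_subset (hse.trans Finset.sdiff_subset) hb'.2⟩
      rw [this]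

/-- double counting of (i-subset of T, block containing it). -/
theorem inter_sum (BF : Finset (Finset α)) (T : Finset α) (i : ℕ) :
    ∑ c ∈ BF, (c ∩ T).card.choose i
      = ∑ I ∈ powersetCard i T, (BF.filter (fun c => I ⊆ c)).card := by
  have h1 : ∀ c ∈ BF, (c ∩ T).card.choose i
      = ∑ I ∈ powersetCard i T, if I ⊆ c then 1 else 0 := by
    intro c hc
    rw [← card_powersetCard, ← Finset.card_filter]
    congr 1
    ext I
    simp only [mem_powersetCard, mem_filter, subset_inter_iff]
    tauto
  rw [Finset.sum_congr rfl h1, Finset.sum_comm]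
  apply Finset.sum_congr rfl
  intro I hI
  rw [Finset.card_filter]

/-- the `i`-th binomial moment of the intersection sizes of the blocks with a fixed set `T`. -/
theorem inter_sum_steiner [Fintype α] {t k : ℕ} {B : Set (Finset α)}
    (hB : Cfsg.IsSteinerSystem t k B)
    (BF : Finset (Finset α)) (hBF : ∀ b, b ∈ BF ↔ b ∈ B) (T : Finset α) (i : ℕ) (hi : i ≤ t) :
    (∑ c ∈ BF, (c ∩ T).card.choose i) * (k - i).choose (t - i)
      = T.card.choose i * (Fintype.card α - i).choose (t - i) := by
  rw [inter_sum, Finset.sum_mul]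
  rw [Finset.sum_congr rfl (g := fun _ => (Fintype.card α - i).choose (t - i))]
  · rw [Finset.sum_const, card_powersetCard, smul_eq_mul]
  · intro I hI
    rw [mem_powersetCard] at hI
    have := through_count hB BF hBF I (by omega)
    rw [hI.2] at this
    exact this

omit [DecidableEq α] in
/-- a finset version of the block set. -/
theorem exists_finset [Fintype α] (B : Set (Finset α)) :
    ∃ BF : Finset (Finset α), ∀ b, b ∈ BF ↔ b ∈ B := by
  classical
  exact ⟨(Set.toFinite B).toFinset, fun b => Set.Finite.mem_toFinset _⟩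

/-- two blocks sharing at least `t` points coincide. -/
theorem eq_of_inter_ge {t k : ℕ} {B : Set (Finset α)}
    (hB : Cfsg.IsSteinerSystem t k B) {b c : Finset α} (hb : b ∈ B) (hc : c ∈ B)
    (h : t ≤ (b ∩ c).card) : b = c := by
  obtain ⟨s, hs, hsc⟩ := Finset.exists_subset_card_eq h
  obtain ⟨e, -, huniq⟩ := hB.2 s hsc
  rw [huniq b ⟨hb, hs.trans Finset.inter_subset_left⟩,
    huniq c ⟨hc, hs.trans Finset.inter_subset_right⟩]

end Cfsg.Agent.Lib_lead_Steiner
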