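import Cfsg.Statements.S0363
import Mathlib
import Cfsg.Agent.Lib_lead_Golay
import Cfsg.Agent.Lib_lead_Steiner
import Cfsg.Agent.S0360

set_option autoImplicit false
open Cfsg

namespace Cfsg.Agent.S0363

open Cfsg.Agent.Lib_lead_Golay

/-- The octads of the length-24 code form a Steiner system S(5, 8, 24) on the 24 points. -/
theorem result : Cfsg.IsSteinerSystem 5 8 Cfsg.octads := by
  classical
  refine ⟨fun b hb => hb.2, ?_⟩
  have huniq : ∀ b ∈ Cfsg.octads, ∀ b' ∈ Cfsg.octads, ∀ s : Finset Cfsg.GolayPt, s.card = 5 →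
      s ⊆ b → s ⊆ b' → b = b' := by
    rintro b ⟨⟨w, hw, rfl⟩, hcard⟩ b' ⟨⟨w', hw', rfl⟩, hcard'⟩ s hs hsb hsb'
    have hsum : w + w' ∈ Cfsg.golayCode := Cfsg.golayCode.add_mem hw hw'
    have hsupp : support₂ (w + w') = symmDiff (support₂ w) (support₂ w') := by
      ext p
      simp only [support₂, Finset.mem_filter, Finset.mem_univ, true_and, Finset.mem_symmDiff,
        Pi.add_apply]
      have key : ∀ a b : ZMod 2, (a + b ≠ 0) ↔ ((a ≠ 0 ∧ ¬ b ≠ 0) ∨ (b ≠ 0 ∧ ¬ a ≠ 0)) := by
        decide
      exact key _ _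
    have hinter : 5 ≤ (support₂ w ∩ support₂ w').card := by
      rw [← hs]
      exact Finset.card_le_card (Finset.subset_inter hsb hsb')
    have hcardsd : (symmDiff (support₂ w) (support₂ w')).card
        + 2 * (support₂ w ∩ support₂ w').card = (support₂ w).card + (support₂ w').card := by
      have h1 := Finset.card_union_add_card_inter (support₂ w) (support₂ w')
      have h2 : symmDiff (support₂ w) (support₂ w')
          = (support₂ w ∪ support₂ w') \ (support₂ w ∩ support₂ w') := symmDiff_eq_sup_sdiff_inf _ _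
      have h3 : support₂ w ∩ support₂ w' ⊆ support₂ w ∪ support₂ w' :=
        Finset.inter_subset_left.trans Finset.subset_union_left
      rw [h2, Finset.card_sdiff_of_subset h3]
      have h4 := Finset.card_le_card h3
      omega
    have hwt : hammingNorm (w + w') ≤ 6 := by
      rw [← card_support₂, hsupp]
      omega
    obtain ⟨k, hk, hkw⟩ := (mem_iff (w + w')).mp hsum
    have hweights := weights k hk
    rw [← hammingNorm_W, ← hkw] at hweights
    have h0 : hammingNorm (w + w') = 0 := by omega
    rw [hammingNorm_eq_zero] at h0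
    have hww : w = w' := by
      funext p
      have h := congrFun h0 p
      simp only [Pi.add_apply, Pi.zero_apply] at h
      have key : ∀ a b : ZMod 2, a + b = 0 → a = b := by decide
      exact key _ _ h
    rw [hww]
  intro s hs
  obtain ⟨O, hO⟩ := Cfsg.Agent.Lib_lead_Steiner.exists_finset Cfsg.octads
  have hOcard : O.card = 759 := by
    have h : (O : Set (Finset Cfsg.GolayPt)) = Cfsg.octads := by
      ext b
      simp [hO]
    rw [← Set.ncard_coe_finset, h]
    exact Cfsg.Agent.S0360.result
  have hdisj : ∀ b ∈ O, ∀ b' ∈ O, b ≠ b' →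
      Disjoint (b.powersetCard 5) (b'.powersetCard 5) := by
    intro b hb b' hb' hne
    rw [Finset.disjoint_left]
    intro t ht ht'
    rw [Finset.mem_powersetCard] at ht ht'
    exact hne (huniq b ((hO b).mp hb) b' ((hO b').mp hb') t ht.2 ht.1 ht'.1)
  have hcardU : (O.biUnion (fun b => b.powersetCard 5)).card = 42504 := by
    rw [Finset.card_biUnion hdisj]
    have h56 : ∀ b ∈ O, (b.powersetCard 5).card = 56 := by
      intro b hb
      rw [Finset.card_powersetCard, ((hO b).mp hb).2]
      rfl
    rw [Finset.sum_congr rfl h56, Finset.sum_const, hOcard]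
    rfl
  have hsub : O.biUnion (fun b => b.powersetCard 5)
      ⊆ (Finset.univ : Finset Cfsg.GolayPt).powersetCard 5 := by
    intro t ht
    rw [Finset.mem_biUnion] at ht
    obtain ⟨b, _, hb⟩ := ht
    rw [Finset.mem_powersetCard] at hb ⊢
    exact ⟨Finset.subset_univ _, hb.2⟩
  have heq := Finset.eq_of_subset_of_card_le hsub (by
    rw [Finset.card_powersetCard, hcardU, Finset.card_univ]
    decide)
  have hsmem : s ∈ O.biUnion (fun b => b.powersetCard 5) := by
    rw [heq, Finset.mem_powersetCard]
    exact ⟨Finset.subset_univ _, hs⟩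
  rw [Finset.mem_biUnion] at hsmem
  obtain ⟨b, hb, hsb⟩ := hsmem
  rw [Finset.mem_powersetCard] at hsb
  refine ⟨b, ⟨(hO b).mp hb, hsb.1⟩, ?_⟩
  rintro b' ⟨hb', hsb'⟩
  exact huniq b' hb' b ((hO b).mp hb) s hs hsb' hsb.1

end Cfsg.Agent.S0363
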