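import Cfsg.Statements.S0370
import Mathlib
import Cfsg.Agent.Lib_lead_Golay
import Cfsg.Agent.Lib_lead_GolayPerm

set_option autoImplicit false
open Cfsg

namespace Cfsg.Agent.S0370

open Cfsg.Agent.Lib_lead_Golay Cfsg.Agent.Lib_lead_GolayPerm

/-- The permutation x ↦ x + 1 of the residues modulo 23, fixing the extra point, lies in the group of the length-24 code. -/
theorem result : Equiv.optionCongr (Equiv.addRight (1 : ZMod 23)) ∈ Cfsg.M24 := by
  apply mem_M24_of_gen'
  intro t
  have h : (fun p => qrWord t (Equiv.optionCongr (Equiv.addRight (1 : ZMod 23)) p))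
      = qrWord (t - 1) := by
    funext p
    cases p with
    | none => rfl
    | some x =>
      have hiff : (∃ r : ZMod 23, x + 1 = r ^ 2 + t) ↔ (∃ r : ZMod 23, x = r ^ 2 + (t - 1)) := by
        constructor
        · rintro ⟨r, hr⟩
          exact ⟨r, by linear_combination hr⟩
        · rintro ⟨r, hr⟩
          exact ⟨r, by linear_combination hr⟩
      simp only [Equiv.optionCongr_apply, Option.map_some, Equiv.coe_addRight, qrWord, hiff]
  rw [h]
  exact Submodule.subset_span (Or.inl ⟨_, rfl⟩)

end Cfsg.Agent.S0370
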