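import Cfsg.Statements.S0373
import Mathlib
import Cfsg.Agent.Lib_lead_Golay
import Cfsg.Agent.Lib_lead_GolayPerm

set_option autoImplicit false
open Cfsg

namespace Cfsg.Agent.S0373

open Cfsg.Agent.Lib_lead_Golay Cfsg.Agent.Lib_lead_GolayPerm

/-- The cube-twist permutation (squares t ↦ t^3/9, non-squares t ↦ 9t^3, extra point fixed) lies in the group of the length-24 code. -/
theorem result : Cfsg.cubeTwist ∈ Cfsg.M24 := by
  apply mem_M24_of_gen'
  intro t
  have h : (fun p => qrWord t (Cfsg.cubeTwist p)) = (fun p => qrWord t (Cfsg.cubeTwistFun p)) := rfl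
  rw [h]
  apply mem_of_dec
  revert t
  decide +kernel

end Cfsg.Agent.S0373
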