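import Mathlib
import Cfsg.Prelude.Def_Sporadic_a
import Cfsg.Agent.Lib_lead_Golay
import Cfsg.Agent.Lib_lead_GolayPerm
import Cfsg.Agent.Lib_lead_M24
import Cfsg.Agent.Lib_lead_Steiner
import Cfsg.Agent.S0363
import Cfsg.Agent.S0370
import Cfsg.Agent.S0372
import Cfsg.Agent.S0373

/-! Straight-line programs over the three generators, stabilizer chains, and fixed-point
propagation through octads. -/

set_option autoImplicit false

namespace Cfsg.Agent.Lib_lead_M24Chain

open Cfsg Cfsg.Agent.Lib_lead_Golay Cfsg.Agent.Lib_lead_GolayPerm Cfsg.Agent.Lib_lead_M24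
open scoped Pointwise

/-- the subgroup generated by translation, inversion and cube-twist -/
def C3 : Subgroup (Equiv.Perm GolayPt) :=
  Subgroup.closure {Equiv.optionCongr (Equiv.addRight (1 : ZMod 23)), Cfsg.projInv, Cfsg.cubeTwist}

theorem C3_le : C3 ≤ M24 := by
  unfold C3
  rw [Subgroup.closure_le]
  intro x hx
  rcases hx with hx | hx | hx
  · rw [hx]; exact Cfsg.Agent.S0370.result
  · rw [hx]; exact Cfsg.Agent.S0372.result
  · rw [Set.mem_singleton_iff] at hx
    rw [hx]; exact Cfsg.Agent.S0373.result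

/-- the permutation of a pair of tables (the identity if the pair is not valid) -/
def permD (tab itab : List ℕ) : Equiv.Perm GolayPt :=
  if h : validTab tab itab = true then permOf tab itab h else 1

theorem permD_apply {tab itab : List ℕ} (h : validTab tab itab = true) (p : GolayPt) :
    permD tab itab p = tabFun tab p := by
  unfold permD
  rw [dif_pos h]
  rfl

theorem permD_inv_apply {tab itab : List ℕ} (h : validTab tab itab = true) (p : GolayPt) :
    (permD tab itab)⁻¹ p = tabFun itab p := by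
  unfold permD
  rw [dif_pos h]
  rfl

/-- the tables of the three generators -/
def gtab : List (List ℕ) :=
  [[1, 2, 3, 4, 5, 6, 7, 8, 9, 10, 11, 12, 13, 14, 15, 16, 17, 18, 19, 20, 21, 22, 0, 23],
   [23, 22, 11, 15, 17, 9, 19, 13, 20, 5, 16, 2, 21, 7, 18, 3, 10, 4, 14, 6, 8, 12, 1, 0],
   [0, 18, 6, 3, 2, 21, 1, 5, 16, 12, 7, 19, 8, 9, 17, 15, 13, 11, 4, 22, 10, 20, 14, 23]]

theorem gen0 : ∀ p : GolayPt, tabFun (gtab.getD 0 []) p
    = Equiv.optionCongr (Equiv.addRight (1 : ZMod 23)) p := by decide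

theorem gen1 : ∀ p : GolayPt, tabFun (gtab.getD 1 []) p = Cfsg.projInv p := by decide

theorem gen2 : ∀ p : GolayPt, tabFun (gtab.getD 2 []) p = Cfsg.cubeTwistFun p := by decide

theorem gen_mem (a : ℕ) (ha : a < 3) {tab itab : List ℕ} (h : validTab tab itab = true)
    (htab : tab = gtab.getD a []) : permD tab itab ∈ C3 := by
  have h0 : Equiv.optionCongr (Equiv.addRight (1 : ZMod 23)) ∈ C3 :=
    Subgroup.subset_closure (by simp)
  have h1 : Cfsg.projInv ∈ C3 := Subgroup.subset_closure (by simp)
  have h2 : Cfsg.cubeTwist ∈ C3 := Subgroup.subset_closure (by simp)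
  interval_cases a
  · have he : permD tab itab = Equiv.optionCongr (Equiv.addRight (1 : ZMod 23)) := by
      refine Equiv.ext fun p => ?_
      rw [permD_apply h, htab, gen0]
    rw [he]; exact h0
  · have he : permD tab itab = Cfsg.projInv := by
      refine Equiv.ext fun p => ?_
      rw [permD_apply h, htab, gen1]
    rw [he]; exact h1
  · have he : permD tab itab = Cfsg.cubeTwist := by
      refine Equiv.ext fun p => ?_
      rw [permD_apply h, htab, gen2]
      rfl
    rw [he]; exact h2

/-- a node of a straight-line program: tables, and `(kind, a, b)` -/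
abbrev Node : Type := (List ℕ × List ℕ) × (ℕ × ℕ × ℕ)

/-- default node -/
def dnode : Node := (([], []), (0, 0, 0))

/-- table of a composition -/
def compose (ta tb : List ℕ) : List ℕ := tb.map (fun v => ta.getD v 0)

/-- a node is valid, and is a generator (kind 0), the product of two earlier nodes (kind 1),
or the inverse of an earlier node (other kinds) -/
def nodeOK (nodes : List Node) (j : ℕ) (nd : Node) : Bool :=
  validTab nd.1.1 nd.1.2 &&
  (if nd.2.1 = 0 then decide (nd.2.2.1 < 3) && (nd.1.1 == gtab.getD nd.2.2.1 [])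
   else if nd.2.1 = 1 then decide (nd.2.2.1 < j) && decide (nd.2.2.2 < j) &&
        (nd.1.1 == compose (nodes.getD nd.2.2.1 dnode).1.1 (nodes.getD nd.2.2.2 dnode).1.1)
   else decide (nd.2.2.1 < j) && (nd.1.1 == (nodes.getD nd.2.2.1 dnode).1.2))

/-- all nodes are valid -/
def slpOK (nodes : List Node) : Bool :=
  (List.range nodes.length).all (fun j => nodeOK nodes j (nodes.getD j dnode))

theorem slp_node {nodes : List Node} (h : slpOK nodes = true) (j : ℕ) (hj : j < nodes.length) :
    nodeOK nodes j (nodes.getD j dnode) = true := by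
  unfold slpOK at h
  rw [List.all_eq_true] at h
  exact h j (List.mem_range.mpr hj)

theorem slp_valid {nodes : List Node} (h : slpOK nodes = true) (j : ℕ) (hj : j < nodes.length) :
    validTab (nodes.getD j dnode).1.1 (nodes.getD j dnode).1.2 = true := by
  have h1 := slp_node h j hj
  unfold nodeOK at h1
  rw [Bool.and_eq_true] at h1
  exact h1.1

theorem getD_map_lt (f : ℕ → ℕ) (l : List ℕ) (n : ℕ) (h : n < l.length) :
    (l.map f).getD n 0 = f (l.getD n 0) := by
  rw [List.getD_eq_getElem _ _ (by simpa using h), List.getD_eq_getElem _ _ h, List.getElem_map]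

theorem tabFun_compose {ta tb ib : List ℕ} (hb : validTab tb ib = true) (p : GolayPt) :
    tabFun (compose ta tb) p = tabFun ta (tabFun tb p) := by
  unfold tabFun compose
  have hlen := (validTab_len hb).1
  have hlt := (validTab_spec hb (idx p) (idx_lt p)).1
  rw [getD_map_lt _ _ _ (by rw [hlen]; exact idx_lt p), idx_ptN' _ hlt]

theorem slp_mem {nodes : List Node} (h : slpOK nodes = true) :
    ∀ j, j < nodes.length → permD (nodes.getD j dnode).1.1 (nodes.getD j dnode).1.2 ∈ C3 := by
  intro j
  induction j using Nat.strong_induction_on with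
  | _ j ih =>
    intro hj
    have hv := slp_valid h j hj
    have h1 := slp_node h j hj
    unfold nodeOK at h1
    rw [Bool.and_eq_true] at h1
    have h2 := h1.2
    split_ifs at h2 with hk0 hk1
    · rw [Bool.and_eq_true, decide_eq_true_eq, beq_iff_eq] at h2
      exact gen_mem _ h2.1 hv h2.2
    · simp only [Bool.and_eq_true, decide_eq_true_eq, beq_iff_eq] at h2
      obtain ⟨⟨ha, hb⟩, htab⟩ := h2
      have hva := slp_valid h _ (lt_trans ha hj)
      have hvb := slp_valid h _ (lt_trans hb hj)
      have he : permD (nodes.getD j dnode).1.1 (nodes.getD j dnode).1.2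
          = permD (nodes.getD (nodes.getD j dnode).2.2.1 dnode).1.1
              (nodes.getD (nodes.getD j dnode).2.2.1 dnode).1.2
            * permD (nodes.getD (nodes.getD j dnode).2.2.2 dnode).1.1
              (nodes.getD (nodes.getD j dnode).2.2.2 dnode).1.2 := by
        refine Equiv.ext fun p => ?_
        rw [Equiv.Perm.mul_apply, permD_apply hv, permD_apply hva, permD_apply hvb, htab,
          tabFun_compose hvb]
      rw [he]
      exact C3.mul_mem (ih _ ha (lt_trans ha hj)) (ih _ hb (lt_trans hb hj))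
    · simp only [Bool.and_eq_true, decide_eq_true_eq, beq_iff_eq] at h2
      obtain ⟨ha, htab⟩ := h2
      have hva := slp_valid h _ (lt_trans ha hj)
      have he : permD (nodes.getD j dnode).1.1 (nodes.getD j dnode).1.2
          = (permD (nodes.getD (nodes.getD j dnode).2.2.1 dnode).1.1
              (nodes.getD (nodes.getD j dnode).2.2.1 dnode).1.2)⁻¹ := by
        refine Equiv.ext fun p => ?_
        rw [permD_apply hv, permD_inv_apply hva, htab]
      rw [he]
      exact C3.inv_mem (ih _ ha (lt_trans ha hj))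

/-- `g` fixes every point whose index has its bit set in `F` -/
def FixM (F : ℕ) (g : Equiv.Perm GolayPt) : Prop :=
  ∀ j < 24, F.testBit j = true → g (ptN j) = ptN j

/-- the table fixes the indices with bit set in `F` -/
def fixTab (F : ℕ) (tab : List ℕ) : Bool :=
  (List.range 24).all (fun j => !(F.testBit j) || (tab.getD j 0 == j))

/-- level check: for every target `z` (bit of `tgt`), node `row[z]` fixes `F` and maps `b` to
`z`; with `inv`, it is also its own inverse -/
def lvlOK (nodes : List Node) (inv : Bool) (F b tgt : ℕ) (row : List ℕ) : Bool :=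
  (List.range 24).all (fun z => !(tgt.testBit z) ||
    (decide (row.getD z 0 < nodes.length) && fixTab F (nodes.getD (row.getD z 0) dnode).1.1 &&
      ((nodes.getD (row.getD z 0) dnode).1.1.getD b 0 == z) &&
      (!inv || ((nodes.getD (row.getD z 0) dnode).1.1 == (nodes.getD (row.getD z 0) dnode).1.2))))

theorem lvl_sound {nodes : List Node} (h : slpOK nodes = true) {inv : Bool} {F b tgt : ℕ}
    {row : List ℕ} (hb : b < 24) (hl : lvlOK nodes inv F b tgt row = true) :
    ∀ z < 24, tgt.testBit z = true →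
      ∃ g ∈ C3, FixM F g ∧ g (ptN b) = ptN z ∧ (inv = true → g * g = 1) := by
  intro z hz hbit
  unfold lvlOK at hl
  rw [List.all_eq_true] at hl
  have h1 := hl z (List.mem_range.mpr hz)
  rw [hbit] at h1
  simp only [Bool.not_true, Bool.false_or, Bool.and_eq_true, decide_eq_true_eq, beq_iff_eq,
    Bool.or_eq_true, Bool.not_eq_true'] at h1
  obtain ⟨⟨⟨hlen, hfix⟩, hmap⟩, hinv⟩ := h1
  have hv := slp_valid h _ hlen
  refine ⟨_, slp_mem h _ hlen, ?_, ?_, ?_⟩
  · intro j hj hFj
    unfold fixTab at hfix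
    rw [List.all_eq_true] at hfix
    have h2 := hfix j (List.mem_range.mpr hj)
    rw [hFj] at h2
    simp only [Bool.not_true, Bool.false_or, beq_iff_eq] at h2
    rw [permD_apply hv]
    unfold tabFun
    rw [idx_ptN' j hj, h2]
  · rw [permD_apply hv]
    unfold tabFun
    rw [idx_ptN' b hb, hmap]
  · intro hi
    rcases hinv with hinv | hinv
    · rw [hi] at hinv; exact absurd hinv (by simp)
    · refine Equiv.ext fun p => ?_
      rw [Equiv.Perm.mul_apply, Equiv.Perm.one_apply]
      have h3 : permD (nodes.getD (row.getD z 0) dnode).1.1 (nodes.getD (row.getD z 0) dnode).1.2 p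
          = (permD (nodes.getD (row.getD z 0) dnode).1.1
              (nodes.getD (row.getD z 0) dnode).1.2)⁻¹ p := by
        rw [permD_apply hv, permD_inv_apply hv, ← hinv]
      rw [h3, Equiv.Perm.inv_def, Equiv.apply_symm_apply]


/-! ### Octads and fixed points -/

theorem M_lt (k : ℕ) : M k < 2 ^ 24 := by
  rw [← enc_W]
  exact enc_lt _

theorem mem_fsOf (x : ℕ) (p : GolayPt) : p ∈ fsOf x ↔ x.testBit (idx p) = true := by
  unfold fsOf support₂ ofMask
  simp

theorem card_fsOf (x : ℕ) (hx : x < 2 ^ 24) : (fsOf x).card = popc x := by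
  unfold fsOf
  rw [card_support₂, hammingNorm_eq, enc_ofMask x hx]

theorem fsOf_mem_weight (k n : ℕ) (hk : popc (M k) = n) :
    fsOf (M k) ∈ wordsOfWeight (golayCode : Set (GolayPt → ZMod 2)) n := by
  refine ⟨⟨W k, W_mem k, ?_⟩, ?_⟩
  · rw [support₂_eq, enc_W]
  · rw [card_fsOf _ (M_lt k)]
    exact hk

theorem smul_mem_weight {g : Equiv.Perm GolayPt} (hg : g ∈ M24) {n : ℕ} {o : Finset GolayPt}
    (ho : o ∈ wordsOfWeight (golayCode : Set (GolayPt → ZMod 2)) n) :
    g • o ∈ wordsOfWeight (golayCode : Set (GolayPt → ZMod 2)) n :=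
  ⟨smul_mem_supports hg ho.1, by rw [Finset.card_smul_finset]; exact ho.2⟩

theorem fix_of_FixM {F : ℕ} {g : Equiv.Perm GolayPt} (hF : FixM F g) (p : GolayPt)
    (hp : F.testBit (idx p) = true) : g p = p := by
  have h := hF (idx p) (idx_lt p) hp
  rwa [ptN_idx] at h

/-- a permutation of the code fixing five points of an octad preserves the octad -/
theorem presv {g : Equiv.Perm GolayPt} (hg : g ∈ M24) {F : ℕ} (hF : FixM F g) (k : ℕ)
    (hk : popc (M k) = 8) (h5 : 5 ≤ popc (M k &&& F)) : g • fsOf (M k) = fsOf (M k) := by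
  have ho : fsOf (M k) ∈ octads := fsOf_mem_weight k 8 hk
  have ho' : g • fsOf (M k) ∈ octads := smul_mem_weight hg ho
  symm
  apply Cfsg.Agent.Lib_lead_Steiner.eq_of_inter_ge Cfsg.Agent.S0363.result ho ho'
  have hsub : fsOf (M k &&& F) ⊆ fsOf (M k) ∩ g • fsOf (M k) := by
    intro p hp
    rw [mem_fsOf, Nat.testBit_and, Bool.and_eq_true] at hp
    have hfix : g p = p := fix_of_FixM hF p hp.2
    rw [Finset.mem_inter]
    refine ⟨(mem_fsOf _ _).mpr hp.1, ?_⟩
    rw [Finset.mem_smul_finset]
    exact ⟨p, (mem_fsOf _ _).mpr hp.1, hfix⟩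
  calc 5 ≤ popc (M k &&& F) := h5
    _ = (fsOf (M k &&& F)).card :=
      (card_fsOf _ (lt_of_le_of_lt Nat.and_le_left (M_lt k))).symm
    _ ≤ _ := Finset.card_le_card hsub

theorem mem_of_presv {g : Equiv.Perm GolayPt} {U : Finset GolayPt} (h : g • U = U)
    (p : GolayPt) : g p ∈ U ↔ p ∈ U := by
  constructor
  · intro hp
    rw [← h, Finset.mem_smul_finset] at hp
    obtain ⟨q, hq, hqe⟩ := hp
    have hqp : q = p := g.injective hqe
    rwa [← hqp]
  · intro hp
    rw [← h]
    exact Finset.smul_mem_smul_finset hp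

/-- the image of a non-fixed index is a non-fixed index -/
theorem not_fix_image {F : ℕ} {g : Equiv.Perm GolayPt} (hF : FixM F g) (p : GolayPt)
    (hp : F.testBit (idx p) = false) : F.testBit (idx (g p)) = false := by
  by_contra hcon
  rw [Bool.not_eq_false] at hcon
  have h1 : g (g p) = g p := fix_of_FixM hF (g p) hcon
  have h2 : g p = p := g.injective h1
  rw [h2, hp] at hcon
  exact absurd hcon (by simp)

theorem testBit_full (z : ℕ) (hz : z < 24) : (16777215 : ℕ).testBit z = true := by
  have h : (16777215 : ℕ) = 2 ^ 24 - 1 := by norm_num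
  rw [h, Nat.testBit_two_pow_sub_one]
  simpa using hz

/-- fixed-point propagation: each step `(q, k1, k2)` shows that `q` is fixed, being the only
non-fixed point common to two preserved octads -/
def propChk : List (ℕ × ℕ × ℕ) → ℕ → Bool
  | [], F => F == 16777215
  | (q, k1, k2) :: rest, F =>
    (popc (M k1) == 8) && (popc (M k2) == 8) && decide (5 ≤ popc (M k1 &&& F)) &&
      decide (5 ≤ popc (M k2 &&& F)) && decide (q < 24) &&
      (((M k1 &&& M k2) &&& (16777215 ^^^ F)) == 2 ^ q) && propChk rest (F ||| 2 ^ q)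

theorem prop_sound {g : Equiv.Perm GolayPt} (hg : g ∈ M24) :
    ∀ (steps : List (ℕ × ℕ × ℕ)) (F : ℕ), propChk steps F = true → FixM F g → g = 1 := by
  intro steps
  induction steps with
  | nil =>
    intro F h hF
    simp only [propChk, beq_iff_eq] at h
    refine Equiv.ext fun p => ?_
    rw [Equiv.Perm.one_apply]
    exact fix_of_FixM hF p (by rw [h]; exact testBit_full _ (idx_lt p))
  | cons a rest ih =>
    obtain ⟨q, k1, k2⟩ := a
    intro F h hF
    simp only [propChk, Bool.and_eq_true, beq_iff_eq, decide_eq_true_eq] at h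
    obtain ⟨⟨⟨⟨⟨⟨h1, h2⟩, h3⟩, h4⟩, hq⟩, heq⟩, hrest⟩ := h
    have hbits : ∀ z, ((M k1 &&& M k2) &&& (16777215 ^^^ F)).testBit z = true → z = q := by
      intro z hz
      rw [heq, Nat.testBit_two_pow] at hz
      have hzq : q = z := by simpa using hz
      exact hzq.symm
    have hq' : ((M k1 &&& M k2) &&& (16777215 ^^^ F)).testBit q = true := by
      rw [heq, Nat.testBit_two_pow]
      simp
    simp only [Nat.testBit_and, Nat.testBit_xor, Bool.and_eq_true, testBit_full q hq] at hq'
    obtain ⟨⟨hq1, hq2⟩, hqF⟩ := hq'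
    have hqF' : F.testBit q = false := by simpa using hqF
    have hp1 := presv hg hF k1 h1 h3
    have hp2 := presv hg hF k2 h2 h4
    have hm1 : (M k1).testBit (idx (g (ptN q))) = true := by
      rw [← mem_fsOf, mem_of_presv hp1, mem_fsOf, idx_ptN' q hq]
      exact hq1
    have hm2 : (M k2).testBit (idx (g (ptN q))) = true := by
      rw [← mem_fsOf, mem_of_presv hp2, mem_fsOf, idx_ptN' q hq]
      exact hq2
    have hnF : F.testBit (idx (g (ptN q))) = false :=
      not_fix_image hF (ptN q) (by rw [idx_ptN' q hq]; exact hqF')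
    have hz : idx (g (ptN q)) = q := by
      apply hbits
      simp only [Nat.testBit_and, Nat.testBit_xor, Bool.and_eq_true, hm1, hm2, hnF,
        testBit_full _ (idx_lt (g (ptN q)))]
      simp
    have hfixq : g (ptN q) = ptN q := by
      have h := ptN_idx (g (ptN q))
      rw [hz] at h
      exact h.symm
    apply ih (F ||| 2 ^ q) hrest
    intro j hj hbit
    rw [Nat.testBit_or, Bool.or_eq_true, Nat.testBit_two_pow] at hbit
    rcases hbit with hbit | hbit
    · exact hF j hj hbit
    · have : q = j := by simpa using hbit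
      rw [← this]
      exact hfixq

/-! ### Orbit counting -/

theorem orbit_count {G α : Type*} [Group G] [Finite G] [MulAction G α] [DecidableEq α]
    (H : Subgroup G) (b : α) (S : Finset α) (h1 : ∀ h ∈ H, h • b ∈ S)
    (h2 : ∀ z ∈ S, ∃ h ∈ H, h • b = z) :
    Nat.card H = S.card * Nat.card ↥(H ⊓ MulAction.stabilizer G b) := by
  classical
  have horb : MulAction.orbit H b = (S : Set α) := by
    ext z
    constructor
    · rintro ⟨h, rfl⟩
      exact h1 h.1 h.2
    · intro hz
      obtain ⟨h, hh, rfl⟩ := h2 z hz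
      exact ⟨⟨h, hh⟩, rfl⟩
  have hstab : (MulAction.stabilizer H b).map H.subtype = H ⊓ MulAction.stabilizer G b := by
    ext g
    simp only [Subgroup.mem_map, MulAction.mem_stabilizer_iff, Subgroup.mem_inf]
    constructor
    · rintro ⟨x, hx, rfl⟩
      exact ⟨x.2, hx⟩
    · rintro ⟨hg, hgb⟩
      exact ⟨⟨g, hg⟩, hgb, rfl⟩
  have hcard : Nat.card (MulAction.stabilizer H b) = Nat.card ↥(H ⊓ MulAction.stabilizer G b) := by
    rw [← hstab]
    exact (Subgroup.card_map_of_injective H.subtype_injective).symm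
  have horbc : Nat.card (MulAction.orbit H b) = S.card := by
    rw [horb, Nat.card_coe_set_eq, Set.ncard_coe_finset]
  haveI : Fintype H := Fintype.ofFinite _
  haveI : Finite (MulAction.orbit H b) := by
    rw [horb]
    exact Finite.of_fintype _
  haveI : Fintype (MulAction.orbit H b) := Fintype.ofFinite _
  haveI : Fintype (MulAction.stabilizer H b) := Fintype.ofFinite _
  have hos := MulAction.card_orbit_mul_card_stabilizer_eq_card_group H b
  rw [← Nat.card_eq_fintype_card, ← Nat.card_eq_fintype_card, ← Nat.card_eq_fintype_card] at hos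
  rw [← hcard, ← horbc]
  exact hos.symm

/-- the permutations of the code fixing the points of `F` -/
def stabM (F : ℕ) : Subgroup (Equiv.Perm GolayPt) where
  carrier := {g | g ∈ M24 ∧ FixM F g}
  mul_mem' := by
    rintro a b ⟨ha, hFa⟩ ⟨hb, hFb⟩
    refine ⟨M24.mul_mem ha hb, ?_⟩
    intro j hj hbit
    rw [Equiv.Perm.mul_apply, hFb j hj hbit, hFa j hj hbit]
  one_mem' := ⟨M24.one_mem, fun j _ _ => rfl⟩
  inv_mem' := by
    rintro a ⟨ha, hFa⟩
    refine ⟨M24.inv_mem ha, ?_⟩
    intro j hj hbit
    rw [Equiv.Perm.inv_eq_iff_eq]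
    exact (hFa j hj hbit).symm

theorem mem_stabM (F : ℕ) (g : Equiv.Perm GolayPt) : g ∈ stabM F ↔ g ∈ M24 ∧ FixM F g := Iff.rfl

theorem stabM_zero : stabM 0 = M24 := by
  ext g
  rw [mem_stabM]
  constructor
  · exact fun h => h.1
  · intro h
    refine ⟨h, ?_⟩
    intro j _ hbit
    simp at hbit

theorem stabM_succ (F b : ℕ) (hb : b < 24) :
    stabM (F ||| 2 ^ b) = stabM F ⊓ MulAction.stabilizer (Equiv.Perm GolayPt) (ptN b) := by
  ext g
  rw [Subgroup.mem_inf, mem_stabM, mem_stabM, MulAction.mem_stabilizer_iff]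
  constructor
  · rintro ⟨hg, hF⟩
    refine ⟨⟨hg, ?_⟩, ?_⟩
    · intro j hj hbit
      exact hF j hj (by rw [Nat.testBit_or, hbit]; rfl)
    · exact hF b hb (by rw [Nat.testBit_or, Nat.testBit_two_pow]; simp)
  · rintro ⟨⟨hg, hF⟩, hgb⟩
    refine ⟨hg, ?_⟩
    intro j hj hbit
    rw [Nat.testBit_or, Bool.or_eq_true, Nat.testBit_two_pow] at hbit
    rcases hbit with hbit | hbit
    · exact hF j hj hbit
    · have : b = j := by simpa using hbit
      rw [← this]
      exact hgb

/-- level data: the orbit of `b` under the stabilizer of `F` is the set `tgt`, with witnesses in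
the subgroup generated by the three generators -/
def Lvl (F b tgt : ℕ) : Prop :=
  b < 24 ∧ tgt < 2 ^ 24 ∧ (∀ g ∈ stabM F, tgt.testBit (idx (g (ptN b))) = true) ∧
    (∀ z < 24, tgt.testBit z = true → ∃ g ∈ C3, FixM F g ∧ g (ptN b) = ptN z)

theorem Lvl.count {F b tgt : ℕ} (h : Lvl F b tgt) :
    Nat.card (stabM F) = popc tgt * Nat.card (stabM (F ||| 2 ^ b)) := by
  obtain ⟨hb, htgt, hsub, hsup⟩ := h
  rw [stabM_succ F b hb, ← card_fsOf tgt htgt]
  apply orbit_count
  · intro g hg
    rw [mem_fsOf]
    exact hsub g hg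
  · intro z hz
    rw [mem_fsOf] at hz
    obtain ⟨g, hg, hF, hgb⟩ := hsup (idx z) (idx_lt z) hz
    refine ⟨g, ⟨C3_le hg, hF⟩, ?_⟩
    rw [Equiv.Perm.smul_def, hgb, ptN_idx]

/-- peel off one level: every element of the stabilizer of `F` is a witness times an element
of the next stabilizer -/
theorem Lvl.factor {F b tgt : ℕ} (h : Lvl F b tgt) {g : Equiv.Perm GolayPt} (hg : g ∈ stabM F) :
    ∃ t ∈ C3, FixM F t ∧ t (ptN b) = g (ptN b) ∧ t⁻¹ * g ∈ stabM (F ||| 2 ^ b) := by
  obtain ⟨hb, htgt, hsub, hsup⟩ := h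
  obtain ⟨t, ht, hFt, htb⟩ := hsup (idx (g (ptN b))) (idx_lt _) (hsub g hg)
  rw [ptN_idx] at htb
  refine ⟨t, ht, hFt, htb, ?_⟩
  rw [stabM_succ F b hb, Subgroup.mem_inf, MulAction.mem_stabilizer_iff]
  refine ⟨(stabM F).mul_mem ((stabM F).inv_mem ⟨C3_le ht, hFt⟩) hg, ?_⟩
  rw [Equiv.Perm.smul_def, Equiv.Perm.mul_apply, ← htb, Equiv.Perm.inv_def,
    Equiv.symm_apply_apply]

theorem Lvl.gen {F b tgt : ℕ} (h : Lvl F b tgt) (hnext : stabM (F ||| 2 ^ b) ≤ C3) :
    stabM F ≤ C3 := by
  intro g hg
  obtain ⟨t, ht, -, -, hmem⟩ := h.factor hg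
  have h1 := C3.mul_mem ht (hnext hmem)
  rwa [mul_inv_cancel_left] at h1

end Cfsg.Agent.Lib_lead_M24Chain
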