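import Mathlib
import Cfsg.Prelude.Def_Sporadic_a
import Cfsg.Agent.Lib_lead_Golay
import Cfsg.Agent.Lib_lead_GolayPerm
import Cfsg.Agent.Lib_lead_M24
import Cfsg.Agent.Lib_lead_M24Chain

/-! A stabilizer chain for the group of the length-24 code: base `0, 2, 5, 6, 9, 1, 17`,
orbit lengths `24, 23, 22, 21, 20, 16, 3`. -/

set_option autoImplicit false

namespace Cfsg.Agent.Lib_lead_M24ChainData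

open Cfsg Cfsg.Agent.Lib_lead_Golay Cfsg.Agent.Lib_lead_GolayPerm Cfsg.Agent.Lib_lead_M24
  Cfsg.Agent.Lib_lead_M24Chain
open scoped Pointwise

set_option maxRecDepth 100000 in
/-- straight-line program -/
def nodes : List Node :=
  [(([1, 2, 3, 4, 5, 6, 7, 8, 9, 10, 11, 12, 13, 14, 15, 16, 17, 18, 19, 20, 21, 22, 0, 23], [22, 0, 1, 2, 3, 4, 5, 6, 7, 8, 9, 10, 11, 12, 13, 14, 15, 16, 17, 18, 19, 20, 21, 23]), (0, 0, 0)),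
   (([23, 22, 11, 15, 17, 9, 19, 13, 20, 5, 16, 2, 21, 7, 18, 3, 10, 4, 14, 6, 8, 12, 1, 0], [23, 22, 11, 15, 17, 9, 19, 13, 20, 5, 16, 2, 21, 7, 18, 3, 10, 4, 14, 6, 8, 12, 1, 0]), (0, 1, 0)),
   (([0, 18, 6, 3, 2, 21, 1, 5, 16, 12, 7, 19, 8, 9, 17, 15, 13, 11, 4, 22, 10, 20, 14, 23], [0, 6, 4, 3, 18, 7, 2, 10, 12, 13, 20, 17, 9, 16, 22, 15, 8, 14, 1, 11, 21, 5, 19, 23]), (0, 2, 0)),
   (([0, 1, 2, 3, 4, 5, 6, 7, 8, 9, 10, 11, 12, 13, 14, 15, 16, 17, 18, 19, 20, 21, 22, 23], [0, 1, 2, 3, 4, 5, 6, 7, 8, 9, 10, 11, 12, 13, 14, 15, 16, 17, 18, 19, 20, 21, 22, 23]), (1, 1, 1)),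
   (([2, 3, 4, 5, 6, 7, 8, 9, 10, 11, 12, 13, 14, 15, 16, 17, 18, 19, 20, 21, 22, 0, 1, 23], [21, 22, 0, 1, 2, 3, 4, 5, 6, 7, 8, 9, 10, 11, 12, 13, 14, 15, 16, 17, 18, 19, 20, 23]), (1, 0, 0)),
   (([22, 11, 15, 17, 9, 19, 13, 20, 5, 16, 2, 21, 7, 18, 3, 10, 4, 14, 6, 8, 12, 1, 23, 0], [23, 21, 10, 14, 16, 8, 18, 12, 19, 4, 15, 1, 20, 6, 17, 2, 9, 3, 13, 5, 7, 11, 0, 22]), (1, 1, 0)),
   (([18, 6, 3, 2, 21, 1, 5, 16, 12, 7, 19, 8, 9, 17, 15, 13, 11, 4, 22, 10, 20, 14, 0, 23], [22, 5, 3, 2, 17, 6, 1, 9, 11, 12, 19, 16, 8, 15, 21, 14, 7, 13, 0, 10, 20, 4, 18, 23]), (1, 2, 0)),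
   (([3, 4, 5, 6, 7, 8, 9, 10, 11, 12, 13, 14, 15, 16, 17, 18, 19, 20, 21, 22, 0, 1, 2, 23], [20, 21, 22, 0, 1, 2, 3, 4, 5, 6, 7, 8, 9, 10, 11, 12, 13, 14, 15, 16, 17, 18, 19, 23]), (1, 0, 4)),
   (([11, 15, 17, 9, 19, 13, 20, 5, 16, 2, 21, 7, 18, 3, 10, 4, 14, 6, 8, 12, 1, 23, 22, 0], [23, 20, 9, 13, 15, 7, 17, 11, 18, 3, 14, 0, 19, 5, 16, 1, 8, 2, 12, 4, 6, 10, 22, 21]), (1, 1, 4)),
   (([6, 3, 2, 21, 1, 5, 16, 12, 7, 19, 8, 9, 17, 15, 13, 11, 4, 22, 10, 20, 14, 0, 18, 23], [21, 4, 2, 1, 16, 5, 0, 8, 10, 11, 18, 15, 7, 14, 20, 13, 6, 12, 22, 9, 19, 3, 17, 23]), (1, 2, 4)),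
   (([14, 19, 15, 11, 12, 22, 9, 10, 21, 13, 6, 20, 5, 4, 3, 7, 2, 17, 1, 16, 8, 18, 23, 0], [23, 18, 16, 14, 13, 12, 10, 15, 20, 6, 7, 3, 4, 9, 0, 2, 19, 17, 21, 1, 11, 8, 5, 22]), (1, 2, 5)),
   (([19, 7, 4, 3, 22, 2, 6, 17, 13, 8, 20, 9, 10, 18, 16, 14, 12, 5, 0, 11, 21, 15, 1, 23], [18, 22, 5, 3, 2, 17, 6, 1, 9, 11, 12, 19, 16, 8, 15, 21, 14, 7, 13, 0, 10, 20, 4, 23]), (1, 0, 6)),
   (([4, 1, 3, 6, 20, 18, 21, 13, 8, 5, 22, 16, 12, 11, 15, 9, 19, 2, 14, 7, 10, 17, 0, 23], [22, 1, 17, 2, 0, 9, 3, 19, 8, 15, 20, 13, 12, 7, 18, 14, 11, 21, 5, 16, 4, 6, 10, 23]), (1, 2, 6)),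
   (([15, 17, 9, 19, 13, 20, 5, 16, 2, 21, 7, 18, 3, 10, 4, 14, 6, 8, 12, 1, 23, 22, 11, 0], [23, 19, 8, 12, 14, 6, 16, 10, 17, 2, 13, 22, 18, 4, 15, 0, 7, 1, 11, 3, 5, 9, 21, 20]), (1, 1, 7)),
   (([12, 16, 18, 10, 20, 14, 21, 6, 17, 3, 22, 8, 19, 4, 11, 5, 15, 7, 9, 13, 2, 23, 0, 1], [22, 23, 20, 9, 13, 15, 7, 17, 11, 18, 3, 14, 0, 19, 5, 16, 1, 8, 2, 12, 4, 6, 10, 21]), (1, 0, 8)),
   (([7, 4, 3, 22, 2, 6, 17, 13, 8, 20, 9, 10, 18, 16, 14, 12, 5, 0, 11, 21, 15, 1, 19, 23], [17, 21, 4, 2, 1, 16, 5, 0, 8, 10, 11, 18, 15, 7, 14, 20, 13, 6, 12, 22, 9, 19, 3, 23]), (1, 0, 9)),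
   (([17, 22, 15, 19, 8, 14, 12, 7, 20, 9, 1, 10, 21, 2, 3, 5, 6, 11, 18, 13, 16, 4, 23, 0], [23, 10, 13, 14, 21, 15, 16, 7, 4, 9, 11, 17, 6, 19, 5, 2, 20, 0, 18, 3, 8, 12, 1, 22]), (1, 2, 10)),
   (([20, 8, 5, 4, 0, 3, 7, 18, 14, 9, 21, 10, 11, 19, 17, 15, 13, 6, 1, 12, 22, 16, 2, 23], [4, 18, 22, 5, 3, 2, 17, 6, 1, 9, 11, 12, 19, 16, 8, 15, 21, 14, 7, 13, 0, 10, 20, 23]), (1, 0, 11)),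
   (([5, 2, 4, 7, 21, 19, 22, 14, 9, 6, 0, 17, 13, 12, 16, 10, 20, 3, 15, 8, 11, 18, 1, 23], [10, 22, 1, 17, 2, 0, 9, 3, 19, 8, 15, 20, 13, 12, 7, 18, 14, 11, 21, 5, 16, 4, 6, 23]), (1, 0, 12)),
   (([16, 18, 10, 20, 14, 21, 6, 17, 3, 22, 8, 19, 4, 11, 5, 15, 7, 9, 13, 2, 23, 0, 12, 1], [21, 23, 19, 8, 12, 14, 6, 16, 10, 17, 2, 13, 22, 18, 4, 15, 0, 7, 1, 11, 3, 5, 9, 20]), (1, 0, 13)),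
   (([13, 17, 19, 11, 21, 15, 22, 7, 18, 4, 0, 9, 20, 5, 12, 6, 16, 8, 10, 14, 3, 23, 1, 2], [10, 22, 23, 20, 9, 13, 15, 7, 17, 11, 18, 3, 14, 0, 19, 5, 16, 1, 8, 2, 12, 4, 6, 21]), (1, 0, 14)),
   (([21, 10, 14, 16, 8, 18, 12, 19, 4, 15, 1, 20, 6, 17, 2, 9, 3, 13, 5, 7, 11, 0, 23, 22], [21, 10, 14, 16, 8, 18, 12, 19, 4, 15, 1, 20, 6, 17, 2, 9, 3, 13, 5, 7, 11, 0, 23, 22]), (1, 1, 14)),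
   (([8, 13, 4, 7, 10, 17, 20, 1, 11, 3, 14, 16, 22, 2, 19, 21, 15, 5, 12, 9, 6, 23, 0, 18], [22, 7, 13, 9, 2, 17, 20, 3, 0, 19, 4, 8, 18, 1, 10, 16, 11, 5, 23, 14, 6, 15, 12, 21]), (1, 2, 14)),
   (([10, 16, 21, 2, 0, 3, 5, 4, 17, 12, 20, 7, 19, 22, 11, 15, 9, 1, 18, 8, 14, 13, 6, 23], [4, 17, 3, 5, 7, 6, 22, 11, 19, 16, 0, 14, 9, 21, 20, 15, 1, 8, 18, 12, 10, 2, 13, 23]), (1, 2, 17)),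
   (([9, 11, 17, 13, 12, 6, 1, 18, 5, 19, 23, 4, 7, 21, 10, 16, 8, 15, 3, 20, 2, 14, 22, 0], [23, 6, 20, 18, 11, 8, 5, 12, 16, 0, 14, 1, 4, 3, 21, 17, 15, 2, 7, 9, 19, 13, 22, 10]), (1, 1, 18)),
   (([10, 12, 18, 14, 13, 7, 2, 19, 6, 20, 23, 5, 8, 22, 11, 17, 9, 16, 4, 21, 3, 15, 0, 1], [22, 23, 6, 20, 18, 11, 8, 5, 12, 16, 0, 14, 1, 4, 3, 21, 17, 15, 2, 7, 9, 19, 13, 10]), (1, 0, 24)),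
   (([4, 17, 3, 5, 7, 6, 22, 11, 19, 16, 0, 14, 9, 21, 20, 15, 1, 8, 18, 12, 10, 2, 13, 23], [10, 16, 21, 2, 0, 3, 5, 4, 17, 12, 20, 7, 19, 22, 11, 15, 9, 1, 18, 8, 14, 13, 6, 23]), (2, 23, 0)),
   (([0, 9, 18, 20, 21, 11, 3, 12, 22, 10, 23, 6, 19, 13, 14, 8, 16, 1, 7, 2, 5, 15, 4, 17], [0, 17, 19, 6, 22, 20, 11, 18, 15, 1, 9, 5, 7, 13, 14, 21, 16, 23, 2, 12, 3, 4, 8, 10]), (1, 26, 25)),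
   (([12, 19, 11, 9, 8, 1, 18, 4, 21, 22, 23, 2, 5, 20, 7, 13, 16, 15, 3, 10, 6, 17, 14, 0], [23, 5, 11, 18, 7, 12, 20, 14, 4, 3, 19, 2, 0, 15, 22, 17, 16, 21, 6, 1, 13, 8, 9, 10]), (1, 2, 24)),
   (([22, 23, 20, 9, 13, 15, 7, 17, 11, 18, 3, 14, 0, 19, 5, 16, 1, 8, 2, 12, 4, 6, 10, 21], [12, 16, 18, 10, 20, 14, 21, 6, 17, 3, 22, 8, 19, 4, 11, 5, 15, 7, 9, 13, 2, 23, 0, 1]), (2, 14, 0)),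
   (([0, 12, 14, 18, 11, 23, 2, 13, 6, 10, 21, 20, 15, 4, 17, 19, 1, 16, 9, 3, 7, 8, 5, 22], [0, 16, 6, 19, 13, 22, 8, 20, 21, 18, 9, 4, 1, 7, 2, 12, 17, 14, 3, 15, 11, 10, 23, 5]), (1, 29, 28)),
   (([17, 19, 11, 21, 15, 22, 7, 18, 4, 0, 9, 20, 5, 12, 6, 16, 8, 10, 14, 3, 23, 1, 13, 2], [9, 21, 23, 19, 8, 12, 14, 6, 16, 10, 17, 2, 13, 22, 18, 4, 15, 0, 7, 1, 11, 3, 5, 20]), (1, 0, 19)),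
   (([23, 10, 13, 14, 21, 15, 16, 7, 4, 9, 11, 17, 6, 19, 5, 2, 20, 0, 18, 3, 8, 12, 1, 22], [17, 22, 15, 19, 8, 14, 12, 7, 20, 9, 1, 10, 21, 2, 3, 5, 6, 11, 18, 13, 16, 4, 23, 0]), (2, 16, 0)),
   (([0, 3, 17, 12, 2, 1, 7, 18, 21, 23, 9, 8, 15, 6, 16, 20, 4, 11, 5, 14, 22, 10, 19, 13], [0, 5, 4, 1, 16, 18, 13, 6, 11, 10, 21, 17, 3, 23, 19, 12, 14, 2, 7, 22, 15, 8, 20, 9]), (1, 32, 31)),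
   (([13, 17, 15, 1, 11, 19, 4, 7, 20, 8, 5, 16, 14, 10, 18, 21, 9, 23, 2, 12, 3, 22, 6, 0], [23, 3, 18, 20, 6, 10, 22, 7, 9, 16, 13, 4, 19, 0, 12, 2, 11, 1, 14, 5, 8, 15, 21, 17]), (1, 1, 15)),
   (([10, 22, 23, 20, 9, 13, 15, 7, 17, 11, 18, 3, 14, 0, 19, 5, 16, 1, 8, 2, 12, 4, 6, 21], [13, 17, 19, 11, 21, 15, 22, 7, 18, 4, 0, 9, 20, 5, 12, 6, 16, 8, 10, 14, 3, 23, 1, 2]), (2, 20, 0)),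
   (([0, 1, 5, 22, 3, 2, 9, 7, 12, 17, 13, 16, 19, 18, 8, 4, 11, 21, 23, 14, 20, 6, 15, 10], [0, 1, 5, 4, 15, 2, 21, 7, 14, 6, 23, 16, 8, 10, 19, 22, 11, 9, 13, 12, 20, 17, 3, 18]), (1, 35, 34)),
   (([16, 10, 12, 11, 23, 15, 9, 17, 4, 21, 8, 13, 6, 1, 2, 3, 5, 22, 14, 20, 18, 7, 19, 0], [23, 13, 14, 15, 8, 16, 12, 21, 10, 6, 1, 3, 2, 11, 18, 5, 0, 7, 20, 22, 19, 9, 17, 4]), (1, 1, 23)),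
   (([21, 23, 19, 8, 12, 14, 6, 16, 10, 17, 2, 13, 22, 18, 4, 15, 0, 7, 1, 11, 3, 5, 9, 20], [16, 18, 10, 20, 14, 21, 6, 17, 3, 22, 8, 19, 4, 11, 5, 15, 7, 9, 13, 2, 23, 0, 12, 1]), (2, 19, 0)),
   (([0, 2, 22, 13, 20, 15, 17, 7, 12, 5, 10, 18, 6, 23, 19, 8, 14, 9, 4, 3, 1, 16, 11, 21], [0, 20, 1, 19, 18, 9, 12, 7, 15, 17, 10, 22, 8, 3, 16, 5, 21, 6, 11, 14, 4, 23, 2, 13]), (1, 38, 37)),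
   (([1, 3, 6, 20, 18, 21, 13, 8, 5, 22, 16, 12, 11, 15, 9, 19, 2, 14, 7, 10, 17, 0, 4, 23], [21, 0, 16, 1, 22, 8, 2, 18, 7, 14, 19, 12, 11, 6, 17, 13, 10, 20, 4, 15, 3, 5, 9, 23]), (1, 2, 9)),
   (([22, 0, 1, 2, 3, 4, 5, 6, 7, 8, 9, 10, 11, 12, 13, 14, 15, 16, 17, 18, 19, 20, 21, 23], [1, 2, 3, 4, 5, 6, 7, 8, 9, 10, 11, 12, 13, 14, 15, 16, 17, 18, 19, 20, 21, 22, 0, 23]), (2, 0, 0)),
   (([0, 2, 5, 19, 17, 20, 12, 7, 4, 21, 15, 11, 10, 14, 8, 18, 1, 13, 6, 9, 16, 22, 3, 23], [0, 16, 1, 22, 8, 2, 18, 7, 14, 19, 12, 11, 6, 17, 13, 10, 20, 4, 15, 3, 5, 9, 21, 23]), (1, 41, 40)),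
   (([10, 14, 16, 8, 18, 12, 19, 4, 15, 1, 20, 6, 17, 2, 9, 3, 13, 5, 7, 11, 0, 23, 21, 22], [20, 9, 13, 15, 7, 17, 11, 18, 3, 14, 0, 19, 5, 16, 1, 8, 2, 12, 4, 6, 10, 22, 23, 21]), (1, 1, 19)),
   (([0, 20, 1, 19, 18, 9, 12, 7, 15, 17, 10, 22, 8, 3, 16, 5, 21, 6, 11, 14, 4, 23, 2, 13], [0, 2, 22, 13, 20, 15, 17, 7, 12, 5, 10, 18, 6, 23, 19, 8, 14, 9, 4, 3, 1, 16, 11, 21]), (1, 26, 43)),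
   (([6, 13, 17, 15, 1, 11, 19, 4, 7, 20, 8, 5, 16, 14, 10, 18, 21, 9, 23, 2, 12, 3, 22, 0], [23, 4, 19, 21, 7, 11, 0, 8, 10, 17, 14, 5, 20, 1, 13, 3, 12, 2, 15, 6, 9, 16, 22, 18]), (1, 1, 11)),
   (([21, 4, 2, 1, 16, 5, 0, 8, 10, 11, 18, 15, 7, 14, 20, 13, 6, 12, 22, 9, 19, 3, 17, 23], [6, 3, 2, 21, 1, 5, 16, 12, 7, 19, 8, 9, 17, 15, 13, 11, 4, 22, 10, 20, 14, 0, 18, 23]), (2, 9, 0)),
   (([0, 14, 12, 13, 4, 15, 9, 16, 8, 19, 10, 5, 6, 20, 18, 22, 3, 11, 23, 2, 7, 1, 17, 21], [0, 21, 19, 16, 4, 11, 12, 20, 8, 6, 10, 17, 2, 3, 1, 5, 7, 22, 14, 9, 13, 23, 15, 18]), (1, 46, 45)),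
   (([0, 10, 7, 5, 15, 6, 20, 19, 4, 23, 17, 3, 2, 13, 14, 22, 16, 9, 12, 18, 11, 8, 21, 1], [0, 23, 12, 11, 8, 3, 5, 2, 21, 17, 1, 20, 18, 13, 14, 4, 16, 10, 19, 7, 6, 22, 15, 9]), (1, 27, 27)),
   (([0, 10, 9, 7, 8, 20, 18, 15, 5, 21, 22, 2, 3, 4, 17, 6, 1, 12, 13, 14, 23, 19, 11, 16], [0, 16, 11, 12, 13, 8, 15, 3, 4, 2, 1, 22, 17, 18, 19, 7, 23, 14, 6, 21, 5, 9, 10, 20]), (1, 30, 27)),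
   (([0, 17, 23, 20, 6, 16, 22, 19, 15, 13, 10, 9, 14, 18, 8, 12, 11, 1, 7, 5, 2, 4, 3, 21], [0, 17, 20, 22, 21, 19, 4, 18, 14, 11, 10, 16, 15, 9, 12, 8, 5, 1, 13, 7, 3, 23, 6, 2]), (1, 36, 27)),
   (([0, 5, 4, 1, 16, 18, 13, 6, 11, 10, 21, 17, 3, 23, 19, 12, 14, 2, 7, 22, 15, 8, 20, 9], [0, 3, 17, 12, 2, 1, 7, 18, 21, 23, 9, 8, 15, 6, 16, 20, 4, 11, 5, 14, 22, 10, 19, 13]), (1, 39, 27)),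
   (([0, 21, 6, 16, 22, 11, 19, 10, 3, 15, 23, 12, 9, 14, 8, 4, 1, 2, 7, 5, 20, 18, 17, 13], [0, 16, 17, 8, 15, 19, 2, 18, 14, 12, 7, 5, 11, 23, 13, 9, 3, 22, 21, 6, 20, 1, 4, 10]), (1, 42, 27)),
   (([0, 17, 11, 4, 23, 22, 19, 8, 2, 10, 13, 12, 14, 3, 16, 15, 21, 20, 7, 1, 9, 5, 18, 6], [0, 19, 8, 13, 3, 21, 23, 18, 7, 20, 9, 2, 11, 10, 12, 15, 14, 1, 22, 6, 17, 16, 5, 4]), (1, 44, 27)),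
   (([0, 15, 16, 5, 8, 13, 17, 6, 7, 9, 10, 22, 20, 2, 11, 14, 3, 4, 23, 12, 18, 21, 1, 19], [0, 22, 13, 16, 17, 3, 7, 8, 4, 9, 10, 14, 19, 5, 15, 1, 2, 6, 20, 23, 12, 21, 11, 18]), (1, 33, 30)),
   (([0, 19, 8, 23, 16, 10, 5, 18, 9, 13, 6, 20, 4, 3, 21, 14, 1, 11, 17, 22, 7, 12, 2, 15], [0, 16, 22, 13, 12, 6, 10, 20, 2, 8, 5, 17, 21, 9, 15, 23, 4, 18, 7, 1, 11, 14, 19, 3]), (1, 36, 30)),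
   (([0, 6, 19, 4, 18, 21, 22, 23, 17, 10, 16, 1, 8, 20, 9, 3, 2, 14, 5, 13, 7, 12, 15, 11], [0, 11, 16, 15, 3, 18, 1, 20, 12, 14, 9, 23, 21, 19, 17, 22, 10, 8, 4, 2, 13, 5, 6, 7]), (1, 39, 30)),
   (([0, 22, 21, 19, 5, 1, 7, 23, 6, 10, 17, 12, 4, 9, 11, 20, 3, 16, 2, 8, 15, 13, 14, 18], [0, 5, 18, 16, 12, 4, 8, 6, 19, 13, 9, 14, 11, 21, 22, 20, 17, 10, 23, 3, 15, 2, 1, 7]), (1, 36, 33)),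
   (([0, 19, 13, 10, 5, 2, 7, 6, 22, 23, 21, 4, 18, 12, 1, 16, 17, 11, 20, 8, 3, 15, 9, 14], [0, 14, 5, 20, 11, 4, 7, 6, 19, 22, 3, 17, 13, 2, 23, 21, 15, 16, 12, 1, 18, 10, 8, 9]), (1, 42, 33)),
   (([0, 2, 15, 11, 13, 22, 5, 7, 6, 9, 23, 14, 3, 4, 12, 20, 18, 16, 21, 19, 1, 17, 8, 10], [0, 20, 1, 12, 13, 6, 8, 7, 22, 9, 23, 3, 14, 4, 11, 2, 17, 21, 16, 19, 15, 18, 5, 10]), (1, 39, 36)),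
   (([0, 2, 20, 3, 19, 5, 21, 7, 10, 13, 14, 1, 9, 6, 4, 17, 11, 22, 23, 8, 16, 12, 18, 15], [0, 11, 1, 3, 14, 5, 13, 7, 19, 12, 8, 16, 21, 9, 10, 23, 20, 15, 22, 4, 2, 6, 17, 18]), (1, 42, 36)),
   (([0, 5, 3, 14, 16, 18, 13, 7, 10, 20, 15, 6, 12, 23, 9, 4, 8, 21, 17, 19, 2, 1, 11, 22], [0, 21, 20, 2, 15, 1, 11, 7, 16, 14, 8, 22, 12, 6, 3, 10, 4, 18, 5, 19, 9, 17, 23, 13]), (1, 42, 39)),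
   (([0, 8, 10, 14, 17, 18, 21, 1, 4, 9, 15, 20, 12, 16, 6, 3, 19, 11, 23, 5, 7, 2, 13, 22], [0, 7, 21, 15, 8, 19, 14, 20, 1, 9, 2, 17, 12, 22, 3, 10, 13, 4, 5, 16, 11, 6, 23, 18]), (1, 42, 47)),
   (([0, 9, 4, 23, 1, 15, 20, 6, 21, 14, 12, 16, 17, 19, 22, 8, 2, 11, 13, 3, 7, 10, 5, 18], [0, 4, 16, 19, 2, 22, 7, 20, 15, 1, 21, 17, 10, 18, 9, 5, 11, 12, 23, 13, 6, 8, 14, 3]), (1, 42, 55)),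
   (([0, 23, 2, 13, 3, 20, 22, 7, 10, 16, 15, 4, 11, 14, 19, 21, 17, 8, 6, 12, 18, 9, 1, 5], [0, 22, 2, 4, 11, 23, 18, 7, 17, 21, 8, 12, 19, 3, 13, 10, 9, 16, 20, 14, 5, 15, 6, 1]), (1, 33, 63)),
   (([0, 12, 22, 5, 20, 17, 15, 16, 9, 19, 21, 18, 13, 4, 6, 7, 23, 3, 1, 2, 14, 11, 8, 10], [0, 18, 19, 17, 13, 3, 14, 15, 22, 8, 23, 21, 1, 12, 20, 6, 7, 5, 11, 9, 4, 10, 2, 16]), (1, 47, 59)),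
   (([0, 8, 2, 9, 4, 6, 5, 21, 17, 14, 23, 11, 3, 18, 12, 7, 13, 19, 20, 1, 16, 22, 15, 10], [0, 19, 2, 12, 4, 6, 5, 15, 1, 3, 23, 11, 14, 16, 9, 22, 20, 8, 13, 17, 18, 7, 21, 10]), (1, 44, 65)),
   (([0, 11, 21, 7, 9, 3, 17, 2, 22, 20, 10, 19, 18, 23, 8, 6, 5, 14, 16, 15, 12, 4, 13, 1], [0, 23, 7, 5, 21, 16, 15, 3, 14, 4, 10, 1, 20, 22, 17, 19, 18, 6, 12, 11, 9, 2, 8, 13]), (1, 47, 50)),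
   (([0, 5, 18, 16, 12, 4, 8, 6, 19, 13, 9, 14, 11, 21, 22, 20, 17, 10, 23, 3, 15, 2, 1, 7], [0, 22, 21, 19, 5, 1, 7, 23, 6, 10, 17, 12, 4, 9, 11, 20, 3, 16, 2, 8, 15, 13, 14, 18]), (2, 57, 0)),
   (([0, 14, 2, 6, 13, 16, 10, 18, 1, 15, 9, 3, 23, 7, 19, 8, 4, 22, 17, 20, 11, 12, 21, 5], [0, 8, 2, 11, 16, 23, 3, 13, 15, 10, 6, 20, 21, 4, 1, 9, 5, 18, 7, 14, 19, 22, 17, 12]), (1, 68, 67)),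
   (([0, 6, 21, 17, 16, 9, 8, 12, 11, 10, 19, 7, 15, 1, 2, 18, 3, 20, 22, 23, 13, 14, 4, 5], [0, 13, 14, 16, 22, 23, 1, 11, 6, 5, 9, 8, 7, 20, 21, 12, 4, 3, 15, 10, 17, 2, 18, 19]), (1, 30, 62)),
   (([0, 8, 2, 10, 17, 13, 19, 11, 14, 9, 3, 6, 20, 5, 18, 23, 16, 15, 1, 7, 21, 22, 12, 4], [0, 18, 2, 10, 23, 13, 11, 19, 1, 9, 3, 7, 22, 5, 8, 17, 16, 4, 14, 6, 12, 20, 21, 15]), (1, 68, 70)),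
   (([0, 9, 11, 4, 20, 18, 10, 12, 19, 1, 13, 16, 2, 7, 22, 21, 6, 15, 17, 14, 5, 3, 8, 23], [0, 9, 12, 21, 3, 20, 16, 13, 22, 1, 6, 2, 7, 10, 19, 17, 11, 18, 5, 8, 4, 15, 14, 23]), (1, 27, 36)),
   (([0, 19, 8, 13, 3, 21, 23, 18, 7, 20, 9, 2, 11, 10, 12, 15, 14, 1, 22, 6, 17, 16, 5, 4], [0, 17, 11, 4, 23, 22, 19, 8, 2, 10, 13, 12, 14, 3, 16, 15, 21, 20, 7, 1, 9, 5, 18, 6]), (2, 53, 0)),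
   (([0, 20, 2, 3, 17, 22, 9, 11, 6, 19, 10, 14, 8, 18, 5, 16, 23, 15, 1, 12, 21, 13, 7, 4], [0, 18, 2, 3, 23, 14, 8, 22, 12, 6, 10, 7, 19, 21, 11, 17, 15, 4, 13, 9, 1, 20, 5, 16]), (1, 73, 72)),
   (([0, 12, 17, 20, 7, 22, 11, 16, 6, 15, 10, 23, 9, 21, 2, 8, 18, 19, 4, 13, 14, 3, 5, 1], [0, 23, 14, 21, 18, 22, 8, 4, 15, 12, 10, 6, 1, 19, 20, 9, 7, 2, 16, 17, 3, 13, 5, 11]), (1, 47, 39)),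
   (([0, 3, 2, 15, 6, 20, 17, 14, 13, 12, 21, 9, 10, 8, 4, 11, 7, 22, 16, 23, 19, 1, 18, 5], [0, 21, 2, 1, 14, 23, 4, 16, 13, 11, 12, 15, 9, 8, 7, 3, 18, 6, 22, 20, 5, 10, 17, 19]), (1, 51, 75)),
   (([0, 11, 21, 9, 16, 7, 13, 3, 6, 23, 15, 1, 20, 17, 2, 19, 14, 18, 12, 4, 8, 22, 5, 10], [0, 11, 14, 7, 19, 22, 8, 5, 20, 3, 23, 1, 18, 6, 16, 10, 4, 13, 17, 15, 12, 2, 21, 9]), (1, 27, 51)),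
   (([0, 14, 2, 13, 17, 6, 21, 16, 8, 7, 20, 5, 15, 10, 18, 3, 22, 23, 11, 12, 19, 1, 4, 9], [0, 21, 2, 15, 22, 11, 5, 9, 8, 23, 13, 18, 19, 3, 1, 12, 7, 4, 14, 20, 10, 6, 16, 17]), (1, 68, 77)),
   (([0, 3, 2, 21, 7, 15, 4, 17, 1, 23, 16, 9, 22, 5, 10, 20, 18, 14, 11, 13, 12, 19, 8, 6], [0, 8, 2, 1, 6, 13, 23, 4, 22, 11, 14, 18, 20, 19, 17, 5, 10, 7, 16, 21, 15, 3, 12, 9]), (1, 27, 56)),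
   (([0, 5, 2, 14, 13, 18, 1, 7, 15, 17, 21, 3, 4, 19, 12, 9, 8, 10, 22, 11, 6, 16, 23, 20], [0, 6, 2, 11, 12, 1, 20, 7, 16, 15, 17, 19, 14, 4, 3, 8, 21, 9, 5, 13, 23, 10, 18, 22]), (1, 64, 64)),
   (([0, 5, 2, 7, 6, 11, 21, 18, 9, 4, 8, 13, 3, 19, 20, 12, 22, 1, 10, 23, 17, 15, 14, 16], [0, 17, 2, 12, 9, 1, 4, 3, 10, 8, 18, 5, 15, 11, 22, 21, 23, 20, 7, 13, 14, 6, 16, 19]), (1, 69, 64)),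
   (([0, 4, 2, 5, 10, 21, 12, 11, 3, 16, 23, 17, 6, 18, 7, 22, 15, 14, 19, 20, 1, 9, 8, 13], [0, 20, 2, 8, 1, 3, 12, 14, 22, 21, 4, 7, 6, 23, 17, 16, 9, 11, 13, 18, 19, 5, 15, 10]), (1, 71, 64)),
   (([0, 5, 2, 8, 15, 19, 18, 14, 21, 7, 11, 6, 9, 4, 23, 1, 22, 13, 17, 10, 16, 12, 3, 20], [0, 15, 2, 22, 13, 1, 11, 9, 3, 12, 19, 10, 21, 17, 7, 4, 20, 18, 6, 5, 23, 8, 16, 14]), (1, 76, 64)),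
   (([0, 6, 2, 5, 21, 12, 8, 17, 16, 18, 20, 7, 9, 10, 13, 19, 14, 1, 4, 22, 11, 23, 3, 15], [0, 17, 2, 22, 18, 3, 1, 11, 6, 12, 13, 20, 5, 14, 16, 23, 8, 7, 9, 15, 10, 4, 19, 21]), (1, 79, 64)),
   (([0, 1, 2, 15, 13, 10, 16, 12, 22, 19, 5, 3, 6, 17, 23, 18, 7, 20, 11, 14, 4, 21, 8, 9], [0, 1, 2, 11, 20, 10, 12, 16, 22, 23, 5, 18, 7, 4, 19, 3, 6, 13, 15, 9, 17, 21, 8, 14]), (1, 69, 66)),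
   (([0, 6, 2, 19, 17, 9, 22, 13, 15, 5, 4, 14, 3, 1, 8, 11, 18, 12, 21, 20, 23, 7, 16, 10], [0, 13, 2, 12, 10, 9, 1, 21, 14, 5, 23, 15, 17, 7, 11, 8, 22, 4, 16, 3, 19, 18, 6, 20]), (1, 74, 66)),
   (([0, 13, 2, 12, 6, 17, 20, 1, 22, 4, 5, 9, 15, 16, 10, 14, 8, 23, 19, 3, 7, 18, 11, 21], [0, 7, 2, 19, 9, 10, 4, 20, 16, 11, 14, 22, 3, 1, 15, 12, 13, 5, 21, 18, 6, 23, 8, 17]), (1, 76, 66)),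
   (([0, 1, 2, 23, 7, 4, 15, 19, 14, 10, 6, 9, 21, 11, 22, 17, 5, 13, 12, 3, 18, 8, 20, 16], [0, 1, 2, 19, 5, 16, 10, 4, 21, 11, 9, 13, 18, 17, 8, 6, 23, 15, 20, 7, 22, 12, 14, 3]), (1, 79, 66)),
   (([0, 5, 2, 9, 18, 23, 10, 1, 20, 16, 19, 3, 4, 11, 12, 6, 17, 7, 15, 21, 14, 8, 13, 22], [0, 7, 2, 11, 12, 1, 15, 17, 21, 3, 6, 13, 14, 22, 20, 18, 9, 16, 4, 10, 8, 19, 23, 5]), (1, 74, 69)),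
   (([0, 4, 2, 17, 8, 7, 21, 16, 3, 11, 12, 15, 5, 14, 23, 13, 6, 18, 22, 19, 9, 10, 1, 20], [0, 22, 2, 8, 1, 12, 16, 5, 4, 20, 21, 9, 10, 15, 13, 11, 7, 3, 17, 19, 23, 6, 18, 14]), (1, 76, 69)),
   (([0, 10, 2, 15, 8, 14, 12, 4, 19, 16, 13, 22, 18, 20, 6, 5, 17, 21, 23, 7, 9, 1, 11, 3], [0, 21, 2, 23, 7, 15, 14, 19, 4, 20, 1, 22, 6, 10, 5, 3, 9, 16, 12, 8, 13, 17, 11, 18]), (1, 64, 71)),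
   (([0, 13, 2, 21, 22, 8, 23, 9, 4, 12, 15, 17, 19, 20, 16, 5, 7, 11, 3, 14, 1, 18, 10, 6], [0, 20, 2, 18, 8, 15, 23, 16, 5, 7, 22, 17, 9, 1, 19, 10, 14, 11, 21, 12, 13, 3, 4, 6]), (1, 76, 71)),
   (([0, 18, 2, 13, 8, 1, 16, 4, 22, 12, 15, 19, 10, 6, 20, 17, 5, 21, 23, 11, 9, 14, 7, 3], [0, 5, 2, 23, 7, 16, 13, 22, 4, 20, 12, 19, 9, 3, 21, 10, 6, 15, 1, 11, 14, 17, 8, 18]), (1, 64, 74)),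
   (([0, 13, 2, 1, 16, 3, 17, 23, 14, 9, 22, 7, 4, 6, 20, 19, 11, 18, 5, 10, 15, 12, 8, 21], [0, 3, 2, 5, 12, 18, 13, 11, 22, 9, 19, 16, 21, 1, 8, 20, 4, 6, 17, 15, 14, 23, 10, 7]), (1, 78, 79)),
   (([0, 13, 2, 18, 5, 1, 8, 11, 23, 15, 22, 10, 17, 7, 20, 9, 14, 3, 12, 6, 19, 16, 4, 21], [0, 5, 2, 17, 22, 4, 19, 13, 6, 15, 11, 7, 18, 1, 16, 9, 21, 12, 3, 20, 14, 23, 10, 8]), (1, 71, 80)),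
   (([0, 5, 2, 23, 7, 16, 13, 22, 4, 20, 12, 19, 9, 3, 21, 10, 6, 15, 1, 11, 14, 17, 8, 18], [0, 18, 2, 13, 8, 1, 16, 4, 22, 12, 15, 19, 10, 6, 20, 17, 5, 21, 23, 11, 9, 14, 7, 3]), (2, 93, 0)),
   (([0, 3, 2, 1, 16, 5, 4, 19, 18, 10, 8, 12, 15, 22, 14, 20, 21, 23, 9, 13, 11, 6, 7, 17], [0, 3, 2, 1, 6, 5, 21, 22, 10, 18, 9, 20, 11, 19, 14, 12, 4, 23, 8, 7, 15, 16, 13, 17]), (1, 96, 95)),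
   (([0, 6, 2, 17, 7, 1, 20, 12, 22, 21, 11, 5, 14, 4, 10, 8, 15, 18, 19, 23, 13, 3, 9, 16], [0, 5, 2, 21, 13, 11, 1, 4, 15, 22, 14, 10, 7, 20, 12, 16, 23, 3, 17, 18, 6, 9, 8, 19]), (1, 66, 83)),
   (([0, 13, 2, 15, 22, 5, 14, 9, 8, 17, 19, 16, 21, 7, 12, 4, 10, 1, 11, 18, 3, 23, 20, 6], [0, 17, 2, 20, 15, 5, 23, 13, 8, 7, 16, 18, 14, 1, 6, 3, 11, 9, 19, 10, 22, 12, 4, 21]), (1, 96, 98)),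
   (([0, 8, 2, 10, 21, 4, 7, 1, 12, 23, 5, 14, 22, 11, 15, 19, 6, 18, 3, 9, 20, 17, 16, 13], [0, 7, 2, 18, 5, 10, 16, 6, 1, 19, 3, 13, 8, 23, 11, 14, 22, 21, 17, 15, 20, 4, 12, 9]), (1, 66, 88)),
   (([0, 1, 2, 19, 5, 16, 10, 4, 21, 11, 9, 13, 18, 17, 8, 6, 23, 15, 20, 7, 22, 12, 14, 3], [0, 1, 2, 23, 7, 4, 15, 19, 14, 10, 6, 9, 21, 11, 22, 17, 5, 13, 12, 3, 18, 8, 20, 16]), (2, 88, 0)),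
   (([0, 21, 2, 9, 12, 5, 4, 1, 18, 3, 16, 8, 14, 13, 6, 7, 10, 20, 19, 11, 22, 15, 23, 17], [0, 7, 2, 9, 6, 5, 14, 15, 11, 3, 16, 19, 4, 13, 12, 21, 10, 23, 8, 18, 17, 1, 20, 22]), (1, 101, 100)),
   (([0, 18, 2, 22, 15, 17, 10, 14, 4, 3, 7, 19, 1, 16, 13, 6, 21, 11, 9, 12, 8, 20, 23, 5], [0, 12, 2, 9, 8, 23, 15, 10, 20, 18, 6, 17, 19, 14, 7, 4, 13, 5, 1, 11, 21, 16, 3, 22]), (1, 66, 92)),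
   (([0, 7, 2, 19, 9, 10, 4, 20, 16, 11, 14, 22, 3, 1, 15, 12, 13, 5, 21, 18, 6, 23, 8, 17], [0, 13, 2, 12, 6, 17, 20, 1, 22, 4, 5, 9, 15, 16, 10, 14, 8, 23, 19, 3, 7, 18, 11, 21]), (2, 87, 0)),
   (([0, 21, 2, 8, 12, 5, 14, 15, 9, 19, 20, 18, 7, 13, 1, 4, 23, 22, 11, 3, 16, 6, 17, 10], [0, 14, 2, 19, 15, 5, 21, 12, 3, 8, 23, 18, 4, 13, 6, 7, 20, 22, 11, 9, 10, 1, 17, 16]), (1, 104, 103)),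
   (([0, 20, 2, 4, 8, 16, 3, 14, 11, 22, 1, 15, 6, 23, 10, 12, 13, 21, 18, 9, 17, 7, 5, 19], [0, 10, 2, 6, 3, 22, 12, 21, 4, 19, 14, 8, 15, 16, 7, 11, 5, 20, 18, 23, 1, 17, 9, 13]), (1, 76, 80)),
   (([0, 8, 2, 11, 16, 23, 3, 13, 15, 10, 6, 20, 21, 4, 1, 9, 5, 18, 7, 14, 19, 22, 17, 12], [0, 14, 2, 6, 13, 16, 10, 18, 1, 15, 9, 3, 23, 7, 19, 8, 4, 22, 17, 20, 11, 12, 21, 5]), (2, 69, 0)),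
   (([0, 19, 2, 16, 15, 5, 11, 1, 20, 17, 8, 9, 3, 12, 6, 21, 4, 22, 7, 10, 18, 13, 23, 14], [0, 7, 2, 12, 16, 5, 14, 18, 10, 11, 19, 6, 13, 21, 23, 4, 3, 9, 20, 1, 8, 15, 17, 22]), (1, 107, 106)),
   (([0, 3, 2, 6, 17, 7, 20, 13, 10, 16, 4, 23, 19, 9, 8, 14, 15, 5, 22, 21, 11, 1, 12, 18], [0, 21, 2, 1, 10, 17, 3, 5, 14, 13, 8, 20, 22, 7, 15, 16, 9, 4, 23, 12, 6, 19, 18, 11]), (1, 79, 88)),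
   (([0, 22, 2, 8, 1, 12, 16, 5, 4, 20, 21, 9, 10, 15, 13, 11, 7, 3, 17, 19, 23, 6, 18, 14], [0, 4, 2, 17, 8, 7, 21, 16, 3, 11, 12, 15, 5, 14, 23, 13, 6, 18, 22, 19, 9, 10, 1, 20]), (2, 90, 0)),
   (([0, 8, 2, 16, 3, 5, 23, 15, 21, 7, 1, 14, 19, 20, 4, 13, 11, 12, 18, 6, 9, 22, 10, 17], [0, 10, 2, 4, 14, 5, 19, 9, 1, 20, 22, 16, 17, 15, 11, 7, 3, 23, 18, 12, 13, 8, 21, 6]), (1, 110, 109)),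
   (([0, 21, 2, 3, 15, 7, 19, 14, 9, 12, 10, 5, 6, 1, 22, 23, 4, 16, 20, 8, 13, 18, 11, 17], [0, 13, 2, 3, 16, 11, 12, 5, 19, 8, 10, 22, 9, 20, 7, 4, 17, 23, 21, 6, 18, 1, 14, 15]), (1, 74, 74)),
   (([0, 6, 2, 8, 11, 5, 19, 13, 20, 10, 21, 12, 16, 22, 18, 14, 1, 7, 23, 4, 15, 17, 9, 3], [0, 16, 2, 23, 19, 5, 1, 17, 3, 22, 9, 4, 11, 7, 15, 20, 12, 21, 14, 6, 8, 10, 13, 18]), (1, 110, 112)),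
   (([0, 20, 2, 16, 18, 10, 23, 8, 7, 12, 22, 3, 9, 15, 4, 1, 11, 21, 14, 5, 17, 13, 6, 19], [0, 15, 2, 11, 14, 19, 22, 8, 7, 12, 5, 16, 9, 21, 18, 13, 3, 20, 4, 23, 1, 17, 10, 6]), (1, 74, 85)),
   (([0, 1, 2, 11, 20, 10, 12, 16, 22, 23, 5, 18, 7, 4, 19, 3, 6, 13, 15, 9, 17, 21, 8, 14], [0, 1, 2, 15, 13, 10, 16, 12, 22, 19, 5, 3, 6, 17, 23, 18, 7, 20, 11, 14, 4, 21, 8, 9]), (2, 85, 0)),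
   (([0, 17, 2, 6, 15, 5, 14, 22, 16, 7, 8, 11, 23, 3, 20, 1, 18, 21, 19, 10, 13, 4, 12, 9], [0, 15, 2, 13, 21, 5, 3, 9, 10, 23, 19, 11, 22, 20, 6, 4, 8, 1, 16, 18, 14, 17, 7, 12]), (1, 115, 114)),
   (([0, 1, 2, 3, 21, 5, 16, 13, 9, 8, 18, 15, 20, 7, 14, 11, 6, 17, 10, 22, 12, 4, 19, 23], [0, 1, 2, 3, 21, 5, 16, 13, 9, 8, 18, 15, 20, 7, 14, 11, 6, 17, 10, 22, 12, 4, 19, 23]), (1, 97, 97)),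
   (([0, 15, 2, 13, 10, 5, 22, 18, 11, 19, 8, 21, 4, 20, 12, 3, 23, 6, 17, 7, 16, 14, 9, 1], [0, 23, 2, 15, 12, 5, 17, 19, 10, 22, 4, 8, 14, 3, 21, 1, 20, 18, 7, 9, 13, 11, 6, 16]), (1, 99, 97)),
   (([0, 9, 2, 21, 10, 5, 12, 11, 19, 16, 18, 14, 7, 23, 6, 22, 15, 17, 3, 13, 8, 4, 1, 20], [0, 22, 2, 18, 21, 5, 14, 12, 20, 1, 4, 7, 6, 19, 11, 16, 9, 17, 10, 8, 23, 3, 15, 13]), (1, 102, 97)),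
   (([0, 16, 2, 19, 4, 5, 15, 10, 7, 8, 20, 3, 21, 23, 6, 18, 13, 14, 17, 12, 9, 11, 1, 22], [0, 22, 2, 11, 4, 5, 14, 8, 9, 20, 7, 21, 19, 16, 17, 6, 1, 18, 15, 3, 10, 12, 23, 13]), (1, 108, 97)),
   (([0, 16, 2, 8, 11, 5, 3, 6, 18, 1, 21, 19, 13, 10, 4, 9, 22, 17, 7, 20, 14, 23, 15, 12], [0, 9, 2, 6, 14, 5, 7, 18, 3, 15, 13, 4, 23, 12, 20, 22, 1, 17, 8, 11, 19, 10, 16, 21]), (1, 111, 97)),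
   (([0, 13, 2, 4, 17, 5, 1, 19, 9, 22, 3, 23, 6, 15, 7, 12, 20, 21, 18, 11, 8, 10, 16, 14], [0, 6, 2, 10, 3, 5, 12, 14, 20, 8, 21, 19, 15, 1, 23, 13, 22, 4, 18, 7, 16, 17, 9, 11]), (1, 105, 99)),
   (([0, 22, 2, 14, 9, 5, 18, 10, 20, 7, 4, 1, 17, 13, 16, 11, 21, 6, 12, 23, 8, 3, 15, 19], [0, 11, 2, 21, 10, 5, 17, 9, 20, 4, 7, 15, 18, 13, 3, 22, 14, 12, 6, 23, 8, 16, 1, 19]), (1, 113, 99)),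
   (([0, 3, 2, 1, 12, 5, 20, 7, 16, 21, 10, 18, 4, 22, 23, 15, 8, 17, 11, 19, 6, 9, 13, 14], [0, 3, 2, 1, 12, 5, 20, 7, 16, 21, 10, 18, 4, 22, 23, 15, 8, 17, 11, 19, 6, 9, 13, 14]), (1, 116, 99)),
   (([0, 11, 2, 10, 7, 5, 8, 21, 22, 20, 18, 3, 9, 14, 4, 15, 12, 23, 1, 16, 19, 13, 17, 6], [0, 18, 2, 11, 14, 5, 23, 4, 6, 12, 3, 1, 16, 21, 13, 15, 19, 22, 10, 20, 9, 7, 8, 17]), (1, 102, 108)),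
   (([0, 10, 2, 4, 21, 5, 9, 19, 18, 22, 20, 17, 16, 3, 11, 13, 15, 23, 1, 8, 7, 12, 14, 6], [0, 18, 2, 13, 3, 5, 23, 20, 19, 6, 1, 14, 21, 15, 22, 16, 12, 11, 8, 7, 10, 4, 9, 17]), (1, 108, 108)),
   (([0, 18, 2, 21, 1, 5, 17, 20, 6, 19, 3, 14, 13, 11, 16, 22, 12, 15, 9, 4, 10, 7, 8, 23], [0, 4, 2, 10, 19, 5, 8, 21, 22, 18, 20, 13, 16, 12, 11, 17, 14, 6, 1, 9, 7, 3, 15, 23]), (1, 97, 111)),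
   (([0, 9, 2, 23, 8, 5, 10, 4, 6, 15, 21, 1, 3, 16, 12, 13, 18, 7, 11, 14, 19, 17, 20, 22], [0, 11, 2, 12, 7, 5, 8, 17, 4, 1, 6, 18, 14, 15, 19, 9, 13, 21, 16, 20, 22, 10, 23, 3]), (1, 105, 111)),
   (([0, 4, 2, 18, 12, 5, 13, 22, 11, 8, 6, 15, 21, 7, 9, 14, 3, 19, 17, 16, 20, 23, 10, 1], [0, 23, 2, 16, 1, 5, 10, 13, 9, 14, 22, 8, 4, 6, 15, 11, 19, 18, 3, 17, 20, 12, 7, 21]), (1, 97, 113)),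
   (([0, 3, 2, 1, 6, 5, 21, 22, 10, 18, 9, 20, 11, 19, 14, 12, 4, 23, 8, 7, 15, 16, 13, 17], [0, 3, 2, 1, 16, 5, 4, 19, 18, 10, 8, 12, 15, 22, 14, 20, 21, 23, 9, 13, 11, 6, 7, 17]), (1, 97, 117)),
   (([0, 20, 2, 22, 8, 5, 7, 9, 12, 13, 18, 6, 16, 11, 15, 1, 17, 4, 23, 19, 21, 14, 10, 3], [0, 15, 2, 23, 17, 5, 11, 6, 4, 7, 22, 13, 8, 9, 21, 14, 12, 16, 10, 19, 1, 20, 3, 18]), (1, 97, 118)),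
   (([0, 12, 2, 21, 13, 5, 20, 17, 9, 15, 23, 8, 10, 18, 11, 14, 16, 3, 6, 1, 4, 22, 7, 19], [0, 19, 2, 17, 20, 5, 18, 22, 11, 8, 12, 14, 1, 4, 15, 9, 16, 7, 13, 23, 6, 3, 21, 10]), (1, 113, 125)),
   (([0, 4, 2, 9, 22, 5, 6, 17, 21, 15, 14, 16, 10, 11, 18, 23, 8, 1, 20, 3, 12, 13, 7, 19], [0, 17, 2, 19, 1, 5, 6, 22, 16, 3, 12, 13, 20, 21, 10, 9, 11, 7, 14, 23, 18, 8, 4, 15]), (1, 124, 132)),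
   (([0, 10, 2, 3, 20, 5, 21, 11, 19, 14, 17, 6, 8, 1, 16, 22, 23, 13, 12, 18, 4, 7, 15, 9], [0, 13, 2, 3, 20, 5, 11, 21, 12, 23, 1, 7, 18, 17, 9, 22, 14, 10, 19, 8, 4, 6, 15, 16]), (1, 113, 128)),
   (([0, 8, 2, 1, 11, 5, 6, 12, 13, 14, 23, 4, 18, 3, 21, 7, 17, 22, 15, 9, 16, 19, 20, 10], [0, 3, 2, 13, 11, 5, 6, 15, 1, 19, 23, 4, 7, 8, 9, 18, 20, 16, 12, 21, 22, 14, 17, 10]), (1, 97, 134)),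
   (([0, 17, 2, 6, 8, 5, 19, 22, 14, 4, 23, 13, 15, 10, 21, 7, 11, 9, 16, 12, 18, 1, 3, 20], [0, 21, 2, 22, 9, 5, 3, 15, 4, 17, 13, 16, 19, 11, 8, 12, 18, 1, 20, 6, 23, 14, 7, 10]), (1, 99, 128)),
   (([0, 16, 2, 23, 19, 5, 1, 17, 3, 22, 9, 4, 11, 7, 15, 20, 12, 21, 14, 6, 8, 10, 13, 18], [0, 6, 2, 8, 11, 5, 19, 13, 20, 10, 21, 12, 16, 22, 18, 14, 1, 7, 23, 4, 15, 17, 9, 3]), (2, 113, 0)),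
   (([0, 21, 2, 1, 3, 5, 6, 13, 15, 19, 18, 7, 20, 9, 10, 17, 4, 22, 12, 11, 14, 16, 23, 8], [0, 3, 2, 4, 16, 5, 6, 11, 23, 13, 14, 19, 18, 7, 20, 8, 21, 15, 10, 9, 12, 1, 17, 22]), (1, 137, 136)),
   (([0, 10, 2, 11, 12, 5, 7, 16, 1, 18, 22, 9, 15, 17, 4, 19, 13, 6, 20, 14, 3, 8, 21, 23], [0, 8, 2, 20, 14, 5, 17, 6, 21, 11, 1, 3, 4, 16, 19, 12, 7, 13, 9, 15, 18, 22, 10, 23]), (1, 102, 120)),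
   (([0, 15, 2, 23, 17, 5, 11, 6, 4, 7, 22, 13, 8, 9, 21, 14, 12, 16, 10, 19, 1, 20, 3, 18], [0, 20, 2, 22, 8, 5, 7, 9, 12, 13, 18, 6, 16, 11, 15, 1, 17, 4, 23, 19, 21, 14, 10, 3]), (2, 131, 0)),
   (([0, 22, 2, 13, 8, 5, 6, 12, 15, 10, 3, 7, 14, 16, 17, 19, 9, 11, 1, 21, 23, 4, 20, 18], [0, 18, 2, 10, 21, 5, 6, 11, 4, 16, 9, 17, 7, 3, 12, 8, 13, 14, 23, 15, 22, 19, 1, 20]), (1, 140, 139)),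
   (([0, 7, 2, 22, 1, 5, 13, 18, 17, 20, 15, 6, 14, 4, 9, 21, 3, 23, 11, 16, 8, 19, 10, 12], [0, 4, 2, 16, 13, 5, 11, 1, 20, 14, 22, 18, 23, 6, 12, 10, 19, 8, 7, 21, 9, 15, 3, 17]), (1, 99, 122)),
   (([0, 23, 2, 16, 1, 5, 10, 13, 9, 14, 22, 8, 4, 6, 15, 11, 19, 18, 3, 17, 20, 12, 7, 21], [0, 4, 2, 18, 12, 5, 13, 22, 11, 8, 6, 15, 21, 7, 9, 14, 3, 19, 17, 16, 20, 23, 10, 1]), (2, 129, 0)),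
   (([0, 13, 2, 7, 23, 5, 6, 3, 18, 20, 11, 10, 15, 1, 14, 12, 16, 21, 8, 19, 9, 17, 22, 4], [0, 13, 2, 7, 23, 5, 6, 3, 18, 20, 11, 10, 15, 1, 14, 12, 16, 21, 8, 19, 9, 17, 22, 4]), (1, 143, 142)),
   (([0, 1, 2, 3, 15, 5, 11, 19, 21, 6, 8, 9, 16, 7, 17, 20, 18, 23, 12, 13, 4, 10, 22, 14], [0, 1, 2, 3, 20, 5, 9, 13, 10, 11, 21, 6, 18, 19, 23, 4, 12, 14, 16, 7, 15, 8, 22, 17]), (1, 97, 124)),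
   (([0, 7, 2, 12, 16, 5, 14, 18, 10, 11, 19, 6, 13, 21, 23, 4, 3, 9, 20, 1, 8, 15, 17, 22], [0, 19, 2, 16, 15, 5, 11, 1, 20, 17, 8, 9, 3, 12, 6, 21, 4, 22, 7, 10, 18, 13, 23, 14]), (2, 108, 0)),
   (([0, 7, 2, 12, 4, 5, 6, 1, 15, 14, 10, 11, 3, 18, 9, 8, 20, 22, 13, 21, 16, 19, 17, 23], [0, 7, 2, 12, 4, 5, 6, 1, 15, 14, 10, 11, 3, 18, 9, 8, 20, 22, 13, 21, 16, 19, 17, 23]), (1, 146, 145)),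
   (([0, 8, 2, 6, 19, 5, 17, 9, 21, 23, 10, 15, 12, 4, 18, 16, 11, 3, 20, 13, 14, 1, 22, 7], [0, 21, 2, 17, 13, 5, 3, 23, 1, 7, 10, 16, 12, 19, 20, 11, 15, 6, 14, 4, 18, 8, 22, 9]), (1, 113, 130)),
   (([0, 4, 2, 10, 19, 5, 8, 21, 22, 18, 20, 13, 16, 12, 11, 17, 14, 6, 1, 9, 7, 3, 15, 23], [0, 18, 2, 21, 1, 5, 17, 20, 6, 19, 3, 14, 13, 11, 16, 22, 12, 15, 9, 4, 10, 7, 8, 23]), (2, 127, 0)),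
   (([0, 22, 2, 8, 9, 5, 6, 18, 3, 23, 20, 17, 16, 19, 1, 14, 13, 10, 7, 12, 11, 4, 15, 21], [0, 14, 2, 8, 21, 5, 6, 18, 3, 4, 17, 20, 19, 16, 15, 22, 12, 11, 7, 13, 10, 23, 1, 9]), (1, 149, 148)),
   (([0, 12, 2, 15, 22, 5, 19, 10, 17, 23, 16, 14, 11, 21, 1, 3, 18, 13, 7, 9, 20, 8, 4, 6], [0, 14, 2, 15, 22, 5, 23, 18, 21, 19, 7, 12, 1, 17, 11, 3, 10, 8, 16, 6, 20, 13, 4, 9]), (1, 108, 122)),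
   (([0, 11, 2, 20, 13, 5, 6, 9, 21, 18, 12, 15, 4, 10, 16, 23, 14, 7, 17, 22, 8, 3, 19, 1], [0, 23, 2, 21, 12, 5, 6, 17, 20, 7, 13, 1, 10, 4, 16, 11, 14, 18, 9, 22, 3, 8, 19, 15]), (1, 137, 151)),
   (([0, 11, 2, 14, 20, 5, 6, 22, 19, 7, 21, 17, 23, 4, 15, 10, 13, 8, 16, 1, 18, 3, 12, 9], [0, 19, 2, 21, 13, 5, 6, 9, 17, 23, 15, 1, 22, 16, 3, 14, 18, 11, 20, 8, 4, 10, 7, 12]), (1, 135, 133)),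
   (([0, 3, 2, 19, 23, 5, 6, 22, 16, 17, 10, 4, 18, 7, 12, 8, 15, 21, 14, 1, 20, 9, 13, 11], [0, 19, 2, 1, 11, 5, 6, 13, 15, 21, 10, 23, 14, 22, 18, 16, 8, 9, 12, 3, 20, 17, 7, 4]), (1, 138, 133)),
   (([0, 23, 2, 20, 22, 5, 6, 21, 17, 12, 14, 16, 11, 10, 8, 4, 18, 13, 9, 7, 15, 1, 3, 19], [0, 21, 2, 22, 15, 5, 6, 19, 14, 18, 13, 12, 9, 17, 10, 20, 11, 8, 16, 23, 3, 7, 4, 1]), (1, 144, 133)),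
   (([0, 4, 2, 14, 17, 5, 6, 22, 19, 8, 9, 20, 10, 11, 13, 23, 15, 7, 16, 12, 3, 18, 1, 21], [0, 22, 2, 20, 1, 5, 6, 17, 9, 10, 12, 13, 19, 14, 3, 16, 18, 4, 21, 8, 11, 23, 7, 15]), (1, 147, 133)),
   (([0, 13, 2, 8, 4, 5, 6, 18, 3, 21, 10, 11, 15, 1, 19, 12, 22, 20, 7, 14, 17, 9, 16, 23], [0, 13, 2, 8, 4, 5, 6, 18, 3, 21, 10, 11, 15, 1, 19, 12, 22, 20, 7, 14, 17, 9, 16, 23]), (1, 135, 135)),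
   (([0, 3, 2, 22, 17, 5, 6, 16, 19, 1, 21, 9, 7, 8, 4, 18, 10, 15, 14, 23, 13, 12, 11, 20], [0, 9, 2, 1, 14, 5, 6, 12, 13, 11, 16, 22, 21, 20, 18, 17, 7, 4, 15, 8, 23, 10, 3, 19]), (1, 150, 135)),
   (([0, 21, 2, 11, 15, 5, 6, 4, 10, 16, 1, 13, 17, 20, 3, 9, 7, 19, 23, 18, 14, 22, 8, 12], [0, 10, 2, 14, 7, 5, 6, 16, 22, 15, 8, 3, 23, 11, 20, 4, 9, 12, 19, 17, 13, 1, 21, 18]), (1, 152, 135)),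
   (([0, 13, 2, 4, 9, 5, 6, 11, 23, 3, 20, 17, 12, 15, 14, 1, 22, 7, 10, 16, 18, 8, 19, 21], [0, 15, 2, 9, 3, 5, 6, 17, 21, 4, 18, 7, 12, 1, 14, 13, 19, 11, 20, 22, 10, 23, 16, 8]), (1, 133, 138)),
   (([0, 16, 2, 21, 1, 5, 6, 9, 17, 11, 12, 13, 14, 19, 18, 22, 3, 23, 20, 7, 10, 4, 8, 15], [0, 4, 2, 16, 21, 5, 6, 19, 22, 7, 20, 9, 10, 11, 12, 23, 1, 8, 14, 13, 18, 3, 15, 17]), (1, 138, 138)),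
   (([0, 3, 2, 11, 20, 5, 6, 10, 23, 22, 17, 9, 8, 18, 12, 7, 13, 19, 4, 15, 16, 14, 1, 21], [0, 22, 2, 1, 18, 5, 6, 15, 12, 11, 7, 3, 14, 16, 21, 19, 20, 10, 13, 17, 4, 23, 9, 8]), (1, 152, 138)),
   (([0, 22, 2, 18, 20, 5, 6, 8, 7, 4, 9, 21, 16, 19, 13, 14, 1, 11, 3, 15, 10, 23, 12, 17], [0, 16, 2, 18, 9, 5, 6, 8, 7, 10, 20, 17, 22, 14, 15, 19, 12, 23, 3, 13, 4, 11, 1, 21]), (1, 144, 150)),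
   (([0, 11, 2, 16, 18, 5, 6, 14, 19, 13, 3, 8, 4, 10, 20, 23, 9, 1, 22, 17, 15, 12, 21, 7], [0, 17, 2, 10, 12, 5, 6, 23, 11, 16, 13, 1, 21, 9, 7, 20, 3, 19, 4, 8, 14, 22, 18, 15]), (1, 147, 152)),
   (([0, 13, 2, 16, 7, 5, 6, 19, 22, 21, 18, 8, 12, 15, 10, 1, 23, 9, 14, 4, 20, 17, 11, 3], [0, 15, 2, 23, 19, 5, 6, 4, 11, 17, 14, 22, 12, 1, 18, 13, 3, 21, 10, 7, 20, 9, 8, 16]), (1, 152, 156)),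
   (([0, 1, 2, 22, 18, 5, 6, 14, 16, 9, 7, 3, 15, 12, 10, 13, 23, 21, 19, 4, 17, 20, 11, 8], [0, 1, 2, 11, 19, 5, 6, 10, 23, 9, 14, 22, 13, 15, 7, 12, 8, 20, 4, 18, 21, 17, 3, 16]), (1, 157, 165)),
   (([0, 1, 2, 11, 8, 5, 6, 23, 4, 22, 18, 3, 12, 13, 20, 15, 17, 16, 10, 21, 14, 19, 9, 7], [0, 1, 2, 11, 8, 5, 6, 23, 4, 22, 18, 3, 12, 13, 20, 15, 17, 16, 10, 21, 14, 19, 9, 7]), (1, 138, 154)),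
   (([0, 22, 2, 1, 18, 5, 6, 15, 12, 11, 7, 3, 14, 16, 21, 19, 20, 10, 13, 17, 4, 23, 9, 8], [0, 3, 2, 11, 20, 5, 6, 10, 23, 22, 17, 9, 8, 18, 12, 7, 13, 19, 4, 15, 16, 14, 1, 21]), (2, 162, 0)),
   (([0, 22, 2, 3, 12, 5, 6, 8, 18, 9, 13, 1, 14, 16, 4, 19, 10, 20, 7, 23, 21, 17, 11, 15], [0, 11, 2, 3, 14, 5, 6, 18, 7, 9, 16, 22, 4, 10, 12, 23, 13, 21, 8, 15, 17, 20, 1, 19]), (1, 168, 167)),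
   (([0, 19, 2, 7, 12, 5, 6, 18, 8, 21, 13, 1, 16, 14, 10, 22, 4, 17, 3, 11, 9, 20, 23, 15], [0, 11, 2, 18, 16, 5, 6, 3, 8, 20, 14, 19, 4, 10, 13, 23, 12, 17, 7, 1, 21, 9, 15, 22]), (1, 147, 138)),
   (([0, 14, 2, 18, 15, 5, 6, 7, 3, 9, 1, 13, 22, 19, 10, 16, 4, 20, 8, 11, 21, 17, 23, 12], [0, 10, 2, 8, 16, 5, 6, 7, 18, 9, 14, 19, 23, 11, 1, 4, 15, 21, 3, 13, 17, 20, 12, 22]), (1, 157, 170)),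
   (([0, 15, 2, 22, 7, 5, 6, 14, 16, 17, 18, 8, 1, 13, 4, 12, 11, 20, 19, 10, 9, 21, 23, 3], [0, 12, 2, 23, 14, 5, 6, 4, 11, 20, 19, 16, 15, 13, 7, 1, 8, 9, 10, 18, 17, 21, 3, 22]), (1, 141, 135)),
   (([0, 19, 2, 1, 11, 5, 6, 13, 15, 21, 10, 23, 14, 22, 18, 16, 8, 9, 12, 3, 20, 17, 7, 4], [0, 3, 2, 19, 23, 5, 6, 22, 16, 17, 10, 4, 18, 7, 12, 8, 15, 21, 14, 1, 20, 9, 13, 11]), (2, 154, 0)),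
   (([0, 16, 2, 7, 13, 5, 6, 18, 8, 9, 12, 15, 19, 22, 11, 14, 23, 20, 3, 10, 21, 17, 4, 1], [0, 23, 2, 18, 22, 5, 6, 3, 8, 9, 19, 14, 10, 4, 15, 11, 1, 21, 7, 12, 17, 20, 13, 16]), (1, 173, 172)),
   (([0, 7, 2, 9, 1, 5, 6, 17, 21, 16, 13, 15, 8, 3, 23, 18, 10, 22, 20, 11, 19, 14, 4, 12], [0, 4, 2, 13, 22, 5, 6, 1, 12, 3, 16, 19, 23, 10, 21, 11, 9, 7, 15, 20, 18, 8, 17, 14]), (1, 141, 164)),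
   (([0, 10, 2, 14, 7, 5, 6, 16, 22, 15, 8, 3, 23, 11, 20, 4, 9, 12, 19, 17, 13, 1, 21, 18], [0, 21, 2, 11, 15, 5, 6, 4, 10, 16, 1, 13, 17, 20, 3, 9, 7, 19, 23, 18, 14, 22, 8, 12]), (2, 159, 0)),
   (([0, 16, 2, 15, 10, 5, 6, 12, 1, 9, 11, 4, 22, 14, 18, 19, 8, 21, 13, 3, 17, 20, 7, 23], [0, 8, 2, 19, 11, 5, 6, 22, 16, 9, 4, 10, 7, 18, 13, 3, 1, 20, 14, 15, 21, 17, 12, 23]), (1, 176, 175)),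
   (([0, 9, 2, 7, 1, 5, 6, 8, 3, 4, 13, 15, 17, 21, 22, 20, 14, 23, 18, 19, 11, 10, 16, 12], [0, 4, 2, 8, 9, 5, 6, 3, 7, 1, 21, 20, 23, 10, 16, 11, 22, 12, 18, 19, 15, 13, 14, 17]), (1, 133, 158)),
   (([0, 16, 2, 18, 9, 5, 6, 8, 7, 10, 20, 17, 22, 14, 15, 19, 12, 23, 3, 13, 4, 11, 1, 21], [0, 22, 2, 18, 20, 5, 6, 8, 7, 4, 9, 21, 16, 19, 13, 14, 1, 11, 3, 15, 10, 23, 12, 17]), (2, 163, 0)),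
   (([0, 10, 2, 8, 16, 5, 6, 7, 18, 9, 14, 19, 23, 11, 1, 4, 15, 21, 3, 13, 17, 20, 12, 22], [0, 14, 2, 18, 15, 5, 6, 7, 3, 9, 1, 13, 22, 19, 10, 16, 4, 20, 8, 11, 21, 17, 23, 12]), (1, 179, 178)),
   (([0, 9, 2, 23, 15, 5, 6, 10, 4, 14, 1, 13, 20, 17, 7, 21, 3, 22, 11, 8, 16, 19, 18, 12], [0, 10, 2, 16, 8, 5, 6, 14, 19, 1, 7, 18, 23, 11, 9, 4, 20, 13, 22, 21, 12, 15, 17, 3]), (1, 150, 133)),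
   (([0, 3, 2, 13, 11, 5, 6, 15, 1, 19, 23, 4, 7, 8, 9, 18, 20, 16, 12, 21, 22, 14, 17, 10], [0, 8, 2, 1, 11, 5, 6, 12, 13, 14, 23, 4, 18, 3, 21, 7, 17, 22, 15, 9, 16, 19, 20, 10]), (2, 135, 0)),
   (([0, 19, 2, 10, 18, 5, 6, 23, 11, 9, 3, 8, 22, 16, 15, 14, 13, 17, 4, 1, 20, 21, 12, 7], [0, 19, 2, 10, 18, 5, 6, 23, 11, 9, 3, 8, 22, 16, 15, 14, 13, 17, 4, 1, 20, 21, 12, 7]), (1, 182, 181)),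
   (([0, 19, 2, 10, 21, 5, 6, 4, 23, 12, 20, 9, 16, 14, 7, 22, 18, 15, 11, 3, 1, 13, 8, 17], [0, 20, 2, 19, 7, 5, 6, 14, 22, 11, 3, 18, 9, 21, 13, 17, 12, 23, 16, 1, 10, 4, 15, 8]), (1, 152, 141)),
   (([0, 21, 2, 22, 15, 5, 6, 19, 14, 18, 13, 12, 9, 17, 10, 20, 11, 8, 16, 23, 3, 7, 4, 1], [0, 23, 2, 20, 22, 5, 6, 21, 17, 12, 14, 16, 11, 10, 8, 4, 18, 13, 9, 7, 15, 1, 3, 19]), (2, 155, 0)),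
   (([0, 23, 2, 13, 7, 5, 6, 15, 1, 9, 3, 18, 11, 10, 19, 4, 16, 20, 12, 22, 21, 17, 14, 8], [0, 8, 2, 10, 15, 5, 6, 4, 23, 9, 13, 12, 18, 3, 22, 7, 16, 21, 11, 14, 17, 20, 19, 1]), (1, 185, 184)),
   (([0, 11, 2, 22, 15, 5, 6, 16, 19, 9, 12, 1, 10, 23, 18, 4, 7, 17, 14, 8, 20, 21, 3, 13], [0, 11, 2, 22, 15, 5, 6, 16, 19, 9, 12, 1, 10, 23, 18, 4, 7, 17, 14, 8, 20, 21, 3, 13]), (1, 166, 169)),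
   (([0, 7, 2, 15, 22, 5, 6, 1, 13, 9, 14, 16, 18, 8, 10, 3, 11, 17, 12, 23, 20, 21, 4, 19], [0, 7, 2, 15, 22, 5, 6, 1, 13, 9, 14, 16, 18, 8, 10, 3, 11, 17, 12, 23, 20, 21, 4, 19]), (1, 177, 169)),
   (([0, 12, 2, 8, 23, 5, 6, 18, 3, 9, 11, 10, 1, 15, 16, 13, 14, 17, 7, 22, 20, 21, 19, 4], [0, 12, 2, 8, 23, 5, 6, 18, 3, 9, 11, 10, 1, 15, 16, 13, 14, 17, 7, 22, 20, 21, 19, 4]), (1, 180, 169)),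
   (([0, 18, 2, 13, 19, 5, 6, 12, 15, 9, 16, 14, 7, 3, 11, 8, 10, 17, 1, 4, 20, 21, 23, 22], [0, 18, 2, 13, 19, 5, 6, 12, 15, 9, 16, 14, 7, 3, 11, 8, 10, 17, 1, 4, 20, 21, 23, 22]), (1, 177, 171)),
   (([0, 8, 2, 12, 14, 5, 6, 13, 1, 9, 22, 19, 3, 7, 4, 18, 23, 17, 15, 11, 20, 21, 10, 16], [0, 8, 2, 12, 14, 5, 6, 13, 1, 9, 22, 19, 3, 7, 4, 18, 23, 17, 15, 11, 20, 21, 10, 16]), (1, 177, 174)),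
   (([0, 14, 2, 13, 11, 5, 6, 1, 12, 9, 10, 23, 19, 16, 7, 22, 3, 21, 15, 8, 17, 20, 18, 4], [0, 7, 2, 16, 23, 5, 6, 14, 19, 9, 10, 4, 8, 3, 1, 18, 13, 20, 22, 12, 21, 17, 15, 11]), (1, 166, 188)),
   (([0, 1, 2, 11, 19, 5, 6, 10, 23, 9, 14, 22, 13, 15, 7, 12, 8, 20, 4, 18, 21, 17, 3, 16], [0, 1, 2, 22, 18, 5, 6, 14, 16, 9, 7, 3, 15, 12, 10, 13, 23, 21, 19, 4, 17, 20, 11, 8]), (1, 180, 192)),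
   (([0, 22, 2, 11, 7, 5, 6, 4, 10, 9, 8, 3, 19, 14, 13, 16, 15, 17, 23, 12, 20, 21, 1, 18], [0, 22, 2, 11, 7, 5, 6, 4, 10, 9, 8, 3, 19, 14, 13, 16, 15, 17, 23, 12, 20, 21, 1, 18]), (1, 169, 166)),
   (([0, 14, 2, 23, 8, 5, 6, 10, 4, 9, 7, 18, 16, 22, 1, 19, 12, 17, 11, 15, 20, 21, 13, 3], [0, 14, 2, 23, 8, 5, 6, 10, 4, 9, 7, 18, 16, 22, 1, 19, 12, 17, 11, 15, 20, 21, 13, 3]), (1, 171, 166)),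
   (([0, 16, 2, 4, 3, 5, 6, 11, 23, 9, 18, 7, 14, 19, 12, 22, 1, 17, 10, 13, 20, 21, 15, 8], [0, 16, 2, 4, 3, 5, 6, 11, 23, 9, 18, 7, 14, 19, 12, 22, 1, 17, 10, 13, 20, 21, 15, 8]), (1, 174, 166)),
   (([0, 23, 2, 14, 12, 5, 6, 19, 16, 9, 15, 13, 4, 11, 3, 10, 8, 17, 22, 7, 20, 21, 18, 1], [0, 23, 2, 14, 12, 5, 6, 19, 16, 9, 15, 13, 4, 11, 3, 10, 8, 17, 22, 7, 20, 21, 18, 1]), (1, 186, 166)),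
   (([0, 10, 2, 19, 13, 5, 6, 14, 22, 9, 1, 12, 11, 4, 7, 23, 18, 17, 16, 3, 20, 21, 8, 15], [0, 10, 2, 19, 13, 5, 6, 14, 22, 9, 1, 12, 11, 4, 7, 23, 18, 17, 16, 3, 20, 21, 8, 15]), (1, 166, 171)),
   (([0, 15, 2, 7, 11, 5, 6, 3, 18, 9, 23, 4, 13, 12, 19, 1, 22, 17, 8, 14, 20, 21, 16, 10], [0, 15, 2, 7, 11, 5, 6, 3, 18, 9, 23, 4, 13, 12, 19, 1, 22, 17, 8, 14, 20, 21, 16, 10]), (1, 180, 174)),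
   (([0, 4, 2, 16, 1, 5, 6, 22, 14, 9, 13, 15, 23, 10, 8, 11, 3, 17, 19, 18, 20, 21, 7, 12], [0, 4, 2, 16, 1, 5, 6, 22, 14, 9, 13, 15, 23, 10, 8, 11, 3, 17, 19, 18, 20, 21, 7, 12]), (1, 171, 177)),
   (([0, 13, 2, 18, 10, 5, 6, 8, 7, 9, 4, 23, 15, 1, 22, 12, 19, 17, 3, 16, 20, 21, 14, 11], [0, 13, 2, 18, 10, 5, 6, 8, 7, 9, 4, 23, 15, 1, 22, 12, 19, 17, 3, 16, 20, 21, 14, 11]), (1, 169, 180)),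
   (([0, 3, 2, 1, 16, 5, 6, 15, 12, 9, 19, 22, 8, 18, 23, 7, 4, 17, 13, 10, 20, 21, 11, 14], [0, 3, 2, 1, 16, 5, 6, 15, 12, 9, 19, 22, 8, 18, 23, 7, 4, 17, 13, 10, 20, 21, 11, 14]), (1, 186, 180))]

theorem nodes_ok : slpOK nodes = true := by decide +kernel

/-- witnesses of level 1 -/
def row1 : List ℕ := [3, 0, 4, 7, 12, 18, 9, 15, 22, 24, 23, 8, 14, 20, 10, 13, 19, 16, 6, 11, 17, 21, 5, 1]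

theorem row1_ok : lvlOK nodes false 0 0 16777215 row1 = true := by decide +kernel

/-- witnesses of level 2 -/
def row2 : List ℕ := [0, 44, 3, 61, 51, 36, 52, 48, 55, 49, 62, 53, 47, 58, 30, 59, 54, 33, 27, 56, 60, 57, 39, 50]

theorem row2_ok : lvlOK nodes false 1 2 16777214 row2 = true := by decide +kernel

/-- witnesses of level 3 -/
def row3 : List ℕ := [0, 93, 0, 94, 88, 3, 66, 90, 92, 86, 85, 81, 84, 71, 91, 79, 69, 87, 80, 83, 64, 82, 74, 89]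

theorem row3_ok : lvlOK nodes false 5 5 16777210 row3 = true := by decide +kernel

/-- witnesses of level 4 -/
def row4 : List ℕ := [0, 122, 0, 121, 97, 0, 3, 131, 125, 126, 128, 108, 119, 129, 99, 120, 117, 127, 123, 113, 124, 130, 118, 111]

theorem row4_ok : lvlOK nodes false 37 6 16777178 row4 = true := by decide +kernel

/-- witnesses of level 5 -/
def row5 : List ℕ := [0, 158, 0, 160, 163, 0, 0, 153, 156, 3, 141, 161, 155, 164, 135, 133, 159, 154, 152, 138, 144, 157, 162, 150]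

theorem row5_ok : lvlOK nodes false 101 9 16777114 row5 = true := by decide +kernel

/-- witnesses of level 6 -/
def row6 : List ℕ := [0, 3, 0, 202, 200, 0, 0, 188, 191, 0, 198, 187, 189, 201, 195, 199, 196, 0, 190, 183, 0, 0, 194, 197]

theorem row6_ok : lvlOK nodes true 3277413 1 13499802 row6 = true := by decide +kernel

/-- witnesses of level 7 -/
def row7 : List ℕ := [0, 0, 0, 0, 0, 0, 0, 0, 0, 0, 0, 0, 0, 0, 0, 0, 0, 3, 0, 0, 193, 166, 0, 0]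

theorem row7_ok : lvlOK nodes false 615 17 3276800 row7 = true := by decide +kernel


theorem sub_compl {F b tgt : ℕ} (hb : b < 24) (hFb : F.testBit b = false)
    (hdec : ∀ z : Fin 24, F.testBit z.val = false → tgt.testBit z.val = true) :
    ∀ g ∈ stabM F, tgt.testBit (idx (g (ptN b))) = true := by
  intro g hg
  have h := not_fix_image hg.2 (ptN b) (by rw [idx_ptN' b hb]; exact hFb)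
  exact hdec ⟨idx (g (ptN b)), idx_lt _⟩ h

theorem sub_oct {F b tgt k : ℕ} (hb : b < 24) (hFb : F.testBit b = false)
    (hk : popc (M k) = 8) (h5 : 5 ≤ popc (M k &&& F))
    (hdec : ∀ z : Fin 24, F.testBit z.val = false →
      (M k).testBit z.val = (M k).testBit b → tgt.testBit z.val = true) :
    ∀ g ∈ stabM F, tgt.testBit (idx (g (ptN b))) = true := by
  intro g hg
  have h := not_fix_image hg.2 (ptN b) (by rw [idx_ptN' b hb]; exact hFb)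
  have hp := presv hg.1 hg.2 k hk h5
  have hm := mem_of_presv hp (ptN b)
  rw [mem_fsOf, mem_fsOf, idx_ptN' b hb] at hm
  exact hdec ⟨_, idx_lt _⟩ h (Bool.eq_iff_iff.mpr hm)

theorem FixM_mono {F F' : ℕ} (h : ∀ z : Fin 24, F.testBit z.val = true → F'.testBit z.val = true)
    {g : Equiv.Perm GolayPt} (hg : FixM F' g) : FixM F g :=
  fun j hj hbit => hg j hj (h ⟨j, hj⟩ hbit)

theorem sup_of_row {inv : Bool} {F F' b tgt : ℕ} {row : List ℕ} (hb : b < 24)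
    (hl : lvlOK nodes inv F' b tgt row = true)
    (h : ∀ z : Fin 24, F.testBit z.val = true → F'.testBit z.val = true) :
    ∀ z < 24, tgt.testBit z = true → ∃ g ∈ C3, FixM F g ∧ g (ptN b) = ptN z := by
  intro z hz hbit
  obtain ⟨g, hg, hF, hgb, -⟩ := lvl_sound nodes_ok hb hl z hz hbit
  exact ⟨g, hg, FixM_mono h hF, hgb⟩

theorem lvl1 : Lvl 0 0 16777215 :=
  ⟨by norm_num, by norm_num, sub_compl (by norm_num) (by decide) (by decide),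
    sup_of_row (by norm_num) row1_ok (by decide)⟩

theorem lvl2 : Lvl 1 2 16777214 :=
  ⟨by norm_num, by norm_num, sub_compl (by norm_num) (by decide) (by decide),
    sup_of_row (by norm_num) row2_ok (by decide)⟩

theorem lvl3 : Lvl 5 5 16777210 :=
  ⟨by norm_num, by norm_num, sub_compl (by norm_num) (by decide) (by decide),
    sup_of_row (by norm_num) row3_ok (by decide)⟩

theorem lvl4 : Lvl 37 6 16777178 :=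
  ⟨by norm_num, by norm_num, sub_compl (by norm_num) (by decide) (by decide),
    sup_of_row (by norm_num) row4_ok (by decide)⟩

theorem lvl5 : Lvl 101 9 16777114 :=
  ⟨by norm_num, by norm_num, sub_compl (by norm_num) (by decide) (by decide),
    sup_of_row (by norm_num) row5_ok (by decide)⟩

theorem lvl6 : Lvl 613 1 13499802 :=
  ⟨by norm_num, by norm_num, sub_oct (k := 15) (by norm_num) (by decide) (by decide +kernel) (by decide +kernel) (by decide +kernel),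
    sup_of_row (by norm_num) row6_ok (by decide)⟩

theorem lvl7 : Lvl 615 17 3276800 :=
  ⟨by norm_num, by norm_num, sub_oct (k := 15) (by norm_num) (by decide) (by decide +kernel) (by decide +kernel) (by decide +kernel),
    sup_of_row (by norm_num) row7_ok (by decide)⟩


/-- steps of the fixed-point propagation -/
def steps : List (ℕ × ℕ × ℕ) := [(15, 41, 67), (20, 15, 212), (21, 15, 15), (19, 38, 471), (14, 38, 38), (16, 67, 134), (22, 67, 67), (13, 534, 534), (12, 280, 280), (18, 19, 134), (4, 19, 19), (10, 134, 134), (11, 35, 35), (3, 1029, 1029), (7, 30, 30), (8, 47, 47), (23, 2073, 2073)]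

theorem steps_ok : propChk steps 131687 = true := by decide +kernel

theorem stab7 : stabM 131687 = ⊥ := by
  rw [eq_bot_iff]
  intro g hg
  rw [Subgroup.mem_bot]
  exact prop_sound hg.1 steps 131687 steps_ok hg.2

theorem card_stab7 : Nat.card (stabM 131687) = 1 := by
  rw [stab7]
  exact Subgroup.card_bot

theorem cnt1 : Nat.card (stabM 0) = 24 * Nat.card (stabM 1) := by
  have h := lvl1.count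
  rw [show popc 16777215 = 24 from by decide, show ((0 : ℕ) ||| 2 ^ 0) = 1 from by decide] at h
  exact h

theorem cnt2 : Nat.card (stabM 1) = 23 * Nat.card (stabM 5) := by
  have h := lvl2.count
  rw [show popc 16777214 = 23 from by decide, show ((1 : ℕ) ||| 2 ^ 2) = 5 from by decide] at h
  exact h

theorem cnt3 : Nat.card (stabM 5) = 22 * Nat.card (stabM 37) := by
  have h := lvl3.count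
  rw [show popc 16777210 = 22 from by decide, show ((5 : ℕ) ||| 2 ^ 5) = 37 from by decide] at h
  exact h

theorem cnt4 : Nat.card (stabM 37) = 21 * Nat.card (stabM 101) := by
  have h := lvl4.count
  rw [show popc 16777178 = 21 from by decide, show ((37 : ℕ) ||| 2 ^ 6) = 101 from by decide] at h
  exact h

theorem cnt5 : Nat.card (stabM 101) = 20 * Nat.card (stabM 613) := by
  have h := lvl5.count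
  rw [show popc 16777114 = 20 from by decide, show ((101 : ℕ) ||| 2 ^ 9) = 613 from by decide] at h
  exact h

theorem cnt6 : Nat.card (stabM 613) = 16 * Nat.card (stabM 615) := by
  have h := lvl6.count
  rw [show popc 13499802 = 16 from by decide, show ((613 : ℕ) ||| 2 ^ 1) = 615 from by decide] at h
  exact h

theorem cnt7 : Nat.card (stabM 615) = 3 * Nat.card (stabM 131687) := by
  have h := lvl7.count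
  rw [show popc 3276800 = 3 from by decide, show ((615 : ℕ) ||| 2 ^ 17) = 131687 from by decide] at h
  exact h


theorem card_M24 : Nat.card M24 = 244823040 := by
  rw [← stabM_zero, cnt1, cnt2, cnt3, cnt4, cnt5, cnt6, cnt7, card_stab7]

theorem M24_le_C3 : M24 ≤ C3 := by
  rw [← stabM_zero]
  apply lvl1.gen
  rw [show ((0 : ℕ) ||| 2 ^ 0) = 1 from by decide]
  apply lvl2.gen
  rw [show ((1 : ℕ) ||| 2 ^ 2) = 5 from by decide]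
  apply lvl3.gen
  rw [show ((5 : ℕ) ||| 2 ^ 5) = 37 from by decide]
  apply lvl4.gen
  rw [show ((37 : ℕ) ||| 2 ^ 6) = 101 from by decide]
  apply lvl5.gen
  rw [show ((101 : ℕ) ||| 2 ^ 9) = 613 from by decide]
  apply lvl6.gen
  rw [show ((613 : ℕ) ||| 2 ^ 1) = 615 from by decide]
  apply lvl7.gen
  rw [show ((615 : ℕ) ||| 2 ^ 17) = 131687 from by decide, stab7]
  exact bot_le

theorem C3_eq : C3 = M24 := le_antisymm C3_le M24_le_C3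

end Cfsg.Agent.Lib_lead_M24ChainData
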