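import Mathlib
import Cfsg.Agent.Lib_lead_M24Chain

/-! A point stabilizer is a maximal subgroup when no union of its orbits has a size dividing the
degree. -/

set_option autoImplicit false

namespace Cfsg.Agent.Lib_lead_Coatom

open Cfsg.Agent.Lib_lead_M24Chain

theorem coatom_of_orbits {G α : Type*} [Group G] [Finite G] [MulAction G α] [Fintype α]
    [DecidableEq α] (a : α) {r : ℕ} (Cl : Fin r → Finset α) (m : Fin r → ℕ)
    (hm : ∀ j, (Cl j).card = m j)
    (hcover : ∀ x, x ∈ MulAction.orbit G a → x ≠ a → ∃ j, x ∈ Cl j)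
    (hsub : ∀ j, ∀ x ∈ Cl j, x ∈ MulAction.orbit G a ∧ x ≠ a)
    (hdisj : ∀ i j, i ≠ j → Disjoint (Cl i) (Cl j))
    (htrans : ∀ j, ∀ x ∈ Cl j, ∀ y ∈ Cl j, ∃ s ∈ MulAction.stabilizer G a, s • x = y)
    (hdiv : ∀ J : Finset (Fin r), (1 + ∑ j ∈ J, m j) ∣ (1 + ∑ j, m j) →
      J = ∅ ∨ J = Finset.univ)
    (hpos : 0 < ∑ j, m j) : IsCoatom (MulAction.stabilizer G a) := by
  classical
  have hcardU : ∀ J : Finset (Fin r), (insert a (J.biUnion Cl)).card = 1 + ∑ j ∈ J, m j := by
    intro J
    rw [Finset.card_insert_of_notMem, Finset.card_biUnion, add_comm]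
    · congr 1
      exact Finset.sum_congr rfl (fun j _ => hm j)
    · intro i _ j _ hij
      exact hdisj i j hij
    · intro hmem
      rw [Finset.mem_biUnion] at hmem
      obtain ⟨j, -, hj⟩ := hmem
      exact (hsub j a hj).2 rfl
  -- the whole group
  have hG : Nat.card G = (1 + ∑ j, m j) * Nat.card (MulAction.stabilizer G a) := by
    have h := orbit_count (G := G) (⊤ : Subgroup G) a (insert a (Finset.univ.biUnion Cl))
      (fun g _ => by
        by_cases hga : g • a = a
        · rw [hga]; exact Finset.mem_insert_self _ _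
        · obtain ⟨j, hj⟩ := hcover (g • a) ⟨g, rfl⟩ hga
          exact Finset.mem_insert_of_mem (Finset.mem_biUnion.mpr ⟨j, Finset.mem_univ _, hj⟩))
      (fun z hz => by
        rw [Finset.mem_insert, Finset.mem_biUnion] at hz
        rcases hz with rfl | ⟨j, -, hj⟩
        · exact ⟨1, Subgroup.mem_top _, one_smul _ _⟩
        · obtain ⟨g, hg⟩ := (hsub j z hj).1
          exact ⟨g, Subgroup.mem_top _, hg⟩)
    rw [Subgroup.card_top, top_inf_eq, hcardU] at h
    exact h
  constructor
  · -- the stabilizer is proper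
    intro htop
    obtain ⟨j, -, hj⟩ : ∃ j ∈ Finset.univ, 0 < m j := by
      by_contra hcon
      push_neg at hcon
      have : ∑ j, m j = 0 := Finset.sum_eq_zero (fun j hj => Nat.le_zero.mp (hcon j hj))
      omega
    rw [← hm j, Finset.card_pos] at hj
    obtain ⟨x, hx⟩ := hj
    obtain ⟨⟨g, hg⟩, hxa⟩ := hsub j x hx
    have hgS : g ∈ MulAction.stabilizer G a := by rw [htop]; exact Subgroup.mem_top _
    rw [MulAction.mem_stabilizer_iff] at hgS
    exact hxa (by rw [← hg]; exact hgS)
  · intro H hSH
    let OH : Finset α := Finset.univ.filter (fun x => ∃ h ∈ H, h • a = x)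
    let J : Finset (Fin r) := Finset.univ.filter (fun j => ∃ x ∈ Cl j, x ∈ OH)
    have hOH : OH = insert a (J.biUnion Cl) := by
      ext x
      simp only [OH, Finset.mem_filter, Finset.mem_univ, true_and, Finset.mem_insert,
        Finset.mem_biUnion]
      constructor
      · rintro ⟨h, hh, rfl⟩
        by_cases hha : h • a = a
        · exact Or.inl hha
        · obtain ⟨j, hj⟩ := hcover (h • a) ⟨h, rfl⟩ hha
          refine Or.inr ⟨j, ?_, hj⟩
          simp only [J, OH, Finset.mem_filter, Finset.mem_univ, true_and]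
          exact ⟨h • a, hj, h, hh, rfl⟩
      · rintro (rfl | ⟨j, hjJ, hxj⟩)
        · exact ⟨1, H.one_mem, one_smul _ _⟩
        · simp only [J, OH, Finset.mem_filter, Finset.mem_univ, true_and] at hjJ
          obtain ⟨y, hy, h, hh, rfl⟩ := hjJ
          obtain ⟨s, hs, hsx⟩ := htrans j (h • a) hy x hxj
          exact ⟨s * h, H.mul_mem (hSH.le hs) hh, by rw [mul_smul, hsx]⟩
    have hH : Nat.card H = (1 + ∑ j ∈ J, m j) * Nat.card (MulAction.stabilizer G a) := by
      have h := orbit_count (G := G) H a OH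
        (fun g hg => by
          simp only [OH, Finset.mem_filter, Finset.mem_univ, true_and]
          exact ⟨g, hg, rfl⟩)
        (fun z hz => by
          simp only [OH, Finset.mem_filter, Finset.mem_univ, true_and] at hz
          exact hz)
      rw [inf_eq_right.mpr hSH.le, hOH, hcardU] at h
      exact h
    have hdvd : (1 + ∑ j ∈ J, m j) ∣ (1 + ∑ j, m j) := by
      have h1 : Nat.card H ∣ Nat.card G := Subgroup.card_subgroup_dvd_card H
      rw [hH, hG] at h1
      exact Nat.dvd_of_mul_dvd_mul_right Nat.card_pos h1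
    rcases hdiv J hdvd with hJ | hJ
    · exfalso
      apply not_le_of_gt hSH
      intro h hh
      rw [MulAction.mem_stabilizer_iff]
      have hmem : h • a ∈ OH := by
        simp only [OH, Finset.mem_filter, Finset.mem_univ, true_and]
        exact ⟨h, hh, rfl⟩
      rw [hOH, hJ] at hmem
      simpa using hmem
    · apply Subgroup.eq_top_of_card_eq
      rw [hH, hG, hJ]

end Cfsg.Agent.Lib_lead_Coatom
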