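import Mathlib
import Cfsg.Prelude.Def_Sporadic_a
import Cfsg.Agent.Lib_lead_Golay
import Cfsg.Agent.Lib_lead_GolayPerm
import Cfsg.Agent.Lib_lead_M24
import Cfsg.Agent.Lib_lead_M24Chain
import Cfsg.Agent.Lib_lead_M24ChainData

/-! Multiple transitivity of the group of the length-24 code. -/

set_option autoImplicit false

namespace Cfsg.Agent.Lib_lead_M24Trans

open Cfsg Cfsg.Agent.Lib_lead_Golay Cfsg.Agent.Lib_lead_GolayPerm Cfsg.Agent.Lib_lead_M24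
  Cfsg.Agent.Lib_lead_M24Chain Cfsg.Agent.Lib_lead_M24ChainData
open scoped Pointwise

theorem step_trans {F b tgt : ℕ} (h : Lvl F b tgt) (g : Equiv.Perm GolayPt) (hg : g ∈ C3)
    (p : GolayPt) (hp : tgt.testBit (idx (g p)) = true) :
    ∃ g' ∈ C3, g' p = ptN b ∧ ∀ q, F.testBit (idx (g q)) = true → g' q = g q := by
  obtain ⟨hb, htgt, hsub, hsup⟩ := h
  obtain ⟨t, ht, hFt, htb⟩ := hsup (idx (g p)) (idx_lt _) hp
  rw [ptN_idx] at htb
  refine ⟨t⁻¹ * g, C3.mul_mem (C3.inv_mem ht) hg, ?_, ?_⟩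
  · rw [Equiv.Perm.mul_apply, ← htb, Equiv.Perm.inv_def, Equiv.symm_apply_apply]
  · intro q hq
    rw [Equiv.Perm.mul_apply, Equiv.Perm.inv_eq_iff_eq]
    exact (fix_of_FixM hFt (g q) hq).symm

theorem idx_ne {y : GolayPt} {c : ℕ} (h : y ≠ ptN c) : idx y ≠ c :=
  fun heq => h (by rw [← heq, ptN_idx])

theorem b1 : ∀ z : Fin 24, (16777215 : ℕ).testBit z.val = true := by decide

theorem b2 : ∀ z : Fin 24, z.val ≠ 0 → (16777214 : ℕ).testBit z.val = true := by decide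

theorem b3 : ∀ z : Fin 24, z.val ≠ 0 → z.val ≠ 2 → (16777210 : ℕ).testBit z.val = true := by
  decide

theorem b4 : ∀ z : Fin 24, z.val ≠ 0 → z.val ≠ 2 → z.val ≠ 5 →
    (16777178 : ℕ).testBit z.val = true := by decide

theorem b5 : ∀ z : Fin 24, z.val ≠ 0 → z.val ≠ 2 → z.val ≠ 5 → z.val ≠ 6 →
    (16777114 : ℕ).testBit z.val = true := by decide

theorem t1 (p : GolayPt) : ∃ g ∈ C3, g p = ptN 0 := by
  obtain ⟨g, hg, h, -⟩ := step_trans lvl1 1 C3.one_mem p (b1 ⟨_, idx_lt _⟩)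
  exact ⟨g, hg, h⟩

theorem t2 (p q : GolayPt) (hpq : p ≠ q) : ∃ g ∈ C3, g p = ptN 0 ∧ g q = ptN 2 := by
  obtain ⟨g1, hg1, h1⟩ := t1 p
  have hq0 : g1 q ≠ ptN 0 := fun h => hpq (g1.injective (h1.trans h.symm))
  obtain ⟨g, hg, h, hfix⟩ := step_trans lvl2 g1 hg1 q (b2 ⟨_, idx_lt _⟩ (idx_ne hq0))
  refine ⟨g, hg, ?_, h⟩
  rw [hfix p (by rw [h1]; decide), h1]

theorem t3 (p q r : GolayPt) (hpq : p ≠ q) (hpr : p ≠ r) (hqr : q ≠ r) :
    ∃ g ∈ C3, g p = ptN 0 ∧ g q = ptN 2 ∧ g r = ptN 5 := by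
  obtain ⟨g1, hg1, h1, h2⟩ := t2 p q hpq
  have hr0 : g1 r ≠ ptN 0 := fun h => hpr (g1.injective (h1.trans h.symm))
  have hr2 : g1 r ≠ ptN 2 := fun h => hqr (g1.injective (h2.trans h.symm))
  obtain ⟨g, hg, h, hfix⟩ :=
    step_trans lvl3 g1 hg1 r (b3 ⟨_, idx_lt _⟩ (idx_ne hr0) (idx_ne hr2))
  refine ⟨g, hg, ?_, ?_, h⟩
  · rw [hfix p (by rw [h1]; decide), h1]
  · rw [hfix q (by rw [h2]; decide), h2]

theorem t4 (p q r s : GolayPt) (hpq : p ≠ q) (hpr : p ≠ r) (hqr : q ≠ r) (hps : p ≠ s)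
    (hqs : q ≠ s) (hrs : r ≠ s) :
    ∃ g ∈ C3, g p = ptN 0 ∧ g q = ptN 2 ∧ g r = ptN 5 ∧ g s = ptN 6 := by
  obtain ⟨g1, hg1, h1, h2, h3⟩ := t3 p q r hpq hpr hqr
  have hs0 : g1 s ≠ ptN 0 := fun h => hps (g1.injective (h1.trans h.symm))
  have hs2 : g1 s ≠ ptN 2 := fun h => hqs (g1.injective (h2.trans h.symm))
  have hs5 : g1 s ≠ ptN 5 := fun h => hrs (g1.injective (h3.trans h.symm))
  obtain ⟨g, hg, h, hfix⟩ :=
    step_trans lvl4 g1 hg1 s (b4 ⟨_, idx_lt _⟩ (idx_ne hs0) (idx_ne hs2) (idx_ne hs5))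
  refine ⟨g, hg, ?_, ?_, ?_, h⟩
  · rw [hfix p (by rw [h1]; decide), h1]
  · rw [hfix q (by rw [h2]; decide), h2]
  · rw [hfix r (by rw [h3]; decide), h3]

theorem t5 (p q r s u : GolayPt) (hpq : p ≠ q) (hpr : p ≠ r) (hqr : q ≠ r) (hps : p ≠ s)
    (hqs : q ≠ s) (hrs : r ≠ s) (hpu : p ≠ u) (hqu : q ≠ u) (hru : r ≠ u) (hsu : s ≠ u) :
    ∃ g ∈ C3, g p = ptN 0 ∧ g q = ptN 2 ∧ g r = ptN 5 ∧ g s = ptN 6 ∧ g u = ptN 9 := by
  obtain ⟨g1, hg1, h1, h2, h3, h4⟩ := t4 p q r s hpq hpr hqr hps hqs hrs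
  have hu0 : g1 u ≠ ptN 0 := fun h => hpu (g1.injective (h1.trans h.symm))
  have hu2 : g1 u ≠ ptN 2 := fun h => hqu (g1.injective (h2.trans h.symm))
  have hu5 : g1 u ≠ ptN 5 := fun h => hru (g1.injective (h3.trans h.symm))
  have hu6 : g1 u ≠ ptN 6 := fun h => hsu (g1.injective (h4.trans h.symm))
  obtain ⟨g, hg, h, hfix⟩ := step_trans lvl5 g1 hg1 u
    (b5 ⟨_, idx_lt _⟩ (idx_ne hu0) (idx_ne hu2) (idx_ne hu5) (idx_ne hu6))
  refine ⟨g, hg, ?_, ?_, ?_, ?_, h⟩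
  · rw [hfix p (by rw [h1]; decide), h1]
  · rw [hfix q (by rw [h2]; decide), h2]
  · rw [hfix r (by rw [h3]; decide), h3]
  · rw [hfix s (by rw [h4]; decide), h4]

/-- transitivity on points -/
theorem trans1 (p p' : GolayPt) : ∃ g ∈ M24, g p = p' := by
  obtain ⟨g, hg, h⟩ := t1 p
  obtain ⟨g', hg', h'⟩ := t1 p'
  refine ⟨g'⁻¹ * g, M24.mul_mem (M24.inv_mem (C3_le hg')) (C3_le hg), ?_⟩
  rw [Equiv.Perm.mul_apply, h, ← h', Equiv.Perm.inv_def, Equiv.symm_apply_apply]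

/-- transitivity on ordered pairs of distinct points -/
theorem trans2 (p q p' q' : GolayPt) (hpq : p ≠ q) (hpq' : p' ≠ q') :
    ∃ g ∈ M24, g p = p' ∧ g q = q' := by
  obtain ⟨g, hg, h1, h2⟩ := t2 p q hpq
  obtain ⟨g', hg', h1', h2'⟩ := t2 p' q' hpq'
  refine ⟨g'⁻¹ * g, M24.mul_mem (M24.inv_mem (C3_le hg')) (C3_le hg), ?_, ?_⟩
  · rw [Equiv.Perm.mul_apply, h1, ← h1', Equiv.Perm.inv_def, Equiv.symm_apply_apply]
  · rw [Equiv.Perm.mul_apply, h2, ← h2', Equiv.Perm.inv_def, Equiv.symm_apply_apply]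

theorem five (x : Fin 5 ↪ GolayPt) :
    ∃ g ∈ C3, g (x 0) = ptN 0 ∧ g (x 1) = ptN 2 ∧ g (x 2) = ptN 5 ∧ g (x 3) = ptN 6 ∧
      g (x 4) = ptN 9 := by
  have hne : ∀ i j : Fin 5, i ≠ j → x i ≠ x j := fun i j hij h => hij (x.injective h)
  exact t5 (x 0) (x 1) (x 2) (x 3) (x 4) (hne _ _ (by decide)) (hne _ _ (by decide))
    (hne _ _ (by decide)) (hne _ _ (by decide)) (hne _ _ (by decide)) (hne _ _ (by decide))
    (hne _ _ (by decide)) (hne _ _ (by decide)) (hne _ _ (by decide)) (hne _ _ (by decide))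

theorem five_trans (x y : Fin 5 ↪ GolayPt) : ∃ g ∈ M24, ∀ i, g (x i) = y i := by
  obtain ⟨g, hg, h0, h1, h2, h3, h4⟩ := five x
  obtain ⟨g', hg', h0', h1', h2', h3', h4'⟩ := five y
  refine ⟨g'⁻¹ * g, M24.mul_mem (M24.inv_mem (C3_le hg')) (C3_le hg), ?_⟩
  intro i
  rw [Equiv.Perm.mul_apply, Equiv.Perm.inv_eq_iff_eq]
  fin_cases i
  · exact h0.trans h0'.symm
  · exact h1.trans h1'.symm
  · exact h2.trans h2'.symm
  · exact h3.trans h3'.symm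
  · exact h4.trans h4'.symm


theorem card_pts : (Finset.univ : Finset GolayPt).card = 24 := by decide

theorem card_stab1 (p : GolayPt) : Nat.card (MulAction.stabilizer M24 p) = 10200960 := by
  have h := orbit_count (G := M24) (⊤ : Subgroup M24) p Finset.univ
    (fun _ _ => Finset.mem_univ _) (fun z _ => by
      obtain ⟨g, hg, hgp⟩ := trans1 p z
      exact ⟨⟨g, hg⟩, Subgroup.mem_top _, hgp⟩)
  rw [Subgroup.card_top, top_inf_eq, card_pts, card_M24] at h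
  omega

theorem card_stab2 (p q : GolayPt) (hpq : p ≠ q) :
    Nat.card ↥(MulAction.stabilizer M24 p ⊓ MulAction.stabilizer M24 q) = 443520 := by
  have h := orbit_count (G := M24) (MulAction.stabilizer M24 p) q (Finset.univ.erase p)
    (fun g hg => by
      rw [Finset.mem_erase]
      refine ⟨?_, Finset.mem_univ _⟩
      intro hgq
      rw [MulAction.mem_stabilizer_iff] at hg
      have h1 : g • q = g • p := by rw [hgq, hg]
      exact hpq (MulAction.injective g h1).symm)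
    (fun z hz => by
      rw [Finset.mem_erase] at hz
      obtain ⟨g, hg, hgp, hgq⟩ := trans2 p q p z hpq (Ne.symm hz.1)
      exact ⟨⟨g, hg⟩, hgp, hgq⟩)
  rw [card_stab1, Finset.card_erase_of_mem (Finset.mem_univ _), card_pts] at h
  omega

end Cfsg.Agent.Lib_lead_M24Trans
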