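import Cfsg.Statements.S0361
import Mathlib
import Cfsg.Agent.Lib_lead_Golay

set_option autoImplicit false
open Cfsg

namespace Cfsg.Agent.S0361

open Cfsg.Agent.Lib_lead_Golay

/-- There are exactly 2576 dodecads (supports of weight-12 words) in the length-24 code. -/
theorem result : Cfsg.dodecads.ncard = 2576 := by
  have h1 : Cfsg.dodecads = (fun k => support₂ (W k)) ''
      ((Finset.range 4096).filter (fun k => popc (M k) = 12) : Set ℕ) := by
    ext b
    simp only [dodecads, wordsOfWeight, supports, Set.mem_setOf_eq, Set.mem_image, SetLike.mem_coe,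
      Finset.coe_filter, Finset.mem_range]
    constructor
    · rintro ⟨⟨w, hw, rfl⟩, hcard⟩
      obtain ⟨k, hk, rfl⟩ := (mem_iff w).mp hw
      refine ⟨k, ⟨hk, ?_⟩, rfl⟩
      rw [← hammingNorm_W, ← card_support₂]
      exact hcard
    · rintro ⟨k, ⟨hk, hpop⟩, rfl⟩
      refine ⟨⟨W k, W_mem k, rfl⟩, ?_⟩
      rw [card_support₂, hammingNorm_W]
      exact hpop
  rw [h1, Set.ncard_image_of_injOn, Set.ncard_coe_finset, count12]
  intro k hk k' hk' h
  simp only [Finset.coe_filter, Finset.mem_range, Set.mem_setOf_eq] at hk hk'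
  exact W_injOn hk.1 hk'.1 (support₂_injective h)

end Cfsg.Agent.S0361
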