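import Mathlib
import Cfsg.Prelude.Def_Sporadic_a
import Cfsg.Agent.Lib_lead_Golay
import Cfsg.Agent.Lib_lead_GolayPerm
import Cfsg.Agent.Lib_lead_M24
import Cfsg.Agent.Lib_lead_M24Data
import Cfsg.Agent.Lib_lead_M24Chain
import Cfsg.Agent.Lib_lead_M24ChainData
import Cfsg.Agent.Lib_lead_M24Trans
import Cfsg.Agent.S0361

/-! Stabilizers of octads and dodecads. -/

set_option autoImplicit false

namespace Cfsg.Agent.Lib_lead_M24Oct

open Cfsg Cfsg.Agent.Lib_lead_Golay Cfsg.Agent.Lib_lead_GolayPerm Cfsg.Agent.Lib_lead_M24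
  Cfsg.Agent.Lib_lead_M24Chain Cfsg.Agent.Lib_lead_M24ChainData Cfsg.Agent.Lib_lead_M24Trans
open scoped Pointwise

/-- the pointwise stabilizer of a set of points in the group of the code -/
abbrev KK (o : Finset GolayPt) : Subgroup (Equiv.Perm GolayPt) :=
  M24 ⊓ fixingSubgroup (Equiv.Perm GolayPt) (o : Set GolayPt)

theorem mem_KK (o : Finset GolayPt) (g : Equiv.Perm GolayPt) :
    g ∈ KK o ↔ g ∈ M24 ∧ ∀ p ∈ o, g p = p := by
  rw [Subgroup.mem_inf, mem_fixingSubgroup_iff]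
  rfl

theorem KK_fsOf (x : ℕ) : KK (fsOf x) = stabM x := by
  ext g
  rw [mem_KK, mem_stabM]
  constructor
  · rintro ⟨hg, hfix⟩
    refine ⟨hg, ?_⟩
    intro j hj hbit
    exact hfix (ptN j) (by rw [mem_fsOf, idx_ptN' j hj]; exact hbit)
  · rintro ⟨hg, hF⟩
    refine ⟨hg, ?_⟩
    intro p hp
    rw [mem_fsOf] at hp
    exact fix_of_FixM hF p hp

theorem KK_conj {σ : Equiv.Perm GolayPt} (hσ : σ ∈ M24) (o : Finset GolayPt) :
    KK (σ • o) = (KK o).map (MulAut.conj σ).toMonoidHom := by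
  ext g
  rw [Subgroup.mem_map, mem_KK]
  constructor
  · rintro ⟨hg, hfix⟩
    refine ⟨σ⁻¹ * g * σ, ?_, ?_⟩
    · rw [mem_KK]
      refine ⟨M24.mul_mem (M24.mul_mem (M24.inv_mem hσ) hg) hσ, ?_⟩
      intro q hq
      rw [Equiv.Perm.mul_apply, Equiv.Perm.mul_apply,
        hfix (σ q) (Finset.smul_mem_smul_finset hq), Equiv.Perm.inv_def, Equiv.symm_apply_apply]
    · simp [mul_assoc]
  · rintro ⟨h, hh, rfl⟩
    rw [mem_KK] at hh
    obtain ⟨hh1, hh2⟩ := hh
    refine ⟨?_, ?_⟩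
    · simp only [MulEquiv.toMonoidHom_eq_coe, MonoidHom.coe_coe, MulAut.conj_apply]
      exact M24.mul_mem (M24.mul_mem hσ hh1) (M24.inv_mem hσ)
    · intro p hp
      rw [Finset.mem_smul_finset] at hp
      obtain ⟨q, hq, rfl⟩ := hp
      simp only [MulEquiv.toMonoidHom_eq_coe, MonoidHom.coe_coe, MulAut.conj_apply,
        Equiv.Perm.mul_apply, Equiv.Perm.smul_def, Equiv.Perm.inv_def, Equiv.symm_apply_apply]
      rw [hh2 q hq]

theorem M15 : M 15 = 3277413 := by decide +kernel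

theorem root_octad : fsOf 3277413 ∈ octads := by
  rw [← M15]
  exact fsOf_mem_weight 15 8 (by decide +kernel)

theorem lvl6' : Lvl 3277413 1 13499802 :=
  ⟨by norm_num, by norm_num, sub_compl (by norm_num) (by decide) (by decide),
    sup_of_row (by norm_num) row6_ok (by decide)⟩

theorem stab_oct_pt : stabM 3277415 = ⊥ := by
  rw [eq_bot_iff, ← stab7]
  intro g hg
  exact ⟨hg.1, FixM_mono (F' := 3277415) (by decide) hg.2⟩

theorem card_root : Nat.card (stabM 3277413) = 16 := by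
  have h := lvl6'.count
  rw [show popc 13499802 = 16 from by decide,
    show ((3277413 : ℕ) ||| 2 ^ 1) = 3277415 from by decide, stab_oct_pt, Subgroup.card_bot] at h
  exact h

theorem sq_root (g : Equiv.Perm GolayPt) (hg : g ∈ stabM 3277413) : g * g = 1 := by
  have hbit := lvl6'.2.2.1 g hg
  obtain ⟨t, ht, hFt, htb, hinv⟩ :=
    lvl_sound nodes_ok (by norm_num : (1 : ℕ) < 24) row6_ok _ (idx_lt _) hbit
  rw [ptN_idx] at htb
  have hmem : t⁻¹ * g ∈ stabM 3277415 := by
    rw [show (3277415 : ℕ) = 3277413 ||| 2 ^ 1 from by decide, stabM_succ _ _ (by norm_num),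
      Subgroup.mem_inf, MulAction.mem_stabilizer_iff]
    refine ⟨(stabM 3277413).mul_mem ((stabM 3277413).inv_mem ⟨C3_le ht, hFt⟩) hg, ?_⟩
    rw [Equiv.Perm.smul_def, Equiv.Perm.mul_apply, ← htb, Equiv.Perm.inv_def,
      Equiv.symm_apply_apply]
  rw [stab_oct_pt, Subgroup.mem_bot] at hmem
  have hgt : g = t := by
    rw [inv_mul_eq_one] at hmem
    exact hmem.symm
  rw [hgt]
  exact hinv rfl

theorem octad_fix (o : Finset GolayPt) (ho : o ∈ octads) :
    Nat.card ↥(KK o) = 16 ∧ ∀ g ∈ KK o, g * g = 1 := by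
  obtain ⟨σ, hσ⟩ := Cfsg.Agent.Lib_lead_M24Data.octads_trans _ o root_octad ho
  have hσ' : (σ : Equiv.Perm GolayPt) • fsOf 3277413 = o := hσ
  rw [← hσ', KK_conj σ.2, KK_fsOf]
  constructor
  · rw [Subgroup.card_map_of_injective (MulAut.conj (σ : Equiv.Perm GolayPt)).injective]
    exact card_root
  · rintro g ⟨h, hh, rfl⟩
    have h1 := sq_root h hh
    simp only [MulEquiv.toMonoidHom_eq_coe, MonoidHom.coe_coe]
    rw [← map_mul, h1, map_one]

theorem dodecad_stab (d : Finset GolayPt) (hd : d ∈ dodecads) :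
    Nat.card (MulAction.stabilizer M24 d) = 95040 := by
  classical
  obtain ⟨S, hS⟩ := Cfsg.Agent.Lib_lead_Steiner.exists_finset dodecads
  have hScard : S.card = 2576 := by
    have h : (S : Set (Finset GolayPt)) = dodecads := by
      ext b
      simp [hS]
    rw [← Set.ncard_coe_finset, h]
    exact Cfsg.Agent.S0361.result
  have h := orbit_count (G := M24) (⊤ : Subgroup M24) d S
    (fun g _ => (hS _).mpr (smul_mem_weight g.2 hd))
    (fun z hz => by
      obtain ⟨g, hg⟩ := Cfsg.Agent.Lib_lead_M24Data.dodecads_trans d z hd ((hS z).mp hz)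
      exact ⟨g, Subgroup.mem_top _, hg⟩)
  rw [Subgroup.card_top, top_inf_eq, hScard, card_M24] at h
  omega

end Cfsg.Agent.Lib_lead_M24Oct
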