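import Mathlib
import Cfsg.Prelude.Def_Sporadic_a
import Cfsg.Agent.Lib_lead_M24Trans
import Cfsg.Agent.Lib_lead_M24Oct
import Cfsg.Agent.Lib_lead_Coatom
import Cfsg.Agent.Lib_lead_Steiner

/-! Transitivity of the group of the length-24 code on small configurations of points. -/

set_option autoImplicit false

namespace Cfsg.Agent.Lib_lead_M24Sets

open Cfsg Cfsg.Agent.Lib_lead_Golay Cfsg.Agent.Lib_lead_GolayPerm Cfsg.Agent.Lib_lead_M24
  Cfsg.Agent.Lib_lead_M24Chain Cfsg.Agent.Lib_lead_M24ChainData Cfsg.Agent.Lib_lead_M24Trans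
open scoped Pointwise

/-- the base points -/
def baseL : List GolayPt := [ptN 0, ptN 2, ptN 5, ptN 6, ptN 9]

theorem normL (l : List GolayPt) (hl : l.Nodup) (h5 : l.length ≤ 5) :
    ∃ g ∈ C3, l.map (fun p => g p) = baseL.take l.length := by
  match l, hl, h5 with
  | [], _, _ => exact ⟨1, C3.one_mem, rfl⟩
  | [a], _, _ =>
    obtain ⟨g, hg, h⟩ := t1 a
    exact ⟨g, hg, by simp [baseL, h]⟩
  | [a, b], hl, _ =>
    simp only [List.nodup_cons, List.mem_cons, List.not_mem_nil, or_false, not_or,
      List.nodup_nil, and_true, not_false_eq_true] at hl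
    obtain ⟨g, hg, h1, h2⟩ := t2 a b hl
    exact ⟨g, hg, by simp [baseL, h1, h2]⟩
  | [a, b, c], hl, _ =>
    simp only [List.nodup_cons, List.mem_cons, List.not_mem_nil, or_false, not_or,
      List.nodup_nil, and_true, not_false_eq_true] at hl
    obtain ⟨⟨hab, hac⟩, hbc⟩ := hl
    obtain ⟨g, hg, h1, h2, h3⟩ := t3 a b c hab hac hbc
    exact ⟨g, hg, by simp [baseL, h1, h2, h3]⟩
  | [a, b, c, d], hl, _ =>
    simp only [List.nodup_cons, List.mem_cons, List.not_mem_nil, or_false, not_or,
      List.nodup_nil, and_true, not_false_eq_true] at hl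
    obtain ⟨⟨hab, hac, had⟩, ⟨hbc, hbd⟩, hcd⟩ := hl
    obtain ⟨g, hg, h1, h2, h3, h4⟩ := t4 a b c d hab hac hbc had hbd hcd
    exact ⟨g, hg, by simp [baseL, h1, h2, h3, h4]⟩
  | [a, b, c, d, e], hl, _ =>
    simp only [List.nodup_cons, List.mem_cons, List.not_mem_nil, or_false, not_or,
      List.nodup_nil, and_true, not_false_eq_true] at hl
    obtain ⟨⟨hab, hac, had, hae⟩, ⟨hbc, hbd, hbe⟩, ⟨hcd, hce⟩, hde⟩ := hl
    obtain ⟨g, hg, h1, h2, h3, h4, h5⟩ := t5 a b c d e hab hac hbc had hbd hcd hae hbe hce hde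
    exact ⟨g, hg, by simp [baseL, h1, h2, h3, h4, h5]⟩
  | _ :: _ :: _ :: _ :: _ :: _ :: _, _, h5 =>
    simp only [List.length_cons] at h5
    omega

/-- transitivity on lists of at most five distinct points -/
theorem transL (l l' : List GolayPt) (hl : l.Nodup) (hl' : l'.Nodup)
    (hlen : l.length = l'.length) (h5 : l.length ≤ 5) :
    ∃ g ∈ M24, l.map (fun p => g p) = l' := by
  obtain ⟨g, hg, h⟩ := normL l hl h5
  obtain ⟨g', hg', h'⟩ := normL l' hl' (hlen ▸ h5)
  refine ⟨g'⁻¹ * g, M24.mul_mem (M24.inv_mem (C3_le hg')) (C3_le hg), ?_⟩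
  have h1 : l.map (fun p => (g'⁻¹ * g) p) = (l.map (fun p => g p)).map (fun p => g'⁻¹ p) := by
    rw [List.map_map]
    rfl
  rw [h1, h, hlen, ← h', List.map_map]
  conv_rhs => rw [← List.map_id l']
  apply List.map_congr_left
  intro p _
  simp

theorem smul_eq_of_map {g : Equiv.Perm GolayPt} {A A' : Finset GolayPt}
    (h : A.toList.map (fun p => g p) = A'.toList) : g • A = A' := by
  ext p
  rw [← Finset.mem_toList (s := A'), ← h, List.mem_map, Finset.mem_smul_finset]
  constructor
  · rintro ⟨a, ha, rfl⟩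
    exact ⟨a, Finset.mem_toList.mpr ha, rfl⟩
  · rintro ⟨a, ha, rfl⟩
    exact ⟨a, Finset.mem_toList.mp ha, rfl⟩

/-- transitivity on triples of disjoint sets with at most five points in all -/
theorem trans_parts (A B C A' B' C' : Finset GolayPt)
    (hAB : Disjoint A B) (hAC : Disjoint A C) (hBC : Disjoint B C)
    (hAB' : Disjoint A' B') (hAC' : Disjoint A' C') (hBC' : Disjoint B' C')
    (hA : A.card = A'.card) (hB : B.card = B'.card) (hC : C.card = C'.card)
    (h5 : A.card + B.card + C.card ≤ 5) :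
    ∃ g ∈ M24, g • A = A' ∧ g • B = B' ∧ g • C = C' := by
  have nd : ∀ X Y Z : Finset GolayPt, Disjoint X Y → Disjoint X Z → Disjoint Y Z →
      (X.toList ++ (Y.toList ++ Z.toList)).Nodup := by
    intro X Y Z hXY hXZ hYZ
    rw [List.nodup_append]
    refine ⟨Finset.nodup_toList _, ?_, ?_⟩
    · rw [List.nodup_append]
      refine ⟨Finset.nodup_toList _, Finset.nodup_toList _, ?_⟩
      intro a ha b hb hab
      rw [Finset.mem_toList] at ha hb
      subst hab
      exact (Finset.disjoint_left.mp hYZ ha) hb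
    · intro a ha b hb hab
      rw [Finset.mem_toList] at ha
      rw [List.mem_append, Finset.mem_toList, Finset.mem_toList] at hb
      subst hab
      rcases hb with hb | hb
      · exact (Finset.disjoint_left.mp hXY ha) hb
      · exact (Finset.disjoint_left.mp hXZ ha) hb
  obtain ⟨g, hg, hmap⟩ := transL (A.toList ++ (B.toList ++ C.toList))
    (A'.toList ++ (B'.toList ++ C'.toList)) (nd A B C hAB hAC hBC) (nd A' B' C' hAB' hAC' hBC')
    (by simp only [List.length_append, Finset.length_toList]; omega)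
    (by simp only [List.length_append, Finset.length_toList]; omega)
  rw [List.map_append, List.map_append] at hmap
  have h1 := List.append_inj hmap (by simp only [List.length_map, Finset.length_toList]; exact hA)
  have h2 := List.append_inj h1.2 (by simp only [List.length_map, Finset.length_toList]; exact hB)
  exact ⟨g, hg, smul_eq_of_map h1.1, smul_eq_of_map h2.1, smul_eq_of_map h2.2⟩

/-- the number of `k`-sets meeting a given set in `i` points -/
def ClK (s : Finset GolayPt) (k i : ℕ) : Finset (Finset GolayPt) :=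
  (Finset.powersetCard k Finset.univ).filter (fun x => (x ∩ s).card = i)

theorem mem_ClK (s x : Finset GolayPt) (k i : ℕ) :
    x ∈ ClK s k i ↔ x.card = k ∧ (x ∩ s).card = i := by
  unfold ClK
  rw [Finset.mem_filter, Finset.mem_powersetCard]
  simp

theorem card_ClK (s : Finset GolayPt) (k i : ℕ) (hi : i ≤ k) :
    (ClK s k i).card = s.card.choose i * (24 - s.card).choose (k - i) := by
  have h24 : Fintype.card GolayPt = 24 := by decide
  have hc : (sᶜ).card = 24 - s.card := by rw [Finset.card_compl, h24]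
  rw [← hc, ← Finset.card_powersetCard, ← Finset.card_powersetCard, ← Finset.card_product]
  apply Finset.card_nbij' (fun x => (x ∩ s, x \ s)) (fun pq => pq.1 ∪ pq.2)
  · intro x hx
    rw [Finset.mem_coe, mem_ClK] at hx
    rw [Finset.mem_coe, Finset.mem_product, Finset.mem_powersetCard, Finset.mem_powersetCard]
    refine ⟨⟨Finset.inter_subset_right, hx.2⟩, ?_, ?_⟩
    · intro p hp
      rw [Finset.mem_sdiff] at hp
      exact Finset.mem_compl.mpr hp.2
    · show (x \ s).card = k - i
      have := Finset.card_sdiff_add_card_inter x s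
      have h1 := hx.1
      have h2 := hx.2
      omega
  · rintro ⟨P, Q⟩ hpq
    rw [Finset.mem_coe, Finset.mem_product, Finset.mem_powersetCard, Finset.mem_powersetCard]
      at hpq
    obtain ⟨⟨hP, hPc⟩, hQ, hQc⟩ := hpq
    have hdis : Disjoint P Q := by
      rw [Finset.disjoint_left]
      intro p hp hq
      exact Finset.mem_compl.mp (hQ hq) (hP hp)
    have hQs : Q ∩ s = ∅ := by
      rw [← Finset.disjoint_iff_inter_eq_empty, Finset.disjoint_left]
      intro p hp hs
      exact Finset.mem_compl.mp (hQ hp) hs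
    rw [Finset.mem_coe, mem_ClK]
    refine ⟨?_, ?_⟩
    · show (P ∪ Q).card = k
      rw [Finset.card_union_of_disjoint hdis, hPc, hQc]
      omega
    · show ((P ∪ Q) ∩ s).card = i
      rw [Finset.union_inter_distrib_right, hQs, Finset.union_empty,
        Finset.inter_eq_left.mpr hP, hPc]
  · intro x _
    show x ∩ s ∪ x \ s = x
    rw [Finset.union_comm]
    exact Finset.sdiff_union_inter x s
  · rintro ⟨P, Q⟩ hpq
    rw [Finset.mem_coe, Finset.mem_product, Finset.mem_powersetCard, Finset.mem_powersetCard]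
      at hpq
    obtain ⟨⟨hP, hPc⟩, hQ, hQc⟩ := hpq
    have hQs : Q ∩ s = ∅ := by
      rw [← Finset.disjoint_iff_inter_eq_empty, Finset.disjoint_left]
      intro p hp hs
      exact Finset.mem_compl.mp (hQ hp) hs
    show ((P ∪ Q) ∩ s, (P ∪ Q) \ s) = (P, Q)
    rw [Finset.union_inter_distrib_right, hQs, Finset.union_empty, Finset.inter_eq_left.mpr hP]
    congr 1
    ext p
    rw [Finset.mem_sdiff, Finset.mem_union]
    constructor
    · rintro ⟨hp | hp, hps⟩
      · exact absurd (hP hp) hps
      · exact hp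
    · intro hp
      exact ⟨Or.inr hp, Finset.mem_compl.mp (hQ hp)⟩

/-- two sets of the same size meeting `s` in equally many points are conjugate under the
stabilizer of `s`, when at most five points are involved -/
theorem trans_ClK (s x y : Finset GolayPt) (hxy : x.card = y.card)
    (hi : (x ∩ s).card = (y ∩ s).card) (h5 : s.card + x.card - (x ∩ s).card ≤ 5) :
    ∃ g ∈ M24, g • s = s ∧ g • x = y := by
  have e1 := Finset.card_sdiff_add_card_inter x s
  have e2 := Finset.card_sdiff_add_card_inter y s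
  have e3 := Finset.card_sdiff_add_card_inter s x
  have e4 := Finset.card_sdiff_add_card_inter s y
  have e5 : (s ∩ x).card = (x ∩ s).card := by rw [Finset.inter_comm]
  have e6 : (s ∩ y).card = (y ∩ s).card := by rw [Finset.inter_comm]
  obtain ⟨g, hg, hA, hB, hC⟩ := trans_parts (s ∩ x) (s \ x) (x \ s) (s ∩ y) (s \ y) (y \ s)
    (Finset.disjoint_left.mpr fun p hp hq =>
      (Finset.mem_sdiff.mp hq).2 (Finset.mem_inter.mp hp).2)
    (Finset.disjoint_left.mpr fun p hp hq =>
      (Finset.mem_sdiff.mp hq).2 (Finset.mem_inter.mp hp).1)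
    (Finset.disjoint_left.mpr fun p hp hq =>
      (Finset.mem_sdiff.mp hq).2 (Finset.mem_sdiff.mp hp).1)
    (Finset.disjoint_left.mpr fun p hp hq =>
      (Finset.mem_sdiff.mp hq).2 (Finset.mem_inter.mp hp).2)
    (Finset.disjoint_left.mpr fun p hp hq =>
      (Finset.mem_sdiff.mp hq).2 (Finset.mem_inter.mp hp).1)
    (Finset.disjoint_left.mpr fun p hp hq =>
      (Finset.mem_sdiff.mp hq).2 (Finset.mem_sdiff.mp hp).1)
    (by omega) (by omega) (by omega) (by omega)
  refine ⟨g, hg, ?_, ?_⟩
  · calc g • s = g • (s \ x ∪ s ∩ x) := by rw [Finset.sdiff_union_inter]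
      _ = s \ y ∪ s ∩ y := by rw [Finset.smul_finset_union, hA, hB]
      _ = s := Finset.sdiff_union_inter s y
  · calc g • x = g • (x \ s ∪ x ∩ s) := by rw [Finset.sdiff_union_inter]
      _ = y \ s ∪ y ∩ s := by
        rw [Finset.smul_finset_union, hC, Finset.inter_comm x s, hA, Finset.inter_comm s y]
      _ = y := Finset.sdiff_union_inter y s

end Cfsg.Agent.Lib_lead_M24Sets
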