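import Mathlib
import Cfsg.Prelude.Def_Sporadic_a
import Cfsg.Agent.Lib_lead_M24Sets

/-! Stabilizers of pairs and triads of points. -/

set_option autoImplicit false

namespace Cfsg.Agent.Lib_lead_M24Sets2

open Cfsg Cfsg.Agent.Lib_lead_Golay Cfsg.Agent.Lib_lead_GolayPerm Cfsg.Agent.Lib_lead_M24
  Cfsg.Agent.Lib_lead_M24Chain Cfsg.Agent.Lib_lead_M24ChainData Cfsg.Agent.Lib_lead_M24Trans
  Cfsg.Agent.Lib_lead_M24Sets
open scoped Pointwise

theorem inter_lt {s x : Finset GolayPt} (hxs : x.card = s.card) (hne : x ≠ s) :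
    (x ∩ s).card < s.card := by
  have hle : (x ∩ s).card ≤ s.card := Finset.card_le_card Finset.inter_subset_right
  rcases lt_or_eq_of_le hle with h | h
  · exact h
  · exfalso
    apply hne
    have h3 : x ∩ s = s := Finset.eq_of_subset_of_card_le Finset.inter_subset_right (by rw [h])
    have h4 : s ⊆ x := by rw [← h3]; exact Finset.inter_subset_left
    exact (Finset.eq_of_subset_of_card_le h4 (by rw [hxs])).symm

theorem orbit_of_card (s x : Finset GolayPt) (hxs : x.card = s.card) (h5 : s.card ≤ 5) :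
    x ∈ MulAction.orbit M24 s := by
  obtain ⟨g, hg, hgs, -, -⟩ := trans_parts s ∅ ∅ x ∅ ∅ (Finset.disjoint_empty_right _)
    (Finset.disjoint_empty_right _) (Finset.disjoint_empty_right _)
    (Finset.disjoint_empty_right _) (Finset.disjoint_empty_right _)
    (Finset.disjoint_empty_right _) hxs.symm rfl rfl (by simpa using h5)
  exact ⟨⟨g, hg⟩, hgs⟩

/-- the stabilizer of a pair of points is a maximal subgroup -/
theorem pair_coatom (s : Finset GolayPt) (hs : s.card = 2) :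
    IsCoatom (MulAction.stabilizer M24 s) := by
  classical
  apply Cfsg.Agent.Lib_lead_Coatom.coatom_of_orbits s (fun j : Fin 2 => ClK s 2 j.val) ![231, 44]
  · intro j
    rw [card_ClK s 2 j.val (by omega), hs]
    fin_cases j <;> rfl
  · rintro x ⟨g, rfl⟩ hne
    have hx : ((g : Equiv.Perm GolayPt) • s).card = 2 := by rw [Finset.card_smul_finset, hs]
    have hlt := inter_lt (hx.trans hs.symm) hne
    rw [hs] at hlt
    by_cases h0 : ((g : Equiv.Perm GolayPt) • s ∩ s).card = 0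
    · exact ⟨0, (mem_ClK _ _ _ _).mpr ⟨hx, h0⟩⟩
    · exact ⟨1, (mem_ClK _ _ _ _).mpr ⟨hx, by
        show ((g : Equiv.Perm GolayPt) • s ∩ s).card = 1
        omega⟩⟩
  · intro j x hx
    rw [mem_ClK] at hx
    refine ⟨orbit_of_card s x (by rw [hx.1, hs]) (by omega), ?_⟩
    rintro rfl
    rw [Finset.inter_self, hs] at hx
    have := j.2
    omega
  · intro i j hij
    rw [Finset.disjoint_left]
    intro x hxi hxj
    rw [mem_ClK] at hxi hxj
    apply hij
    ext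
    omega
  · intro j x hx y hy
    rw [mem_ClK] at hx hy
    obtain ⟨g, hg, hgs, hgx⟩ := trans_ClK s x y (by rw [hx.1, hy.1]) (by rw [hx.2, hy.2])
      (by omega)
    exact ⟨⟨g, hg⟩, hgs, hgx⟩
  · decide
  · decide

/-! ### Triads -/

theorem b613 : ∀ z : Fin 24, z.val ≠ 0 → z.val ≠ 2 → z.val ≠ 5 → z.val ≠ 6 → z.val ≠ 9 →
    (613 : ℕ).testBit z.val = false := by decide

theorem b7 : ∀ z : Fin 24, (613 : ℕ).testBit z.val = false →
    (3277413 : ℕ).testBit z.val = true → (3276800 : ℕ).testBit z.val = true := by decide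

theorem b6 : ∀ z : Fin 24, (3277413 : ℕ).testBit z.val = false →
    (13499802 : ℕ).testBit z.val = true := by decide

theorem memr (b : ℕ) (hb : b < 24) (h : (3277413 : ℕ).testBit b = true) :
    ptN b ∈ fsOf 3277413 := by
  rw [mem_fsOf, idx_ptN' b hb]
  exact h

/-- the octad through the five base points -/
theorem root5 {o : Finset GolayPt} (ho : o ∈ octads) (h0 : ptN 0 ∈ o) (h2 : ptN 2 ∈ o)
    (h5 : ptN 5 ∈ o) (h6 : ptN 6 ∈ o) (h9 : ptN 9 ∈ o) : o = fsOf 3277413 := by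
  apply Cfsg.Agent.Lib_lead_Steiner.eq_of_inter_ge Cfsg.Agent.S0363.result ho
    Cfsg.Agent.Lib_lead_M24Oct.root_octad
  have hsub : ({ptN 0, ptN 2, ptN 5, ptN 6, ptN 9} : Finset GolayPt) ⊆ o ∩ fsOf 3277413 := by
    intro p hp
    simp only [Finset.mem_insert, Finset.mem_singleton] at hp
    rw [Finset.mem_inter]
    rcases hp with rfl | rfl | rfl | rfl | rfl
    · exact ⟨h0, memr 0 (by norm_num) (by decide)⟩
    · exact ⟨h2, memr 2 (by norm_num) (by decide)⟩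
    · exact ⟨h5, memr 5 (by norm_num) (by decide)⟩
    · exact ⟨h6, memr 6 (by norm_num) (by decide)⟩
    · exact ⟨h9, memr 9 (by norm_num) (by decide)⟩
  have hc : ({ptN 0, ptN 2, ptN 5, ptN 6, ptN 9} : Finset GolayPt).card = 5 := by decide
  calc 5 = _ := hc.symm
    _ ≤ _ := Finset.card_le_card hsub

/-- normal form of six points: the sixth goes to point 17 or to point 1 according to whether
the six points lie in an octad -/
theorem six (a b c d e f : GolayPt) (hne : [a, b, c, d, e, f].Nodup) :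
    ∃ g ∈ C3, g a = ptN 0 ∧ g b = ptN 2 ∧ g c = ptN 5 ∧ g d = ptN 6 ∧ g e = ptN 9 ∧
      (((∃ o ∈ octads, a ∈ o ∧ b ∈ o ∧ c ∈ o ∧ d ∈ o ∧ e ∈ o ∧ f ∈ o) ∧ g f = ptN 17) ∨
       ((¬ ∃ o ∈ octads, a ∈ o ∧ b ∈ o ∧ c ∈ o ∧ d ∈ o ∧ e ∈ o ∧ f ∈ o) ∧ g f = ptN 1)) := by
  simp only [List.nodup_cons, List.mem_cons, List.not_mem_nil, or_false, not_or,
    List.nodup_nil, and_true, not_false_eq_true] at hne
  obtain ⟨⟨hab, hac, had, hae, haf⟩, ⟨hbc, hbd, hbe, hbf⟩, ⟨hcd, hce, hcf⟩, ⟨hde, hdf⟩, hef⟩ := hne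
  obtain ⟨g0, hg0, h1, h2, h3, h4, h5⟩ := t5 a b c d e hab hac hbc had hbd hcd hae hbe hce hde
  have hf0 : g0 f ≠ ptN 0 := fun h => haf (g0.injective (h1.trans h.symm))
  have hf2 : g0 f ≠ ptN 2 := fun h => hbf (g0.injective (h2.trans h.symm))
  have hf5 : g0 f ≠ ptN 5 := fun h => hcf (g0.injective (h3.trans h.symm))
  have hf6 : g0 f ≠ ptN 6 := fun h => hdf (g0.injective (h4.trans h.symm))
  have hf9 : g0 f ≠ ptN 9 := fun h => hef (g0.injective (h5.trans h.symm))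
  have h613 : (613 : ℕ).testBit (idx (g0 f)) = false :=
    b613 ⟨_, idx_lt _⟩ (idx_ne hf0) (idx_ne hf2) (idx_ne hf5) (idx_ne hf6) (idx_ne hf9)
  by_cases hbit : (3277413 : ℕ).testBit (idx (g0 f)) = true
  · obtain ⟨g, hg, h, hfix⟩ := step_trans lvl7 g0 hg0 f (b7 ⟨_, idx_lt _⟩ h613 hbit)
    have e1 : g a = ptN 0 := by rw [hfix a (by rw [h1]; decide), h1]
    have e2 : g b = ptN 2 := by rw [hfix b (by rw [h2]; decide), h2]
    have e3 : g c = ptN 5 := by rw [hfix c (by rw [h3]; decide), h3]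
    have e4 : g d = ptN 6 := by rw [hfix d (by rw [h4]; decide), h4]
    have e5 : g e = ptN 9 := by rw [hfix e (by rw [h5]; decide), h5]
    refine ⟨g, hg, e1, e2, e3, e4, e5, Or.inl ⟨⟨g⁻¹ • fsOf 3277413, ?_, ?_⟩, h⟩⟩
    · exact smul_mem_weight (M24.inv_mem (C3_le hg)) Cfsg.Agent.Lib_lead_M24Oct.root_octad
    · simp only [Finset.mem_inv_smul_finset_iff, Equiv.Perm.smul_def, e1, e2, e3, e4, e5, h]
      exact ⟨memr 0 (by norm_num) (by decide), memr 2 (by norm_num) (by decide),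
        memr 5 (by norm_num) (by decide), memr 6 (by norm_num) (by decide),
        memr 9 (by norm_num) (by decide), memr 17 (by norm_num) (by decide)⟩
  · obtain ⟨g, hg, h, hfix⟩ := step_trans lvl6 g0 hg0 f (b6 ⟨_, idx_lt _⟩ (by simpa using hbit))
    have e1 : g a = ptN 0 := by rw [hfix a (by rw [h1]; decide), h1]
    have e2 : g b = ptN 2 := by rw [hfix b (by rw [h2]; decide), h2]
    have e3 : g c = ptN 5 := by rw [hfix c (by rw [h3]; decide), h3]
    have e4 : g d = ptN 6 := by rw [hfix d (by rw [h4]; decide), h4]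
    have e5 : g e = ptN 9 := by rw [hfix e (by rw [h5]; decide), h5]
    refine ⟨g, hg, e1, e2, e3, e4, e5, Or.inr ⟨?_, h⟩⟩
    rintro ⟨o, ho, ha, hb, hc, hd, he, hf⟩
    have ho' : g • o ∈ octads := smul_mem_weight (C3_le hg) ho
    have hroot := root5 ho' (by rw [← e1]; exact Finset.smul_mem_smul_finset ha)
      (by rw [← e2]; exact Finset.smul_mem_smul_finset hb)
      (by rw [← e3]; exact Finset.smul_mem_smul_finset hc)
      (by rw [← e4]; exact Finset.smul_mem_smul_finset hd)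
      (by rw [← e5]; exact Finset.smul_mem_smul_finset he)
    have h17 : ptN 1 ∈ fsOf 3277413 := by
      rw [← hroot, ← h]
      exact Finset.smul_mem_smul_finset hf
    rw [mem_fsOf, idx_ptN' 1 (by norm_num)] at h17
    exact absurd h17 (by decide)

theorem six_iff (a b c d e f : GolayPt) :
    (∃ o ∈ octads, ({a, b, c} : Finset GolayPt) ∪ {d, e, f} ⊆ o) ↔
      (∃ o ∈ octads, a ∈ o ∧ b ∈ o ∧ c ∈ o ∧ d ∈ o ∧ e ∈ o ∧ f ∈ o) := by
  simp only [Finset.union_subset_iff, Finset.insert_subset_iff, Finset.singleton_subset_iff,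
    and_assoc]

theorem conj_map {g g' : Equiv.Perm GolayPt} {x y z : GolayPt} (h : g x = z) (h' : g' y = z) :
    (g'⁻¹ * g) x = y := by
  rw [Equiv.Perm.mul_apply, h, ← h', Equiv.Perm.inv_def, Equiv.symm_apply_apply]

theorem smul_three (g : Equiv.Perm GolayPt) (a b c a' b' c' : GolayPt) (ha : g a = a')
    (hb : g b = b') (hc : g c = c') : g • ({a, b, c} : Finset GolayPt) = {a', b', c'} := by
  rw [Finset.smul_finset_insert, Finset.smul_finset_insert, Finset.smul_finset_singleton,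
    Equiv.Perm.smul_def, Equiv.Perm.smul_def, Equiv.Perm.smul_def, ha, hb, hc]

/-- the stabilizer of a triad is transitive on the disjoint triads of each kind -/
theorem triad_trans (T U U' : Finset GolayPt) (hT : T.card = 3) (hU : U.card = 3)
    (hU' : U'.card = 3) (hd : Disjoint T U) (hd' : Disjoint T U')
    (hiff : (∃ o ∈ octads, T ∪ U ⊆ o) ↔ (∃ o ∈ octads, T ∪ U' ⊆ o)) :
    ∃ g : Equiv.Perm GolayPt, g ∈ M24 ∧ g • T = T ∧ g • U = U' := by
  obtain ⟨a, b, c, hab, hac, hbc, rfl⟩ := Finset.card_eq_three.mp hT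
  obtain ⟨u1, u2, u3, hu12, hu13, hu23, rfl⟩ := Finset.card_eq_three.mp hU
  obtain ⟨v1, v2, v3, hv12, hv13, hv23, rfl⟩ := Finset.card_eq_three.mp hU'
  simp only [Finset.disjoint_left, Finset.mem_insert, Finset.mem_singleton] at hd hd'
  have nd1 : [a, b, c, u1, u2, u3].Nodup := by
    simp only [List.nodup_cons, List.mem_cons, List.not_mem_nil, or_false, not_or,
      List.nodup_nil, and_true, not_false_eq_true]
    exact ⟨⟨hab, hac, fun h => hd (Or.inl rfl) (Or.inl h),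
      fun h => hd (Or.inl rfl) (Or.inr (Or.inl h)), fun h => hd (Or.inl rfl) (Or.inr (Or.inr h))⟩,
      ⟨hbc, fun h => hd (Or.inr (Or.inl rfl)) (Or.inl h),
      fun h => hd (Or.inr (Or.inl rfl)) (Or.inr (Or.inl h)),
      fun h => hd (Or.inr (Or.inl rfl)) (Or.inr (Or.inr h))⟩,
      ⟨fun h => hd (Or.inr (Or.inr rfl)) (Or.inl h),
      fun h => hd (Or.inr (Or.inr rfl)) (Or.inr (Or.inl h)),
      fun h => hd (Or.inr (Or.inr rfl)) (Or.inr (Or.inr h))⟩, ⟨hu12, hu13⟩, hu23⟩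
  have nd2 : [a, b, c, v1, v2, v3].Nodup := by
    simp only [List.nodup_cons, List.mem_cons, List.not_mem_nil, or_false, not_or,
      List.nodup_nil, and_true, not_false_eq_true]
    exact ⟨⟨hab, hac, fun h => hd' (Or.inl rfl) (Or.inl h),
      fun h => hd' (Or.inl rfl) (Or.inr (Or.inl h)),
      fun h => hd' (Or.inl rfl) (Or.inr (Or.inr h))⟩,
      ⟨hbc, fun h => hd' (Or.inr (Or.inl rfl)) (Or.inl h),
      fun h => hd' (Or.inr (Or.inl rfl)) (Or.inr (Or.inl h)),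
      fun h => hd' (Or.inr (Or.inl rfl)) (Or.inr (Or.inr h))⟩,
      ⟨fun h => hd' (Or.inr (Or.inr rfl)) (Or.inl h),
      fun h => hd' (Or.inr (Or.inr rfl)) (Or.inr (Or.inl h)),
      fun h => hd' (Or.inr (Or.inr rfl)) (Or.inr (Or.inr h))⟩, ⟨hv12, hv13⟩, hv23⟩
  obtain ⟨g, hg, e1, e2, e3, e4, e5, hcase⟩ := six a b c u1 u2 u3 nd1
  obtain ⟨g', hg', e1', e2', e3', e4', e5', hcase'⟩ := six a b c v1 v2 v3 nd2
  have key : ∃ z, g u3 = z ∧ g' v3 = z := by
    rcases hcase with ⟨ho, h⟩ | ⟨hno, h⟩ <;> rcases hcase' with ⟨ho', h'⟩ | ⟨hno', h'⟩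
    · exact ⟨_, h, h'⟩
    · exact absurd ((six_iff _ _ _ _ _ _).mp (hiff.mp ((six_iff _ _ _ _ _ _).mpr ho))) hno'
    · exact absurd ((six_iff _ _ _ _ _ _).mp (hiff.mpr ((six_iff _ _ _ _ _ _).mpr ho'))) hno
    · exact ⟨_, h, h'⟩
  obtain ⟨z, hz, hz'⟩ := key
  refine ⟨g'⁻¹ * g, M24.mul_mem (M24.inv_mem (C3_le hg')) (C3_le hg), ?_, ?_⟩
  · exact smul_three _ _ _ _ _ _ _ (conj_map e1 e1') (conj_map e2 e2') (conj_map e3 e3')
  · exact smul_three _ _ _ _ _ _ _ (conj_map e4 e4') (conj_map e5 e5') (conj_map hz hz')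

/-- the triads disjoint from a triad and in a common octad with it -/
theorem card_common (T : Finset GolayPt) (hT : T.card = 3) :
    {U : Finset GolayPt | U.card = 3 ∧ Disjoint T U ∧ (∃ o ∈ octads, T ∪ U ⊆ o)}.ncard
      = 210 := by
  classical
  obtain ⟨BF, hBF⟩ := Cfsg.Agent.Lib_lead_Steiner.exists_finset (octads : Set (Finset GolayPt))
  have hcount := Cfsg.Agent.Lib_lead_Steiner.through_count Cfsg.Agent.S0363.result BF hBF T
    (by omega)
  have h24 : Fintype.card GolayPt = 24 := by decide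
  rw [hT, h24] at hcount
  have hch1 : (8 - 3 : ℕ).choose (5 - 3) = 10 := by decide
  have hch2 : (24 - 3 : ℕ).choose (5 - 3) = 210 := by decide
  rw [hch1, hch2] at hcount
  have h21 : (BF.filter (fun b => T ⊆ b)).card = 21 := by omega
  have hset : {U : Finset GolayPt | U.card = 3 ∧ Disjoint T U ∧ (∃ o ∈ octads, T ∪ U ⊆ o)}
      = ↑((BF.filter (fun b => T ⊆ b)).biUnion (fun o => Finset.powersetCard 3 (o \ T))) := by
    ext U
    simp only [Set.mem_setOf_eq, Finset.coe_biUnion, Finset.mem_coe, Finset.mem_filter,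
      Set.mem_iUnion, Finset.mem_powersetCard, exists_prop]
    constructor
    · rintro ⟨hU, hd, o, ho, hsub⟩
      refine ⟨o, ⟨(hBF o).mpr ho, (Finset.union_subset_iff.mp hsub).1⟩, ?_, hU⟩
      intro p hp
      rw [Finset.mem_sdiff]
      exact ⟨(Finset.union_subset_iff.mp hsub).2 hp,
        fun hpT => Finset.disjoint_left.mp hd hpT hp⟩
    · rintro ⟨o, ⟨ho, hTo⟩, hUo, hU⟩
      refine ⟨hU, ?_, o, (hBF o).mp ho,
        Finset.union_subset hTo (fun p hp => (Finset.mem_sdiff.mp (hUo hp)).1)⟩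
      rw [Finset.disjoint_left]
      intro p hpT hpU
      exact (Finset.mem_sdiff.mp (hUo hpU)).2 hpT
  have hc10 : ∀ o ∈ BF.filter (fun b => T ⊆ b), (Finset.powersetCard 3 (o \ T)).card = 10 := by
    intro o ho
    rw [Finset.mem_filter] at ho
    have h8 : o.card = 8 := ((hBF o).mp ho.1).2
    rw [Finset.card_powersetCard, Finset.card_sdiff_of_subset ho.2, h8, hT]
    decide
  rw [hset, Set.ncard_coe_finset, Finset.card_biUnion]
  · rw [Finset.sum_congr rfl hc10, Finset.sum_const, h21]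
    rfl
  · intro o ho o' ho' hne
    show Disjoint (Finset.powersetCard 3 (o \ T)) (Finset.powersetCard 3 (o' \ T))
    rw [Finset.disjoint_left]
    intro U hU hU'
    apply hne
    rw [Finset.mem_coe, Finset.mem_filter] at ho ho'
    rw [Finset.mem_powersetCard] at hU hU'
    apply Cfsg.Agent.Lib_lead_Steiner.eq_of_inter_ge Cfsg.Agent.S0363.result ((hBF o).mp ho.1)
      ((hBF o').mp ho'.1)
    have hsub : T ∪ U ⊆ o ∩ o' := by
      intro p hp
      rw [Finset.mem_union] at hp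
      rw [Finset.mem_inter]
      rcases hp with hp | hp
      · exact ⟨ho.2 hp, ho'.2 hp⟩
      · exact ⟨(Finset.mem_sdiff.mp (hU.1 hp)).1, (Finset.mem_sdiff.mp (hU'.1 hp)).1⟩
    have hdis : Disjoint T U := by
      rw [Finset.disjoint_left]
      intro p hpT hpU
      exact (Finset.mem_sdiff.mp (hU.1 hpU)).2 hpT
    have hcard : (T ∪ U).card = 6 := by
      rw [Finset.card_union_of_disjoint hdis, hT, hU.2]
    calc 5 ≤ 6 := by norm_num
      _ = (T ∪ U).card := hcard.symm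
      _ ≤ _ := Finset.card_le_card hsub

theorem card_not_common (T : Finset GolayPt) (hT : T.card = 3) :
    {U : Finset GolayPt | U.card = 3 ∧ Disjoint T U ∧ ¬ (∃ o ∈ octads, T ∪ U ⊆ o)}.ncard
      = 1120 := by
  classical
  have h1 := card_common T hT
  have h24 : Fintype.card GolayPt = 24 := by decide
  have htot : {U : Finset GolayPt | U.card = 3 ∧ Disjoint T U}.ncard = 1330 := by
    have hs : {U : Finset GolayPt | U.card = 3 ∧ Disjoint T U}
        = ↑(Finset.powersetCard 3 Tᶜ) := by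
      ext U
      simp only [Set.mem_setOf_eq, Finset.mem_coe, Finset.mem_powersetCard]
      constructor
      · rintro ⟨hU, hd⟩
        exact ⟨fun p hp => Finset.mem_compl.mpr
          (fun hpT => Finset.disjoint_left.mp hd hpT hp), hU⟩
      · rintro ⟨hsub, hU⟩
        exact ⟨hU, Finset.disjoint_left.mpr
          (fun p hpT hpU => Finset.mem_compl.mp (hsub hpU) hpT)⟩
    rw [hs, Set.ncard_coe_finset, Finset.card_powersetCard, Finset.card_compl, hT, h24]
    decide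
  have hU : {U : Finset GolayPt | U.card = 3 ∧ Disjoint T U ∧ (∃ o ∈ octads, T ∪ U ⊆ o)} ∪
      {U : Finset GolayPt | U.card = 3 ∧ Disjoint T U ∧ ¬ (∃ o ∈ octads, T ∪ U ⊆ o)}
      = {U : Finset GolayPt | U.card = 3 ∧ Disjoint T U} := by
    ext U
    simp only [Set.mem_union, Set.mem_setOf_eq]
    constructor
    · rintro (⟨a, b, -⟩ | ⟨a, b, -⟩) <;> exact ⟨a, b⟩
    · rintro ⟨a, b⟩
      by_cases h : ∃ o ∈ octads, T ∪ U ⊆ o
      · exact Or.inl ⟨a, b, h⟩
      · exact Or.inr ⟨a, b, h⟩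
  have hD : Disjoint
      {U : Finset GolayPt | U.card = 3 ∧ Disjoint T U ∧ (∃ o ∈ octads, T ∪ U ⊆ o)}
      {U : Finset GolayPt | U.card = 3 ∧ Disjoint T U ∧ ¬ (∃ o ∈ octads, T ∪ U ⊆ o)} := by
    rw [Set.disjoint_left]
    rintro U ⟨-, -, h⟩ ⟨-, -, h'⟩
    exact h' h
  have h2 := Set.ncard_union_eq hD
  rw [hU, htot, h1] at h2
  omega

/-- orbits of a triad stabilizer on the disjoint triads -/
theorem triad_orbits (T : Finset GolayPt) (hT : T.card = 3) :
    {U : Finset GolayPt | U.card = 3 ∧ Disjoint T U ∧ (∃ o ∈ octads, T ∪ U ⊆ o)}.ncard = 210 ∧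
    {U : Finset GolayPt | U.card = 3 ∧ Disjoint T U ∧ ¬ (∃ o ∈ octads, T ∪ U ⊆ o)}.ncard
      = 1120 ∧
    ∀ U U' : Finset GolayPt, U.card = 3 → U'.card = 3 → Disjoint T U → Disjoint T U' →
      ((∃ o ∈ octads, T ∪ U ⊆ o) ↔ (∃ o ∈ octads, T ∪ U' ⊆ o)) →
      ∃ g : Equiv.Perm GolayPt, g ∈ M24 ∧ g • T = T ∧ g • U = U' :=
  ⟨card_common T hT, card_not_common T hT,
    fun U U' hU hU' hd hd' hiff => triad_trans T U U' hT hU hU' hd hd' hiff⟩

open Classical in
/-- the four orbits of a triad stabilizer on the other triads -/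
noncomputable def ClT (s : Finset GolayPt) : Fin 4 → Finset (Finset GolayPt) :=
  ![ClK s 3 2, ClK s 3 1, (ClK s 3 0).filter (fun x => ∃ o ∈ octads, s ∪ x ⊆ o),
    (ClK s 3 0).filter (fun x => ¬ ∃ o ∈ octads, s ∪ x ⊆ o)]

theorem coe_filter_ClK (T : Finset GolayPt) (Q : Finset GolayPt → Prop) [DecidablePred Q] :
    (↑((ClK T 3 0).filter Q) : Set (Finset GolayPt))
      = {U : Finset GolayPt | U.card = 3 ∧ Disjoint T U ∧ Q U} := by
  ext U
  simp only [Finset.coe_filter, Set.mem_setOf_eq, mem_ClK, Finset.card_eq_zero, and_assoc]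
  rw [← Finset.disjoint_iff_inter_eq_empty, disjoint_comm]

theorem mem_ClT2 (s x : Finset GolayPt) :
    x ∈ ClT s 2 ↔ x.card = 3 ∧ Disjoint s x ∧ ∃ o ∈ octads, s ∪ x ⊆ o := by
  classical
  have h := coe_filter_ClK s (fun x => ∃ o ∈ octads, s ∪ x ⊆ o)
  have h2 : x ∈ ClT s 2 ↔ x ∈ (↑((ClK s 3 0).filter (fun x => ∃ o ∈ octads, s ∪ x ⊆ o)) :
      Set (Finset GolayPt)) := by
    rw [Finset.mem_coe]
    rfl
  rw [h2, h]
  rfl

theorem mem_ClT3 (s x : Finset GolayPt) :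
    x ∈ ClT s 3 ↔ x.card = 3 ∧ Disjoint s x ∧ ¬ ∃ o ∈ octads, s ∪ x ⊆ o := by
  classical
  have h := coe_filter_ClK s (fun x => ¬ ∃ o ∈ octads, s ∪ x ⊆ o)
  have h2 : x ∈ ClT s 3 ↔ x ∈ (↑((ClK s 3 0).filter (fun x => ¬ ∃ o ∈ octads, s ∪ x ⊆ o)) :
      Set (Finset GolayPt)) := by
    rw [Finset.mem_coe]
    rfl
  rw [h2, h]
  rfl

theorem disj_of_card {s x : Finset GolayPt} (h : (x ∩ s).card = 0) : Disjoint s x := by
  rw [Finset.card_eq_zero, ← Finset.disjoint_iff_inter_eq_empty] at h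
  exact h.symm

theorem card_of_disj {s x : Finset GolayPt} (h : Disjoint s x) : (x ∩ s).card = 0 := by
  rw [Finset.card_eq_zero, ← Finset.disjoint_iff_inter_eq_empty]
  exact h.symm

theorem mem_ClT0 (s x : Finset GolayPt) : x ∈ ClT s 0 ↔ x.card = 3 ∧ (x ∩ s).card = 2 := by
  change x ∈ ClK s 3 2 ↔ _
  exact mem_ClK _ _ _ _

theorem mem_ClT1 (s x : Finset GolayPt) : x ∈ ClT s 1 ↔ x.card = 3 ∧ (x ∩ s).card = 1 := by
  change x ∈ ClK s 3 1 ↔ _
  exact mem_ClK _ _ _ _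

theorem ClT_sig (s x : Finset GolayPt) (j : Fin 4) (hx : x ∈ ClT s j) :
    x.card = 3 ∧ (((x ∩ s).card = 2 ∧ j = 0) ∨ ((x ∩ s).card = 1 ∧ j = 1) ∨
      ((x ∩ s).card = 0 ∧ (∃ o ∈ octads, s ∪ x ⊆ o) ∧ j = 2) ∨
      ((x ∩ s).card = 0 ∧ (¬ ∃ o ∈ octads, s ∪ x ⊆ o) ∧ j = 3)) := by
  fin_cases j
  · have h := (mem_ClT0 s x).mp hx
    exact ⟨h.1, Or.inl ⟨h.2, rfl⟩⟩
  · have h := (mem_ClT1 s x).mp hx
    exact ⟨h.1, Or.inr (Or.inl ⟨h.2, rfl⟩)⟩
  · have h := (mem_ClT2 s x).mp hx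
    exact ⟨h.1, Or.inr (Or.inr (Or.inl ⟨card_of_disj h.2.1, h.2.2, rfl⟩))⟩
  · have h := (mem_ClT3 s x).mp hx
    exact ⟨h.1, Or.inr (Or.inr (Or.inr ⟨card_of_disj h.2.1, h.2.2, rfl⟩))⟩

theorem card_ClT (s : Finset GolayPt) (hs : s.card = 3) (j : Fin 4) :
    (ClT s j).card = ![63, 630, 210, 1120] j := by
  fin_cases j
  · change (ClK s 3 2).card = 63
    rw [card_ClK s 3 2 (by omega), hs]
    decide
  · change (ClK s 3 1).card = 630
    rw [card_ClK s 3 1 (by omega), hs]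
    decide
  · change (ClT s 2).card = 210
    rw [← card_common s hs, ← Set.ncard_coe_finset]
    congr 1
    ext x
    rw [Finset.mem_coe, mem_ClT2]
    rfl
  · change (ClT s 3).card = 1120
    rw [← card_not_common s hs, ← Set.ncard_coe_finset]
    congr 1
    ext x
    rw [Finset.mem_coe, mem_ClT3]
    rfl

theorem hdiv4 : ∀ J : Finset (Fin 4), (1 + ∑ j ∈ J, ![63, 630, 210, 1120] j) ∣
    (1 + ∑ j, ![63, 630, 210, 1120] j) → J = ∅ ∨ J = Finset.univ := by decide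

set_option maxHeartbeats 400000 in
/-- the stabilizer of a triad is a maximal subgroup -/
theorem triad_coatom (s : Finset GolayPt) (hs : s.card = 3) :
    IsCoatom (MulAction.stabilizer M24 s) := by
  classical
  apply Cfsg.Agent.Lib_lead_Coatom.coatom_of_orbits s (ClT s) ![63, 630, 210, 1120]
    (card_ClT s hs)
  · rintro x ⟨g, rfl⟩ hne
    have hx : ((g : Equiv.Perm GolayPt) • s).card = 3 := by rw [Finset.card_smul_finset, hs]
    have hlt := inter_lt (hx.trans hs.symm) hne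
    rw [hs] at hlt
    by_cases h2 : ((g : Equiv.Perm GolayPt) • s ∩ s).card = 2
    · exact ⟨0, (mem_ClT0 _ _).mpr ⟨hx, h2⟩⟩
    by_cases h1 : ((g : Equiv.Perm GolayPt) • s ∩ s).card = 1
    · exact ⟨1, (mem_ClT1 _ _).mpr ⟨hx, h1⟩⟩
    have h0 : ((g : Equiv.Perm GolayPt) • s ∩ s).card = 0 := by omega
    by_cases hP : ∃ o ∈ octads, s ∪ (g : Equiv.Perm GolayPt) • s ⊆ o
    · exact ⟨2, (mem_ClT2 _ _).mpr ⟨hx, disj_of_card h0, hP⟩⟩
    · exact ⟨3, (mem_ClT3 _ _).mpr ⟨hx, disj_of_card h0, hP⟩⟩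
  · intro j x hx
    obtain ⟨hx3, hsig⟩ := ClT_sig s x j hx
    refine ⟨orbit_of_card s x (by rw [hx3, hs]) (by omega), ?_⟩
    rintro rfl
    rw [Finset.inter_self, hs] at hsig
    omega
  · intro i j hij
    rw [Finset.disjoint_left]
    intro x hxi hxj
    apply hij
    obtain ⟨-, hsi⟩ := ClT_sig s x i hxi
    obtain ⟨-, hsj⟩ := ClT_sig s x j hxj
    rcases hsi with ⟨h1, rfl⟩ | ⟨h1, rfl⟩ | ⟨h1, hP1, rfl⟩ | ⟨h1, hP1, rfl⟩ <;>
    rcases hsj with ⟨h2, rfl⟩ | ⟨h2, rfl⟩ | ⟨h2, hP2, rfl⟩ | ⟨h2, hP2, rfl⟩ <;>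
    first | rfl | (exfalso; omega) | exact absurd hP1 hP2 | exact absurd hP2 hP1
  · intro j x hx y hy
    obtain ⟨hx3, hsx⟩ := ClT_sig s x j hx
    obtain ⟨hy3, hsy⟩ := ClT_sig s y j hy
    have hcases : ((x ∩ s).card = (y ∩ s).card ∧ 1 ≤ (x ∩ s).card) ∨
        ((x ∩ s).card = 0 ∧ (y ∩ s).card = 0 ∧
          ((∃ o ∈ octads, s ∪ x ⊆ o) ↔ (∃ o ∈ octads, s ∪ y ⊆ o))) := by
      rcases hsx with ⟨h1, rfl⟩ | ⟨h1, rfl⟩ | ⟨h1, hP1, rfl⟩ | ⟨h1, hP1, rfl⟩ <;>
      rcases hsy with ⟨h2, hj⟩ | ⟨h2, hj⟩ | ⟨h2, hP2, hj⟩ | ⟨h2, hP2, hj⟩ <;>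
      first
        | exact absurd hj (by decide)
        | exact Or.inl ⟨by omega, by omega⟩
        | exact Or.inr ⟨h1, h2, ⟨fun _ => hP2, fun _ => hP1⟩⟩
        | exact Or.inr ⟨h1, h2, ⟨fun h => absurd h hP1, fun h => absurd h hP2⟩⟩
    rcases hcases with ⟨he, hpos⟩ | ⟨h1, h2, hiff⟩
    · obtain ⟨g, hg, hgs, hgx⟩ := trans_ClK s x y (by rw [hx3, hy3]) he (by omega)
      exact ⟨⟨g, hg⟩, hgs, hgx⟩
    · obtain ⟨g, hg, hgs, hgx⟩ := triad_trans s x y hs hx3 hy3 (disj_of_card h1)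
        (disj_of_card h2) hiff
      exact ⟨⟨g, hg⟩, hgs, hgx⟩
  · exact hdiv4
  · decide

end Cfsg.Agent.Lib_lead_M24Sets2
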