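import Mathlib
import Cfsg.Prelude.Def_Sporadic_a
import Cfsg.Agent.Lib_lead_Golay
import Cfsg.Agent.Lib_lead_GolayPerm
import Cfsg.Agent.Lib_lead_M24
import Cfsg.Agent.Lib_lead_M24Chain

/-! Stabilizer chains inside the stabilizer of a set of points. -/

set_option autoImplicit false

namespace Cfsg.Agent.Lib_lead_M12

open Cfsg Cfsg.Agent.Lib_lead_Golay Cfsg.Agent.Lib_lead_GolayPerm Cfsg.Agent.Lib_lead_M24
  Cfsg.Agent.Lib_lead_M24Chain
open scoped Pointwise

/-- the permutations of the code preserving the set with mask `D` and fixing the points of `F` -/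
def stabD (D F : ℕ) : Subgroup (Equiv.Perm GolayPt) where
  carrier := {g | g ∈ M24 ∧ g • fsOf D = fsOf D ∧ FixM F g}
  mul_mem' := by
    rintro a b ⟨ha, hDa, hFa⟩ ⟨hb, hDb, hFb⟩
    refine ⟨M24.mul_mem ha hb, ?_, ?_⟩
    · rw [mul_smul, hDb, hDa]
    · intro j hj hbit
      rw [Equiv.Perm.mul_apply, hFb j hj hbit, hFa j hj hbit]
  one_mem' := ⟨M24.one_mem, one_smul _ _, fun j _ _ => rfl⟩
  inv_mem' := by
    rintro a ⟨ha, hDa, hFa⟩
    refine ⟨M24.inv_mem ha, ?_, ?_⟩
    · rw [inv_smul_eq_iff, hDa]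
    · intro j hj hbit
      rw [Equiv.Perm.inv_eq_iff_eq]
      exact (hFa j hj hbit).symm

theorem mem_stabD (D F : ℕ) (g : Equiv.Perm GolayPt) :
    g ∈ stabD D F ↔ g ∈ M24 ∧ g • fsOf D = fsOf D ∧ FixM F g := Iff.rfl

theorem stabD_le_zero (D F : ℕ) : stabD D F ≤ stabD D 0 := by
  rintro g ⟨hg, hD, -⟩
  refine ⟨hg, hD, ?_⟩
  intro j _ hbit
  simp at hbit

theorem stabD_succ (D F b : ℕ) (hb : b < 24) :
    stabD D (F ||| 2 ^ b) = stabD D F ⊓ MulAction.stabilizer (Equiv.Perm GolayPt) (ptN b) := by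
  ext g
  rw [Subgroup.mem_inf, mem_stabD, mem_stabD, MulAction.mem_stabilizer_iff]
  constructor
  · rintro ⟨hg, hD, hF⟩
    refine ⟨⟨hg, hD, ?_⟩, ?_⟩
    · intro j hj hbit
      exact hF j hj (by rw [Nat.testBit_or, hbit]; rfl)
    · exact hF b hb (by rw [Nat.testBit_or, Nat.testBit_two_pow]; simp)
  · rintro ⟨⟨hg, hD, hF⟩, hgb⟩
    refine ⟨hg, hD, ?_⟩
    intro j hj hbit
    rw [Nat.testBit_or, Bool.or_eq_true, Nat.testBit_two_pow] at hbit
    rcases hbit with hbit | hbit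
    · exact hF j hj hbit
    · have : b = j := by simpa using hbit
      rw [← this]
      exact hgb

/-- level check: node `row[z]` fixes `F`, maps `b` to `z` and preserves the mask `D` -/
def lvlOKD (nodes : List Node) (D F b tgt : ℕ) (row : List ℕ) : Bool :=
  (List.range 24).all (fun z => !(tgt.testBit z) ||
    (decide (row.getD z 0 < nodes.length) && fixTab F (nodes.getD (row.getD z 0) dnode).1.1 &&
      ((nodes.getD (row.getD z 0) dnode).1.1.getD b 0 == z) &&
      (pull (nodes.getD (row.getD z 0) dnode).1.2 D == D)))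

theorem lvlD_sound {nodes : List Node} (h : slpOK nodes = true) {D F b tgt : ℕ}
    {row : List ℕ} (hb : b < 24) (hD : D < 2 ^ 24) (hl : lvlOKD nodes D F b tgt row = true) :
    ∀ z < 24, tgt.testBit z = true → ∃ g ∈ stabD D F, g (ptN b) = ptN z := by
  intro z hz hbit
  unfold lvlOKD at hl
  rw [List.all_eq_true] at hl
  have h1 := hl z (List.mem_range.mpr hz)
  rw [hbit] at h1
  simp only [Bool.not_true, Bool.false_or, Bool.and_eq_true, decide_eq_true_eq, beq_iff_eq] at h1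
  obtain ⟨⟨⟨hlen, hfix⟩, hmap⟩, hpull⟩ := h1
  have hv := slp_valid h _ hlen
  refine ⟨_, ⟨C3_le (slp_mem h _ hlen), ?_, ?_⟩, ?_⟩
  · have he : permD (nodes.getD (row.getD z 0) dnode).1.1 (nodes.getD (row.getD z 0) dnode).1.2
        = permOf _ _ hv := by
      unfold permD
      rw [dif_pos hv]
    rw [he, smul_fsOf hv D hD, hpull]
  · intro j hj hFj
    unfold fixTab at hfix
    rw [List.all_eq_true] at hfix
    have h2 := hfix j (List.mem_range.mpr hj)
    rw [hFj] at h2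
    simp only [Bool.not_true, Bool.false_or, beq_iff_eq] at h2
    rw [permD_apply hv]
    unfold tabFun
    rw [idx_ptN' j hj, h2]
  · rw [permD_apply hv]
    unfold tabFun
    rw [idx_ptN' b hb, hmap]

/-- level data inside the stabilizer of the set with mask `D` -/
def LvlD (D F b tgt : ℕ) : Prop :=
  b < 24 ∧ tgt < 2 ^ 24 ∧ (∀ g ∈ stabD D F, tgt.testBit (idx (g (ptN b))) = true) ∧
    (∀ z < 24, tgt.testBit z = true → ∃ g ∈ stabD D F, g (ptN b) = ptN z)

theorem LvlD.count {D F b tgt : ℕ} (h : LvlD D F b tgt) :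
    Nat.card (stabD D F) = popc tgt * Nat.card (stabD D (F ||| 2 ^ b)) := by
  obtain ⟨hb, htgt, hsub, hsup⟩ := h
  rw [stabD_succ D F b hb, ← card_fsOf tgt htgt]
  apply orbit_count
  · intro g hg
    rw [mem_fsOf]
    exact hsub g hg
  · intro z hz
    rw [mem_fsOf] at hz
    obtain ⟨g, hg, hgb⟩ := hsup (idx z) (idx_lt z) hz
    refine ⟨g, hg, ?_⟩
    rw [Equiv.Perm.smul_def, hgb, ptN_idx]

theorem subD {D F b tgt : ℕ} (hb : b < 24) (hFb : F.testBit b = false)
    (hdec : ∀ z : Fin 24, F.testBit z.val = false →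
      D.testBit z.val = D.testBit b → tgt.testBit z.val = true) :
    ∀ g ∈ stabD D F, tgt.testBit (idx (g (ptN b))) = true := by
  intro g hg
  have h := not_fix_image hg.2.2 (ptN b) (by rw [idx_ptN' b hb]; exact hFb)
  have hm := mem_of_presv hg.2.1 (ptN b)
  rw [mem_fsOf, mem_fsOf, idx_ptN' b hb] at hm
  exact hdec ⟨_, idx_lt _⟩ h (Bool.eq_iff_iff.mpr hm)

theorem step_transD {D F b tgt : ℕ} (h : LvlD D F b tgt) (g : Equiv.Perm GolayPt)
    (hg : g ∈ stabD D 0) (p : GolayPt) (hp : tgt.testBit (idx (g p)) = true) :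
    ∃ g' ∈ stabD D 0, g' p = ptN b ∧ ∀ q, F.testBit (idx (g q)) = true → g' q = g q := by
  obtain ⟨hb, htgt, hsub, hsup⟩ := h
  obtain ⟨t, ht, htb⟩ := hsup (idx (g p)) (idx_lt _) hp
  rw [ptN_idx] at htb
  refine ⟨t⁻¹ * g, (stabD D 0).mul_mem ((stabD D 0).inv_mem (stabD_le_zero D F ht)) hg, ?_, ?_⟩
  · rw [Equiv.Perm.mul_apply, ← htb, Equiv.Perm.inv_def, Equiv.symm_apply_apply]
  · intro q hq
    rw [Equiv.Perm.mul_apply, Equiv.Perm.inv_eq_iff_eq]
    exact (fix_of_FixM ht.2.2 (g q) hq).symm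

/-- membership of the image in the preserved set -/
theorem bitD {D : ℕ} {g : Equiv.Perm GolayPt} (hg : g ∈ stabD D 0) (p : GolayPt) :
    D.testBit (idx (g p)) = D.testBit (idx p) := by
  have hm := mem_of_presv hg.2.1 p
  rw [mem_fsOf, mem_fsOf] at hm
  exact Bool.eq_iff_iff.mpr hm

end Cfsg.Agent.Lib_lead_M12
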