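import Mathlib
import Cfsg.Prelude.Def_Sporadic_a
import Cfsg.Agent.Lib_lead_Golay
import Cfsg.Agent.Lib_lead_GolayPerm
import Cfsg.Agent.Lib_lead_M24
import Cfsg.Agent.Lib_lead_M24Data
import Cfsg.Agent.Lib_lead_M24Chain
import Cfsg.Agent.Lib_lead_M12

/-! Orbit tables with classes, counting of codewords, and transport along the group. -/

set_option autoImplicit false

namespace Cfsg.Agent.Lib_lead_M24Orb

open Cfsg Cfsg.Agent.Lib_lead_Golay Cfsg.Agent.Lib_lead_GolayPerm Cfsg.Agent.Lib_lead_M24
  Cfsg.Agent.Lib_lead_M24Data Cfsg.Agent.Lib_lead_M24Chain Cfsg.Agent.Lib_lead_M12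
open scoped Pointwise

/-! ### Masks and finsets -/

theorem fsOf_inter (a b : ℕ) : fsOf a ∩ fsOf b = fsOf (a &&& b) := by
  ext p
  rw [Finset.mem_inter, mem_fsOf, mem_fsOf, mem_fsOf, Nat.testBit_and, Bool.and_eq_true]

theorem fsOf_union (a b : ℕ) : fsOf a ∪ fsOf b = fsOf (a ||| b) := by
  ext p
  rw [Finset.mem_union, mem_fsOf, mem_fsOf, mem_fsOf, Nat.testBit_or, Bool.or_eq_true]

theorem fsOf_compl (a : ℕ) : (fsOf a)ᶜ = fsOf (16777215 ^^^ a) := by
  ext p
  rw [Finset.mem_compl, mem_fsOf, mem_fsOf, Nat.testBit_xor, testBit_full _ (idx_lt p)]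
  cases (a.testBit (idx p)) <;> simp

theorem card_inter (a b : ℕ) (ha : a < 2 ^ 24) : (fsOf a ∩ fsOf b).card = popc (a &&& b) := by
  rw [fsOf_inter, card_fsOf _ (lt_of_le_of_lt Nat.and_le_left ha)]

theorem fsOf_injOn {a b : ℕ} (ha : a < 2 ^ 24) (hb : b < 2 ^ 24) (h : fsOf a = fsOf b) :
    a = b := by
  unfold fsOf at h
  have h1 := support₂_injective h
  have h2 := congrArg enc h1
  rwa [enc_ofMask a ha, enc_ofMask b hb] at h2

theorem ptN_mem_fsOf (a j : ℕ) (hj : j < 24) : ptN j ∈ fsOf a ↔ a.testBit j = true := by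
  rw [mem_fsOf, idx_ptN' j hj]

/-! ### Counting codewords -/

theorem ncard_words (n : ℕ) (P : Finset GolayPt → Prop) (P' : ℕ → Prop) [DecidablePred P']
    (h : ∀ k < 4096, popc (M k) = n → (P (fsOf (M k)) ↔ P' (M k))) :
    {o : Finset GolayPt | o ∈ wordsOfWeight (golayCode : Set (GolayPt → ZMod 2)) n ∧ P o}.ncard
      = ((Finset.range 4096).filter (fun k => popc (M k) = n ∧ P' (M k))).card := by
  have h1 : {o : Finset GolayPt | o ∈ wordsOfWeight (golayCode : Set (GolayPt → ZMod 2)) n ∧ P o}
      = (fun k => fsOf (M k)) ''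
        ((Finset.range 4096).filter (fun k => popc (M k) = n ∧ P' (M k)) : Set ℕ) := by
    ext o
    constructor
    · rintro ⟨ho, hP⟩
      obtain ⟨k, hk, hp, rfl⟩ := weight_eq ho
      refine ⟨k, ?_, rfl⟩
      rw [Finset.mem_coe, Finset.mem_filter, Finset.mem_range]
      exact ⟨hk, hp, (h k hk hp).mp hP⟩
    · rintro ⟨k, hk, rfl⟩
      rw [Finset.mem_coe, Finset.mem_filter, Finset.mem_range] at hk
      exact ⟨fsOf_mem_weight k n hk.2.1, (h k hk.1 hk.2.1).mpr hk.2.2⟩
  rw [h1, Set.InjOn.ncard_image, Set.ncard_coe_finset]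
  intro k hk k' hk' hkk
  rw [Finset.mem_coe, Finset.mem_filter, Finset.mem_range] at hk hk'
  exact M_injOn hk.1 hk'.1 (fsOf_injOn (Lib_lead_M24Chain.M_lt k) (Lib_lead_M24Chain.M_lt k') hkk)

theorem ncard_transport {σ : Equiv.Perm GolayPt} (hσ : σ ∈ M24) (n : ℕ)
    (P P' : Finset GolayPt → Prop) (h : ∀ o, P (σ • o) ↔ P' o) :
    {o : Finset GolayPt | o ∈ wordsOfWeight (golayCode : Set (GolayPt → ZMod 2)) n ∧ P o}.ncard
      = {o : Finset GolayPt |
          o ∈ wordsOfWeight (golayCode : Set (GolayPt → ZMod 2)) n ∧ P' o}.ncard := by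
  have h1 : {o : Finset GolayPt | o ∈ wordsOfWeight (golayCode : Set (GolayPt → ZMod 2)) n ∧ P o}
      = (fun o => σ • o) '' {o : Finset GolayPt |
          o ∈ wordsOfWeight (golayCode : Set (GolayPt → ZMod 2)) n ∧ P' o} := by
    ext o
    constructor
    · rintro ⟨ho, hP⟩
      refine ⟨σ⁻¹ • o, ⟨smul_mem_weight (M24.inv_mem hσ) ho, ?_⟩, smul_inv_smul σ o⟩
      rw [← h, smul_inv_smul]
      exact hP
    · rintro ⟨o', ⟨ho', hP'⟩, rfl⟩
      exact ⟨smul_mem_weight hσ ho', (h o').mpr hP'⟩
  rw [h1, Set.ncard_image_of_injective _ (MulAction.injective σ)]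

/-- conjugation and transport -/
theorem smul_conj {σ τ : Equiv.Perm GolayPt} {a b : Finset GolayPt}
    (h : τ • (σ⁻¹ • a) = σ⁻¹ • b) : (σ * τ * σ⁻¹) • a = b := by
  rw [mul_smul, mul_smul, h, smul_inv_smul]

theorem inter_smul (σ : Equiv.Perm GolayPt) (a b : Finset GolayPt) :
    ((σ • a) ∩ (σ • b)).card = (a ∩ b).card := by
  rw [← Finset.smul_finset_inter, Finset.card_smul_finset]

/-! ### Orbit tables with classes -/

/-- entry `k` of a class table: the word with index `k`, if its class has a root and it is not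
that root, is the image under a generator of a word of the same class and smaller depth -/
def entOKc (gens : List (List ℕ × List ℕ)) (T : List (List ℕ)) (cls : ℕ → ℕ) (roots : List ℕ)
    (k : ℕ) : Bool :=
  strictApp (fun m =>
    strictApp (fun c =>
      (match roots[c]? with
       | none => true
       | some r => (m == r) ||
          strictApp (fun e =>
            strictApp (fun e' => decide (e' / 32768 < e / 32768) &&
              (match gens[(e / 4096) % 8]? with
               | none => false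
               | some g => strictApp (fun m' => (cls m' == c) && (pull g.2 m' == m))
                  (M (e % 4096))))
              (look T (e % 4096)))
            (look T k)))
      (cls m)) (M k)

/-- `fsOf x` is in the orbit of `fsOf r` under the subgroup `K` -/
def QK (K : Subgroup (Equiv.Perm GolayPt)) (r x : ℕ) : Prop := ∃ σ ∈ K, σ • fsOf r = fsOf x

theorem tablec_sound (K : Subgroup (Equiv.Perm GolayPt)) (gens : List (List ℕ × List ℕ))
    (hg : ∀ g ∈ gens, validTab g.1 g.2 = true ∧ permD g.1 g.2 ∈ K)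
    (T : List (List ℕ)) (cls : ℕ → ℕ) (roots : List ℕ)
    (hT : ∀ k < 4096, entOKc gens T cls roots k = true) :
    ∀ k < 4096, ∀ r, roots[cls (M k)]? = some r → QK K r (M k) := by
  have key : ∀ d k, look T k / 32768 = d → k < 4096 → ∀ r, roots[cls (M k)]? = some r →
      QK K r (M k) := by
    intro d
    induction d using Nat.strong_induction_on with
    | _ d ih =>
      intro k hd hk r hr
      have h := hT k hk
      unfold entOKc at h
      simp only [strictApp_eq] at h
      rw [hr] at h
      simp only [Bool.or_eq_true, beq_iff_eq, Bool.and_eq_true, decide_eq_true_eq] at h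
      rcases h with h | h
      · rw [h]
        exact ⟨1, K.one_mem, one_smul _ _⟩
      · obtain ⟨hlt, h2⟩ := h
        cases hgi : gens[(look T k / 4096) % 8]? with
        | none =>
          rw [hgi] at h2
          simp at h2
        | some g =>
          rw [hgi] at h2
          simp only [Bool.and_eq_true, beq_iff_eq] at h2
          obtain ⟨hc', hpull⟩ := h2
          have hk' : look T k % 4096 < 4096 := Nat.mod_lt _ (by norm_num)
          obtain ⟨σ, hσ, hσy⟩ :=
            ih _ (by rw [← hd]; exact hlt) (look T k % 4096) rfl hk' r (by rw [hc']; exact hr)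
          have hgmem : g ∈ gens := List.mem_of_getElem? hgi
          obtain ⟨hv, hgK⟩ := hg g hgmem
          refine ⟨permD g.1 g.2 * σ, K.mul_mem hgK hσ, ?_⟩
          have he : permD g.1 g.2 = permOf g.1 g.2 hv := by
            unfold permD
            rw [dif_pos hv]
          rw [mul_smul, hσy, he, smul_fsOf hv _ (Lib_lead_M24Chain.M_lt _), hpull]
  intro k hk r hr
  exact key _ k rfl hk r hr

/-- two words of the same class are in the same orbit -/
theorem same_class (K : Subgroup (Equiv.Perm GolayPt)) (gens : List (List ℕ × List ℕ))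
    (hg : ∀ g ∈ gens, validTab g.1 g.2 = true ∧ permD g.1 g.2 ∈ K)
    (T : List (List ℕ)) (cls : ℕ → ℕ) (roots : List ℕ)
    (hT : ∀ k < 4096, entOKc gens T cls roots k = true) (k k' : ℕ) (hk : k < 4096)
    (hk' : k' < 4096) (hc : cls (M k) = cls (M k')) (hlt : cls (M k) < roots.length) :
    ∃ σ ∈ K, σ • fsOf (M k) = fsOf (M k') := by
  have hr : roots[cls (M k)]? = some (roots[cls (M k)]'hlt) := List.getElem?_eq_getElem hlt
  obtain ⟨σ, hσ, hσe⟩ := tablec_sound K gens hg T cls roots hT k hk _ hr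
  obtain ⟨τ, hτ, hτe⟩ := tablec_sound K gens hg T cls roots hT k' hk' _ (by rw [← hc]; exact hr)
  refine ⟨τ * σ⁻¹, K.mul_mem hτ (K.inv_mem hσ), ?_⟩
  rw [← hσe, mul_smul, inv_smul_smul, hτe]

/-- generators taken from a straight-line program, lying in a stabilizer -/
def gensOKD (nodes : List Node) (D F : ℕ) (idxs : List ℕ) : Bool :=
  idxs.all (fun i => decide (i < nodes.length) && fixTab F (nodes.getD i dnode).1.1 &&
    (pull (nodes.getD i dnode).1.2 D == D))

theorem gensD_sound {nodes : List Node} (h : slpOK nodes = true) {D F : ℕ} {idxs : List ℕ}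
    (hD : D < 2 ^ 24) (hl : gensOKD nodes D F idxs = true) :
    ∀ g ∈ idxs.map (fun i => (nodes.getD i dnode).1),
      validTab g.1 g.2 = true ∧ permD g.1 g.2 ∈ stabD D F := by
  intro g hg
  rw [List.mem_map] at hg
  obtain ⟨i, hi, rfl⟩ := hg
  unfold gensOKD at hl
  rw [List.all_eq_true] at hl
  have h1 := hl i hi
  simp only [Bool.and_eq_true, decide_eq_true_eq, beq_iff_eq] at h1
  obtain ⟨⟨hlen, hfix⟩, hpull⟩ := h1
  have hv := slp_valid h _ hlen
  refine ⟨hv, C3_le (slp_mem h _ hlen), ?_, ?_⟩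
  · have he : permD (nodes.getD i dnode).1.1 (nodes.getD i dnode).1.2 = permOf _ _ hv := by
      unfold permD
      rw [dif_pos hv]
    rw [he, smul_fsOf hv D hD, hpull]
  · intro j hj hFj
    unfold fixTab at hfix
    rw [List.all_eq_true] at hfix
    have h2 := hfix j (List.mem_range.mpr hj)
    rw [hFj] at h2
    simp only [Bool.not_true, Bool.false_or, beq_iff_eq] at h2
    rw [permD_apply hv]
    unfold tabFun
    rw [idx_ptN' j hj, h2]

end Cfsg.Agent.Lib_lead_M24Orb
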