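import Mathlib
import Cfsg.Prelude.Def_Sporadic_a
import Cfsg.Agent.Lib_lead_Golay
import Cfsg.Agent.Lib_lead_GolayPerm
import Cfsg.Agent.Lib_lead_M24
import Cfsg.Agent.Lib_lead_M24Chain
import Cfsg.Agent.Lib_lead_M12

/-! More general lemmas on stabilizers of sets of points. -/

set_option autoImplicit false

namespace Cfsg.Agent.Lib_lead_M24Orb2

open Cfsg Cfsg.Agent.Lib_lead_Golay Cfsg.Agent.Lib_lead_GolayPerm Cfsg.Agent.Lib_lead_M24
  Cfsg.Agent.Lib_lead_M24Chain Cfsg.Agent.Lib_lead_M12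
open scoped Pointwise

theorem stabD_mono {D F F' : ℕ}
    (h : ∀ z : Fin 24, F.testBit z.val = true → F'.testBit z.val = true) :
    stabD D F' ≤ stabD D F := by
  rintro g ⟨hg, hD, hF⟩
  exact ⟨hg, hD, fun j hj hbit => hF j hj (h ⟨j, hj⟩ hbit)⟩

theorem idx_ne' {y : GolayPt} {c : ℕ} (h : y ≠ ptN c) : idx y ≠ c :=
  fun heq => h (by rw [← heq, ptN_idx])

theorem popcAux_le (j n : ℕ) : popcAux j n ≤ j := by
  induction j with
  | zero => simp [popcAux]
  | succ j ih =>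
    simp only [popcAux]
    have h : (n >>> j) % 2 < 2 := Nat.mod_lt _ (by norm_num)
    omega

theorem popc_le (n : ℕ) : popc n ≤ 24 := popcAux_le 24 n

end Cfsg.Agent.Lib_lead_M24Orb2
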