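import Mathlib
import Cfsg.Prelude.Def_Sporadic_a
import Cfsg.Agent.Lib_lead_Golay
import Cfsg.Agent.Lib_lead_GolayPerm
import Cfsg.Agent.Lib_lead_M24
import Cfsg.Agent.Lib_lead_M24Data
import Cfsg.Agent.Lib_lead_M24Chain
import Cfsg.Agent.Lib_lead_M12
import Cfsg.Agent.Lib_lead_M24Orb
import Cfsg.Agent.Lib_lead_M24Orb2

/-! Transport of orbit statements and counts from a root configuration. -/

set_option autoImplicit false

namespace Cfsg.Agent.Lib_lead_M24Orb3

open Cfsg Cfsg.Agent.Lib_lead_Golay Cfsg.Agent.Lib_lead_GolayPerm Cfsg.Agent.Lib_lead_M24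
  Cfsg.Agent.Lib_lead_M24Data Cfsg.Agent.Lib_lead_M24Chain Cfsg.Agent.Lib_lead_M12
  Cfsg.Agent.Lib_lead_M24Orb Cfsg.Agent.Lib_lead_M24Orb2
open scoped Pointwise

theorem card_inter_smul (σ : Equiv.Perm GolayPt) (D m : ℕ) (hD : D < 2 ^ 24) :
    (σ • fsOf D ∩ σ • fsOf m).card = popc (D &&& m) := by
  rw [inter_smul, card_inter _ _ hD]

theorem mem_smul_root (σ : Equiv.Perm GolayPt) (b m : ℕ) (hb : b < 24) :
    σ (ptN b) ∈ σ • fsOf m ↔ m.testBit b = true := by
  rw [← ptN_mem_fsOf m b hb]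
  constructor
  · intro h
    rw [Finset.mem_smul_finset] at h
    obtain ⟨q, hq, hqe⟩ := h
    have : q = ptN b := σ.injective hqe
    rwa [← this]
  · intro h
    exact Finset.smul_mem_smul_finset h

theorem not_mem_smul_root (σ : Equiv.Perm GolayPt) (b m : ℕ) (hb : b < 24) :
    σ (ptN b) ∉ σ • fsOf m ↔ m.testBit b = false := by
  rw [mem_smul_root σ b m hb]
  simp

theorem conj_fix {σ τ : Equiv.Perm GolayPt} {b : ℕ} {x : GolayPt} (hτ : τ (ptN b) = ptN b)
    (hσ : σ (ptN b) = x) : (σ * τ * σ⁻¹) x = x := by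
  rw [← hσ, Equiv.Perm.mul_apply, Equiv.Perm.mul_apply, Equiv.Perm.inv_def,
    Equiv.symm_apply_apply, hτ]

theorem conj_stab {σ τ : Equiv.Perm GolayPt} {D : ℕ} {o : Finset GolayPt}
    (hτ : τ • fsOf D = fsOf D) (hσ : σ • fsOf D = o) : (σ * τ * σ⁻¹) • o = o := by
  apply smul_conj
  rw [← hσ, inv_smul_smul]
  exact hτ

/-- every word of weight `n` is `σ • fsOf (M k)` -/
theorem exists_root {σ : Equiv.Perm GolayPt} (hσ : σ ∈ M24) {n : ℕ} {o : Finset GolayPt}
    (ho : o ∈ wordsOfWeight (golayCode : Set (GolayPt → ZMod 2)) n) :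
    ∃ k < 4096, popc (M k) = n ∧ o = σ • fsOf (M k) := by
  obtain ⟨k, hk, hp, he⟩ := weight_eq (smul_mem_weight (M24.inv_mem hσ) ho)
  exact ⟨k, hk, hp, by rw [← he, smul_inv_smul]⟩

/-- transport of an orbit statement from the root configuration -/
theorem orbit_transport {K : Subgroup (Equiv.Perm GolayPt)} {σ τ : Equiv.Perm GolayPt}
    {m m' : ℕ} (_hτ : τ ∈ K) (hτe : τ • fsOf m = fsOf m') :
    (σ * τ * σ⁻¹) • (σ • fsOf m) = σ • fsOf m' := by
  apply smul_conj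
  rw [inv_smul_smul, inv_smul_smul]
  exact hτe

theorem ncard_root {σ : Equiv.Perm GolayPt} (hσ : σ ∈ M24) (n : ℕ)
    (P : Finset GolayPt → Prop) (P' : ℕ → Prop) [DecidablePred P']
    (h : ∀ k < 4096, popc (M k) = n → (P (σ • fsOf (M k)) ↔ P' (M k))) :
    {o : Finset GolayPt | o ∈ wordsOfWeight (golayCode : Set (GolayPt → ZMod 2)) n ∧ P o}.ncard
      = ((Finset.range 4096).filter (fun k => popc (M k) = n ∧ P' (M k))).card :=
  (ncard_transport hσ n P (fun o => P (σ • o)) (fun _ => Iff.rfl)).trans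
    (ncard_words n _ P' h)

end Cfsg.Agent.Lib_lead_M24Orb3
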