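import Mathlib
import Cfsg.Prelude.Def_Sporadic_a
import Cfsg.Agent.Lib_lead_Golay
import Cfsg.Agent.Lib_lead_GolayPerm
import Cfsg.Agent.Lib_lead_M24
import Cfsg.Agent.Lib_lead_M24Data
import Cfsg.Agent.Lib_lead_M24Chain
import Cfsg.Agent.Lib_lead_M24Oct
import Cfsg.Agent.Lib_lead_M12
import Cfsg.Agent.Lib_lead_M24Orb
import Cfsg.Agent.Lib_lead_M24Orb2
import Cfsg.Agent.Lib_lead_M24Orb3
import Cfsg.Agent.Lib_lead_OctChain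

/-! Root configurations: an octad together with points on it or off it. -/

set_option autoImplicit false

namespace Cfsg.Agent.Lib_lead_OctConfig

open Cfsg Cfsg.Agent.Lib_lead_Golay Cfsg.Agent.Lib_lead_GolayPerm Cfsg.Agent.Lib_lead_M24
  Cfsg.Agent.Lib_lead_M24Data Cfsg.Agent.Lib_lead_M24Chain Cfsg.Agent.Lib_lead_M12
  Cfsg.Agent.Lib_lead_M24Orb Cfsg.Agent.Lib_lead_M24Orb2 Cfsg.Agent.Lib_lead_M24Orb3
  Cfsg.Agent.Lib_lead_OctChain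
open scoped Pointwise

theorem exists_sigma8 (o : Finset GolayPt) (ho : o ∈ octads) :
    ∃ σ ∈ M24, σ • fsOf 3277413 = o := by
  obtain ⟨σ, hσ⟩ := octads_trans _ o Cfsg.Agent.Lib_lead_M24Oct.root_octad ho
  exact ⟨σ.1, σ.2, hσ⟩

theorem bit_iff8 {σ : Equiv.Perm GolayPt} {o : Finset GolayPt} (hσo : σ • fsOf 3277413 = o)
    (p : GolayPt) : (3277413 : ℕ).testBit (idx (σ⁻¹ p)) = true ↔ p ∈ o := by
  rw [← mem_fsOf, ← hσo, ← Finset.inv_smul_mem_iff]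
  rfl

theorem bit_false8 {σ : Equiv.Perm GolayPt} {o : Finset GolayPt} (hσo : σ • fsOf 3277413 = o)
    (p : GolayPt) (hp : p ∉ o) : (3277413 : ℕ).testBit (idx (σ⁻¹ p)) = false := by
  rw [← bit_iff8 hσo] at hp
  simpa using hp

/-- adjusting a transporting permutation by an element of the root stabilizer -/
theorem config_of {σ τ : Equiv.Perm GolayPt} {o : Finset GolayPt} (hσ : σ ∈ M24)
    (hσo : σ • fsOf 3277413 = o) (hτ : τ ∈ stabD 3277413 0) :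
    σ * τ⁻¹ ∈ M24 ∧ (σ * τ⁻¹) • fsOf 3277413 = o ∧
      ∀ (x : GolayPt) (b : ℕ), τ (σ⁻¹ x) = ptN b → (σ * τ⁻¹) (ptN b) = x := by
  refine ⟨M24.mul_mem hσ (M24.inv_mem hτ.1), ?_, ?_⟩
  · rw [mul_smul, inv_smul_eq_iff.mpr hτ.2.1.symm, hσo]
  · intro x b h
    rw [Equiv.Perm.mul_apply, ← h, Equiv.Perm.inv_def τ, Equiv.symm_apply_apply,
      Equiv.Perm.inv_def σ, Equiv.apply_symm_apply]

theorem config1 (o : Finset GolayPt) (ho : o ∈ octads) (x : GolayPt) (hx : x ∈ o) :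
    ∃ σ ∈ M24, σ • fsOf 3277413 = o ∧ σ (ptN 0) = x := by
  obtain ⟨σ, hσ, hσo⟩ := exists_sigma8 o ho
  obtain ⟨τ, hτ, h1⟩ := oA1 (σ⁻¹ x) ((bit_iff8 hσo x).mpr hx)
  obtain ⟨hM, ho', hmap⟩ := config_of hσ hσo hτ
  exact ⟨_, hM, ho', hmap x 0 h1⟩

theorem config1' (o : Finset GolayPt) (ho : o ∈ octads) (x : GolayPt) (hx : x ∉ o) :
    ∃ σ ∈ M24, σ • fsOf 3277413 = o ∧ σ (ptN 1) = x := by
  obtain ⟨σ, hσ, hσo⟩ := exists_sigma8 o ho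
  obtain ⟨τ, hτ, h1⟩ := oB0 (σ⁻¹ x) (bit_false8 hσo x hx)
  obtain ⟨hM, ho', hmap⟩ := config_of hσ hσo hτ
  exact ⟨_, hM, ho', hmap x 1 h1⟩

theorem config2 (o : Finset GolayPt) (ho : o ∈ octads) (p q : GolayPt) (hp : p ∈ o)
    (hq : q ∈ o) (hpq : p ≠ q) :
    ∃ σ ∈ M24, σ • fsOf 3277413 = o ∧ σ (ptN 0) = p ∧ σ (ptN 2) = q := by
  obtain ⟨σ, hσ, hσo⟩ := exists_sigma8 o ho
  obtain ⟨τ, hτ, h1, h2⟩ := oA2 (σ⁻¹ p) (σ⁻¹ q) ((bit_iff8 hσo p).mpr hp)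
    ((bit_iff8 hσo q).mpr hq) (fun h => hpq (σ⁻¹.injective h))
  obtain ⟨hM, ho', hmap⟩ := config_of hσ hσo hτ
  exact ⟨_, hM, ho', hmap p 0 h1, hmap q 2 h2⟩

theorem config11 (o : Finset GolayPt) (ho : o ∈ octads) (p q : GolayPt) (hp : p ∈ o)
    (hq : q ∉ o) :
    ∃ σ ∈ M24, σ • fsOf 3277413 = o ∧ σ (ptN 0) = p ∧ σ (ptN 1) = q := by
  obtain ⟨σ, hσ, hσo⟩ := exists_sigma8 o ho
  obtain ⟨τ, hτ, h1, h2⟩ := oB1 (σ⁻¹ p) (σ⁻¹ q) ((bit_iff8 hσo p).mpr hp)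
    (bit_false8 hσo q hq)
  obtain ⟨hM, ho', hmap⟩ := config_of hσ hσo hτ
  exact ⟨_, hM, ho', hmap p 0 h1, hmap q 1 h2⟩

theorem config21 (o : Finset GolayPt) (ho : o ∈ octads) (p q r : GolayPt) (hp : p ∈ o)
    (hq : q ∈ o) (hpq : p ≠ q) (hr : r ∉ o) :
    ∃ σ ∈ M24, σ • fsOf 3277413 = o ∧ σ (ptN 0) = p ∧ σ (ptN 2) = q ∧ σ (ptN 1) = r := by
  obtain ⟨σ, hσ, hσo⟩ := exists_sigma8 o ho
  obtain ⟨τ, hτ, h1, h2, h3⟩ := oB2 (σ⁻¹ p) (σ⁻¹ q) (σ⁻¹ r) ((bit_iff8 hσo p).mpr hp)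
    ((bit_iff8 hσo q).mpr hq) (bit_false8 hσo r hr) (fun h => hpq (σ⁻¹.injective h))
  obtain ⟨hM, ho', hmap⟩ := config_of hσ hσo hτ
  exact ⟨_, hM, ho', hmap p 0 h1, hmap q 2 h2, hmap r 1 h3⟩

end Cfsg.Agent.Lib_lead_OctConfig
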