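import Mathlib
import Cfsg.Prelude.Def_Sporadic_a
import Cfsg.Agent.Lib_lead_Golay
import Cfsg.Agent.Lib_lead_GolayPerm
import Cfsg.Agent.Lib_lead_M24
import Cfsg.Agent.Lib_lead_M24Data
import Cfsg.Agent.Lib_lead_M24Chain
import Cfsg.Agent.Lib_lead_M12
import Cfsg.Agent.Lib_lead_M24Orb
import Cfsg.Agent.Lib_lead_M24Orb2
import Cfsg.Agent.Lib_lead_M24Orb3
import Cfsg.Agent.Lib_lead_OctConfig
import Cfsg.Agent.Lib_lead_OrbOctData
import Cfsg.Agent.Lib_lead_Coatom

/-! Orbits of an octad stabilizer on the octads, and its maximality. -/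

set_option autoImplicit false

namespace Cfsg.Agent.Lib_lead_OrbOct

open Cfsg Cfsg.Agent.Lib_lead_Golay Cfsg.Agent.Lib_lead_GolayPerm Cfsg.Agent.Lib_lead_M24
  Cfsg.Agent.Lib_lead_M24Data Cfsg.Agent.Lib_lead_M24Chain Cfsg.Agent.Lib_lead_M12
  Cfsg.Agent.Lib_lead_M24Orb Cfsg.Agent.Lib_lead_M24Orb2 Cfsg.Agent.Lib_lead_M24Orb3
  Cfsg.Agent.Lib_lead_OctConfig Cfsg.Agent.Lib_lead_OrbOctData
open scoped Pointwise

theorem root_orbit (k k' : ℕ) (hk : k < 4096) (hk' : k' < 4096)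
    (hc : cls (M k) = cls (M k')) (hne : cls (M k) ≠ 99) :
    ∃ τ ∈ stabD 3277413 0, τ • fsOf (M k) = fsOf (M k') := by
  apply same_class _ gens gens_mem T cls roots T_ok k k' hk hk' hc
  have hlen : roots.length = 25 := by decide
  rw [hlen]
  unfold cls at hne ⊢
  split_ifs at hne ⊢ with h
  · exact lt_of_le_of_lt (popc_le _) (by norm_num)
  · exact absurd rfl hne

/-- two octads meeting an octad in equally many points are in one orbit of its stabilizer -/
theorem orbit_thm (o o' o'' : Finset GolayPt) (ho : o ∈ octads) (ho' : o' ∈ octads)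
    (ho'' : o'' ∈ octads) (h : (o ∩ o').card = (o ∩ o'').card) :
    ∃ g : Equiv.Perm GolayPt, g ∈ M24 ∧ g • o = o ∧ g • o' = o'' := by
  obtain ⟨σ, hσ, hσo⟩ := exists_sigma8 o ho
  obtain ⟨k', hk', hp', rfl⟩ := exists_root hσ ho'
  obtain ⟨k'', hk'', hp'', rfl⟩ := exists_root hσ ho''
  subst hσo
  rw [card_inter_smul _ _ _ (by norm_num), card_inter_smul _ _ _ (by norm_num)] at h
  obtain ⟨τ, hτ, hτe⟩ := root_orbit k' k'' hk' hk''
    (by unfold cls; rw [if_pos hp', if_pos hp'', h])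
    (by
      unfold cls
      rw [if_pos hp']
      have := popc_le (3277413 &&& M k')
      omega)
  exact ⟨σ * τ * σ⁻¹, M24.mul_mem (M24.mul_mem hσ hτ.1) (M24.inv_mem hσ),
    conj_stab hτ.2.1 rfl, orbit_transport hτ hτe⟩

theorem ncard_cls (o : Finset GolayPt) (ho : o ∈ octads) (j : ℕ) :
    {o' : Finset GolayPt | o' ∈ octads ∧ (o ∩ o').card = j}.ncard
      = ((Finset.range 4096).filter
          (fun k => popc (M k) = 8 ∧ (popc (3277413 &&& M k) = j))).card := by
  obtain ⟨σ, hσ, hσo⟩ := exists_sigma8 o ho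
  subst hσo
  exact ncard_root hσ 8 (fun o' => (σ • fsOf 3277413 ∩ o').card = j)
    (fun m => popc (3277413 &&& m) = j) (fun k _ _ => by
      show (σ • fsOf 3277413 ∩ σ • fsOf (M k)).card = j ↔ _
      rw [card_inter_smul _ _ _ (by norm_num)])

theorem sizes8 : ∀ k < 4096, popc (M k) = 8 → M k ≠ 3277413 →
    (popc (3277413 &&& M k) = 0 ∨ popc (3277413 &&& M k) = 2 ∨ popc (3277413 &&& M k) = 4) :=
  forall_of_card_filter (by decide +kernel)

/-- two distinct octads meet in 0, 2 or 4 points -/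
theorem inter_sizes (o o' : Finset GolayPt) (ho : o ∈ octads) (ho' : o' ∈ octads)
    (hne : o' ≠ o) : (o ∩ o').card = 0 ∨ (o ∩ o').card = 2 ∨ (o ∩ o').card = 4 := by
  obtain ⟨σ, hσ, hσo⟩ := exists_sigma8 o ho
  obtain ⟨k', hk', hp', rfl⟩ := exists_root hσ ho'
  subst hσo
  rw [card_inter_smul _ _ _ (by norm_num)]
  apply sizes8 k' hk' hp'
  intro hM
  apply hne
  rw [hM]

/-- the three classes of octads relative to a given one -/
noncomputable def Cl (o : Finset GolayPt) (j : Fin 3) : Finset (Finset GolayPt) := by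
  classical
  exact Finset.univ.filter (fun o' => o' ∈ octads ∧ (o ∩ o').card = 2 * j.val)

theorem mem_Cl (o o' : Finset GolayPt) (j : Fin 3) :
    o' ∈ Cl o j ↔ o' ∈ octads ∧ (o ∩ o').card = 2 * j.val := by
  classical
  unfold Cl
  simp

theorem card_Cl (o : Finset GolayPt) (ho : o ∈ octads) (j : Fin 3) :
    (Cl o j).card = ![30, 448, 280] j := by
  have h1 : ((Cl o j : Finset (Finset GolayPt)) : Set (Finset GolayPt))
      = {o' : Finset GolayPt | o' ∈ octads ∧ (o ∩ o').card = 2 * j.val} := by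
    ext o'
    rw [Finset.mem_coe, mem_Cl]
    rfl
  rw [← Set.ncard_coe_finset, h1, ncard_cls o ho]
  fin_cases j
  · exact cnt0
  · exact cnt2
  · exact cnt4

/-- the stabilizer of an octad is a maximal subgroup -/
theorem coatom (o : Finset GolayPt) (ho : o ∈ octads) :
    IsCoatom (MulAction.stabilizer M24 o) := by
  classical
  apply Cfsg.Agent.Lib_lead_Coatom.coatom_of_orbits o (Cl o) ![30, 448, 280] (card_Cl o ho)
  · rintro x ⟨g, rfl⟩ hne
    have hx : (g : Equiv.Perm GolayPt) • o ∈ octads := smul_mem_weight g.2 ho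
    rcases inter_sizes o _ ho hx hne with h | h | h
    · exact ⟨0, (mem_Cl _ _ _).mpr ⟨hx, h⟩⟩
    · exact ⟨1, (mem_Cl _ _ _).mpr ⟨hx, h⟩⟩
    · exact ⟨2, (mem_Cl _ _ _).mpr ⟨hx, h⟩⟩
  · intro j x hx
    rw [mem_Cl] at hx
    refine ⟨?_, ?_⟩
    · obtain ⟨g, hg⟩ := octads_trans o x ho hx.1
      exact ⟨g, hg⟩
    · rintro rfl
      have h8 : x.card = 8 := ho.2
      rw [Finset.inter_self, h8] at hx
      have := j.2
      omega
  · intro i j hij
    rw [Finset.disjoint_left]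
    intro x hxi hxj
    rw [mem_Cl] at hxi hxj
    apply hij
    ext
    omega
  · intro j x hx y hy
    rw [mem_Cl] at hx hy
    obtain ⟨g, hg, hgo, hgx⟩ := orbit_thm o x y ho hx.1 hy.1 (by rw [hx.2, hy.2])
    exact ⟨⟨g, hg⟩, hgo, hgx⟩
  · decide
  · decide

end Cfsg.Agent.Lib_lead_OrbOct
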