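import Mathlib
import Cfsg.Prelude.Def_Sporadic_a
import Cfsg.Agent.Lib_lead_Golay
import Cfsg.Agent.Lib_lead_GolayPerm
import Cfsg.Agent.Lib_lead_M24
import Cfsg.Agent.Lib_lead_M24Data
import Cfsg.Agent.Lib_lead_M24Chain
import Cfsg.Agent.Lib_lead_M24Oct
import Cfsg.Agent.Lib_lead_M12

/-! Stabilizer chains for the stabilizer of the dodecad with mask `340831`
(points `0, 1, 2, 3, 4, 6, 8, 9, 12, 13, 16, 18`). -/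

set_option autoImplicit false

namespace Cfsg.Agent.Lib_lead_M12Data

open Cfsg Cfsg.Agent.Lib_lead_Golay Cfsg.Agent.Lib_lead_GolayPerm Cfsg.Agent.Lib_lead_M24
  Cfsg.Agent.Lib_lead_M24Chain Cfsg.Agent.Lib_lead_M12
open scoped Pointwise

set_option maxRecDepth 100000 in
/-- straight-line program -/
def nodes : List Node :=
  [(([1, 2, 3, 4, 5, 6, 7, 8, 9, 10, 11, 12, 13, 14, 15, 16, 17, 18, 19, 20, 21, 22, 0, 23], [22, 0, 1, 2, 3, 4, 5, 6, 7, 8, 9, 10, 11, 12, 13, 14, 15, 16, 17, 18, 19, 20, 21, 23]), (0, 0, 0)),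
   (([23, 22, 11, 15, 17, 9, 19, 13, 20, 5, 16, 2, 21, 7, 18, 3, 10, 4, 14, 6, 8, 12, 1, 0], [23, 22, 11, 15, 17, 9, 19, 13, 20, 5, 16, 2, 21, 7, 18, 3, 10, 4, 14, 6, 8, 12, 1, 0]), (0, 1, 0)),
   (([0, 18, 6, 3, 2, 21, 1, 5, 16, 12, 7, 19, 8, 9, 17, 15, 13, 11, 4, 22, 10, 20, 14, 23], [0, 6, 4, 3, 18, 7, 2, 10, 12, 13, 20, 17, 9, 16, 22, 15, 8, 14, 1, 11, 21, 5, 19, 23]), (0, 2, 0)),
   (([0, 1, 2, 3, 4, 5, 6, 7, 8, 9, 10, 11, 12, 13, 14, 15, 16, 17, 18, 19, 20, 21, 22, 23], [0, 1, 2, 3, 4, 5, 6, 7, 8, 9, 10, 11, 12, 13, 14, 15, 16, 17, 18, 19, 20, 21, 22, 23]), (1, 1, 1)),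
   (([2, 3, 4, 5, 6, 7, 8, 9, 10, 11, 12, 13, 14, 15, 16, 17, 18, 19, 20, 21, 22, 0, 1, 23], [21, 22, 0, 1, 2, 3, 4, 5, 6, 7, 8, 9, 10, 11, 12, 13, 14, 15, 16, 17, 18, 19, 20, 23]), (1, 0, 0)),
   (([22, 11, 15, 17, 9, 19, 13, 20, 5, 16, 2, 21, 7, 18, 3, 10, 4, 14, 6, 8, 12, 1, 23, 0], [23, 21, 10, 14, 16, 8, 18, 12, 19, 4, 15, 1, 20, 6, 17, 2, 9, 3, 13, 5, 7, 11, 0, 22]), (1, 1, 0)),
   (([18, 6, 3, 2, 21, 1, 5, 16, 12, 7, 19, 8, 9, 17, 15, 13, 11, 4, 22, 10, 20, 14, 0, 23], [22, 5, 3, 2, 17, 6, 1, 9, 11, 12, 19, 16, 8, 15, 21, 14, 7, 13, 0, 10, 20, 4, 18, 23]), (1, 2, 0)),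
   (([23, 0, 12, 16, 18, 10, 20, 14, 21, 6, 17, 3, 22, 8, 19, 4, 11, 5, 15, 7, 9, 13, 2, 1], [1, 23, 22, 11, 15, 17, 9, 19, 13, 20, 5, 16, 2, 21, 7, 18, 3, 10, 4, 14, 6, 8, 12, 0]), (1, 0, 1)),
   (([3, 4, 5, 6, 7, 8, 9, 10, 11, 12, 13, 14, 15, 16, 17, 18, 19, 20, 21, 22, 0, 1, 2, 23], [20, 21, 22, 0, 1, 2, 3, 4, 5, 6, 7, 8, 9, 10, 11, 12, 13, 14, 15, 16, 17, 18, 19, 23]), (1, 0, 4)),
   (([11, 15, 17, 9, 19, 13, 20, 5, 16, 2, 21, 7, 18, 3, 10, 4, 14, 6, 8, 12, 1, 23, 22, 0], [23, 20, 9, 13, 15, 7, 17, 11, 18, 3, 14, 0, 19, 5, 16, 1, 8, 2, 12, 4, 6, 10, 22, 21]), (1, 1, 4)),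
   (([0, 12, 16, 18, 10, 20, 14, 21, 6, 17, 3, 22, 8, 19, 4, 11, 5, 15, 7, 9, 13, 2, 23, 1], [0, 23, 21, 10, 14, 16, 8, 18, 12, 19, 4, 15, 1, 20, 6, 17, 2, 9, 3, 13, 5, 7, 11, 22]), (1, 0, 5)),
   (([14, 19, 15, 11, 12, 22, 9, 10, 21, 13, 6, 20, 5, 4, 3, 7, 2, 17, 1, 16, 8, 18, 23, 0], [23, 18, 16, 14, 13, 12, 10, 15, 20, 6, 7, 3, 4, 9, 0, 2, 19, 17, 21, 1, 11, 8, 5, 22]), (1, 2, 5)),
   (([19, 7, 4, 3, 22, 2, 6, 17, 13, 8, 20, 9, 10, 18, 16, 14, 12, 5, 0, 11, 21, 15, 1, 23], [18, 22, 5, 3, 2, 17, 6, 1, 9, 11, 12, 19, 16, 8, 15, 21, 14, 7, 13, 0, 10, 20, 4, 23]), (1, 0, 6)),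
   (([23, 1, 13, 17, 19, 11, 21, 15, 22, 7, 18, 4, 0, 9, 20, 5, 12, 6, 16, 8, 10, 14, 3, 2], [12, 1, 23, 22, 11, 15, 17, 9, 19, 13, 20, 5, 16, 2, 21, 7, 18, 3, 10, 4, 14, 6, 8, 0]), (1, 0, 7)),
   (([4, 5, 6, 7, 8, 9, 10, 11, 12, 13, 14, 15, 16, 17, 18, 19, 20, 21, 22, 0, 1, 2, 3, 23], [19, 20, 21, 22, 0, 1, 2, 3, 4, 5, 6, 7, 8, 9, 10, 11, 12, 13, 14, 15, 16, 17, 18, 23]), (1, 0, 8)),
   (([3, 2, 21, 1, 5, 16, 12, 7, 19, 8, 9, 17, 15, 13, 11, 4, 22, 10, 20, 14, 0, 18, 6, 23], [20, 3, 1, 0, 15, 4, 22, 7, 9, 10, 17, 14, 6, 13, 19, 12, 5, 11, 21, 8, 18, 2, 16, 23]), (1, 2, 8)),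
   (([19, 15, 11, 12, 22, 9, 10, 21, 13, 6, 20, 5, 4, 3, 7, 2, 17, 1, 16, 8, 18, 23, 14, 0], [23, 17, 15, 13, 12, 11, 9, 14, 19, 5, 6, 2, 3, 8, 22, 1, 18, 16, 20, 0, 10, 7, 4, 21]), (1, 2, 9)),
   (([1, 13, 17, 19, 11, 21, 15, 22, 7, 18, 4, 0, 9, 20, 5, 12, 6, 16, 8, 10, 14, 3, 23, 2], [11, 0, 23, 21, 10, 14, 16, 8, 18, 12, 19, 4, 15, 1, 20, 6, 17, 2, 9, 3, 13, 5, 7, 22]), (1, 0, 10)),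
   (([15, 20, 16, 12, 13, 0, 10, 11, 22, 14, 7, 21, 6, 5, 4, 8, 3, 18, 2, 17, 9, 19, 23, 1], [5, 23, 18, 16, 14, 13, 12, 10, 15, 20, 6, 7, 3, 4, 9, 0, 2, 19, 17, 21, 1, 11, 8, 22]), (1, 0, 11)),
   (([20, 8, 5, 4, 0, 3, 7, 18, 14, 9, 21, 10, 11, 19, 17, 15, 13, 6, 1, 12, 22, 16, 2, 23], [4, 18, 22, 5, 3, 2, 17, 6, 1, 9, 11, 12, 19, 16, 8, 15, 21, 14, 7, 13, 0, 10, 20, 23]), (1, 0, 12)),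
   (([22, 5, 2, 3, 14, 6, 1, 11, 9, 16, 10, 12, 7, 4, 13, 17, 8, 21, 0, 19, 20, 15, 18, 23], [18, 6, 2, 3, 13, 1, 5, 12, 16, 8, 10, 7, 11, 14, 4, 21, 9, 15, 22, 19, 20, 17, 0, 23]), (1, 2, 12)),
   (([0, 22, 7, 4, 6, 2, 12, 3, 1, 13, 14, 17, 23, 5, 8, 9, 21, 19, 10, 20, 16, 18, 15, 11], [0, 8, 5, 7, 3, 13, 4, 2, 14, 15, 18, 23, 6, 9, 10, 22, 20, 11, 21, 17, 19, 16, 1, 12]), (1, 1, 13)),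
   (([5, 6, 7, 8, 9, 10, 11, 12, 13, 14, 15, 16, 17, 18, 19, 20, 21, 22, 0, 1, 2, 3, 4, 23], [18, 19, 20, 21, 22, 0, 1, 2, 3, 4, 5, 6, 7, 8, 9, 10, 11, 12, 13, 14, 15, 16, 17, 23]), (1, 0, 14)),
   (([17, 9, 19, 13, 20, 5, 16, 2, 21, 7, 18, 3, 10, 4, 14, 6, 8, 12, 1, 23, 22, 11, 15, 0], [23, 18, 7, 11, 13, 5, 15, 9, 16, 1, 12, 21, 17, 3, 14, 22, 6, 0, 10, 2, 4, 8, 20, 19]), (1, 1, 14)),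
   (([3, 6, 20, 18, 21, 13, 8, 5, 22, 16, 12, 11, 15, 9, 19, 2, 14, 7, 10, 17, 0, 4, 1, 23], [20, 22, 15, 0, 21, 7, 1, 17, 6, 13, 18, 11, 10, 5, 16, 12, 9, 19, 3, 14, 2, 4, 8, 23]), (1, 2, 15)),
   (([22, 15, 19, 8, 14, 12, 7, 20, 9, 1, 10, 21, 2, 3, 5, 6, 11, 18, 13, 16, 4, 23, 17, 0], [23, 9, 12, 13, 20, 14, 15, 6, 3, 8, 10, 16, 5, 18, 4, 1, 19, 22, 17, 2, 7, 11, 0, 21]), (1, 2, 16)),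
   (([2, 14, 18, 20, 12, 22, 16, 0, 8, 19, 5, 1, 10, 21, 6, 13, 7, 17, 9, 11, 15, 4, 23, 3], [7, 11, 0, 23, 21, 10, 14, 16, 8, 18, 12, 19, 4, 15, 1, 20, 6, 17, 2, 9, 3, 13, 5, 22]), (1, 0, 17)),
   (([22, 7, 4, 6, 2, 12, 3, 1, 13, 14, 17, 23, 5, 8, 9, 21, 19, 10, 20, 16, 18, 15, 0, 11], [22, 7, 4, 6, 2, 12, 3, 1, 13, 14, 17, 23, 5, 8, 9, 21, 19, 10, 20, 16, 18, 15, 0, 11]), (1, 1, 17)),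
   (([15, 10, 13, 8, 9, 0, 7, 19, 14, 17, 5, 20, 1, 21, 2, 16, 3, 4, 6, 11, 12, 22, 23, 18], [5, 12, 14, 16, 17, 10, 18, 6, 3, 4, 1, 19, 20, 2, 8, 0, 15, 9, 23, 7, 11, 13, 21, 22]), (1, 2, 18)),
   (([10, 16, 21, 2, 0, 3, 5, 4, 17, 12, 20, 7, 19, 22, 11, 15, 9, 1, 18, 8, 14, 13, 6, 23], [4, 17, 3, 5, 7, 6, 22, 11, 19, 16, 0, 14, 9, 21, 20, 15, 1, 8, 18, 12, 10, 2, 13, 23]), (1, 2, 19)),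
   (([0, 6, 3, 4, 15, 7, 2, 12, 10, 17, 11, 13, 8, 5, 14, 18, 9, 22, 1, 20, 21, 16, 19, 23], [0, 18, 6, 2, 3, 13, 1, 5, 12, 16, 8, 10, 7, 11, 14, 4, 21, 9, 15, 22, 19, 20, 17, 23]), (1, 0, 20)),
   (([1, 0, 8, 5, 7, 3, 13, 4, 2, 14, 15, 18, 23, 6, 9, 10, 22, 20, 11, 21, 17, 19, 16, 12], [1, 0, 8, 5, 7, 3, 13, 4, 2, 14, 15, 18, 23, 6, 9, 10, 22, 20, 11, 21, 17, 19, 16, 12]), (1, 0, 21)),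
   (([21, 1, 5, 16, 12, 7, 19, 8, 9, 17, 15, 13, 11, 4, 22, 10, 20, 14, 0, 18, 6, 3, 2, 23], [18, 1, 22, 21, 13, 2, 20, 5, 7, 8, 15, 12, 4, 11, 17, 10, 3, 9, 19, 6, 16, 0, 14, 23]), (1, 2, 22)),
   (([18, 10, 20, 14, 21, 6, 17, 3, 22, 8, 19, 4, 11, 5, 15, 7, 9, 13, 2, 23, 0, 12, 16, 1], [20, 23, 18, 7, 11, 13, 5, 15, 9, 16, 1, 12, 21, 17, 3, 14, 22, 6, 0, 10, 2, 4, 8, 19]), (1, 0, 23)),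
   (([3, 1, 10, 4, 20, 9, 16, 21, 14, 13, 8, 19, 15, 12, 22, 6, 17, 5, 7, 11, 0, 2, 18, 23], [20, 1, 21, 0, 3, 17, 15, 18, 10, 5, 2, 19, 13, 9, 8, 12, 6, 16, 22, 11, 4, 7, 14, 23]), (1, 2, 24)),
   (([0, 16, 20, 9, 15, 13, 8, 21, 10, 2, 11, 22, 3, 4, 6, 7, 12, 19, 14, 17, 5, 23, 18, 1], [0, 23, 9, 12, 13, 20, 14, 15, 6, 3, 8, 10, 16, 5, 18, 4, 1, 19, 22, 17, 2, 7, 11, 21]), (1, 0, 25)),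
   (([3, 15, 19, 21, 13, 0, 17, 1, 9, 20, 6, 2, 11, 22, 7, 14, 8, 18, 10, 12, 16, 5, 23, 4], [5, 7, 11, 0, 23, 21, 10, 14, 16, 8, 18, 12, 19, 4, 15, 1, 20, 6, 17, 2, 9, 3, 13, 22]), (1, 0, 26)),
   (([11, 18, 14, 8, 21, 1, 10, 23, 20, 6, 9, 22, 16, 12, 19, 7, 13, 4, 5, 2, 3, 17, 0, 15], [22, 5, 19, 20, 17, 18, 9, 15, 3, 10, 6, 0, 13, 16, 2, 23, 12, 21, 1, 14, 8, 4, 11, 7]), (1, 1, 26)),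
   (([0, 8, 5, 7, 3, 13, 4, 2, 14, 15, 18, 23, 6, 9, 10, 22, 20, 11, 21, 17, 19, 16, 1, 12], [0, 22, 7, 4, 6, 2, 12, 3, 1, 13, 14, 17, 23, 5, 8, 9, 21, 19, 10, 20, 16, 18, 15, 11]), (1, 0, 27)),
   (([14, 5, 2, 1, 6, 8, 3, 18, 9, 17, 11, 23, 21, 16, 12, 20, 22, 7, 10, 13, 4, 15, 0, 19], [22, 3, 2, 6, 20, 1, 4, 17, 5, 8, 18, 10, 14, 19, 0, 21, 13, 9, 7, 23, 15, 12, 16, 11]), (1, 2, 27)),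
   (([16, 11, 14, 9, 10, 1, 8, 20, 15, 18, 6, 21, 2, 22, 3, 17, 4, 5, 7, 12, 13, 0, 23, 19], [21, 5, 12, 14, 16, 17, 10, 18, 6, 3, 4, 1, 19, 20, 2, 8, 0, 15, 9, 23, 7, 11, 13, 22]), (1, 0, 28)),
   (([7, 13, 20, 6, 0, 3, 21, 2, 11, 8, 10, 5, 22, 14, 19, 15, 12, 18, 4, 16, 17, 9, 1, 23], [4, 22, 7, 5, 18, 11, 3, 0, 9, 21, 10, 8, 16, 1, 13, 15, 19, 20, 17, 14, 2, 6, 12, 23]), (1, 2, 29)),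
   (([1, 7, 4, 5, 16, 8, 3, 13, 11, 18, 12, 14, 9, 6, 15, 19, 10, 0, 2, 21, 22, 17, 20, 23], [17, 0, 18, 6, 2, 3, 13, 1, 5, 12, 16, 8, 10, 7, 11, 14, 4, 21, 9, 15, 22, 19, 20, 23]), (1, 0, 30)),
   (([0, 1, 3, 2, 15, 5, 6, 8, 7, 11, 19, 9, 16, 21, 17, 4, 12, 14, 18, 10, 20, 13, 22, 23], [0, 1, 3, 2, 15, 5, 6, 8, 7, 11, 19, 9, 16, 21, 17, 4, 12, 14, 18, 10, 20, 13, 22, 23]), (1, 2, 30)),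
   (([18, 0, 16, 21, 5, 3, 9, 2, 6, 17, 15, 4, 23, 1, 12, 7, 14, 10, 19, 20, 11, 22, 13, 8], [1, 13, 7, 5, 11, 4, 8, 15, 23, 6, 17, 20, 14, 22, 16, 10, 2, 9, 0, 18, 19, 3, 21, 12]), (1, 2, 31)),
   (([22, 2, 6, 17, 13, 8, 20, 9, 10, 18, 16, 14, 12, 5, 0, 11, 21, 15, 1, 19, 7, 4, 3, 23], [14, 18, 1, 22, 21, 13, 2, 20, 5, 7, 8, 15, 12, 4, 11, 17, 10, 3, 9, 19, 6, 16, 0, 23]), (1, 0, 32)),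
   (([19, 11, 21, 15, 22, 7, 18, 4, 0, 9, 20, 5, 12, 6, 16, 8, 10, 14, 3, 23, 1, 13, 17, 2], [8, 20, 23, 18, 7, 11, 13, 5, 15, 9, 16, 1, 12, 21, 17, 3, 14, 22, 6, 0, 10, 2, 4, 19]), (1, 0, 33)),
   (([3, 18, 7, 2, 10, 12, 13, 20, 17, 9, 16, 22, 15, 8, 14, 1, 11, 21, 5, 19, 0, 6, 4, 23], [20, 15, 3, 0, 22, 18, 21, 2, 13, 9, 4, 16, 5, 6, 14, 12, 10, 8, 1, 19, 7, 17, 11, 23]), (1, 2, 34)),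
   (([0, 13, 10, 12, 15, 9, 16, 20, 7, 6, 19, 14, 3, 2, 1, 5, 8, 22, 17, 11, 21, 23, 4, 18], [0, 14, 13, 12, 22, 15, 9, 8, 16, 5, 2, 19, 3, 1, 11, 4, 6, 18, 23, 10, 7, 20, 17, 21]), (1, 2, 35)),
   (([4, 16, 20, 22, 14, 1, 18, 2, 10, 21, 7, 3, 12, 0, 8, 15, 9, 19, 11, 13, 17, 6, 23, 5], [13, 5, 7, 11, 0, 23, 21, 10, 14, 16, 8, 18, 12, 19, 4, 15, 1, 20, 6, 17, 2, 9, 3, 22]), (1, 0, 36)),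
   (([15, 3, 6, 12, 7, 23, 4, 22, 5, 8, 19, 11, 2, 1, 13, 18, 20, 14, 16, 21, 10, 9, 0, 17], [22, 13, 12, 1, 6, 8, 2, 4, 9, 21, 20, 11, 3, 14, 17, 0, 18, 23, 15, 10, 16, 19, 7, 5]), (1, 1, 36)),
   (([12, 19, 15, 9, 22, 2, 11, 23, 21, 7, 10, 0, 17, 13, 20, 8, 14, 5, 6, 3, 4, 18, 1, 16], [11, 22, 5, 19, 20, 17, 18, 9, 15, 3, 10, 6, 0, 13, 16, 2, 23, 12, 21, 1, 14, 8, 4, 7]), (1, 0, 37)),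
   (([1, 9, 6, 8, 4, 14, 5, 3, 15, 16, 19, 23, 7, 10, 11, 0, 21, 12, 22, 18, 20, 17, 2, 13], [15, 0, 22, 7, 4, 6, 2, 12, 3, 1, 13, 14, 17, 23, 5, 8, 9, 21, 19, 10, 20, 16, 18, 11]), (1, 0, 38)),
   (([15, 6, 3, 2, 7, 9, 4, 19, 10, 18, 12, 23, 22, 17, 13, 21, 0, 8, 11, 14, 5, 16, 1, 20], [16, 22, 3, 2, 6, 20, 1, 4, 17, 5, 8, 18, 10, 14, 19, 0, 21, 13, 9, 7, 23, 15, 12, 11]), (1, 0, 39)),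
   (([13, 19, 17, 12, 7, 18, 16, 10, 15, 4, 1, 20, 6, 14, 3, 11, 2, 21, 5, 8, 9, 0, 23, 22], [21, 10, 16, 14, 9, 18, 12, 4, 19, 20, 7, 15, 3, 0, 13, 8, 6, 2, 5, 1, 11, 17, 23, 22]), (1, 2, 40)),
   (([8, 14, 21, 7, 1, 4, 22, 3, 12, 9, 11, 6, 0, 15, 20, 16, 13, 19, 5, 17, 18, 10, 2, 23], [12, 4, 22, 7, 5, 18, 11, 3, 0, 9, 21, 10, 8, 16, 1, 13, 15, 19, 20, 17, 14, 2, 6, 23]), (1, 0, 41)),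
   (([18, 5, 2, 21, 13, 16, 3, 9, 19, 4, 8, 17, 12, 1, 15, 22, 7, 0, 6, 20, 14, 11, 10, 23], [17, 13, 2, 6, 9, 1, 18, 16, 10, 7, 22, 21, 12, 4, 20, 14, 5, 11, 0, 8, 19, 3, 15, 23]), (1, 2, 42)),
   (([1, 2, 4, 3, 16, 6, 7, 9, 8, 12, 20, 10, 17, 22, 18, 5, 13, 15, 19, 11, 21, 14, 0, 23], [22, 0, 1, 3, 2, 15, 5, 6, 8, 7, 11, 19, 9, 16, 21, 17, 4, 12, 14, 18, 10, 20, 13, 23]), (1, 0, 43)),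
   (([19, 1, 17, 22, 6, 4, 10, 3, 7, 18, 16, 5, 23, 2, 13, 8, 15, 11, 20, 21, 12, 0, 14, 9], [21, 1, 13, 7, 5, 11, 4, 8, 15, 23, 6, 17, 20, 14, 22, 16, 10, 2, 9, 0, 18, 19, 3, 12]), (1, 0, 44)),
   (([14, 6, 1, 11, 9, 16, 10, 12, 7, 4, 13, 17, 8, 21, 0, 19, 20, 15, 18, 22, 5, 2, 3, 23], [14, 2, 21, 22, 9, 20, 1, 8, 12, 4, 6, 3, 7, 10, 0, 17, 5, 11, 18, 15, 16, 13, 19, 23]), (1, 2, 45)),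
   (([20, 12, 22, 16, 0, 8, 19, 5, 1, 10, 21, 6, 13, 7, 17, 9, 11, 15, 4, 23, 2, 14, 18, 3], [4, 8, 20, 23, 18, 7, 11, 13, 5, 15, 9, 16, 1, 12, 21, 17, 3, 14, 22, 6, 0, 10, 2, 19]), (1, 0, 46)),
   (([4, 19, 8, 3, 11, 13, 14, 21, 18, 10, 17, 0, 16, 9, 15, 2, 12, 22, 6, 20, 1, 7, 5, 23], [11, 20, 15, 3, 0, 22, 18, 21, 2, 13, 9, 4, 16, 5, 6, 14, 12, 10, 8, 1, 19, 7, 17, 23]), (1, 0, 47)),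
   (([1, 14, 11, 13, 16, 10, 17, 21, 8, 7, 20, 15, 4, 3, 2, 6, 9, 0, 18, 12, 22, 23, 5, 19], [17, 0, 14, 13, 12, 22, 15, 9, 8, 16, 5, 2, 19, 3, 1, 11, 4, 6, 18, 23, 10, 7, 20, 21]), (1, 0, 48)),
   (([17, 10, 8, 1, 18, 22, 14, 11, 16, 12, 13, 15, 21, 23, 20, 3, 5, 6, 2, 7, 4, 19, 0, 9], [22, 3, 18, 15, 20, 16, 17, 19, 2, 23, 1, 7, 9, 10, 6, 11, 8, 0, 4, 21, 14, 12, 5, 13]), (1, 1, 49)),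
   (([16, 4, 7, 13, 8, 23, 5, 0, 6, 9, 20, 12, 3, 2, 14, 19, 21, 15, 17, 22, 11, 10, 1, 18], [7, 22, 13, 12, 1, 6, 8, 2, 4, 9, 21, 20, 11, 3, 14, 17, 0, 18, 23, 15, 10, 16, 19, 5]), (1, 0, 50)),
   (([8, 22, 15, 12, 14, 6, 19, 23, 20, 5, 7, 0, 11, 9, 10, 16, 17, 21, 1, 3, 2, 4, 18, 13], [11, 18, 20, 19, 21, 9, 5, 10, 0, 13, 14, 12, 3, 23, 4, 2, 15, 16, 22, 6, 8, 17, 1, 7]), (1, 2, 51)),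
   (([2, 10, 7, 9, 5, 15, 6, 4, 16, 17, 20, 23, 8, 11, 12, 1, 22, 13, 0, 19, 21, 18, 3, 14], [18, 15, 0, 22, 7, 4, 6, 2, 12, 3, 1, 13, 14, 17, 23, 5, 8, 9, 21, 19, 10, 20, 16, 11]), (1, 0, 52)),
   (([3, 19, 15, 11, 13, 5, 17, 6, 16, 14, 21, 0, 1, 4, 7, 12, 23, 20, 2, 18, 9, 10, 22, 8], [11, 12, 18, 0, 13, 5, 7, 14, 23, 20, 21, 3, 15, 4, 9, 2, 8, 6, 19, 1, 17, 10, 22, 16]), (1, 1, 53)),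
   (([14, 20, 18, 13, 8, 19, 17, 11, 16, 5, 2, 21, 7, 15, 4, 12, 3, 22, 6, 9, 10, 1, 23, 0], [23, 21, 10, 16, 14, 9, 18, 12, 4, 19, 20, 7, 15, 3, 0, 13, 8, 6, 2, 5, 1, 11, 17, 22]), (1, 0, 54)),
   (([9, 15, 22, 8, 2, 5, 0, 4, 13, 10, 12, 7, 1, 16, 21, 17, 14, 20, 6, 18, 19, 11, 3, 23], [6, 12, 4, 22, 7, 5, 18, 11, 3, 0, 9, 21, 10, 8, 16, 1, 13, 15, 19, 20, 17, 14, 2, 23]), (1, 0, 55)),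
   (([4, 21, 6, 20, 9, 13, 3, 12, 22, 2, 16, 11, 8, 18, 15, 14, 5, 0, 1, 10, 17, 19, 7, 23], [17, 18, 9, 6, 0, 16, 2, 22, 12, 4, 19, 11, 7, 5, 15, 14, 10, 20, 13, 21, 3, 1, 8, 23]), (1, 2, 56)),
   (([22, 11, 17, 15, 10, 19, 13, 5, 20, 21, 8, 16, 4, 1, 14, 9, 7, 3, 6, 2, 12, 18, 23, 0], [23, 13, 19, 17, 12, 7, 18, 16, 10, 15, 4, 1, 20, 6, 14, 3, 11, 2, 21, 5, 8, 9, 0, 22]), (1, 1, 57)),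
   (([22, 18, 11, 14, 1, 2, 7, 3, 5, 4, 13, 21, 23, 6, 9, 16, 15, 19, 10, 20, 8, 0, 17, 12], [21, 4, 5, 7, 9, 8, 13, 6, 20, 14, 18, 2, 23, 10, 3, 16, 15, 22, 1, 17, 19, 11, 0, 12]), (1, 2, 58)),
   (([15, 7, 2, 12, 10, 17, 11, 13, 8, 5, 14, 18, 9, 22, 1, 20, 21, 16, 19, 0, 6, 3, 4, 23], [19, 14, 2, 21, 22, 9, 20, 1, 8, 12, 4, 6, 3, 7, 10, 0, 17, 5, 11, 18, 15, 16, 13, 23]), (1, 0, 59)),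
   (([8, 21, 1, 10, 23, 20, 6, 9, 22, 16, 12, 19, 7, 13, 4, 5, 2, 3, 17, 0, 11, 18, 14, 15], [19, 2, 16, 17, 14, 15, 6, 12, 0, 7, 3, 20, 10, 13, 22, 23, 9, 18, 21, 11, 5, 1, 8, 4]), (1, 1, 60)),
   (([10, 8, 14, 13, 0, 16, 22, 21, 18, 7, 20, 1, 9, 5, 11, 12, 19, 15, 2, 23, 6, 17, 4, 3], [4, 11, 18, 23, 22, 13, 20, 9, 1, 12, 0, 14, 15, 3, 2, 17, 5, 21, 8, 16, 10, 7, 6, 19]), (1, 2, 60)),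
   (([17, 6, 20, 15, 2, 7, 18, 12, 14, 16, 4, 23, 10, 5, 3, 11, 21, 1, 19, 8, 22, 13, 9, 0], [23, 17, 4, 14, 10, 13, 1, 5, 19, 22, 12, 15, 7, 21, 8, 3, 9, 0, 6, 18, 2, 16, 20, 11]), (1, 1, 61)),
   (([18, 17, 19, 9, 13, 7, 11, 20, 16, 5, 10, 15, 2, 3, 6, 1, 12, 0, 4, 8, 14, 23, 21, 22], [17, 15, 12, 13, 18, 9, 14, 5, 19, 3, 10, 6, 16, 4, 20, 11, 8, 1, 0, 2, 7, 22, 23, 21]), (1, 2, 62)),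
   (([18, 11, 9, 2, 19, 0, 15, 12, 17, 13, 14, 16, 22, 23, 21, 4, 6, 7, 3, 8, 5, 20, 1, 10], [5, 22, 3, 18, 15, 20, 16, 17, 19, 2, 23, 1, 7, 9, 10, 6, 11, 8, 0, 4, 21, 14, 12, 13]), (1, 0, 63)),
   (([11, 7, 16, 18, 4, 14, 17, 19, 13, 8, 9, 15, 20, 23, 10, 3, 21, 1, 6, 5, 2, 22, 0, 12], [22, 17, 20, 15, 4, 19, 18, 1, 9, 10, 14, 0, 23, 8, 5, 11, 2, 6, 3, 7, 12, 16, 21, 13]), (1, 2, 63)),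
   (([13, 2, 5, 9, 16, 23, 21, 0, 1, 12, 10, 8, 3, 6, 17, 22, 20, 15, 11, 14, 19, 7, 18, 4], [7, 8, 1, 12, 23, 2, 13, 21, 11, 3, 10, 18, 9, 0, 19, 17, 4, 14, 22, 20, 16, 6, 15, 5]), (1, 2, 64)),
   (([11, 16, 13, 5, 9, 3, 19, 17, 10, 4, 8, 0, 20, 2, 21, 22, 1, 7, 23, 6, 12, 14, 15, 18], [11, 16, 13, 5, 9, 3, 19, 17, 10, 4, 8, 0, 20, 2, 21, 22, 1, 7, 23, 6, 12, 14, 15, 18]), (1, 1, 66)),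
   (([15, 21, 19, 14, 9, 20, 18, 12, 17, 6, 3, 22, 8, 16, 5, 13, 4, 0, 7, 10, 11, 2, 23, 1], [17, 23, 21, 10, 16, 14, 9, 18, 12, 4, 19, 20, 7, 15, 3, 0, 13, 8, 6, 2, 5, 1, 11, 22]), (1, 0, 68)),
   (([10, 16, 0, 9, 3, 6, 1, 5, 14, 11, 13, 8, 2, 17, 22, 18, 15, 21, 7, 19, 20, 12, 4, 23], [2, 6, 12, 4, 22, 7, 5, 18, 11, 3, 0, 9, 21, 10, 8, 16, 1, 13, 15, 19, 20, 17, 14, 23]), (1, 0, 69)),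
   (([14, 4, 19, 17, 18, 6, 5, 3, 21, 2, 9, 20, 23, 1, 12, 13, 15, 22, 7, 10, 16, 0, 11, 8], [21, 13, 9, 7, 1, 6, 5, 18, 23, 10, 19, 22, 14, 15, 0, 16, 20, 3, 4, 2, 11, 8, 17, 12]), (1, 2, 72)),
   (([9, 22, 2, 11, 23, 21, 7, 10, 0, 17, 13, 20, 8, 14, 5, 6, 3, 4, 18, 1, 12, 19, 15, 16], [8, 19, 2, 16, 17, 14, 15, 6, 12, 0, 7, 3, 20, 10, 13, 22, 23, 9, 18, 21, 11, 5, 1, 4]), (1, 0, 74)),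
   (([11, 9, 15, 14, 1, 17, 0, 22, 19, 8, 21, 2, 10, 6, 12, 13, 20, 16, 3, 23, 7, 18, 5, 4], [6, 4, 11, 18, 23, 22, 13, 20, 9, 1, 12, 0, 14, 15, 3, 2, 17, 5, 21, 8, 16, 10, 7, 19]), (1, 0, 75)),
   (([19, 18, 20, 10, 14, 8, 12, 21, 17, 6, 11, 16, 3, 4, 7, 2, 13, 1, 5, 9, 15, 23, 22, 0], [23, 17, 15, 12, 13, 18, 9, 14, 5, 19, 3, 10, 6, 16, 4, 20, 11, 8, 1, 0, 2, 7, 22, 21]), (1, 0, 77)),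
   (([16, 10, 23, 5, 15, 19, 22, 9, 18, 2, 7, 20, 11, 4, 1, 14, 3, 12, 13, 6, 8, 21, 17, 0], [23, 14, 9, 16, 13, 3, 19, 10, 20, 7, 1, 12, 17, 18, 15, 4, 0, 22, 8, 5, 11, 21, 6, 2]), (1, 1, 83)),
   (([15, 5, 20, 18, 19, 7, 6, 4, 22, 3, 10, 21, 23, 2, 13, 14, 16, 0, 8, 11, 17, 1, 12, 9], [17, 21, 13, 9, 7, 1, 6, 5, 18, 23, 10, 19, 22, 14, 15, 0, 16, 20, 3, 4, 2, 11, 8, 12]), (1, 0, 84)),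
   (([12, 14, 6, 19, 23, 20, 5, 7, 0, 11, 9, 10, 16, 17, 21, 1, 3, 2, 4, 18, 8, 22, 15, 13], [8, 15, 17, 16, 18, 6, 2, 7, 20, 10, 11, 9, 0, 23, 1, 22, 12, 13, 19, 3, 5, 14, 21, 4]), (1, 2, 85)),
   (([2, 5, 3, 18, 22, 4, 23, 1, 6, 20, 12, 11, 16, 19, 21, 7, 8, 10, 15, 0, 13, 14, 9, 17], [19, 7, 0, 2, 5, 1, 8, 15, 16, 22, 17, 11, 10, 20, 21, 18, 12, 23, 3, 13, 9, 14, 4, 6]), (1, 1, 86)),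
   (([17, 21, 13, 9, 7, 1, 6, 5, 18, 23, 10, 19, 22, 14, 15, 0, 16, 20, 3, 4, 2, 11, 8, 12], [15, 5, 20, 18, 19, 7, 6, 4, 22, 3, 10, 21, 23, 2, 13, 14, 16, 0, 8, 11, 17, 1, 12, 9]), (2, 89, 0)),
   (([13, 1, 9, 3, 8, 7, 12, 21, 6, 2, 22, 19, 16, 4, 11, 5, 18, 10, 0, 17, 14, 15, 23, 20], [18, 1, 9, 3, 13, 15, 8, 5, 4, 2, 17, 14, 6, 0, 20, 21, 12, 19, 16, 11, 23, 7, 10, 22]), (1, 92, 91)),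
   (([17, 11, 23, 6, 16, 20, 0, 10, 19, 3, 8, 21, 12, 5, 2, 15, 4, 13, 14, 7, 9, 22, 18, 1], [6, 23, 14, 9, 16, 13, 3, 19, 10, 20, 7, 1, 12, 17, 18, 15, 4, 0, 22, 8, 5, 11, 21, 2]), (1, 0, 88)),
   (([8, 15, 17, 16, 18, 6, 2, 7, 20, 10, 11, 9, 0, 23, 1, 22, 12, 13, 19, 3, 5, 14, 21, 4], [12, 14, 6, 19, 23, 20, 5, 7, 0, 11, 9, 10, 16, 17, 21, 1, 3, 2, 4, 18, 8, 22, 15, 13]), (2, 90, 0)),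
   (([13, 9, 4, 2, 12, 5, 8, 11, 3, 16, 20, 14, 0, 6, 17, 22, 18, 23, 1, 7, 10, 21, 19, 15], [12, 18, 3, 8, 2, 5, 13, 19, 6, 1, 20, 7, 4, 0, 11, 23, 9, 14, 16, 22, 10, 21, 15, 17]), (1, 95, 94)),
   (([3, 13, 11, 21, 16, 4, 2, 7, 20, 9, 18, 14, 5, 1, 22, 8, 12, 10, 6, 23, 19, 15, 17, 0], [23, 13, 6, 0, 5, 12, 18, 7, 15, 9, 17, 2, 16, 1, 11, 21, 4, 22, 10, 20, 8, 3, 14, 19]), (1, 1, 73)),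
   (([7, 8, 1, 12, 23, 2, 13, 21, 11, 3, 10, 18, 9, 0, 19, 17, 4, 14, 22, 20, 16, 6, 15, 5], [13, 2, 5, 9, 16, 23, 21, 0, 1, 12, 10, 8, 3, 6, 17, 22, 20, 15, 11, 14, 19, 7, 18, 4]), (2, 80, 0)),
   (([12, 0, 18, 6, 4, 23, 1, 21, 16, 3, 22, 19, 2, 8, 15, 11, 9, 10, 13, 5, 20, 17, 14, 7], [1, 6, 12, 9, 4, 19, 3, 23, 13, 16, 17, 15, 0, 18, 22, 14, 8, 21, 2, 11, 20, 7, 10, 5]), (1, 98, 97)),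
   (([3, 22, 15, 19, 9, 21, 11, 1, 13, 17, 20, 0, 18, 2, 5, 8, 23, 10, 6, 4, 12, 7, 14, 16], [11, 7, 13, 0, 19, 14, 18, 21, 15, 4, 17, 6, 20, 8, 22, 2, 23, 9, 12, 3, 10, 5, 1, 16]), (1, 2, 67)),
   (([5, 22, 3, 18, 15, 20, 16, 17, 19, 2, 23, 1, 7, 9, 10, 6, 11, 8, 0, 4, 21, 14, 12, 13], [18, 11, 9, 2, 19, 0, 15, 12, 17, 13, 14, 16, 22, 23, 21, 4, 6, 7, 3, 8, 5, 20, 1, 10]), (2, 78, 0)),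
   (([18, 12, 6, 4, 2, 14, 1, 22, 9, 8, 21, 5, 0, 3, 20, 19, 13, 23, 16, 15, 7, 17, 10, 11], [12, 6, 4, 13, 3, 11, 2, 20, 9, 8, 22, 23, 1, 16, 5, 19, 18, 21, 0, 15, 14, 10, 7, 17]), (1, 101, 100)),
   (([20, 1, 3, 21, 18, 19, 6, 0, 8, 9, 13, 23, 2, 5, 16, 10, 4, 12, 22, 15, 11, 17, 14, 7], [7, 1, 12, 2, 16, 13, 6, 23, 8, 9, 15, 20, 17, 10, 22, 19, 14, 21, 4, 5, 0, 3, 18, 11]), (1, 1, 65)),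
   (([17, 18, 9, 6, 0, 16, 2, 22, 12, 4, 19, 11, 7, 5, 15, 14, 10, 20, 13, 21, 3, 1, 8, 23], [4, 21, 6, 20, 9, 13, 3, 12, 22, 2, 16, 11, 8, 18, 15, 14, 5, 0, 1, 10, 17, 19, 7, 23]), (2, 70, 0)),
   (([3, 18, 6, 1, 13, 21, 2, 17, 12, 4, 5, 23, 9, 16, 10, 19, 0, 7, 8, 14, 11, 20, 15, 22], [16, 3, 6, 0, 9, 10, 2, 17, 18, 12, 14, 20, 8, 4, 19, 22, 13, 7, 1, 15, 21, 5, 23, 11]), (1, 104, 103)),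
   (([11, 1, 10, 15, 6, 5, 4, 8, 17, 13, 2, 23, 7, 21, 3, 19, 20, 18, 22, 16, 14, 9, 12, 0], [23, 1, 10, 14, 6, 5, 4, 12, 7, 21, 2, 0, 22, 9, 20, 3, 19, 8, 17, 15, 16, 13, 18, 11]), (1, 2, 76)),
   (([23, 13, 19, 17, 12, 7, 18, 16, 10, 15, 4, 1, 20, 6, 14, 3, 11, 2, 21, 5, 8, 9, 0, 22], [22, 11, 17, 15, 10, 19, 13, 5, 20, 21, 8, 16, 4, 1, 14, 9, 7, 3, 6, 2, 12, 18, 23, 0]), (2, 71, 0)),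
   (([1, 13, 4, 3, 18, 7, 12, 10, 2, 6, 19, 22, 16, 9, 17, 5, 8, 21, 0, 11, 14, 15, 20, 23], [18, 0, 8, 3, 2, 15, 9, 5, 16, 13, 7, 19, 6, 1, 20, 21, 12, 14, 4, 10, 22, 17, 11, 23]), (1, 107, 106)),
   (([19, 5, 13, 4, 2, 17, 11, 22, 9, 16, 12, 15, 10, 23, 7, 3, 20, 18, 1, 21, 6, 14, 0, 8], [22, 18, 4, 15, 3, 1, 20, 14, 23, 8, 12, 6, 10, 2, 21, 11, 9, 5, 17, 0, 16, 19, 7, 13]), (1, 2, 79)),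
   (([6, 3, 2, 9, 13, 7, 0, 15, 4, 1, 20, 22, 8, 18, 17, 5, 12, 23, 16, 14, 19, 21, 11, 10], [6, 9, 2, 1, 8, 15, 0, 5, 12, 3, 23, 22, 16, 4, 19, 7, 18, 14, 13, 20, 10, 21, 11, 17]), (1, 81, 109)),
   (([3, 12, 6, 18, 5, 8, 14, 21, 4, 19, 15, 1, 20, 10, 9, 7, 17, 23, 13, 16, 2, 11, 0, 22], [22, 11, 20, 0, 8, 4, 2, 15, 5, 14, 13, 21, 1, 18, 6, 10, 19, 16, 3, 9, 12, 7, 23, 17]), (1, 1, 82)),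
   (([23, 17, 15, 12, 13, 18, 9, 14, 5, 19, 3, 10, 6, 16, 4, 20, 11, 8, 1, 0, 2, 7, 22, 21], [19, 18, 20, 10, 14, 8, 12, 21, 17, 6, 11, 16, 3, 4, 7, 2, 13, 1, 5, 9, 15, 23, 22, 0]), (2, 87, 0)),
   (([12, 6, 9, 1, 18, 5, 4, 7, 13, 0, 20, 17, 2, 3, 19, 14, 8, 21, 16, 11, 15, 10, 23, 22], [9, 3, 12, 13, 6, 5, 1, 7, 16, 2, 21, 19, 0, 8, 15, 20, 18, 11, 4, 14, 10, 17, 23, 22]), (1, 112, 111)),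
   (([4, 1, 2, 3, 6, 21, 16, 15, 12, 9, 23, 17, 18, 8, 19, 7, 0, 22, 13, 10, 11, 5, 20, 14], [16, 1, 2, 3, 0, 21, 4, 15, 13, 9, 19, 20, 8, 18, 23, 7, 6, 11, 12, 14, 22, 5, 17, 10]), (1, 93, 93)),
   (([8, 0, 3, 6, 16, 21, 2, 17, 1, 18, 14, 5, 9, 4, 19, 23, 13, 22, 12, 10, 15, 11, 7, 20], [1, 8, 6, 2, 13, 11, 3, 22, 0, 12, 19, 21, 18, 16, 10, 20, 4, 7, 9, 14, 23, 5, 17, 15]), (1, 99, 93)),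
   (([16, 18, 4, 1, 12, 17, 9, 20, 2, 6, 15, 14, 0, 13, 23, 21, 8, 5, 3, 7, 10, 19, 22, 11], [12, 3, 8, 18, 2, 17, 9, 19, 16, 6, 20, 23, 4, 13, 11, 10, 0, 5, 1, 21, 7, 15, 22, 14]), (1, 105, 93)),
   (([9, 13, 6, 3, 2, 10, 16, 15, 12, 4, 20, 11, 8, 18, 22, 7, 0, 19, 1, 21, 17, 5, 23, 14], [16, 18, 4, 3, 9, 21, 2, 15, 12, 0, 5, 11, 8, 1, 23, 7, 6, 20, 13, 17, 10, 19, 14, 22]), (1, 108, 93)),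
   (([2, 12, 13, 1, 4, 7, 0, 17, 9, 6, 14, 5, 18, 16, 11, 19, 3, 22, 8, 23, 20, 10, 15, 21], [6, 3, 0, 16, 4, 11, 9, 5, 18, 8, 21, 14, 1, 2, 10, 22, 13, 7, 12, 15, 20, 23, 17, 19]), (1, 99, 99)),
   (([2, 12, 16, 4, 18, 22, 6, 10, 8, 1, 23, 11, 9, 13, 14, 17, 0, 20, 3, 5, 15, 21, 19, 7], [16, 9, 0, 18, 3, 19, 6, 23, 8, 12, 7, 11, 1, 13, 14, 20, 2, 15, 4, 22, 17, 21, 5, 10]), (1, 113, 99)),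
   (([6, 3, 0, 16, 4, 11, 9, 5, 18, 8, 21, 14, 1, 2, 10, 22, 13, 7, 12, 15, 20, 23, 17, 19], [2, 12, 13, 1, 4, 7, 0, 17, 9, 6, 14, 5, 18, 16, 11, 19, 3, 22, 8, 23, 20, 10, 15, 21]), (2, 118, 0)),
   (([0, 1, 13, 4, 12, 17, 9, 21, 18, 3, 19, 14, 8, 2, 10, 7, 6, 20, 16, 11, 22, 23, 15, 5], [0, 1, 13, 9, 3, 23, 16, 15, 12, 6, 14, 19, 4, 2, 11, 22, 18, 5, 8, 10, 17, 7, 20, 21]), (1, 120, 119)),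
   (([3, 12, 8, 4, 9, 22, 0, 17, 1, 6, 10, 15, 13, 2, 5, 14, 16, 21, 18, 23, 20, 19, 11, 7], [6, 8, 13, 0, 3, 14, 9, 23, 2, 4, 10, 22, 1, 12, 15, 11, 16, 7, 18, 21, 20, 17, 5, 19]), (1, 102, 93)),
   (([16, 3, 6, 0, 9, 10, 2, 17, 18, 12, 14, 20, 8, 4, 19, 22, 13, 7, 1, 15, 21, 5, 23, 11], [3, 18, 6, 1, 13, 21, 2, 17, 12, 4, 5, 23, 9, 16, 10, 19, 0, 7, 8, 14, 11, 20, 15, 22]), (2, 105, 0)),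
   (([0, 8, 18, 9, 12, 23, 16, 7, 3, 2, 14, 22, 4, 6, 10, 19, 13, 5, 1, 11, 21, 15, 20, 17], [0, 18, 9, 8, 12, 17, 13, 7, 1, 3, 14, 19, 4, 16, 10, 21, 6, 23, 2, 15, 22, 20, 11, 5]), (1, 123, 122)),
   (([1, 6, 12, 9, 4, 19, 3, 23, 13, 16, 17, 15, 0, 18, 22, 14, 8, 21, 2, 11, 20, 7, 10, 5], [12, 0, 18, 6, 4, 23, 1, 21, 16, 3, 22, 19, 2, 8, 15, 11, 9, 10, 13, 5, 20, 17, 14, 7]), (2, 99, 0)),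
   (([0, 3, 16, 6, 2, 19, 4, 23, 18, 1, 20, 21, 12, 9, 11, 22, 13, 7, 8, 15, 14, 17, 5, 10], [0, 9, 4, 1, 6, 22, 3, 17, 18, 13, 23, 14, 12, 16, 20, 19, 2, 21, 8, 5, 10, 11, 15, 7]), (1, 125, 113)),
   (([12, 3, 9, 2, 4, 21, 13, 5, 8, 1, 14, 23, 6, 0, 10, 7, 16, 20, 18, 11, 17, 15, 19, 22], [13, 9, 3, 1, 4, 7, 12, 15, 8, 2, 14, 19, 0, 6, 10, 21, 16, 20, 18, 22, 17, 5, 23, 11]), (1, 93, 110)),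
   (([0, 9, 16, 12, 4, 7, 18, 19, 13, 6, 22, 5, 3, 1, 17, 23, 8, 20, 2, 15, 21, 14, 11, 10], [0, 13, 18, 12, 4, 11, 9, 5, 16, 1, 23, 22, 3, 8, 21, 19, 2, 14, 6, 7, 17, 20, 10, 15]), (1, 125, 127)),
   (([18, 1, 9, 3, 13, 15, 8, 5, 4, 2, 17, 14, 6, 0, 20, 21, 12, 19, 16, 11, 23, 7, 10, 22], [13, 1, 9, 3, 8, 7, 12, 21, 6, 2, 22, 19, 16, 4, 11, 5, 18, 10, 0, 17, 14, 15, 23, 20]), (2, 93, 0)),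
   (([0, 2, 13, 9, 6, 15, 4, 14, 3, 12, 23, 20, 18, 8, 19, 10, 16, 22, 1, 5, 17, 7, 11, 21], [0, 18, 1, 8, 6, 19, 4, 21, 13, 3, 15, 22, 9, 2, 7, 5, 16, 20, 12, 14, 11, 23, 17, 10]), (1, 129, 96)),
   (([9, 16, 4, 1, 8, 21, 13, 10, 2, 12, 11, 7, 0, 18, 19, 17, 3, 23, 6, 20, 14, 22, 5, 15], [12, 3, 8, 16, 2, 22, 18, 11, 4, 0, 7, 10, 9, 6, 20, 23, 1, 15, 13, 14, 19, 5, 21, 17]), (1, 93, 118)),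
   (([16, 18, 4, 3, 9, 21, 2, 15, 12, 0, 5, 11, 8, 1, 23, 7, 6, 20, 13, 17, 10, 19, 14, 22], [9, 13, 6, 3, 2, 10, 16, 15, 12, 4, 20, 11, 8, 18, 22, 7, 0, 19, 1, 21, 17, 5, 23, 14]), (2, 117, 0)),
   (([0, 6, 9, 18, 12, 19, 1, 5, 4, 8, 11, 15, 16, 13, 17, 20, 3, 22, 2, 10, 23, 14, 21, 7], [0, 6, 18, 16, 8, 7, 1, 23, 9, 2, 19, 10, 4, 13, 21, 11, 12, 14, 3, 5, 15, 22, 17, 20]), (1, 132, 131)),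
   (([6, 0, 3, 12, 2, 22, 18, 23, 8, 1, 20, 14, 16, 13, 5, 15, 4, 10, 9, 11, 7, 21, 19, 17], [1, 9, 4, 2, 16, 14, 0, 20, 8, 18, 17, 19, 3, 13, 11, 15, 12, 23, 6, 22, 10, 21, 5, 7]), (1, 102, 118)),
   (([6, 9, 2, 1, 8, 15, 0, 5, 12, 3, 23, 22, 16, 4, 19, 7, 18, 14, 13, 20, 10, 21, 11, 17], [6, 3, 2, 9, 13, 7, 0, 15, 4, 1, 20, 22, 8, 18, 17, 5, 12, 23, 16, 14, 19, 21, 11, 10]), (2, 110, 0)),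
   (([0, 6, 1, 16, 2, 11, 13, 17, 12, 9, 10, 19, 18, 4, 15, 7, 8, 23, 3, 22, 5, 21, 20, 14], [0, 2, 4, 18, 13, 20, 1, 15, 16, 9, 10, 5, 8, 6, 23, 14, 3, 7, 12, 11, 22, 21, 19, 17]), (1, 135, 134)),
   (([0, 9, 2, 1, 18, 15, 6, 5, 13, 3, 19, 11, 4, 16, 23, 7, 8, 10, 12, 17, 14, 21, 22, 20], [0, 3, 2, 9, 12, 7, 6, 15, 16, 1, 17, 11, 18, 8, 20, 5, 13, 19, 4, 10, 23, 21, 22, 14]), (1, 110, 110)),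
   (([0, 18, 16, 3, 8, 5, 6, 21, 4, 13, 10, 15, 12, 9, 19, 11, 2, 17, 1, 14, 23, 7, 22, 20], [0, 18, 16, 3, 8, 5, 6, 21, 4, 13, 10, 15, 12, 9, 19, 11, 2, 17, 1, 14, 23, 7, 22, 20]), (1, 121, 124)),
   (([0, 13, 2, 6, 3, 10, 8, 19, 12, 16, 17, 11, 4, 18, 22, 15, 1, 7, 9, 5, 14, 23, 21, 20], [0, 16, 2, 4, 12, 19, 3, 17, 6, 18, 5, 11, 8, 1, 20, 15, 9, 10, 13, 7, 23, 22, 14, 21]), (1, 128, 124)),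
   (([0, 4, 2, 8, 16, 7, 3, 5, 18, 9, 17, 21, 12, 1, 11, 10, 13, 19, 6, 15, 14, 20, 23, 22], [0, 13, 2, 6, 1, 7, 18, 5, 3, 9, 15, 14, 12, 16, 20, 19, 4, 10, 8, 17, 21, 11, 23, 22]), (1, 133, 124)),
   (([0, 12, 3, 9, 18, 14, 8, 17, 16, 1, 15, 20, 2, 13, 10, 22, 4, 11, 6, 19, 21, 7, 5, 23], [0, 9, 12, 2, 16, 22, 18, 21, 6, 3, 14, 17, 1, 13, 5, 10, 8, 7, 4, 19, 11, 20, 15, 23]), (1, 136, 124)),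
   (([0, 16, 8, 13, 1, 22, 2, 14, 3, 6, 5, 21, 18, 9, 19, 20, 4, 17, 12, 7, 15, 23, 11, 10], [0, 4, 6, 8, 16, 10, 9, 19, 2, 13, 23, 22, 18, 3, 7, 20, 1, 17, 12, 14, 15, 11, 5, 21]), (1, 136, 126)),
   (([0, 13, 18, 12, 4, 11, 9, 5, 16, 1, 23, 22, 3, 8, 21, 19, 2, 14, 6, 7, 17, 20, 10, 15], [0, 9, 16, 12, 4, 7, 18, 19, 13, 6, 22, 5, 3, 1, 17, 23, 8, 20, 2, 15, 21, 14, 11, 10]), (2, 128, 0)),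
   (([0, 1, 18, 13, 6, 19, 9, 11, 8, 12, 7, 22, 4, 2, 15, 5, 16, 23, 3, 14, 21, 20, 10, 17], [0, 1, 13, 18, 12, 15, 4, 10, 8, 6, 22, 7, 9, 3, 19, 14, 16, 23, 2, 5, 21, 20, 11, 17]), (1, 143, 137)),
   (([0, 8, 3, 16, 12, 5, 2, 10, 13, 1, 21, 19, 18, 6, 22, 7, 4, 23, 9, 20, 14, 17, 15, 11], [0, 9, 6, 2, 16, 5, 13, 15, 1, 18, 7, 23, 4, 8, 20, 22, 3, 21, 12, 11, 19, 10, 14, 17]), (1, 133, 128)),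
   (([0, 18, 9, 8, 12, 17, 13, 7, 1, 3, 14, 19, 4, 16, 10, 21, 6, 23, 2, 15, 22, 20, 11, 5], [0, 8, 18, 9, 12, 23, 16, 7, 3, 2, 14, 22, 4, 6, 10, 19, 13, 5, 1, 11, 21, 15, 20, 17]), (2, 124, 0)),
   (([0, 1, 8, 6, 4, 17, 9, 14, 16, 18, 20, 15, 2, 13, 11, 7, 12, 5, 3, 22, 10, 23, 21, 19], [0, 1, 12, 18, 4, 17, 3, 15, 2, 6, 20, 14, 16, 13, 7, 11, 8, 5, 9, 23, 10, 22, 19, 21]), (1, 146, 145)),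
   (([0, 4, 12, 1, 18, 5, 2, 15, 6, 3, 20, 10, 16, 8, 22, 17, 9, 11, 13, 23, 21, 19, 7, 14], [0, 3, 6, 9, 1, 5, 8, 22, 13, 16, 11, 17, 2, 18, 23, 7, 12, 15, 4, 21, 10, 20, 14, 19]), (1, 130, 133)),
   (([0, 13, 2, 6, 1, 7, 18, 5, 3, 9, 15, 14, 12, 16, 20, 19, 4, 10, 8, 17, 21, 11, 23, 22], [0, 4, 2, 8, 16, 7, 3, 5, 18, 9, 17, 21, 12, 1, 11, 10, 13, 19, 6, 15, 14, 20, 23, 22]), (2, 140, 0)),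
   (([0, 1, 12, 13, 8, 7, 2, 19, 18, 6, 21, 15, 4, 3, 23, 10, 9, 14, 16, 22, 11, 17, 5, 20], [0, 1, 6, 13, 12, 22, 9, 5, 4, 16, 15, 20, 2, 3, 17, 11, 18, 21, 8, 7, 23, 10, 19, 14]), (1, 149, 148)),
   (([0, 12, 8, 18, 16, 15, 4, 10, 2, 9, 21, 14, 3, 6, 5, 11, 1, 19, 13, 23, 17, 20, 7, 22], [0, 16, 8, 12, 6, 14, 13, 22, 2, 9, 7, 15, 1, 18, 11, 5, 4, 20, 3, 17, 21, 10, 23, 19]), (1, 128, 126)),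
   (([0, 9, 12, 2, 16, 22, 18, 21, 6, 3, 14, 17, 1, 13, 5, 10, 8, 7, 4, 19, 11, 20, 15, 23], [0, 12, 3, 9, 18, 14, 8, 17, 16, 1, 15, 20, 2, 13, 10, 22, 4, 11, 6, 19, 21, 7, 5, 23]), (2, 141, 0)),
   (([0, 1, 6, 4, 8, 10, 16, 14, 12, 3, 20, 5, 2, 18, 22, 17, 9, 19, 13, 23, 7, 11, 21, 15], [0, 1, 12, 9, 3, 11, 2, 20, 4, 16, 5, 21, 8, 18, 7, 23, 6, 15, 13, 17, 10, 22, 14, 19]), (1, 152, 151)),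
   (([0, 1, 13, 12, 2, 23, 8, 15, 9, 4, 5, 19, 6, 3, 7, 10, 18, 14, 16, 22, 17, 11, 21, 20], [0, 1, 4, 13, 9, 10, 12, 14, 6, 8, 15, 21, 3, 2, 17, 7, 18, 20, 16, 11, 23, 22, 19, 5]), (1, 126, 128)),
   (([0, 4, 9, 2, 1, 10, 3, 5, 13, 8, 19, 21, 18, 6, 14, 20, 12, 22, 16, 11, 15, 7, 23, 17], [0, 4, 3, 6, 1, 7, 13, 21, 9, 2, 5, 19, 16, 8, 14, 20, 18, 23, 12, 10, 15, 11, 17, 22]), (1, 124, 141)),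
   (([0, 1, 9, 2, 13, 15, 6, 7, 16, 3, 17, 11, 8, 18, 20, 21, 12, 23, 4, 14, 19, 5, 22, 10], [0, 1, 3, 9, 18, 21, 6, 7, 12, 2, 23, 11, 16, 4, 19, 5, 8, 10, 13, 20, 14, 15, 22, 17]), (1, 149, 155)),
   (([0, 12, 8, 1, 13, 15, 6, 21, 18, 16, 19, 7, 4, 3, 17, 11, 2, 10, 9, 23, 20, 5, 22, 14], [0, 3, 16, 13, 12, 21, 6, 11, 2, 18, 17, 15, 1, 4, 23, 5, 9, 14, 8, 10, 20, 7, 22, 19]), (1, 137, 138)),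
   (([0, 1, 6, 9, 13, 10, 18, 20, 4, 8, 19, 21, 16, 2, 7, 17, 12, 14, 3, 23, 11, 22, 15, 5], [0, 1, 13, 18, 8, 23, 2, 14, 9, 3, 5, 20, 16, 4, 17, 22, 12, 15, 6, 10, 7, 11, 21, 19]), (1, 152, 157)),
   (([0, 1, 3, 2, 9, 14, 12, 22, 8, 4, 11, 10, 6, 18, 5, 19, 16, 17, 13, 15, 20, 21, 7, 23], [0, 1, 3, 2, 9, 14, 12, 22, 8, 4, 11, 10, 6, 18, 5, 19, 16, 17, 13, 15, 20, 21, 7, 23]), (1, 144, 144)),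
   (([0, 1, 16, 3, 2, 22, 6, 15, 18, 4, 19, 5, 8, 12, 10, 7, 9, 20, 13, 23, 17, 11, 21, 14], [0, 1, 4, 3, 9, 11, 6, 15, 12, 16, 14, 21, 13, 18, 23, 7, 2, 20, 8, 10, 17, 22, 5, 19]), (1, 150, 144)),
   (([0, 1, 4, 18, 6, 14, 3, 11, 16, 8, 7, 22, 13, 9, 21, 15, 12, 10, 2, 20, 5, 19, 17, 23], [0, 1, 18, 6, 2, 20, 4, 10, 9, 13, 17, 7, 16, 12, 5, 15, 8, 22, 3, 21, 19, 14, 11, 23]), (1, 156, 144)),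
   (([0, 1, 13, 18, 12, 15, 4, 10, 8, 6, 22, 7, 9, 3, 19, 14, 16, 23, 2, 5, 21, 20, 11, 17], [0, 1, 18, 13, 6, 19, 9, 11, 8, 12, 7, 22, 4, 2, 15, 5, 16, 23, 3, 14, 21, 20, 10, 17]), (1, 144, 159)),
   (([0, 1, 4, 13, 9, 10, 12, 14, 6, 8, 15, 21, 3, 2, 17, 7, 18, 20, 16, 11, 23, 22, 19, 5], [0, 1, 13, 12, 2, 23, 8, 15, 9, 4, 5, 19, 6, 3, 7, 10, 18, 14, 16, 22, 17, 11, 21, 20]), (2, 154, 0)),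
   (([0, 1, 2, 16, 3, 7, 9, 15, 6, 12, 19, 14, 8, 13, 11, 17, 18, 5, 4, 10, 22, 23, 21, 20], [0, 1, 2, 4, 18, 17, 8, 5, 12, 6, 19, 14, 9, 13, 11, 7, 3, 15, 16, 10, 23, 22, 20, 21]), (1, 163, 162)),
   (([0, 1, 3, 6, 13, 20, 9, 10, 4, 2, 23, 22, 8, 12, 15, 5, 16, 7, 18, 21, 14, 19, 11, 17], [0, 1, 9, 2, 8, 15, 3, 17, 12, 6, 7, 22, 13, 4, 20, 14, 16, 23, 18, 21, 5, 19, 11, 10]), (1, 154, 154)),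
   (([0, 1, 2, 12, 18, 20, 4, 11, 9, 3, 23, 7, 8, 6, 19, 14, 16, 22, 13, 21, 5, 15, 10, 17], [0, 1, 2, 9, 6, 20, 13, 11, 12, 8, 22, 7, 3, 18, 15, 21, 16, 23, 4, 14, 5, 19, 17, 10]), (1, 159, 165)),
   (([0, 1, 3, 4, 12, 20, 18, 10, 6, 8, 7, 22, 2, 13, 19, 21, 16, 23, 9, 5, 14, 15, 17, 11], [0, 1, 12, 2, 3, 19, 8, 10, 9, 18, 7, 23, 4, 13, 20, 21, 16, 22, 6, 14, 5, 15, 11, 17]), (1, 150, 154)),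
   (([0, 1, 2, 9, 6, 20, 13, 11, 12, 8, 22, 7, 3, 18, 15, 21, 16, 23, 4, 14, 5, 19, 17, 10], [0, 1, 2, 12, 18, 20, 4, 11, 9, 3, 23, 7, 8, 6, 19, 14, 16, 22, 13, 21, 5, 15, 10, 17]), (1, 159, 167)),
   (([0, 1, 6, 12, 3, 10, 2, 19, 9, 13, 14, 15, 18, 16, 11, 17, 4, 20, 8, 23, 22, 7, 5, 21], [0, 1, 6, 4, 16, 22, 2, 21, 18, 8, 5, 14, 3, 9, 10, 11, 13, 15, 12, 7, 17, 23, 20, 19]), (1, 150, 156)),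
   (([0, 1, 12, 9, 3, 11, 2, 20, 4, 16, 5, 21, 8, 18, 7, 23, 6, 15, 13, 17, 10, 22, 14, 19], [0, 1, 6, 4, 8, 10, 16, 14, 12, 3, 20, 5, 2, 18, 22, 17, 9, 19, 13, 23, 7, 11, 21, 15]), (2, 153, 0)),
   (([0, 1, 2, 8, 9, 5, 12, 17, 16, 18, 7, 23, 13, 6, 21, 15, 3, 10, 4, 19, 14, 20, 11, 22], [0, 1, 2, 16, 18, 5, 13, 10, 3, 4, 17, 22, 6, 12, 20, 15, 8, 7, 9, 19, 21, 14, 23, 11]), (1, 170, 169)),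
   (([0, 1, 4, 2, 8, 11, 18, 14, 3, 9, 20, 5, 6, 13, 17, 7, 12, 15, 16, 10, 22, 23, 19, 21], [0, 1, 3, 8, 2, 11, 12, 15, 4, 9, 19, 5, 16, 13, 7, 17, 18, 14, 6, 22, 10, 23, 20, 21]), (1, 144, 150)),
   (([0, 1, 18, 6, 2, 20, 4, 10, 9, 13, 17, 7, 16, 12, 5, 15, 8, 22, 3, 21, 19, 14, 11, 23], [0, 1, 4, 18, 6, 14, 3, 11, 16, 8, 7, 22, 13, 9, 21, 15, 12, 10, 2, 20, 5, 19, 17, 23]), (2, 161, 0)),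
   (([0, 1, 2, 18, 9, 7, 3, 5, 6, 13, 19, 20, 4, 12, 22, 10, 16, 15, 8, 17, 11, 23, 21, 14], [0, 1, 2, 6, 12, 7, 8, 5, 18, 4, 15, 20, 13, 9, 23, 17, 16, 19, 3, 10, 11, 22, 14, 21]), (1, 173, 172)),
   (([0, 1, 16, 2, 4, 20, 6, 23, 3, 18, 22, 17, 13, 9, 5, 19, 8, 7, 12, 15, 21, 14, 10, 11], [0, 1, 3, 8, 4, 14, 6, 17, 16, 13, 22, 23, 18, 12, 21, 19, 2, 11, 9, 15, 5, 20, 10, 7]), (1, 158, 150)),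
   (([0, 1, 4, 3, 9, 11, 6, 15, 12, 16, 14, 21, 13, 18, 23, 7, 2, 20, 8, 10, 17, 22, 5, 19], [0, 1, 16, 3, 2, 22, 6, 15, 18, 4, 19, 5, 8, 12, 10, 7, 9, 20, 13, 23, 17, 11, 21, 14]), (2, 160, 0)),
   (([0, 1, 2, 4, 9, 17, 6, 19, 3, 8, 5, 20, 18, 16, 11, 10, 12, 15, 13, 7, 22, 23, 14, 21], [0, 1, 2, 8, 3, 10, 6, 19, 9, 4, 15, 14, 16, 18, 22, 17, 13, 5, 12, 7, 11, 23, 20, 21]), (1, 176, 175)),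
   (([0, 1, 18, 12, 13, 21, 8, 10, 16, 2, 22, 23, 9, 6, 5, 15, 4, 17, 3, 20, 14, 19, 11, 7], [0, 1, 9, 18, 16, 14, 13, 23, 6, 12, 7, 22, 3, 4, 20, 15, 8, 17, 2, 21, 19, 5, 10, 11]), (1, 154, 160)),
   (([0, 1, 2, 9, 3, 20, 8, 22, 16, 13, 11, 17, 6, 4, 15, 14, 12, 23, 18, 21, 19, 5, 7, 10], [0, 1, 2, 4, 13, 21, 12, 22, 6, 3, 23, 10, 16, 9, 15, 14, 8, 11, 18, 20, 5, 19, 7, 17]), (1, 162, 178)),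
   (([0, 1, 13, 18, 16, 23, 3, 5, 12, 2, 14, 21, 8, 6, 17, 10, 9, 15, 4, 22, 11, 7, 20, 19], [0, 1, 9, 6, 18, 7, 13, 21, 12, 16, 15, 20, 8, 2, 10, 17, 4, 14, 3, 23, 22, 11, 19, 5]), (1, 153, 144)),
   (([0, 1, 2, 16, 18, 5, 13, 10, 3, 4, 17, 22, 6, 12, 20, 15, 8, 7, 9, 19, 21, 14, 23, 11], [0, 1, 2, 8, 9, 5, 12, 17, 16, 18, 7, 23, 13, 6, 21, 15, 3, 10, 4, 19, 14, 20, 11, 22]), (1, 163, 180)),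
   (([0, 1, 2, 13, 4, 14, 9, 23, 18, 8, 22, 17, 16, 12, 19, 21, 3, 11, 6, 20, 5, 15, 7, 10], [0, 1, 2, 16, 4, 20, 18, 22, 9, 6, 23, 17, 13, 3, 5, 21, 12, 11, 8, 14, 19, 15, 10, 7]), (1, 171, 166)),
   (([0, 1, 2, 6, 18, 19, 3, 17, 13, 9, 10, 22, 16, 8, 21, 15, 12, 7, 4, 5, 20, 14, 11, 23], [0, 1, 2, 6, 18, 19, 3, 17, 13, 9, 10, 22, 16, 8, 21, 15, 12, 7, 4, 5, 20, 14, 11, 23]), (1, 179, 166)),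
   (([0, 1, 2, 12, 9, 22, 13, 14, 8, 6, 21, 15, 16, 4, 17, 23, 18, 20, 3, 11, 7, 10, 5, 19], [0, 1, 2, 18, 13, 22, 9, 20, 8, 4, 21, 19, 3, 6, 7, 11, 12, 14, 16, 23, 17, 10, 5, 15]), (1, 174, 182)),
   (([0, 1, 2, 3, 8, 17, 18, 15, 12, 13, 19, 21, 16, 6, 23, 10, 4, 5, 9, 7, 11, 22, 20, 14], [0, 1, 2, 3, 16, 17, 13, 19, 4, 18, 15, 20, 8, 9, 23, 7, 12, 5, 6, 10, 22, 11, 21, 14]), (1, 168, 184)),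
   (([0, 1, 2, 13, 9, 19, 16, 7, 12, 4, 17, 23, 8, 3, 14, 15, 6, 10, 18, 5, 21, 20, 22, 11], [0, 1, 2, 13, 9, 19, 16, 7, 12, 4, 17, 23, 8, 3, 14, 15, 6, 10, 18, 5, 21, 20, 22, 11]), (1, 181, 183)),
   (([0, 1, 2, 16, 4, 20, 18, 22, 9, 6, 23, 17, 13, 3, 5, 21, 12, 11, 8, 14, 19, 15, 10, 7], [0, 1, 2, 13, 4, 14, 9, 23, 18, 8, 22, 17, 16, 12, 19, 21, 3, 11, 6, 20, 5, 15, 7, 10]), (2, 182, 0)),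
   (([0, 1, 2, 3, 6, 14, 12, 22, 13, 4, 11, 7, 9, 16, 5, 21, 18, 23, 8, 20, 15, 19, 10, 17], [0, 1, 2, 3, 9, 14, 4, 11, 18, 12, 22, 10, 6, 8, 5, 20, 13, 23, 16, 21, 19, 15, 7, 17]), (1, 187, 186)),
   (([0, 1, 2, 3, 13, 23, 8, 21, 9, 16, 20, 19, 18, 12, 17, 11, 6, 14, 4, 22, 7, 10, 15, 5], [0, 1, 2, 3, 18, 23, 16, 20, 6, 8, 21, 15, 13, 4, 17, 22, 9, 14, 12, 11, 10, 7, 19, 5]), (1, 179, 177)),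
   (([0, 1, 2, 4, 18, 17, 8, 5, 12, 6, 19, 14, 9, 13, 11, 7, 3, 15, 16, 10, 23, 22, 20, 21], [0, 1, 2, 16, 3, 7, 9, 15, 6, 12, 19, 14, 8, 13, 11, 17, 18, 5, 4, 10, 22, 23, 21, 20]), (1, 171, 174)),
   (([0, 1, 2, 8, 3, 10, 6, 19, 9, 4, 15, 14, 16, 18, 22, 17, 13, 5, 12, 7, 11, 23, 20, 21], [0, 1, 2, 4, 9, 17, 6, 19, 3, 8, 5, 20, 18, 16, 11, 10, 12, 15, 13, 7, 22, 23, 14, 21]), (2, 177, 0)),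
   (([0, 1, 2, 3, 12, 5, 9, 10, 16, 6, 7, 22, 4, 18, 14, 19, 8, 17, 13, 15, 21, 20, 11, 23], [0, 1, 2, 3, 12, 5, 9, 10, 16, 6, 7, 22, 4, 18, 14, 19, 8, 17, 13, 15, 21, 20, 11, 23]), (1, 191, 190)),
   (([0, 1, 2, 18, 13, 22, 9, 20, 8, 4, 21, 19, 3, 6, 7, 11, 12, 14, 16, 23, 17, 10, 5, 15], [0, 1, 2, 12, 9, 22, 13, 14, 8, 6, 21, 15, 16, 4, 17, 23, 18, 20, 3, 11, 7, 10, 5, 19]), (1, 179, 174)),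
   (([0, 1, 2, 6, 12, 7, 8, 5, 18, 4, 15, 20, 13, 9, 23, 17, 16, 19, 3, 10, 11, 22, 14, 21], [0, 1, 2, 18, 9, 7, 3, 5, 6, 13, 19, 20, 4, 12, 22, 10, 16, 15, 8, 17, 11, 23, 21, 14]), (2, 174, 0)),
   (([0, 1, 2, 3, 9, 14, 4, 11, 18, 12, 22, 10, 6, 8, 5, 20, 13, 23, 16, 21, 19, 15, 7, 17], [0, 1, 2, 3, 6, 14, 12, 22, 13, 4, 11, 7, 9, 16, 5, 21, 18, 23, 8, 20, 15, 19, 10, 17]), (1, 194, 193)),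
   (([0, 1, 2, 4, 13, 21, 12, 22, 6, 3, 23, 10, 16, 9, 15, 14, 8, 11, 18, 20, 5, 19, 7, 17], [0, 1, 2, 9, 3, 20, 8, 22, 16, 13, 11, 17, 6, 4, 15, 14, 12, 23, 18, 21, 19, 5, 7, 10]), (1, 181, 168)),
   (([0, 1, 2, 3, 18, 23, 16, 20, 6, 8, 21, 15, 13, 4, 17, 22, 9, 14, 12, 11, 10, 7, 19, 5], [0, 1, 2, 3, 13, 23, 8, 21, 9, 16, 20, 19, 18, 12, 17, 11, 6, 14, 4, 22, 7, 10, 15, 5]), (1, 191, 196)),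
   (([0, 1, 2, 4, 12, 15, 16, 7, 9, 13, 10, 22, 3, 8, 21, 19, 18, 17, 6, 5, 14, 20, 23, 11], [0, 1, 2, 12, 3, 19, 18, 7, 13, 8, 10, 23, 4, 9, 20, 5, 6, 17, 16, 15, 21, 14, 11, 22]), (1, 164, 174)),
   (([0, 1, 2, 3, 16, 17, 13, 19, 4, 18, 15, 20, 8, 9, 23, 7, 12, 5, 6, 10, 22, 11, 21, 14], [0, 1, 2, 3, 8, 17, 18, 15, 12, 13, 19, 21, 16, 6, 23, 10, 4, 5, 9, 7, 11, 22, 20, 14]), (1, 191, 198)),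
   (([0, 1, 2, 12, 8, 20, 3, 23, 16, 4, 11, 10, 18, 13, 19, 21, 9, 22, 6, 14, 15, 5, 7, 17], [0, 1, 2, 6, 9, 21, 18, 22, 4, 16, 11, 10, 3, 13, 19, 20, 8, 23, 12, 14, 5, 15, 17, 7]), (1, 121, 121)),
   (([0, 2, 8, 6, 18, 22, 12, 7, 1, 9, 5, 19, 3, 13, 23, 14, 4, 17, 16, 20, 11, 21, 10, 15], [0, 8, 1, 12, 16, 10, 3, 7, 2, 9, 22, 20, 6, 13, 15, 23, 18, 17, 4, 11, 19, 21, 5, 14]), (1, 130, 121)),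
   (([0, 9, 16, 18, 4, 10, 3, 21, 12, 1, 17, 23, 13, 2, 19, 5, 6, 14, 8, 11, 22, 20, 7, 15], [0, 9, 13, 6, 4, 15, 16, 22, 18, 1, 5, 19, 8, 12, 17, 23, 2, 10, 3, 14, 21, 7, 20, 11]), (1, 137, 121)),
   (([0, 3, 1, 12, 18, 21, 16, 14, 9, 13, 19, 11, 6, 4, 23, 5, 8, 15, 2, 20, 7, 10, 17, 22], [0, 2, 18, 1, 13, 15, 12, 20, 16, 8, 21, 11, 3, 9, 7, 17, 6, 22, 4, 10, 19, 5, 23, 14]), (1, 130, 124)),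
   (([0, 13, 12, 3, 4, 20, 8, 5, 1, 2, 23, 22, 18, 6, 19, 17, 16, 15, 9, 11, 21, 7, 14, 10], [0, 8, 9, 3, 4, 7, 13, 21, 6, 18, 23, 19, 2, 1, 22, 17, 16, 15, 12, 14, 5, 20, 11, 10]), (1, 137, 124)),
   (([0, 1, 2, 6, 9, 21, 18, 22, 4, 16, 11, 10, 3, 13, 19, 20, 8, 23, 12, 14, 5, 15, 17, 7], [0, 1, 2, 12, 8, 20, 3, 23, 16, 4, 11, 10, 18, 13, 19, 21, 9, 22, 6, 14, 15, 5, 7, 17]), (2, 200, 0)),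
   (([0, 13, 3, 6, 9, 5, 4, 21, 1, 2, 7, 17, 12, 18, 14, 23, 8, 20, 16, 10, 15, 22, 19, 11], [0, 8, 9, 2, 6, 5, 3, 10, 16, 4, 19, 23, 12, 1, 14, 20, 18, 11, 13, 22, 17, 7, 21, 15]), (1, 205, 204)),
   (([0, 9, 1, 4, 3, 20, 6, 14, 2, 12, 15, 17, 13, 16, 22, 19, 18, 21, 8, 5, 11, 10, 23, 7], [0, 2, 8, 4, 3, 19, 6, 23, 18, 1, 21, 20, 9, 12, 7, 10, 13, 11, 16, 15, 5, 17, 14, 22]), (1, 128, 121)),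
   (([0, 16, 1, 9, 6, 5, 18, 19, 2, 3, 20, 23, 13, 8, 17, 14, 12, 15, 4, 21, 10, 11, 7, 22], [0, 2, 8, 9, 18, 5, 4, 22, 13, 3, 20, 21, 16, 12, 15, 17, 1, 14, 6, 7, 10, 19, 23, 11]), (1, 205, 207)),
   (([0, 18, 1, 8, 6, 19, 4, 21, 13, 3, 15, 22, 9, 2, 7, 5, 16, 20, 12, 14, 11, 23, 17, 10], [0, 2, 13, 9, 6, 15, 4, 14, 3, 12, 23, 20, 18, 8, 19, 10, 16, 22, 1, 5, 17, 7, 11, 21]), (2, 130, 0)),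
   (([0, 3, 1, 18, 12, 5, 4, 19, 2, 8, 14, 22, 6, 16, 10, 21, 13, 15, 9, 20, 7, 23, 17, 11], [0, 2, 8, 1, 6, 5, 12, 20, 9, 18, 14, 23, 4, 16, 10, 17, 13, 22, 3, 7, 19, 15, 11, 21]), (1, 209, 137)),
   (([0, 9, 1, 6, 13, 14, 2, 20, 8, 3, 19, 11, 16, 12, 7, 21, 18, 5, 4, 15, 17, 23, 22, 10], [0, 2, 6, 9, 18, 17, 3, 14, 8, 1, 23, 11, 13, 4, 5, 19, 12, 20, 16, 10, 7, 15, 22, 21]), (1, 121, 136)),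
   (([0, 3, 9, 18, 13, 5, 12, 11, 6, 2, 19, 17, 8, 1, 21, 20, 4, 22, 16, 10, 7, 23, 15, 14], [0, 13, 9, 1, 16, 5, 8, 20, 12, 2, 19, 7, 6, 4, 23, 22, 18, 11, 3, 10, 15, 14, 17, 21]), (1, 152, 211)),
   (([0, 6, 13, 12, 16, 22, 8, 14, 2, 18, 10, 17, 4, 9, 11, 5, 1, 23, 3, 15, 21, 7, 20, 19], [0, 16, 8, 18, 12, 15, 1, 21, 6, 13, 10, 14, 3, 2, 7, 19, 4, 11, 9, 23, 22, 20, 5, 17]), (1, 133, 121)),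
   (([0, 8, 1, 12, 16, 10, 3, 7, 2, 9, 22, 20, 6, 13, 15, 23, 18, 17, 4, 11, 19, 21, 5, 14], [0, 2, 8, 6, 18, 22, 12, 7, 1, 9, 5, 19, 3, 13, 23, 14, 4, 17, 16, 20, 11, 21, 10, 15]), (2, 201, 0)),
   (([0, 3, 13, 6, 18, 5, 2, 15, 1, 4, 22, 17, 16, 9, 20, 10, 8, 14, 12, 23, 21, 7, 19, 11], [0, 8, 6, 1, 9, 5, 3, 21, 16, 13, 15, 23, 18, 2, 17, 7, 12, 11, 4, 22, 14, 20, 10, 19]), (1, 214, 213)),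
   (([0, 8, 4, 3, 16, 10, 18, 20, 6, 1, 7, 22, 13, 2, 19, 15, 12, 14, 9, 11, 23, 21, 17, 5], [0, 9, 13, 3, 2, 23, 8, 10, 1, 18, 5, 19, 16, 12, 17, 15, 4, 22, 6, 14, 7, 21, 11, 20]), (1, 121, 141)),
   (([0, 9, 13, 6, 4, 15, 16, 22, 18, 1, 5, 19, 8, 12, 17, 23, 2, 10, 3, 14, 21, 7, 20, 11], [0, 9, 16, 18, 4, 10, 3, 21, 12, 1, 17, 23, 13, 2, 19, 5, 6, 14, 8, 11, 22, 20, 7, 15]), (2, 202, 0)),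
   (([0, 18, 4, 6, 2, 5, 3, 21, 16, 9, 22, 20, 12, 13, 14, 23, 8, 17, 1, 19, 11, 7, 10, 15], [0, 18, 4, 6, 2, 5, 3, 21, 16, 9, 22, 20, 12, 13, 14, 23, 8, 17, 1, 19, 11, 7, 10, 15]), (1, 217, 216)),
   (([0, 3, 12, 6, 2, 17, 13, 20, 8, 9, 23, 21, 16, 1, 22, 11, 4, 5, 18, 15, 14, 19, 7, 10], [0, 13, 4, 1, 16, 17, 3, 22, 8, 9, 23, 15, 2, 6, 20, 19, 12, 5, 18, 21, 7, 11, 14, 10]), (1, 128, 141)),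
   (([0, 1, 13, 9, 3, 23, 16, 15, 12, 6, 14, 19, 4, 2, 11, 22, 18, 5, 8, 10, 17, 7, 20, 21], [0, 1, 13, 4, 12, 17, 9, 21, 18, 3, 19, 14, 8, 2, 10, 7, 6, 20, 16, 11, 22, 23, 15, 5]), (2, 121, 0)),
   (([0, 9, 4, 16, 13, 5, 2, 17, 12, 6, 21, 7, 18, 1, 20, 19, 3, 23, 8, 22, 11, 10, 15, 14], [0, 13, 6, 16, 2, 5, 9, 11, 18, 1, 21, 20, 8, 4, 23, 22, 3, 7, 12, 15, 14, 10, 19, 17]), (1, 220, 219)),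
   (([0, 13, 6, 8, 1, 19, 4, 23, 18, 9, 10, 22, 3, 2, 7, 17, 12, 14, 16, 20, 11, 21, 5, 15], [0, 4, 13, 12, 6, 22, 2, 14, 3, 9, 10, 20, 16, 1, 17, 23, 18, 15, 8, 5, 19, 21, 11, 7]), (1, 136, 136)),
   (([0, 9, 4, 1, 6, 22, 3, 17, 18, 13, 23, 14, 12, 16, 20, 19, 2, 21, 8, 5, 10, 11, 15, 7], [0, 3, 16, 6, 2, 19, 4, 23, 18, 1, 20, 21, 12, 9, 11, 22, 13, 7, 8, 15, 14, 17, 5, 10]), (2, 126, 0)),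
   (([0, 16, 3, 18, 9, 5, 6, 7, 8, 13, 23, 15, 1, 4, 17, 21, 12, 20, 2, 10, 14, 11, 22, 19], [0, 12, 18, 2, 13, 5, 6, 7, 8, 4, 19, 21, 16, 9, 20, 11, 1, 14, 3, 23, 17, 15, 22, 10]), (1, 223, 222)),
   (([0, 18, 6, 4, 2, 5, 9, 22, 13, 3, 21, 20, 12, 16, 14, 11, 1, 15, 8, 7, 23, 19, 10, 17], [0, 16, 4, 9, 3, 5, 2, 19, 18, 6, 22, 15, 12, 8, 14, 17, 13, 23, 1, 21, 11, 10, 7, 20]), (1, 206, 206)),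
   (([0, 16, 18, 4, 8, 5, 12, 23, 3, 1, 19, 15, 6, 9, 10, 11, 2, 7, 13, 14, 21, 17, 20, 22], [0, 9, 16, 8, 3, 5, 12, 17, 4, 13, 14, 15, 6, 18, 19, 11, 1, 21, 2, 10, 22, 20, 23, 7]), (1, 210, 206)),
   (([0, 1, 16, 2, 6, 5, 13, 10, 9, 4, 17, 23, 18, 8, 20, 14, 12, 11, 3, 21, 19, 15, 22, 7], [0, 1, 3, 18, 9, 5, 4, 23, 13, 8, 7, 17, 16, 6, 15, 21, 2, 10, 12, 20, 14, 19, 22, 11]), (1, 221, 206)),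
   (([0, 13, 3, 8, 4, 5, 9, 20, 1, 18, 7, 11, 16, 2, 15, 10, 6, 21, 12, 23, 14, 22, 19, 17], [0, 8, 13, 2, 4, 5, 16, 10, 3, 6, 15, 11, 18, 1, 20, 14, 12, 23, 9, 22, 7, 17, 21, 19]), (1, 210, 208)),
   (([0, 9, 8, 18, 4, 5, 1, 14, 16, 6, 7, 15, 12, 3, 10, 20, 2, 17, 13, 22, 11, 19, 21, 23], [0, 6, 16, 13, 4, 5, 9, 10, 2, 1, 14, 20, 12, 18, 7, 11, 8, 17, 3, 21, 15, 22, 19, 23]), (1, 208, 215)),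
   (([0, 6, 9, 1, 13, 5, 12, 20, 3, 4, 19, 17, 16, 18, 7, 11, 2, 10, 8, 22, 21, 15, 23, 14], [0, 3, 16, 8, 9, 5, 1, 14, 18, 2, 17, 15, 6, 4, 23, 21, 12, 11, 13, 10, 7, 20, 19, 22]), (1, 218, 212)),
   (([0, 8, 13, 2, 4, 5, 16, 10, 3, 6, 15, 11, 18, 1, 20, 14, 12, 23, 9, 22, 7, 17, 21, 19], [0, 13, 3, 8, 4, 5, 9, 20, 1, 18, 7, 11, 16, 2, 15, 10, 6, 21, 12, 23, 14, 22, 19, 17]), (2, 228, 0)),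
   (([0, 16, 6, 8, 1, 5, 18, 7, 2, 4, 22, 23, 12, 9, 10, 11, 13, 15, 3, 21, 17, 14, 19, 20], [0, 4, 8, 18, 9, 5, 2, 7, 3, 13, 14, 15, 12, 16, 21, 17, 1, 20, 6, 22, 23, 19, 10, 11]), (1, 231, 230)),
   (([0, 4, 18, 8, 9, 5, 13, 14, 16, 2, 7, 15, 12, 3, 21, 23, 6, 11, 1, 19, 17, 22, 10, 20], [0, 18, 9, 13, 1, 5, 16, 10, 3, 4, 22, 17, 12, 6, 7, 11, 8, 20, 2, 19, 23, 14, 21, 15]), (1, 215, 221)),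
   (([0, 6, 16, 13, 4, 5, 9, 10, 2, 1, 14, 20, 12, 18, 7, 11, 8, 17, 3, 21, 15, 22, 19, 23], [0, 9, 8, 18, 4, 5, 1, 14, 16, 6, 7, 15, 12, 3, 10, 20, 2, 17, 13, 22, 11, 19, 21, 23]), (2, 229, 0)),
   (([0, 4, 3, 2, 1, 5, 18, 7, 8, 16, 10, 11, 12, 13, 22, 23, 9, 20, 6, 21, 17, 19, 14, 15], [0, 4, 3, 2, 1, 5, 18, 7, 8, 16, 10, 11, 12, 13, 22, 23, 9, 20, 6, 21, 17, 19, 14, 15]), (1, 234, 233)),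
   (([0, 4, 3, 2, 12, 5, 16, 10, 9, 18, 7, 14, 1, 6, 22, 21, 8, 20, 13, 23, 19, 17, 11, 15], [0, 12, 3, 2, 1, 5, 13, 10, 16, 8, 7, 22, 4, 18, 11, 23, 6, 21, 9, 20, 17, 15, 14, 19]), (1, 212, 208)),
   (([0, 1, 3, 18, 9, 5, 4, 23, 13, 8, 7, 17, 16, 6, 15, 21, 2, 10, 12, 20, 14, 19, 22, 11], [0, 1, 16, 2, 6, 5, 13, 10, 9, 4, 17, 23, 18, 8, 20, 14, 12, 11, 3, 21, 19, 15, 22, 7]), (2, 227, 0)),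
   (([0, 9, 18, 3, 16, 5, 2, 7, 8, 12, 23, 15, 1, 4, 22, 19, 13, 14, 6, 11, 20, 10, 17, 21], [0, 12, 6, 3, 13, 5, 18, 7, 8, 1, 21, 19, 9, 16, 17, 11, 4, 22, 2, 15, 20, 23, 14, 10]), (1, 237, 236)),
   (([0, 1, 18, 12, 2, 5, 13, 23, 3, 9, 11, 22, 8, 16, 21, 14, 6, 7, 4, 19, 20, 15, 10, 17], [0, 1, 4, 8, 18, 5, 16, 17, 12, 9, 22, 10, 3, 6, 15, 21, 13, 23, 2, 19, 20, 14, 11, 7]), (1, 212, 206)),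
   (([0, 9, 16, 8, 3, 5, 12, 17, 4, 13, 14, 15, 6, 18, 19, 11, 1, 21, 2, 10, 22, 20, 23, 7], [0, 16, 18, 4, 8, 5, 12, 23, 3, 1, 19, 15, 6, 9, 10, 11, 2, 7, 13, 14, 21, 17, 20, 22]), (2, 226, 0)),
   (([0, 9, 2, 6, 16, 5, 18, 7, 8, 13, 15, 23, 4, 1, 20, 19, 12, 17, 3, 10, 22, 11, 14, 21], [0, 13, 2, 18, 12, 5, 3, 7, 8, 1, 19, 21, 16, 9, 22, 10, 4, 17, 6, 15, 14, 23, 20, 11]), (1, 240, 239)),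
   (([0, 18, 8, 9, 16, 5, 6, 22, 4, 1, 20, 15, 2, 3, 23, 7, 12, 17, 13, 14, 19, 11, 21, 10], [0, 9, 12, 13, 8, 5, 6, 15, 2, 3, 23, 21, 16, 18, 19, 11, 4, 17, 1, 20, 10, 22, 7, 14]), (1, 210, 212)),
   (([0, 16, 4, 9, 3, 5, 2, 19, 18, 6, 22, 15, 12, 8, 14, 17, 13, 23, 1, 21, 11, 10, 7, 20], [0, 18, 6, 4, 2, 5, 9, 22, 13, 3, 21, 20, 12, 16, 14, 11, 1, 15, 8, 7, 23, 19, 10, 17]), (2, 225, 0)),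
   (([0, 1, 18, 6, 13, 5, 2, 7, 3, 16, 11, 17, 4, 9, 20, 19, 12, 23, 8, 14, 21, 15, 10, 22], [0, 1, 6, 8, 12, 5, 3, 7, 18, 13, 22, 10, 16, 4, 19, 21, 9, 11, 2, 15, 14, 20, 23, 17]), (1, 243, 242)),
   (([0, 8, 9, 2, 6, 5, 3, 10, 16, 4, 19, 23, 12, 1, 14, 20, 18, 11, 13, 22, 17, 7, 21, 15], [0, 13, 3, 6, 9, 5, 4, 21, 1, 2, 7, 17, 12, 18, 14, 23, 8, 20, 16, 10, 15, 22, 19, 11]), (1, 208, 228)),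
   (([0, 13, 8, 3, 4, 5, 18, 7, 2, 9, 20, 11, 16, 1, 15, 14, 12, 17, 6, 22, 10, 23, 19, 21], [0, 13, 8, 3, 4, 5, 18, 7, 2, 9, 20, 11, 16, 1, 15, 14, 12, 17, 6, 22, 10, 23, 19, 21]), (1, 237, 245)),
   (([0, 12, 18, 2, 13, 5, 6, 7, 8, 4, 19, 21, 16, 9, 20, 11, 1, 14, 3, 23, 17, 15, 22, 10], [0, 16, 3, 18, 9, 5, 6, 7, 8, 13, 23, 15, 1, 4, 17, 21, 12, 20, 2, 10, 14, 11, 22, 19]), (1, 224, 224)),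
   (([0, 13, 3, 6, 12, 5, 2, 7, 8, 4, 21, 19, 9, 16, 14, 10, 1, 20, 18, 23, 22, 15, 17, 11], [0, 16, 6, 2, 9, 5, 3, 7, 8, 12, 15, 23, 4, 1, 14, 21, 13, 22, 18, 11, 17, 10, 20, 19]), (1, 238, 224)),
   (([0, 9, 18, 8, 4, 5, 6, 7, 3, 1, 14, 15, 12, 16, 10, 11, 13, 23, 2, 19, 20, 22, 21, 17], [0, 9, 18, 8, 4, 5, 6, 7, 3, 1, 14, 15, 12, 16, 10, 11, 13, 23, 2, 19, 20, 22, 21, 17]), (1, 235, 232)),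
   (([0, 13, 2, 8, 9, 5, 6, 7, 18, 16, 17, 21, 1, 12, 23, 15, 4, 19, 3, 10, 14, 22, 11, 20], [0, 12, 2, 18, 16, 5, 6, 7, 3, 4, 19, 22, 13, 1, 20, 15, 9, 10, 8, 17, 23, 11, 21, 14]), (1, 238, 232))]

theorem nodes_ok : slpOK nodes = true := by decide +kernel

/-- witnesses of level A1 -/
def rowA1 : List ℕ := [3, 108, 118, 105, 114, 0, 110, 0, 115, 117, 0, 0, 99, 93, 0, 0, 116, 0, 102, 0, 0, 0, 0, 0]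

theorem rowA1_ok : lvlOKD nodes 340831 0 0 340831 rowA1 = true := by decide +kernel

/-- witnesses of level A2 -/
def rowA2 : List ℕ := [0, 3, 130, 126, 140, 0, 133, 0, 124, 128, 0, 0, 141, 139, 0, 0, 142, 0, 138, 0, 0, 0, 0, 0]

theorem rowA2_ok : lvlOKD nodes 340831 1 1 340830 rowA2 = true := by decide +kernel

/-- witnesses of level A3 -/
def rowA3 : List ℕ := [0, 0, 3, 159, 161, 0, 153, 0, 147, 156, 0, 0, 150, 154, 0, 0, 160, 0, 144, 0, 0, 0, 0, 0]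

theorem rowA3_ok : lvlOKD nodes 340831 3 2 340828 rowA3 = true := by decide +kernel

/-- witnesses of level A4 -/
def rowA4 : List ℕ := [0, 0, 0, 3, 177, 0, 183, 0, 171, 168, 0, 0, 166, 182, 0, 0, 164, 0, 174, 0, 0, 0, 0, 0]

theorem rowA4_ok : lvlOKD nodes 340831 7 3 340824 rowA4 = true := by decide +kernel

/-- witnesses of level A5 -/
def rowA5 : List ℕ := [0, 0, 0, 0, 3, 0, 188, 0, 185, 195, 0, 0, 192, 189, 0, 0, 199, 0, 197, 0, 0, 0, 0, 0]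

theorem rowA5_ok : lvlOKD nodes 340831 15 4 340816 rowA5 = true := by decide +kernel

/-- witnesses of level B2 -/
def rowB2 : List ℕ := [0, 0, 0, 0, 0, 3, 0, 128, 0, 0, 202, 136, 0, 0, 141, 130, 0, 121, 0, 126, 200, 203, 201, 124]

theorem rowB2_ok : lvlOKD nodes 340831 1 5 16436384 rowB2 = true := by decide +kernel

/-- witnesses of level B3 -/
def rowB3 : List ℕ := [0, 0, 0, 0, 0, 0, 0, 3, 0, 0, 227, 212, 0, 0, 229, 215, 0, 221, 0, 208, 228, 206, 225, 226]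

theorem rowB3_ok : lvlOKD nodes 340831 33 7 16436352 rowB3 = true := by decide +kernel

/-- witnesses of level B4 -/
def rowB4 : List ℕ := [0, 0, 0, 0, 0, 0, 0, 0, 0, 0, 3, 244, 0, 0, 249, 241, 0, 250, 0, 247, 246, 248, 232, 224]

theorem rowB4_ok : lvlOKD nodes 340831 161 10 16436224 rowB4 = true := by decide +kernel


theorem lvA1 : LvlD 340831 0 0 340831 :=
  ⟨by norm_num, by norm_num, subD (by norm_num) (by decide) (by decide),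
    lvlD_sound nodes_ok (by norm_num) (by norm_num) rowA1_ok⟩

theorem lvA2 : LvlD 340831 1 1 340830 :=
  ⟨by norm_num, by norm_num, subD (by norm_num) (by decide) (by decide),
    lvlD_sound nodes_ok (by norm_num) (by norm_num) rowA2_ok⟩

theorem lvA3 : LvlD 340831 3 2 340828 :=
  ⟨by norm_num, by norm_num, subD (by norm_num) (by decide) (by decide),
    lvlD_sound nodes_ok (by norm_num) (by norm_num) rowA3_ok⟩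

theorem lvA4 : LvlD 340831 7 3 340824 :=
  ⟨by norm_num, by norm_num, subD (by norm_num) (by decide) (by decide),
    lvlD_sound nodes_ok (by norm_num) (by norm_num) rowA4_ok⟩

theorem lvA5 : LvlD 340831 15 4 340816 :=
  ⟨by norm_num, by norm_num, subD (by norm_num) (by decide) (by decide),
    lvlD_sound nodes_ok (by norm_num) (by norm_num) rowA5_ok⟩

theorem lvB2 : LvlD 340831 1 5 16436384 :=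
  ⟨by norm_num, by norm_num, subD (by norm_num) (by decide) (by decide),
    lvlD_sound nodes_ok (by norm_num) (by norm_num) rowB2_ok⟩

theorem lvB3 : LvlD 340831 33 7 16436352 :=
  ⟨by norm_num, by norm_num, subD (by norm_num) (by decide) (by decide),
    lvlD_sound nodes_ok (by norm_num) (by norm_num) rowB3_ok⟩

theorem lvB4 : LvlD 340831 161 10 16436224 :=
  ⟨by norm_num, by norm_num, subD (by norm_num) (by decide) (by decide),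
    lvlD_sound nodes_ok (by norm_num) (by norm_num) rowB4_ok⟩


theorem cntA1 : Nat.card (stabD 340831 0) = 12 * Nat.card (stabD 340831 1) := by
  have h := lvA1.count
  rw [show popc 340831 = 12 from by decide, show ((0 : ℕ) ||| 2 ^ 0) = 1 from by decide] at h
  exact h

theorem cntA2 : Nat.card (stabD 340831 1) = 11 * Nat.card (stabD 340831 3) := by
  have h := lvA2.count
  rw [show popc 340830 = 11 from by decide, show ((1 : ℕ) ||| 2 ^ 1) = 3 from by decide] at h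
  exact h

theorem cntA3 : Nat.card (stabD 340831 3) = 10 * Nat.card (stabD 340831 7) := by
  have h := lvA3.count
  rw [show popc 340828 = 10 from by decide, show ((3 : ℕ) ||| 2 ^ 2) = 7 from by decide] at h
  exact h

theorem cntA4 : Nat.card (stabD 340831 7) = 9 * Nat.card (stabD 340831 15) := by
  have h := lvA4.count
  rw [show popc 340824 = 9 from by decide, show ((7 : ℕ) ||| 2 ^ 3) = 15 from by decide] at h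
  exact h

theorem cntA5 : Nat.card (stabD 340831 15) = 8 * Nat.card (stabD 340831 31) := by
  have h := lvA5.count
  rw [show popc 340816 = 8 from by decide, show ((15 : ℕ) ||| 2 ^ 4) = 31 from by decide] at h
  exact h


theorem M1 : M 1 = 340831 := by decide +kernel

theorem root_dodecad : fsOf 340831 ∈ dodecads := by
  rw [← M1]
  exact fsOf_mem_weight 1 12 (by decide +kernel)

theorem card0 : Nat.card (stabD 340831 0) = 95040 := by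
  have he : stabD 340831 0 = (MulAction.stabilizer M24 (fsOf 340831)).map M24.subtype := by
    ext g
    rw [Subgroup.mem_map, mem_stabD]
    constructor
    · rintro ⟨hg, hD, -⟩
      exact ⟨⟨g, hg⟩, hD, rfl⟩
    · rintro ⟨x, hx, rfl⟩
      refine ⟨x.2, hx, ?_⟩
      intro j _ hbit
      simp at hbit
  rw [he, Subgroup.card_map_of_injective M24.subtype_injective]
  exact Cfsg.Agent.Lib_lead_M24Oct.dodecad_stab _ root_dodecad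

theorem stab5 : stabD 340831 31 = ⊥ := by
  apply Subgroup.eq_bot_of_card_eq
  have h := card0
  rw [cntA1, cntA2, cntA3, cntA4, cntA5] at h
  omega

theorem cA1 : ∀ z : Fin 24, (340831 : ℕ).testBit z.val = true →
    (340831 : ℕ).testBit z.val = true := fun _ h => h

theorem cA2 : ∀ z : Fin 24, (340831 : ℕ).testBit z.val = true → z.val ≠ 0 →
    (340830 : ℕ).testBit z.val = true := by decide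

theorem cA3 : ∀ z : Fin 24, (340831 : ℕ).testBit z.val = true → z.val ≠ 0 → z.val ≠ 1 →
    (340828 : ℕ).testBit z.val = true := by decide

theorem cA4 : ∀ z : Fin 24, (340831 : ℕ).testBit z.val = true → z.val ≠ 0 → z.val ≠ 1 →
    z.val ≠ 2 → (340824 : ℕ).testBit z.val = true := by decide

theorem cA5 : ∀ z : Fin 24, (340831 : ℕ).testBit z.val = true → z.val ≠ 0 → z.val ≠ 1 →
    z.val ≠ 2 → z.val ≠ 3 → (340816 : ℕ).testBit z.val = true := by decide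

theorem cB2 : ∀ z : Fin 24, (340831 : ℕ).testBit z.val = false →
    (16436384 : ℕ).testBit z.val = true := by decide

theorem cB3 : ∀ z : Fin 24, (340831 : ℕ).testBit z.val = false → z.val ≠ 5 →
    (16436352 : ℕ).testBit z.val = true := by decide

theorem cB4 : ∀ z : Fin 24, (340831 : ℕ).testBit z.val = false → z.val ≠ 5 → z.val ≠ 7 →
    (16436224 : ℕ).testBit z.val = true := by decide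

theorem idx_ne {y : GolayPt} {c : ℕ} (h : y ≠ ptN c) : idx y ≠ c :=
  fun heq => h (by rw [← heq, ptN_idx])

theorem rA1 (p : GolayPt) (hp : (340831 : ℕ).testBit (idx p) = true) :
    ∃ g ∈ stabD 340831 0, g p = ptN 0 := by
  obtain ⟨g, hg, h, -⟩ := step_transD lvA1 1 (stabD 340831 0).one_mem p hp
  exact ⟨g, hg, h⟩

theorem rA2 (p q : GolayPt) (hp : (340831 : ℕ).testBit (idx p) = true)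
    (hq : (340831 : ℕ).testBit (idx q) = true) (hpq : p ≠ q) :
    ∃ g ∈ stabD 340831 0, g p = ptN 0 ∧ g q = ptN 1 := by
  obtain ⟨g1, hg1, h1⟩ := rA1 p hp
  have hq0 : g1 q ≠ ptN 0 := fun h => hpq (g1.injective (h1.trans h.symm))
  obtain ⟨g, hg, h, hfix⟩ := step_transD lvA2 g1 hg1 q
    (cA2 ⟨_, idx_lt _⟩ (by rw [bitD hg1]; exact hq) (idx_ne hq0))
  refine ⟨g, hg, ?_, h⟩
  rw [hfix p (by rw [h1]; decide), h1]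

theorem rA3 (p q r : GolayPt) (hp : (340831 : ℕ).testBit (idx p) = true)
    (hq : (340831 : ℕ).testBit (idx q) = true) (hr : (340831 : ℕ).testBit (idx r) = true)
    (hpq : p ≠ q) (hpr : p ≠ r) (hqr : q ≠ r) :
    ∃ g ∈ stabD 340831 0, g p = ptN 0 ∧ g q = ptN 1 ∧ g r = ptN 2 := by
  obtain ⟨g1, hg1, h1, h2⟩ := rA2 p q hp hq hpq
  have hr0 : g1 r ≠ ptN 0 := fun h => hpr (g1.injective (h1.trans h.symm))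
  have hr1 : g1 r ≠ ptN 1 := fun h => hqr (g1.injective (h2.trans h.symm))
  obtain ⟨g, hg, h, hfix⟩ := step_transD lvA3 g1 hg1 r
    (cA3 ⟨_, idx_lt _⟩ (by rw [bitD hg1]; exact hr) (idx_ne hr0) (idx_ne hr1))
  refine ⟨g, hg, ?_, ?_, h⟩
  · rw [hfix p (by rw [h1]; decide), h1]
  · rw [hfix q (by rw [h2]; decide), h2]

theorem rA4 (p q r s : GolayPt) (hp : (340831 : ℕ).testBit (idx p) = true)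
    (hq : (340831 : ℕ).testBit (idx q) = true) (hr : (340831 : ℕ).testBit (idx r) = true)
    (hs : (340831 : ℕ).testBit (idx s) = true)
    (hpq : p ≠ q) (hpr : p ≠ r) (hqr : q ≠ r) (hps : p ≠ s) (hqs : q ≠ s) (hrs : r ≠ s) :
    ∃ g ∈ stabD 340831 0, g p = ptN 0 ∧ g q = ptN 1 ∧ g r = ptN 2 ∧ g s = ptN 3 := by
  obtain ⟨g1, hg1, h1, h2, h3⟩ := rA3 p q r hp hq hr hpq hpr hqr
  have hs0 : g1 s ≠ ptN 0 := fun h => hps (g1.injective (h1.trans h.symm))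
  have hs1 : g1 s ≠ ptN 1 := fun h => hqs (g1.injective (h2.trans h.symm))
  have hs2 : g1 s ≠ ptN 2 := fun h => hrs (g1.injective (h3.trans h.symm))
  obtain ⟨g, hg, h, hfix⟩ := step_transD lvA4 g1 hg1 s
    (cA4 ⟨_, idx_lt _⟩ (by rw [bitD hg1]; exact hs) (idx_ne hs0) (idx_ne hs1) (idx_ne hs2))
  refine ⟨g, hg, ?_, ?_, ?_, h⟩
  · rw [hfix p (by rw [h1]; decide), h1]
  · rw [hfix q (by rw [h2]; decide), h2]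
  · rw [hfix r (by rw [h3]; decide), h3]

theorem rA5 (p q r s u : GolayPt) (hp : (340831 : ℕ).testBit (idx p) = true)
    (hq : (340831 : ℕ).testBit (idx q) = true) (hr : (340831 : ℕ).testBit (idx r) = true)
    (hs : (340831 : ℕ).testBit (idx s) = true) (hu : (340831 : ℕ).testBit (idx u) = true)
    (hpq : p ≠ q) (hpr : p ≠ r) (hqr : q ≠ r) (hps : p ≠ s) (hqs : q ≠ s) (hrs : r ≠ s)
    (hpu : p ≠ u) (hqu : q ≠ u) (hru : r ≠ u) (hsu : s ≠ u) :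
    ∃ g ∈ stabD 340831 0, g p = ptN 0 ∧ g q = ptN 1 ∧ g r = ptN 2 ∧ g s = ptN 3 ∧
      g u = ptN 4 := by
  obtain ⟨g1, hg1, h1, h2, h3, h4⟩ := rA4 p q r s hp hq hr hs hpq hpr hqr hps hqs hrs
  have hu0 : g1 u ≠ ptN 0 := fun h => hpu (g1.injective (h1.trans h.symm))
  have hu1 : g1 u ≠ ptN 1 := fun h => hqu (g1.injective (h2.trans h.symm))
  have hu2 : g1 u ≠ ptN 2 := fun h => hru (g1.injective (h3.trans h.symm))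
  have hu3 : g1 u ≠ ptN 3 := fun h => hsu (g1.injective (h4.trans h.symm))
  obtain ⟨g, hg, h, hfix⟩ := step_transD lvA5 g1 hg1 u
    (cA5 ⟨_, idx_lt _⟩ (by rw [bitD hg1]; exact hu) (idx_ne hu0) (idx_ne hu1) (idx_ne hu2)
      (idx_ne hu3))
  refine ⟨g, hg, ?_, ?_, ?_, ?_, h⟩
  · rw [hfix p (by rw [h1]; decide), h1]
  · rw [hfix q (by rw [h2]; decide), h2]
  · rw [hfix r (by rw [h3]; decide), h3]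
  · rw [hfix s (by rw [h4]; decide), h4]

theorem rB (p q r s : GolayPt) (hp : (340831 : ℕ).testBit (idx p) = true)
    (hq : (340831 : ℕ).testBit (idx q) = false) (hr : (340831 : ℕ).testBit (idx r) = false)
    (hs : (340831 : ℕ).testBit (idx s) = false) (hqr : q ≠ r) (hqs : q ≠ s) (hrs : r ≠ s) :
    ∃ g ∈ stabD 340831 0, g p = ptN 0 ∧ g q = ptN 5 ∧ g r = ptN 7 ∧ g s = ptN 10 := by
  obtain ⟨g1, hg1, h1⟩ := rA1 p hp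
  obtain ⟨g2, hg2, h2, hfix2⟩ := step_transD lvB2 g1 hg1 q
    (cB2 ⟨_, idx_lt _⟩ (by rw [bitD hg1]; exact hq))
  have h21 : g2 p = ptN 0 := by rw [hfix2 p (by rw [h1]; decide), h1]
  have hr5 : g2 r ≠ ptN 5 := fun h => hqr (g2.injective (h2.trans h.symm))
  obtain ⟨g3, hg3, h3, hfix3⟩ := step_transD lvB3 g2 hg2 r
    (cB3 ⟨_, idx_lt _⟩ (by rw [bitD hg2]; exact hr) (idx_ne hr5))
  have h31 : g3 p = ptN 0 := by rw [hfix3 p (by rw [h21]; decide), h21]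
  have h32 : g3 q = ptN 5 := by rw [hfix3 q (by rw [h2]; decide), h2]
  have hs5 : g3 s ≠ ptN 5 := fun h => hqs (g3.injective (h32.trans h.symm))
  have hs7 : g3 s ≠ ptN 7 := fun h => hrs (g3.injective (h3.trans h.symm))
  obtain ⟨g4, hg4, h4, hfix4⟩ := step_transD lvB4 g3 hg3 s
    (cB4 ⟨_, idx_lt _⟩ (by rw [bitD hg3]; exact hs) (idx_ne hs5) (idx_ne hs7))
  refine ⟨g4, hg4, ?_, ?_, ?_, h4⟩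
  · rw [hfix4 p (by rw [h31]; decide), h31]
  · rw [hfix4 q (by rw [h32]; decide), h32]
  · rw [hfix4 r (by rw [h3]; decide), h3]

end Cfsg.Agent.Lib_lead_M12Data
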