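import Mathlib
import Cfsg.Prelude.Def_Sporadic_a
import Cfsg.Agent.Lib_lead_Golay
import Cfsg.Agent.Lib_lead_GolayPerm
import Cfsg.Agent.Lib_lead_M24
import Cfsg.Agent.Lib_lead_M24Data
import Cfsg.Agent.Lib_lead_M24Chain
import Cfsg.Agent.Lib_lead_M24Oct
import Cfsg.Agent.Lib_lead_M12
import Cfsg.Agent.Lib_lead_M12Data

/-! The stabilizer of a dodecad: transitivity properties and orders. -/

set_option autoImplicit false

namespace Cfsg.Agent.Lib_lead_M12Thm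

open Cfsg Cfsg.Agent.Lib_lead_Golay Cfsg.Agent.Lib_lead_GolayPerm Cfsg.Agent.Lib_lead_M24
  Cfsg.Agent.Lib_lead_M24Chain Cfsg.Agent.Lib_lead_M12 Cfsg.Agent.Lib_lead_M12Data
open scoped Pointwise

theorem exists_sigma (d : Finset GolayPt) (hd : d ∈ dodecads) :
    ∃ σ ∈ M24, σ • fsOf 340831 = d := by
  obtain ⟨σ, hσ⟩ := Cfsg.Agent.Lib_lead_M24Data.dodecads_trans _ d root_dodecad hd
  exact ⟨σ.1, σ.2, hσ⟩

theorem bit_iff {σ : Equiv.Perm GolayPt} {d : Finset GolayPt} (hσd : σ • fsOf 340831 = d)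
    (p : GolayPt) : (340831 : ℕ).testBit (idx (σ⁻¹ p)) = true ↔ p ∈ d := by
  rw [← mem_fsOf, ← hσd, ← Finset.inv_smul_mem_iff]
  rfl

theorem bit_false {σ : Equiv.Perm GolayPt} {d : Finset GolayPt} (hσd : σ • fsOf 340831 = d)
    (p : GolayPt) (hp : p ∉ d) : (340831 : ℕ).testBit (idx (σ⁻¹ p)) = false := by
  rw [← bit_iff hσd] at hp
  simpa using hp

/-- conjugating an element of the root stabilizer -/
theorem conj_lemma {σ : Equiv.Perm GolayPt} (hσ : σ ∈ M24) {d : Finset GolayPt}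
    (hσd : σ • fsOf 340831 = d) {g1 g2 : Equiv.Perm GolayPt} (hg1 : g1 ∈ stabD 340831 0)
    (hg2 : g2 ∈ stabD 340831 0) :
    σ * (g2⁻¹ * g1) * σ⁻¹ ∈ M24 ∧ (σ * (g2⁻¹ * g1) * σ⁻¹) • d = d ∧
      ∀ u v : GolayPt, g1 (σ⁻¹ u) = g2 (σ⁻¹ v) → (σ * (g2⁻¹ * g1) * σ⁻¹) u = v := by
  have hh : g2⁻¹ * g1 ∈ stabD 340831 0 :=
    (stabD 340831 0).mul_mem ((stabD 340831 0).inv_mem hg2) hg1
  refine ⟨M24.mul_mem (M24.mul_mem hσ hh.1) (M24.inv_mem hσ), ?_, ?_⟩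
  · have h1 : σ⁻¹ • d = fsOf 340831 := by rw [← hσd, inv_smul_smul]
    rw [mul_smul, mul_smul, h1, hh.2.1, hσd]
  · intro u v huv
    rw [Equiv.Perm.mul_apply, Equiv.Perm.mul_apply, Equiv.Perm.mul_apply, huv,
      Equiv.Perm.inv_def g2, Equiv.symm_apply_apply, Equiv.Perm.inv_def σ,
      Equiv.apply_symm_apply]

/-- the stabilizer of a dodecad is transitive on it -/
theorem stab_trans (d : Finset GolayPt) (hd : d ∈ dodecads) (p z : GolayPt) (hp : p ∈ d)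
    (hz : z ∈ d) : ∃ g ∈ M24, g • d = d ∧ g p = z := by
  obtain ⟨σ, hσ, hσd⟩ := exists_sigma d hd
  obtain ⟨g1, hg1, h1⟩ := rA1 (σ⁻¹ p) ((bit_iff hσd p).mpr hp)
  obtain ⟨g2, hg2, h2⟩ := rA1 (σ⁻¹ z) ((bit_iff hσd z).mpr hz)
  obtain ⟨hM, hd', hmap⟩ := conj_lemma hσ hσd hg1 hg2
  exact ⟨_, hM, hd', hmap p z (h1.trans h2.symm)⟩

theorem card_dodecad {d : Finset GolayPt} (hd : d ∈ dodecads) : d.card = 12 := hd.2

theorem card_stab_dp (d : Finset GolayPt) (hd : d ∈ dodecads) (p : GolayPt) (hp : p ∈ d) :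
    Nat.card ↥(MulAction.stabilizer M24 d ⊓ MulAction.stabilizer M24 p) = 7920 := by
  have h := orbit_count (G := M24) (MulAction.stabilizer M24 d) p d
    (fun g hg => by
      rw [MulAction.mem_stabilizer_iff] at hg
      have h1 : g • p ∈ g • d := Finset.smul_mem_smul_finset hp
      rwa [hg] at h1)
    (fun z hz => by
      obtain ⟨g, hg, hgd, hgp⟩ := stab_trans d hd p z hp hz
      exact ⟨⟨g, hg⟩, hgd, hgp⟩)
  rw [Cfsg.Agent.Lib_lead_M24Oct.dodecad_stab d hd, card_dodecad hd] at h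
  omega

theorem bit31 : ∀ j : Fin 24, (31 : ℕ).testBit j.val = true → j.val < 5 := by decide

/-- the stabilizer of a dodecad is sharply 5-transitive on it -/
theorem sharp (d : Finset GolayPt) (hd : d ∈ dodecads) (x y : Fin 5 ↪ GolayPt)
    (hx : ∀ i, x i ∈ d) (hy : ∀ i, y i ∈ d) :
    ∃! g : MulAction.stabilizer M24 d, ∀ i, ((g : M24) : Equiv.Perm GolayPt) (x i) = y i := by
  obtain ⟨σ, hσ, hσd⟩ := exists_sigma d hd
  have key : ∀ x : Fin 5 ↪ GolayPt, (∀ i, x i ∈ d) →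
      ∃ g ∈ stabD 340831 0, ∀ i : Fin 5, g (σ⁻¹ (x i)) = ptN i.val := by
    intro x hx
    have hne : ∀ i j : Fin 5, i ≠ j → σ⁻¹ (x i) ≠ σ⁻¹ (x j) :=
      fun i j hij h => hij (x.injective (σ⁻¹.injective h))
    obtain ⟨g, hg, h0, h1, h2, h3, h4⟩ := rA5 (σ⁻¹ (x 0)) (σ⁻¹ (x 1)) (σ⁻¹ (x 2)) (σ⁻¹ (x 3))
      (σ⁻¹ (x 4)) ((bit_iff hσd _).mpr (hx 0)) ((bit_iff hσd _).mpr (hx 1))
      ((bit_iff hσd _).mpr (hx 2)) ((bit_iff hσd _).mpr (hx 3)) ((bit_iff hσd _).mpr (hx 4))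
      (hne _ _ (by decide)) (hne _ _ (by decide)) (hne _ _ (by decide)) (hne _ _ (by decide))
      (hne _ _ (by decide)) (hne _ _ (by decide)) (hne _ _ (by decide)) (hne _ _ (by decide))
      (hne _ _ (by decide)) (hne _ _ (by decide))
    refine ⟨g, hg, ?_⟩
    intro i
    fin_cases i
    · exact h0
    · exact h1
    · exact h2
    · exact h3
    · exact h4
  obtain ⟨g1, hg1, hx1⟩ := key x hx
  obtain ⟨g2, hg2, hy2⟩ := key y hy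
  obtain ⟨hM, hd', hmap⟩ := conj_lemma hσ hσd hg1 hg2
  have hgx : ∀ i, (σ * (g2⁻¹ * g1) * σ⁻¹) (x i) = y i :=
    fun i => hmap (x i) (y i) ((hx1 i).trans (hy2 i).symm)
  refine ⟨⟨⟨_, hM⟩, hd'⟩, hgx, ?_⟩
  rintro ⟨⟨a, haM⟩, had⟩ ha
  have had' : a • d = d := had
  have ha' : ∀ i, a (x i) = y i := ha
  apply Subtype.ext
  apply Subtype.ext
  show a = σ * (g2⁻¹ * g1) * σ⁻¹
  set g := σ * (g2⁻¹ * g1) * σ⁻¹ with hgdef
  -- `k = σ⁻¹ (g⁻¹ a) σ` lies in the root stabilizer and fixes the points `σ⁻¹ (x i)`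
  have hσinv : σ⁻¹ • d = fsOf 340831 := by rw [← hσd, inv_smul_smul]
  have hk : σ⁻¹ * (g⁻¹ * a) * σ ∈ stabD 340831 0 := by
    refine ⟨M24.mul_mem (M24.mul_mem (M24.inv_mem hσ) (M24.mul_mem (M24.inv_mem hM) haM)) hσ,
      ?_, ?_⟩
    · rw [mul_smul, mul_smul, mul_smul, hσd, had', inv_smul_eq_iff.mpr hd'.symm, hσinv]
    · intro j _ hbit
      simp at hbit
  have hkfix : ∀ i, (σ⁻¹ * (g⁻¹ * a) * σ) (σ⁻¹ (x i)) = σ⁻¹ (x i) := by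
    intro i
    rw [Equiv.Perm.mul_apply, Equiv.Perm.mul_apply, Equiv.Perm.mul_apply,
      Equiv.Perm.inv_def σ, Equiv.apply_symm_apply, ha' i, ← hgx i, Equiv.Perm.inv_def g,
      Equiv.symm_apply_apply]
  have hk' : g1 * (σ⁻¹ * (g⁻¹ * a) * σ) * g1⁻¹ ∈ stabD 340831 31 := by
    have h0 : g1 * (σ⁻¹ * (g⁻¹ * a) * σ) * g1⁻¹ ∈ stabD 340831 0 :=
      (stabD 340831 0).mul_mem ((stabD 340831 0).mul_mem hg1 hk) ((stabD 340831 0).inv_mem hg1)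
    refine ⟨h0.1, h0.2.1, ?_⟩
    intro j hj hbit
    have hj5 : j < 5 := bit31 ⟨j, hj⟩ hbit
    have hpt : ptN j = g1 (σ⁻¹ (x ⟨j, hj5⟩)) := (hx1 ⟨j, hj5⟩).symm
    rw [hpt, Equiv.Perm.mul_apply, Equiv.Perm.mul_apply, Equiv.Perm.inv_def g1,
      Equiv.symm_apply_apply, hkfix]
  rw [stab5, Subgroup.mem_bot] at hk'
  have hk1 : σ⁻¹ * (g⁻¹ * a) * σ = 1 := by
    have h1 : g1⁻¹ * (g1 * (σ⁻¹ * (g⁻¹ * a) * σ) * g1⁻¹) * g1 = g1⁻¹ * 1 * g1 := by rw [hk']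
    simpa [mul_assoc] using h1
  have hga : g⁻¹ * a = 1 := by
    have h1 : σ * (σ⁻¹ * (g⁻¹ * a) * σ) * σ⁻¹ = σ * 1 * σ⁻¹ := by rw [hk1]
    simpa [mul_assoc] using h1
  rw [inv_mul_eq_one] at hga
  exact hga.symm

/-- the stabilizer of a dodecad and one of its points is 3-transitive on the complement -/
theorem three (d : Finset GolayPt) (hd : d ∈ dodecads) (p : GolayPt) (hp : p ∈ d)
    (x y : Fin 3 ↪ GolayPt) (hx : ∀ i, x i ∉ d) (hy : ∀ i, y i ∉ d) :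
    ∃ g ∈ MulAction.stabilizer M24 d ⊓ MulAction.stabilizer M24 p,
      ∀ i, (g : Equiv.Perm GolayPt) (x i) = y i := by
  obtain ⟨σ0, hσ0, hσ0d⟩ := exists_sigma d hd
  obtain ⟨g0, hg0, h0⟩ := rA1 (σ0⁻¹ p) ((bit_iff hσ0d p).mpr hp)
  -- `σ = σ0 g0⁻¹` maps the root dodecad to `d` and the point `0` to `p`
  have hσ : σ0 * g0⁻¹ ∈ M24 := M24.mul_mem hσ0 (M24.inv_mem hg0.1)
  have hσd : (σ0 * g0⁻¹) • fsOf 340831 = d := by
    rw [mul_smul, inv_smul_eq_iff.mpr hg0.2.1.symm, hσ0d]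
  have hσp : (σ0 * g0⁻¹)⁻¹ p = ptN 0 := by
    rw [mul_inv_rev, inv_inv, Equiv.Perm.mul_apply, h0]
  set σ := σ0 * g0⁻¹ with hσdef
  have key : ∀ x : Fin 3 ↪ GolayPt, (∀ i, x i ∉ d) →
      ∃ g ∈ stabD 340831 0, g (ptN 0) = ptN 0 ∧ g (σ⁻¹ (x 0)) = ptN 5 ∧
        g (σ⁻¹ (x 1)) = ptN 7 ∧ g (σ⁻¹ (x 2)) = ptN 10 := by
    intro x hx
    have hne : ∀ i j : Fin 3, i ≠ j → σ⁻¹ (x i) ≠ σ⁻¹ (x j) :=
      fun i j hij h => hij (x.injective (σ⁻¹.injective h))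
    exact rB (ptN 0) (σ⁻¹ (x 0)) (σ⁻¹ (x 1)) (σ⁻¹ (x 2)) (by decide)
      (bit_false hσd _ (hx 0)) (bit_false hσd _ (hx 1)) (bit_false hσd _ (hx 2))
      (hne _ _ (by decide)) (hne _ _ (by decide)) (hne _ _ (by decide))
  obtain ⟨g1, hg1, hp1, hx0, hx1, hx2⟩ := key x hx
  obtain ⟨g2, hg2, hp2, hy0, hy1, hy2⟩ := key y hy
  obtain ⟨hM, hd', hmap⟩ := conj_lemma hσ hσd hg1 hg2
  refine ⟨⟨_, hM⟩, ⟨hd', ?_⟩, ?_⟩
  · exact hmap p p (by rw [hσp, hp1, hp2])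
  · intro i
    fin_cases i
    · exact hmap _ _ (hx0.trans hy0.symm)
    · exact hmap _ _ (hx1.trans hy1.symm)
    · exact hmap _ _ (hx2.trans hy2.symm)

end Cfsg.Agent.Lib_lead_M12Thm
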