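import Mathlib
import Cfsg.Prelude.Def_Sporadic_a
import Cfsg.Agent.Lib_lead_M24Orb
import Cfsg.Agent.Lib_lead_Coatom

/-! Orbit certificates for families of sets of points (sextets, trios, ...) under the stabilizer
of one of them in the group of the length-24 code. -/

set_option autoImplicit false

namespace Cfsg.Agent.Lib_lead_ObjOrb

open Cfsg Cfsg.Agent.Lib_lead_Golay Cfsg.Agent.Lib_lead_GolayPerm Cfsg.Agent.Lib_lead_M24
  Cfsg.Agent.Lib_lead_M24Chain Cfsg.Agent.Lib_lead_M24Orb
open scoped Pointwise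

/-- families of sets of points -/
abbrev Fam : Type := Finset (Finset GolayPt)

/-- the family of the sets with the given masks -/
def fin (l : List ℕ) : Fam := (l.map fsOf).toFinset

theorem image_toFinset_list {α β : Type*} [DecidableEq α] [DecidableEq β] (f : α → β)
    (l : List α) : l.toFinset.image f = (l.map f).toFinset := by
  ext x
  simp

theorem mem_fin (l : List ℕ) (t : Finset GolayPt) : t ∈ fin l ↔ ∃ m ∈ l, fsOf m = t := by
  unfold fin
  simp

/-- the mask of a set -/
def maskOf (t : Finset GolayPt) : ℕ := enc (fun p => if p ∈ t then 1 else 0)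

theorem maskOf_fsOf (x : ℕ) (hx : x < 2 ^ 24) : maskOf (fsOf x) = x := by
  unfold maskOf
  have h : (fun p => if p ∈ fsOf x then (1 : ZMod 2) else 0) = ofMask x := by
    funext p
    unfold ofMask
    by_cases hb : x.testBit (idx p) = true
    · rw [if_pos ((mem_fsOf x p).mpr hb), if_pos hb]
    · rw [if_neg (fun hm => hb ((mem_fsOf x p).mp hm)), if_neg hb]
  rw [h, enc_ofMask x hx]

theorem nodup_fs {l : List ℕ} (hl : ∀ m ∈ l, m < 2 ^ 24) (hnd : l.Nodup) : (l.map fsOf).Nodup :=
  List.Nodup.map_on (fun x hx y hy h => fsOf_injOn (hl x hx) (hl y hy) h) hnd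

theorem card_fin {l : List ℕ} (hl : ∀ m ∈ l, m < 2 ^ 24) (hnd : l.Nodup) :
    (fin l).card = l.length := by
  unfold fin
  rw [List.toFinset_card_of_nodup (nodup_fs hl hnd), List.length_map]

/-- a numerical key of a family -/
def Key (S : Fam) : ℕ := ∑ t ∈ S, maskOf t * maskOf t

def keyL (l : List ℕ) : ℕ := (l.map (fun m => m * m)).sum

theorem Key_fin {l : List ℕ} (hl : ∀ m ∈ l, m < 2 ^ 24) (hnd : l.Nodup) :
    Key (fin l) = keyL l := by
  unfold Key fin keyL
  rw [List.sum_toFinset _ (nodup_fs hl hnd), List.map_map]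
  congr 1
  apply List.map_congr_left
  intro m hm
  simp only [Function.comp]
  rw [maskOf_fsOf m (hl m hm)]

/-- an invariant of a family relative to a base family -/
def Inv (S0 X : Fam) : ℕ := ∑ t ∈ X, ∑ s ∈ S0, (t ∩ s).card ^ 2

theorem Inv_smul (σ : Equiv.Perm GolayPt) (S0 X : Fam) (hσ : σ • S0 = S0) :
    Inv S0 (σ • X) = Inv S0 X := by
  unfold Inv
  have hX : σ • X = X.image (fun t => σ • t) := Finset.smul_finset_def
  rw [hX, Finset.sum_image (fun a _ b _ h => smul_left_cancel σ h)]
  apply Finset.sum_congr rfl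
  intro t _
  have hS : σ • S0 = S0.image (fun t => σ • t) := Finset.smul_finset_def
  calc ∑ s ∈ S0, (σ • t ∩ s).card ^ 2 = ∑ s ∈ σ • S0, (σ • t ∩ s).card ^ 2 := by rw [hσ]
    _ = ∑ s ∈ S0, (σ • t ∩ σ • s).card ^ 2 := by
        rw [hS, Finset.sum_image (fun a _ b _ h => smul_left_cancel σ h)]
    _ = ∑ s ∈ S0, (t ∩ s).card ^ 2 := by
        apply Finset.sum_congr rfl
        intro s _
        rw [inter_smul]

def invL (l0 l : List ℕ) : ℕ :=
  (l.map (fun a => (l0.map (fun b => popc (a &&& b) ^ 2)).sum)).sum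

theorem Inv_fin {l0 l : List ℕ} (h0 : ∀ m ∈ l0, m < 2 ^ 24) (hnd0 : l0.Nodup)
    (hl : ∀ m ∈ l, m < 2 ^ 24) (hnd : l.Nodup) : Inv (fin l0) (fin l) = invL l0 l := by
  unfold Inv fin invL
  rw [List.sum_toFinset _ (nodup_fs hl hnd), List.map_map]
  congr 1
  apply List.map_congr_left
  intro a ha
  simp only [Function.comp]
  rw [List.sum_toFinset _ (nodup_fs h0 hnd0), List.map_map]
  congr 1
  apply List.map_congr_left
  intro b hb
  simp only [Function.comp]
  rw [card_inter a b (hl a ha)]

theorem smul_fin_of (σ : Equiv.Perm GolayPt) (l : List ℕ) (f : ℕ → ℕ)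
    (h : ∀ m ∈ l, σ • fsOf m = fsOf (f m)) : σ • fin l = fin (l.map f) := by
  unfold fin
  have hX : σ • (l.map fsOf).toFinset = (l.map fsOf).toFinset.image (fun t => σ • t) :=
    Finset.smul_finset_def
  rw [hX, image_toFinset_list, List.map_map, List.map_map]
  congr 1
  apply List.map_congr_left
  intro m hm
  simp only [Function.comp]
  exact h m hm

/-- apply a word in the generators to a mask -/
def appM (gens : List (List ℕ × List ℕ)) : List ℕ → ℕ → ℕ
  | [], m => m
  | i :: w, m =>
    match gens[i]? with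
    | none => appM gens w m
    | some g => appM gens w (pull g.2 m)

theorem appM_sound (K : Subgroup (Equiv.Perm GolayPt)) (gens : List (List ℕ × List ℕ))
    (hg : ∀ g ∈ gens, validTab g.1 g.2 = true ∧ permD g.1 g.2 ∈ K) (w : List ℕ) :
    ∃ σ ∈ K, ∀ m, m < 2 ^ 24 → appM gens w m < 2 ^ 24 ∧ σ • fsOf m = fsOf (appM gens w m) := by
  induction w with
  | nil => exact ⟨1, K.one_mem, fun m hm => ⟨hm, one_smul _ _⟩⟩
  | cons i w ih =>
    obtain ⟨σ, hσ, hσm⟩ := ih
    cases hgi : gens[i]? with
    | none =>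
      refine ⟨σ, hσ, fun m hm => ?_⟩
      simp only [appM, hgi]
      exact hσm m hm
    | some g =>
      obtain ⟨hv, hgK⟩ := hg g (List.mem_of_getElem? hgi)
      refine ⟨σ * permD g.1 g.2, K.mul_mem hσ hgK, fun m hm => ?_⟩
      simp only [appM, hgi]
      have hp : pull g.2 m < 2 ^ 24 := pull_lt g.2 (validTab_len hv).2 m
      obtain ⟨h1, h2⟩ := hσm (pull g.2 m) hp
      refine ⟨h1, ?_⟩
      have he : permD g.1 g.2 = permOf g.1 g.2 hv := by
        unfold permD
        rw [dif_pos hv]
      rw [mul_smul, he, smul_fsOf hv m hm, h2]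

/-- the image of a list of masks under a word -/
def objOf (gens : List (List ℕ × List ℕ)) (root w : List ℕ) : List ℕ := root.map (appM gens w)

theorem objOf_sound (K : Subgroup (Equiv.Perm GolayPt)) (gens : List (List ℕ × List ℕ))
    (hg : ∀ g ∈ gens, validTab g.1 g.2 = true ∧ permD g.1 g.2 ∈ K) (root : List ℕ)
    (hroot : ∀ m ∈ root, m < 2 ^ 24) (w : List ℕ) :
    ∃ σ ∈ K, σ • fin root = fin (objOf gens root w) ∧ (∀ m ∈ objOf gens root w, m < 2 ^ 24) ∧
      (root.Nodup → (objOf gens root w).Nodup) := by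
  obtain ⟨σ, hσ, hσm⟩ := appM_sound K gens hg w
  refine ⟨σ, hσ, smul_fin_of σ root _ (fun m hm => (hσm m (hroot m hm)).2), ?_, ?_⟩
  · intro m hm
    unfold objOf at hm
    rw [List.mem_map] at hm
    obtain ⟨a, ha, rfl⟩ := hm
    exact (hσm a (hroot a ha)).1
  · intro hnd
    unfold objOf
    apply List.Nodup.map_on _ hnd
    intro x hx y hy hxy
    have h1 := (hσm x (hroot x hx)).2
    have h2 := (hσm y (hroot y hy)).2
    rw [hxy, ← h2] at h1
    exact fsOf_injOn (hroot x hx) (hroot y hy) (smul_left_cancel σ h1)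

/-- strict application -/
def strictN (f : ℕ → ℕ) (x : ℕ) : ℕ :=
  match x with
  | 0 => f 0
  | n + 1 => f (n + 1)

theorem strictN_eq (f : ℕ → ℕ) (x : ℕ) : strictN f x = f x := by
  cases x <;> rfl

/-- the key of the image of a list of masks under a word -/
def objKey (gens : List (List ℕ × List ℕ)) (w : List ℕ) : List ℕ → ℕ → ℕ
  | [], acc => acc
  | m :: ms, acc => strictN (fun x => objKey gens w ms (acc + x * x)) (appM gens w m)

theorem objKey_eq (gens : List (List ℕ × List ℕ)) (w : List ℕ) (l : List ℕ) (acc : ℕ) :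
    objKey gens w l acc = acc + keyL (objOf gens l w) := by
  induction l generalizing acc with
  | nil => simp [objKey, objOf, keyL]
  | cons m ms ih =>
    simp only [objKey, strictN_eq, ih]
    unfold keyL objOf
    simp only [List.map_cons, List.sum_cons]
    ring

/-- the list is strictly increasing and above `prev` -/
def incChk : List ℕ → ℕ → Bool
  | [], _ => true
  | k :: ks, prev => strictApp (fun k' => decide (prev < k') && incChk ks k') k

theorem incChk_sound : ∀ (ks : List ℕ) (prev : ℕ), incChk ks prev = true →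
    (∀ k ∈ ks, prev < k) ∧ ks.Pairwise (· < ·) := by
  intro ks
  induction ks with
  | nil =>
    intro prev _
    exact ⟨fun k hk => by simp at hk, List.Pairwise.nil⟩
  | cons k ks ih =>
    intro prev h
    simp only [incChk, strictApp_eq, Bool.and_eq_true, decide_eq_true_eq] at h
    obtain ⟨h1, h2⟩ := h
    obtain ⟨h3, h4⟩ := ih k h2
    refine ⟨?_, List.pairwise_cons.mpr ⟨h3, h4⟩⟩
    intro x hx
    rw [List.mem_cons] at hx
    rcases hx with rfl | hx
    · exact h1
    · exact lt_trans h1 (h3 x hx)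

/-- the keys of the entries of a table; an entry is a class and a word -/
def tabKeys (gens : List (List ℕ × List ℕ)) (roots : List (List ℕ))
    (tab : List (ℕ × List ℕ)) : List ℕ :=
  tab.map (fun e => objKey gens e.2 (roots.getD e.1 []) 0)

/-- the family of an entry -/
def entObj (gens : List (List ℕ × List ℕ)) (roots : List (List ℕ)) (e : ℕ × List ℕ) : Fam :=
  fin (objOf gens (roots.getD e.1 []) e.2)

/-- the stabilizer of a family in the group of the code, as a group of permutations -/
def StabK (S0 : Fam) : Subgroup (Equiv.Perm GolayPt) where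
  carrier := {σ | σ ∈ M24 ∧ σ • S0 = S0}
  mul_mem' := by
    rintro a b ⟨ha, ha'⟩ ⟨hb, hb'⟩
    exact ⟨M24.mul_mem ha hb, by rw [mul_smul, hb', ha']⟩
  one_mem' := ⟨M24.one_mem, one_smul _ _⟩
  inv_mem' := by
    rintro a ⟨ha, ha'⟩
    exact ⟨M24.inv_mem ha, by rw [inv_smul_eq_iff, ha']⟩

theorem mem_StabK (S0 : Fam) (σ : Equiv.Perm GolayPt) :
    σ ∈ StabK S0 ↔ σ ∈ M24 ∧ σ • S0 = S0 := Iff.rfl

/-- a generator is valid, preserves the code and the base family -/
def genChkS (root0 : List ℕ) (g : List ℕ × List ℕ) : Bool :=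
  validTab g.1 g.2 && codeChk g.1 && (root0.map (pull g.2)).all (fun m => root0.contains m)

theorem gen_of_chk (root0 : List ℕ) (h0 : ∀ m ∈ root0, m < 2 ^ 24)
    (g : List ℕ × List ℕ) (h : genChkS root0 g = true) :
    validTab g.1 g.2 = true ∧ permD g.1 g.2 ∈ StabK (fin root0) := by
  unfold genChkS at h
  simp only [Bool.and_eq_true, List.all_eq_true] at h
  obtain ⟨⟨hv, hc⟩, hall⟩ := h
  have he : permD g.1 g.2 = permOf g.1 g.2 hv := by
    unfold permD
    rw [dif_pos hv]
  refine ⟨hv, ?_, ?_⟩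
  · rw [he]
    exact mem_M24_of_chk hv hc
  · have h1 : permD g.1 g.2 • fin root0 = fin (root0.map (pull g.2)) :=
      smul_fin_of _ _ _ (fun m hm => by rw [he, smul_fsOf hv m (h0 m hm)])
    rw [h1]
    apply Finset.eq_of_subset_of_card_le
    · intro t ht
      rw [mem_fin] at ht ⊢
      obtain ⟨m, hm, rfl⟩ := ht
      exact ⟨m, by simpa using hall m hm, rfl⟩
    · rw [← h1, Finset.card_smul_finset]

/-- conjugating the stabilizer moves its orbits -/
theorem orbit_conj {G α : Type*} [Group G] [MulAction G α] (g : G) (a x : α) :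
    MulAction.orbit ↥(MulAction.stabilizer G (g • a)) (g • x)
      = (fun y => g • y) '' MulAction.orbit ↥(MulAction.stabilizer G a) x := by
  ext y
  constructor
  · rintro ⟨⟨s, hs⟩, rfl⟩
    rw [MulAction.mem_stabilizer_iff] at hs
    have hs' : g⁻¹ * s * g ∈ MulAction.stabilizer G a := by
      rw [MulAction.mem_stabilizer_iff, mul_smul, mul_smul, hs, inv_smul_smul]
    refine ⟨(g⁻¹ * s * g) • x, ⟨⟨g⁻¹ * s * g, hs'⟩, rfl⟩, ?_⟩
    show g • (g⁻¹ * s * g) • x = s • g • x
    rw [mul_smul, mul_smul, smul_inv_smul]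
  · rintro ⟨_, ⟨⟨s, hs⟩, rfl⟩, rfl⟩
    rw [MulAction.mem_stabilizer_iff] at hs
    have hs' : g * s * g⁻¹ ∈ MulAction.stabilizer G (g • a) := by
      rw [MulAction.mem_stabilizer_iff, mul_smul, mul_smul, inv_smul_smul, hs]
    refine ⟨⟨g * s * g⁻¹, hs'⟩, ?_⟩
    show (g * s * g⁻¹) • g • x = g • s • x
    rw [mul_smul, mul_smul, inv_smul_smul]

theorem orbit_self {G α : Type*} [Group G] [MulAction G α] (a : α) :
    MulAction.orbit ↥(MulAction.stabilizer G a) a = {a} := by
  ext y
  constructor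
  · rintro ⟨⟨s, hs⟩, rfl⟩
    rw [MulAction.mem_stabilizer_iff] at hs
    exact Set.mem_singleton_iff.mpr hs
  · intro h
    rw [Set.mem_singleton_iff] at h
    rw [h]
    exact MulAction.mem_orbit_self a

end Cfsg.Agent.Lib_lead_ObjOrb
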