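import Mathlib
import Cfsg.Prelude.Def_Sporadic_a
import Cfsg.Agent.Lib_lead_M24Sets2
import Cfsg.Agent.Lib_lead_M24Orb3

/-! Normal forms for an octad together with a subset of at most five of its points, and the
number of octads meeting an octad in a prescribed subset. -/

set_option autoImplicit false

namespace Cfsg.Agent.Lib_lead_OctSub

open Cfsg Cfsg.Agent.Lib_lead_Golay Cfsg.Agent.Lib_lead_GolayPerm Cfsg.Agent.Lib_lead_M24
  Cfsg.Agent.Lib_lead_M24Chain Cfsg.Agent.Lib_lead_M24ChainData Cfsg.Agent.Lib_lead_M24Trans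
  Cfsg.Agent.Lib_lead_M24Sets Cfsg.Agent.Lib_lead_M24Sets2 Cfsg.Agent.Lib_lead_M24Data
  Cfsg.Agent.Lib_lead_M24Orb Cfsg.Agent.Lib_lead_M24Orb3
open scoped Pointwise

theorem card_octad {o : Finset GolayPt} (ho : o ∈ octads) : o.card = 8 := ho.2

theorem fsOf_subset {a b : ℕ} (h : a &&& b = a) : fsOf a ⊆ fsOf b := by
  rw [← Finset.inter_eq_left, fsOf_inter, h]

/-- an octad with a subset `s` of at most five points is the image of the root octad with a
prescribed subset of the five base points -/
theorem norm_sub (o : Finset GolayPt) (ho : o ∈ octads) (s : Finset GolayPt) (hs : s ⊆ o)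
    (s0 : Finset GolayPt) (hs0 : s0 ⊆ fsOf 613) (hc : s0.card = s.card) :
    ∃ σ ∈ M24, σ • fsOf 3277413 = o ∧ σ • s0 = s := by
  have h613 : (fsOf 613).card = 5 := by rw [card_fsOf _ (by norm_num)]; decide
  have hs5 : s.card ≤ 5 := by rw [← hc, ← h613]; exact Finset.card_le_card hs0
  have ho8 := card_octad ho
  have h1 : 5 - s.card ≤ (o \ s).card := by
    rw [Finset.card_sdiff_of_subset hs, ho8]; omega
  obtain ⟨B', hB', hB'c⟩ := Finset.exists_subset_card_eq h1
  have hB0 : (fsOf 613 \ s0).card = 5 - s.card := by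
    rw [Finset.card_sdiff_of_subset hs0, h613, hc]
  obtain ⟨g, hg, hgs, hgB, -⟩ := trans_parts s0 (fsOf 613 \ s0) ∅ s B' ∅
    Finset.disjoint_sdiff (Finset.disjoint_empty_right _) (Finset.disjoint_empty_right _)
    (Finset.disjoint_left.mpr (fun x hx hxB => (Finset.mem_sdiff.mp (hB' hxB)).2 hx))
    (Finset.disjoint_empty_right _) (Finset.disjoint_empty_right _)
    hc (by rw [hB0, hB'c]) rfl (by rw [hB0, hc]; simp; omega)
  refine ⟨g, hg, ?_, hgs⟩
  have hoct : g • fsOf 3277413 ∈ octads := smul_mem_weight hg Cfsg.Agent.Lib_lead_M24Oct.root_octad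
  apply Cfsg.Agent.Lib_lead_Steiner.eq_of_inter_ge Cfsg.Agent.S0363.result hoct ho
  have h613' : g • fsOf 613 = s ∪ B' := by
    rw [← hgs, ← hgB, ← Finset.smul_finset_union, Finset.union_sdiff_of_subset hs0]
  have hsub : s ∪ B' ⊆ g • fsOf 3277413 ∩ o := by
    rw [Finset.subset_inter_iff]
    constructor
    · rw [← h613']
      exact Finset.smul_finset_subset_smul_finset (fsOf_subset (by decide))
    · exact Finset.union_subset hs (hB'.trans Finset.sdiff_subset)
  calc 5 = (g • fsOf 613).card := by rw [Finset.card_smul_finset, h613]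
    _ = (s ∪ B').card := by rw [h613']
    _ ≤ _ := Finset.card_le_card hsub

/-- the number of octads meeting the octad `o` exactly in `s`, computed on the root -/
theorem count_inter (o : Finset GolayPt) (ho : o ∈ octads) (s : Finset GolayPt) (hs : s ⊆ o)
    (m : ℕ) (hm : m &&& 613 = m) (hc : popc m = s.card) :
    {o' : Finset GolayPt | o' ∈ octads ∧ o ∩ o' = s}.ncard
      = ((Finset.range 4096).filter
          (fun k => popc (M k) = 8 ∧ 3277413 &&& M k = m)).card := by
  have hm24 : m < 2 ^ 24 := by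
    have : m ≤ 613 := by rw [← hm]; exact Nat.and_le_right
    omega
  obtain ⟨σ, hσ, hσo, hσs⟩ := norm_sub o ho s hs (fsOf m) (fsOf_subset hm)
    (by rw [card_fsOf _ hm24, hc])
  subst hσo
  subst hσs
  exact ncard_root hσ 8 (fun o' => σ • fsOf 3277413 ∩ o' = σ • fsOf m)
    (fun x => 3277413 &&& x = m) (fun k _ _ => by
      show σ • fsOf 3277413 ∩ σ • fsOf (M k) = σ • fsOf m ↔ _
      rw [← Finset.smul_finset_inter, fsOf_inter]
      constructor
      · intro h
        exact fsOf_injOn (lt_of_le_of_lt Nat.and_le_left (by norm_num)) hm24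
          (smul_left_cancel σ h)
      · intro h
        rw [h])

theorem count2 : ((Finset.range 4096).filter
    (fun k => popc (M k) = 8 ∧ 3277413 &&& M k = 5)).card = 16 := by decide +kernel

theorem count4 : ((Finset.range 4096).filter
    (fun k => popc (M k) = 8 ∧ 3277413 &&& M k = 101)).card = 4 := by decide +kernel

end Cfsg.Agent.Lib_lead_OctSub
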