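import Mathlib
import Cfsg.Prelude.Def_SporadicCombinatorics
import Cfsg.Agent.Lib_lead_ObjOrb
import Cfsg.Agent.Lib_lead_OctSub
import Cfsg.Agent.Lib_lead_M12Thm

/-! Hexads and quartets of a dodecad: two disjoint triples uniting to a hexad lie in exactly one
quartet, the stabilizer of the dodecad is transitive on quartets, and there are 132 hexads and
220 quartets. -/

set_option autoImplicit false

namespace Cfsg.Agent.Lib_lead_Quartet

open Cfsg Cfsg.Agent.Lib_lead_Golay Cfsg.Agent.Lib_lead_GolayPerm Cfsg.Agent.Lib_lead_M24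
  Cfsg.Agent.Lib_lead_M24Chain Cfsg.Agent.Lib_lead_M24Orb Cfsg.Agent.Lib_lead_ObjOrb
  Cfsg.Agent.Lib_lead_M24Data Cfsg.Agent.Lib_lead_M24Sets2 Cfsg.Agent.Lib_lead_OctSub
  Cfsg.Agent.Lib_lead_M12 Cfsg.Agent.Lib_lead_M12Data Cfsg.Agent.Lib_lead_M12Thm
open scoped Pointwise

theorem smul_hexad {g : Equiv.Perm GolayPt} (hg : g ∈ M24) {d h : Finset GolayPt}
    (hh : h ∈ hexadsOn d) : g • h ∈ hexadsOn (g • d) := by
  obtain ⟨h6, o, ho, rfl⟩ := hh
  refine ⟨by rw [Finset.card_smul_finset]; exact h6, g • o, smul_mem_weight hg ho, ?_⟩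
  rw [Finset.smul_finset_inter]

theorem smul_quartet {g : Equiv.Perm GolayPt} (hg : g ∈ M24) {d : Finset GolayPt} {Q : Fam}
    (hQ : Q ∈ quartets d) : g • Q ∈ quartets (g • d) := by
  obtain ⟨h4, h3, hu⟩ := hQ
  have hgQ : g • Q = Q.image (fun t => g • t) := Finset.smul_finset_def
  refine ⟨by rw [Finset.card_smul_finset]; exact h4, ?_, ?_⟩
  · intro t ht
    rw [hgQ, Finset.mem_image] at ht
    obtain ⟨t', ht', rfl⟩ := ht
    rw [Finset.card_smul_finset]
    exact ⟨(h3 t' ht').1, Finset.smul_finset_subset_smul_finset (h3 t' ht').2⟩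
  · intro t ht u hu' hne
    rw [hgQ, Finset.mem_image] at ht hu'
    obtain ⟨t', ht', rfl⟩ := ht
    obtain ⟨u', hu'', rfl⟩ := hu'
    rw [← Finset.smul_finset_union]
    exact smul_hexad hg (hu t' ht' u' hu'' (fun h => hne (by rw [h])))

/-- the masks of the hexads of the base dodecad -/
def hexL : List ℕ :=
  ((List.range 4096).filter (fun k => popc (M k) == 8 && popc (M k &&& 340831) == 6)).map
    (fun k => M k &&& 340831)

theorem and_lt (a : ℕ) : a &&& 340831 < 2 ^ 24 := lt_of_le_of_lt Nat.and_le_right (by norm_num)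

theorem hexL_lt : ∀ m ∈ hexL, m < 2 ^ 24 := by
  intro m hm
  unfold hexL at hm
  rw [List.mem_map] at hm
  obtain ⟨k, -, rfl⟩ := hm
  exact and_lt _

theorem hex_iff (h : Finset GolayPt) :
    h ∈ hexadsOn (fsOf 340831) ↔ ∃ k < 4096, popc (M k) = 8 ∧ popc (M k &&& 340831) = 6 ∧
      h = fsOf (M k &&& 340831) := by
  constructor
  · rintro ⟨h6, o, ho, rfl⟩
    obtain ⟨k, hk, hp, rfl⟩ := weight_eq ho
    rw [fsOf_inter] at h6 ⊢
    refine ⟨k, hk, hp, ?_, rfl⟩
    rwa [card_fsOf _ (and_lt _)] at h6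
  · rintro ⟨k, hk, hp, hp6, rfl⟩
    refine ⟨by rw [card_fsOf _ (and_lt _)]; exact hp6, fsOf (M k), fsOf_mem_weight k 8 hp, ?_⟩
    rw [fsOf_inter]

theorem hex_iff' (h : Finset GolayPt) : h ∈ hexadsOn (fsOf 340831) ↔ h ∈ fin hexL := by
  rw [hex_iff, mem_fin]
  unfold hexL
  constructor
  · rintro ⟨k, hk, hp, hp6, rfl⟩
    refine ⟨_, List.mem_map.mpr ⟨k, List.mem_filter.mpr ⟨List.mem_range.mpr hk, ?_⟩, rfl⟩, rfl⟩
    simp [hp, hp6]
  · rintro ⟨m, hm, rfl⟩
    rw [List.mem_map] at hm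
    obtain ⟨k, hk, rfl⟩ := hm
    rw [List.mem_filter, List.mem_range] at hk
    have h2 := hk.2
    simp only [Bool.and_eq_true, beq_iff_eq] at h2
    exact ⟨k, hk.1, h2.1, h2.2, rfl⟩

set_option maxRecDepth 100000 in
theorem hexL_nodup : hexL.Nodup := by decide +kernel

set_option maxRecDepth 100000 in
theorem hexL_length : hexL.length = 132 := by decide +kernel

theorem hex5 : ∀ k < 4096, popc (M k) = 8 → popc (M k &&& 340831) = 6 →
    (M k &&& 340831).testBit 0 = true → (M k &&& 340831).testBit 1 = true →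
    (M k &&& 340831).testBit 2 = true → (M k &&& 340831).testBit 3 = true →
    (M k &&& 340831).testBit 4 = true → M k &&& 340831 = 4127 :=
  forall_of_card_filter (by decide +kernel)

theorem base3 : ∀ k < 4096, popc (M k) = 8 → popc (M k &&& 340831) = 6 →
    (M k &&& 340831) &&& 7 = 7 → (M k &&& 340831) &&& 4120 = 0 →
    ((M k &&& 340831) &&& (16777215 ^^^ 7)) ∈ [8960, 327744] :=
  forall_of_card_filter (by decide +kernel)

/-- the base quartet -/
def root0 : List ℕ := [7, 4120, 8960, 327744]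

/-- a list of four masks forms a quartet of the base dodecad -/
def quartChk (l : List ℕ) : Bool :=
  (l.length == 4) &&
  l.all (fun a => decide (a < 2 ^ 24) && (popc a == 3) && (a &&& 340831 == a)) &&
  decide l.Nodup &&
  l.all (fun a => l.all (fun b => (a == b) || hexL.contains (a ||| b)))

theorem quartet_of_chk (l : List ℕ) (h : quartChk l = true) :
    fin l ∈ quartets (fsOf 340831) := by
  unfold quartChk at h
  simp only [Bool.and_eq_true, beq_iff_eq, List.all_eq_true, decide_eq_true_eq,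
    Bool.or_eq_true, List.contains_iff_mem] at h
  obtain ⟨⟨⟨hlen, h3⟩, hnd⟩, hu⟩ := h
  refine ⟨by rw [card_fin (fun m hm => (h3 m hm).1.1) hnd, hlen], ?_, ?_⟩
  · intro t ht
    rw [mem_fin] at ht
    obtain ⟨m, hm, rfl⟩ := ht
    rw [card_fsOf _ (h3 m hm).1.1]
    exact ⟨(h3 m hm).1.2, fsOf_subset (h3 m hm).2⟩
  · intro t ht u hu' hne
    rw [mem_fin] at ht hu'
    obtain ⟨a, ha, rfl⟩ := ht
    obtain ⟨b, hb, rfl⟩ := hu'
    rcases hu a ha b hb with hab | h1
    · exact absurd (by rw [hab]) hne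
    · rw [fsOf_union, hex_iff', mem_fin]
      exact ⟨_, h1, rfl⟩

set_option maxRecDepth 100000 in
theorem root0_mem : fin root0 ∈ quartets (fsOf 340831) :=
  quartet_of_chk root0 (by decide +kernel)

theorem disj_of_hex {d t u : Finset GolayPt} (ht : t.card = 3) (hu : u.card = 3)
    (hh : t ∪ u ∈ hexadsOn d) : Disjoint t u := by
  rw [← Finset.card_union_eq_card_add_card, hh.1, ht, hu]

theorem sub_of_hex {d h : Finset GolayPt} (hh : h ∈ hexadsOn d) : h ⊆ d := by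
  obtain ⟨-, o, -, rfl⟩ := hh
  exact Finset.inter_subset_right

theorem c7 : (fsOf 7).card = 3 := by
  rw [card_fsOf _ (by norm_num)]
  decide

theorem c4120 : (fsOf 4120).card = 3 := by
  rw [card_fsOf _ (by norm_num)]
  decide

theorem base_unique (Q : Fam) (hQ : Q ∈ quartets (fsOf 340831)) (h7 : fsOf 7 ∈ Q)
    (h4120 : fsOf 4120 ∈ Q) : Q = fin root0 := by
  obtain ⟨h4, h3, hu⟩ := hQ
  apply Finset.eq_of_subset_of_card_le
  · intro v hvQ
    rw [mem_fin]
    by_cases hv7 : v = fsOf 7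
    · exact ⟨7, by decide, hv7.symm⟩
    by_cases hv4120 : v = fsOf 4120
    · exact ⟨4120, by decide, hv4120.symm⟩
    have hx1 := hu (fsOf 7) h7 v hvQ (Ne.symm hv7)
    have hx2 := hu (fsOf 4120) h4120 v hvQ (Ne.symm hv4120)
    have hv3 := (h3 v hvQ).1
    have hd1 : Disjoint (fsOf 7) v := disj_of_hex c7 hv3 hx1
    have hd2 : Disjoint (fsOf 4120) v := disj_of_hex c4120 hv3 hx2
    obtain ⟨k, hk, hp, hp6, hek⟩ := (hex_iff _).mp hx1
    have hsub : (M k &&& 340831) &&& 7 = 7 := by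
      have h1 : fsOf 7 ⊆ fsOf (M k &&& 340831) := by
        rw [← hek]
        exact Finset.subset_union_left
      have h2 : fsOf (M k &&& 340831) ∩ fsOf 7 = fsOf 7 := Finset.inter_eq_right.mpr h1
      rw [fsOf_inter] at h2
      exact fsOf_injOn (lt_of_le_of_lt Nat.and_le_right (by norm_num)) (by norm_num) h2
    have hdis : (M k &&& 340831) &&& 4120 = 0 := by
      have h2 : fsOf (M k &&& 340831) ∩ fsOf 4120 = fsOf 0 := by
        rw [← hek, Finset.union_inter_distrib_right, fsOf_inter,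
          Finset.disjoint_iff_inter_eq_empty.mp hd2.symm, Finset.union_empty]
        rfl
      rw [fsOf_inter] at h2
      exact fsOf_injOn (lt_of_le_of_lt Nat.and_le_right (by norm_num)) (by norm_num) h2
    have hv_eq : v = fsOf ((M k &&& 340831) &&& (16777215 ^^^ 7)) := by
      rw [← fsOf_inter, ← fsOf_compl, ← hek, Finset.union_inter_distrib_right,
        Finset.inter_compl, Finset.empty_union]
      exact (Finset.inter_eq_left.mpr (fun x hx => Finset.mem_compl.mpr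
        (fun h => Finset.disjoint_left.mp hd1 h hx))).symm
    exact ⟨_, List.mem_cons_of_mem _ (List.mem_cons_of_mem _ (base3 k hk hp hp6 hsub hdis)),
      hv_eq.symm⟩
  · rw [card_fin (by decide) (by decide), h4]
    decide

theorem f7 : fsOf 7 = {ptN 0, ptN 1, ptN 2} := by decide +kernel

theorem f4120 : fsOf 4120 = fsOf 4127 \ fsOf 7 := by decide +kernel

theorem tau_apply {σ k : Equiv.Perm GolayPt} {x y : GolayPt} (h : k (σ⁻¹ x) = y) :
    (σ * k⁻¹) y = x := by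
  rw [Equiv.Perm.mul_apply, ← h, Equiv.Perm.inv_def k, Equiv.symm_apply_apply,
    Equiv.Perm.inv_def σ, Equiv.apply_symm_apply]

/-- normal form of a dodecad with two disjoint triples uniting to a hexad -/
theorem norm (d : Finset GolayPt) (hd : d ∈ dodecads) (t u : Finset GolayPt) (ht : t.card = 3)
    (hu : u.card = 3) (htu : Disjoint t u) (hh : t ∪ u ∈ hexadsOn d) :
    ∃ τ ∈ M24, τ • fsOf 340831 = d ∧ τ • fsOf 7 = t ∧ τ • fsOf 4120 = u := by
  have hsub : t ∪ u ⊆ d := sub_of_hex hh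
  obtain ⟨a, b, c, hab, hac, hbc, hteq⟩ := Finset.card_eq_three.mp ht
  obtain ⟨e, f, g, hef, heg, hfg, hueq⟩ := Finset.card_eq_three.mp hu
  obtain ⟨σ, hσ, hσd⟩ := exists_sigma d hd
  have hat : a ∈ t := by rw [hteq]; simp
  have hbt : b ∈ t := by rw [hteq]; simp
  have hct : c ∈ t := by rw [hteq]; simp
  have heu : e ∈ u := by rw [hueq]; simp
  have hfu : f ∈ u := by rw [hueq]; simp
  have hm : ∀ x ∈ t ∪ u, (340831 : ℕ).testBit (idx (σ⁻¹ x)) = true :=
    fun x hx => (bit_iff hσd x).mpr (hsub hx)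
  have hne : ∀ x y : GolayPt, x ≠ y → σ⁻¹ x ≠ σ⁻¹ y := fun x y hxy h => hxy (σ⁻¹.injective h)
  have hdis : ∀ x y : GolayPt, x ∈ t → y ∈ u → x ≠ y :=
    fun x y hx hy h => Finset.disjoint_left.mp htu hx (h ▸ hy)
  obtain ⟨k, hk, h0, h1, h2, h3, h4⟩ := rA5 (σ⁻¹ a) (σ⁻¹ b) (σ⁻¹ c) (σ⁻¹ e) (σ⁻¹ f)
    (hm a (Finset.mem_union_left _ hat)) (hm b (Finset.mem_union_left _ hbt))
    (hm c (Finset.mem_union_left _ hct)) (hm e (Finset.mem_union_right _ heu))
    (hm f (Finset.mem_union_right _ hfu))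
    (hne _ _ hab) (hne _ _ hac) (hne _ _ hbc) (hne _ _ (hdis a e hat heu))
    (hne _ _ (hdis b e hbt heu)) (hne _ _ (hdis c e hct heu)) (hne _ _ (hdis a f hat hfu))
    (hne _ _ (hdis b f hbt hfu)) (hne _ _ (hdis c f hct hfu)) (hne _ _ hef)
  have hτ : σ * k⁻¹ ∈ M24 := M24.mul_mem hσ (M24.inv_mem hk.1)
  have hτd : (σ * k⁻¹) • fsOf 340831 = d := by
    rw [mul_smul, inv_smul_eq_iff.mpr hk.2.1.symm, hσd]
  have hτt : (σ * k⁻¹) • fsOf 7 = t := by
    rw [f7, hteq]
    exact smul_three _ _ _ _ _ _ _ (tau_apply h0) (tau_apply h1) (tau_apply h2)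
  have hhex : (σ * k⁻¹)⁻¹ • (t ∪ u) ∈ hexadsOn (fsOf 340831) := by
    have := smul_hexad (M24.inv_mem hτ) hh
    rwa [← hτd, inv_smul_smul] at this
  obtain ⟨k', hk', hp8, hp6, hX⟩ := (hex_iff _).mp hhex
  have hmemX : ∀ (j : ℕ) (x : GolayPt), j < 24 → (σ * k⁻¹) (ptN j) = x → x ∈ t ∪ u →
      (M k' &&& 340831).testBit j = true := by
    intro j x hj hjx hx
    rw [← ptN_mem_fsOf _ _ hj, ← hX, Finset.mem_inv_smul_finset_iff, Equiv.Perm.smul_def, hjx]
    exact hx
  have hX' : M k' &&& 340831 = 4127 := hex5 k' hk' hp8 hp6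
    (hmemX 0 a (by norm_num) (tau_apply h0) (Finset.mem_union_left _ hat))
    (hmemX 1 b (by norm_num) (tau_apply h1) (Finset.mem_union_left _ hbt))
    (hmemX 2 c (by norm_num) (tau_apply h2) (Finset.mem_union_left _ hct))
    (hmemX 3 e (by norm_num) (tau_apply h3) (Finset.mem_union_right _ heu))
    (hmemX 4 f (by norm_num) (tau_apply h4) (Finset.mem_union_right _ hfu))
  rw [hX'] at hX
  have hτh : (σ * k⁻¹) • fsOf 4127 = t ∪ u := by rw [← hX, smul_inv_smul]
  refine ⟨σ * k⁻¹, hτ, hτd, hτt, ?_⟩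
  rw [f4120, Finset.smul_finset_sdiff, hτh, hτt, Finset.union_sdiff_cancel_left htu]

/-- two disjoint triples uniting to a hexad lie in exactly one quartet -/
theorem quartet_unique (d : Finset GolayPt) (hd : d ∈ dodecads) (t u : Finset GolayPt)
    (ht : t.card = 3) (hu : u.card = 3) (htu : Disjoint t u) (hh : t ∪ u ∈ hexadsOn d) :
    ∃! Q : Fam, Q ∈ quartets d ∧ t ∈ Q ∧ u ∈ Q := by
  obtain ⟨τ, hτ, hτd, hτt, hτu⟩ := norm d hd t u ht hu htu hh
  refine ⟨τ • fin root0, ⟨?_, ?_, ?_⟩, ?_⟩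
  · rw [← hτd]
    exact smul_quartet hτ root0_mem
  · rw [← hτt]
    exact Finset.smul_mem_smul_finset (by rw [mem_fin]; exact ⟨7, by decide, rfl⟩)
  · rw [← hτu]
    exact Finset.smul_mem_smul_finset (by rw [mem_fin]; exact ⟨4120, by decide, rfl⟩)
  · rintro Q' ⟨hQ', htQ', huQ'⟩
    have h1 : τ⁻¹ • Q' ∈ quartets (fsOf 340831) := by
      have := smul_quartet (M24.inv_mem hτ) hQ'
      rwa [← hτd, inv_smul_smul] at this
    have h2 : fsOf 7 ∈ τ⁻¹ • Q' := by
      have := Finset.smul_mem_smul_finset (a := τ⁻¹) htQ'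
      rwa [← hτt, inv_smul_smul] at this
    have h3 : fsOf 4120 ∈ τ⁻¹ • Q' := by
      have := Finset.smul_mem_smul_finset (a := τ⁻¹) huQ'
      rwa [← hτu, inv_smul_smul] at this
    rw [← base_unique _ h1 h2 h3, smul_inv_smul]

theorem quartet_pair {d : Finset GolayPt} {Q : Fam} (hQ : Q ∈ quartets d) :
    ∃ t ∈ Q, ∃ u ∈ Q, t.card = 3 ∧ u.card = 3 ∧ Disjoint t u ∧ t ∪ u ∈ hexadsOn d := by
  obtain ⟨t, ht, u, hu, hne⟩ := Finset.one_lt_card.mp (by rw [hQ.1]; norm_num : 1 < Q.card)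
  have h1 := (hQ.2.1 t ht).1
  have h2 := (hQ.2.1 u hu).1
  have h3 := hQ.2.2 t ht u hu hne
  exact ⟨t, ht, u, hu, h1, h2, disj_of_hex h1 h2 h3, h3⟩

/-- normal form of a quartet -/
theorem quartet_norm (d : Finset GolayPt) (hd : d ∈ dodecads) (Q : Fam) (hQ : Q ∈ quartets d) :
    ∃ τ ∈ M24, τ • fsOf 340831 = d ∧ τ • fin root0 = Q := by
  obtain ⟨t, ht, u, hu, h1, h2, hdis, hh⟩ := quartet_pair hQ
  obtain ⟨τ, hτ, hτd, hτt, hτu⟩ := norm d hd t u h1 h2 hdis hh
  refine ⟨τ, hτ, hτd, ?_⟩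
  apply (quartet_unique d hd t u h1 h2 hdis hh).unique
  · refine ⟨?_, ?_, ?_⟩
    · rw [← hτd]
      exact smul_quartet hτ root0_mem
    · rw [← hτt]
      exact Finset.smul_mem_smul_finset (by rw [mem_fin]; exact ⟨7, by decide, rfl⟩)
    · rw [← hτu]
      exact Finset.smul_mem_smul_finset (by rw [mem_fin]; exact ⟨4120, by decide, rfl⟩)
  · exact ⟨hQ, ht, hu⟩

/-- the stabilizer of a dodecad is transitive on its quartets -/
theorem quartets_trans (d : Finset GolayPt) (hd : d ∈ dodecads) (Q : Fam) (hQ : Q ∈ quartets d)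
    (Q' : Fam) (hQ' : Q' ∈ quartets d) : ∃ g ∈ M24, g • d = d ∧ g • Q = Q' := by
  obtain ⟨τ, hτ, hτd, hτQ⟩ := quartet_norm d hd Q hQ
  obtain ⟨τ', hτ', hτd', hτQ'⟩ := quartet_norm d hd Q' hQ'
  refine ⟨τ' * τ⁻¹, M24.mul_mem hτ' (M24.inv_mem hτ), ?_, ?_⟩
  · rw [mul_smul, inv_smul_eq_iff.mpr hτd.symm, hτd']
  · rw [mul_smul, inv_smul_eq_iff.mpr hτQ.symm, hτQ']

/-- a dodecad has 132 hexads -/
theorem ncard_hexads (d : Finset GolayPt) (hd : d ∈ dodecads) : (hexadsOn d).ncard = 132 := by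
  obtain ⟨σ, hσ, hσd⟩ := exists_sigma d hd
  have h0 : hexadsOn (fsOf 340831) = ↑(fin hexL) := by
    ext h
    rw [hex_iff', Finset.mem_coe]
  have h1 : hexadsOn d = (fun h => σ • h) '' hexadsOn (fsOf 340831) := by
    ext h
    constructor
    · intro hh
      refine ⟨σ⁻¹ • h, ?_, smul_inv_smul σ h⟩
      have := smul_hexad (M24.inv_mem hσ) hh
      rwa [← hσd, inv_smul_smul] at this
    · rintro ⟨h', hh', rfl⟩
      rw [← hσd]
      exact smul_hexad hσ hh'
  rw [h1, Set.ncard_image_of_injective _ (MulAction.injective σ), h0, Set.ncard_coe_finset,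
    card_fin hexL_lt hexL_nodup, hexL_length]

end Cfsg.Agent.Lib_lead_Quartet
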