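import Mathlib
import Cfsg.Prelude.Def_SporadicCombinatorics
import Cfsg.Agent.Lib_lead_Quartet
import Cfsg.Agent.Lib_lead_OrbOct

/-! Restriction of a subgroup of the group of the code to an invariant set of points; the
stabilizer of a hexad in the stabilizer of a dodecad is a symmetric group of degree 6. -/

set_option autoImplicit false

namespace Cfsg.Agent.Lib_lead_Restrict

open Cfsg Cfsg.Agent.Lib_lead_Golay Cfsg.Agent.Lib_lead_GolayPerm Cfsg.Agent.Lib_lead_M24
  Cfsg.Agent.Lib_lead_M24Chain Cfsg.Agent.Lib_lead_M24Orb Cfsg.Agent.Lib_lead_ObjOrb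
  Cfsg.Agent.Lib_lead_M12Thm Cfsg.Agent.Lib_lead_Quartet
open scoped Pointwise

/-- restriction to an invariant set of points -/
def restr (C : Finset GolayPt) (G : Subgroup ↥M24)
    (hG : ∀ g ∈ G, (g : Equiv.Perm GolayPt) • C = C) : ↥G →* Equiv.Perm ↥C where
  toFun g := Equiv.Perm.subtypePerm ((g : ↥M24) : Equiv.Perm GolayPt) (fun x => by
    have h := hG g.1 g.2
    exact ⟨fun hx => by
        rw [← h] at hx
        exact (Finset.smul_mem_smul_finset_iff _).mp hx,
      fun hx => by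
        rw [← h]
        exact Finset.smul_mem_smul_finset hx⟩)
  map_one' := by
    ext x
    rfl
  map_mul' a b := by
    ext x
    rfl

theorem restr_bij (C : Finset GolayPt) (G : Subgroup ↥M24)
    (hG : ∀ g ∈ G, (g : Equiv.Perm GolayPt) • C = C)
    (hinj : ∀ g ∈ G, (∀ p ∈ C, (g : Equiv.Perm GolayPt) p = p) → g = 1)
    (hcard : Nat.card ↥G = (C.card).factorial) : Function.Bijective (restr C G hG) := by
  have hi : Function.Injective (restr C G hG) := by
    rw [injective_iff_map_eq_one]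
    intro g hg1
    apply Subtype.ext
    apply hinj g.1 g.2
    intro p hp
    have := congrArg (fun f : Equiv.Perm ↥C => ((f ⟨p, hp⟩ : ↥C) : GolayPt)) hg1
    exact this
  apply Function.Injective.bijective_of_nat_card_le hi
  rw [hcard, Nat.card_eq_fintype_card, Fintype.card_perm, Fintype.card_coe]

theorem iso_perm (C : Finset GolayPt) (n : ℕ) (hn : C.card = n) (G : Subgroup ↥M24)
    (hG : ∀ g ∈ G, (g : Equiv.Perm GolayPt) • C = C)
    (hinj : ∀ g ∈ G, (∀ p ∈ C, (g : Equiv.Perm GolayPt) p = p) → g = 1)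
    (hcard : Nat.card ↥G = n.factorial) : Nonempty (↥G ≃* Equiv.Perm (Fin n)) := by
  have e1 : ↥G ≃* Equiv.Perm ↥C :=
    MulEquiv.ofBijective (restr C G hG) (restr_bij C G hG hinj (by rw [hn]; exact hcard))
  have e2 : ↥C ≃ Fin n := Fintype.equivFinOfCardEq (by rw [Fintype.card_coe, hn])
  exact ⟨e1.trans (Equiv.permCongrHom e2)⟩

/-- an embedding of five points into a set of at least five points -/
theorem exists_five (s : Finset GolayPt) (h5 : 5 ≤ s.card) :
    ∃ x : Fin 5 ↪ GolayPt, ∀ i, x i ∈ s := by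
  obtain ⟨e⟩ := Function.Embedding.nonempty_of_card_le (α := Fin 5) (β := ↥s)
    (by rw [Fintype.card_fin, Fintype.card_coe]; exact h5)
  exact ⟨e.trans (Function.Embedding.subtype _), fun i => (e i).2⟩

/-- an element of the stabilizer of a dodecad fixing five of its points is the identity -/
theorem fix5 (d : Finset GolayPt) (hd : d ∈ dodecads) (s : Finset GolayPt) (hs : s ⊆ d)
    (h5 : 5 ≤ s.card) (g : ↥M24) (hg : g • d = d)
    (hfix : ∀ p ∈ s, (g : Equiv.Perm GolayPt) p = p) : g = 1 := by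
  obtain ⟨x, hx⟩ := exists_five s h5
  obtain ⟨g0, -, huniq⟩ := sharp d hd x x (fun i => hs (hx i)) (fun i => hs (hx i))
  have h1 := huniq ⟨g, hg⟩ (fun i => hfix _ (hx i))
  have h2 := huniq 1 (fun i => rfl)
  have h3 : (⟨g, hg⟩ : MulAction.stabilizer M24 d) = 1 := h1.trans h2.symm
  exact congrArg Subtype.val h3

/-- two hexads of a dodecad with five common points are equal -/
theorem hex_eq {d C C' : Finset GolayPt} (hC : C ∈ hexadsOn d) (hC' : C' ∈ hexadsOn d)
    (h : 5 ≤ (C ∩ C').card) : C = C' := by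
  obtain ⟨-, o, ho, rfl⟩ := hC
  obtain ⟨-, o', ho', rfl⟩ := hC'
  have h1 : (o ∩ d ∩ (o' ∩ d)).card ≤ (o ∩ o').card := by
    apply Finset.card_le_card
    intro p hp
    simp only [Finset.mem_inter] at hp ⊢
    exact ⟨hp.1.1, hp.2.1⟩
  by_cases hoo : o' = o
  · rw [hoo]
  · rcases Cfsg.Agent.Lib_lead_OrbOct.inter_sizes o o' ho ho' hoo with h2 | h2 | h2 <;> omega

/-- the stabilizer of a dodecad is transitive on its hexads -/
theorem hex_trans (d : Finset GolayPt) (hd : d ∈ dodecads) (C C' : Finset GolayPt)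
    (hC : C ∈ hexadsOn d) (hC' : C' ∈ hexadsOn d) : ∃ g : ↥M24, g • d = d ∧ g • C = C' := by
  obtain ⟨x, hx⟩ := exists_five C (by rw [hC.1]; norm_num)
  obtain ⟨y, hy⟩ := exists_five C' (by rw [hC'.1]; norm_num)
  obtain ⟨⟨g, hg⟩, hgxy, -⟩ := sharp d hd x y (fun i => sub_of_hex hC (hx i))
    (fun i => sub_of_hex hC' (hy i))
  have hg' : (g : Equiv.Perm GolayPt) • d = d := hg
  refine ⟨g, hg, ?_⟩
  have h1 : (g : Equiv.Perm GolayPt) • C ∈ hexadsOn d := by
    have := smul_hexad g.2 hC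
    rwa [hg'] at this
  apply hex_eq h1 hC'
  have h2 : (Finset.univ.map y) ⊆ (g : Equiv.Perm GolayPt) • C ∩ C' := by
    intro p hp
    rw [Finset.mem_map] at hp
    obtain ⟨i, -, rfl⟩ := hp
    rw [Finset.mem_inter]
    refine ⟨?_, hy i⟩
    have h3 : ((g : Equiv.Perm GolayPt)) (x i) = y i := hgxy i
    rw [← h3]
    exact Finset.smul_mem_smul_finset (hx i)
  have h4 := Finset.card_le_card h2
  rw [Finset.card_map, Finset.card_univ, Fintype.card_fin] at h4
  exact h4

theorem card_hex_stab (d : Finset GolayPt) (hd : d ∈ dodecads) (C : Finset GolayPt)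
    (hC : C ∈ hexadsOn d) :
    Nat.card ↥(MulAction.stabilizer M24 d ⊓ MulAction.stabilizer M24 C) = 720 := by
  classical
  have hHF : ∀ h, h ∈ (Set.toFinite (hexadsOn d)).toFinset ↔ h ∈ hexadsOn d :=
    fun h => Set.Finite.mem_toFinset _
  have hc : (Set.toFinite (hexadsOn d)).toFinset.card = 132 := by
    rw [← Set.ncard_eq_toFinset_card _ (Set.toFinite _)]
    exact ncard_hexads d hd
  have h := orbit_count (G := M24) (MulAction.stabilizer M24 d) C
    (Set.toFinite (hexadsOn d)).toFinset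
    (fun g hg => by
      rw [MulAction.mem_stabilizer_iff] at hg
      have hg' : (g : Equiv.Perm GolayPt) • d = d := hg
      rw [hHF]
      have := smul_hexad g.2 hC
      rwa [hg'] at this)
    (fun z hz => by
      rw [hHF] at hz
      obtain ⟨g, hgd, hgz⟩ := hex_trans d hd C z hC hz
      exact ⟨g, hgd, hgz⟩)
  rw [Cfsg.Agent.Lib_lead_M24Oct.dodecad_stab d hd, hc] at h
  omega

/-- the stabilizer of a hexad in the stabilizer of its dodecad -/
theorem hex_S6 (d : Finset GolayPt) (hd : d ∈ dodecads) (C : Finset GolayPt)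
    (hC : C ∈ hexadsOn d) :
    Nonempty (↥(MulAction.stabilizer M24 d ⊓ MulAction.stabilizer M24 C) ≃*
      Equiv.Perm (Fin 6)) ∧
    (∀ g ∈ MulAction.stabilizer M24 d ⊓ MulAction.stabilizer M24 C,
      (∀ p ∈ C, ((g : ↥M24) : Equiv.Perm GolayPt) p = p) → g = 1) ∧
    ∀ g ∈ MulAction.stabilizer M24 d ⊓ MulAction.stabilizer M24 C,
      (∀ p ∈ d \ C, ((g : ↥M24) : Equiv.Perm GolayPt) p = p) → g = 1 := by
  have hCd : C ⊆ d := sub_of_hex hC
  have hinj : ∀ g ∈ MulAction.stabilizer M24 d ⊓ MulAction.stabilizer M24 C,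
      (∀ p ∈ C, ((g : ↥M24) : Equiv.Perm GolayPt) p = p) → g = 1 :=
    fun g hg hfix => fix5 d hd C hCd (by rw [hC.1]; norm_num) g
      (MulAction.mem_stabilizer_iff.mp hg.1) hfix
  refine ⟨?_, hinj, ?_⟩
  · exact iso_perm C 6 hC.1 _ (fun g hg => MulAction.mem_stabilizer_iff.mp hg.2) hinj
      (by rw [card_hex_stab d hd C hC]; rfl)
  · intro g hg hfix
    apply fix5 d hd (d \ C) Finset.sdiff_subset _ g (MulAction.mem_stabilizer_iff.mp hg.1) hfix
    rw [Finset.card_sdiff_of_subset hCd, hd.2, hC.1]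
    norm_num

end Cfsg.Agent.Lib_lead_Restrict
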