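import Mathlib
import Cfsg.Prelude.Def_SporadicCombinatorics
import Cfsg.Agent.Lib_lead_M24Sets2
import Cfsg.Agent.Lib_lead_M24ChainData
import Cfsg.Agent.Lib_lead_Restrict

/-! Sets of six points: the group of the code induces every permutation on them; pointwise and
setwise stabilizers; minimal bases. -/

set_option autoImplicit false

namespace Cfsg.Agent.Lib_lead_SixSet

open Cfsg Cfsg.Agent.Lib_lead_Golay Cfsg.Agent.Lib_lead_GolayPerm Cfsg.Agent.Lib_lead_M24
  Cfsg.Agent.Lib_lead_M24Chain Cfsg.Agent.Lib_lead_M24ChainData Cfsg.Agent.Lib_lead_M24Sets2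
  Cfsg.Agent.Lib_lead_Restrict
open scoped Pointwise

theorem lvl613 : Lvl 613 17 3276800 :=
  ⟨by norm_num, by norm_num, sub_oct (k := 15) (by norm_num) (by decide) (by decide +kernel)
    (by decide +kernel) (by decide +kernel), sup_of_row (by norm_num) row7_ok (by decide)⟩

theorem card615 : Nat.card (stabM 615) = 3 := by rw [cnt7, card_stab7]

theorem card613 : Nat.card (stabM 613) = 48 := by rw [cnt6, card615]

theorem card131685 : Nat.card (stabM 131685) = 16 := by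
  have h := lvl613.count
  rw [show popc 3276800 = 3 from by decide,
    show ((613 : ℕ) ||| 2 ^ 17) = 131685 from by decide, card613] at h
  omega

/-- transitivity on ordered sextuples of the same kind -/
theorem six_trans (a b c d e f a' b' c' d' e' f' : GolayPt) (hne : [a, b, c, d, e, f].Nodup)
    (hne' : [a', b', c', d', e', f'].Nodup)
    (hiff : (∃ o ∈ octads, a ∈ o ∧ b ∈ o ∧ c ∈ o ∧ d ∈ o ∧ e ∈ o ∧ f ∈ o) ↔
      (∃ o ∈ octads, a' ∈ o ∧ b' ∈ o ∧ c' ∈ o ∧ d' ∈ o ∧ e' ∈ o ∧ f' ∈ o)) :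
    ∃ h ∈ M24, h a = a' ∧ h b = b' ∧ h c = c' ∧ h d = d' ∧ h e = e' ∧ h f = f' := by
  obtain ⟨g, hg, e1, e2, e3, e4, e5, hcase⟩ := six a b c d e f hne
  obtain ⟨g', hg', e1', e2', e3', e4', e5', hcase'⟩ := six a' b' c' d' e' f' hne'
  have key : ∃ z, g f = z ∧ g' f' = z := by
    rcases hcase with ⟨ho, h⟩ | ⟨hno, h⟩ <;> rcases hcase' with ⟨ho', h'⟩ | ⟨hno', h'⟩
    · exact ⟨_, h, h'⟩
    · exact absurd (hiff.mp ho) hno'
    · exact absurd (hiff.mpr ho') hno
    · exact ⟨_, h, h'⟩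
  obtain ⟨z, hz, hz'⟩ := key
  exact ⟨g'⁻¹ * g, M24.mul_mem (M24.inv_mem (C3_le hg')) (C3_le hg), conj_map e1 e1',
    conj_map e2 e2', conj_map e3 e3', conj_map e4 e4', conj_map e5 e5', conj_map hz hz'⟩

/-- a set of six points as a list -/
theorem exists_list (E : Finset GolayPt) (hE : E.card = 6) :
    ∃ a b c d e f : GolayPt, [a, b, c, d, e, f].Nodup ∧ E = {a, b, c, d, e, f} := by
  have h1 := E.nodup_toList
  have h2 := E.toList_toFinset
  have h3 : E.toList.length = 6 := by rw [Finset.length_toList]; exact hE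
  generalize E.toList = l at h1 h2 h3
  rcases l with _ | ⟨a, _ | ⟨b, _ | ⟨c, _ | ⟨d, _ | ⟨e, _ | ⟨f, _ | ⟨g, l'⟩⟩⟩⟩⟩⟩⟩ <;>
    simp at h3
  refine ⟨a, b, c, d, e, f, h1, ?_⟩
  rw [← h2]
  simp

theorem oct_iff (a b c d e f : GolayPt) :
    (∃ o ∈ octads, ({a, b, c, d, e, f} : Finset GolayPt) ⊆ o) ↔
      (∃ o ∈ octads, a ∈ o ∧ b ∈ o ∧ c ∈ o ∧ d ∈ o ∧ e ∈ o ∧ f ∈ o) := by
  simp only [Finset.insert_subset_iff, Finset.singleton_subset_iff]

/-- every permutation of a set of six points is induced by the group of the code -/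
theorem induce (E : Finset GolayPt) (hE : E.card = 6) (σ : Equiv.Perm ↥E) :
    ∃ g ∈ M24, ∀ p : ↥E, g p = σ p := by
  obtain ⟨a, b, c, d, e, f, hnd, rfl⟩ := exists_list E hE
  have hm : ∀ x : GolayPt, x ∈ ({a, b, c, d, e, f} : Finset GolayPt) ↔
      x = a ∨ x = b ∨ x = c ∨ x = d ∨ x = e ∨ x = f := by
    intro x
    simp only [Finset.mem_insert, Finset.mem_singleton]
  have ha := (hm a).mpr (Or.inl rfl)
  have hb := (hm b).mpr (Or.inr (Or.inl rfl))
  have hc := (hm c).mpr (Or.inr (Or.inr (Or.inl rfl)))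
  have hd := (hm d).mpr (Or.inr (Or.inr (Or.inr (Or.inl rfl))))
  have he := (hm e).mpr (Or.inr (Or.inr (Or.inr (Or.inr (Or.inl rfl)))))
  have hf := (hm f).mpr (Or.inr (Or.inr (Or.inr (Or.inr (Or.inr rfl)))))
  have hnd' : [(σ ⟨a, ha⟩ : GolayPt), (σ ⟨b, hb⟩ : GolayPt), (σ ⟨c, hc⟩ : GolayPt),
      (σ ⟨d, hd⟩ : GolayPt), (σ ⟨e, he⟩ : GolayPt), (σ ⟨f, hf⟩ : GolayPt)].Nodup := by
    have h1 : ([⟨a, ha⟩, ⟨b, hb⟩, ⟨c, hc⟩, ⟨d, hd⟩, ⟨e, he⟩, ⟨f, hf⟩] :
        List ↥({a, b, c, d, e, f} : Finset GolayPt)).Nodup := by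
      have := hnd
      simp only [List.nodup_cons, List.mem_cons, List.not_mem_nil, or_false, not_or,
        List.nodup_nil, and_true, not_false_eq_true, Subtype.mk.injEq] at this ⊢
      exact this
    exact (h1.map σ.injective).map Subtype.val_injective
  have hsub : ({(σ ⟨a, ha⟩ : GolayPt), (σ ⟨b, hb⟩ : GolayPt), (σ ⟨c, hc⟩ : GolayPt),
      (σ ⟨d, hd⟩ : GolayPt), (σ ⟨e, he⟩ : GolayPt), (σ ⟨f, hf⟩ : GolayPt)} : Finset GolayPt)
      = {a, b, c, d, e, f} := by
    apply Finset.eq_of_subset_of_card_le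
    · intro x hx
      simp only [Finset.mem_insert, Finset.mem_singleton] at hx
      rcases hx with rfl | rfl | rfl | rfl | rfl | rfl <;> exact Subtype.coe_prop _
    · rw [hE]
      have h6 := List.toFinset_card_of_nodup hnd'
      simp only [List.toFinset_cons, List.toFinset_nil, insert_empty_eq] at h6
      rw [h6]
      rfl
  obtain ⟨h, hh, e1, e2, e3, e4, e5, e6⟩ := six_trans a b c d e f _ _ _ _ _ _ hnd hnd'
    (by rw [← oct_iff, ← oct_iff, hsub])
  refine ⟨h, hh, ?_⟩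
  rintro ⟨p, hp⟩
  rcases (hm p).mp hp with rfl | rfl | rfl | rfl | rfl | rfl
  · exact e1
  · exact e2
  · exact e3
  · exact e4
  · exact e5
  · exact e6

theorem perm_apply_inv (σ : Equiv.Perm GolayPt) (x : GolayPt) : σ (σ⁻¹ x) = x :=
  σ.apply_symm_apply x

theorem perm_inv_apply (σ : Equiv.Perm GolayPt) (x : GolayPt) : σ⁻¹ (σ x) = x :=
  σ.symm_apply_apply x

/-- the pointwise stabilizer of a set, conjugated onto a set of base points -/
theorem card_ptwise (E : Finset GolayPt) (F : ℕ) (σ : Equiv.Perm GolayPt) (hσ : σ ∈ M24)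
    (hEF : ∀ p, p ∈ E ↔ F.testBit (idx (σ p)) = true) :
    Nat.card {g : Equiv.Perm GolayPt // g ∈ M24 ∧ ∀ p ∈ E, g p = p}
      = Nat.card ↥(stabM F) := by
  apply Nat.card_congr
  refine ⟨fun g => ⟨σ * g.1 * σ⁻¹, M24.mul_mem (M24.mul_mem hσ g.2.1) (M24.inv_mem hσ), ?_⟩,
    fun h => ⟨σ⁻¹ * h.1 * σ, M24.mul_mem (M24.mul_mem (M24.inv_mem hσ) h.2.1) hσ, ?_⟩, ?_, ?_⟩
  · intro j hj hbit
    have hmem : σ⁻¹ (ptN j) ∈ E := by
      rw [hEF, perm_apply_inv, idx_ptN' j hj]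
      exact hbit
    rw [Equiv.Perm.mul_apply, Equiv.Perm.mul_apply, g.2.2 _ hmem, perm_apply_inv]
  · intro p hp
    have hbit := (hEF p).mp hp
    have h1 := h.2.2 (idx (σ p)) (idx_lt _) hbit
    rw [ptN_idx] at h1
    rw [Equiv.Perm.mul_apply, Equiv.Perm.mul_apply, h1, perm_inv_apply]
  · intro g
    apply Subtype.ext
    show σ⁻¹ * (σ * g.1 * σ⁻¹) * σ = g.1
    group
  · intro h
    apply Subtype.ext
    show σ * (σ⁻¹ * h.1 * σ) * σ⁻¹ = h.1
    group

theorem bits131685 : ∀ q : GolayPt, (131685 : ℕ).testBit (idx q) = true ↔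
    (q = ptN 0 ∨ q = ptN 2 ∨ q = ptN 5 ∨ q = ptN 6 ∨ q = ptN 9 ∨ q = ptN 17) := by decide

theorem bits615 : ∀ q : GolayPt, (615 : ℕ).testBit (idx q) = true ↔
    (q = ptN 0 ∨ q = ptN 2 ∨ q = ptN 5 ∨ q = ptN 6 ∨ q = ptN 9 ∨ q = ptN 1) := by decide

theorem mem_six {g : Equiv.Perm GolayPt} {a b c d e f a' b' c' d' e' f' : GolayPt}
    (e1 : g a = a') (e2 : g b = b') (e3 : g c = c') (e4 : g d = d') (e5 : g e = e')
    (e6 : g f = f') (p : GolayPt) :
    p ∈ ({a, b, c, d, e, f} : Finset GolayPt) ↔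
      (g p = a' ∨ g p = b' ∨ g p = c' ∨ g p = d' ∨ g p = e' ∨ g p = f') := by
  simp only [Finset.mem_insert, Finset.mem_singleton]
  rw [← e1, ← e2, ← e3, ← e4, ← e5, ← e6]
  simp only [EmbeddingLike.apply_eq_iff_eq]

/-- pointwise stabilizers of sets of six points -/
theorem ptwise (E : Finset GolayPt) (hE : E.card = 6) :
    ((∃ o ∈ octads, E ⊆ o) →
      Nat.card {g : Equiv.Perm GolayPt // g ∈ M24 ∧ ∀ p ∈ E, g p = p} = 16) ∧
    ((¬ ∃ o ∈ octads, E ⊆ o) →
      Nat.card {g : Equiv.Perm GolayPt // g ∈ M24 ∧ ∀ p ∈ E, g p = p} = 3) := by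
  obtain ⟨a, b, c, d, e, f, hnd, rfl⟩ := exists_list E hE
  obtain ⟨g, hg, e1, e2, e3, e4, e5, hcase⟩ := six a b c d e f hnd
  constructor
  · intro ho
    rw [oct_iff] at ho
    rcases hcase with ⟨-, e6⟩ | ⟨hno, -⟩
    · rw [card_ptwise _ 131685 g (C3_le hg) (fun p => by
        rw [bits131685, mem_six e1 e2 e3 e4 e5 e6]), card131685]
    · exact absurd ho hno
  · intro hno
    rw [oct_iff] at hno
    rcases hcase with ⟨ho, -⟩ | ⟨-, e6⟩
    · exact absurd ho hno
    · rw [card_ptwise _ 615 g (C3_le hg) (fun p => by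
        rw [bits615, mem_six e1 e2 e3 e4 e5 e6]), card615]

/-- the setwise stabilizer of a set of six points -/
theorem card_setwise (E : Finset GolayPt) (hE : E.card = 6) (n : ℕ)
    (hn : Nat.card {g : Equiv.Perm GolayPt // g ∈ M24 ∧ ∀ p ∈ E, g p = p} = n) :
    Nat.card ↥(MulAction.stabilizer M24 E) = 720 * n := by
  have hG : ∀ g ∈ MulAction.stabilizer M24 E, (g : Equiv.Perm GolayPt) • E = E :=
    fun g hg => MulAction.mem_stabilizer_iff.mp hg
  have hsurj : Function.Surjective (restr E (MulAction.stabilizer M24 E) hG) := by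
    intro σ
    obtain ⟨g, hg, hgσ⟩ := induce E hE σ
    have hgE : g • E = E := by
      apply Finset.eq_of_subset_of_card_le
      · intro x hx
        rw [Finset.mem_smul_finset] at hx
        obtain ⟨y, hy, rfl⟩ := hx
        have := hgσ ⟨y, hy⟩
        rw [Equiv.Perm.smul_def, this]
        exact Subtype.coe_prop _
      · rw [Finset.card_smul_finset]
    refine ⟨⟨⟨g, hg⟩, MulAction.mem_stabilizer_iff.mpr hgE⟩, ?_⟩
    apply Equiv.ext; intro p; apply Subtype.ext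
    exact hgσ p
  have h1 := Subgroup.card_eq_card_quotient_mul_card_subgroup
    (restr E (MulAction.stabilizer M24 E) hG).ker
  have h2 : Nat.card (↥(MulAction.stabilizer M24 E) ⧸
      (restr E (MulAction.stabilizer M24 E) hG).ker) = 720 := by
    rw [Nat.card_congr (QuotientGroup.quotientKerEquivOfSurjective _ hsurj).toEquiv,
      Nat.card_eq_fintype_card, Fintype.card_perm, Fintype.card_coe, hE]
    rfl
  have h3 : Nat.card ↥(restr E (MulAction.stabilizer M24 E) hG).ker = n := by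
    rw [← hn]
    apply Nat.card_congr
    refine ⟨fun k => ⟨((k.1 : ↥M24) : Equiv.Perm GolayPt), (k.1 : ↥M24).2, ?_⟩,
      fun g => ⟨⟨⟨g.1, g.2.1⟩, ?_⟩, ?_⟩, ?_, ?_⟩
    · intro p hp
      have hk := k.2
      rw [MonoidHom.mem_ker] at hk
      have := congrArg (fun f : Equiv.Perm ↥E => ((f ⟨p, hp⟩ : ↥E) : GolayPt)) hk
      exact this
    · rw [MulAction.mem_stabilizer_iff]
      show g.1 • E = E
      apply Finset.eq_of_subset_of_card_le
      · intro x hx
        rw [Finset.mem_smul_finset] at hx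
        obtain ⟨y, hy, rfl⟩ := hx
        rw [Equiv.Perm.smul_def, g.2.2 y hy]
        exact hy
      · rw [Finset.card_smul_finset]
    · rw [MonoidHom.mem_ker]
      apply Equiv.ext; intro p; apply Subtype.ext
      exact g.2.2 p.1 p.2
    · intro k
      rfl
    · intro g
      rfl
  rw [h1, h2, h3]

theorem card24 : Fintype.card GolayPt = 24 := by decide

/-- every set of at most six points is fixed pointwise by a nontrivial element -/
theorem base_lower (B : Finset GolayPt) (hB : B.card ≤ 6) :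
    ∃ g ∈ M24, g ≠ 1 ∧ ∀ b ∈ B, g b = b := by
  obtain ⟨E, hBE, -, hE⟩ := Finset.exists_subsuperset_card_eq (Finset.subset_univ B) hB
    (by rw [Finset.card_univ, card24]; norm_num)
  have hcard : 1 < Nat.card {g : Equiv.Perm GolayPt // g ∈ M24 ∧ ∀ p ∈ E, g p = p} := by
    by_cases ho : ∃ o ∈ octads, E ⊆ o
    · rw [(ptwise E hE).1 ho]
      norm_num
    · rw [(ptwise E hE).2 ho]
      norm_num
  have hnt := (Finite.one_lt_card_iff_nontrivial).mp hcard
  obtain ⟨g, hg⟩ := exists_ne (⟨1, M24.one_mem, fun p _ => rfl⟩ :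
    {g : Equiv.Perm GolayPt // g ∈ M24 ∧ ∀ p ∈ E, g p = p})
  exact ⟨g.1, g.2.1, fun h => hg (Subtype.ext h), fun b hb => g.2.2 b (hBE hb)⟩

theorem c131687 : (fsOf 131687).card = 7 := by
  rw [card_fsOf _ (by norm_num)]
  decide

/-- some set of seven points is fixed pointwise only by the identity -/
theorem base_upper : ∃ B : Finset GolayPt, B.card = 7 ∧
    ∀ g ∈ M24, (∀ b ∈ B, g b = b) → g = 1 := by
  refine ⟨fsOf 131687, c131687, ?_⟩
  intro g hg hfix
  have hmem : g ∈ stabM 131687 := by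
    refine ⟨hg, ?_⟩
    intro j hj hbit
    apply hfix
    rw [mem_fsOf, idx_ptN' j hj]
    exact hbit
  rw [stab7, Subgroup.mem_bot] at hmem
  exact hmem

end Cfsg.Agent.Lib_lead_SixSet
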