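import Mathlib
import Cfsg.Prelude.Def_SporadicCombinatorics
import Cfsg.Agent.Lib_lead_SixSet

/-! Conjugacy of elements of order 2 and 3 in the group of the binary Golay code: every such
element is conjugate to an explicit element, found from the enumeration of the pointwise
stabilizer of five points. -/

set_option autoImplicit false

namespace Cfsg.Agent.Lib_lead_Cls

open Cfsg Cfsg.Agent.Lib_lead_Golay Cfsg.Agent.Lib_lead_GolayPerm Cfsg.Agent.Lib_lead_M24
  Cfsg.Agent.Lib_lead_M24Chain Cfsg.Agent.Lib_lead_M24ChainData Cfsg.Agent.Lib_lead_M24Sets2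
  Cfsg.Agent.Lib_lead_SixSet Cfsg.Agent.Lib_lead_M24Trans
open scoped Pointwise

/-- a permutation table with its inverse -/
abbrev Tb : Type := List ℕ × List ℕ

/-- the permutation of a table -/
def P (t : Tb) : Equiv.Perm GolayPt := permD t.1 t.2

/-- table lookup -/
def ap (t : Tb) (j : ℕ) : ℕ := t.1.getD j 0

theorem P_mem {t : Tb} (h : genOK t = true) : P t ∈ M24 := by
  unfold genOK at h
  rw [Bool.and_eq_true] at h
  unfold P permD
  rw [dif_pos h.1]
  exact mem_M24_of_chk h.1 h.2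

theorem P_apply {t : Tb} (h : genOK t = true) (j : ℕ) (hj : j < 24) :
    P t (ptN j) = ptN (ap t j) := by
  unfold genOK at h
  rw [Bool.and_eq_true] at h
  unfold P
  rw [permD_apply h.1]
  unfold tabFun ap
  rw [idx_ptN' j hj]

theorem ap_lt {t : Tb} (h : genOK t = true) (j : ℕ) (hj : j < 24) : ap t j < 24 := by
  unfold genOK at h
  rw [Bool.and_eq_true] at h
  exact (validTab_spec h.1 j hj).1

theorem ext_pt {f g : Equiv.Perm GolayPt} (h : ∀ j < 24, f (ptN j) = g (ptN j)) : f = g := by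
  apply Equiv.ext
  intro p
  have := h (idx p) (idx_lt p)
  rwa [ptN_idx] at this

theorem ptN_inj {a b : ℕ} (ha : a < 24) (hb : b < 24) (h : ptN a = ptN b) : a = b := by
  have := congrArg idx h
  rwa [idx_ptN' a ha, idx_ptN' b hb] at this

theorem bits7 : ∀ j < 24, (131687 : ℕ).testBit j = true →
    j = 0 ∨ j = 1 ∨ j = 2 ∨ j = 5 ∨ j = 6 ∨ j = 9 ∨ j = 17 := by decide

theorem bits5 : ∀ j < 24, (613 : ℕ).testBit j = true →
    j = 0 ∨ j = 2 ∨ j = 5 ∨ j = 6 ∨ j = 9 := by decide

/-- an element of the group is determined by its values at seven points -/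
theorem det7 {g h : Equiv.Perm GolayPt} (hg : g ∈ M24) (hh : h ∈ M24)
    (e0 : g (ptN 0) = h (ptN 0)) (e1 : g (ptN 1) = h (ptN 1)) (e2 : g (ptN 2) = h (ptN 2))
    (e5 : g (ptN 5) = h (ptN 5)) (e6 : g (ptN 6) = h (ptN 6)) (e9 : g (ptN 9) = h (ptN 9))
    (e17 : g (ptN 17) = h (ptN 17)) : g = h := by
  have hmem : h⁻¹ * g ∈ stabM 131687 := by
    refine ⟨M24.mul_mem (M24.inv_mem hh) hg, ?_⟩
    intro j hj hbit
    rw [Equiv.Perm.mul_apply]
    rcases bits7 j hj hbit with rfl | rfl | rfl | rfl | rfl | rfl | rfl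
    · rw [e0, perm_inv_apply]
    · rw [e1, perm_inv_apply]
    · rw [e2, perm_inv_apply]
    · rw [e5, perm_inv_apply]
    · rw [e6, perm_inv_apply]
    · rw [e9, perm_inv_apply]
    · rw [e17, perm_inv_apply]
  rw [stab7, Subgroup.mem_bot] at hmem
  exact (inv_mul_eq_one.mp hmem).symm

/-- every pair of admissible images of the points 1 and 17 is realized by a table -/
def enumChk (E : List Tb) : Bool :=
  (List.range 24).all fun z => (List.range 24).all fun w =>
    !((13499802 : ℕ).testBit z && (3276800 : ℕ).testBit w) ||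
      (List.range 48).any fun i =>
        (ap (E.getD i ([], [])) 0 == 0) && (ap (E.getD i ([], [])) 2 == 2) &&
        (ap (E.getD i ([], [])) 5 == 5) && (ap (E.getD i ([], [])) 6 == 6) &&
        (ap (E.getD i ([], [])) 9 == 9) && (ap (E.getD i ([], [])) 1 == z) &&
        (ap (E.getD i ([], [])) 17 == w)

/-- the elements fixing the five base points are the 48 elements of the table -/
theorem enum48 (E : List Tb) (hok : ∀ i < 48, genOK (E.getD i ([], [])) = true)
    (hchk : enumChk E = true) (k : Equiv.Perm GolayPt) (hk : k ∈ stabM 613) :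
    ∃ i < 48, k = P (E.getD i ([], [])) := by
  have hz := lvl6.2.2.1 k hk
  have hw := lvl613.2.2.1 k hk
  unfold enumChk at hchk
  rw [List.all_eq_true] at hchk
  have h1 := hchk (idx (k (ptN 1))) (List.mem_range.mpr (idx_lt _))
  rw [List.all_eq_true] at h1
  have h2 := h1 (idx (k (ptN 17))) (List.mem_range.mpr (idx_lt _))
  rw [hz, hw] at h2
  simp only [Bool.and_self, Bool.not_true, Bool.false_or, List.any_eq_true, List.mem_range,
    Bool.and_eq_true, beq_iff_eq] at h2
  obtain ⟨i, hi, ⟨⟨⟨⟨⟨⟨h0, h2'⟩, h5⟩, h6⟩, h9⟩, hz'⟩, hw'⟩⟩ := h2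
  refine ⟨i, hi, ?_⟩
  have hg := hok i hi
  apply det7 hk.1 (P_mem hg)
  · rw [P_apply hg 0 (by norm_num), hk.2 0 (by norm_num) (by decide), h0]
  · rw [P_apply hg 1 (by norm_num), hz', ptN_idx]
  · rw [P_apply hg 2 (by norm_num), hk.2 2 (by norm_num) (by decide), h2']
  · rw [P_apply hg 5 (by norm_num), hk.2 5 (by norm_num) (by decide), h5]
  · rw [P_apply hg 6 (by norm_num), hk.2 6 (by norm_num) (by decide), h6]
  · rw [P_apply hg 9 (by norm_num), hk.2 9 (by norm_num) (by decide), h9]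
  · rw [P_apply hg 17 (by norm_num), hw', ptN_idx]

/-- an element with prescribed images of the five base points lies in a coset of 48 elements -/
theorem coset48 (E : List Tb) (hok : ∀ i < 48, genOK (E.getD i ([], [])) = true)
    (hchk : enumChk E = true) {g : Equiv.Perm GolayPt} (hg : g ∈ M24) (X : Tb)
    (hX : genOK X = true)
    (h0 : g (ptN 0) = ptN (ap X 0)) (h2 : g (ptN 2) = ptN (ap X 2))
    (h5 : g (ptN 5) = ptN (ap X 5)) (h6 : g (ptN 6) = ptN (ap X 6))
    (h9 : g (ptN 9) = ptN (ap X 9)) :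
    ∃ i < 48, g = P X * P (E.getD i ([], [])) := by
  have hmem : (P X)⁻¹ * g ∈ stabM 613 := by
    refine ⟨M24.mul_mem (M24.inv_mem (P_mem hX)) hg, ?_⟩
    intro j hj hbit
    rw [Equiv.Perm.mul_apply]
    rcases bits5 j hj hbit with rfl | rfl | rfl | rfl | rfl
    · rw [h0, ← P_apply hX 0 (by norm_num), perm_inv_apply]
    · rw [h2, ← P_apply hX 2 (by norm_num), perm_inv_apply]
    · rw [h5, ← P_apply hX 5 (by norm_num), perm_inv_apply]
    · rw [h6, ← P_apply hX 6 (by norm_num), perm_inv_apply]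
    · rw [h9, ← P_apply hX 9 (by norm_num), perm_inv_apply]
  obtain ⟨i, hi, he⟩ := enum48 E hok hchk _ hmem
  exact ⟨i, hi, by rw [← he, mul_inv_cancel_left]⟩

/-- the composite table -/
def cmp (X E : Tb) (j : ℕ) : ℕ := ap X (ap E j)

/-- the function is the identity on the indices -/
def idOn (f : ℕ → ℕ) : Bool := (List.range 24).all fun j => f j == j

/-- the table `C` conjugates the function `f` to the table `R` -/
def conjOK (C R : Tb) (f : ℕ → ℕ) : Bool :=
  (List.range 24).all fun j => ap C (f j) == ap R (ap C j)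

/-- class check: every element of order dividing `n` in the coset of `X` is conjugated to one
of the two representatives by the listed table -/
def clsChk (n : ℕ) (X : Tb) (E CT : List Tb) (RA RB : Tb) : Bool :=
  (List.range 48).all fun i =>
    !(idOn (fun j => (cmp X (E.getD i ([], [])))^[n] j) && !idOn (cmp X (E.getD i ([], [])))) ||
      (genOK (CT.getD i ([], [])) &&
        (conjOK (CT.getD i ([], [])) RA (cmp X (E.getD i ([], []))) ||
         conjOK (CT.getD i ([], [])) RB (cmp X (E.getD i ([], [])))))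

theorem cmp_lt {X E : Tb} (hX : genOK X = true) (hE : genOK E = true) (j : ℕ) (hj : j < 24) :
    cmp X E j < 24 := ap_lt hX _ (ap_lt hE j hj)

theorem P_mul_apply {X E : Tb} (hX : genOK X = true) (hE : genOK E = true) (j : ℕ)
    (hj : j < 24) : (P X * P E) (ptN j) = ptN (cmp X E j) := by
  rw [Equiv.Perm.mul_apply, P_apply hE j hj, P_apply hX _ (ap_lt hE j hj)]
  rfl

theorem pow_apply {X E : Tb} (hX : genOK X = true) (hE : genOK E = true) (n j : ℕ)
    (hj : j < 24) :
    ((P X * P E) ^ n) (ptN j) = ptN ((cmp X E)^[n] j) ∧ (cmp X E)^[n] j < 24 := by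
  induction n with
  | zero => exact ⟨rfl, hj⟩
  | succ n ih =>
    rw [pow_succ', Equiv.Perm.mul_apply, ih.1, P_mul_apply hX hE _ ih.2,
      Function.iterate_succ_apply']
    exact ⟨rfl, cmp_lt hX hE _ ih.2⟩

theorem conj_of {C R X E : Tb} (hC : genOK C = true) (hR : genOK R = true)
    (hX : genOK X = true) (hE : genOK E = true) (h : conjOK C R (cmp X E) = true) :
    P C * (P X * P E) * (P C)⁻¹ = P R := by
  rw [mul_inv_eq_iff_eq_mul]
  apply ext_pt
  intro j hj
  unfold conjOK at h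
  rw [List.all_eq_true] at h
  have := h j (List.mem_range.mpr hj)
  rw [beq_iff_eq] at this
  rw [Equiv.Perm.mul_apply, P_mul_apply hX hE j hj, P_apply hC _ (cmp_lt hX hE j hj),
    Equiv.Perm.mul_apply, P_apply hC j hj, P_apply hR _ (ap_lt hC j hj)]
  exact congrArg ptN this

theorem cls_sound {n : ℕ} {X : Tb} {E CT : List Tb} {RA RB : Tb}
    (hok : ∀ i < 48, genOK (E.getD i ([], [])) = true) (hen : enumChk E = true)
    (hX : genOK X = true) (hRA : genOK RA = true) (hRB : genOK RB = true)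
    (hchk : clsChk n X E CT RA RB = true)
    {g : Equiv.Perm GolayPt} (hg : g ∈ M24) (hn : g ^ n = 1) (h1 : g ≠ 1)
    (h0 : g (ptN 0) = ptN (ap X 0)) (h2 : g (ptN 2) = ptN (ap X 2))
    (h5 : g (ptN 5) = ptN (ap X 5)) (h6 : g (ptN 6) = ptN (ap X 6))
    (h9 : g (ptN 9) = ptN (ap X 9)) :
    ∃ C ∈ M24, C * g * C⁻¹ = P RA ∨ C * g * C⁻¹ = P RB := by
  obtain ⟨i, hi, rfl⟩ := coset48 E hok hen hg X hX h0 h2 h5 h6 h9
  have hE := hok i hi
  unfold clsChk at hchk
  rw [List.all_eq_true] at hchk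
  have hc := hchk i (List.mem_range.mpr hi)
  have hid : idOn (fun j => (cmp X (E.getD i ([], [])))^[n] j) = true := by
    unfold idOn
    rw [List.all_eq_true]
    intro j hj
    rw [List.mem_range] at hj
    rw [beq_iff_eq]
    have h := pow_apply hX hE n j hj
    rw [hn] at h
    exact ptN_inj h.2 hj h.1.symm
  have hnid : idOn (cmp X (E.getD i ([], []))) = false := by
    by_contra hcon
    rw [Bool.not_eq_false] at hcon
    apply h1
    apply ext_pt
    intro j hj
    unfold idOn at hcon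
    rw [List.all_eq_true] at hcon
    have := hcon j (List.mem_range.mpr hj)
    rw [beq_iff_eq] at this
    rw [P_mul_apply hX hE j hj, this]
    rfl
  rw [hid, hnid] at hc
  simp only [Bool.not_false, Bool.and_self, Bool.not_true, Bool.false_or, Bool.and_eq_true,
    Bool.or_eq_true] at hc
  obtain ⟨hC, hconj⟩ := hc
  refine ⟨P (CT.getD i ([], [])), P_mem hC, ?_⟩
  rcases hconj with h | h
  · left
    exact conj_of hC hRA hX hE h
  · right
    exact conj_of hC hRB hX hE h

theorem conj_wrap {t σ : Equiv.Perm GolayPt} (hσ : σ ∈ M24) {R R' : Equiv.Perm GolayPt}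
    (h : ∃ C ∈ M24, C * (σ * t * σ⁻¹) * C⁻¹ = R ∨ C * (σ * t * σ⁻¹) * C⁻¹ = R') :
    ∃ τ ∈ M24, τ * t * τ⁻¹ = R ∨ τ * t * τ⁻¹ = R' := by
  obtain ⟨C, hC, h⟩ := h
  refine ⟨C * σ, M24.mul_mem hC hσ, ?_⟩
  have e : C * σ * t * (C * σ)⁻¹ = C * (σ * t * σ⁻¹) * C⁻¹ := by group
  rw [e]
  exact h

/-- the fixed points -/
def Fx (g : Equiv.Perm GolayPt) : Finset GolayPt := Finset.univ.filter fun p => g p = p

theorem mem_Fx (g : Equiv.Perm GolayPt) (p : GolayPt) : p ∈ Fx g ↔ g p = p := by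
  unfold Fx
  rw [Finset.mem_filter]
  exact ⟨fun h => h.2, fun h => ⟨Finset.mem_univ _, h⟩⟩

theorem conj_apply {σ t : Equiv.Perm GolayPt} {p q : GolayPt} {j : ℕ} (hp : σ p = ptN j)
    (hq : t p = q) : (σ * t * σ⁻¹) (ptN j) = σ q := by
  rw [Equiv.Perm.mul_apply, Equiv.Perm.mul_apply, ← hp, perm_inv_apply, hq]

/-- a set of five points as a list -/
theorem exists_list5 (E : Finset GolayPt) (hE : E.card = 5) :
    ∃ a b c d e : GolayPt, [a, b, c, d, e].Nodup ∧ E = {a, b, c, d, e} := by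
  have h1 := E.nodup_toList
  have h2 := E.toList_toFinset
  have h3 : E.toList.length = 5 := by rw [Finset.length_toList]; exact hE
  generalize E.toList = l at h1 h2 h3
  rcases l with _ | ⟨a, _ | ⟨b, _ | ⟨c, _ | ⟨d, _ | ⟨e, _ | ⟨f, l'⟩⟩⟩⟩⟩⟩ <;>
    simp at h3
  refine ⟨a, b, c, d, e, h1, ?_⟩
  rw [← h2]
  ext x
  simp

/-- five fixed points can be moved to the five base points -/
theorem five_fixed (t : Equiv.Perm GolayPt) (h : 5 ≤ (Fx t).card) :
    ∃ σ ∈ M24, (σ * t * σ⁻¹) (ptN 0) = ptN 0 ∧ (σ * t * σ⁻¹) (ptN 2) = ptN 2 ∧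
      (σ * t * σ⁻¹) (ptN 5) = ptN 5 ∧ (σ * t * σ⁻¹) (ptN 6) = ptN 6 ∧
      (σ * t * σ⁻¹) (ptN 9) = ptN 9 := by
  obtain ⟨s, hs, hc⟩ := Finset.exists_subset_card_eq h
  obtain ⟨a, b, c, d, e, hnd, rfl⟩ := exists_list5 s hc
  have ha : t a = a := (mem_Fx t a).mp (hs (by simp))
  have hb : t b = b := (mem_Fx t b).mp (hs (by simp))
  have hc' : t c = c := (mem_Fx t c).mp (hs (by simp))
  have hd : t d = d := (mem_Fx t d).mp (hs (by simp))
  have he : t e = e := (mem_Fx t e).mp (hs (by simp))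
  simp only [List.nodup_cons, List.mem_cons, List.not_mem_nil, or_false, not_or,
    List.nodup_nil, and_true, not_false_eq_true] at hnd
  obtain ⟨⟨hab, hac, had, hae⟩, ⟨hbc, hbd, hbe⟩, ⟨hcd, hce⟩, hde⟩ := hnd
  obtain ⟨σ, hσ, e1, e2, e3, e4, e5⟩ := t5 a b c d e hab hac hbc had hbd hcd hae hbe hce hde
  refine ⟨σ, C3_le hσ, ?_, ?_, ?_, ?_, ?_⟩
  · rw [conj_apply e1 ha, e1]
  · rw [conj_apply e2 hb, e2]
  · rw [conj_apply e3 hc', e3]
  · rw [conj_apply e4 hd, e4]
  · rw [conj_apply e5 he, e5]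

/-- the number of points which are not fixed -/
theorem card_moved (t : Equiv.Perm GolayPt) :
    (Finset.univ.filter fun p => t p ≠ p).card = 24 - (Fx t).card := by
  have h := Finset.card_filter_add_card_filter_not (s := (Finset.univ : Finset GolayPt))
    (fun p => t p = p)
  rw [Finset.card_univ, card24] at h
  unfold Fx
  simp only [ne_eq]
  omega

/-- an involution with few fixed points has three transpositions in standard position -/
theorem three_swaps (t : Equiv.Perm GolayPt) (h2 : t ^ 2 = 1) (h : (Fx t).card < 5) :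
    ∃ σ ∈ M24, (σ * t * σ⁻¹) (ptN 0) = ptN 2 ∧ (σ * t * σ⁻¹) (ptN 2) = ptN 0 ∧
      (σ * t * σ⁻¹) (ptN 5) = ptN 6 ∧ (σ * t * σ⁻¹) (ptN 6) = ptN 5 ∧
      ((σ * t * σ⁻¹) (ptN 9) = ptN 17 ∨ (σ * t * σ⁻¹) (ptN 9) = ptN 1) := by
  have htt : ∀ y, t (t y) = y := fun y => by
    have := congrArg (fun f : Equiv.Perm GolayPt => f y) h2
    simpa [pow_two] using this
  have hmv := card_moved t
  obtain ⟨p, hp, -⟩ := Finset.exists_mem_notMem_of_card_lt_card
    (s := (∅ : Finset GolayPt)) (t := Finset.univ.filter fun p => t p ≠ p)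
    (by rw [Finset.card_empty]; omega)
  obtain ⟨q, hq, hqn⟩ := Finset.exists_mem_notMem_of_card_lt_card
    (s := ({p, t p} : Finset GolayPt)) (t := Finset.univ.filter fun p => t p ≠ p)
    (lt_of_le_of_lt (Finset.card_le_two) (by omega))
  obtain ⟨r, hr, hrn⟩ := Finset.exists_mem_notMem_of_card_lt_card
    (s := ({p, t p, q, t q} : Finset GolayPt)) (t := Finset.univ.filter fun p => t p ≠ p)
    (lt_of_le_of_lt (Finset.card_le_four) (by omega))
  rw [Finset.mem_filter] at hp hq hr
  have hp := hp.2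
  have hq := hq.2
  have hr := hr.2
  simp only [Finset.mem_insert, Finset.mem_singleton, not_or] at hqn hrn
  obtain ⟨hqp, hqtp⟩ := hqn
  obtain ⟨hrp, hrtp, hrq, hrtq⟩ := hrn
  have hnd : [p, t p, q, t q, r, t r].Nodup := by
    simp only [List.nodup_cons, List.mem_cons, List.not_mem_nil, or_false, not_or,
      List.nodup_nil, and_true, not_false_eq_true]
    refine ⟨⟨fun h => hp h.symm, fun h => hqp h.symm, ?_, fun h => hrp h.symm, ?_⟩,
      ⟨fun h => hqtp h.symm, fun h => hqp (t.injective h).symm, fun h => hrtp h.symm,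
        fun h => hrp (t.injective h).symm⟩,
      ⟨fun h => hq h.symm, fun h => hrq h.symm, ?_⟩,
      ⟨fun h => hrtq h.symm, fun h => hrq (t.injective h).symm⟩, fun h => hr h.symm⟩
    · intro h
      apply hqtp
      rw [h, htt]
    · intro h
      apply hrtp
      rw [h, htt]
    · intro h
      apply hrtq
      rw [h, htt]
  obtain ⟨σ, hσ, e1, e2, e3, e4, e5, hcase⟩ := six p (t p) q (t q) r (t r) hnd
  refine ⟨σ, C3_le hσ, ?_, ?_, ?_, ?_, ?_⟩
  · rw [conj_apply e1 rfl, e2]
  · rw [conj_apply e2 (htt p), e1]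
  · rw [conj_apply e3 rfl, e4]
  · rw [conj_apply e4 (htt q), e3]
  · rw [conj_apply e5 rfl]
    rcases hcase with ⟨-, h⟩ | ⟨-, h⟩
    · exact Or.inl h
    · exact Or.inr h

/-- an element of order three with few fixed points has two cycles in standard position -/
theorem two_cycles (x : Equiv.Perm GolayPt) (h3 : x ^ 3 = 1) (h : (Fx x).card < 5) :
    ∃ σ ∈ M24, (σ * x * σ⁻¹) (ptN 0) = ptN 2 ∧ (σ * x * σ⁻¹) (ptN 2) = ptN 5 ∧
      (σ * x * σ⁻¹) (ptN 5) = ptN 0 ∧ (σ * x * σ⁻¹) (ptN 6) = ptN 9 ∧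
      ((σ * x * σ⁻¹) (ptN 9) = ptN 17 ∨ (σ * x * σ⁻¹) (ptN 9) = ptN 1) := by
  have hxx : ∀ y, x (x (x y)) = y := fun y => by
    have := congrArg (fun f : Equiv.Perm GolayPt => f y) h3
    simpa [pow_succ] using this
  have hmv := card_moved x
  obtain ⟨p, hp, -⟩ := Finset.exists_mem_notMem_of_card_lt_card
    (s := (∅ : Finset GolayPt)) (t := Finset.univ.filter fun p => x p ≠ p)
    (by rw [Finset.card_empty]; omega)
  obtain ⟨q, hq, hqn⟩ := Finset.exists_mem_notMem_of_card_lt_card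
    (s := ({p, x p, x (x p)} : Finset GolayPt)) (t := Finset.univ.filter fun p => x p ≠ p)
    (lt_of_le_of_lt (Finset.card_le_three) (by omega))
  rw [Finset.mem_filter] at hp hq
  have hp := hp.2
  have hq := hq.2
  simp only [Finset.mem_insert, Finset.mem_singleton, not_or] at hqn
  obtain ⟨hqp, hqxp, hqxxp⟩ := hqn
  have key : ∀ y, x y ≠ y → y ≠ x (x y) := by
    intro y hy h
    apply hy
    have := congrArg x h
    rw [hxx] at this
    exact this
  have hnd : [p, x p, x (x p), q, x q, x (x q)].Nodup := by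
    simp only [List.nodup_cons, List.mem_cons, List.not_mem_nil, or_false, not_or,
      List.nodup_nil, and_true, not_false_eq_true]
    refine ⟨⟨fun h => hp h.symm, key p hp, fun h => hqp h.symm, ?_, ?_⟩,
      ⟨fun h => hp (x.injective h).symm, fun h => hqxp h.symm,
        fun h => hqp (x.injective h).symm, ?_⟩,
      ⟨fun h => hqxxp h.symm, fun h => hqxp (x.injective h).symm,
        fun h => hqp (x.injective (x.injective h)).symm⟩,
      ⟨fun h => hq h.symm, key q hq⟩, fun h => hq (x.injective h).symm⟩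
    · intro h
      apply hqxxp
      rw [h, hxx]
    · intro h
      apply hqxp
      rw [h, hxx]
    · intro h
      have h' := x.injective h
      apply hqxxp
      rw [h', hxx]
  obtain ⟨σ, hσ, e1, e2, e3, e4, e5, hcase⟩ := six p (x p) (x (x p)) q (x q) (x (x q)) hnd
  refine ⟨σ, C3_le hσ, ?_, ?_, ?_, ?_, ?_⟩
  · rw [conj_apply e1 rfl, e2]
  · rw [conj_apply e2 rfl, e3]
  · rw [conj_apply e3 (hxx p), e1]
  · rw [conj_apply e4 rfl, e5]
  · rw [conj_apply e5 rfl]
    rcases hcase with ⟨-, h⟩ | ⟨-, h⟩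
    · exact Or.inl h
    · exact Or.inr h

end Cfsg.Agent.Lib_lead_Cls
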