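import Mathlib
import Cfsg.Prelude.Def_SporadicCombinatorics
import Cfsg.Agent.Lib_lead_Cls

/-! Data for the conjugacy classes of elements of order 2 and 3 of the group of the binary
Golay code, and the resulting classification. -/

set_option autoImplicit false

namespace Cfsg.Agent.Lib_lead_ClsData

open Cfsg Cfsg.Agent.Lib_lead_Golay Cfsg.Agent.Lib_lead_GolayPerm Cfsg.Agent.Lib_lead_M24
  Cfsg.Agent.Lib_lead_M24Chain Cfsg.Agent.Lib_lead_Cls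
open scoped Pointwise

/-- the 48 elements fixing the five base points -/
def E48 : List Tb :=
  [([0, 1, 2, 3, 4, 5, 6, 7, 8, 9, 10, 11, 12, 13, 14, 15, 16, 17, 18, 19, 20, 21, 22, 23], [0, 1, 2, 3, 4, 5, 6, 7, 8, 9, 10, 11, 12, 13, 14, 15, 16, 17, 18, 19, 20, 21, 22, 23]),
   ([0, 1, 2, 11, 19, 5, 6, 10, 23, 9, 14, 22, 13, 15, 7, 12, 8, 20, 4, 18, 21, 17, 3, 16], [0, 1, 2, 22, 18, 5, 6, 14, 16, 9, 7, 3, 15, 12, 10, 13, 23, 21, 19, 4, 17, 20, 11, 8]),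
   ([0, 1, 2, 22, 18, 5, 6, 14, 16, 9, 7, 3, 15, 12, 10, 13, 23, 21, 19, 4, 17, 20, 11, 8], [0, 1, 2, 11, 19, 5, 6, 10, 23, 9, 14, 22, 13, 15, 7, 12, 8, 20, 4, 18, 21, 17, 3, 16]),
   ([0, 11, 2, 1, 8, 5, 6, 12, 13, 9, 18, 3, 23, 4, 16, 10, 19, 20, 15, 14, 21, 17, 22, 7], [0, 3, 2, 11, 13, 5, 6, 23, 4, 9, 15, 1, 7, 8, 19, 18, 14, 21, 10, 16, 17, 20, 22, 12]),
   ([0, 11, 2, 3, 14, 5, 6, 18, 7, 9, 16, 22, 4, 10, 12, 23, 13, 21, 8, 15, 17, 20, 1, 19], [0, 22, 2, 3, 12, 5, 6, 8, 18, 9, 13, 1, 14, 16, 4, 19, 10, 20, 7, 23, 21, 17, 11, 15]),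
   ([0, 11, 2, 22, 15, 5, 6, 16, 19, 9, 12, 1, 10, 23, 18, 4, 7, 17, 14, 8, 20, 21, 3, 13], [0, 11, 2, 22, 15, 5, 6, 16, 19, 9, 12, 1, 10, 23, 18, 4, 7, 17, 14, 8, 20, 21, 3, 13]),
   ([0, 14, 2, 13, 11, 5, 6, 1, 12, 9, 10, 23, 19, 16, 7, 22, 3, 21, 15, 8, 17, 20, 18, 4], [0, 7, 2, 16, 23, 5, 6, 14, 19, 9, 10, 4, 8, 3, 1, 18, 13, 20, 22, 12, 21, 17, 15, 11]),
   ([0, 14, 2, 23, 8, 5, 6, 10, 4, 9, 7, 18, 16, 22, 1, 19, 12, 17, 11, 15, 20, 21, 13, 3], [0, 14, 2, 23, 8, 5, 6, 10, 4, 9, 7, 18, 16, 22, 1, 19, 12, 17, 11, 15, 20, 21, 13, 3]),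
   ([0, 14, 2, 18, 15, 5, 6, 7, 3, 9, 1, 13, 22, 19, 10, 16, 4, 20, 8, 11, 21, 17, 23, 12], [0, 10, 2, 8, 16, 5, 6, 7, 18, 9, 14, 19, 23, 11, 1, 4, 15, 21, 3, 13, 17, 20, 12, 22]),
   ([0, 12, 2, 8, 23, 5, 6, 18, 3, 9, 11, 10, 1, 15, 16, 13, 14, 17, 7, 22, 20, 21, 19, 4], [0, 12, 2, 8, 23, 5, 6, 18, 3, 9, 11, 10, 1, 15, 16, 13, 14, 17, 7, 22, 20, 21, 19, 4]),
   ([0, 12, 2, 10, 22, 5, 6, 11, 4, 9, 16, 19, 15, 13, 18, 1, 3, 20, 23, 7, 21, 17, 8, 14], [0, 15, 2, 16, 8, 5, 6, 19, 22, 9, 3, 7, 1, 13, 23, 12, 10, 21, 14, 11, 17, 20, 4, 18]),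
   ([0, 12, 2, 19, 7, 5, 6, 16, 14, 9, 18, 8, 13, 1, 11, 15, 4, 21, 22, 23, 17, 20, 10, 3], [0, 13, 2, 23, 16, 5, 6, 4, 11, 9, 22, 14, 1, 12, 8, 15, 7, 20, 10, 3, 21, 17, 18, 19]),
   ([0, 10, 2, 12, 3, 5, 6, 1, 15, 9, 7, 8, 4, 23, 14, 11, 22, 20, 13, 16, 21, 17, 19, 18], [0, 7, 2, 4, 12, 5, 6, 10, 11, 9, 1, 15, 3, 18, 14, 8, 19, 21, 23, 22, 17, 20, 16, 13]),
   ([0, 10, 2, 8, 16, 5, 6, 7, 18, 9, 14, 19, 23, 11, 1, 4, 15, 21, 3, 13, 17, 20, 12, 22], [0, 14, 2, 18, 15, 5, 6, 7, 3, 9, 1, 13, 22, 19, 10, 16, 4, 20, 8, 11, 21, 17, 23, 12]),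
   ([0, 10, 2, 19, 13, 5, 6, 14, 22, 9, 1, 12, 11, 4, 7, 23, 18, 17, 16, 3, 20, 21, 8, 15], [0, 10, 2, 19, 13, 5, 6, 14, 22, 9, 1, 12, 11, 4, 7, 23, 18, 17, 16, 3, 20, 21, 8, 15]),
   ([0, 13, 2, 14, 3, 5, 6, 22, 19, 9, 8, 18, 12, 15, 4, 1, 11, 21, 16, 10, 17, 20, 23, 7], [0, 15, 2, 4, 14, 5, 6, 23, 10, 9, 19, 16, 12, 1, 3, 13, 18, 20, 11, 8, 21, 17, 7, 22]),
   ([0, 13, 2, 18, 10, 5, 6, 8, 7, 9, 4, 23, 15, 1, 22, 12, 19, 17, 3, 16, 20, 21, 14, 11], [0, 13, 2, 18, 10, 5, 6, 8, 7, 9, 4, 23, 15, 1, 22, 12, 19, 17, 3, 16, 20, 21, 14, 11]),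
   ([0, 13, 2, 23, 16, 5, 6, 4, 11, 9, 22, 14, 1, 12, 8, 15, 7, 20, 10, 3, 21, 17, 18, 19], [0, 12, 2, 19, 7, 5, 6, 16, 14, 9, 18, 8, 13, 1, 11, 15, 4, 21, 22, 23, 17, 20, 10, 3]),
   ([0, 8, 2, 19, 11, 5, 6, 22, 16, 9, 4, 10, 7, 18, 13, 3, 1, 20, 14, 15, 21, 17, 12, 23], [0, 16, 2, 15, 10, 5, 6, 12, 1, 9, 11, 4, 22, 14, 18, 19, 8, 21, 13, 3, 17, 20, 7, 23]),
   ([0, 8, 2, 10, 15, 5, 6, 4, 23, 9, 13, 12, 18, 3, 22, 7, 16, 21, 11, 14, 17, 20, 19, 1], [0, 23, 2, 13, 7, 5, 6, 15, 1, 9, 3, 18, 11, 10, 19, 4, 16, 20, 12, 22, 21, 17, 14, 8]),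
   ([0, 8, 2, 12, 14, 5, 6, 13, 1, 9, 22, 19, 3, 7, 4, 18, 23, 17, 15, 11, 20, 21, 10, 16], [0, 8, 2, 12, 14, 5, 6, 13, 1, 9, 22, 19, 3, 7, 4, 18, 23, 17, 15, 11, 20, 21, 10, 16]),
   ([0, 4, 2, 7, 19, 5, 6, 8, 3, 9, 22, 16, 11, 23, 13, 10, 12, 21, 18, 1, 17, 20, 15, 14], [0, 19, 2, 8, 1, 5, 6, 3, 7, 9, 15, 12, 16, 14, 23, 22, 11, 20, 18, 4, 21, 17, 10, 13]),
   ([0, 4, 2, 16, 1, 5, 6, 22, 14, 9, 13, 15, 23, 10, 8, 11, 3, 17, 19, 18, 20, 21, 7, 12], [0, 4, 2, 16, 1, 5, 6, 22, 14, 9, 13, 15, 23, 10, 8, 11, 3, 17, 19, 18, 20, 21, 7, 12]),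
   ([0, 4, 2, 15, 18, 5, 6, 13, 12, 9, 8, 7, 10, 11, 22, 23, 14, 20, 1, 19, 21, 17, 16, 3], [0, 18, 2, 23, 1, 5, 6, 11, 10, 9, 12, 13, 8, 7, 16, 3, 22, 21, 4, 19, 17, 20, 14, 15]),
   ([0, 7, 2, 15, 22, 5, 6, 1, 13, 9, 14, 16, 18, 8, 10, 3, 11, 17, 12, 23, 20, 21, 4, 19], [0, 7, 2, 15, 22, 5, 6, 1, 13, 9, 14, 16, 18, 8, 10, 3, 11, 17, 12, 23, 20, 21, 4, 19]),
   ([0, 7, 2, 16, 23, 5, 6, 14, 19, 9, 10, 4, 8, 3, 1, 18, 13, 20, 22, 12, 21, 17, 15, 11], [0, 14, 2, 13, 11, 5, 6, 1, 12, 9, 10, 23, 19, 16, 7, 22, 3, 21, 15, 8, 17, 20, 18, 4]),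
   ([0, 7, 2, 4, 12, 5, 6, 10, 11, 9, 1, 15, 3, 18, 14, 8, 19, 21, 23, 22, 17, 20, 16, 13], [0, 10, 2, 12, 3, 5, 6, 1, 15, 9, 7, 8, 4, 23, 14, 11, 22, 20, 13, 16, 21, 17, 19, 18]),
   ([0, 3, 2, 11, 13, 5, 6, 23, 4, 9, 15, 1, 7, 8, 19, 18, 14, 21, 10, 16, 17, 20, 22, 12], [0, 11, 2, 1, 8, 5, 6, 12, 13, 9, 18, 3, 23, 4, 16, 10, 19, 20, 15, 14, 21, 17, 22, 7]),
   ([0, 3, 2, 1, 16, 5, 6, 15, 12, 9, 19, 22, 8, 18, 23, 7, 4, 17, 13, 10, 20, 21, 11, 14], [0, 3, 2, 1, 16, 5, 6, 15, 12, 9, 19, 22, 8, 18, 23, 7, 4, 17, 13, 10, 20, 21, 11, 14]),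
   ([0, 3, 2, 22, 10, 5, 6, 19, 14, 9, 23, 11, 18, 7, 15, 8, 12, 20, 16, 13, 21, 17, 1, 4], [0, 22, 2, 1, 23, 5, 6, 13, 15, 9, 4, 11, 16, 19, 8, 14, 18, 21, 12, 7, 17, 20, 3, 10]),
   ([0, 23, 2, 14, 12, 5, 6, 19, 16, 9, 15, 13, 4, 11, 3, 10, 8, 17, 22, 7, 20, 21, 18, 1], [0, 23, 2, 14, 12, 5, 6, 19, 16, 9, 15, 13, 4, 11, 3, 10, 8, 17, 22, 7, 20, 21, 18, 1]),
   ([0, 23, 2, 13, 7, 5, 6, 15, 1, 9, 3, 18, 11, 10, 19, 4, 16, 20, 12, 22, 21, 17, 14, 8], [0, 8, 2, 10, 15, 5, 6, 4, 23, 9, 13, 12, 18, 3, 22, 7, 16, 21, 11, 14, 17, 20, 19, 1]),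
   ([0, 23, 2, 18, 22, 5, 6, 3, 8, 9, 19, 14, 10, 4, 15, 11, 1, 21, 7, 12, 17, 20, 13, 16], [0, 16, 2, 7, 13, 5, 6, 18, 8, 9, 12, 15, 19, 22, 11, 14, 23, 20, 3, 10, 21, 17, 4, 1]),
   ([0, 18, 2, 14, 4, 5, 6, 16, 22, 9, 11, 23, 3, 8, 12, 7, 15, 20, 19, 1, 21, 17, 13, 10], [0, 19, 2, 12, 4, 5, 6, 15, 13, 9, 23, 10, 14, 22, 3, 16, 7, 21, 1, 18, 17, 20, 8, 11]),
   ([0, 18, 2, 23, 1, 5, 6, 11, 10, 9, 12, 13, 8, 7, 16, 3, 22, 21, 4, 19, 17, 20, 14, 15], [0, 4, 2, 15, 18, 5, 6, 13, 12, 9, 8, 7, 10, 11, 22, 23, 14, 20, 1, 19, 21, 17, 16, 3]),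
   ([0, 18, 2, 13, 19, 5, 6, 12, 15, 9, 16, 14, 7, 3, 11, 8, 10, 17, 1, 4, 20, 21, 23, 22], [0, 18, 2, 13, 19, 5, 6, 12, 15, 9, 16, 14, 7, 3, 11, 8, 10, 17, 1, 4, 20, 21, 23, 22]),
   ([0, 16, 2, 4, 3, 5, 6, 11, 23, 9, 18, 7, 14, 19, 12, 22, 1, 17, 10, 13, 20, 21, 15, 8], [0, 16, 2, 4, 3, 5, 6, 11, 23, 9, 18, 7, 14, 19, 12, 22, 1, 17, 10, 13, 20, 21, 15, 8]),
   ([0, 16, 2, 7, 13, 5, 6, 18, 8, 9, 12, 15, 19, 22, 11, 14, 23, 20, 3, 10, 21, 17, 4, 1], [0, 23, 2, 18, 22, 5, 6, 3, 8, 9, 19, 14, 10, 4, 15, 11, 1, 21, 7, 12, 17, 20, 13, 16]),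
   ([0, 16, 2, 15, 10, 5, 6, 12, 1, 9, 11, 4, 22, 14, 18, 19, 8, 21, 13, 3, 17, 20, 7, 23], [0, 8, 2, 19, 11, 5, 6, 22, 16, 9, 4, 10, 7, 18, 13, 3, 1, 20, 14, 15, 21, 17, 12, 23]),
   ([0, 22, 2, 1, 23, 5, 6, 13, 15, 9, 4, 11, 16, 19, 8, 14, 18, 21, 12, 7, 17, 20, 3, 10], [0, 3, 2, 22, 10, 5, 6, 19, 14, 9, 23, 11, 18, 7, 15, 8, 12, 20, 16, 13, 21, 17, 1, 4]),
   ([0, 22, 2, 11, 7, 5, 6, 4, 10, 9, 8, 3, 19, 14, 13, 16, 15, 17, 23, 12, 20, 21, 1, 18], [0, 22, 2, 11, 7, 5, 6, 4, 10, 9, 8, 3, 19, 14, 13, 16, 15, 17, 23, 12, 20, 21, 1, 18]),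
   ([0, 22, 2, 3, 12, 5, 6, 8, 18, 9, 13, 1, 14, 16, 4, 19, 10, 20, 7, 23, 21, 17, 11, 15], [0, 11, 2, 3, 14, 5, 6, 18, 7, 9, 16, 22, 4, 10, 12, 23, 13, 21, 8, 15, 17, 20, 1, 19]),
   ([0, 19, 2, 12, 4, 5, 6, 15, 13, 9, 23, 10, 14, 22, 3, 16, 7, 21, 1, 18, 17, 20, 8, 11], [0, 18, 2, 14, 4, 5, 6, 16, 22, 9, 11, 23, 3, 8, 12, 7, 15, 20, 19, 1, 21, 17, 13, 10]),
   ([0, 19, 2, 10, 18, 5, 6, 23, 11, 9, 3, 8, 22, 16, 15, 14, 13, 17, 4, 1, 20, 21, 12, 7], [0, 19, 2, 10, 18, 5, 6, 23, 11, 9, 3, 8, 22, 16, 15, 14, 13, 17, 4, 1, 20, 21, 12, 7]),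
   ([0, 19, 2, 8, 1, 5, 6, 3, 7, 9, 15, 12, 16, 14, 23, 22, 11, 20, 18, 4, 21, 17, 10, 13], [0, 4, 2, 7, 19, 5, 6, 8, 3, 9, 22, 16, 11, 23, 13, 10, 12, 21, 18, 1, 17, 20, 15, 14]),
   ([0, 15, 2, 16, 8, 5, 6, 19, 22, 9, 3, 7, 1, 13, 23, 12, 10, 21, 14, 11, 17, 20, 4, 18], [0, 12, 2, 10, 22, 5, 6, 11, 4, 9, 16, 19, 15, 13, 18, 1, 3, 20, 23, 7, 21, 17, 8, 14]),
   ([0, 15, 2, 7, 11, 5, 6, 3, 18, 9, 23, 4, 13, 12, 19, 1, 22, 17, 8, 14, 20, 21, 16, 10], [0, 15, 2, 7, 11, 5, 6, 3, 18, 9, 23, 4, 13, 12, 19, 1, 22, 17, 8, 14, 20, 21, 16, 10]),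
   ([0, 15, 2, 4, 14, 5, 6, 23, 10, 9, 19, 16, 12, 1, 3, 13, 18, 20, 11, 8, 21, 17, 7, 22], [0, 13, 2, 14, 3, 5, 6, 22, 19, 9, 8, 18, 12, 15, 4, 1, 11, 21, 16, 10, 17, 20, 23, 7])]

theorem E48_ok : ∀ i < 48, genOK (E48.getD i ([], [])) = true := by decide +kernel

theorem E48_enum : enumChk E48 = true := by decide +kernel

/-- the identity table -/
def idT : Tb := ([0, 1, 2, 3, 4, 5, 6, 7, 8, 9, 10, 11, 12, 13, 14, 15, 16, 17, 18, 19, 20, 21, 22, 23], [0, 1, 2, 3, 4, 5, 6, 7, 8, 9, 10, 11, 12, 13, 14, 15, 16, 17, 18, 19, 20, 21, 22, 23])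

/-- an involution with eight fixed points -/
def zA : Tb := ([0, 11, 2, 22, 15, 5, 6, 16, 19, 9, 12, 1, 10, 23, 18, 4, 7, 17, 14, 8, 20, 21, 3, 13], [0, 11, 2, 22, 15, 5, 6, 16, 19, 9, 12, 1, 10, 23, 18, 4, 7, 17, 14, 8, 20, 21, 3, 13])

/-- an involution without fixed points -/
def zB : Tb := ([4, 16, 7, 9, 0, 8, 10, 2, 5, 3, 6, 21, 15, 19, 22, 12, 1, 23, 20, 13, 18, 11, 14, 17], [4, 16, 7, 9, 0, 8, 10, 2, 5, 3, 6, 21, 15, 19, 22, 12, 1, 23, 20, 13, 18, 11, 14, 17])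

/-- an element of order three with six fixed points -/
def yA : Tb := ([0, 1, 2, 11, 19, 5, 6, 10, 23, 9, 14, 22, 13, 15, 7, 12, 8, 20, 4, 18, 21, 17, 3, 16], [0, 1, 2, 22, 18, 5, 6, 14, 16, 9, 7, 3, 15, 12, 10, 13, 23, 21, 19, 4, 17, 20, 11, 8])

/-- an element of order three without fixed points -/
def yB : Tb := ([7, 10, 5, 15, 8, 17, 13, 14, 11, 3, 18, 4, 21, 22, 0, 9, 23, 2, 1, 16, 12, 20, 6, 19], [14, 18, 17, 9, 11, 2, 22, 0, 4, 15, 1, 8, 20, 6, 7, 3, 19, 5, 10, 23, 21, 12, 13, 16])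

theorem idT_ok : genOK idT = true := by decide +kernel
theorem zA_ok : genOK zA = true := by decide +kernel
theorem zB_ok : genOK zB = true := by decide +kernel
theorem yA_ok : genOK yA = true := by decide +kernel
theorem yB_ok : genOK yB = true := by decide +kernel

/-- conjugating elements -/
def CT_inv1 : List Tb :=
  [([], []),
   ([], []),
   ([], []),
   ([], []),
   ([], []),
   ([0, 1, 2, 3, 4, 5, 6, 7, 8, 9, 10, 11, 12, 13, 14, 15, 16, 17, 18, 19, 20, 21, 22, 23], [0, 1, 2, 3, 4, 5, 6, 7, 8, 9, 10, 11, 12, 13, 14, 15, 16, 17, 18, 19, 20, 21, 22, 23]),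
   ([], []),
   ([5, 7, 9, 8, 22, 0, 20, 1, 3, 2, 11, 10, 18, 15, 16, 13, 14, 21, 12, 23, 6, 17, 4, 19], [5, 7, 9, 8, 22, 0, 20, 1, 3, 2, 11, 10, 18, 15, 16, 13, 14, 21, 12, 23, 6, 17, 4, 19]),
   ([], []),
   ([0, 10, 21, 14, 22, 2, 17, 19, 18, 5, 7, 16, 12, 13, 15, 23, 4, 6, 8, 1, 20, 9, 11, 3], [0, 19, 5, 23, 16, 9, 17, 10, 18, 21, 1, 22, 12, 13, 3, 14, 11, 6, 8, 7, 20, 2, 4, 15]),
   ([], []),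
   ([], []),
   ([], []),
   ([], []),
   ([6, 10, 5, 19, 11, 21, 17, 14, 7, 9, 12, 4, 15, 1, 18, 23, 22, 0, 3, 8, 20, 2, 16, 13], [17, 13, 21, 18, 11, 2, 0, 8, 19, 9, 1, 4, 10, 23, 7, 12, 22, 6, 14, 3, 20, 5, 16, 15]),
   ([], []),
   ([0, 18, 17, 4, 12, 2, 21, 11, 1, 9, 10, 13, 19, 14, 7, 8, 22, 20, 15, 3, 5, 6, 16, 23], [0, 8, 5, 19, 3, 20, 21, 14, 15, 9, 10, 7, 4, 11, 13, 18, 22, 2, 1, 12, 17, 6, 16, 23]),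
   ([], []),
   ([], []),
   ([], []),
   ([5, 16, 20, 19, 1, 21, 2, 22, 7, 9, 4, 12, 8, 3, 11, 14, 13, 6, 18, 10, 0, 17, 15, 23], [20, 4, 6, 13, 10, 0, 17, 8, 12, 9, 19, 14, 11, 16, 15, 22, 1, 21, 18, 3, 2, 5, 7, 23]),
   ([], []),
   ([0, 23, 5, 14, 13, 9, 6, 10, 7, 21, 22, 8, 15, 3, 16, 19, 18, 20, 1, 11, 17, 2, 12, 4], [0, 18, 21, 13, 23, 2, 6, 8, 11, 5, 7, 19, 22, 4, 3, 12, 14, 20, 16, 15, 17, 9, 10, 1]),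
   ([], []),
   ([0, 3, 20, 10, 1, 21, 17, 22, 15, 2, 16, 8, 14, 4, 7, 12, 19, 5, 18, 13, 6, 9, 11, 23], [0, 4, 9, 1, 13, 17, 20, 14, 11, 21, 3, 22, 15, 19, 12, 8, 10, 6, 18, 16, 2, 5, 7, 23]),
   ([], []),
   ([], []),
   ([], []),
   ([0, 23, 9, 13, 7, 6, 17, 10, 15, 20, 19, 22, 4, 1, 14, 12, 16, 2, 11, 8, 21, 5, 3, 18], [0, 13, 17, 22, 12, 21, 5, 4, 19, 2, 7, 18, 15, 3, 14, 8, 16, 6, 23, 10, 9, 20, 11, 1]),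
   ([], []),
   ([6, 10, 5, 22, 11, 17, 21, 16, 8, 20, 13, 4, 1, 15, 3, 23, 19, 0, 18, 7, 9, 2, 14, 12], [17, 12, 21, 14, 11, 2, 0, 19, 8, 20, 1, 4, 23, 10, 22, 13, 7, 5, 18, 16, 9, 6, 3, 15]),
   ([], []),
   ([], []),
   ([], []),
   ([], []),
   ([2, 23, 0, 19, 10, 21, 9, 22, 15, 17, 18, 11, 3, 8, 1, 4, 14, 6, 13, 12, 20, 5, 16, 7], [2, 14, 0, 12, 15, 21, 17, 23, 13, 6, 4, 11, 19, 18, 16, 8, 22, 9, 10, 3, 20, 5, 7, 1]),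
   ([0, 18, 17, 12, 10, 5, 2, 4, 16, 9, 19, 15, 11, 13, 1, 22, 14, 21, 8, 23, 6, 20, 3, 7], [0, 14, 6, 22, 7, 5, 20, 23, 18, 9, 4, 12, 3, 13, 16, 11, 8, 2, 1, 10, 21, 17, 15, 19]),
   ([], []),
   ([], []),
   ([], []),
   ([0, 19, 5, 16, 4, 2, 21, 15, 23, 9, 13, 7, 11, 3, 22, 12, 10, 6, 18, 1, 17, 20, 8, 14], [0, 19, 5, 13, 4, 2, 17, 11, 22, 9, 16, 12, 15, 10, 23, 7, 3, 20, 18, 1, 21, 6, 14, 8]),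
   ([], []),
   ([], []),
   ([2, 19, 0, 1, 10, 6, 5, 13, 15, 9, 11, 4, 14, 22, 7, 16, 3, 21, 12, 8, 17, 20, 18, 23], [2, 3, 0, 16, 11, 6, 5, 14, 19, 9, 4, 10, 18, 7, 12, 8, 15, 20, 22, 1, 21, 17, 13, 23]),
   ([], []),
   ([], []),
   ([5, 14, 0, 8, 4, 21, 9, 19, 16, 2, 10, 15, 3, 22, 23, 18, 1, 6, 7, 13, 20, 17, 11, 12], [2, 16, 9, 12, 4, 0, 17, 18, 3, 6, 10, 22, 23, 19, 1, 11, 8, 21, 15, 7, 20, 5, 13, 14]),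
   ([], [])]

theorem chk_inv1 : clsChk 2 idT E48 CT_inv1 zA zB = true := by decide +kernel

/-- coset representative -/
def X_inv17 : Tb := ([2, 11, 0, 13, 7, 6, 5, 15, 1, 17, 3, 18, 23, 4, 16, 10, 19, 21, 12, 14, 20, 9, 22, 8], [2, 8, 0, 10, 13, 6, 5, 4, 23, 21, 15, 1, 18, 3, 19, 7, 14, 9, 11, 16, 20, 17, 22, 12])

theorem X_inv17_ok : genOK X_inv17 = true := by decide +kernel

/-- conjugating elements -/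
def CT_inv17 : List Tb :=
  [([], []),
   ([], []),
   ([], []),
   ([], []),
   ([5, 16, 8, 15, 20, 22, 14, 6, 3, 19, 0, 17, 10, 12, 2, 9, 18, 13, 1, 4, 21, 11, 23, 7], [10, 18, 14, 8, 19, 0, 7, 23, 2, 15, 12, 21, 13, 17, 6, 3, 1, 11, 16, 9, 4, 20, 5, 22]),
   ([], []),
   ([], []),
   ([], []),
   ([], []),
   ([], []),
   ([], []),
   ([], []),
   ([], []),
   ([13, 9, 19, 3, 18, 2, 7, 8, 21, 17, 0, 16, 11, 6, 1, 5, 4, 23, 10, 20, 14, 22, 15, 12], [10, 14, 5, 3, 16, 15, 13, 6, 7, 1, 18, 12, 23, 0, 20, 22, 11, 9, 4, 2, 19, 8, 21, 17]),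
   ([], []),
   ([], []),
   ([], []),
   ([], []),
   ([], []),
   ([7, 6, 16, 17, 8, 14, 18, 2, 9, 4, 19, 3, 20, 0, 10, 21, 1, 15, 5, 11, 13, 23, 12, 22], [13, 16, 7, 11, 9, 18, 1, 0, 4, 8, 14, 19, 22, 20, 5, 17, 2, 3, 6, 10, 12, 15, 23, 21]),
   ([], []),
   ([4, 10, 0, 21, 17, 1, 16, 6, 3, 20, 7, 19, 8, 9, 23, 11, 22, 18, 5, 13, 15, 12, 2, 14], [2, 5, 22, 8, 0, 18, 7, 10, 12, 13, 1, 15, 21, 19, 23, 20, 6, 4, 17, 11, 9, 3, 16, 14]),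
   ([], []),
   ([], []),
   ([], []),
   ([], []),
   ([0, 3, 4, 2, 1, 18, 20, 7, 23, 22, 12, 15, 10, 6, 11, 9, 21, 14, 17, 8, 19, 13, 5, 16], [0, 4, 3, 1, 2, 22, 13, 7, 19, 15, 12, 14, 10, 21, 17, 11, 23, 18, 5, 20, 6, 16, 9, 8]),
   ([22, 16, 3, 23, 17, 14, 18, 1, 11, 4, 6, 20, 19, 7, 9, 8, 0, 15, 13, 5, 10, 12, 21, 2], [16, 7, 23, 2, 9, 19, 10, 13, 15, 14, 20, 8, 21, 18, 5, 17, 1, 4, 6, 12, 11, 22, 0, 3]),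
   ([], []),
   ([], []),
   ([], []),
   ([], []),
   ([14, 7, 22, 12, 8, 10, 6, 23, 2, 13, 11, 18, 15, 17, 21, 16, 20, 19, 1, 4, 9, 3, 5, 0], [23, 18, 8, 21, 19, 22, 6, 1, 4, 20, 5, 10, 3, 9, 0, 12, 15, 13, 11, 17, 16, 14, 2, 7]),
   ([], []),
   ([23, 4, 17, 15, 10, 2, 7, 16, 12, 19, 3, 6, 0, 20, 5, 18, 21, 13, 1, 8, 14, 22, 11, 9], [12, 18, 5, 10, 1, 14, 11, 6, 19, 23, 4, 22, 8, 17, 20, 3, 7, 2, 15, 9, 13, 16, 21, 0]),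
   ([], []),
   ([], []),
   ([], []),
   ([], []),
   ([], []),
   ([], []),
   ([], []),
   ([], []),
   ([], []),
   ([], []),
   ([], []),
   ([], []),
   ([], [])]

theorem chk_inv17 : clsChk 2 X_inv17 E48 CT_inv17 zA zB = true := by decide +kernel

/-- coset representative -/
def X_inv01 : Tb := ([2, 16, 0, 20, 18, 6, 5, 9, 21, 1, 8, 7, 22, 14, 23, 19, 4, 12, 17, 10, 15, 13, 11, 3], [2, 9, 0, 23, 16, 6, 5, 11, 10, 7, 19, 22, 17, 21, 13, 20, 1, 18, 4, 15, 3, 8, 12, 14])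

theorem X_inv01_ok : genOK X_inv01 = true := by decide +kernel

/-- conjugating elements -/
def CT_inv01 : List Tb :=
  [([], []),
   ([], []),
   ([], []),
   ([], []),
   ([], []),
   ([], []),
   ([], []),
   ([], []),
   ([], []),
   ([], []),
   ([], []),
   ([], []),
   ([], []),
   ([], []),
   ([], []),
   ([], []),
   ([], []),
   ([], []),
   ([], []),
   ([], []),
   ([], []),
   ([], []),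
   ([], []),
   ([], []),
   ([20, 7, 18, 11, 19, 22, 14, 16, 15, 2, 4, 13, 9, 10, 12, 23, 1, 3, 5, 21, 17, 6, 8, 0], [23, 16, 9, 17, 10, 18, 21, 1, 22, 12, 13, 3, 14, 11, 6, 8, 7, 20, 2, 4, 0, 19, 5, 15]),
   ([2, 11, 7, 0, 4, 6, 10, 22, 13, 21, 19, 18, 8, 1, 17, 15, 23, 12, 20, 3, 16, 5, 9, 14], [3, 13, 0, 19, 4, 21, 5, 2, 12, 22, 6, 1, 17, 8, 23, 15, 20, 14, 11, 10, 18, 9, 7, 16]),
   ([23, 12, 17, 10, 14, 3, 9, 7, 2, 15, 4, 19, 5, 16, 20, 21, 0, 1, 6, 13, 8, 11, 22, 18], [16, 17, 8, 5, 10, 12, 18, 7, 20, 6, 3, 21, 1, 19, 4, 9, 13, 2, 23, 11, 14, 15, 22, 0]),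
   ([], []),
   ([], []),
   ([], []),
   ([], []),
   ([], []),
   ([], []),
   ([], []),
   ([], []),
   ([], []),
   ([], []),
   ([], []),
   ([], []),
   ([], []),
   ([], []),
   ([], []),
   ([], []),
   ([], []),
   ([], []),
   ([], []),
   ([], []),
   ([], [])]

theorem chk_inv01 : clsChk 2 X_inv01 E48 CT_inv01 zA zB = true := by decide +kernel

/-- conjugating elements -/
def CT_ord1 : List Tb :=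
  [([], []),
   ([0, 1, 2, 3, 4, 5, 6, 7, 8, 9, 10, 11, 12, 13, 14, 15, 16, 17, 18, 19, 20, 21, 22, 23], [0, 1, 2, 3, 4, 5, 6, 7, 8, 9, 10, 11, 12, 13, 14, 15, 16, 17, 18, 19, 20, 21, 22, 23]),
   ([0, 9, 5, 4, 7, 6, 2, 11, 23, 1, 3, 18, 17, 21, 22, 20, 16, 13, 10, 14, 12, 15, 19, 8], [0, 9, 6, 10, 3, 2, 5, 4, 23, 1, 18, 7, 20, 17, 19, 21, 16, 12, 11, 22, 15, 13, 14, 8]),
   ([6, 20, 0, 17, 8, 1, 9, 12, 23, 2, 18, 21, 13, 16, 7, 19, 10, 3, 4, 14, 11, 22, 5, 15], [2, 5, 9, 17, 18, 22, 0, 14, 4, 6, 16, 20, 7, 12, 19, 23, 13, 3, 10, 15, 1, 11, 21, 8]),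
   ([0, 19, 2, 5, 23, 6, 9, 20, 17, 1, 13, 18, 8, 12, 16, 10, 15, 22, 21, 7, 11, 3, 4, 14], [0, 9, 2, 21, 22, 3, 5, 19, 12, 6, 15, 20, 13, 10, 23, 16, 14, 8, 11, 1, 7, 18, 17, 4]),
   ([], []),
   ([2, 19, 6, 20, 22, 0, 1, 4, 8, 5, 9, 3, 23, 21, 18, 7, 17, 15, 14, 16, 13, 12, 10, 11], [5, 6, 0, 11, 7, 9, 2, 15, 8, 10, 22, 23, 21, 20, 18, 17, 19, 16, 14, 1, 3, 13, 4, 12]),
   ([], []),
   ([2, 18, 6, 21, 16, 0, 5, 9, 20, 1, 19, 14, 3, 7, 4, 8, 23, 12, 17, 10, 13, 15, 11, 22], [5, 9, 0, 12, 14, 6, 2, 13, 15, 7, 19, 22, 17, 20, 11, 21, 4, 18, 1, 10, 8, 3, 23, 16]),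
   ([], []),
   ([6, 17, 5, 7, 11, 0, 2, 18, 3, 1, 10, 4, 20, 9, 16, 21, 14, 13, 8, 19, 15, 12, 22, 23], [5, 9, 6, 8, 11, 2, 0, 3, 18, 13, 10, 4, 21, 17, 16, 20, 14, 1, 7, 19, 12, 15, 22, 23]),
   ([0, 15, 2, 10, 11, 5, 1, 22, 21, 9, 16, 20, 12, 13, 17, 6, 3, 19, 8, 14, 4, 18, 23, 7], [0, 6, 2, 16, 20, 5, 15, 23, 18, 9, 3, 4, 12, 13, 19, 1, 10, 14, 21, 17, 11, 8, 7, 22]),
   ([1, 11, 5, 21, 20, 0, 6, 3, 4, 2, 22, 18, 17, 8, 9, 19, 10, 13, 16, 7, 15, 12, 14, 23], [5, 0, 9, 7, 8, 2, 6, 19, 13, 14, 16, 1, 21, 17, 22, 20, 18, 12, 11, 15, 4, 3, 10, 23]),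
   ([2, 17, 1, 18, 15, 9, 0, 5, 4, 6, 20, 10, 8, 7, 21, 13, 12, 22, 19, 14, 11, 3, 16, 23], [6, 2, 0, 21, 8, 7, 9, 13, 12, 5, 11, 20, 16, 15, 19, 4, 22, 1, 3, 18, 10, 14, 17, 23]),
   ([], []),
   ([5, 10, 9, 22, 11, 1, 6, 19, 21, 2, 20, 15, 0, 14, 3, 7, 13, 23, 12, 17, 8, 16, 18, 4], [12, 5, 9, 14, 23, 0, 6, 15, 20, 2, 1, 4, 18, 16, 13, 11, 21, 19, 22, 7, 10, 8, 3, 17]),
   ([], []),
   ([0, 17, 6, 19, 12, 9, 5, 15, 3, 1, 16, 11, 21, 20, 22, 2, 13, 7, 23, 4, 10, 14, 8, 18], [0, 9, 15, 8, 19, 6, 2, 17, 22, 5, 20, 11, 4, 16, 21, 7, 10, 1, 23, 3, 13, 12, 14, 18]),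
   ([0, 23, 5, 3, 21, 9, 2, 10, 16, 1, 20, 17, 7, 12, 15, 22, 8, 19, 13, 11, 18, 4, 14, 6], [0, 9, 6, 3, 21, 2, 23, 12, 16, 5, 7, 19, 13, 18, 22, 14, 8, 11, 20, 17, 10, 4, 15, 1]),
   ([6, 4, 0, 17, 22, 5, 1, 11, 19, 9, 20, 23, 16, 21, 15, 3, 2, 14, 8, 13, 10, 7, 12, 18], [2, 6, 16, 15, 1, 5, 0, 21, 18, 9, 20, 7, 22, 19, 17, 14, 12, 3, 23, 8, 10, 13, 4, 11]),
   ([], []),
   ([2, 20, 0, 15, 21, 6, 1, 12, 13, 9, 7, 23, 8, 4, 18, 14, 16, 11, 5, 17, 3, 22, 10, 19], [2, 6, 0, 20, 13, 18, 5, 10, 12, 9, 22, 17, 7, 8, 15, 3, 16, 19, 14, 23, 1, 4, 21, 11]),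
   ([], []),
   ([9, 18, 0, 16, 4, 1, 6, 13, 20, 5, 17, 12, 21, 15, 3, 8, 22, 7, 19, 2, 10, 14, 11, 23], [2, 5, 19, 14, 4, 9, 6, 17, 15, 0, 20, 22, 11, 7, 21, 13, 3, 10, 1, 18, 8, 12, 16, 23]),
   ([], []),
   ([5, 14, 2, 13, 21, 6, 9, 7, 19, 1, 0, 20, 4, 12, 10, 3, 15, 8, 11, 18, 23, 16, 22, 17], [10, 9, 2, 15, 12, 0, 5, 7, 17, 6, 14, 18, 13, 3, 1, 16, 21, 23, 19, 8, 11, 4, 22, 20]),
   ([0, 13, 9, 8, 23, 1, 6, 15, 18, 5, 12, 4, 16, 20, 2, 19, 3, 7, 21, 11, 14, 10, 22, 17], [0, 5, 14, 16, 11, 9, 6, 17, 3, 2, 21, 19, 10, 1, 20, 7, 12, 23, 8, 15, 13, 18, 22, 4]),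
   ([6, 16, 5, 8, 3, 0, 9, 13, 22, 1, 19, 23, 12, 11, 20, 18, 17, 10, 4, 21, 7, 14, 2, 15], [5, 9, 22, 4, 18, 2, 0, 20, 3, 6, 17, 13, 12, 7, 21, 23, 1, 16, 15, 10, 14, 19, 8, 11]),
   ([], []),
   ([6, 16, 1, 8, 10, 0, 5, 19, 11, 2, 14, 9, 21, 4, 22, 3, 20, 12, 17, 18, 13, 15, 23, 7], [5, 2, 9, 15, 13, 6, 0, 23, 3, 11, 4, 8, 17, 20, 10, 21, 1, 18, 19, 7, 16, 12, 14, 22]),
   ([], []),
   ([0, 23, 5, 19, 21, 1, 6, 17, 8, 9, 4, 3, 22, 18, 12, 20, 2, 10, 11, 13, 14, 7, 15, 16], [0, 5, 16, 11, 10, 2, 6, 21, 8, 9, 17, 18, 14, 19, 20, 22, 23, 7, 13, 3, 15, 4, 12, 1]),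
   ([1, 20, 0, 10, 8, 6, 9, 7, 5, 2, 18, 15, 19, 16, 12, 13, 17, 11, 14, 4, 3, 22, 23, 21], [2, 0, 9, 20, 19, 8, 5, 7, 4, 6, 3, 17, 14, 15, 18, 11, 13, 16, 10, 12, 1, 23, 21, 22]),
   ([0, 4, 5, 16, 9, 2, 6, 14, 22, 1, 20, 21, 23, 11, 8, 10, 7, 12, 19, 18, 13, 15, 3, 17], [0, 9, 5, 22, 1, 2, 6, 16, 14, 4, 15, 13, 17, 20, 7, 21, 3, 23, 19, 18, 10, 11, 8, 12]),
   ([6, 3, 1, 20, 22, 9, 5, 4, 15, 2, 12, 19, 13, 18, 14, 17, 7, 23, 11, 0, 8, 16, 10, 21], [19, 2, 9, 1, 7, 6, 0, 16, 20, 5, 22, 18, 10, 12, 14, 8, 21, 15, 13, 11, 3, 23, 4, 17]),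
   ([], []),
   ([], []),
   ([5, 22, 2, 12, 10, 6, 0, 13, 1, 9, 4, 23, 19, 14, 8, 16, 3, 20, 15, 18, 21, 17, 7, 11], [6, 8, 2, 16, 10, 0, 5, 22, 14, 9, 4, 23, 3, 7, 13, 18, 15, 21, 19, 12, 17, 20, 1, 11]),
   ([5, 22, 2, 10, 4, 1, 9, 12, 11, 6, 19, 18, 13, 20, 21, 14, 3, 8, 17, 7, 16, 23, 15, 0], [23, 5, 2, 16, 4, 0, 9, 19, 17, 6, 3, 8, 7, 12, 15, 22, 20, 18, 11, 10, 13, 14, 1, 21]),
   ([9, 14, 5, 10, 8, 2, 1, 12, 17, 0, 16, 6, 22, 13, 21, 20, 3, 19, 11, 15, 4, 18, 7, 23], [9, 6, 5, 16, 20, 2, 11, 22, 4, 0, 3, 18, 7, 13, 1, 19, 10, 8, 21, 17, 15, 14, 12, 23]),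
   ([], []),
   ([1, 11, 2, 6, 17, 5, 0, 13, 15, 9, 23, 3, 20, 16, 21, 7, 8, 18, 12, 10, 4, 19, 22, 14], [6, 0, 2, 11, 20, 5, 3, 15, 16, 9, 19, 1, 18, 7, 23, 8, 13, 4, 17, 21, 12, 14, 22, 10]),
   ([5, 23, 1, 3, 6, 9, 0, 12, 20, 2, 7, 14, 11, 21, 22, 13, 15, 4, 8, 16, 18, 19, 17, 10], [6, 2, 9, 3, 17, 0, 4, 10, 18, 5, 23, 12, 7, 15, 11, 16, 19, 22, 20, 21, 8, 13, 14, 1]),
   ([], []),
   ([0, 14, 9, 18, 10, 5, 2, 19, 4, 6, 16, 13, 15, 11, 22, 8, 12, 21, 1, 7, 17, 20, 23, 3], [0, 18, 6, 23, 8, 5, 9, 19, 15, 2, 4, 13, 16, 11, 1, 12, 10, 20, 3, 7, 21, 17, 14, 22]),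
   ([5, 19, 9, 23, 12, 1, 0, 11, 13, 6, 8, 3, 4, 2, 17, 18, 16, 7, 21, 22, 14, 10, 15, 20], [6, 5, 13, 11, 12, 0, 9, 17, 10, 2, 21, 7, 4, 8, 20, 22, 16, 14, 15, 1, 23, 18, 19, 3]),
   ([], []),
   ([2, 17, 0, 10, 14, 5, 6, 4, 11, 1, 22, 16, 9, 21, 7, 20, 8, 15, 23, 3, 12, 13, 18, 19], [2, 9, 0, 19, 7, 5, 6, 14, 16, 12, 3, 8, 20, 21, 4, 17, 11, 1, 22, 23, 15, 13, 10, 18])]

theorem chk_ord1 : clsChk 3 idT E48 CT_ord1 yA yB = true := by decide +kernel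

/-- coset representative -/
def X_ord17 : Tb := ([2, 7, 5, 14, 19, 0, 9, 8, 11, 17, 1, 18, 12, 23, 13, 22, 3, 21, 15, 10, 6, 20, 16, 4], [5, 10, 0, 16, 23, 2, 20, 1, 7, 6, 19, 8, 12, 14, 3, 18, 22, 9, 11, 4, 21, 17, 15, 13])

theorem X_ord17_ok : genOK X_ord17 = true := by decide +kernel

/-- conjugating elements -/
def CT_ord17 : List Tb :=
  [([], []),
   ([], []),
   ([], []),
   ([], []),
   ([], []),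
   ([], []),
   ([], []),
   ([], []),
   ([], []),
   ([], []),
   ([], []),
   ([], []),
   ([8, 9, 23, 7, 21, 16, 19, 1, 13, 18, 12, 2, 10, 20, 17, 3, 5, 4, 11, 14, 6, 0, 15, 22], [21, 7, 11, 15, 17, 16, 20, 3, 0, 1, 12, 18, 10, 8, 19, 22, 5, 14, 9, 6, 13, 4, 23, 2]),
   ([], []),
   ([], []),
   ([], []),
   ([], []),
   ([], []),
   ([], []),
   ([], []),
   ([], []),
   ([], []),
   ([], []),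
   ([], []),
   ([], []),
   ([22, 23, 3, 1, 2, 11, 15, 7, 16, 12, 8, 21, 20, 10, 14, 6, 19, 13, 4, 17, 9, 5, 0, 18], [22, 3, 4, 2, 18, 21, 15, 7, 10, 20, 13, 5, 9, 17, 14, 6, 8, 19, 23, 16, 12, 11, 0, 1]),
   ([], []),
   ([], []),
   ([], []),
   ([], []),
   ([], []),
   ([], []),
   ([], []),
   ([], []),
   ([], []),
   ([], []),
   ([], []),
   ([], []),
   ([], []),
   ([], []),
   ([], []),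
   ([], []),
   ([], []),
   ([], []),
   ([22, 4, 3, 10, 17, 11, 15, 20, 6, 12, 19, 14, 7, 1, 21, 16, 8, 13, 23, 2, 9, 5, 18, 0], [23, 13, 19, 2, 1, 21, 8, 12, 16, 20, 3, 5, 9, 17, 11, 6, 15, 4, 22, 10, 7, 14, 0, 18]),
   ([], []),
   ([], []),
   ([19, 14, 18, 12, 22, 4, 17, 11, 10, 20, 2, 15, 9, 3, 5, 23, 8, 21, 0, 13, 1, 6, 7, 16], [18, 20, 10, 13, 5, 14, 21, 22, 16, 12, 8, 7, 3, 19, 1, 11, 23, 6, 2, 0, 9, 17, 4, 15])]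

theorem chk_ord17 : clsChk 3 X_ord17 E48 CT_ord17 yA yB = true := by decide +kernel

/-- coset representative -/
def X_ord01 : Tb := ([2, 20, 5, 22, 16, 0, 9, 23, 12, 1, 10, 13, 17, 21, 15, 6, 8, 4, 7, 11, 19, 18, 14, 3], [5, 9, 0, 23, 17, 2, 15, 18, 16, 6, 10, 19, 8, 11, 22, 14, 4, 12, 21, 20, 1, 13, 3, 7])

theorem X_ord01_ok : genOK X_ord01 = true := by decide +kernel

/-- conjugating elements -/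
def CT_ord01 : List Tb :=
  [([], []),
   ([], []),
   ([], []),
   ([], []),
   ([], []),
   ([], []),
   ([], []),
   ([], []),
   ([], []),
   ([], []),
   ([], []),
   ([], []),
   ([], []),
   ([], []),
   ([], []),
   ([], []),
   ([], []),
   ([], []),
   ([], []),
   ([], []),
   ([], []),
   ([], []),
   ([], []),
   ([], []),
   ([], []),
   ([], []),
   ([], []),
   ([], []),
   ([], []),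
   ([], []),
   ([], []),
   ([], []),
   ([], []),
   ([], []),
   ([], []),
   ([], []),
   ([], []),
   ([], []),
   ([], []),
   ([], []),
   ([], []),
   ([], []),
   ([], []),
   ([], []),
   ([], []),
   ([14, 19, 0, 13, 5, 7, 16, 9, 22, 23, 12, 3, 17, 1, 6, 4, 20, 8, 11, 18, 2, 10, 21, 15], [2, 13, 20, 11, 15, 4, 14, 5, 17, 7, 21, 18, 10, 3, 0, 23, 6, 12, 19, 1, 16, 22, 8, 9]),
   ([18, 4, 1, 14, 20, 10, 8, 3, 9, 11, 7, 19, 5, 12, 23, 6, 16, 21, 2, 22, 13, 17, 15, 0], [23, 2, 18, 7, 1, 12, 15, 10, 6, 8, 5, 9, 13, 20, 3, 22, 16, 21, 0, 11, 4, 17, 19, 14]),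
   ([21, 11, 20, 18, 3, 12, 4, 10, 7, 8, 14, 0, 19, 22, 2, 15, 1, 16, 13, 23, 6, 9, 5, 17], [11, 16, 14, 4, 6, 22, 20, 8, 9, 21, 7, 1, 5, 18, 10, 15, 17, 23, 3, 12, 2, 0, 13, 19])]

theorem chk_ord01 : clsChk 3 X_ord01 E48 CT_ord01 yA yB = true := by decide +kernel


theorem conj_facts {σ t : Equiv.Perm GolayPt} (hσ : σ ∈ M24) (ht : t ∈ M24) {n : ℕ}
    (hn : t ^ n = 1) (h1 : t ≠ 1) :
    σ * t * σ⁻¹ ∈ M24 ∧ (σ * t * σ⁻¹) ^ n = 1 ∧ σ * t * σ⁻¹ ≠ 1 := by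
  refine ⟨M24.mul_mem (M24.mul_mem hσ ht) (M24.inv_mem hσ), ?_, ?_⟩
  · rw [conj_pow, hn, mul_one, mul_inv_cancel]
  · intro h
    exact h1 (conj_eq_one_iff.mp h)

/-- every involution is conjugate to one of the two representatives -/
theorem class2 (t : Equiv.Perm GolayPt) (ht : t ∈ M24) (h2 : t ^ 2 = 1) (h1 : t ≠ 1) :
    ∃ σ ∈ M24, σ * t * σ⁻¹ = P zA ∨ σ * t * σ⁻¹ = P zB := by
  by_cases h : 5 ≤ (Fx t).card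
  · obtain ⟨σ, hσ, e0, e2, e5, e6, e9⟩ := five_fixed t h
    apply conj_wrap hσ
    obtain ⟨hm, hn, hne⟩ := conj_facts hσ ht h2 h1
    exact cls_sound E48_ok E48_enum idT_ok zA_ok zB_ok chk_inv1 hm hn hne e0 e2 e5 e6 e9
  · obtain ⟨σ, hσ, e0, e2, e5, e6, e9⟩ := three_swaps t h2 (by omega)
    apply conj_wrap hσ
    obtain ⟨hm, hn, hne⟩ := conj_facts hσ ht h2 h1
    rcases e9 with e9 | e9
    · exact cls_sound E48_ok E48_enum X_inv17_ok zA_ok zB_ok chk_inv17 hm hn hne e0 e2 e5 e6 e9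
    · exact cls_sound E48_ok E48_enum X_inv01_ok zA_ok zB_ok chk_inv01 hm hn hne e0 e2 e5 e6 e9

/-- every element of order three is conjugate to one of the two representatives -/
theorem class3 (x : Equiv.Perm GolayPt) (hx : x ∈ M24) (h3 : x ^ 3 = 1) (h1 : x ≠ 1) :
    ∃ σ ∈ M24, σ * x * σ⁻¹ = P yA ∨ σ * x * σ⁻¹ = P yB := by
  by_cases h : 5 ≤ (Fx x).card
  · obtain ⟨σ, hσ, e0, e2, e5, e6, e9⟩ := five_fixed x h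
    apply conj_wrap hσ
    obtain ⟨hm, hn, hne⟩ := conj_facts hσ hx h3 h1
    exact cls_sound E48_ok E48_enum idT_ok yA_ok yB_ok chk_ord1 hm hn hne e0 e2 e5 e6 e9
  · obtain ⟨σ, hσ, e0, e2, e5, e6, e9⟩ := two_cycles x h3 (by omega)
    apply conj_wrap hσ
    obtain ⟨hm, hn, hne⟩ := conj_facts hσ hx h3 h1
    rcases e9 with e9 | e9
    · exact cls_sound E48_ok E48_enum X_ord17_ok yA_ok yB_ok chk_ord17 hm hn hne e0 e2 e5 e6 e9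
    · exact cls_sound E48_ok E48_enum X_ord01_ok yA_ok yB_ok chk_ord01 hm hn hne e0 e2 e5 e6 e9

end Cfsg.Agent.Lib_lead_ClsData
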