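import Mathlib
import Cfsg.Prelude.Def_SporadicCombinatorics
import Cfsg.Agent.Lib_lead_ClsData

/-! Consequences of the classification of the elements of order 2 and 3: fixed points,
commuting pairs, subgroups of order 3. -/

set_option autoImplicit false

namespace Cfsg.Agent.Lib_lead_Cls2

open Cfsg Cfsg.Agent.Lib_lead_Golay Cfsg.Agent.Lib_lead_GolayPerm Cfsg.Agent.Lib_lead_M24
  Cfsg.Agent.Lib_lead_M24Chain Cfsg.Agent.Lib_lead_M24ChainData Cfsg.Agent.Lib_lead_M24Sets2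
  Cfsg.Agent.Lib_lead_SixSet Cfsg.Agent.Lib_lead_M24Trans Cfsg.Agent.Lib_lead_Cls
  Cfsg.Agent.Lib_lead_ClsData
open scoped Pointwise

theorem Fx_conj (σ t : Equiv.Perm GolayPt) : Fx (σ * t * σ⁻¹) = σ • Fx t := by
  ext p
  rw [mem_Fx, Finset.mem_smul_finset]
  constructor
  · intro h
    refine ⟨σ⁻¹ p, ?_, ?_⟩
    · rw [mem_Fx]
      rw [Equiv.Perm.mul_apply, Equiv.Perm.mul_apply] at h
      have := congrArg (fun q => σ⁻¹ q) h
      simp only [perm_inv_apply] at this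
      exact this
    · rw [Equiv.Perm.smul_def, perm_apply_inv]
  · rintro ⟨y, hy, rfl⟩
    rw [mem_Fx] at hy
    rw [Equiv.Perm.smul_def, Equiv.Perm.mul_apply, Equiv.Perm.mul_apply, perm_inv_apply, hy]

theorem Fx_of_conj {σ t R : Equiv.Perm GolayPt} (h : σ * t * σ⁻¹ = R) : Fx t = σ⁻¹ • Fx R := by
  rw [← h, Fx_conj, inv_smul_smul]

theorem Fx_P {t : Tb} (h : genOK t = true) (m : ℕ)
    (hm : ∀ j < 24, (ap t j = j ↔ m.testBit j = true)) : Fx (P t) = fsOf m := by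
  ext p
  rw [mem_Fx, mem_fsOf, ← hm (idx p) (idx_lt p)]
  have h1 := P_apply h (idx p) (idx_lt p)
  rw [ptN_idx] at h1
  rw [h1]
  constructor
  · intro h2
    have := congrArg idx h2
    rwa [idx_ptN' _ (ap_lt h _ (idx_lt p))] at this
  · intro h2
    rw [h2, ptN_idx]

theorem P_pow {t : Tb} (h : genOK t = true) (n : ℕ) (hd : ∀ j < 24, (ap t)^[n] j = j) :
    P t ^ n = 1 := by
  have key : ∀ k j, j < 24 → (P t ^ k) (ptN j) = ptN ((ap t)^[k] j) ∧ (ap t)^[k] j < 24 := by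
    intro k
    induction k with
    | zero => exact fun j hj => ⟨rfl, hj⟩
    | succ k ih =>
      intro j hj
      rw [pow_succ', Equiv.Perm.mul_apply, (ih j hj).1, P_apply h _ (ih j hj).2,
        Function.iterate_succ_apply']
      exact ⟨rfl, ap_lt h _ (ih j hj).2⟩
  apply ext_pt
  intro j hj
  rw [(key n j hj).1, hd j hj]
  rfl

theorem P_ne_one {t : Tb} (h : genOK t = true) (j : ℕ) (hj : j < 24) (hne : ap t j ≠ j) :
    P t ≠ 1 := by
  intro h1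
  have := P_apply h j hj
  rw [h1] at this
  exact hne (ptN_inj (ap_lt h j hj) hj this.symm)

theorem P_fpf {t : Tb} (h : genOK t = true) (hd : ∀ j < 24, ap t j ≠ j) (p : GolayPt) :
    P t p ≠ p := by
  intro h1
  have h2 := P_apply h (idx p) (idx_lt p)
  rw [ptN_idx, h1] at h2
  have := congrArg idx h2
  rw [idx_ptN' _ (ap_lt h _ (idx_lt p))] at this
  exact hd _ (idx_lt p) this.symm

theorem fpf_iff (t : Equiv.Perm GolayPt) : (∀ p, t p ≠ p) ↔ Fx t = ∅ := by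
  rw [Finset.eq_empty_iff_forall_notMem]
  constructor
  · intro h p hp
    exact h p ((mem_Fx t p).mp hp)
  · intro h p hp
    exact h p ((mem_Fx t p).mpr hp)

theorem conj_same {g h σ τ R : Equiv.Perm GolayPt} (hσ : σ ∈ M24) (hτ : τ ∈ M24)
    (e1 : σ * g * σ⁻¹ = R) (e2 : τ * h * τ⁻¹ = R) : ∃ k ∈ M24, k * g * k⁻¹ = h := by
  refine ⟨τ⁻¹ * σ, M24.mul_mem (M24.inv_mem hτ) hσ, ?_⟩
  have : τ⁻¹ * σ * g * (τ⁻¹ * σ)⁻¹ = τ⁻¹ * (σ * g * σ⁻¹) * τ := by group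
  rw [this, e1, ← e2]
  group

/-! ### facts about the representatives -/

theorem zA_pow : P zA ^ 2 = 1 := P_pow zA_ok 2 (by decide)
theorem zB_pow : P zB ^ 2 = 1 := P_pow zB_ok 2 (by decide)
theorem yA_pow : P yA ^ 3 = 1 := P_pow yA_ok 3 (by decide)
theorem yB_pow : P yB ^ 3 = 1 := P_pow yB_ok 3 (by decide)
theorem zA_ne : P zA ≠ 1 := P_ne_one zA_ok 1 (by norm_num) (by decide)
theorem zB_ne : P zB ≠ 1 := P_ne_one zB_ok 1 (by norm_num) (by decide)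
theorem yA_ne : P yA ≠ 1 := P_ne_one yA_ok 3 (by norm_num) (by decide)
theorem yB_ne : P yB ≠ 1 := P_ne_one yB_ok 1 (by norm_num) (by decide)
theorem zA_fix : Fx (P zA) = fsOf 3277413 := Fx_P zA_ok _ (by decide)
theorem yA_fix : Fx (P yA) = fsOf 615 := Fx_P yA_ok _ (by decide)
theorem zB_fpf : ∀ p, P zB p ≠ p := P_fpf zB_ok (by decide)
theorem yB_fpf : ∀ p, P yB p ≠ p := P_fpf yB_ok (by decide)
theorem zB_fix : Fx (P zB) = ∅ := (fpf_iff _).mp zB_fpf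
theorem yB_fix : Fx (P yB) = ∅ := (fpf_iff _).mp yB_fpf
theorem zA_ord : orderOf (P zA) = 2 := orderOf_eq_prime zA_pow zA_ne
theorem zB_ord : orderOf (P zB) = 2 := orderOf_eq_prime zB_pow zB_ne
theorem yA_ord : orderOf (P yA) = 3 := orderOf_eq_prime yA_pow yA_ne
theorem yB_ord : orderOf (P yB) = 3 := orderOf_eq_prime yB_pow yB_ne

theorem of_order {g : Equiv.Perm GolayPt} {n : ℕ} (hn : orderOf g = n) (h1 : n ≠ 1) :
    g ^ n = 1 ∧ g ≠ 1 := by
  refine ⟨by rw [← hn]; exact pow_orderOf_eq_one g, ?_⟩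
  rintro rfl
  rw [orderOf_one] at hn
  exact h1 hn.symm

/-- the fixed points of an involution: an octad or nothing -/
theorem inv_fix (t : Equiv.Perm GolayPt) (ht : t ∈ M24) (h2 : t ^ 2 = 1) (h1 : t ≠ 1) :
    (∃ σ ∈ M24, σ * t * σ⁻¹ = P zA ∧ Fx t = σ⁻¹ • fsOf 3277413) ∨
    (∃ σ ∈ M24, σ * t * σ⁻¹ = P zB ∧ Fx t = ∅) := by
  obtain ⟨σ, hσ, h | h⟩ := class2 t ht h2 h1
  · left
    exact ⟨σ, hσ, h, by rw [Fx_of_conj h, zA_fix]⟩
  · right
    exact ⟨σ, hσ, h, by rw [Fx_of_conj h, zB_fix, Finset.smul_finset_empty]⟩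

/-- the fixed points of an element of order three: six points or nothing -/
theorem ord_fix (x : Equiv.Perm GolayPt) (hx : x ∈ M24) (h3 : x ^ 3 = 1) (h1 : x ≠ 1) :
    (∃ σ ∈ M24, σ * x * σ⁻¹ = P yA ∧ Fx x = σ⁻¹ • fsOf 615) ∨
    (∃ σ ∈ M24, σ * x * σ⁻¹ = P yB ∧ Fx x = ∅) := by
  obtain ⟨σ, hσ, h | h⟩ := class3 x hx h3 h1
  · left
    exact ⟨σ, hσ, h, by rw [Fx_of_conj h, yA_fix]⟩
  · right
    exact ⟨σ, hσ, h, by rw [Fx_of_conj h, yB_fix, Finset.smul_finset_empty]⟩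

theorem c615 : (fsOf 615).card = 6 := by
  rw [card_fsOf _ (by norm_num)]
  decide

theorem c3277413 : (fsOf 3277413).card = 8 := by
  rw [card_fsOf _ (by norm_num)]
  decide

end Cfsg.Agent.Lib_lead_Cls2
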