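import Mathlib
import Cfsg.Prelude.Def_SporadicCombinatorics
import Cfsg.Agent.Lib_lead_Cls2

/-! Subgroups of order three and commuting pairs of elements of order 2 and 3 in the group of
the binary Golay code. -/

set_option autoImplicit false

namespace Cfsg.Agent.Lib_lead_Cls3

open Cfsg Cfsg.Agent.Lib_lead_Golay Cfsg.Agent.Lib_lead_GolayPerm Cfsg.Agent.Lib_lead_M24
  Cfsg.Agent.Lib_lead_M24Chain Cfsg.Agent.Lib_lead_M24ChainData Cfsg.Agent.Lib_lead_M24Sets2
  Cfsg.Agent.Lib_lead_SixSet Cfsg.Agent.Lib_lead_M24Trans Cfsg.Agent.Lib_lead_Cls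
  Cfsg.Agent.Lib_lead_ClsData Cfsg.Agent.Lib_lead_Cls2
open scoped Pointwise

theorem conj_zpowers (G : Type) [Group G] (k x : G) :
    MulAut.conj k • Subgroup.zpowers x = Subgroup.zpowers (k * x * k⁻¹) := by
  ext y
  rw [Subgroup.mem_pointwise_smul_iff_inv_smul_mem, Subgroup.mem_zpowers_iff,
    Subgroup.mem_zpowers_iff]
  constructor
  · rintro ⟨n, hn⟩
    refine ⟨n, ?_⟩
    rw [conj_zpow, hn]
    simp [MulAut.smul_def]
    group
  · rintro ⟨n, rfl⟩
    refine ⟨n, ?_⟩
    simp [MulAut.smul_def, conj_zpow]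
    group

theorem ord3 (G : Type) [Group G] [Finite G] (X : Subgroup G) (h : Nat.card X = 3) :
    ∃ x ∈ X, x ≠ 1 ∧ x ^ 3 = 1 ∧ X = Subgroup.zpowers x := by
  have hne : X ≠ ⊥ := by
    intro hb
    rw [hb, Subgroup.card_bot] at h
    norm_num at h
  obtain ⟨⟨x, hx⟩, hx1⟩ := (Subgroup.ne_bot_iff_exists_ne_one).mp hne
  have hx1' : x ≠ 1 := fun h => hx1 (Subtype.ext h)
  have h3 : x ^ 3 = 1 := by
    have := pow_card_eq_one' (G := X) (x := ⟨x, hx⟩)
    rw [h] at this
    exact congrArg Subtype.val this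
  refine ⟨x, hx, hx1', h3, ?_⟩
  symm
  apply Subgroup.eq_of_le_of_card_ge
  · rw [Subgroup.zpowers_le]; exact hx
  · rw [Nat.card_zpowers, orderOf_eq_prime h3 hx1', h]

/-- the common fixed points of a cyclic group are those of its generator -/
theorem fix_zpowers (x : ↥M24) :
    {p : GolayPt | ∀ y ∈ Subgroup.zpowers x, ((y : ↥M24) : Equiv.Perm GolayPt) p = p}
      = ↑(Fx (x : Equiv.Perm GolayPt)) := by
  ext p
  rw [Set.mem_setOf_eq, Finset.mem_coe, mem_Fx]
  constructor
  · intro h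
    exact h x (Subgroup.mem_zpowers x)
  · intro h y hy
    obtain ⟨n, rfl⟩ := Subgroup.mem_zpowers_iff.mp hy
    rw [Subgroup.coe_zpow]
    exact Equiv.Perm.zpow_apply_eq_self_of_apply_eq_self h n

/-- a subgroup of order three is generated by an element of order three -/
theorem sub3 (X : Subgroup ↥M24) (h : Nat.card X = 3) :
    ∃ x : ↥M24, (x : Equiv.Perm GolayPt) ^ 3 = 1 ∧ (x : Equiv.Perm GolayPt) ≠ 1 ∧
      X = Subgroup.zpowers x := by
  haveI : Finite ↥M24 := Finite.of_injective (fun g : ↥M24 => (g : Equiv.Perm GolayPt))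
    Subtype.val_injective
  obtain ⟨x, -, hx1, hx3, rfl⟩ := ord3 ↥M24 X h
  refine ⟨x, ?_, ?_, rfl⟩
  · have := congrArg Subtype.val hx3
    simpa using this
  · intro h1
    exact hx1 (Subtype.ext h1)

theorem card_zp (x : ↥M24) (h3 : (x : Equiv.Perm GolayPt) ^ 3 = 1)
    (h1 : (x : Equiv.Perm GolayPt) ≠ 1) : Nat.card (Subgroup.zpowers x) = 3 := by
  rw [Nat.card_zpowers]
  apply orderOf_eq_prime
  · exact Subtype.ext (by simpa using h3)
  · intro h
    exact h1 (by rw [h]; rfl)

/-- conjugate generators give conjugate subgroups -/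
theorem conj_sub {x y : ↥M24} {k : Equiv.Perm GolayPt} (hk : k ∈ M24)
    (h : k * (x : Equiv.Perm GolayPt) * k⁻¹ = (y : Equiv.Perm GolayPt)) :
    ∃ k' : ↥M24, MulAut.conj k' • Subgroup.zpowers x = Subgroup.zpowers y := by
  refine ⟨⟨k, hk⟩, ?_⟩
  rw [conj_zpowers]
  congr 1
  exact Subtype.ext h

/-! ### commuting pairs -/

theorem idOn_pow {X E : Tb} (hX : genOK X = true) (hE : genOK E = true) {n : ℕ}
    (hn : (P X * P E) ^ n = 1) : idOn (fun j => (cmp X E)^[n] j) = true := by
  unfold idOn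
  rw [List.all_eq_true]
  intro j hj
  rw [List.mem_range] at hj
  rw [beq_iff_eq]
  have h := pow_apply hX hE n j hj
  rw [hn] at h
  exact ptN_inj h.2 hj h.1.symm

theorem idOn_ne {X E : Tb} (hX : genOK X = true) (hE : genOK E = true)
    (h1 : P X * P E ≠ 1) : idOn (cmp X E) = false := by
  by_contra hcon
  rw [Bool.not_eq_false] at hcon
  apply h1
  apply ext_pt
  intro j hj
  unfold idOn at hcon
  rw [List.all_eq_true] at hcon
  have := hcon j (List.mem_range.mpr hj)
  rw [beq_iff_eq] at this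
  rw [P_mul_apply hX hE j hj, this]
  rfl

/-- commuting check: whenever an element of order `n` of the first coset commutes with an
element of order `m` of the second coset, the second one has a fixed point -/
def commChk (n m : ℕ) (X Y : Tb) (E : List Tb) : Bool :=
  (List.range 48).all fun i => (List.range 48).all fun k =>
    !(idOn (fun j => (cmp X (E.getD i ([], [])))^[n] j) &&
      idOn (fun j => (cmp Y (E.getD k ([], [])))^[m] j) &&
      !idOn (cmp X (E.getD i ([], []))) && !idOn (cmp Y (E.getD k ([], []))) &&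
      (List.range 24).all (fun j =>
        cmp X (E.getD i ([], [])) (cmp Y (E.getD k ([], [])) j) ==
          cmp Y (E.getD k ([], [])) (cmp X (E.getD i ([], [])) j))) ||
    (List.range 24).any (fun j => cmp Y (E.getD k ([], [])) j == j)

theorem comm_sound {n m : ℕ} {X Y : Tb} {E : List Tb}
    (hok : ∀ i < 48, genOK (E.getD i ([], [])) = true) (hen : enumChk E = true)
    (hX : genOK X = true) (hY : genOK Y = true) (hchk : commChk n m X Y E = true)
    {g h : Equiv.Perm GolayPt} (hg : g ∈ M24) (hh : h ∈ M24) (hgn : g ^ n = 1)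
    (hhm : h ^ m = 1) (hg1 : g ≠ 1) (hh1 : h ≠ 1) (hcomm : g * h = h * g)
    (g0 : g (ptN 0) = ptN (ap X 0)) (g2 : g (ptN 2) = ptN (ap X 2))
    (g5 : g (ptN 5) = ptN (ap X 5)) (g6 : g (ptN 6) = ptN (ap X 6))
    (g9 : g (ptN 9) = ptN (ap X 9))
    (h0 : h (ptN 0) = ptN (ap Y 0)) (h2 : h (ptN 2) = ptN (ap Y 2))
    (h5 : h (ptN 5) = ptN (ap Y 5)) (h6 : h (ptN 6) = ptN (ap Y 6))
    (h9 : h (ptN 9) = ptN (ap Y 9)) :
    ∃ p, h p = p := by
  obtain ⟨i, hi, rfl⟩ := coset48 E hok hen hg X hX g0 g2 g5 g6 g9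
  obtain ⟨k, hk, rfl⟩ := coset48 E hok hen hh Y hY h0 h2 h5 h6 h9
  have hEi := hok i hi
  have hEk := hok k hk
  unfold commChk at hchk
  rw [List.all_eq_true] at hchk
  have hc := hchk i (List.mem_range.mpr hi)
  rw [List.all_eq_true] at hc
  have hc := hc k (List.mem_range.mpr hk)
  have hcm : (List.range 24).all (fun j =>
        cmp X (E.getD i ([], [])) (cmp Y (E.getD k ([], [])) j) ==
          cmp Y (E.getD k ([], [])) (cmp X (E.getD i ([], [])) j)) = true := by
    rw [List.all_eq_true]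
    intro j hj
    rw [List.mem_range] at hj
    rw [beq_iff_eq]
    have e := congrArg (fun f : Equiv.Perm GolayPt => f (ptN j)) hcomm
    simp only [Equiv.Perm.mul_apply] at e
    have e1 := P_mul_apply hY hEk j hj
    have e2 := P_mul_apply hX hEi j hj
    simp only [Equiv.Perm.mul_apply] at e1 e2
    rw [e1, e2] at e
    have e3 := P_mul_apply hX hEi _ (cmp_lt hY hEk j hj)
    have e4 := P_mul_apply hY hEk _ (cmp_lt hX hEi j hj)
    simp only [Equiv.Perm.mul_apply] at e3 e4
    rw [e3, e4] at e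
    exact ptN_inj (cmp_lt hX hEi _ (cmp_lt hY hEk j hj)) (cmp_lt hY hEk _ (cmp_lt hX hEi j hj)) e
  rw [idOn_pow hX hEi hgn, idOn_pow hY hEk hhm, idOn_ne hX hEi hg1, idOn_ne hY hEk hh1, hcm] at hc
  simp only [Bool.not_false, Bool.and_self, Bool.not_true, Bool.false_or, List.any_eq_true,
    List.mem_range, beq_iff_eq] at hc
  obtain ⟨j, hj, hfix⟩ := hc
  exact ⟨ptN j, by rw [P_mul_apply hY hEk j hj, hfix]⟩

theorem chk_3_2a : commChk 3 2 idT X_inv17 E48 = true := by decide +kernel
theorem chk_3_2b : commChk 3 2 idT X_inv01 E48 = true := by decide +kernel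
theorem chk_2_3a : commChk 2 3 idT X_ord17 E48 = true := by decide +kernel
theorem chk_2_3b : commChk 2 3 idT X_ord01 E48 = true := by decide +kernel

end Cfsg.Agent.Lib_lead_Cls3
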