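import Mathlib
import Cfsg.Prelude.Def_Sporadic_a
import Cfsg.Agent.Lib_lead_ObjOrb
import Cfsg.Agent.Lib_lead_ObjOrb3

/-! Orbit certificates for the action of the stabilizer of one family of sets of points on the
members of another family. -/

set_option autoImplicit false

namespace Cfsg.Agent.Lib_lead_ObjOrb4

open Cfsg Cfsg.Agent.Lib_lead_Golay Cfsg.Agent.Lib_lead_GolayPerm Cfsg.Agent.Lib_lead_M24
  Cfsg.Agent.Lib_lead_M24Chain Cfsg.Agent.Lib_lead_M24Orb Cfsg.Agent.Lib_lead_ObjOrb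
  Cfsg.Agent.Lib_lead_ObjOrb3
open scoped Pointwise

/-- an orbit certificate: `tab` lists, sorted by key, all members of `𝒳` as images of the roots
under words in generators of the stabilizer of the family `fin base` -/
structure CertM (𝒳 : Set Fam) (base : List ℕ) (gens : List (List ℕ × List ℕ))
    (roots : List (List ℕ)) (tab : List (ℕ × List ℕ)) (m : ℕ → ℕ) (e : ℕ) : Prop where
  hbase : (∀ x ∈ base, x < 2 ^ 24) ∧ base.Nodup
  hgen : ∀ g ∈ gens, genChkS base g = true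
  hroots : ∀ r ∈ roots, (∀ x ∈ r, x < 2 ^ 24) ∧ r.Nodup
  hmem : ∀ r ∈ roots, fin r ∈ 𝒳
  hcls : ∀ e ∈ tab, e.1 < roots.length
  hinc : incChk (tabKeys gens roots tab) 0 = true
  hinv : ∀ c < roots.length, ∀ c' < roots.length,
    invLE e base (roots.getD c []) = invLE e base (roots.getD c' []) →
      c = c'
  hsmul : ∀ g ∈ StabK (fin base), ∀ X ∈ 𝒳, g • X ∈ 𝒳
  hcard : 𝒳.ncard = tab.length
  hcount : ∀ c < roots.length, (tab.filter (fun e => e.1 == c)).length = m c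

namespace CertM

variable {𝒳 : Set Fam} {base : List ℕ} {gens : List (List ℕ × List ℕ)} {roots : List (List ℕ)}
  {tab : List (ℕ × List ℕ)} {m : ℕ → ℕ} {ex : ℕ}

theorem root_mem (roots : List (List ℕ)) (c : ℕ) (hc : c < roots.length) :
    roots.getD c [] ∈ roots := by
  rw [List.getD_eq_getElem _ _ hc]
  exact List.getElem_mem hc

theorem hg (C : CertM 𝒳 base gens roots tab m ex) : ∀ g ∈ gens,
    validTab g.1 g.2 = true ∧ permD g.1 g.2 ∈ StabK (fin base) :=
  fun g hgm => gen_of_chk _ C.hbase.1 g (C.hgen g hgm)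

theorem ent_sound (C : CertM 𝒳 base gens roots tab m ex) (e : ℕ × List ℕ) (he : e ∈ tab) :
    ∃ σ ∈ StabK (fin base), σ • fin (roots.getD e.1 []) = entObj gens roots e ∧
      Key (entObj gens roots e) = objKey gens e.2 (roots.getD e.1 []) 0 := by
  have hr := C.hroots _ (root_mem roots e.1 (C.hcls e he))
  obtain ⟨σ, hσ, h1, h2, h3⟩ :=
    objOf_sound (StabK (fin base)) gens C.hg (roots.getD e.1 []) hr.1 e.2
  refine ⟨σ, hσ, h1, ?_⟩
  unfold entObj
  rw [Key_fin h2 (h3 hr.2), objKey_eq, zero_add]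

theorem keys_nodup (C : CertM 𝒳 base gens roots tab m ex) : (tabKeys gens roots tab).Nodup :=
  List.nodup_iff_pairwise_ne.mpr
    ((incChk_sound _ _ C.hinc).2.imp (fun h => ne_of_lt h))

theorem tab_nodup (C : CertM 𝒳 base gens roots tab m ex) : tab.Nodup :=
  List.Nodup.of_map _ C.keys_nodup

theorem ent_inj (C : CertM 𝒳 base gens roots tab m ex) (e e' : ℕ × List ℕ) (he : e ∈ tab)
    (he' : e' ∈ tab) (h : entObj gens roots e = entObj gens roots e') : e = e' := by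
  obtain ⟨-, -, -, h1⟩ := C.ent_sound e he
  obtain ⟨-, -, -, h2⟩ := C.ent_sound e' he'
  rw [h, h2] at h1
  exact List.inj_on_of_nodup_map C.keys_nodup he he' h1.symm

theorem ent_mem (C : CertM 𝒳 base gens roots tab m ex) (e : ℕ × List ℕ) (he : e ∈ tab) :
    entObj gens roots e ∈ 𝒳 := by
  obtain ⟨σ, hσ, h1, -⟩ := C.ent_sound e he
  rw [← h1]
  exact C.hsmul σ hσ _ (C.hmem _ (root_mem roots e.1 (C.hcls e he)))

theorem complete (C : CertM 𝒳 base gens roots tab m ex) (X : Fam) (hX : X ∈ 𝒳) :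
    ∃ e ∈ tab, entObj gens roots e = X := by
  have hcardAll : ((tab.map (entObj gens roots)).toFinset).card = tab.length := by
    rw [List.toFinset_card_of_nodup
      (List.Nodup.map_on (fun x hx y hy h => C.ent_inj x y hx hy h) C.tab_nodup),
      List.length_map]
  have hsub : (↑((tab.map (entObj gens roots)).toFinset) : Set Fam) ⊆ 𝒳 := by
    intro Y hY
    rw [Finset.mem_coe, List.mem_toFinset, List.mem_map] at hY
    obtain ⟨e, he, rfl⟩ := hY
    exact C.ent_mem e he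
  have heq : (↑((tab.map (entObj gens roots)).toFinset) : Set Fam) = 𝒳 :=
    Set.eq_of_subset_of_ncard_le hsub
      (by rw [Set.ncard_coe_finset, hcardAll, C.hcard]) (Set.toFinite _)
  rw [← heq, Finset.mem_coe, List.mem_toFinset, List.mem_map] at hX
  exact hX

theorem cls_unique (C : CertM 𝒳 base gens roots tab m ex) (e : ℕ × List ℕ) (he : e ∈ tab) (c : ℕ)
    (hc : c < roots.length) (σ : Equiv.Perm GolayPt) (hσ : σ ∈ StabK (fin base))
    (h : σ • fin (roots.getD c []) = entObj gens roots e) : e.1 = c := by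
  obtain ⟨τ, hτ, hτe, -⟩ := C.ent_sound e he
  have h0 := C.hbase
  have h1 := C.hroots _ (root_mem roots c hc)
  have h2 := C.hroots _ (root_mem roots e.1 (C.hcls e he))
  apply C.hinv _ (C.hcls e he) _ hc
  rw [← InvE_fin ex h0.1 h0.2 h1.1 h1.2, ← InvE_fin ex h0.1 h0.2 h2.1 h2.2,
    ← InvE_smul ex σ _ (fin (roots.getD c [])) hσ.2,
    ← InvE_smul ex τ _ (fin (roots.getD e.1 [])) hτ.2, h, hτe]

theorem card_Cl (C : CertM 𝒳 base gens roots tab m ex) (c : ℕ) (hc : c < roots.length) :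
    (Cl gens roots tab c).card = m c := by
  unfold Cl
  rw [List.toFinset_card_of_nodup
    (List.Nodup.map_on (fun x hx y hy h =>
      C.ent_inj x y (List.mem_filter.mp hx).1 (List.mem_filter.mp hy).1 h)
      (C.tab_nodup.filter _)),
    List.length_map, C.hcount c hc]

/-- the orbits of the stabilizer of the base family are the classes -/
theorem orbit_base (C : CertM 𝒳 base gens roots tab m ex) (c : ℕ) (hc : c < roots.length) :
    MulAction.orbit ↥(MulAction.stabilizer ↥M24 (fin base)) (fin (roots.getD c []))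
      = ↑(Cl gens roots tab c) := by
  ext y
  constructor
  · rintro ⟨⟨⟨s, hsM⟩, hsS⟩, rfl⟩
    have hsS' : s • fin base = fin base := hsS
    have hy : s • fin (roots.getD c []) ∈ 𝒳 :=
      C.hsmul _ ⟨hsM, hsS'⟩ _ (C.hmem _ (root_mem roots c hc))
    obtain ⟨e, he, hee⟩ := C.complete _ hy
    have hcl := C.cls_unique e he c hc s ⟨hsM, hsS'⟩ hee.symm
    show s • fin (roots.getD c []) ∈ _
    rw [Finset.mem_coe, mem_Cl]
    exact ⟨e, he, hcl, hee⟩
  · intro hy
    rw [Finset.mem_coe, mem_Cl] at hy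
    obtain ⟨e, he, hec, rfl⟩ := hy
    obtain ⟨σ, hσ, hσe, -⟩ := C.ent_sound e he
    rw [hec] at hσe
    exact ⟨⟨⟨σ, hσ.1⟩, hσ.2⟩, hσe⟩

theorem orbit_card (C : CertM 𝒳 base gens roots tab m ex) (g : ↥M24) (c : ℕ) (hc : c < roots.length) :
    (MulAction.orbit ↥(MulAction.stabilizer ↥M24 (g • fin base))
      (g • fin (roots.getD c []))).ncard = m c := by
  rw [orbit_conj, Set.ncard_image_of_injective _ (MulAction.injective g), C.orbit_base c hc,
    Set.ncard_coe_finset, C.card_Cl c hc]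

theorem cover (C : CertM 𝒳 base gens roots tab m ex) (g : ↥M24) (X : Fam) (h1 : g⁻¹ • X ∈ 𝒳) :
    ∃ c < roots.length, X ∈ MulAction.orbit
      ↥(MulAction.stabilizer ↥M24 (g • fin base)) (g • fin (roots.getD c [])) := by
  obtain ⟨e, he, hee⟩ := C.complete _ h1
  refine ⟨e.1, C.hcls e he, ?_⟩
  rw [orbit_conj, C.orbit_base _ (C.hcls e he)]
  refine ⟨g⁻¹ • X, ?_, smul_inv_smul g X⟩
  rw [Finset.mem_coe, mem_Cl]
  exact ⟨e, he, rfl, hee⟩

theorem orbit_subset {𝒳 : Set Fam} (hM : ∀ h ∈ M24, ∀ X ∈ 𝒳, h • X ∈ 𝒳) (a x : Fam)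
    (hx : x ∈ 𝒳) : MulAction.orbit ↥(MulAction.stabilizer ↥M24 a) x ⊆ 𝒳 := by
  rintro y ⟨⟨⟨s, hsM⟩, hsS⟩, rfl⟩
  exact hM s hsM x hx

theorem orbits3 (C : CertM 𝒳 base gens roots tab m ex) (hlen : roots.length = 3)
    (hM : ∀ h ∈ M24, ∀ X ∈ 𝒳, h • X ∈ 𝒳) (g : ↥M24) :
    ∃ X₁ ∈ 𝒳, ∃ X₂ ∈ 𝒳, ∃ X₃ ∈ 𝒳,
      (MulAction.orbit ↥(MulAction.stabilizer ↥M24 (g • fin base)) X₁).ncard = m 0 ∧
      (MulAction.orbit ↥(MulAction.stabilizer ↥M24 (g • fin base)) X₂).ncard = m 1 ∧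
      (MulAction.orbit ↥(MulAction.stabilizer ↥M24 (g • fin base)) X₃).ncard = m 2 ∧
      𝒳 = MulAction.orbit ↥(MulAction.stabilizer ↥M24 (g • fin base)) X₁ ∪
        MulAction.orbit ↥(MulAction.stabilizer ↥M24 (g • fin base)) X₂ ∪
        MulAction.orbit ↥(MulAction.stabilizer ↥M24 (g • fin base)) X₃ := by
  have hm : ∀ c, c < roots.length → g • fin (roots.getD c []) ∈ 𝒳 :=
    fun c hc => hM g.1 g.2 _ (C.hmem _ (root_mem roots c hc))
  refine ⟨_, hm 0 (by omega), _, hm 1 (by omega), _, hm 2 (by omega),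
    C.orbit_card g 0 (by omega), C.orbit_card g 1 (by omega), C.orbit_card g 2 (by omega), ?_⟩
  ext X
  constructor
  · intro hX
    obtain ⟨c, hc, hXc⟩ := C.cover g X (hM _ (M24.inv_mem g.2) X hX)
    rw [hlen] at hc
    interval_cases c
    · exact Or.inl (Or.inl hXc)
    · exact Or.inl (Or.inr hXc)
    · exact Or.inr hXc
  · rintro ((h | h) | h)
    · exact orbit_subset hM _ _ (hm 0 (by omega)) h
    · exact orbit_subset hM _ _ (hm 1 (by omega)) h
    · exact orbit_subset hM _ _ (hm 2 (by omega)) h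

theorem orbits4 (C : CertM 𝒳 base gens roots tab m ex) (hlen : roots.length = 4)
    (hM : ∀ h ∈ M24, ∀ X ∈ 𝒳, h • X ∈ 𝒳) (g : ↥M24) :
    ∃ X₁ ∈ 𝒳, ∃ X₂ ∈ 𝒳, ∃ X₃ ∈ 𝒳, ∃ X₄ ∈ 𝒳,
      (MulAction.orbit ↥(MulAction.stabilizer ↥M24 (g • fin base)) X₁).ncard = m 0 ∧
      (MulAction.orbit ↥(MulAction.stabilizer ↥M24 (g • fin base)) X₂).ncard = m 1 ∧
      (MulAction.orbit ↥(MulAction.stabilizer ↥M24 (g • fin base)) X₃).ncard = m 2 ∧
      (MulAction.orbit ↥(MulAction.stabilizer ↥M24 (g • fin base)) X₄).ncard = m 3 ∧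
      𝒳 = MulAction.orbit ↥(MulAction.stabilizer ↥M24 (g • fin base)) X₁ ∪
        MulAction.orbit ↥(MulAction.stabilizer ↥M24 (g • fin base)) X₂ ∪
        MulAction.orbit ↥(MulAction.stabilizer ↥M24 (g • fin base)) X₃ ∪
        MulAction.orbit ↥(MulAction.stabilizer ↥M24 (g • fin base)) X₄ := by
  have hm : ∀ c, c < roots.length → g • fin (roots.getD c []) ∈ 𝒳 :=
    fun c hc => hM g.1 g.2 _ (C.hmem _ (root_mem roots c hc))
  refine ⟨_, hm 0 (by omega), _, hm 1 (by omega), _, hm 2 (by omega), _, hm 3 (by omega),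
    C.orbit_card g 0 (by omega), C.orbit_card g 1 (by omega), C.orbit_card g 2 (by omega),
    C.orbit_card g 3 (by omega), ?_⟩
  ext X
  constructor
  · intro hX
    obtain ⟨c, hc, hXc⟩ := C.cover g X (hM _ (M24.inv_mem g.2) X hX)
    rw [hlen] at hc
    interval_cases c
    · exact Or.inl (Or.inl (Or.inl hXc))
    · exact Or.inl (Or.inl (Or.inr hXc))
    · exact Or.inl (Or.inr hXc)
    · exact Or.inr hXc
  · rintro (((h | h) | h) | h)
    · exact orbit_subset hM _ _ (hm 0 (by omega)) h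
    · exact orbit_subset hM _ _ (hm 1 (by omega)) h
    · exact orbit_subset hM _ _ (hm 2 (by omega)) h
    · exact orbit_subset hM _ _ (hm 3 (by omega)) h

end CertM

/-! ### Families of singletons -/

/-- the singletons of the members of a set of sets of points -/
def Sing (A : Set (Finset GolayPt)) : Set Fam := {X | ∃ o ∈ A, X = {o}}

theorem mem_Sing (A : Set (Finset GolayPt)) (o : Finset GolayPt) : ({o} : Fam) ∈ Sing A ↔ o ∈ A := by
  constructor
  · rintro ⟨o', h', he⟩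
    rw [Finset.singleton_inj] at he
    rw [he]
    exact h'
  · intro h
    exact ⟨o, h, rfl⟩

theorem Sing_smul {A : Set (Finset GolayPt)}
    (hA : ∀ h ∈ M24, ∀ o ∈ A, h • o ∈ A) : ∀ h ∈ M24, ∀ X ∈ Sing A, h • X ∈ Sing A := by
  rintro h hh X ⟨o, ho, rfl⟩
  exact ⟨h • o, hA h hh o ho, Finset.smul_finset_singleton o⟩

theorem ncard_Sing (A : Set (Finset GolayPt)) : (Sing A).ncard = A.ncard := by
  have : Sing A = (fun o => ({o} : Fam)) '' A := by
    ext X
    constructor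
    · rintro ⟨o, ho, rfl⟩
      exact ⟨o, ho, rfl⟩
    · rintro ⟨o, ho, rfl⟩
      exact ⟨o, ho, rfl⟩
  rw [this, Set.ncard_image_of_injective _ Finset.singleton_injective]

theorem fin_single (a : ℕ) : fin [a] = {fsOf a} := by
  simp [fin]

theorem stab_single (x : Finset GolayPt) :
    MulAction.stabilizer ↥M24 ({x} : Fam) = MulAction.stabilizer ↥M24 x := by
  ext g
  rw [MulAction.mem_stabilizer_iff, MulAction.mem_stabilizer_iff, Finset.smul_finset_singleton,
    Finset.singleton_inj]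

theorem orbit_single (H : Subgroup ↥M24) (x : Finset GolayPt) :
    MulAction.orbit ↥H ({x} : Fam) = (fun y => ({y} : Fam)) '' MulAction.orbit ↥H x := by
  ext Y
  constructor
  · rintro ⟨h, rfl⟩
    exact ⟨h • x, ⟨h, rfl⟩, (Finset.smul_finset_singleton x).symm⟩
  · rintro ⟨y, ⟨h, rfl⟩, rfl⟩
    exact ⟨h, Finset.smul_finset_singleton x⟩

theorem orbits3_single {A : Set (Finset GolayPt)} {H : Subgroup ↥M24} {n1 n2 n3 : ℕ}
    (h : ∃ X₁ ∈ Sing A, ∃ X₂ ∈ Sing A, ∃ X₃ ∈ Sing A,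
      (MulAction.orbit ↥H X₁).ncard = n1 ∧ (MulAction.orbit ↥H X₂).ncard = n2 ∧
      (MulAction.orbit ↥H X₃).ncard = n3 ∧
      Sing A = MulAction.orbit ↥H X₁ ∪ MulAction.orbit ↥H X₂ ∪ MulAction.orbit ↥H X₃) :
    ∃ x₁ ∈ A, ∃ x₂ ∈ A, ∃ x₃ ∈ A,
      (MulAction.orbit ↥H x₁).ncard = n1 ∧ (MulAction.orbit ↥H x₂).ncard = n2 ∧
      (MulAction.orbit ↥H x₃).ncard = n3 ∧
      A = MulAction.orbit ↥H x₁ ∪ MulAction.orbit ↥H x₂ ∪ MulAction.orbit ↥H x₃ := by
  obtain ⟨X₁, ⟨x₁, hx₁, rfl⟩, X₂, ⟨x₂, hx₂, rfl⟩, X₃, ⟨x₃, hx₃, rfl⟩, e1, e2, e3, hU⟩ := h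
  rw [orbit_single, Set.ncard_image_of_injective _ Finset.singleton_injective] at e1 e2 e3
  refine ⟨x₁, hx₁, x₂, hx₂, x₃, hx₃, e1, e2, e3, ?_⟩
  ext o
  rw [← mem_Sing A o, hU]
  simp only [Set.mem_union, orbit_single, Set.mem_image, Finset.singleton_inj, exists_eq_right]

end Cfsg.Agent.Lib_lead_ObjOrb4
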