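import Mathlib
import Cfsg.Prelude.Def_SporadicCombinatorics
import Cfsg.Agent.Lib_lead_Cls2
import Cfsg.Agent.Lib_lead_ObjOrb4

/-! Counting the octads, dodecads, sextets and trios fixed by an explicit element. -/

set_option autoImplicit false

namespace Cfsg.Agent.Lib_lead_ClsCount

open Cfsg Cfsg.Agent.Lib_lead_Golay Cfsg.Agent.Lib_lead_GolayPerm Cfsg.Agent.Lib_lead_M24
  Cfsg.Agent.Lib_lead_M24Chain Cfsg.Agent.Lib_lead_M24Orb Cfsg.Agent.Lib_lead_ObjOrb
  Cfsg.Agent.Lib_lead_ObjOrb3 Cfsg.Agent.Lib_lead_ObjOrb4 Cfsg.Agent.Lib_lead_Cls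
open scoped Pointwise

/-- the number of fixed members of an invariant family is a class function -/
theorem ncard_fix_conj {α : Type*} [MulAction (Equiv.Perm GolayPt) α] (𝒳 : Set α)
    (h𝒳 : ∀ h ∈ M24, ∀ X ∈ 𝒳, h • X ∈ 𝒳) {σ g R : Equiv.Perm GolayPt} (hσ : σ ∈ M24)
    (e : σ * g * σ⁻¹ = R) :
    {X | X ∈ 𝒳 ∧ g • X = X}.ncard = {X | X ∈ 𝒳 ∧ R • X = X}.ncard := by
  have himg : {X | X ∈ 𝒳 ∧ R • X = X} = (fun X => σ • X) '' {X | X ∈ 𝒳 ∧ g • X = X} := by
    ext Y
    constructor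
    · rintro ⟨hY, hfix⟩
      refine ⟨σ⁻¹ • Y, ⟨h𝒳 _ (M24.inv_mem hσ) _ hY, ?_⟩, smul_inv_smul σ Y⟩
      have hg : g = σ⁻¹ * R * σ := by rw [← e]; group
      rw [hg, mul_smul, mul_smul, smul_inv_smul, hfix]
    · rintro ⟨X, ⟨hX, hfix⟩, rfl⟩
      refine ⟨h𝒳 _ hσ _ hX, ?_⟩
      rw [← e, mul_smul, mul_smul, inv_smul_smul, hfix]
  rw [himg, Set.ncard_image_of_injective _ (MulAction.injective σ)]

theorem P_smul {t : Tb} (ht : genOK t = true) (x : ℕ) (hx : x < 2 ^ 24) :
    P t • fsOf x = fsOf (pull t.2 x) := by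
  unfold genOK at ht
  rw [Bool.and_eq_true] at ht
  unfold P permD
  rw [dif_pos ht.1]
  exact smul_fsOf ht.1 x hx

theorem pull_lt' {t : Tb} (ht : genOK t = true) (x : ℕ) : pull t.2 x < 2 ^ 24 := by
  unfold genOK at ht
  rw [Bool.and_eq_true] at ht
  exact pull_lt _ (validTab_len ht.1).2 x

/-- the codewords of weight `n` fixed by a table -/
theorem count_words (n : ℕ) {t : Tb} (ht : genOK t = true) :
    {o : Finset GolayPt | o ∈ wordsOfWeight (golayCode : Set (GolayPt → ZMod 2)) n ∧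
        P t • o = o}.ncard
      = ((Finset.range 4096).filter (fun k => popc (M k) = n ∧ pull t.2 (M k) = M k)).card := by
  apply ncard_words n (fun o => P t • o = o) (fun m => pull t.2 m = m)
  intro k _ _
  rw [P_smul ht _ (Cfsg.Agent.Lib_lead_M24Chain.M_lt k)]
  constructor
  · intro h
    exact fsOf_injOn (pull_lt' ht _) (Cfsg.Agent.Lib_lead_M24Chain.M_lt k) h
  · intro h
    rw [h]

/-- the table maps the list of masks to itself -/
def fixChk (t : Tb) (l : List ℕ) : Bool := (l.map (pull t.2)).all (fun m => l.contains m)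

theorem smul_fin_iff {t : Tb} (ht : genOK t = true) (l : List ℕ) (hl : ∀ m ∈ l, m < 2 ^ 24) :
    P t • fin l = fin l ↔ fixChk t l = true := by
  have hsm : P t • fin l = fin (l.map (pull t.2)) :=
    smul_fin_of _ l _ (fun m hm => P_smul ht m (hl m hm))
  unfold fixChk
  rw [List.all_eq_true]
  constructor
  · intro h m hm
    rw [hsm] at h
    have h1 : fsOf m ∈ fin (l.map (pull t.2)) := (mem_fin _ _).mpr ⟨m, hm, rfl⟩
    rw [h] at h1
    obtain ⟨m', hm', he⟩ := (mem_fin _ _).mp h1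
    obtain ⟨m0, hm0, rfl⟩ := List.mem_map.mp hm
    have := fsOf_injOn (hl m' hm') (pull_lt' ht _) he
    rw [← this]
    simpa using hm'
  · intro h
    apply Finset.eq_of_subset_of_card_le
    · rw [hsm]
      intro s hs
      obtain ⟨m, hm, rfl⟩ := (mem_fin _ _).mp hs
      exact (mem_fin _ _).mpr ⟨m, by simpa using h m hm, rfl⟩
    · rw [Finset.card_smul_finset]

theorem obj_lt {𝒳 : Set Fam} {base : List ℕ} {gens : List (List ℕ × List ℕ)}
    {roots : List (List ℕ)} {tab : List (ℕ × List ℕ)} {m : ℕ → ℕ} {ex : ℕ}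
    (C : CertM 𝒳 base gens roots tab m ex) (e : ℕ × List ℕ) (he : e ∈ tab) :
    ∀ x ∈ objOf gens (roots.getD e.1 []) e.2, x < 2 ^ 24 := by
  have hr := C.hroots _ (CertM.root_mem roots e.1 (C.hcls e he))
  obtain ⟨σ, -, -, h2, -⟩ :=
    objOf_sound (StabK (fin base)) gens C.hg (roots.getD e.1 []) hr.1 e.2
  exact h2

/-- the members of a certified family fixed by a table -/
theorem count_fix {𝒳 : Set Fam} {base : List ℕ} {gens : List (List ℕ × List ℕ)}
    {roots : List (List ℕ)} {tab : List (ℕ × List ℕ)} {m : ℕ → ℕ} {ex : ℕ}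
    (C : CertM 𝒳 base gens roots tab m ex) {t : Tb} (ht : genOK t = true) :
    {X : Fam | X ∈ 𝒳 ∧ P t • X = X}.ncard
      = (tab.filter (fun e => fixChk t (objOf gens (roots.getD e.1 []) e.2))).length := by
  have hset : {X : Fam | X ∈ 𝒳 ∧ P t • X = X}
      = ↑(((tab.filter (fun e => fixChk t (objOf gens (roots.getD e.1 []) e.2))).map
          (entObj gens roots)).toFinset) := by
    ext X
    rw [Finset.mem_coe, List.mem_toFinset, List.mem_map]
    constructor
    · rintro ⟨hX, hfix⟩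
      obtain ⟨e, he, rfl⟩ := C.complete X hX
      exact ⟨e, List.mem_filter.mpr ⟨he, (smul_fin_iff ht _ (obj_lt C e he)).mp hfix⟩, rfl⟩
    · rintro ⟨e, he, rfl⟩
      rw [List.mem_filter] at he
      exact ⟨C.ent_mem e he.1, (smul_fin_iff ht _ (obj_lt C e he.1)).mpr he.2⟩
  rw [hset, Set.ncard_coe_finset, List.toFinset_card_of_nodup
    (List.Nodup.map_on (fun x hx y hy h =>
      C.ent_inj x y (List.mem_filter.mp hx).1 (List.mem_filter.mp hy).1 h)
      (C.tab_nodup.filter _)), List.length_map]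

end Cfsg.Agent.Lib_lead_ClsCount
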