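import Mathlib
import Cfsg.Prelude.Def_SporadicCombinatorics
import Cfsg.Agent.Lib_lead_Cls3
import Cfsg.Agent.Lib_lead_ClsCount

/-! The centralizer of an involution `t` of the group of the binary Golay code with
`t 0 = 2` and `t 5 = 6`, from an explicit list of its elements fixing the point 0. -/

set_option autoImplicit false

namespace Cfsg.Agent.Lib_lead_Cent

open Cfsg Cfsg.Agent.Lib_lead_Golay Cfsg.Agent.Lib_lead_GolayPerm Cfsg.Agent.Lib_lead_M24
  Cfsg.Agent.Lib_lead_M24Chain Cfsg.Agent.Lib_lead_M24ChainData Cfsg.Agent.Lib_lead_M24Sets2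
  Cfsg.Agent.Lib_lead_SixSet Cfsg.Agent.Lib_lead_M24Trans Cfsg.Agent.Lib_lead_Cls
  Cfsg.Agent.Lib_lead_ClsData Cfsg.Agent.Lib_lead_Cls2 Cfsg.Agent.Lib_lead_Cls3
  Cfsg.Agent.Lib_lead_ObjOrb Cfsg.Agent.Lib_lead_ClsCount
open scoped Pointwise

/-- the centralizer of a permutation in the group of the code -/
def centM (t : Equiv.Perm GolayPt) : Subgroup (Equiv.Perm GolayPt) where
  carrier := {c | c ∈ M24 ∧ c * t = t * c}
  mul_mem' := by
    rintro a b ⟨ha, hat⟩ ⟨hb, hbt⟩
    refine ⟨M24.mul_mem ha hb, ?_⟩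
    rw [mul_assoc, hbt, ← mul_assoc, hat, mul_assoc]
  one_mem' := ⟨M24.one_mem, by rw [one_mul, mul_one]⟩
  inv_mem' := by
    rintro a ⟨ha, hat⟩
    refine ⟨M24.inv_mem ha, ?_⟩
    rw [inv_mul_eq_iff_eq_mul, ← mul_assoc, hat, mul_inv_cancel_right]

theorem mem_centM (t c : Equiv.Perm GolayPt) : c ∈ centM t ↔ c ∈ M24 ∧ c * t = t * c := Iff.rfl

/-- the function commutes with the table -/
def commT (f : ℕ → ℕ) (t : Tb) : Bool := (List.range 24).all fun j => f (ap t j) == ap t (f j)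

theorem commT_of {X E t : Tb} (hX : genOK X = true) (hE : genOK E = true) (ht : genOK t = true)
    (h : P X * P E * P t = P t * (P X * P E)) : commT (cmp X E) t = true := by
  unfold commT
  rw [List.all_eq_true]
  intro j hj
  rw [List.mem_range] at hj
  rw [beq_iff_eq]
  have e := congrArg (fun f : Equiv.Perm GolayPt => f (ptN j)) h
  simp only [Equiv.Perm.mul_apply] at e
  have e1 := P_mul_apply hX hE j hj
  have e2 := P_mul_apply hX hE _ (ap_lt ht j hj)
  simp only [Equiv.Perm.mul_apply] at e1 e2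
  rw [P_apply ht j hj, e2, e1, P_apply ht _ (cmp_lt hX hE j hj)] at e
  exact ptN_inj (cmp_lt hX hE _ (ap_lt ht j hj)) (ap_lt ht _ (cmp_lt hX hE j hj)) e

theorem comm_of_T {T t : Tb} (hT : genOK T = true) (ht : genOK t = true)
    (h : commT (ap T) t = true) : P T * P t = P t * P T := by
  apply ext_pt
  intro j hj
  unfold commT at h
  rw [List.all_eq_true] at h
  have := h j (List.mem_range.mpr hj)
  rw [beq_iff_eq] at this
  rw [Equiv.Perm.mul_apply, Equiv.Perm.mul_apply, P_apply ht j hj, P_apply hT _ (ap_lt ht j hj),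
    P_apply hT j hj, P_apply ht _ (ap_lt hT j hj), this]

/-- every admissible image of the point 5 has a coset representative -/
def repChkX (t : Tb) (Xs : List Tb) : Bool :=
  (List.range 24).all fun b => (b == 0 || b == 2) ||
    Xs.any fun X => (ap X 5 == b) && (ap X 0 == 0) && (ap X 2 == 2) &&
      (ap X 6 == ap t b) && genOK X

/-- every admissible image of the point 9 has a representative fixing 0, 2, 5, 6 -/
def repChkY (Ys : List Tb) : Bool :=
  (List.range 24).all fun v => (v == 0 || v == 2 || v == 5 || v == 6) ||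
    Ys.any fun Y => (ap Y 9 == v) && (ap Y 0 == 0) && (ap Y 2 == 2) && (ap Y 5 == 5) &&
      (ap Y 6 == 6) && genOK Y

/-- the composite of three tables -/
def cmp3 (X Y E : Tb) (j : ℕ) : ℕ := ap X (ap Y (ap E j))

/-- the element with the given indices -/
def elt (Xs Ys E : List Tb) (τ : ℕ × ℕ × ℕ) : Equiv.Perm GolayPt :=
  P (Xs.getD τ.1 ([], [])) * (P (Ys.getD τ.2.1 ([], [])) * P (E.getD τ.2.2 ([], [])))

/-- the composite table with the given indices -/
def eltF (Xs Ys E : List Tb) (τ : ℕ × ℕ × ℕ) (j : ℕ) : ℕ :=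
  cmp3 (Xs.getD τ.1 ([], [])) (Ys.getD τ.2.1 ([], [])) (E.getD τ.2.2 ([], [])) j

/-- one step of the list check, forcing the table -/
def listOne (t X Y : Tb) (L : List (ℕ × ℕ × ℕ)) (x y : ℕ) : ℕ → Tb → Bool
  | e, (e1, _) =>
    !((List.range 24).all fun j =>
        ap X (ap Y (e1.getD (ap t j) 0)) == ap t (ap X (ap Y (e1.getD j 0)))) ||
      L.contains (x, y, e)

theorem listOne_eq (t X Y : Tb) (L : List (ℕ × ℕ × ℕ)) (x y e : ℕ) (E : Tb) :
    listOne t X Y L x y e E = (!commT (cmp3 X Y E) t || L.contains (x, y, e)) := by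
  obtain ⟨e1, e2⟩ := E
  rfl

/-- all commuting elements of the cosets are in the list -/
def listChk (t : Tb) (Xs Ys E : List Tb) (L : List (ℕ × ℕ × ℕ)) : Bool :=
  (List.range Xs.length).all fun x => (List.range Ys.length).all fun y =>
    (List.range 48).all fun e =>
      listOne t (Xs.getD x ([], [])) (Ys.getD y ([], [])) L x y e (E.getD e ([], []))

theorem idx_ne_of {c : Equiv.Perm GolayPt} {j k : ℕ} (hj : j < 24) (hk : k < 24) (hjk : j ≠ k)
    {m : ℕ} (hm : c (ptN k) = ptN m) : idx (c (ptN j)) ≠ m := by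
  intro h
  apply hjk
  apply ptN_inj hj hk
  apply c.injective
  rw [hm, ← h, ptN_idx]

theorem cmp3_lt {X Y E : Tb} (hX : genOK X = true) (hY : genOK Y = true) (hE : genOK E = true)
    (j : ℕ) (hj : j < 24) : cmp3 X Y E j < 24 := ap_lt hX _ (ap_lt hY _ (ap_lt hE j hj))

theorem P3_apply {X Y E : Tb} (hX : genOK X = true) (hY : genOK Y = true)
    (hE : genOK E = true) (j : ℕ) (hj : j < 24) :
    (P X * (P Y * P E)) (ptN j) = ptN (cmp3 X Y E j) := by
  rw [Equiv.Perm.mul_apply, Equiv.Perm.mul_apply, P_apply hE j hj, P_apply hY _ (ap_lt hE j hj),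
    P_apply hX _ (ap_lt hY _ (ap_lt hE j hj))]
  rfl

theorem commT3_of {X Y E t : Tb} (hX : genOK X = true) (hY : genOK Y = true)
    (hE : genOK E = true) (ht : genOK t = true)
    (h : P X * (P Y * P E) * P t = P t * (P X * (P Y * P E))) : commT (cmp3 X Y E) t = true := by
  unfold commT
  rw [List.all_eq_true]
  intro j hj
  rw [List.mem_range] at hj
  rw [beq_iff_eq]
  have e : (P X * (P Y * P E) * P t) (ptN j) = (P t * (P X * (P Y * P E))) (ptN j) := by rw [h]
  rw [Equiv.Perm.mul_apply, P_apply ht j hj, P3_apply hX hY hE _ (ap_lt ht j hj),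
    Equiv.Perm.mul_apply, P3_apply hX hY hE j hj, P_apply ht _ (cmp3_lt hX hY hE j hj)] at e
  exact ptN_inj (cmp3_lt hX hY hE _ (ap_lt ht j hj)) (ap_lt ht _ (cmp3_lt hX hY hE j hj)) e

theorem comm3_of_T {X Y E t : Tb} (hX : genOK X = true) (hY : genOK Y = true)
    (hE : genOK E = true) (ht : genOK t = true) (h : commT (cmp3 X Y E) t = true) :
    P X * (P Y * P E) * P t = P t * (P X * (P Y * P E)) := by
  apply ext_pt
  intro j hj
  unfold commT at h
  rw [List.all_eq_true] at h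
  have := h j (List.mem_range.mpr hj)
  rw [beq_iff_eq] at this
  rw [Equiv.Perm.mul_apply, P_apply ht j hj, P3_apply hX hY hE _ (ap_lt ht j hj),
    Equiv.Perm.mul_apply, P3_apply hX hY hE j hj, P_apply ht _ (cmp3_lt hX hY hE j hj), this]

theorem getD_of_mem {α : Type} (l : List α) (d : α) (x : α) (hx : x ∈ l) :
    ∃ i < l.length, l.getD i d = x := by
  obtain ⟨i, hi, rfl⟩ := List.mem_iff_getElem.mp hx
  exact ⟨i, hi, by rw [List.getD_eq_getElem _ _ hi]⟩

/-- the elements of the centralizer fixing the point 0 are in the list -/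
theorem cent0_enum {t : Tb} {Xs Ys : List Tb} {L : List (ℕ × ℕ × ℕ)} (ht : genOK t = true)
    (h02 : ap t 0 = 2) (h56 : ap t 5 = 6) (hrepX : repChkX t Xs = true)
    (hrepY : repChkY Ys = true) (hlist : listChk t Xs Ys E48 L = true)
    (c : Equiv.Perm GolayPt) (hc : c ∈ M24) (hcomm : c * P t = P t * c)
    (h0 : c (ptN 0) = ptN 0) : ∃ τ ∈ L, c = elt Xs Ys E48 τ := by
  have hct : ∀ j < 24, c (ptN (ap t j)) = P t (c (ptN j)) := by
    intro j hj
    have e := congrArg (fun f : Equiv.Perm GolayPt => f (ptN j)) hcomm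
    simp only [Equiv.Perm.mul_apply] at e
    rw [P_apply ht j hj] at e
    exact e
  have h2 : c (ptN 2) = ptN 2 := by
    have := hct 0 (by norm_num)
    rw [h02, h0, P_apply ht 0 (by norm_num), h02] at this
    exact this
  have hb : c (ptN 5) = ptN (idx (c (ptN 5))) := (ptN_idx _).symm
  have h6 : c (ptN 6) = ptN (ap t (idx (c (ptN 5)))) := by
    have := hct 5 (by norm_num)
    rw [h56, hb, P_apply ht _ (idx_lt _)] at this
    exact this
  unfold repChkX at hrepX
  rw [List.all_eq_true] at hrepX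
  have h1 := hrepX (idx (c (ptN 5))) (List.mem_range.mpr (idx_lt _))
  have n1 : idx (c (ptN 5)) ≠ 0 := idx_ne_of (by norm_num) (by norm_num) (by norm_num) h0
  have n2 : idx (c (ptN 5)) ≠ 2 := idx_ne_of (by norm_num) (by norm_num) (by norm_num) h2
  simp only [Bool.or_eq_true, beq_iff_eq, n1, n2, or_self, false_or,
    List.any_eq_true, Bool.and_eq_true] at h1
  obtain ⟨X, hXm, ⟨⟨⟨⟨x5, x0⟩, x2⟩, x6⟩, hX⟩⟩ := h1
  obtain ⟨x, hx, rfl⟩ := getD_of_mem Xs ([], []) X hXm
  -- the quotient fixes 0, 2, 5, 6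
  have hgm : (P (Xs.getD x ([], [])))⁻¹ * c ∈ M24 := M24.mul_mem (M24.inv_mem (P_mem hX)) hc
  have g0 : ((P (Xs.getD x ([], [])))⁻¹ * c) (ptN 0) = ptN 0 := by
    rw [Equiv.Perm.mul_apply, h0]
    have := P_apply hX 0 (by norm_num)
    rw [x0] at this
    rw [← this, perm_inv_apply, this]
  have g2 : ((P (Xs.getD x ([], [])))⁻¹ * c) (ptN 2) = ptN 2 := by
    rw [Equiv.Perm.mul_apply, h2]
    have := P_apply hX 2 (by norm_num)
    rw [x2] at this
    rw [← this, perm_inv_apply, this]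
  have g5 : ((P (Xs.getD x ([], [])))⁻¹ * c) (ptN 5) = ptN 5 := by
    rw [Equiv.Perm.mul_apply, hb, ← x5, ← P_apply hX 5 (by norm_num), perm_inv_apply]
  have g6 : ((P (Xs.getD x ([], [])))⁻¹ * c) (ptN 6) = ptN 6 := by
    rw [Equiv.Perm.mul_apply, h6, ← x6, ← P_apply hX 6 (by norm_num), perm_inv_apply]
  have gv : ((P (Xs.getD x ([], [])))⁻¹ * c) (ptN 9)
      = ptN (idx (((P (Xs.getD x ([], [])))⁻¹ * c) (ptN 9))) := (ptN_idx _).symm
  generalize hg : (P (Xs.getD x ([], [])))⁻¹ * c = g at hgm g0 g2 g5 g6 gv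
  unfold repChkY at hrepY
  rw [List.all_eq_true] at hrepY
  have h1 := hrepY (idx (g (ptN 9))) (List.mem_range.mpr (idx_lt _))
  have m1 : idx (g (ptN 9)) ≠ 0 := idx_ne_of (by norm_num) (by norm_num) (by norm_num) g0
  have m2 : idx (g (ptN 9)) ≠ 2 := idx_ne_of (by norm_num) (by norm_num) (by norm_num) g2
  have m3 : idx (g (ptN 9)) ≠ 5 := idx_ne_of (by norm_num) (by norm_num) (by norm_num) g5
  have m4 : idx (g (ptN 9)) ≠ 6 := idx_ne_of (by norm_num) (by norm_num) (by norm_num) g6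
  simp only [Bool.or_eq_true, beq_iff_eq, m1, m2, m3, m4, or_self, false_or,
    List.any_eq_true, Bool.and_eq_true] at h1
  obtain ⟨Y, hYm, ⟨⟨⟨⟨⟨y9, y0⟩, y2⟩, y5⟩, y6⟩, hY⟩⟩ := h1
  obtain ⟨y, hy, rfl⟩ := getD_of_mem Ys ([], []) Y hYm
  obtain ⟨i, hi, hgi⟩ := coset48 E48 E48_ok E48_enum hgm _ hY (by rw [g0, y0]) (by rw [g2, y2])
    (by rw [g5, y5]) (by rw [g6, y6]) (by rw [y9]; exact gv)
  have hE := E48_ok i hi
  have hce : c = P (Xs.getD x ([], [])) * (P (Ys.getD y ([], [])) * P (E48.getD i ([], []))) := by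
    rw [← hgi, ← hg, mul_inv_cancel_left]
  have hcm := commT3_of hX hY hE ht (hce ▸ hcomm)
  unfold listChk at hlist
  rw [List.all_eq_true] at hlist
  have h3 := hlist x (List.mem_range.mpr hx)
  rw [List.all_eq_true] at h3
  have h3 := h3 y (List.mem_range.mpr hy)
  rw [List.all_eq_true] at h3
  have h3 := h3 i (List.mem_range.mpr hi)
  rw [listOne_eq, hcm] at h3
  simp only [Bool.not_true, Bool.false_or, List.contains_iff_mem] at h3
  exact ⟨(x, y, i), h3, hce⟩

/-- the members of the list are valid, commute with `t` and fix the point 0 -/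
def memChk (t : Tb) (Xs Ys E : List Tb) (L : List (ℕ × ℕ × ℕ)) : Bool :=
  L.all fun τ => decide (τ.1 < Xs.length) && decide (τ.2.1 < Ys.length) && decide (τ.2.2 < 48) &&
    commT (eltF Xs Ys E τ) t && (eltF Xs Ys E τ 0 == 0)

/-- all tables of the list are valid -/
def allOK (Xs : List Tb) : Bool := Xs.all genOK

theorem allOK_of {Xs : List Tb} (h : allOK Xs = true) (x : ℕ) (hx : x < Xs.length) :
    genOK (Xs.getD x ([], [])) = true := by
  unfold allOK at h
  rw [List.all_eq_true] at h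
  rw [List.getD_eq_getElem _ _ hx]
  exact h _ (List.getElem_mem hx)

theorem mem_of_chk {t : Tb} {Xs Ys : List Tb} {L : List (ℕ × ℕ × ℕ)}
    (hXs : allOK Xs = true) (hYs : allOK Ys = true) (hmem : memChk t Xs Ys E48 L = true)
    (τ : ℕ × ℕ × ℕ) (hτ : τ ∈ L) :
    genOK (Xs.getD τ.1 ([], [])) = true ∧ genOK (Ys.getD τ.2.1 ([], [])) = true ∧
      genOK (E48.getD τ.2.2 ([], [])) = true ∧ commT (eltF Xs Ys E48 τ) t = true ∧
      eltF Xs Ys E48 τ 0 = 0 := by
  unfold memChk at hmem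
  rw [List.all_eq_true] at hmem
  have := hmem τ hτ
  simp only [Bool.and_eq_true, beq_iff_eq, decide_eq_true_eq] at this
  obtain ⟨⟨⟨⟨h1, h2⟩, h3⟩, h4⟩, h5⟩ := this
  exact ⟨allOK_of hXs _ h1, allOK_of hYs _ h2, E48_ok _ h3, h4, h5⟩

/-- the key of an element: the images of four points -/
def keyF (f : ℕ → ℕ) : ℕ × ℕ × ℕ × ℕ := (f 5, f 9, f 1, f 17)

/-- different elements of the list have different keys -/
theorem elt_nodup {t : Tb} {Xs Ys : List Tb} {L : List (ℕ × ℕ × ℕ)}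
    (hXs : allOK Xs = true) (hYs : allOK Ys = true) (hmem : memChk t Xs Ys E48 L = true)
    (hdis : (L.map (fun τ => keyF (eltF Xs Ys E48 τ))).Nodup) :
    (L.map (elt Xs Ys E48)).Nodup := by
  have hL : L.Nodup := List.Nodup.of_map _ hdis
  apply List.Nodup.map_on _ hL
  intro τ hτ τ' hτ' he
  apply List.inj_on_of_nodup_map hdis hτ hτ'
  obtain ⟨a1, a2, a3, -, -⟩ := mem_of_chk hXs hYs hmem τ hτ
  obtain ⟨b1, b2, b3, -, -⟩ := mem_of_chk hXs hYs hmem τ' hτ'
  have key : ∀ j < 24, eltF Xs Ys E48 τ j = eltF Xs Ys E48 τ' j := by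
    intro j hj
    have e : elt Xs Ys E48 τ (ptN j) = elt Xs Ys E48 τ' (ptN j) := by rw [he]
    unfold elt at e
    rw [P3_apply a1 a2 a3 j hj, P3_apply b1 b2 b3 j hj] at e
    exact ptN_inj (cmp3_lt a1 a2 a3 j hj) (cmp3_lt b1 b2 b3 j hj) e
  unfold keyF
  rw [key 5 (by norm_num), key 9 (by norm_num), key 1 (by norm_num), key 17 (by norm_num)]

/-- the order of the stabilizer of the point 0 in the centralizer -/
theorem card_cent0 {t : Tb} {Xs Ys : List Tb} {L : List (ℕ × ℕ × ℕ)} (ht : genOK t = true)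
    (h02 : ap t 0 = 2) (h56 : ap t 5 = 6) (hrepX : repChkX t Xs = true)
    (hrepY : repChkY Ys = true) (hlist : listChk t Xs Ys E48 L = true)
    (hXs : allOK Xs = true) (hYs : allOK Ys = true) (hmem : memChk t Xs Ys E48 L = true)
    (hdis : (L.map (fun τ => keyF (eltF Xs Ys E48 τ))).Nodup) :
    Nat.card ↥(centM (P t) ⊓ MulAction.stabilizer (Equiv.Perm GolayPt) (ptN 0)) = L.length := by
  have hset : ((centM (P t) ⊓ MulAction.stabilizer (Equiv.Perm GolayPt) (ptN 0) :
      Subgroup (Equiv.Perm GolayPt)) : Set (Equiv.Perm GolayPt))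
        = ↑((L.map (elt Xs Ys E48)).toFinset) := by
    ext c
    rw [Finset.mem_coe, List.mem_toFinset, List.mem_map, SetLike.mem_coe, Subgroup.mem_inf,
      MulAction.mem_stabilizer_iff]
    constructor
    · rintro ⟨⟨hc, hcomm⟩, h0⟩
      obtain ⟨τ, hτ, rfl⟩ := cent0_enum ht h02 h56 hrepX hrepY hlist c hc hcomm h0
      exact ⟨τ, hτ, rfl⟩
    · rintro ⟨τ, hτ, rfl⟩
      obtain ⟨a1, a2, a3, a4, a5⟩ := mem_of_chk hXs hYs hmem τ hτ
      refine ⟨⟨M24.mul_mem (P_mem a1) (M24.mul_mem (P_mem a2) (P_mem a3)),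
        comm3_of_T a1 a2 a3 ht a4⟩, ?_⟩
      rw [Equiv.Perm.smul_def]
      unfold elt
      rw [P3_apply a1 a2 a3 0 (by norm_num)]
      exact congrArg ptN a5
  have h1 : Nat.card ↥(centM (P t) ⊓ MulAction.stabilizer (Equiv.Perm GolayPt) (ptN 0))
      = Set.ncard ((centM (P t) ⊓ MulAction.stabilizer (Equiv.Perm GolayPt) (ptN 0) :
      Subgroup (Equiv.Perm GolayPt)) : Set (Equiv.Perm GolayPt)) := Nat.card_coe_set_eq _
  rw [h1, hset, Set.ncard_coe_finset, List.toFinset_card_of_nodup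
    (elt_nodup hXs hYs hmem hdis), List.length_map]

/-- 24 elements of the centralizer moving the point 0 to all points -/
def transChk (t : Tb) (ca : List Tb) : Bool :=
  (List.range 24).all fun a => genOK (ca.getD a ([], [])) &&
    commT (ap (ca.getD a ([], []))) t && (ap (ca.getD a ([], [])) 0 == a)

theorem trans_of_chk {t : Tb} {ca : List Tb} (ht : genOK t = true) (h : transChk t ca = true)
    (a : ℕ) (ha : a < 24) : genOK (ca.getD a ([], [])) = true ∧
      P (ca.getD a ([], [])) ∈ centM (P t) ∧ P (ca.getD a ([], [])) (ptN 0) = ptN a := by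
  unfold transChk at h
  rw [List.all_eq_true] at h
  have := h a (List.mem_range.mpr ha)
  simp only [Bool.and_eq_true, beq_iff_eq] at this
  obtain ⟨⟨h1, h2⟩, h3⟩ := this
  exact ⟨h1, ⟨P_mem h1, comm_of_T h1 ht h2⟩, by rw [P_apply h1 0 (by norm_num), h3]⟩

/-- the order of the centralizer -/
theorem card_cent {t : Tb} {Xs Ys ca : List Tb} {L : List (ℕ × ℕ × ℕ)} (ht : genOK t = true)
    (h02 : ap t 0 = 2) (h56 : ap t 5 = 6) (hrepX : repChkX t Xs = true)
    (hrepY : repChkY Ys = true) (hlist : listChk t Xs Ys E48 L = true)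
    (hXs : allOK Xs = true) (hYs : allOK Ys = true) (hmem : memChk t Xs Ys E48 L = true)
    (hdis : (L.map (fun τ => keyF (eltF Xs Ys E48 τ))).Nodup) (htr : transChk t ca = true) :
    Nat.card ↥(centM (P t)) = 24 * L.length := by
  rw [orbit_count (centM (P t)) (ptN 0) Finset.univ (fun _ _ => Finset.mem_univ _)
    (fun z _ => ?_), Finset.card_univ, card24,
    card_cent0 ht h02 h56 hrepX hrepY hlist hXs hYs hmem hdis]
  obtain ⟨-, h2, h3⟩ := trans_of_chk ht htr (idx z) (idx_lt z)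
  exact ⟨_, h2, by rw [Equiv.Perm.smul_def, h3, ptN_idx]⟩

/-- every element of the centralizer is a product of a transversal element and a list
element -/
theorem cent_factor {t : Tb} {Xs Ys ca : List Tb} {L : List (ℕ × ℕ × ℕ)} (ht : genOK t = true)
    (h02 : ap t 0 = 2) (h56 : ap t 5 = 6) (hrepX : repChkX t Xs = true)
    (hrepY : repChkY Ys = true) (hlist : listChk t Xs Ys E48 L = true)
    (htr : transChk t ca = true) (c : Equiv.Perm GolayPt) (hc : c ∈ centM (P t)) :
    ∃ a < 24, ∃ τ ∈ L, c = P (ca.getD a ([], [])) * elt Xs Ys E48 τ := by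
  generalize ha : idx (c (ptN 0)) = a
  have hlt : a < 24 := ha ▸ idx_lt _
  have hc0 : c (ptN 0) = ptN a := by rw [← ha, ptN_idx]
  obtain ⟨h1, h2, h3⟩ := trans_of_chk ht htr a hlt
  have hmem : (P (ca.getD a ([], [])))⁻¹ * c ∈ centM (P t) :=
    (centM (P t)).mul_mem ((centM (P t)).inv_mem h2) hc
  obtain ⟨τ, hτ, he⟩ := cent0_enum ht h02 h56 hrepX hrepY hlist _ hmem.1 hmem.2 (by
    rw [Equiv.Perm.mul_apply, hc0, ← h3, perm_inv_apply])
  exact ⟨a, hlt, τ, hτ, by rw [← he, mul_inv_cancel_left]⟩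

/-- the composite of three tables maps the list of masks to itself -/
def fix3 (Xs Ys E : List Tb) (l : List ℕ) (τ : ℕ × ℕ × ℕ) : Bool :=
  (l.map (fun m => pull (Xs.getD τ.1 ([], [])).2 (pull (Ys.getD τ.2.1 ([], [])).2
    (pull (E.getD τ.2.2 ([], [])).2 m)))).all (fun m => l.contains m)

theorem fix3_sound {X Y E : Tb} (hX : genOK X = true) (hY : genOK Y = true)
    (hE : genOK E = true) (l : List ℕ) (hl : ∀ m ∈ l, m < 2 ^ 24)
    (h : ((l.map (fun m => pull X.2 (pull Y.2 (pull E.2 m)))).all (fun m => l.contains m))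
      = true) : (P X * (P Y * P E)) • fin l = fin l := by
  have hsm : (P X * (P Y * P E)) • fin l = fin (l.map (fun m => pull X.2 (pull Y.2 (pull E.2 m)))) :=
    smul_fin_of _ l _ (fun m hm => by
      rw [mul_smul, mul_smul, P_smul hE m (hl m hm), P_smul hY _ (pull_lt' hE _),
        P_smul hX _ (pull_lt' hY _)])
  rw [List.all_eq_true] at h
  apply Finset.eq_of_subset_of_card_le
  · rw [hsm]
    intro s hs
    obtain ⟨m, hm, rfl⟩ := (mem_fin _ _).mp hs
    exact (mem_fin _ _).mpr ⟨m, by simpa using h m hm, rfl⟩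
  · rw [Finset.card_smul_finset]

/-- a family of sets fixed by the transversal and by the list is fixed by the centralizer -/
theorem cent_fix {t : Tb} {Xs Ys ca : List Tb} {L : List (ℕ × ℕ × ℕ)} (ht : genOK t = true)
    (h02 : ap t 0 = 2) (h56 : ap t 5 = 6) (hrepX : repChkX t Xs = true)
    (hrepY : repChkY Ys = true) (hlist : listChk t Xs Ys E48 L = true)
    (hXs : allOK Xs = true) (hYs : allOK Ys = true) (hmem : memChk t Xs Ys E48 L = true)
    (htr : transChk t ca = true) (S0 : List ℕ) (hS : ∀ x ∈ S0, x < 2 ^ 24)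
    (h1 : ((List.range 24).all fun a => fixChk (ca.getD a ([], [])) S0) = true)
    (h2 : (L.all fun τ => fix3 Xs Ys E48 S0 τ) = true) (c : Equiv.Perm GolayPt)
    (hc : c ∈ centM (P t)) : c • fin S0 = fin S0 := by
  obtain ⟨a, ha, τ, hτ, rfl⟩ := cent_factor ht h02 h56 hrepX hrepY hlist htr c hc
  rw [List.all_eq_true] at h1 h2
  obtain ⟨a1, a2, a3, -, -⟩ := mem_of_chk hXs hYs hmem τ hτ
  rw [mul_smul]
  unfold elt
  rw [fix3_sound a1 a2 a3 S0 hS (h2 τ hτ),
    (smul_fin_iff (trans_of_chk ht htr a ha).1 S0 hS).mpr (h1 a (List.mem_range.mpr ha))]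

/-- conjugation carries the commuting elements onto the centralizer of the conjugate -/
theorem card_conj {t t' τ : Equiv.Perm GolayPt} (hτ : τ ∈ M24) (e : τ * t * τ⁻¹ = t') :
    Nat.card {c : Equiv.Perm GolayPt // c ∈ M24 ∧ c * t = t * c} = Nat.card ↥(centM t') := by
  apply Nat.card_congr
  refine ⟨fun c => ⟨τ * c.1 * τ⁻¹, M24.mul_mem (M24.mul_mem hτ c.2.1) (M24.inv_mem hτ), ?_⟩,
    fun c => ⟨τ⁻¹ * c.1 * τ, M24.mul_mem (M24.mul_mem (M24.inv_mem hτ) c.2.1) hτ, ?_⟩, ?_, ?_⟩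
  · have h1 : τ * c.1 * τ⁻¹ * (τ * t * τ⁻¹) = τ * (c.1 * t) * τ⁻¹ := by group
    have h2 : τ * t * τ⁻¹ * (τ * c.1 * τ⁻¹) = τ * (t * c.1) * τ⁻¹ := by group
    rw [← e, h1, h2, c.2.2]
  · have ht : t = τ⁻¹ * t' * τ := by rw [← e]; group
    have h1 : τ⁻¹ * c.1 * τ * (τ⁻¹ * t' * τ) = τ⁻¹ * (c.1 * t') * τ := by group
    have h2 : τ⁻¹ * t' * τ * (τ⁻¹ * c.1 * τ) = τ⁻¹ * (t' * c.1) * τ := by group
    rw [ht, h1, h2, c.2.2]
  · intro c
    apply Subtype.ext
    show τ⁻¹ * (τ * c.1 * τ⁻¹) * τ = c.1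
    group
  · intro c
    apply Subtype.ext
    show τ * (τ⁻¹ * c.1 * τ) * τ⁻¹ = c.1
    group

end Cfsg.Agent.Lib_lead_Cent
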