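import Mathlib
import Cfsg.Prelude.Def_SporadicCombinatorics
import Cfsg.Agent.Lib_lead_Cent
import Cfsg.Agent.Lib_lead_Sextet

/-! The centralizer of a fixed-point-free involution of the group of the binary Golay code:
data and consequences. -/

set_option autoImplicit false

namespace Cfsg.Agent.Lib_lead_CentData

open Cfsg Cfsg.Agent.Lib_lead_Golay Cfsg.Agent.Lib_lead_GolayPerm Cfsg.Agent.Lib_lead_M24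
  Cfsg.Agent.Lib_lead_M24Chain Cfsg.Agent.Lib_lead_Cls Cfsg.Agent.Lib_lead_ClsData
  Cfsg.Agent.Lib_lead_Cls2 Cfsg.Agent.Lib_lead_Cls3 Cfsg.Agent.Lib_lead_Cent
  Cfsg.Agent.Lib_lead_ObjOrb Cfsg.Agent.Lib_lead_ClsCount Cfsg.Agent.Lib_lead_Sextet
  Cfsg.Agent.Lib_lead_SixSet
open scoped Pointwise

/-- a fixed-point-free involution exchanging 0 with 2 and 5 with 6 -/
def zBp : Tb := ([2, 9, 0, 19, 11, 6, 5, 16, 14, 1, 23, 4, 17, 21, 8, 20, 7, 12, 22, 3, 15, 13, 18, 10], [2, 9, 0, 19, 11, 6, 5, 16, 14, 1, 23, 4, 17, 21, 8, 20, 7, 12, 22, 3, 15, 13, 18, 10])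

/-- an element conjugating `zB` to `zBp` -/
def KB : Tb := ([23, 16, 9, 17, 10, 18, 21, 1, 22, 12, 13, 3, 14, 11, 6, 8, 7, 20, 2, 4, 0, 19, 5, 15], [20, 7, 18, 11, 19, 22, 14, 16, 15, 2, 4, 13, 9, 10, 12, 23, 1, 3, 5, 21, 17, 6, 8, 0])

set_option maxRecDepth 100000 in
/-- elements of the centralizer moving the point 0 to all points -/
def caB : List Tb :=
  [([0, 19, 2, 7, 15, 1, 9, 17, 13, 3, 10, 20, 5, 4, 21, 18, 12, 6, 8, 16, 22, 11, 14, 23], [0, 5, 2, 9, 13, 12, 17, 3, 18, 6, 10, 21, 16, 8, 22, 4, 19, 7, 15, 1, 11, 14, 20, 23]),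
   ([1, 19, 9, 13, 10, 0, 2, 8, 7, 3, 15, 23, 5, 4, 16, 18, 14, 6, 17, 21, 22, 11, 12, 20], [5, 0, 6, 9, 13, 12, 17, 8, 7, 2, 4, 21, 22, 3, 16, 10, 14, 18, 15, 1, 23, 19, 20, 11]),
   ([2, 19, 0, 14, 15, 1, 9, 12, 21, 3, 23, 20, 4, 5, 13, 18, 17, 11, 16, 8, 22, 6, 7, 10], [2, 5, 0, 9, 12, 13, 21, 22, 19, 6, 23, 17, 7, 14, 3, 4, 18, 16, 15, 1, 11, 8, 20, 10]),
   ([3, 9, 19, 13, 10, 0, 2, 6, 4, 1, 22, 23, 14, 7, 11, 20, 5, 8, 17, 21, 15, 16, 12, 18], [5, 9, 6, 0, 8, 16, 7, 13, 17, 1, 4, 14, 22, 3, 12, 20, 21, 18, 23, 2, 15, 19, 10, 11]),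
   ([4, 9, 11, 14, 10, 0, 2, 18, 3, 1, 5, 23, 13, 12, 19, 20, 22, 21, 16, 8, 15, 17, 7, 6], [5, 9, 6, 8, 0, 10, 23, 22, 19, 1, 4, 2, 13, 12, 3, 20, 18, 21, 7, 14, 15, 17, 16, 11]),
   ([5, 9, 6, 16, 10, 0, 2, 19, 22, 1, 4, 23, 17, 21, 18, 20, 3, 12, 14, 7, 15, 13, 8, 11], [5, 9, 6, 16, 10, 0, 2, 19, 22, 1, 4, 23, 17, 21, 18, 20, 3, 12, 14, 7, 15, 13, 8, 11]),
   ([6, 9, 5, 8, 10, 0, 2, 3, 18, 1, 11, 23, 21, 17, 22, 20, 19, 13, 7, 14, 15, 12, 16, 4], [5, 9, 6, 7, 23, 2, 0, 18, 3, 1, 4, 10, 21, 17, 19, 20, 22, 13, 8, 16, 15, 12, 14, 11]),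
   ([7, 9, 16, 22, 23, 0, 2, 17, 21, 1, 8, 10, 4, 6, 13, 15, 12, 11, 3, 18, 20, 5, 19, 14], [5, 9, 6, 18, 12, 21, 13, 0, 10, 1, 11, 17, 16, 14, 23, 15, 2, 7, 19, 22, 20, 8, 3, 4]),
   ([8, 9, 14, 3, 23, 0, 2, 13, 12, 1, 7, 10, 5, 11, 17, 15, 21, 6, 22, 19, 20, 4, 18, 16], [5, 9, 6, 3, 21, 12, 17, 10, 0, 1, 11, 13, 8, 7, 2, 15, 23, 14, 22, 19, 20, 16, 18, 4]),
   ([9, 19, 1, 12, 10, 0, 2, 14, 16, 3, 20, 23, 4, 5, 7, 18, 8, 11, 21, 17, 22, 6, 13, 15], [5, 2, 6, 9, 12, 13, 21, 14, 16, 0, 4, 17, 3, 22, 7, 23, 8, 19, 15, 1, 10, 18, 20, 11]),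
   ([10, 19, 23, 8, 15, 1, 9, 21, 12, 3, 0, 20, 11, 6, 17, 18, 13, 4, 7, 14, 22, 5, 16, 2], [10, 5, 23, 9, 17, 21, 13, 18, 3, 6, 0, 12, 8, 16, 19, 4, 22, 14, 15, 1, 11, 7, 20, 2]),
   ([11, 9, 4, 7, 10, 0, 2, 22, 19, 1, 6, 23, 12, 13, 3, 20, 18, 17, 8, 16, 15, 21, 14, 5], [5, 9, 6, 14, 2, 23, 10, 3, 18, 1, 4, 0, 12, 13, 22, 20, 19, 17, 16, 8, 15, 21, 7, 11]),
   ([12, 9, 17, 5, 23, 0, 2, 16, 8, 1, 21, 10, 3, 18, 14, 15, 7, 19, 4, 6, 20, 22, 11, 13], [5, 9, 6, 12, 18, 3, 19, 16, 8, 1, 11, 22, 0, 23, 14, 15, 7, 2, 13, 17, 20, 10, 21, 4]),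
   ([13, 9, 21, 6, 23, 0, 2, 8, 16, 1, 17, 10, 19, 22, 7, 15, 14, 3, 11, 5, 20, 18, 4, 12], [5, 9, 6, 17, 22, 19, 3, 14, 7, 1, 11, 18, 23, 0, 16, 15, 8, 10, 21, 12, 20, 2, 13, 4]),
   ([14, 9, 8, 18, 23, 0, 2, 21, 17, 1, 16, 10, 11, 5, 12, 15, 13, 4, 19, 22, 20, 6, 3, 7], [5, 9, 6, 22, 17, 13, 21, 23, 2, 1, 11, 12, 14, 16, 0, 15, 10, 8, 3, 18, 20, 7, 19, 4]),
   ([15, 19, 20, 17, 10, 0, 2, 16, 14, 3, 1, 23, 11, 6, 8, 18, 7, 4, 13, 12, 22, 5, 21, 9], [5, 10, 6, 9, 17, 21, 13, 16, 14, 23, 4, 12, 19, 18, 8, 0, 7, 3, 15, 1, 2, 22, 20, 11]),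
   ([16, 9, 7, 19, 23, 0, 2, 12, 13, 1, 14, 10, 6, 4, 21, 15, 17, 5, 18, 3, 20, 11, 22, 8], [5, 9, 6, 19, 13, 17, 12, 2, 23, 1, 11, 21, 7, 8, 10, 15, 0, 16, 18, 3, 20, 14, 22, 4]),
   ([17, 9, 12, 11, 23, 0, 2, 7, 14, 1, 13, 10, 18, 3, 8, 15, 16, 22, 6, 4, 20, 19, 5, 21], [5, 9, 6, 13, 19, 22, 18, 7, 14, 1, 11, 3, 2, 10, 8, 15, 16, 0, 12, 21, 20, 23, 17, 4]),
   ([18, 9, 22, 21, 10, 0, 2, 4, 6, 1, 19, 23, 8, 16, 5, 20, 11, 14, 12, 13, 15, 7, 17, 3], [5, 9, 6, 23, 7, 14, 8, 21, 12, 1, 4, 16, 18, 19, 17, 20, 13, 22, 0, 10, 15, 3, 2, 11]),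
   ([19, 9, 3, 12, 10, 0, 2, 5, 11, 1, 18, 23, 7, 14, 4, 20, 6, 16, 21, 17, 15, 8, 13, 22], [5, 9, 6, 2, 14, 7, 16, 12, 21, 1, 4, 8, 3, 22, 13, 20, 17, 19, 10, 0, 15, 18, 23, 11]),
   ([20, 19, 15, 21, 10, 0, 2, 7, 8, 3, 9, 23, 6, 11, 14, 18, 16, 5, 12, 13, 22, 4, 17, 1], [5, 23, 6, 9, 21, 17, 12, 7, 8, 10, 4, 13, 18, 19, 14, 2, 16, 22, 15, 1, 0, 3, 20, 11]),
   ([21, 9, 13, 4, 23, 0, 2, 14, 7, 1, 12, 10, 22, 19, 16, 15, 8, 18, 5, 11, 20, 3, 6, 17], [5, 9, 6, 21, 3, 18, 22, 8, 16, 1, 11, 19, 10, 2, 7, 15, 14, 23, 17, 13, 20, 0, 12, 4]),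
   ([22, 9, 18, 17, 10, 0, 2, 11, 5, 1, 3, 23, 16, 8, 6, 20, 4, 7, 13, 12, 15, 14, 21, 19], [5, 9, 6, 10, 16, 8, 14, 17, 13, 1, 4, 7, 19, 18, 21, 20, 12, 3, 2, 23, 15, 22, 0, 11]),
   ([23, 19, 10, 16, 15, 1, 9, 13, 17, 3, 2, 20, 6, 11, 12, 18, 21, 5, 14, 7, 22, 4, 8, 0], [23, 5, 10, 9, 21, 17, 12, 19, 22, 6, 2, 13, 14, 7, 18, 4, 3, 8, 15, 1, 11, 16, 20, 0])]

set_option maxRecDepth 100000 in
/-- the elements of the centralizer fixing the point 0, as indices of their factors -/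
def L0B : List (ℕ × ℕ × ℕ) :=
  [(0, 1, 37), (0, 2, 47), (0, 3, 39), (0, 4, 16), (0, 5, 27), (0, 6, 12), (0, 7, 38), (0, 10, 29), (0, 12, 30), (0, 13, 9), (0, 14, 19), (0, 15, 33), (0, 16, 24), (0, 17, 21), (0, 18, 2), (0, 19, 0), (1, 1, 22), (1, 2, 35), (1, 3, 29), (1, 4, 6), (1, 5, 44), (1, 6, 40), (1, 7, 18), (1, 10, 16), (1, 12, 26), (1, 13, 38), (1, 14, 44), (1, 15, 0), (1, 16, 13), (1, 17, 17), (1, 18, 23), (1, 19, 38), (2, 0, 6), (2, 2, 7), (2, 5, 7), (2, 6, 24), (2, 7, 23), (2, 8, 47), (2, 9, 40), (2, 10, 1), (2, 11, 8), (2, 12, 20), (2, 13, 44), (2, 15, 10), (2, 16, 31), (2, 17, 16), (2, 18, 21), (2, 19, 32), (3, 0, 20), (3, 1, 33), (3, 3, 45), (3, 4, 35), (3, 5, 0), (3, 8, 27), (3, 9, 1), (3, 10, 43), (3, 11, 21), (3, 12, 39), (3, 13, 23), (3, 14, 4), (3, 15, 7), (3, 16, 8), (3,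 17, 43), (3, 18, 37), (4, 0, 33), (4, 2, 2), (4, 5, 11), (4, 6, 13), (4, 7, 40), (4, 8, 24), (4, 9, 2), (4, 10, 35), (4, 11, 30), (4, 12, 4), (4, 13, 5), (4, 15, 24), (4, 16, 36), (4, 17, 42), (4, 18, 1), (4, 19, 47), (5, 0, 20), (5, 1, 33), (5, 3, 45), (5, 4, 35), (5, 5, 0), (5, 8, 27), (5, 9, 1), (5, 10, 43), (5, 11, 21), (5, 12, 39), (5, 13, 23), (5, 14, 4), (5, 15, 7), (5, 16, 8), (5, 17, 43), (5, 18, 37), (6, 0, 43), (6, 1, 28), (6, 2, 39), (6, 3, 17), (6, 4, 34), (6, 6, 26), (6, 7, 14), (6, 8, 45), (6, 9, 37), (6, 10, 44), (6, 11, 42), (6, 12, 36), (6, 14, 31), (6, 15, 44), (6, 18, 39), (6, 19, 3), (7, 0, 31), (7, 1, 1), (7, 2, 9), (7, 3, 32), (7, 4, 30), (7, 6, 30), (7, 7, 37), (7, 8, 43), (7, 9, 34), (7, 10, 26), (7, 11, 46), (7, 12, 31), (7, 14, 15), (7, 15, 26), (7, 18, 46), (7,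 19, 45), (9, 1, 37), (9, 2, 47), (9, 3, 39), (9, 4, 16), (9, 5, 27), (9, 6, 12), (9, 7, 38), (9, 10, 29), (9, 12, 30), (9, 13, 9), (9, 14, 19), (9, 15, 33), (9, 16, 24), (9, 17, 21), (9, 18, 2), (9, 19, 0), (10, 0, 28), (10, 1, 29), (10, 3, 2), (10, 4, 24), (10, 5, 9), (10, 8, 26), (10, 9, 17), (10, 10, 40), (10, 11, 4), (10, 12, 38), (10, 13, 12), (10, 14, 21), (10, 15, 36), (10, 16, 41), (10, 17, 40), (10, 18, 44), (11, 1, 44), (11, 2, 10), (11, 3, 38), (11, 4, 46), (11, 5, 26), (11, 6, 23), (11, 7, 39), (11, 10, 33), (11, 12, 22), (11, 13, 0), (11, 14, 34), (11, 15, 29), (11, 16, 35), (11, 17, 4), (11, 18, 45), (11, 19, 9), (12, 1, 22), (12, 2, 35), (12, 3, 29), (12, 4, 6), (12, 5, 44), (12, 6, 40), (12, 7, 18), (12, 10, 16), (12, 12, 26), (12, 13, 38), (12, 14, 44), (12, 15, 0), (12,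 16, 13), (12, 17, 17), (12, 18, 23), (12, 19, 38), (13, 1, 5), (13, 2, 20), (13, 3, 18), (13, 4, 39), (13, 5, 41), (13, 6, 36), (13, 7, 29), (13, 10, 9), (13, 12, 19), (13, 13, 42), (13, 14, 41), (13, 15, 46), (13, 16, 21), (13, 17, 47), (13, 18, 31), (13, 19, 42), (14, 0, 12), (14, 1, 47), (14, 2, 46), (14, 3, 21), (14, 4, 5), (14, 6, 5), (14, 7, 41), (14, 8, 36), (14, 9, 26), (14, 10, 34), (14, 11, 9), (14, 12, 12), (14, 14, 45), (14, 15, 34), (14, 18, 9), (14, 19, 15), (15, 0, 6), (15, 2, 7), (15, 5, 7), (15, 6, 24), (15, 7, 23), (15, 8, 47), (15, 9, 40), (15, 10, 1), (15, 11, 8), (15, 12, 20), (15, 13, 44), (15, 15, 10), (15, 16, 31), (15, 17, 16), (15, 18, 21), (15, 19, 32), (16, 0, 7), (16, 1, 24), (16, 2, 6), (16, 3, 47), (16, 4, 27), (16, 6, 19), (16, 7, 30), (16, 8, 11), (16, 9,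 8), (16, 10, 41), (16, 11, 38), (16, 12, 40), (16, 14, 23), (16, 15, 41), (16, 18, 6), (16, 19, 12), (17, 0, 15), (17, 1, 32), (17, 2, 25), (17, 3, 20), (17, 4, 37), (17, 6, 41), (17, 7, 27), (17, 8, 12), (17, 9, 30), (17, 10, 14), (17, 11, 25), (17, 12, 45), (17, 14, 43), (17, 15, 14), (17, 18, 29), (17, 19, 7), (18, 0, 45), (18, 1, 21), (18, 2, 29), (18, 3, 24), (18, 4, 41), (18, 6, 37), (18, 7, 19), (18, 8, 31), (18, 9, 5), (18, 10, 22), (18, 11, 29), (18, 12, 15), (18, 14, 36), (18, 15, 22), (18, 18, 25), (18, 19, 40), (19, 0, 15), (19, 1, 32), (19, 2, 25), (19, 3, 20), (19, 4, 37), (19, 6, 41), (19, 7, 27), (19, 8, 12), (19, 9, 30), (19, 10, 14), (19, 11, 25), (19, 12, 45), (19, 14, 43), (19, 15, 14), (19, 18, 29), (19, 19, 7), (20, 1, 44), (20, 2, 10), (20, 3, 38), (20, 4, 46), (20,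 5, 26), (20, 6, 23), (20, 7, 39), (20, 10, 33), (20, 12, 22), (20, 13, 0), (20, 14, 34), (20, 15, 29), (20, 16, 35), (20, 17, 4), (20, 18, 45), (20, 19, 9)]

/-- coset representatives: the images of the point 5 -/
def XsB : List Tb :=
  [([0, 20, 2, 18, 17, 1, 9, 4, 5, 22, 7, 8, 23, 15, 21, 10, 14, 3, 19, 12, 6, 11, 16, 13], [0, 5, 2, 17, 7, 8, 20, 10, 11, 6, 15, 21, 19, 23, 16, 13, 22, 4, 3, 18, 1, 14, 9, 12]),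
   ([0, 22, 2, 11, 17, 3, 19, 5, 12, 7, 13, 4, 18, 23, 1, 10, 15, 9, 21, 16, 20, 14, 8, 6], [0, 14, 2, 5, 11, 7, 23, 9, 22, 17, 15, 3, 8, 10, 21, 16, 19, 4, 12, 6, 20, 18, 1, 13]),
   ([0, 18, 2, 23, 22, 4, 11, 10, 5, 12, 19, 8, 3, 14, 17, 16, 15, 20, 6, 21, 13, 9, 1, 7], [0, 22, 2, 12, 5, 8, 18, 23, 11, 21, 7, 6, 9, 20, 13, 16, 15, 14, 1, 10, 17, 19, 4, 3]),
   ([0, 1, 2, 3, 4, 5, 6, 7, 8, 9, 10, 11, 12, 13, 14, 15, 16, 17, 18, 19, 20, 21, 22, 23], [0, 1, 2, 3, 4, 5, 6, 7, 8, 9, 10, 11, 12, 13, 14, 15, 16, 17, 18, 19, 20, 21, 22, 23]),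
   ([0, 21, 2, 23, 14, 6, 5, 11, 4, 15, 22, 16, 20, 17, 7, 9, 8, 1, 10, 3, 13, 12, 18, 19], [0, 17, 2, 19, 8, 6, 5, 14, 16, 15, 18, 7, 21, 20, 4, 9, 11, 13, 22, 23, 12, 1, 10, 3]),
   ([0, 6, 2, 22, 8, 7, 16, 17, 21, 5, 23, 14, 15, 9, 13, 4, 12, 20, 3, 18, 11, 1, 19, 10], [0, 21, 2, 18, 15, 9, 1, 5, 4, 13, 23, 20, 16, 14, 11, 12, 6, 7, 19, 22, 17, 8, 3, 10]),
   ([0, 21, 2, 5, 12, 8, 14, 11, 9, 7, 3, 13, 19, 18, 1, 17, 6, 10, 15, 20, 16, 23, 4, 22], [0, 14, 2, 10, 22, 3, 16, 9, 5, 8, 17, 7, 4, 11, 6, 18, 20, 15, 13, 12, 19, 1, 23, 21]),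
   ([0, 11, 2, 18, 17, 9, 1, 5, 4, 23, 13, 8, 22, 6, 21, 3, 14, 10, 19, 16, 15, 20, 12, 7], [0, 6, 2, 15, 8, 7, 13, 23, 11, 5, 17, 1, 22, 10, 16, 20, 19, 4, 3, 18, 21, 14, 12, 9]),
   ([0, 19, 2, 11, 21, 10, 23, 5, 6, 16, 12, 17, 3, 22, 1, 18, 15, 14, 4, 20, 7, 8, 9, 13], [0, 14, 2, 12, 18, 7, 8, 20, 21, 22, 5, 3, 10, 23, 17, 16, 9, 11, 15, 1, 19, 4, 13, 6]),
   ([0, 5, 2, 20, 8, 11, 4, 13, 12, 15, 19, 22, 23, 6, 16, 10, 18, 1, 9, 14, 17, 21, 3, 7], [0, 17, 2, 22, 6, 1, 13, 23, 4, 18, 15, 5, 8, 7, 19, 9, 14, 20, 16, 10, 3, 21, 11, 12]),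
   ([0, 19, 2, 11, 10, 12, 17, 14, 7, 9, 13, 23, 1, 20, 5, 22, 4, 3, 6, 8, 15, 18, 16, 21], [0, 12, 2, 17, 16, 14, 18, 8, 19, 9, 4, 3, 5, 10, 7, 20, 22, 6, 21, 1, 13, 23, 15, 11]),
   ([0, 10, 2, 6, 19, 13, 21, 8, 16, 14, 9, 15, 12, 23, 20, 17, 18, 7, 11, 1, 4, 5, 3, 22], [0, 19, 2, 22, 20, 21, 3, 17, 7, 10, 1, 18, 12, 5, 9, 11, 8, 15, 16, 4, 14, 6, 23, 13]),
   ([0, 7, 2, 9, 4, 14, 8, 15, 11, 13, 6, 1, 16, 23, 19, 10, 18, 3, 5, 21, 22, 12, 17, 20], [0, 11, 2, 17, 4, 18, 10, 1, 6, 3, 15, 8, 21, 9, 5, 7, 12, 22, 16, 14, 23, 19, 20, 13]),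
   ([0, 1, 2, 3, 6, 15, 20, 22, 4, 13, 11, 18, 9, 23, 8, 10, 7, 16, 5, 12, 14, 17, 21, 19], [0, 1, 2, 3, 8, 18, 4, 16, 14, 12, 15, 10, 19, 9, 20, 5, 17, 21, 11, 23, 6, 22, 7, 13]),
   ([0, 22, 2, 18, 5, 16, 7, 13, 12, 14, 11, 1, 17, 3, 9, 21, 4, 8, 19, 6, 23, 10, 15, 20], [0, 11, 2, 13, 16, 4, 19, 6, 17, 14, 21, 10, 8, 7, 9, 22, 5, 12, 3, 18, 23, 15, 1, 20]),
   ([0, 9, 2, 23, 1, 17, 12, 10, 21, 7, 20, 22, 15, 18, 16, 3, 4, 11, 13, 8, 14, 6, 5, 19], [0, 4, 2, 15, 16, 22, 21, 9, 19, 1, 7, 17, 6, 18, 20, 12, 14, 5, 13, 23, 10, 8, 11, 3]),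
   ([0, 1, 2, 12, 9, 18, 22, 21, 6, 19, 16, 20, 14, 7, 11, 15, 13, 23, 4, 5, 3, 10, 17, 8], [0, 1, 2, 20, 18, 19, 8, 13, 23, 4, 21, 14, 3, 16, 12, 15, 10, 22, 5, 9, 11, 7, 6, 17]),
   ([0, 17, 2, 1, 9, 19, 3, 8, 15, 23, 7, 14, 13, 6, 12, 4, 21, 22, 16, 11, 18, 10, 5, 20], [0, 3, 2, 6, 15, 22, 13, 10, 7, 4, 21, 19, 14, 12, 11, 8, 18, 1, 20, 5, 23, 16, 17, 9]),
   ([0, 11, 2, 8, 13, 20, 15, 21, 7, 9, 16, 14, 6, 18, 3, 19, 22, 10, 12, 4, 23, 1, 5, 17], [0, 21, 2, 14, 19, 22, 12, 8, 3, 9, 17, 1, 18, 4, 11, 6, 10, 23, 13, 15, 5, 7, 16, 20]),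
   ([0, 14, 2, 19, 3, 21, 13, 9, 22, 10, 20, 1, 7, 4, 8, 5, 16, 17, 15, 6, 12, 23, 11, 18], [0, 11, 2, 4, 13, 15, 19, 12, 14, 7, 9, 22, 20, 6, 1, 18, 16, 17, 23, 3, 10, 5, 8, 21]),
   ([0, 23, 2, 4, 15, 22, 18, 12, 21, 17, 14, 7, 19, 10, 16, 3, 9, 13, 6, 8, 5, 11, 20, 1], [0, 23, 2, 15, 3, 20, 18, 11, 19, 16, 13, 21, 7, 17, 10, 4, 14, 9, 6, 12, 22, 8, 5, 1]),
   ([0, 6, 2, 14, 19, 23, 10, 16, 8, 21, 22, 3, 5, 11, 9, 4, 20, 13, 7, 1, 12, 17, 15, 18], [0, 19, 2, 11, 15, 12, 1, 18, 8, 14, 6, 13, 20, 17, 3, 22, 7, 21, 23, 4, 16, 9, 10, 5])]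

/-- coset representatives: the images of the point 9 -/
def YsB : List Tb :=
  [([0, 16, 2, 17, 7, 5, 6, 21, 9, 1, 3, 18, 22, 14, 4, 19, 23, 12, 20, 11, 15, 13, 10, 8], [0, 9, 2, 10, 14, 5, 6, 4, 23, 8, 22, 19, 17, 21, 13, 20, 1, 3, 11, 15, 18, 7, 12, 16]),
   ([0, 12, 2, 16, 11, 5, 6, 22, 14, 3, 10, 23, 15, 13, 17, 1, 9, 8, 19, 21, 7, 18, 20, 4], [0, 15, 2, 9, 23, 5, 6, 20, 17, 16, 10, 4, 1, 13, 8, 12, 3, 14, 21, 18, 22, 19, 7, 11]),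
   ([0, 16, 2, 7, 17, 5, 6, 3, 18, 4, 21, 9, 22, 14, 1, 19, 13, 11, 8, 12, 10, 23, 15, 20], [0, 14, 2, 7, 9, 5, 6, 3, 18, 11, 20, 17, 19, 16, 13, 22, 1, 4, 8, 15, 23, 10, 12, 21]),
   ([0, 19, 2, 23, 15, 5, 6, 4, 11, 7, 12, 1, 14, 22, 20, 16, 9, 8, 10, 17, 18, 3, 21, 13], [0, 11, 2, 21, 7, 5, 6, 9, 17, 16, 18, 8, 10, 23, 12, 4, 15, 19, 20, 1, 14, 22, 13, 3]),
   ([0, 9, 2, 19, 15, 5, 6, 22, 16, 8, 13, 12, 21, 20, 4, 17, 23, 18, 14, 11, 7, 3, 10, 1], [0, 23, 2, 21, 14, 5, 6, 20, 9, 1, 22, 19, 11, 10, 18, 4, 8, 15, 17, 3, 13, 12, 7, 16]),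
   ([0, 1, 2, 3, 4, 5, 6, 7, 8, 9, 10, 11, 12, 13, 14, 15, 16, 17, 18, 19, 20, 21, 22, 23], [0, 1, 2, 3, 4, 5, 6, 7, 8, 9, 10, 11, 12, 13, 14, 15, 16, 17, 18, 19, 20, 21, 22, 23]),
   ([0, 17, 2, 1, 19, 5, 6, 12, 13, 10, 22, 16, 20, 21, 3, 9, 8, 23, 15, 7, 4, 11, 18, 14], [0, 3, 2, 14, 20, 5, 6, 19, 16, 15, 9, 21, 7, 8, 23, 18, 11, 1, 22, 4, 12, 13, 10, 17]),
   ([0, 17, 2, 7, 13, 5, 6, 8, 3, 11, 1, 12, 9, 20, 19, 21, 16, 10, 18, 22, 4, 23, 14, 15], [0, 10, 2, 8, 20, 5, 6, 3, 7, 12, 17, 9, 11, 4, 22, 23, 16, 1, 18, 14, 13, 15, 19, 21]),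
   ([0, 11, 2, 17, 19, 5, 6, 9, 20, 12, 16, 14, 23, 4, 18, 10, 8, 13, 21, 3, 15, 1, 7, 22], [0, 21, 2, 19, 13, 5, 6, 22, 16, 7, 15, 1, 9, 17, 11, 20, 10, 3, 14, 4, 8, 18, 23, 12]),
   ([0, 21, 2, 8, 14, 5, 6, 18, 3, 13, 19, 16, 17, 20, 10, 9, 23, 1, 7, 4, 15, 12, 11, 22], [0, 17, 2, 8, 19, 5, 6, 18, 3, 15, 14, 22, 21, 9, 4, 20, 11, 12, 7, 10, 13, 1, 23, 16]),
   ([0, 9, 2, 23, 15, 5, 6, 10, 4, 14, 1, 13, 20, 17, 7, 21, 3, 22, 11, 8, 16, 19, 18, 12], [0, 10, 2, 16, 8, 5, 6, 14, 19, 1, 7, 18, 23, 11, 9, 4, 20, 13, 22, 21, 12, 15, 17, 3]),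
   ([0, 3, 2, 14, 20, 5, 6, 19, 16, 15, 9, 21, 7, 8, 23, 18, 11, 1, 22, 4, 12, 13, 10, 17], [0, 17, 2, 1, 19, 5, 6, 12, 13, 10, 22, 16, 20, 21, 3, 9, 8, 23, 15, 7, 4, 11, 18, 14]),
   ([0, 15, 2, 9, 23, 5, 6, 20, 17, 16, 10, 4, 1, 13, 8, 12, 3, 14, 21, 18, 22, 19, 7, 11], [0, 12, 2, 16, 11, 5, 6, 22, 14, 3, 10, 23, 15, 13, 17, 1, 9, 8, 19, 21, 7, 18, 20, 4]),
   ([0, 8, 2, 23, 12, 5, 6, 11, 10, 17, 1, 15, 18, 3, 19, 7, 14, 20, 4, 16, 9, 21, 22, 13], [0, 10, 2, 13, 18, 5, 6, 15, 1, 20, 8, 7, 4, 23, 16, 11, 19, 9, 12, 14, 17, 21, 22, 3]),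
   ([0, 12, 2, 21, 14, 5, 6, 9, 17, 18, 16, 22, 1, 15, 11, 13, 23, 3, 20, 10, 7, 8, 4, 19], [0, 12, 2, 17, 22, 5, 6, 20, 21, 7, 19, 14, 1, 15, 4, 13, 10, 8, 9, 23, 18, 3, 11, 16]),
   ([0, 9, 2, 10, 1, 5, 6, 23, 11, 19, 15, 12, 20, 17, 3, 21, 7, 16, 4, 18, 22, 14, 8, 13], [0, 4, 2, 14, 18, 5, 6, 16, 22, 1, 3, 8, 11, 23, 21, 10, 17, 13, 19, 9, 12, 15, 20, 7]),
   ([0, 10, 2, 7, 14, 5, 6, 8, 3, 20, 16, 22, 23, 11, 15, 4, 1, 17, 18, 12, 21, 9, 13, 19], [0, 16, 2, 8, 15, 5, 6, 3, 7, 21, 1, 13, 19, 22, 4, 14, 10, 17, 18, 23, 9, 20, 11, 12]),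
   ([0, 14, 2, 10, 7, 5, 6, 23, 11, 21, 8, 3, 16, 22, 12, 19, 1, 20, 4, 13, 17, 9, 15, 18], [0, 16, 2, 11, 18, 5, 6, 4, 10, 21, 3, 8, 14, 19, 1, 22, 12, 20, 23, 15, 17, 9, 13, 7]),
   ([0, 10, 2, 13, 21, 5, 6, 12, 15, 22, 17, 20, 23, 11, 3, 4, 18, 16, 1, 8, 14, 19, 7, 9], [0, 18, 2, 14, 15, 5, 6, 22, 19, 23, 1, 13, 7, 3, 20, 8, 17, 10, 16, 21, 11, 4, 9, 12]),
   ([0, 14, 2, 9, 1, 5, 6, 21, 20, 23, 12, 13, 16, 22, 8, 19, 7, 11, 17, 3, 4, 10, 18, 15], [0, 4, 2, 19, 20, 5, 6, 16, 14, 3, 21, 17, 10, 11, 1, 23, 12, 18, 22, 15, 8, 7, 13, 9])]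

/-- the sextet fixed by the centralizer -/
def S0B : List ℕ := [2160, 82304, 1081858, 2240512, 4980744, 8389637]

theorem zBp_ok : genOK zBp = true := by decide +kernel
theorem KB_ok : genOK KB = true := by decide +kernel
theorem KB_conj : conjOK KB zBp (ap zB) = true := by decide +kernel
theorem zBp02 : ap zBp 0 = 2 := by decide
theorem zBp56 : ap zBp 5 = 6 := by decide
theorem repXB : repChkX zBp XsB = true := by decide +kernel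
theorem repYB : repChkY YsB = true := by decide +kernel
theorem XsB_ok : allOK XsB = true := by decide +kernel
theorem YsB_ok : allOK YsB = true := by decide +kernel
set_option maxRecDepth 100000 in
theorem listB : listChk zBp XsB YsB E48 L0B = true := by decide +kernel
set_option maxRecDepth 100000 in
theorem memB : memChk zBp XsB YsB E48 L0B = true := by decide +kernel
set_option maxRecDepth 100000 in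
theorem disB : (L0B.map (fun τ => keyF (eltF XsB YsB E48 τ))).Nodup := by decide +kernel
theorem trB : transChk zBp caB = true := by decide +kernel
theorem sextB : sextChk S0B = true := by decide +kernel
theorem ltB : ∀ x ∈ S0B, x < 2 ^ 24 := by decide
theorem fixB1 : ((List.range 24).all fun a => fixChk (caB.getD a ([], [])) S0B) = true := by
  decide +kernel
set_option maxRecDepth 100000 in
theorem fixB2 : (L0B.all fun τ => fix3 XsB YsB E48 S0B τ) = true := by decide +kernel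
theorem fixB3 : fixChk zBp S0B = true := by decide +kernel
set_option maxRecDepth 100000 in
theorem lenB : L0B.length = 320 := by decide +kernel

end Cfsg.Agent.Lib_lead_CentData
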