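import Mathlib
import Cfsg.Prelude.Def_Characters
import Cfsg.Agent.Lib_helper3_CharBasic
import Cfsg.Agent.Lib_helper3_CharMore
import Cfsg.Agent.Lib_helper3_CharDiag

set_option autoImplicit false

namespace Cfsg.Agent.Lib_lead_CharLinear

open Cfsg
open Cfsg.Agent.Lib_helper3_CharBasic
open scoped ComplexConjugate

universe u

variable {G : Type u} [Group G]

/-- An irreducible character of degree one is a homomorphism to `ℂˣ`. -/
theorem linear_irr_hom {χ : G → ℂ} (hχ : IsIrrCharacter G χ) (h1 : χ 1 = 1) :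
    ∃ lam : G →* ℂˣ, ∀ g, χ g = (lam g : ℂ) := by
  obtain ⟨n, ρ, hirr, rfl⟩ := hχ
  have h1' : ρ.character 1 = 1 := h1
  rw [Representation.char_one] at h1'
  have hfr : Module.finrank ℂ (Fin n → ℂ) = 1 := by exact_mod_cast h1'
  obtain ⟨lam, hlam⟩ :=
    Cfsg.Agent.Lib_helper3_CharDiag.exists_monoidHom_of_finrank_eq_one ρ hfr
  refine ⟨lam, ?_⟩
  intro g
  have h2 : ρ g = (lam g : ℂ) • (1 : (Fin n → ℂ) →ₗ[ℂ] (Fin n → ℂ)) := by
    apply LinearMap.ext
    intro v
    rw [hlam g v]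
    rfl
  simp only [Representation.character]
  rw [h2, map_smul, LinearMap.trace_one, hfr]
  simp

/-- A linear character has values of norm one. -/
theorem linear_irr_norm [Finite G] {χ : G → ℂ} (hχ : IsIrrCharacter G χ) (h1 : χ 1 = 1) (g : G) :
    ‖χ g‖ = 1 := by
  obtain ⟨lam, hlam⟩ := linear_irr_hom hχ h1
  rw [hlam g]
  have h2 : ((lam g : ℂˣ) : ℂ) ^ orderOf g = 1 := by
    rw [← Units.val_pow_eq_pow_val, ← map_pow, pow_orderOf_eq_one, map_one, Units.val_one]
  exact Complex.norm_eq_one_of_pow_eq_one h2 (orderOf_pos g).ne'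

/-- A linear character is trivial on the commutator subgroup. -/
theorem linear_irr_comm {χ : G → ℂ} (hχ : IsIrrCharacter G χ) (h1 : χ 1 = 1) {g : G}
    (hg : g ∈ commutator G) (x : G) : χ (x * g) = χ x := by
  obtain ⟨lam, hlam⟩ := linear_irr_hom hχ h1
  have h2 : lam g = 1 := (Abelianization.commutator_subset_ker lam) hg
  rw [hlam, hlam, map_mul, h2, mul_one]

/-- `|C_G(g)| = ∑_χ ‖χ(g)‖²`. -/
theorem card_centralizer_eq_sum_normSq [Fintype G] [Fintype (IrrCharacter G)] (g : G) :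
    (Nat.card (Subgroup.centralizer ({g} : Set G)) : ℝ)
      = ∑ χ : IrrCharacter G, ‖(χ : G → ℂ) g‖ ^ 2 := by
  have h2 := second_orthogonality (G := G) g g
  rw [if_pos (IsConj.refl g)] at h2
  have h3 : ∑ χ : IrrCharacter G, (χ : G → ℂ) g * conj ((χ : G → ℂ) g)
      = ((∑ χ : IrrCharacter G, ‖(χ : G → ℂ) g‖ ^ 2 : ℝ) : ℂ) := by
    rw [Complex.ofReal_sum]
    apply Finset.sum_congr rfl
    intro χ _
    rw [Complex.mul_conj, Complex.normSq_eq_norm_sq, Complex.ofReal_pow]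
  rw [h3] at h2
  exact_mod_cast h2.symm

end Cfsg.Agent.Lib_lead_CharLinear
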