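import Mathlib
import Cfsg.Prelude.Def_Characters
import Cfsg.Agent.Lib_helper3_CharBasic
import Cfsg.Agent.Lib_helper3_CharIntegral
import Cfsg.Agent.Lib_helper3_CharMore

set_option autoImplicit false

namespace Cfsg.Agent.Lib_lead_CharSchur

open Cfsg
open Cfsg.Agent.Lib_helper3_CharBasic
open scoped ComplexConjugate

universe u v

variable {G : Type u} [Group G] [Fintype G]

/-- The sum of `ρ` over the conjugates of `y` is a scalar (Schur). -/
theorem sum_conj_rep {V : Type v} [AddCommGroup V] [Module ℂ V] [FiniteDimensional ℂ V]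
    (ρ : Representation ℂ G V) [ρ.IsIrreducible] (y : G) :
    ∑ b : G, ρ (b * y * b⁻¹)
      = ((Nat.card G : ℂ) * ρ.character y / (Module.finrank ℂ V : ℂ)) • (1 : V →ₗ[ℂ] V) := by
  classical
  set T : V →ₗ[ℂ] V := ∑ b : G, ρ (b * y * b⁻¹) with hT
  have hcomm : ∀ h : G, T * ρ h = ρ h * T := by
    intro h
    simp only [hT, Finset.sum_mul, Finset.mul_sum]
    rw [← Equiv.sum_comp (Equiv.mulLeft h) (fun b => ρ (b * y * b⁻¹) * ρ h)]
    apply Finset.sum_congr rfl
    intro b _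
    rw [← map_mul, ← map_mul]
    congr 1
    simp only [Equiv.coe_mulLeft]
    group
  let Tm : Representation.IntertwiningMap ρ ρ := ⟨T, hcomm⟩
  obtain ⟨c, hc⟩ :=
    (Representation.IsIrreducible.algebraMap_intertwiningMap_bijective_of_isAlgClosed
      (ρ := ρ)).2 Tm
  have hTc : T = c • (1 : V →ₗ[ℂ] V) := by
    calc T = Tm.toLinearMap := rfl
      _ = (algebraMap ℂ (ρ.IntertwiningMap ρ) c).toLinearMap := by rw [hc]
      _ = c • (1 : V →ₗ[ℂ] V) := rfl
  have htr : LinearMap.trace ℂ V T = c * (Module.finrank ℂ V : ℂ) := by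
    rw [hTc, map_smul, LinearMap.trace_one, smul_eq_mul]
  have htr2 : LinearMap.trace ℂ V T = (Nat.card G : ℂ) * ρ.character y := by
    rw [hT, map_sum]
    have h1 : ∀ b : G, LinearMap.trace ℂ V (ρ (b * y * b⁻¹)) = ρ.character y :=
      fun b => Representation.char_conj ρ y b
    simp only [h1, Finset.sum_const, Finset.card_univ, nsmul_eq_mul, Nat.card_eq_fintype_card]
  have hfr : (Module.finrank ℂ V : ℂ) ≠ 0 := by
    exact_mod_cast (Cfsg.Agent.Lib_helper3_CharIntegral.finrank_pos_of_irreducible ρ).ne'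
  rw [hTc]
  congr 1
  rw [← htr2, htr]
  field_simp

/-- generalized orthogonality: `∑_b χ(a · b y b⁻¹) = |G| χ(a) χ(y) / χ(1)`. -/
theorem sum_char_mul_conj {χ : G → ℂ} (hχ : IsIrrCharacter G χ) (a y : G) :
    ∑ b : G, χ (a * (b * y * b⁻¹)) = (Nat.card G : ℂ) * χ a * χ y / χ 1 := by
  obtain ⟨n, ρ, hirr, rfl⟩ := hχ
  haveI := hirr
  have h1 : ∀ b : G, ρ.character (a * (b * y * b⁻¹))
      = LinearMap.trace ℂ _ (ρ a * ρ (b * y * b⁻¹)) := by
    intro b
    rw [← map_mul]; rfl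
  rw [Finset.sum_congr rfl (fun b _ => h1 b), ← map_sum, ← Finset.mul_sum, sum_conj_rep ρ y,
    mul_smul_comm, mul_one, map_smul, smul_eq_mul, Representation.char_one]
  have : LinearMap.trace ℂ _ (ρ a) = ρ.character a := rfl
  rw [this]
  ring

/-- `∑_g χ(g⁻¹) ρ(g) = (|G| / χ(1)) • 1`. -/
theorem sum_char_inv_smul_rep {V : Type v} [AddCommGroup V] [Module ℂ V] [FiniteDimensional ℂ V]
    (ρ : Representation ℂ G V) [ρ.IsIrreducible] :
    ∑ g : G, ρ.character g⁻¹ • ρ g
      = ((Nat.card G : ℂ) / (Module.finrank ℂ V : ℂ)) • (1 : V →ₗ[ℂ] V) := by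
  have hf : IsClassFunction G (fun g => ρ.character g⁻¹) := by
    intro g h
    have : (h * g * h⁻¹)⁻¹ = h * g⁻¹ * h⁻¹ := by group
    show ρ.character (h * g * h⁻¹)⁻¹ = ρ.character g⁻¹
    rw [this]
    exact Representation.char_conj ρ g⁻¹ h
  have h := Cfsg.Agent.Lib_helper3_CharIntegral.schur_scalar (fun g => ρ.character g⁻¹) hf ρ
  rw [h]
  congr 2
  have hirr : IsIrrCharacter G ρ.character :=
    isIrrCharacter_of_rep ρ
  have h1 := irr_inner_self hirr
  rw [classInner_def] at h1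
  have h2 : ∑ g : G, ρ.character g⁻¹ * ρ.character g
      = ∑ g : G, ρ.character g * conj (ρ.character g) := by
    apply Finset.sum_congr rfl
    intro g _
    rw [char_inv ρ g, mul_comm]
  rw [h2]
  have hc := card_ne_zero (G := G)
  field_simp at h1
  rw [h1]

/-- convolution of an irreducible character with itself. -/
theorem sum_char_mul_char_inv_mul {χ : G → ℂ} (hχ : IsIrrCharacter G χ) (w : G) :
    ∑ y : G, χ y * χ (y⁻¹ * w) = (Nat.card G : ℂ) * χ w / χ 1 := by
  obtain ⟨n, ρ, hirr, rfl⟩ := hχ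
  haveI := hirr
  rw [← Equiv.sum_comp (Equiv.inv G) (fun y => ρ.character y * ρ.character (y⁻¹ * w))]
  simp only [Equiv.inv_apply, inv_inv]
  have h1 : ∀ y : G, ρ.character y⁻¹ * ρ.character (y * w)
      = LinearMap.trace ℂ _ ((ρ.character y⁻¹ • ρ y) * ρ w) := by
    intro y
    rw [smul_mul_assoc, map_smul, smul_eq_mul, ← map_mul]; rfl
  rw [Finset.sum_congr rfl (fun y _ => h1 y), ← map_sum, ← Finset.sum_mul,
    sum_char_inv_smul_rep ρ, smul_mul_assoc, one_mul, map_smul, smul_eq_mul,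
    Representation.char_one]
  have : LinearMap.trace ℂ _ (ρ w) = ρ.character w := rfl
  rw [this]
  ring

end Cfsg.Agent.Lib_lead_CharSchur
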