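import Mathlib
import Cfsg.Prelude.Def_Sporadic_a
import Cfsg.Agent.Lib_lead_Golay

/-! The rank-24 lattice built from the length-24 code: `leechSet` is already an additive subgroup. -/

set_option autoImplicit false

namespace Cfsg.Agent.Lib_lead_Leech

open Cfsg Cfsg.Agent.Lib_lead_Golay

/-- the family of supports of codewords -/
abbrev Supp : Set (Finset GolayPt) := supports (golayCode : Set (GolayPt → ZMod 2))

theorem support₂_add (v w : GolayPt → ZMod 2) :
    support₂ (v + w) = symmDiff (support₂ v) (support₂ w) := by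
  ext p
  simp only [support₂, Finset.mem_filter, Finset.mem_univ, true_and, Finset.mem_symmDiff,
    Pi.add_apply]
  have key : ∀ a b : ZMod 2, (a + b ≠ 0) ↔ ((a ≠ 0 ∧ ¬ b ≠ 0) ∨ (b ≠ 0 ∧ ¬ a ≠ 0)) := by
    decide
  exact key _ _

theorem symmDiff_mem {a b : Finset GolayPt} (ha : a ∈ Supp) (hb : b ∈ Supp) :
    symmDiff a b ∈ Supp := by
  obtain ⟨v, hv, rfl⟩ := ha
  obtain ⟨w, hw, rfl⟩ := hb
  exact ⟨v + w, golayCode.add_mem hv hw, support₂_add v w⟩

theorem empty_mem : (∅ : Finset GolayPt) ∈ Supp :=
  ⟨0, golayCode.zero_mem, by simp [support₂]⟩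

theorem univ_mem : (Finset.univ : Finset GolayPt) ∈ Supp := by
  refine ⟨1, Submodule.subset_span (Or.inr rfl), ?_⟩
  ext p
  simp [support₂]

theorem compl_mem {a : Finset GolayPt} (ha : a ∈ Supp) : aᶜ ∈ Supp := by
  have h := symmDiff_mem univ_mem ha
  rwa [← Finset.top_eq_univ, top_symmDiff] at h

theorem card_mem {a : Finset GolayPt} (ha : a ∈ Supp) :
    a.card = 0 ∨ a.card = 8 ∨ a.card = 12 ∨ a.card = 16 ∨ a.card = 24 := by
  obtain ⟨w, hw, rfl⟩ := ha
  obtain ⟨k, hk, rfl⟩ := (mem_iff w).mp hw
  rw [card_support₂, hammingNorm_W]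
  exact weights k hk

theorem four_dvd_card {a : Finset GolayPt} (ha : a ∈ Supp) : 4 ∣ a.card := by
  rcases card_mem ha with h | h | h | h | h <;> rw [h] <;> decide

theorem eight_le_card {a : Finset GolayPt} (ha : a ∈ Supp) (hne : a ≠ ∅) : 8 ≤ a.card := by
  have h0 : a.card ≠ 0 := fun h => hne (Finset.card_eq_zero.mp h)
  rcases card_mem ha with h | h | h | h | h <;> omega

theorem card_symmDiff_add (a b : Finset GolayPt) :
    (symmDiff a b).card + 2 * (a ∩ b).card = a.card + b.card := by
  have h1 := Finset.card_union_add_card_inter a b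
  have h2 : symmDiff a b = (a ∪ b) \ (a ∩ b) := symmDiff_eq_sup_sdiff_inf _ _
  have h3 : a ∩ b ⊆ a ∪ b := Finset.inter_subset_left.trans Finset.subset_union_left
  rw [h2, Finset.card_sdiff_of_subset h3]
  have h4 := Finset.card_le_card h3
  omega

theorem even_card_inter {a b : Finset GolayPt} (ha : a ∈ Supp) (hb : b ∈ Supp) :
    Even (a ∩ b).card := by
  have h1 := card_symmDiff_add a b
  obtain ⟨u, hu⟩ := four_dvd_card ha
  obtain ⟨v, hv⟩ := four_dvd_card hb
  obtain ⟨w, hw⟩ := four_dvd_card (symmDiff_mem ha hb)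
  rw [Nat.even_iff]
  omega

/-- positions with a given residue modulo 4 -/
def Sx (x : GolayPt → ℤ) (k : ℤ) : Finset GolayPt := Finset.univ.filter fun i => x i ≡ k [ZMOD 4]

theorem mem_Sx {x : GolayPt → ℤ} {k : ℤ} {i : GolayPt} : i ∈ Sx x k ↔ x i % 4 = k % 4 := by
  unfold Sx
  rw [Finset.mem_filter]
  exact ⟨fun h => h.2, fun h => ⟨Finset.mem_univ _, h⟩⟩

theorem Sx_eq (x : GolayPt → ℤ) (k : ℤ) (s : Finset GolayPt)
    (h : ∀ i, x i % 4 = k % 4 ↔ i ∈ s) : Sx x k = s := by
  ext i
  rw [mem_Sx, h]

/-- even vectors of the lattice -/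
def IsEvenVec (x : GolayPt → ℤ) : Prop :=
  (∀ i, x i % 2 = 0) ∧ (∑ i, x i) % 8 = 0 ∧ Sx x 2 ∈ Supp

/-- odd vectors of the lattice -/
def IsOddVec (x : GolayPt → ℤ) : Prop :=
  (∀ i, x i % 2 = 1) ∧ (∑ i, x i) % 8 = 4 ∧ Sx x 1 ∈ Supp

theorem mem_leechSet_iff (x : GolayPt → ℤ) : x ∈ leechSet ↔ IsEvenVec x ∨ IsOddVec x := by
  constructor
  · rintro ⟨m, h2, h8, hk⟩
    rcases Int.emod_two_eq_zero_or_one m with hm | hm
    · left
      refine ⟨fun i => ?_, ?_, hk 2⟩
      · have h := h2 i
        unfold Int.ModEq at h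
        omega
      · unfold Int.ModEq at h8
        omega
    · right
      refine ⟨fun i => ?_, ?_, hk 1⟩
      · have h := h2 i
        unfold Int.ModEq at h
        omega
      · unfold Int.ModEq at h8
        omega
  · rintro (⟨h2, h8, hS⟩ | ⟨h2, h8, hS⟩)
    · refine ⟨0, fun i => ?_, ?_, fun k => ?_⟩
      · have h := h2 i
        unfold Int.ModEq
        omega
      · unfold Int.ModEq
        omega
      · show Sx x k ∈ Supp
        have hk4 : k % 4 = 0 ∨ k % 4 = 1 ∨ k % 4 = 2 ∨ k % 4 = 3 := by omega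
        rcases hk4 with hk | hk | hk | hk
        · have : Sx x k = (Sx x 2)ᶜ := by
            apply Sx_eq
            intro i
            rw [Finset.mem_compl, mem_Sx]
            have h := h2 i
            omega
          rw [this]
          exact compl_mem hS
        · have : Sx x k = ∅ := by
            apply Sx_eq
            intro i
            have h := h2 i
            simp only [Finset.notMem_empty, iff_false]
            omega
          rw [this]
          exact empty_mem
        · have : Sx x k = Sx x 2 := by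
            apply Sx_eq
            intro i
            rw [mem_Sx]
            omega
          rw [this]
          exact hS
        · have : Sx x k = ∅ := by
            apply Sx_eq
            intro i
            have h := h2 i
            simp only [Finset.notMem_empty, iff_false]
            omega
          rw [this]
          exact empty_mem
    · refine ⟨1, fun i => ?_, ?_, fun k => ?_⟩
      · have h := h2 i
        unfold Int.ModEq
        omega
      · unfold Int.ModEq
        omega
      · show Sx x k ∈ Supp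
        have hk4 : k % 4 = 0 ∨ k % 4 = 1 ∨ k % 4 = 2 ∨ k % 4 = 3 := by omega
        rcases hk4 with hk | hk | hk | hk
        · have : Sx x k = ∅ := by
            apply Sx_eq
            intro i
            have h := h2 i
            simp only [Finset.notMem_empty, iff_false]
            omega
          rw [this]
          exact empty_mem
        · have : Sx x k = Sx x 1 := by
            apply Sx_eq
            intro i
            rw [mem_Sx]
            omega
          rw [this]
          exact hS
        · have : Sx x k = ∅ := by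
            apply Sx_eq
            intro i
            have h := h2 i
            simp only [Finset.notMem_empty, iff_false]
            omega
          rw [this]
          exact empty_mem
        · have : Sx x k = (Sx x 1)ᶜ := by
            apply Sx_eq
            intro i
            rw [Finset.mem_compl, mem_Sx]
            have h := h2 i
            omega
          rw [this]
          exact compl_mem hS

theorem zero_mem_leechSet : (0 : GolayPt → ℤ) ∈ leechSet := by
  rw [mem_leechSet_iff]
  left
  refine ⟨fun i => by simp, by simp, ?_⟩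
  have : Sx (0 : GolayPt → ℤ) 2 = ∅ := by
    apply Sx_eq
    intro i
    simp
  rw [this]
  exact empty_mem

theorem neg_mem_leechSet {x : GolayPt → ℤ} (hx : x ∈ leechSet) : -x ∈ leechSet := by
  rw [mem_leechSet_iff] at hx ⊢
  rcases hx with ⟨h2, h8, hS⟩ | ⟨h2, h8, hS⟩
  · left
    refine ⟨fun i => ?_, ?_, ?_⟩
    · have h := h2 i
      simp only [Pi.neg_apply]
      omega
    · simp only [Pi.neg_apply, Finset.sum_neg_distrib]
      omega
    · have : Sx (-x) 2 = Sx x 2 := by
        apply Sx_eq
        intro i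
        rw [mem_Sx]
        simp only [Pi.neg_apply]
        omega
      rw [this]
      exact hS
  · right
    refine ⟨fun i => ?_, ?_, ?_⟩
    · have h := h2 i
      simp only [Pi.neg_apply]
      omega
    · simp only [Pi.neg_apply, Finset.sum_neg_distrib]
      omega
    · have : Sx (-x) 1 = (Sx x 1)ᶜ := by
        apply Sx_eq
        intro i
        rw [Finset.mem_compl, mem_Sx]
        have h := h2 i
        simp only [Pi.neg_apply]
        omega
      rw [this]
      exact compl_mem hS

theorem add_mem_leechSet {x y : GolayPt → ℤ} (hx : x ∈ leechSet) (hy : y ∈ leechSet) :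
    x + y ∈ leechSet := by
  rw [mem_leechSet_iff] at hx hy ⊢
  rcases hx with ⟨h2, h8, hS⟩ | ⟨h2, h8, hS⟩ <;> rcases hy with ⟨k2, k8, kS⟩ | ⟨k2, k8, kS⟩
  · left
    refine ⟨fun i => ?_, ?_, ?_⟩
    · have h := h2 i
      have k := k2 i
      simp only [Pi.add_apply]
      omega
    · simp only [Pi.add_apply, Finset.sum_add_distrib]
      omega
    · have : Sx (x + y) 2 = symmDiff (Sx x 2) (Sx y 2) := by
        apply Sx_eq
        intro i
        rw [Finset.mem_symmDiff, mem_Sx, mem_Sx]
        have h := h2 i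
        have k := k2 i
        simp only [Pi.add_apply]
        omega
      rw [this]
      exact symmDiff_mem hS kS
  · right
    refine ⟨fun i => ?_, ?_, ?_⟩
    · have h := h2 i
      have k := k2 i
      simp only [Pi.add_apply]
      omega
    · simp only [Pi.add_apply, Finset.sum_add_distrib]
      omega
    · have : Sx (x + y) 1 = symmDiff (Sx x 2) (Sx y 1) := by
        apply Sx_eq
        intro i
        rw [Finset.mem_symmDiff, mem_Sx, mem_Sx]
        have h := h2 i
        have k := k2 i
        simp only [Pi.add_apply]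
        omega
      rw [this]
      exact symmDiff_mem hS kS
  · right
    refine ⟨fun i => ?_, ?_, ?_⟩
    · have h := h2 i
      have k := k2 i
      simp only [Pi.add_apply]
      omega
    · simp only [Pi.add_apply, Finset.sum_add_distrib]
      omega
    · have : Sx (x + y) 1 = symmDiff (Sx x 1) (Sx y 2) := by
        apply Sx_eq
        intro i
        rw [Finset.mem_symmDiff, mem_Sx, mem_Sx]
        have h := h2 i
        have k := k2 i
        simp only [Pi.add_apply]
        omega
      rw [this]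
      exact symmDiff_mem hS kS
  · left
    refine ⟨fun i => ?_, ?_, ?_⟩
    · have h := h2 i
      have k := k2 i
      simp only [Pi.add_apply]
      omega
    · simp only [Pi.add_apply, Finset.sum_add_distrib]
      omega
    · have : Sx (x + y) 2 = (symmDiff (Sx x 1) (Sx y 1))ᶜ := by
        apply Sx_eq
        intro i
        rw [Finset.mem_compl, Finset.mem_symmDiff, mem_Sx, mem_Sx]
        have h := h2 i
        have k := k2 i
        simp only [Pi.add_apply]
        omega
      rw [this]
      exact compl_mem (symmDiff_mem hS kS)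

theorem leechLattice_eq : (leechLattice : Set (GolayPt → ℤ)) = leechSet := by
  apply Set.Subset.antisymm
  · intro x hx
    have hx' : x ∈ AddSubgroup.closure leechSet := hx
    clear hx
    induction hx' using AddSubgroup.closure_induction with
    | mem y hy => exact hy
    | zero => exact zero_mem_leechSet
    | add y z _ _ hy hz => exact add_mem_leechSet hy hz
    | neg y _ hy => exact neg_mem_leechSet hy
  · exact AddSubgroup.subset_closure

theorem mem_leechLattice_iff (x : GolayPt → ℤ) :
    x ∈ leechLattice ↔ IsEvenVec x ∨ IsOddVec x := by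
  rw [← mem_leechSet_iff, ← leechLattice_eq]
  rfl


theorem card_golayPt : Fintype.card GolayPt = 24 := by decide

theorem sum_indicator (A : Finset GolayPt) (c : ℤ) :
    ∑ i : GolayPt, (if i ∈ A then c else 0) = c * (A.card : ℤ) := by
  rw [Finset.sum_ite_mem, Finset.univ_inter, Finset.sum_const, nsmul_eq_mul, mul_comm]

theorem sqNorm_dvd_of_even {x : GolayPt → ℤ} (h : IsEvenVec x) : (16 : ℤ) ∣ sqNorm x := by
  obtain ⟨h2, h8, hS⟩ := h
  unfold sqNorm
  have hterm : ∀ i : GolayPt, (16 : ℤ) ∣ x i ^ 2 - (if i ∈ Sx x 2 then 4 else 0) := by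
    intro i
    have hi := h2 i
    by_cases hm : i ∈ Sx x 2
    · rw [if_pos hm]
      rw [mem_Sx] at hm
      obtain ⟨a, ha⟩ : ∃ a : ℤ, x i = 4 * a + 2 := ⟨x i / 4, by omega⟩
      rw [ha]
      exact ⟨a ^ 2 + a, by ring⟩
    · rw [if_neg hm]
      rw [mem_Sx] at hm
      obtain ⟨a, ha⟩ : ∃ a : ℤ, x i = 4 * a := ⟨x i / 4, by omega⟩
      rw [ha]
      exact ⟨a ^ 2, by ring⟩
  have hsum : ∑ i, x i ^ 2 = ∑ i, (x i ^ 2 - (if i ∈ Sx x 2 then 4 else 0))
      + 4 * ((Sx x 2).card : ℤ) := by
    rw [Finset.sum_sub_distrib, sum_indicator]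
    ring
  rw [hsum]
  apply dvd_add (Finset.dvd_sum (fun i _ => hterm i))
  obtain ⟨n, hn⟩ := four_dvd_card hS
  rw [hn]
  exact ⟨n, by push_cast; ring⟩

theorem sqNorm_dvd_of_odd {x : GolayPt → ℤ} (h : IsOddVec x) : (16 : ℤ) ∣ sqNorm x := by
  obtain ⟨h2, h8, hS⟩ := h
  unfold sqNorm
  have hterm : ∀ i : GolayPt,
      (16 : ℤ) ∣ x i ^ 2 - 2 * x i - 3 + (if i ∈ Sx x 1 then 4 else 0) := by
    intro i
    have hi := h2 i
    by_cases hm : i ∈ Sx x 1
    · rw [if_pos hm]
      rw [mem_Sx] at hm
      obtain ⟨a, ha⟩ : ∃ a : ℤ, x i = 4 * a + 1 := ⟨x i / 4, by omega⟩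
      rw [ha]
      exact ⟨a ^ 2, by ring⟩
    · rw [if_neg hm]
      rw [mem_Sx] at hm
      obtain ⟨a, ha⟩ : ∃ a : ℤ, x i = 4 * a + 3 := ⟨x i / 4, by omega⟩
      rw [ha]
      exact ⟨a ^ 2 + a, by ring⟩
  have h3 : ∑ _i : GolayPt, (3 : ℤ) = 72 := by
    rw [Finset.sum_const, Finset.card_univ, card_golayPt]
    rfl
  have hsum : ∑ i, x i ^ 2 = ∑ i, (x i ^ 2 - 2 * x i - 3 + (if i ∈ Sx x 1 then 4 else 0))
      + 2 * ∑ i, x i + 72 - 4 * ((Sx x 1).card : ℤ) := by
    rw [Finset.sum_add_distrib, Finset.sum_sub_distrib, Finset.sum_sub_distrib, sum_indicator,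
      h3, ← Finset.mul_sum]
    ring
  rw [hsum]
  obtain ⟨T, hT⟩ := Finset.dvd_sum (fun i (_ : i ∈ Finset.univ) => hterm i)
  obtain ⟨n, hn⟩ := four_dvd_card hS
  rw [hT, hn]
  push_cast
  omega

theorem sqNorm_dvd {x : GolayPt → ℤ} (hx : x ∈ leechLattice) : (16 : ℤ) ∣ sqNorm x := by
  rcases (mem_leechLattice_iff x).mp hx with h | h
  · exact sqNorm_dvd_of_even h
  · exact sqNorm_dvd_of_odd h

theorem sqNorm_ge_of_odd {x : GolayPt → ℤ} (h : IsOddVec x) : 32 ≤ sqNorm x := by
  have hd := sqNorm_dvd_of_odd h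
  have h24 : (24 : ℤ) ≤ sqNorm x := by
    unfold sqNorm
    have h1 : ∀ i : GolayPt, (1 : ℤ) ≤ x i ^ 2 := by
      intro i
      have hi := h.1 i
      have hne : x i ≠ 0 := by omega
      have hpos : 0 < x i ^ 2 := by positivity
      omega
    calc (24 : ℤ) = ∑ _i : GolayPt, (1 : ℤ) := by
          rw [Finset.sum_const, Finset.card_univ, card_golayPt]; rfl
      _ ≤ ∑ i, x i ^ 2 := Finset.sum_le_sum (fun i _ => h1 i)
  obtain ⟨q, hq⟩ := hd
  omega

theorem sqNorm_ge_of_even {x : GolayPt → ℤ} (h : IsEvenVec x) (h0 : x ≠ 0) :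
    32 ≤ sqNorm x := by
  classical
  obtain ⟨h2, h8, hS⟩ := h
  unfold sqNorm
  have hnn : ∀ i : GolayPt, 0 ≤ x i ^ 2 := fun i => sq_nonneg _
  by_cases hA : Sx x 2 = ∅
  · have h4 : ∀ i, x i % 4 = 0 := by
      intro i
      have hi := h2 i
      have hni : i ∉ Sx x 2 := by rw [hA]; exact Finset.notMem_empty i
      rw [mem_Sx] at hni
      omega
    obtain ⟨j, hj⟩ : ∃ j, x j ≠ 0 := by
      by_contra hcon
      apply h0
      funext i
      by_contra hi
      exact hcon ⟨i, hi⟩
    have hj16 : 16 ≤ x j ^ 2 := by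
      have h4j := h4 j
      have hor : x j ≤ -4 ∨ 4 ≤ x j := by omega
      rcases hor with h | h <;> nlinarith
    by_cases hother : ∃ j', j' ≠ j ∧ x j' ≠ 0
    · obtain ⟨j', hjj', hj'⟩ := hother
      have hj'16 : 16 ≤ x j' ^ 2 := by
        have h4j := h4 j'
        have hor : x j' ≤ -4 ∨ 4 ≤ x j' := by omega
        rcases hor with h | h <;> nlinarith
      have hpair : ∑ i ∈ ({j, j'} : Finset GolayPt), x i ^ 2 ≤ ∑ i, x i ^ 2 :=
        Finset.sum_le_sum_of_subset_of_nonneg (Finset.subset_univ _) (fun i _ _ => hnn i)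
      rw [Finset.sum_pair (Ne.symm hjj')] at hpair
      omega
    · have hsum : ∑ i, x i = x j := by
        apply Finset.sum_eq_single j
        · intro b _ hb
          by_contra hxb
          exact hother ⟨b, hb, hxb⟩
        · intro h
          exact absurd (Finset.mem_univ j) h
      rw [hsum] at h8
      have hor : x j ≤ -8 ∨ 8 ≤ x j := by omega
      have hj64 : 64 ≤ x j ^ 2 := by rcases hor with h | h <;> nlinarith
      have hle := Finset.single_le_sum (f := fun i => x i ^ 2) (fun i _ => hnn i)
        (Finset.mem_univ j)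
      omega
  · have h8c := eight_le_card hS hA
    have hge : ∀ i ∈ Sx x 2, (4 : ℤ) ≤ x i ^ 2 := by
      intro i hi
      rw [mem_Sx] at hi
      have hor : x i ≤ -2 ∨ 2 ≤ x i := by omega
      rcases hor with h | h <;> nlinarith
    have h1 : ∑ _i ∈ Sx x 2, (4 : ℤ) ≤ ∑ i ∈ Sx x 2, x i ^ 2 := Finset.sum_le_sum hge
    have h2' : ∑ i ∈ Sx x 2, x i ^ 2 ≤ ∑ i, x i ^ 2 :=
      Finset.sum_le_sum_of_subset_of_nonneg (Finset.subset_univ _) (fun i _ _ => hnn i)
    rw [Finset.sum_const, nsmul_eq_mul] at h1
    have h8' : (8 : ℤ) ≤ ((Sx x 2).card : ℤ) := by exact_mod_cast h8c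
    omega

theorem sqNorm_ge {x : GolayPt → ℤ} (hx : x ∈ leechLattice) (h0 : x ≠ 0) : 32 ≤ sqNorm x := by
  rcases (mem_leechLattice_iff x).mp hx with h | h
  · exact sqNorm_ge_of_even h h0
  · exact sqNorm_ge_of_odd h

end Cfsg.Agent.Lib_lead_Leech
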