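import Mathlib
import Cfsg.Prelude.Def_Sporadic_a
import Cfsg.Agent.Lib_lead_OrbDod
import Cfsg.Agent.Lib_lead_Coatom
import Cfsg.Agent.Lib_lead_Leech

/-! The stabilizer of a pair of complementary dodecads is a maximal subgroup. -/

set_option autoImplicit false

namespace Cfsg.Agent.Lib_lead_DodPair

open Cfsg Cfsg.Agent.Lib_lead_Golay Cfsg.Agent.Lib_lead_GolayPerm Cfsg.Agent.Lib_lead_M24
  Cfsg.Agent.Lib_lead_M24Chain
open scoped Pointwise

theorem compl_dod {d : Finset GolayPt} (hd : d ∈ dodecads) : dᶜ ∈ dodecads := by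
  refine ⟨Cfsg.Agent.Lib_lead_Leech.compl_mem hd.1, ?_⟩
  have h24 : Fintype.card GolayPt = 24 := by decide
  rw [Finset.card_compl, hd.2, h24]

theorem inter_compl (d e : Finset GolayPt) (hd : d.card = 12) :
    (d ∩ eᶜ).card = 12 - (d ∩ e).card := by
  have h := Finset.card_sdiff_add_card_inter d e
  rw [← Finset.sdiff_eq_inter_compl]
  omega

/-- the pair of a set and its complement -/
def pr (e : Finset GolayPt) : Finset (Finset GolayPt) := {e, eᶜ}

theorem mem_pr (a e : Finset GolayPt) : a ∈ pr e ↔ a = e ∨ a = eᶜ := by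
  unfold pr
  rw [Finset.mem_insert, Finset.mem_singleton]

theorem pr_eq {e f : Finset GolayPt} (h : pr e = pr f) : e = f ∨ e = fᶜ := by
  rw [← mem_pr, ← h, mem_pr]
  exact Or.inl rfl

theorem pr_compl (e : Finset GolayPt) : pr eᶜ = pr e := by
  unfold pr
  rw [compl_compl, Finset.pair_comm]

theorem smul_compl (g : Equiv.Perm GolayPt) (e : Finset GolayPt) : g • eᶜ = (g • e)ᶜ := by
  ext p
  rw [Finset.mem_compl, ← Finset.inv_smul_mem_iff, ← Finset.inv_smul_mem_iff, Finset.mem_compl]

theorem smul_pr (g : Equiv.Perm GolayPt) (e : Finset GolayPt) : g • pr e = pr (g • e) := by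
  unfold pr
  rw [Finset.smul_finset_insert, Finset.smul_finset_singleton, smul_compl]

theorem card_pr (e : Finset GolayPt) : (pr e).card = 2 := by
  unfold pr
  apply Finset.card_pair
  intro h
  have h0 : ptN 0 ∈ e ↔ ptN 0 ∈ eᶜ := by rw [← h]
  rw [Finset.mem_compl] at h0
  tauto

open Classical in
/-- the dodecads meeting `d` in `j` points -/
noncomputable def DF (d : Finset GolayPt) (j : ℕ) : Finset (Finset GolayPt) :=
  Finset.univ.filter (fun e => e ∈ dodecads ∧ (d ∩ e).card = j)

theorem mem_DF (d e : Finset GolayPt) (j : ℕ) :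
    e ∈ DF d j ↔ e ∈ dodecads ∧ (d ∩ e).card = j := by
  unfold DF
  simp

theorem card_DF (d : Finset GolayPt) (j : ℕ) :
    (DF d j).card = {d' : Finset GolayPt | d' ∈ dodecads ∧ (d ∩ d').card = j}.ncard := by
  rw [← Set.ncard_coe_finset]
  congr 1
  ext e
  rw [Finset.mem_coe, mem_DF]
  rfl

/-- the two classes of pairs -/
noncomputable def ClP (d : Finset GolayPt) (j : Fin 2) : Finset (Finset (Finset GolayPt)) :=
  (DF d (4 + 2 * j.val)).image pr

theorem mem_ClP (d : Finset GolayPt) (j : Fin 2) (x : Finset (Finset GolayPt)) :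
    x ∈ ClP d j ↔ ∃ e ∈ dodecads, (d ∩ e).card = 4 + 2 * j.val ∧ pr e = x := by
  unfold ClP
  rw [Finset.mem_image]
  constructor
  · rintro ⟨e, he, rfl⟩
    rw [mem_DF] at he
    exact ⟨e, he.1, he.2, rfl⟩
  · rintro ⟨e, he, hc, rfl⟩
    exact ⟨e, (mem_DF _ _ _).mpr ⟨he, hc⟩, rfl⟩

theorem card_ClP (d : Finset GolayPt) (hd : d ∈ dodecads) (j : Fin 2) :
    (ClP d j).card = ![495, 792] j := by
  classical
  have h12 : d.card = 12 := hd.2
  obtain ⟨-, h4, h6, -⟩ := Cfsg.Agent.Lib_lead_OrbDod.inter_thm d hd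
  fin_cases j
  · change ((DF d 4).image pr).card = 495
    rw [Finset.card_image_of_injOn, card_DF, h4]
    intro e he f hf hef
    rw [Finset.mem_coe, mem_DF] at he hf
    rcases pr_eq hef with h | h
    · exact h
    · exfalso
      have h1 := inter_compl d f h12
      rw [← h] at h1
      omega
  · change ((DF d 6).image pr).card = 792
    have hfib := Finset.card_eq_sum_card_fiberwise (f := pr) (s := DF d 6)
      (t := (DF d 6).image pr) (fun e he => Finset.mem_image_of_mem pr he)
    have h2 : ∀ b ∈ (DF d 6).image pr, ((DF d 6).filter (fun a => pr a = b)).card = 2 := by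
      intro b hb
      rw [Finset.mem_image] at hb
      obtain ⟨e, he, rfl⟩ := hb
      rw [mem_DF] at he
      have hfe : (DF d 6).filter (fun a => pr a = pr e) = pr e := by
        ext a
        rw [Finset.mem_filter, mem_DF, mem_pr]
        constructor
        · rintro ⟨-, h⟩
          exact pr_eq h
        · rintro (rfl | rfl)
          · exact ⟨he, rfl⟩
          · refine ⟨⟨compl_dod he.1, ?_⟩, pr_compl e⟩
            rw [inter_compl d e h12, he.2]
      rw [hfe, card_pr]
    rw [Finset.sum_congr rfl h2, Finset.sum_const, card_DF, h6, smul_eq_mul] at hfib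
    omega

theorem hdiv2 : ∀ J : Finset (Fin 2), (1 + ∑ j ∈ J, ![495, 792] j) ∣
    (1 + ∑ j, ![495, 792] j) → J = ∅ ∨ J = Finset.univ := by decide

set_option maxHeartbeats 400000 in
/-- the stabilizer of a pair of complementary dodecads is a maximal subgroup -/
theorem dodpair_coatom (d : Finset GolayPt) (hd : d ∈ dodecads) :
    IsCoatom (MulAction.stabilizer M24 ({d, dᶜ} : Finset (Finset GolayPt))) := by
  classical
  have h12 : d.card = 12 := hd.2
  obtain ⟨hsizes, -, -, -⟩ := Cfsg.Agent.Lib_lead_OrbDod.inter_thm d hd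
  apply Cfsg.Agent.Lib_lead_Coatom.coatom_of_orbits (pr d) (ClP d) ![495, 792] (card_ClP d hd)
  · rintro x ⟨g, rfl⟩ hne
    have hx : g • pr d = pr ((g : Equiv.Perm GolayPt) • d) := smul_pr _ _
    have hed : (g : Equiv.Perm GolayPt) • d ∈ dodecads := smul_mem_weight g.2 hd
    have hne1 : (g : Equiv.Perm GolayPt) • d ≠ d := by
      intro h
      apply hne
      show g • pr d = pr d
      rw [hx, h]
    have hne2 : (g : Equiv.Perm GolayPt) • d ≠ dᶜ := by
      intro h
      apply hne
      show g • pr d = pr d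
      rw [hx, h, pr_compl]
    have e12 : ((g : Equiv.Perm GolayPt) • d).card = 12 := hed.2
    rcases hsizes _ hed hne1 with h | h | h | h
    · exfalso
      apply hne2
      apply Finset.eq_of_subset_of_card_le
      · intro p hp
        rw [Finset.mem_compl]
        intro hpd
        have : p ∈ d ∩ (g : Equiv.Perm GolayPt) • d := Finset.mem_inter.mpr ⟨hpd, hp⟩
        rw [Finset.card_eq_zero] at h
        rw [h] at this
        exact absurd this (Finset.notMem_empty _)
      · rw [(compl_dod hd).2, e12]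
    · exact ⟨0, (mem_ClP _ _ _).mpr ⟨_, hed, h, hx.symm⟩⟩
    · exact ⟨1, (mem_ClP _ _ _).mpr ⟨_, hed, h, hx.symm⟩⟩
    · refine ⟨0, (mem_ClP _ _ _).mpr ⟨_, compl_dod hed, ?_, (pr_compl _).trans hx.symm⟩⟩
      rw [inter_compl d _ h12, h]
      rfl
  · intro j x hx
    obtain ⟨e, hed, hc, rfl⟩ := (mem_ClP _ _ _).mp hx
    refine ⟨?_, ?_⟩
    · obtain ⟨g, hg⟩ := Cfsg.Agent.Lib_lead_M24Data.dodecads_trans d e hd hed
      have hg' : (g : Equiv.Perm GolayPt) • d = e := hg
      exact ⟨g, (smul_pr _ _).trans (by rw [hg'])⟩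
    · intro h
      have hj := j.2
      rcases pr_eq h with h1 | h1
      · rw [h1, Finset.inter_self, h12] at hc
        omega
      · rw [h1, inter_compl d d h12, Finset.inter_self, h12] at hc
        omega
  · intro i j hij
    rw [Finset.disjoint_left]
    intro x hxi hxj
    apply hij
    obtain ⟨e, hed, hc, rfl⟩ := (mem_ClP _ _ _).mp hxi
    obtain ⟨f, hfd, hc', h⟩ := (mem_ClP _ _ _).mp hxj
    have hi := i.2
    have hj := j.2
    ext
    rcases pr_eq h with rfl | rfl
    · omega
    · rw [inter_compl d e h12] at hc'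
      omega
  · intro j x hx y hy
    obtain ⟨e, hed, hc, rfl⟩ := (mem_ClP _ _ _).mp hx
    obtain ⟨f, hfd, hc', rfl⟩ := (mem_ClP _ _ _).mp hy
    obtain ⟨g, hg, hgd, hge⟩ := Cfsg.Agent.Lib_lead_OrbDod.orbit_thm d e f hd hed hfd
      (hc.trans hc'.symm)
    exact ⟨⟨g, hg⟩, (smul_pr _ _).trans (by rw [hgd]), (smul_pr _ _).trans (by rw [hge])⟩
  · exact hdiv2
  · decide

end Cfsg.Agent.Lib_lead_DodPair
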