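import Mathlib
import Cfsg.Prelude.Def_SporadicCombinatorics
import Cfsg.Agent.Lib_lead_Cent

/-! Enumerating the elements of the group of the binary Golay code with a decidable property,
through the cosets of the pointwise stabilizer of five points. -/

set_option autoImplicit false

namespace Cfsg.Agent.Lib_lead_Enum

open Cfsg Cfsg.Agent.Lib_lead_Golay Cfsg.Agent.Lib_lead_GolayPerm Cfsg.Agent.Lib_lead_M24
  Cfsg.Agent.Lib_lead_M24Chain Cfsg.Agent.Lib_lead_Cls Cfsg.Agent.Lib_lead_ClsData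
  Cfsg.Agent.Lib_lead_ObjOrb
open scoped Pointwise

/-- the permutation `g` is given on indices by `f` -/
def Desc (g : Equiv.Perm GolayPt) (f : ℕ → ℕ) : Prop :=
  (∀ j < 24, g (ptN j) = ptN (f j)) ∧ ∀ j < 24, f j < 24

theorem desc_mul {g g' : Equiv.Perm GolayPt} {f f' : ℕ → ℕ} (h : Desc g f) (h' : Desc g' f') :
    Desc (g * g') (fun j => f (f' j)) := by
  refine ⟨fun j hj => ?_, fun j hj => h.2 _ (h'.2 j hj)⟩
  rw [Equiv.Perm.mul_apply, h'.1 j hj, h.1 _ (h'.2 j hj)]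

theorem desc_P {X : Tb} (hX : genOK X = true) : Desc (P X) (ap X) :=
  ⟨fun j hj => P_apply hX j hj, fun j hj => ap_lt hX j hj⟩

theorem desc_PP {X E : Tb} (hX : genOK X = true) (hE : genOK E = true) :
    Desc (P X * P E) (cmp X E) :=
  ⟨fun j hj => P_mul_apply hX hE j hj, fun j hj => cmp_lt hX hE j hj⟩

theorem desc_apply {g : Equiv.Perm GolayPt} {f : ℕ → ℕ} (h : Desc g f) (x : GolayPt) :
    g x = ptN (f (idx x)) := by
  have h2 := h.1 (idx x) (idx_lt x)
  rwa [ptN_idx] at h2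

/-- `f` maps the set with mask `m` into itself -/
def fixSet (f : ℕ → ℕ) (m : ℕ) : Bool :=
  (List.range 24).all fun j => !m.testBit j || m.testBit (f j)

theorem fixSet_iff {g : Equiv.Perm GolayPt} {f : ℕ → ℕ} (h : Desc g f) (m : ℕ) :
    g • fsOf m = fsOf m ↔ fixSet f m = true := by
  unfold fixSet
  rw [List.all_eq_true]
  constructor
  · intro hg j hj
    rw [List.mem_range] at hj
    by_cases hb : m.testBit j = true
    · have h1 : g (ptN j) ∈ g • fsOf m :=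
        Finset.smul_mem_smul_finset (by rw [mem_fsOf, idx_ptN' j hj]; exact hb)
      rw [hg, h.1 j hj, mem_fsOf, idx_ptN' _ (h.2 j hj)] at h1
      rw [h1, Bool.or_true]
    · rw [Bool.not_eq_true] at hb
      rw [hb]
      rfl
  · intro hall
    apply Finset.eq_of_subset_of_card_le
    · intro y hy
      obtain ⟨x, hx, rfl⟩ := Finset.mem_smul_finset.mp hy
      rw [mem_fsOf] at hx
      have h1 := hall (idx x) (List.mem_range.mpr (idx_lt x))
      rw [hx] at h1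
      simp only [Bool.not_true, Bool.false_or] at h1
      have h2 : g • x = ptN (f (idx x)) := desc_apply h x
      rw [h2, mem_fsOf, idx_ptN' _ (h.2 _ (idx_lt x))]
      exact h1
    · rw [Finset.card_smul_finset]

/-- `f` maps every set of the list into itself -/
def fixAll (l : List ℕ) (f : ℕ → ℕ) : Bool := l.all (fixSet f)

theorem fixAll_iff {g : Equiv.Perm GolayPt} {f : ℕ → ℕ} (h : Desc g f) (l : List ℕ) :
    (∀ t ∈ fin l, g • t = t) ↔ fixAll l f = true := by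
  unfold fixAll
  rw [List.all_eq_true]
  constructor
  · intro hg m hm
    exact (fixSet_iff h m).mp (hg _ ((mem_fin _ _).mpr ⟨m, hm, rfl⟩))
  · intro hall t ht
    obtain ⟨m, hm, rfl⟩ := (mem_fin _ _).mp ht
    exact (fixSet_iff h m).mpr (hall m hm)

/-- `f` is an involution or the identity -/
def invo (f : ℕ → ℕ) : Bool := (List.range 24).all fun j => f (f j) == j

theorem invo_iff {g : Equiv.Perm GolayPt} {f : ℕ → ℕ} (h : Desc g f) :
    g * g = 1 ↔ invo f = true := by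
  unfold invo
  rw [List.all_eq_true]
  constructor
  · intro hg j hj
    rw [List.mem_range] at hj
    rw [beq_iff_eq]
    have h1 : (g * g) (ptN j) = ptN j := by rw [hg]; rfl
    rw [(desc_mul h h).1 j hj] at h1
    exact ptN_inj (h.2 _ (h.2 j hj)) hj h1
  · intro hall
    apply ext_pt
    intro j hj
    have h1 := hall j (List.mem_range.mpr hj)
    rw [beq_iff_eq] at h1
    rw [(desc_mul h h).1 j hj]
    show ptN (f (f j)) = ptN j
    rw [h1]

/-- `f` commutes with the table `t` -/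
def commF (t : Tb) (f : ℕ → ℕ) : Bool := (List.range 24).all fun j => f (ap t j) == ap t (f j)

theorem commF_iff {g : Equiv.Perm GolayPt} {f : ℕ → ℕ} (h : Desc g f) {t : Tb}
    (ht : genOK t = true) : g * P t = P t * g ↔ commF t f = true := by
  unfold commF
  rw [List.all_eq_true]
  have h1 := desc_mul h (desc_P ht)
  have h2 := desc_mul (desc_P ht) h
  constructor
  · intro hg j hj
    rw [List.mem_range] at hj
    rw [beq_iff_eq]
    have h3 : (g * P t) (ptN j) = (P t * g) (ptN j) := by rw [hg]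
    rw [h1.1 j hj, h2.1 j hj] at h3
    exact ptN_inj (h1.2 j hj) (h2.2 j hj) h3
  · intro hall
    apply ext_pt
    intro j hj
    have h3 := hall j (List.mem_range.mpr hj)
    rw [beq_iff_eq] at h3
    rw [h1.1 j hj, h2.1 j hj]
    show ptN (f (ap t j)) = ptN (ap t (f j))
    rw [h3]

/-- the composite table with the given indices -/
def eltF (Xs : List Tb) (τ : ℕ × ℕ) (j : ℕ) : ℕ :=
  cmp (Xs.getD τ.1 ([], [])) (E48.getD τ.2 ([], [])) j

/-- the element with the given indices -/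
def elt (Xs : List Tb) (τ : ℕ × ℕ) : Equiv.Perm GolayPt :=
  P (Xs.getD τ.1 ([], [])) * P (E48.getD τ.2 ([], []))

/-- the indices passing a test -/
def sel (φ : (ℕ → ℕ) → Bool) (Xs : List Tb) : List (ℕ × ℕ) :=
  (List.range Xs.length).flatMap fun k =>
    ((List.range 48).filter fun e => φ (eltF Xs (k, e))).map fun e => (k, e)

theorem mem_sel (φ : (ℕ → ℕ) → Bool) (Xs : List Tb) (τ : ℕ × ℕ) :
    τ ∈ sel φ Xs ↔ τ.1 < Xs.length ∧ τ.2 < 48 ∧ φ (eltF Xs τ) = true := by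
  unfold sel
  rw [List.mem_flatMap]
  constructor
  · rintro ⟨k, hk, hτ⟩
    rw [List.mem_map] at hτ
    obtain ⟨e, he, rfl⟩ := hτ
    rw [List.mem_filter, List.mem_range] at he
    exact ⟨List.mem_range.mp hk, he.1, he.2⟩
  · rintro ⟨h1, h2, h3⟩
    refine ⟨τ.1, List.mem_range.mpr h1, ?_⟩
    rw [List.mem_map]
    exact ⟨τ.2, List.mem_filter.mpr ⟨List.mem_range.mpr h2, h3⟩, rfl⟩

/-- all tables of the list are valid and in the group -/
def allOK (Xs : List Tb) : Bool := Xs.all genOK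

theorem allOK_of {Xs : List Tb} (h : allOK Xs = true) (x : ℕ) (hx : x < Xs.length) :
    genOK (Xs.getD x ([], [])) = true := by
  unfold allOK at h
  rw [List.all_eq_true] at h
  apply h
  rw [List.getD_eq_getElem _ _ hx]
  exact List.getElem_mem hx

theorem elt_desc {Xs : List Tb} (hXs : allOK Xs = true) (τ : ℕ × ℕ) (h1 : τ.1 < Xs.length)
    (h2 : τ.2 < 48) : Desc (elt Xs τ) (eltF Xs τ) ∧ elt Xs τ ∈ M24 :=
  ⟨desc_PP (allOK_of hXs _ h1) (E48_ok _ h2),
    M24.mul_mem (P_mem (allOK_of hXs _ h1)) (P_mem (E48_ok _ h2))⟩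

/-- some table of the list has the given images of the five base points -/
def covers (Xs : List Tb) (a0 a2 a5 a6 a9 : ℕ) : Bool :=
  Xs.any fun X => (ap X 0 == a0) && (ap X 2 == a2) && (ap X 5 == a5) && (ap X 6 == a6) &&
    (ap X 9 == a9)

theorem enum {Xs : List Tb} (hXs : allOK Xs = true) (φ : (ℕ → ℕ) → Bool)
    (Φ : Equiv.Perm GolayPt → Prop)
    (hΦ : ∀ g f, g ∈ M24 → Desc g f → (Φ g ↔ φ f = true))
    (g : Equiv.Perm GolayPt) (hg : g ∈ M24) (hΦg : Φ g)
    (hcov : covers Xs (idx (g (ptN 0))) (idx (g (ptN 2))) (idx (g (ptN 5)))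
      (idx (g (ptN 6))) (idx (g (ptN 9))) = true) :
    ∃ τ ∈ sel φ Xs, g = elt Xs τ := by
  unfold covers at hcov
  rw [List.any_eq_true] at hcov
  obtain ⟨X, hX, hc⟩ := hcov
  simp only [Bool.and_eq_true, beq_iff_eq] at hc
  obtain ⟨⟨⟨⟨c0, c2⟩, c5⟩, c6⟩, c9⟩ := hc
  obtain ⟨k, hk, rfl⟩ : ∃ k < Xs.length, Xs.getD k ([], []) = X := by
    obtain ⟨i, hi, rfl⟩ := List.mem_iff_getElem.mp hX
    exact ⟨i, hi, by rw [List.getD_eq_getElem _ _ hi]⟩
  have hXok := allOK_of hXs k hk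
  obtain ⟨e, he, hge⟩ := coset48 E48 E48_ok E48_enum hg _ hXok
    (by rw [c0, ptN_idx]) (by rw [c2, ptN_idx]) (by rw [c5, ptN_idx]) (by rw [c6, ptN_idx])
    (by rw [c9, ptN_idx])
  refine ⟨(k, e), ?_, hge⟩
  rw [mem_sel]
  refine ⟨hk, he, ?_⟩
  have hd := (elt_desc hXs (k, e) hk he).1
  have hd' : Desc g (eltF Xs (k, e)) := by
    rw [hge]
    exact hd
  exact (hΦ g _ hg hd').mp hΦg

/-- the images of seven points under a function -/
def key7 (f : ℕ → ℕ) : List ℕ := [f 0, f 1, f 2, f 5, f 6, f 9, f 17]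

/-- the images of seven points under a permutation -/
def keyP (g : Equiv.Perm GolayPt) : List ℕ :=
  [idx (g (ptN 0)), idx (g (ptN 1)), idx (g (ptN 2)), idx (g (ptN 5)), idx (g (ptN 6)),
    idx (g (ptN 9)), idx (g (ptN 17))]

theorem keyP_of_desc {g : Equiv.Perm GolayPt} {f : ℕ → ℕ} (h : Desc g f) :
    keyP g = key7 f := by
  unfold keyP key7
  rw [h.1 0 (by norm_num), idx_ptN' _ (h.2 0 (by norm_num)),
    h.1 1 (by norm_num), idx_ptN' _ (h.2 1 (by norm_num)),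
    h.1 2 (by norm_num), idx_ptN' _ (h.2 2 (by norm_num)),
    h.1 5 (by norm_num), idx_ptN' _ (h.2 5 (by norm_num)),
    h.1 6 (by norm_num), idx_ptN' _ (h.2 6 (by norm_num)),
    h.1 9 (by norm_num), idx_ptN' _ (h.2 9 (by norm_num)),
    h.1 17 (by norm_num), idx_ptN' _ (h.2 17 (by norm_num))]

theorem nodup_elt {Xs : List Tb} (hXs : allOK Xs = true) (φ : (ℕ → ℕ) → Bool)
    (hnd : ((sel φ Xs).map (fun τ => key7 (eltF Xs τ))).Nodup) :
    ((sel φ Xs).map (elt Xs)).Nodup := by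
  have h : (sel φ Xs).map (fun τ => key7 (eltF Xs τ)) = ((sel φ Xs).map (elt Xs)).map keyP := by
    rw [List.map_map]
    apply List.map_congr_left
    intro τ hτ
    rw [mem_sel] at hτ
    exact (keyP_of_desc (elt_desc hXs τ hτ.1 hτ.2.1).1).symm
  rw [h] at hnd
  exact List.Nodup.of_map _ hnd

theorem set_eq {Xs : List Tb} (hXs : allOK Xs = true) (φ : (ℕ → ℕ) → Bool)
    (Φ : Equiv.Perm GolayPt → Prop)
    (hΦ : ∀ g f, g ∈ M24 → Desc g f → (Φ g ↔ φ f = true))
    (hcov : ∀ g ∈ M24, Φ g → covers Xs (idx (g (ptN 0))) (idx (g (ptN 2))) (idx (g (ptN 5)))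
      (idx (g (ptN 6))) (idx (g (ptN 9))) = true) :
    {g : Equiv.Perm GolayPt | g ∈ M24 ∧ Φ g} = {g | ∃ τ ∈ sel φ Xs, g = elt Xs τ} := by
  ext g
  constructor
  · rintro ⟨hg, hΦg⟩
    exact enum hXs φ Φ hΦ g hg hΦg (hcov g hg hΦg)
  · rintro ⟨τ, hτ, rfl⟩
    rw [mem_sel] at hτ
    obtain ⟨hd, hM⟩ := elt_desc hXs τ hτ.1 hτ.2.1
    exact ⟨hM, (hΦ _ _ hM hd).mpr hτ.2.2⟩

/-- the number of elements with the property -/
theorem ncard_eq {Xs : List Tb} (hXs : allOK Xs = true) (φ : (ℕ → ℕ) → Bool)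
    (Φ : Equiv.Perm GolayPt → Prop)
    (hΦ : ∀ g f, g ∈ M24 → Desc g f → (Φ g ↔ φ f = true))
    (hcov : ∀ g ∈ M24, Φ g → covers Xs (idx (g (ptN 0))) (idx (g (ptN 2))) (idx (g (ptN 5)))
      (idx (g (ptN 6))) (idx (g (ptN 9))) = true)
    (hnd : ((sel φ Xs).map (fun τ => key7 (eltF Xs τ))).Nodup) :
    {g : Equiv.Perm GolayPt | g ∈ M24 ∧ Φ g}.ncard = (sel φ Xs).length := by
  classical
  have h1 : {g : Equiv.Perm GolayPt | g ∈ M24 ∧ Φ g}
      = ↑(((sel φ Xs).map (elt Xs)).toFinset) := by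
    rw [set_eq hXs φ Φ hΦ hcov]
    ext g
    rw [Finset.mem_coe, List.mem_toFinset, List.mem_map]
    constructor
    · rintro ⟨τ, hτ, rfl⟩
      exact ⟨τ, hτ, rfl⟩
    · rintro ⟨τ, hτ, rfl⟩
      exact ⟨τ, hτ, rfl⟩
  rw [h1, Set.ncard_coe_finset, List.toFinset_card_of_nodup (nodup_elt hXs φ hnd),
    List.length_map]

/-- the number of elements with two properties, the second tested on the list of the first -/
theorem ncard_filter {Xs : List Tb} (hXs : allOK Xs = true) (φ : (ℕ → ℕ) → Bool)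
    (Φ : Equiv.Perm GolayPt → Prop)
    (hΦ : ∀ g f, g ∈ M24 → Desc g f → (Φ g ↔ φ f = true))
    (hcov : ∀ g ∈ M24, Φ g → covers Xs (idx (g (ptN 0))) (idx (g (ptN 2))) (idx (g (ptN 5)))
      (idx (g (ptN 6))) (idx (g (ptN 9))) = true)
    (hnd : ((sel φ Xs).map (fun τ => key7 (eltF Xs τ))).Nodup)
    (ψ : (ℕ → ℕ) → Bool) (Ψ : Equiv.Perm GolayPt → Prop)
    (hΨ : ∀ g f, g ∈ M24 → Desc g f → (Ψ g ↔ ψ f = true)) :
    {g : Equiv.Perm GolayPt | g ∈ M24 ∧ (Φ g ∧ Ψ g)}.ncard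
      = ((sel φ Xs).filter (fun τ => ψ (eltF Xs τ))).length := by
  classical
  have h1 : {g : Equiv.Perm GolayPt | g ∈ M24 ∧ (Φ g ∧ Ψ g)}
      = ↑((((sel φ Xs).filter (fun τ => ψ (eltF Xs τ))).map (elt Xs)).toFinset) := by
    ext g
    rw [Finset.mem_coe, List.mem_toFinset, List.mem_map]
    constructor
    · rintro ⟨hg, hΦg, hΨg⟩
      obtain ⟨τ, hτ, rfl⟩ := enum hXs φ Φ hΦ g hg hΦg (hcov g hg hΦg)
      refine ⟨τ, List.mem_filter.mpr ⟨hτ, ?_⟩, rfl⟩
      rw [mem_sel] at hτ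
      exact (hΨ _ _ hg (elt_desc hXs τ hτ.1 hτ.2.1).1).mp hΨg
    · rintro ⟨τ, hτ, rfl⟩
      rw [List.mem_filter, mem_sel] at hτ
      obtain ⟨hd, hM⟩ := elt_desc hXs τ hτ.1.1 hτ.1.2.1
      exact ⟨hM, (hΦ _ _ hM hd).mpr hτ.1.2.2, (hΨ _ _ hM hd).mpr hτ.2⟩
  have h2 : (((sel φ Xs).filter (fun τ => ψ (eltF Xs τ))).map (elt Xs)).Nodup :=
    List.Nodup.sublist (List.Sublist.map _ List.filter_sublist) (nodup_elt hXs φ hnd)
  rw [h1, Set.ncard_coe_finset, List.toFinset_card_of_nodup h2, List.length_map]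

/-- the elements with two properties are in the filtered list -/
theorem enum_filter {Xs : List Tb} (hXs : allOK Xs = true) (φ : (ℕ → ℕ) → Bool)
    (Φ : Equiv.Perm GolayPt → Prop)
    (hΦ : ∀ g f, g ∈ M24 → Desc g f → (Φ g ↔ φ f = true))
    (hcov : ∀ g ∈ M24, Φ g → covers Xs (idx (g (ptN 0))) (idx (g (ptN 2))) (idx (g (ptN 5)))
      (idx (g (ptN 6))) (idx (g (ptN 9))) = true)
    (ψ : (ℕ → ℕ) → Bool) (Ψ : Equiv.Perm GolayPt → Prop)
    (hΨ : ∀ g f, g ∈ M24 → Desc g f → (Ψ g ↔ ψ f = true))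
    (g : Equiv.Perm GolayPt) (hg : g ∈ M24) (hΦg : Φ g) (hΨg : Ψ g) :
    ∃ τ ∈ (sel φ Xs).filter (fun τ => ψ (eltF Xs τ)), g = elt Xs τ ∧ Desc g (eltF Xs τ) := by
  obtain ⟨τ, hτ, rfl⟩ := enum hXs φ Φ hΦ g hg hΦg (hcov g hg hΦg)
  have hτ' := (mem_sel _ _ _).mp hτ
  have hd := (elt_desc hXs τ hτ'.1 hτ'.2.1).1
  exact ⟨τ, List.mem_filter.mpr ⟨hτ, (hΨ _ _ hg hd).mp hΨg⟩, rfl, hd⟩

theorem idx_ne {g : Equiv.Perm GolayPt} {i j : ℕ} (hi : i < 24) (hj : j < 24) (hij : i ≠ j) :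
    idx (g (ptN i)) ≠ idx (g (ptN j)) := by
  intro h
  apply hij
  have h1 : g (ptN i) = g (ptN j) := by
    rw [← ptN_idx (g (ptN i)), h, ptN_idx]
  exact ptN_inj hi hj (g.injective h1)

/-- every tuple of distinct admissible images of the base points is covered -/
def covChk (Xs : List Tb) (l0 l2 l5 l6 l9 : List ℕ) : Bool :=
  l0.all fun a0 => l2.all fun a2 => l5.all fun a5 => l6.all fun a6 => l9.all fun a9 =>
    (a0 == a2 || a0 == a5 || a0 == a6 || a0 == a9 || a2 == a5 || a2 == a6 || a2 == a9 ||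
      a5 == a6 || a5 == a9 || a6 == a9) || covers Xs a0 a2 a5 a6 a9

theorem cov_of_chk {Xs : List Tb} {l0 l2 l5 l6 l9 : List ℕ}
    (h : covChk Xs l0 l2 l5 l6 l9 = true) (g : Equiv.Perm GolayPt)
    (h0 : idx (g (ptN 0)) ∈ l0) (h2 : idx (g (ptN 2)) ∈ l2) (h5 : idx (g (ptN 5)) ∈ l5)
    (h6 : idx (g (ptN 6)) ∈ l6) (h9 : idx (g (ptN 9)) ∈ l9) :
    covers Xs (idx (g (ptN 0))) (idx (g (ptN 2))) (idx (g (ptN 5)))
      (idx (g (ptN 6))) (idx (g (ptN 9))) = true := by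
  unfold covChk at h
  simp only [List.all_eq_true] at h
  have h1 := h _ h0 _ h2 _ h5 _ h6 _ h9
  have n02 := idx_ne (g := g) (i := 0) (j := 2) (by norm_num) (by norm_num) (by norm_num)
  have n05 := idx_ne (g := g) (i := 0) (j := 5) (by norm_num) (by norm_num) (by norm_num)
  have n06 := idx_ne (g := g) (i := 0) (j := 6) (by norm_num) (by norm_num) (by norm_num)
  have n09 := idx_ne (g := g) (i := 0) (j := 9) (by norm_num) (by norm_num) (by norm_num)
  have n25 := idx_ne (g := g) (i := 2) (j := 5) (by norm_num) (by norm_num) (by norm_num)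
  have n26 := idx_ne (g := g) (i := 2) (j := 6) (by norm_num) (by norm_num) (by norm_num)
  have n29 := idx_ne (g := g) (i := 2) (j := 9) (by norm_num) (by norm_num) (by norm_num)
  have n56 := idx_ne (g := g) (i := 5) (j := 6) (by norm_num) (by norm_num) (by norm_num)
  have n59 := idx_ne (g := g) (i := 5) (j := 9) (by norm_num) (by norm_num) (by norm_num)
  have n69 := idx_ne (g := g) (i := 6) (j := 9) (by norm_num) (by norm_num) (by norm_num)
  simpa [n02, n05, n06, n09, n25, n26, n29, n56, n59, n69] using h1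

/-- the image of a point of a set fixed by a permutation -/
theorem idx_mem_of_fix {g : Equiv.Perm GolayPt} {m : ℕ} (h : g • fsOf m = fsOf m) {j : ℕ}
    (hj : j < 24) (hb : m.testBit j = true) : m.testBit (idx (g (ptN j))) = true := by
  have h1 : g (ptN j) ∈ g • fsOf m :=
    Finset.smul_mem_smul_finset (by rw [mem_fsOf, idx_ptN' j hj]; exact hb)
  rw [h, mem_fsOf] at h1
  exact h1

/-- the listed elements commute pairwise -/
def commAll (Xs : List Tb) (L : List (ℕ × ℕ)) : Bool :=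
  L.all fun τ => L.all fun τ' => (List.range 24).all fun j =>
    eltF Xs τ (eltF Xs τ' j) == eltF Xs τ' (eltF Xs τ j)

theorem comm_of_all {Xs : List Tb} {L : List (ℕ × ℕ)} (h : commAll Xs L = true)
    {g g' : Equiv.Perm GolayPt} {τ τ' : ℕ × ℕ} (hτ : τ ∈ L) (hτ' : τ' ∈ L)
    (hd : Desc g (eltF Xs τ)) (hd' : Desc g' (eltF Xs τ')) : g * g' = g' * g := by
  unfold commAll at h
  simp only [List.all_eq_true, List.mem_range, beq_iff_eq] at h
  apply ext_pt
  intro j hj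
  rw [(desc_mul hd hd').1 j hj, (desc_mul hd' hd).1 j hj]
  show ptN (eltF Xs τ (eltF Xs τ' j)) = ptN (eltF Xs τ' (eltF Xs τ j))
  rw [h τ hτ τ' hτ' j hj]

end Cfsg.Agent.Lib_lead_Enum
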