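import Mathlib
import Cfsg.Prelude.Def_SporadicCombinatorics
import Cfsg.Agent.Lib_lead_Enum
import Cfsg.Agent.Lib_lead_M12Thm

/-! Enumerating the elements of the stabilizer of the root dodecad with a decidable property,
through the images of five points of the dodecad. -/

set_option autoImplicit false

namespace Cfsg.Agent.Lib_lead_EnumD

open Cfsg Cfsg.Agent.Lib_lead_Golay Cfsg.Agent.Lib_lead_GolayPerm Cfsg.Agent.Lib_lead_M24
  Cfsg.Agent.Lib_lead_M24Chain Cfsg.Agent.Lib_lead_Cls Cfsg.Agent.Lib_lead_Enum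
  Cfsg.Agent.Lib_lead_M12 Cfsg.Agent.Lib_lead_M12Data Cfsg.Agent.Lib_lead_M12Thm
open scoped Pointwise

theorem mem_stabD0 {g : Equiv.Perm GolayPt} (hg : g ∈ M24)
    (hd : g • fsOf 340831 = fsOf 340831) : g ∈ stabD 340831 0 :=
  ⟨hg, hd, fun j _ hbit => by simp at hbit⟩

/-- an element of the stabilizer of the root dodecad is determined by the images of five
points -/
theorem det5 {g h : Equiv.Perm GolayPt} (hg : g ∈ stabD 340831 0) (hh : h ∈ stabD 340831 0)
    (e : ∀ j < 5, g (ptN j) = h (ptN j)) : g = h := by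
  have hmem : h⁻¹ * g ∈ stabD 340831 31 := by
    have h0 := (stabD 340831 0).mul_mem ((stabD 340831 0).inv_mem hh) hg
    refine ⟨h0.1, h0.2.1, ?_⟩
    intro j hj hbit
    have hj5 : j < 5 := bit31 ⟨j, hj⟩ hbit
    rw [Equiv.Perm.mul_apply, e j hj5, Equiv.Perm.inv_def, Equiv.symm_apply_apply]
  rw [stab5, Subgroup.mem_bot] at hmem
  exact (inv_mul_eq_one.mp hmem).symm

/-- the tables are valid, in the group, and preserve the root dodecad -/
def allD (Xs : List Tb) : Bool := Xs.all fun X => genOK X && fixSet (ap X) 340831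

theorem allD_of {Xs : List Tb} (h : allD Xs = true) (k : ℕ) (hk : k < Xs.length) :
    genOK (Xs.getD k ([], [])) = true ∧ P (Xs.getD k ([], [])) ∈ stabD 340831 0 := by
  unfold allD at h
  rw [List.all_eq_true] at h
  have h1 := h (Xs.getD k ([], [])) (by
    rw [List.getD_eq_getElem _ _ hk]
    exact List.getElem_mem hk)
  rw [Bool.and_eq_true] at h1
  exact ⟨h1.1, mem_stabD0 (P_mem h1.1) ((fixSet_iff (desc_P h1.1) _).mpr h1.2)⟩

/-- some table of the list has the given images of the five base points -/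
def coversD (Xs : List Tb) (a0 a1 a2 a3 a4 : ℕ) : Bool :=
  Xs.any fun X => (ap X 0 == a0) && (ap X 1 == a1) && (ap X 2 == a2) && (ap X 3 == a3) &&
    (ap X 4 == a4)

/-- the indices of the tables passing a test -/
def selD (φ : (ℕ → ℕ) → Bool) (Xs : List Tb) : List ℕ :=
  (List.range Xs.length).filter fun k => φ (ap (Xs.getD k ([], [])))

theorem mem_selD (φ : (ℕ → ℕ) → Bool) (Xs : List Tb) (k : ℕ) :
    k ∈ selD φ Xs ↔ k < Xs.length ∧ φ (ap (Xs.getD k ([], []))) = true := by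
  unfold selD
  rw [List.mem_filter, List.mem_range]

theorem enumD {Xs : List Tb} (hXs : allD Xs = true) (φ : (ℕ → ℕ) → Bool)
    (Φ : Equiv.Perm GolayPt → Prop)
    (hΦ : ∀ g f, g ∈ M24 → Desc g f → (Φ g ↔ φ f = true))
    (g : Equiv.Perm GolayPt) (hg : g ∈ M24) (hgd : g • fsOf 340831 = fsOf 340831) (hΦg : Φ g)
    (hcov : coversD Xs (idx (g (ptN 0))) (idx (g (ptN 1))) (idx (g (ptN 2)))
      (idx (g (ptN 3))) (idx (g (ptN 4))) = true) :
    ∃ k ∈ selD φ Xs, g = P (Xs.getD k ([], [])) ∧ Desc g (ap (Xs.getD k ([], []))) := by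
  unfold coversD at hcov
  rw [List.any_eq_true] at hcov
  obtain ⟨X, hX, hc⟩ := hcov
  simp only [Bool.and_eq_true, beq_iff_eq] at hc
  obtain ⟨⟨⟨⟨c0, c1⟩, c2⟩, c3⟩, c4⟩ := hc
  obtain ⟨k, hk, rfl⟩ : ∃ k < Xs.length, Xs.getD k ([], []) = X := by
    obtain ⟨i, hi, rfl⟩ := List.mem_iff_getElem.mp hX
    exact ⟨i, hi, by rw [List.getD_eq_getElem _ _ hi]⟩
  obtain ⟨hXok, hXD⟩ := allD_of hXs k hk
  have hgP : g = P (Xs.getD k ([], [])) := by
    apply det5 (mem_stabD0 hg hgd) hXD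
    intro j hj
    rw [P_apply hXok j (by omega)]
    interval_cases j
    · rw [c0, ptN_idx]
    · rw [c1, ptN_idx]
    · rw [c2, ptN_idx]
    · rw [c3, ptN_idx]
    · rw [c4, ptN_idx]
  have hd : Desc g (ap (Xs.getD k ([], []))) := by
    rw [hgP]
    exact desc_P hXok
  exact ⟨k, (mem_selD _ _ _).mpr ⟨hk, (hΦ g _ hg hd).mp hΦg⟩, hgP, hd⟩

/-- the images of the five base points -/
def key5 (f : ℕ → ℕ) : List ℕ := [f 0, f 1, f 2, f 3, f 4]

theorem P_inj {Xs : List Tb} (hXs : allD Xs = true)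
    (hnd : (Xs.map (fun X => key5 (ap X))).Nodup) (k k' : ℕ) (hk : k < Xs.length)
    (hk' : k' < Xs.length) (h : P (Xs.getD k ([], [])) = P (Xs.getD k' ([], []))) : k = k' := by
  obtain ⟨h1, -⟩ := allD_of hXs k hk
  obtain ⟨h2, -⟩ := allD_of hXs k' hk'
  have hap : ∀ j < 24, ap (Xs.getD k ([], [])) j = ap (Xs.getD k' ([], [])) j := by
    intro j hj
    have e : P (Xs.getD k ([], [])) (ptN j) = P (Xs.getD k' ([], [])) (ptN j) := by rw [h]
    rw [P_apply h1 j hj, P_apply h2 j hj] at e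
    exact ptN_inj (ap_lt h1 j hj) (ap_lt h2 j hj) e
  have hkey : key5 (ap (Xs.getD k ([], []))) = key5 (ap (Xs.getD k' ([], []))) := by
    unfold key5
    rw [hap 0 (by norm_num), hap 1 (by norm_num), hap 2 (by norm_num), hap 3 (by norm_num),
      hap 4 (by norm_num)]
  rw [List.getD_eq_getElem _ _ hk, List.getD_eq_getElem _ _ hk'] at hkey
  have hk1 : k < (Xs.map (fun X => key5 (ap X))).length := by rw [List.length_map]; exact hk
  have hk1' : k' < (Xs.map (fun X => key5 (ap X))).length := by rw [List.length_map]; exact hk'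
  have h3 : (Xs.map (fun X => key5 (ap X)))[k] = (Xs.map (fun X => key5 (ap X)))[k'] := by
    rw [List.getElem_map, List.getElem_map]
    exact hkey
  exact (List.Nodup.getElem_inj_iff hnd).mp h3

/-- the number of elements of the stabilizer of the root dodecad with the property -/
theorem ncardD {Xs : List Tb} (hXs : allD Xs = true) (φ : (ℕ → ℕ) → Bool)
    (Φ : Equiv.Perm GolayPt → Prop)
    (hΦ : ∀ g f, g ∈ M24 → Desc g f → (Φ g ↔ φ f = true))
    (hcov : ∀ g ∈ M24, g • fsOf 340831 = fsOf 340831 → Φ g →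
      coversD Xs (idx (g (ptN 0))) (idx (g (ptN 1))) (idx (g (ptN 2)))
        (idx (g (ptN 3))) (idx (g (ptN 4))) = true)
    (hnd : (Xs.map (fun X => key5 (ap X))).Nodup) :
    {g : Equiv.Perm GolayPt | g ∈ M24 ∧ (g • fsOf 340831 = fsOf 340831 ∧ Φ g)}.ncard
      = (selD φ Xs).length := by
  classical
  have h1 : {g : Equiv.Perm GolayPt | g ∈ M24 ∧ (g • fsOf 340831 = fsOf 340831 ∧ Φ g)}
      = ↑(((selD φ Xs).map (fun k => P (Xs.getD k ([], [])))).toFinset) := by
    ext g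
    rw [Finset.mem_coe, List.mem_toFinset, List.mem_map]
    constructor
    · rintro ⟨hg, hgd, hΦg⟩
      obtain ⟨k, hk, hgP, -⟩ := enumD hXs φ Φ hΦ g hg hgd hΦg (hcov g hg hgd hΦg)
      exact ⟨k, hk, hgP.symm⟩
    · rintro ⟨k, hk, rfl⟩
      rw [mem_selD] at hk
      obtain ⟨hok, hD⟩ := allD_of hXs k hk.1
      exact ⟨hD.1, hD.2.1, (hΦ _ _ hD.1 (desc_P hok)).mpr hk.2⟩
  have h2 : ((selD φ Xs).map (fun k => P (Xs.getD k ([], [])))).Nodup := by
    apply List.Nodup.map_on
    · intro k hk k' hk' h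
      exact P_inj hXs hnd k k' ((mem_selD _ _ _).mp hk).1 ((mem_selD _ _ _).mp hk').1 h
    · exact List.Nodup.filter _ List.nodup_range
  rw [h1, Set.ncard_coe_finset, List.toFinset_card_of_nodup h2, List.length_map]

end Cfsg.Agent.Lib_lead_EnumD
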