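import Mathlib
import Cfsg.Prelude.Def_Sporadic_a
import Cfsg.Agent.Lib_lead_LeechDot

/-! The numbers of minimal vectors with given sums of coordinate products with three particular
minimal vectors. -/

set_option autoImplicit false

namespace Cfsg.Agent.Lib_lead_LeechDotNums

open Cfsg Cfsg.Agent.Lib_lead_Golay Cfsg.Agent.Lib_lead_Leech Cfsg.Agent.Lib_lead_LeechDot

/-- the classes of the codewords for the vector `A` -/
def TA : List ℕ := [0, 6146, 7169, 8192, 10242, 11265, 12288, 14338, 15361, 16384, 22530]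

/-- the sums of products, exponents and counts for the vector `A` -/
def dsA : List (ℤ × ℕ × ℕ) := [((-16), 6192, 4600), ((-8), 9272, 47104), (0, 12352, 93150)]

set_option maxRecDepth 100000 in
theorem allA : ∀ p ∈ dsA, {w : GolayPt → ℤ | w ∈ leechLattice ∧ sqNorm w = 32 ∧
    dotInt (repV 3 0 4 0 0) w = p.1}.ncard = p.2.2 :=
  main_eval 3 0 16777212 (by norm_num) (by norm_num) (by norm_num) (by decide) (by decide)
    4 0 0 TA (by decide) dsA (by decide +kernel) (by decide +kernel)

theorem cA16 : {w : GolayPt → ℤ | w ∈ leechLattice ∧ sqNorm w = 32 ∧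
    dotInt (repV 3 0 4 0 0) w = -16}.ncard = 4600 :=
  allA ((-16), 6192, 4600) (by simp [dsA])

theorem cA8 : {w : GolayPt → ℤ | w ∈ leechLattice ∧ sqNorm w = 32 ∧
    dotInt (repV 3 0 4 0 0) w = -8}.ncard = 47104 :=
  allA ((-8), 9272, 47104) (by simp [dsA])

theorem cA0 : {w : GolayPt → ℤ | w ∈ leechLattice ∧ sqNorm w = 32 ∧
    dotInt (repV 3 0 4 0 0) w = 0}.ncard = 93150 :=
  allA (0, 12352, 93150) (by simp [dsA])

/-- the classes of the codewords for the vector `B` -/
def TB : List ℕ := [0, 8, 4100, 6146, 6150, 8192, 8196, 8200, 10242, 10246, 12292, 16384, 16392]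

/-- the sums of products, exponents and counts for the vector `B` -/
def dsB : List (ℤ × ℕ × ℕ) := [((-16), 18512, 4600), ((-8), 21592, 47104), (0, 24672, 93150)]

set_option maxRecDepth 100000 in
theorem allB : ∀ p ∈ dsB, {w : GolayPt → ℤ | w ∈ leechLattice ∧ sqNorm w = 32 ∧
    dotInt (repV 3277413 0 2 0 0) w = p.1}.ncard = p.2.2 :=
  main_eval 3277413 0 13499802 (by norm_num) (by norm_num) (by norm_num) (by decide) (by decide)
    2 0 0 TB (by decide) dsB (by decide +kernel) (by decide +kernel)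

theorem cB16 : {w : GolayPt → ℤ | w ∈ leechLattice ∧ sqNorm w = 32 ∧
    dotInt (repV 3277413 0 2 0 0) w = -16}.ncard = 4600 :=
  allB ((-16), 18512, 4600) (by simp [dsB])

theorem cB8 : {w : GolayPt → ℤ | w ∈ leechLattice ∧ sqNorm w = 32 ∧
    dotInt (repV 3277413 0 2 0 0) w = -8}.ncard = 47104 :=
  allB ((-8), 21592, 47104) (by simp [dsB])

theorem cB0 : {w : GolayPt → ℤ | w ∈ leechLattice ∧ sqNorm w = 32 ∧
    dotInt (repV 3277413 0 2 0 0) w = 0}.ncard = 93150 :=
  allB (0, 24672, 93150) (by simp [dsB])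

/-- the classes of the codewords for the vector `C` -/
def TC : List ℕ := [0, 7169, 8192, 11265, 12288, 15361, 16384, 23553]

/-- the sums of products, exponents and counts for the vector `C` -/
def dsC : List (ℤ × ℕ × ℕ) := [((-16), 33912, 4600), ((-8), 36992, 47104), (0, 40072, 93150)]

set_option maxRecDepth 100000 in
theorem allC : ∀ p ∈ dsC, {w : GolayPt → ℤ | w ∈ leechLattice ∧ sqNorm w = 32 ∧
    dotInt (repV 1 0 (-3) 0 1) w = p.1}.ncard = p.2.2 :=
  main_eval 1 0 16777214 (by norm_num) (by norm_num) (by norm_num) (by decide) (by decide)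
    (-3) 0 1 TC (by decide) dsC (by decide +kernel) (by decide +kernel)

theorem cC16 : {w : GolayPt → ℤ | w ∈ leechLattice ∧ sqNorm w = 32 ∧
    dotInt (repV 1 0 (-3) 0 1) w = -16}.ncard = 4600 :=
  allC ((-16), 33912, 4600) (by simp [dsC])

theorem cC8 : {w : GolayPt → ℤ | w ∈ leechLattice ∧ sqNorm w = 32 ∧
    dotInt (repV 1 0 (-3) 0 1) w = -8}.ncard = 47104 :=
  allC ((-8), 36992, 47104) (by simp [dsC])

theorem cC0 : {w : GolayPt → ℤ | w ∈ leechLattice ∧ sqNorm w = 32 ∧
    dotInt (repV 1 0 (-3) 0 1) w = 0}.ncard = 93150 :=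
  allC (0, 40072, 93150) (by simp [dsC])

end Cfsg.Agent.Lib_lead_LeechDotNums
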