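import Mathlib
import Cfsg.Prelude.Def_SporadicCombinatorics
import Cfsg.Agent.Lib_lead_EnumD

/-! The centralizer of an involution in the stabilizer of a point of the root dodecad: data. -/

set_option autoImplicit false

namespace Cfsg.Agent.Lib_lead_M11CentData

open Cfsg Cfsg.Agent.Lib_lead_Golay Cfsg.Agent.Lib_lead_GolayPerm Cfsg.Agent.Lib_lead_M24
  Cfsg.Agent.Lib_lead_M24Chain Cfsg.Agent.Lib_lead_Cls Cfsg.Agent.Lib_lead_Enum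
  Cfsg.Agent.Lib_lead_EnumD
open scoped Pointwise

/-- the root involution -/
def x0T : Tb := ([0, 2, 1, 4, 3, 11, 18, 7, 13, 9, 10, 5, 12, 8, 21, 23, 16, 17, 6, 22, 20, 14, 19, 15], [0, 2, 1, 4, 3, 11, 18, 7, 13, 9, 10, 5, 12, 8, 21, 23, 16, 17, 6, 22, 20, 14, 19, 15])

/-- the elements of the centralizer -/
def XsC : List Tb :=
  [([0, 1, 2, 3, 4, 5, 6, 7, 8, 9, 10, 11, 12, 13, 14, 15, 16, 17, 18, 19, 20, 21, 22, 23], [0, 1, 2, 3, 4, 5, 6, 7, 8, 9, 10, 11, 12, 13, 14, 15, 16, 17, 18, 19, 20, 21, 22, 23]),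
   ([0, 1, 2, 4, 3, 15, 13, 10, 18, 16, 7, 23, 12, 6, 21, 5, 9, 17, 8, 19, 20, 14, 22, 11], [0, 1, 2, 4, 3, 15, 13, 10, 18, 16, 7, 23, 12, 6, 21, 5, 9, 17, 8, 19, 20, 14, 22, 11]),
   ([0, 1, 2, 6, 18, 19, 3, 17, 13, 9, 10, 22, 16, 8, 21, 15, 12, 7, 4, 5, 20, 14, 11, 23], [0, 1, 2, 6, 18, 19, 3, 17, 13, 9, 10, 22, 16, 8, 21, 15, 12, 7, 4, 5, 20, 14, 11, 23]),
   ([0, 1, 2, 8, 13, 5, 18, 7, 3, 12, 17, 11, 9, 4, 21, 19, 16, 10, 6, 15, 20, 14, 23, 22], [0, 1, 2, 8, 13, 5, 18, 7, 3, 12, 17, 11, 9, 4, 21, 19, 16, 10, 6, 15, 20, 14, 23, 22]),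
   ([0, 1, 2, 13, 8, 19, 4, 17, 6, 16, 7, 22, 9, 18, 14, 5, 12, 10, 3, 15, 20, 21, 23, 11], [0, 1, 2, 18, 6, 15, 8, 10, 4, 12, 17, 23, 16, 3, 14, 19, 9, 7, 13, 5, 20, 21, 11, 22]),
   ([0, 1, 2, 18, 6, 15, 8, 10, 4, 12, 17, 23, 16, 3, 14, 19, 9, 7, 13, 5, 20, 21, 11, 22], [0, 1, 2, 13, 8, 19, 4, 17, 6, 16, 7, 22, 9, 18, 14, 5, 12, 10, 3, 15, 20, 21, 23, 11]),
   ([0, 2, 1, 3, 4, 23, 8, 10, 6, 16, 7, 15, 12, 18, 14, 11, 9, 17, 13, 22, 20, 21, 19, 5], [0, 2, 1, 3, 4, 23, 8, 10, 6, 16, 7, 15, 12, 18, 14, 11, 9, 17, 13, 22, 20, 21, 19, 5]),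
   ([0, 2, 1, 4, 3, 11, 18, 7, 13, 9, 10, 5, 12, 8, 21, 23, 16, 17, 6, 22, 20, 14, 19, 15], [0, 2, 1, 4, 3, 11, 18, 7, 13, 9, 10, 5, 12, 8, 21, 23, 16, 17, 6, 22, 20, 14, 19, 15]),
   ([0, 2, 1, 6, 18, 23, 13, 10, 3, 12, 17, 15, 16, 4, 21, 22, 9, 7, 8, 11, 20, 14, 5, 19], [0, 2, 1, 8, 13, 22, 3, 17, 18, 16, 7, 19, 9, 6, 21, 11, 12, 10, 4, 23, 20, 14, 15, 5]),
   ([0, 2, 1, 8, 13, 22, 3, 17, 18, 16, 7, 19, 9, 6, 21, 11, 12, 10, 4, 23, 20, 14, 15, 5], [0, 2, 1, 6, 18, 23, 13, 10, 3, 12, 17, 15, 16, 4, 21, 22, 9, 7, 8, 11, 20, 14, 5, 19]),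
   ([0, 2, 1, 13, 8, 11, 6, 7, 4, 12, 17, 5, 9, 3, 14, 22, 16, 10, 18, 23, 20, 21, 15, 19], [0, 2, 1, 13, 8, 11, 6, 7, 4, 12, 17, 5, 9, 3, 14, 22, 16, 10, 18, 23, 20, 21, 15, 19]),
   ([0, 2, 1, 18, 6, 22, 4, 17, 8, 9, 10, 19, 16, 13, 14, 23, 12, 7, 3, 11, 20, 21, 5, 15], [0, 2, 1, 18, 6, 22, 4, 17, 8, 9, 10, 19, 16, 13, 14, 23, 12, 7, 3, 11, 20, 21, 5, 15]),
   ([0, 3, 4, 1, 2, 11, 6, 7, 13, 16, 10, 5, 12, 8, 19, 15, 9, 20, 18, 14, 17, 22, 21, 23], [0, 3, 4, 1, 2, 11, 6, 7, 13, 16, 10, 5, 12, 8, 19, 15, 9, 20, 18, 14, 17, 22, 21, 23]),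
   ([0, 3, 4, 2, 1, 15, 8, 10, 18, 9, 7, 23, 12, 6, 22, 11, 16, 20, 13, 14, 17, 19, 21, 5], [0, 4, 3, 1, 2, 23, 13, 10, 6, 9, 7, 15, 12, 18, 19, 5, 16, 20, 8, 21, 17, 22, 14, 11]),
   ([0, 3, 4, 6, 18, 14, 1, 20, 8, 16, 10, 21, 9, 13, 22, 15, 12, 7, 2, 11, 17, 19, 5, 23], [0, 6, 18, 1, 2, 22, 3, 17, 8, 12, 10, 19, 16, 13, 5, 15, 9, 20, 4, 21, 7, 11, 14, 23]),
   ([0, 3, 4, 8, 13, 14, 2, 20, 6, 9, 7, 21, 16, 18, 19, 11, 12, 10, 1, 15, 17, 22, 23, 5], [0, 18, 6, 1, 2, 23, 8, 10, 3, 9, 17, 15, 16, 4, 5, 19, 12, 20, 13, 14, 7, 11, 21, 22]),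
   ([0, 3, 4, 13, 8, 11, 18, 7, 1, 12, 20, 5, 16, 2, 22, 14, 9, 10, 6, 15, 17, 19, 23, 21], [0, 8, 13, 1, 2, 11, 18, 7, 4, 16, 17, 5, 9, 3, 15, 19, 12, 20, 6, 21, 10, 23, 14, 22]),
   ([0, 3, 4, 18, 6, 15, 13, 10, 2, 12, 20, 23, 9, 1, 19, 14, 16, 7, 8, 11, 17, 22, 5, 21], [0, 13, 8, 1, 2, 22, 4, 17, 18, 12, 7, 19, 9, 6, 15, 5, 16, 20, 3, 14, 10, 23, 21, 11]),
   ([0, 4, 3, 1, 2, 23, 13, 10, 6, 9, 7, 15, 12, 18, 19, 5, 16, 20, 8, 21, 17, 22, 14, 11], [0, 3, 4, 2, 1, 15, 8, 10, 18, 9, 7, 23, 12, 6, 22, 11, 16, 20, 13, 14, 17, 19, 21, 5]),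
   ([0, 4, 3, 2, 1, 5, 18, 7, 8, 16, 10, 11, 12, 13, 22, 23, 9, 20, 6, 21, 17, 19, 14, 15], [0, 4, 3, 2, 1, 5, 18, 7, 8, 16, 10, 11, 12, 13, 22, 23, 9, 20, 6, 21, 17, 19, 14, 15]),
   ([0, 4, 3, 6, 18, 23, 8, 10, 1, 12, 20, 15, 9, 2, 22, 21, 16, 7, 13, 5, 17, 19, 11, 14], [0, 8, 13, 2, 1, 19, 3, 17, 6, 12, 7, 22, 9, 18, 23, 11, 16, 20, 4, 21, 10, 15, 14, 5]),
   ([0, 4, 3, 8, 13, 5, 6, 7, 2, 12, 20, 11, 16, 1, 19, 21, 9, 10, 18, 23, 17, 22, 15, 14], [0, 13, 8, 2, 1, 5, 6, 7, 3, 16, 17, 11, 9, 4, 23, 22, 12, 20, 18, 14, 10, 15, 21, 19]),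
   ([0, 4, 3, 13, 8, 21, 1, 20, 18, 9, 7, 14, 16, 6, 22, 5, 12, 10, 2, 23, 17, 19, 15, 11], [0, 6, 18, 2, 1, 15, 13, 10, 4, 9, 17, 23, 16, 3, 11, 22, 12, 20, 8, 21, 7, 5, 14, 19]),
   ([0, 4, 3, 18, 6, 21, 2, 20, 13, 16, 10, 14, 9, 8, 19, 23, 12, 7, 1, 5, 17, 22, 11, 15], [0, 18, 6, 2, 1, 19, 4, 17, 13, 12, 10, 22, 16, 8, 11, 23, 9, 20, 3, 14, 7, 5, 21, 15]),
   ([0, 6, 18, 1, 2, 22, 3, 17, 8, 12, 10, 19, 16, 13, 5, 15, 9, 20, 4, 21, 7, 11, 14, 23], [0, 3, 4, 6, 18, 14, 1, 20, 8, 16, 10, 21, 9, 13, 22, 15, 12, 7, 2, 11, 17, 19, 5, 23]),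
   ([0, 6, 18, 2, 1, 15, 13, 10, 4, 9, 17, 23, 16, 3, 11, 22, 12, 20, 8, 21, 7, 5, 14, 19], [0, 4, 3, 13, 8, 21, 1, 20, 18, 9, 7, 14, 16, 6, 22, 5, 12, 10, 2, 23, 17, 19, 15, 11]),
   ([0, 6, 18, 3, 4, 21, 1, 20, 13, 12, 10, 14, 9, 8, 11, 15, 16, 17, 2, 22, 7, 5, 19, 23], [0, 6, 18, 3, 4, 21, 1, 20, 13, 12, 10, 14, 9, 8, 11, 15, 16, 17, 2, 22, 7, 5, 19, 23]),
   ([0, 6, 18, 4, 3, 15, 8, 10, 2, 16, 20, 23, 9, 1, 5, 21, 12, 17, 13, 22, 7, 11, 19, 14], [0, 13, 8, 4, 3, 14, 1, 20, 6, 12, 7, 21, 16, 18, 23, 5, 9, 17, 2, 22, 10, 15, 19, 11]),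
   ([0, 6, 18, 8, 13, 22, 4, 17, 1, 16, 20, 19, 12, 2, 11, 21, 9, 10, 3, 15, 7, 5, 23, 14], [0, 8, 13, 18, 6, 21, 1, 20, 3, 16, 17, 14, 12, 4, 23, 19, 9, 7, 2, 11, 10, 15, 5, 22]),
   ([0, 6, 18, 13, 8, 21, 2, 20, 3, 9, 17, 14, 12, 4, 5, 22, 16, 10, 1, 15, 7, 11, 23, 19], [0, 18, 6, 8, 13, 14, 1, 20, 4, 9, 17, 21, 12, 3, 11, 19, 16, 10, 2, 23, 7, 5, 15, 22]),
   ([0, 8, 13, 1, 2, 11, 18, 7, 4, 16, 17, 5, 9, 3, 15, 19, 12, 20, 6, 21, 10, 23, 14, 22], [0, 3, 4, 13, 8, 11, 18, 7, 1, 12, 20, 5, 16, 2, 22, 14, 9, 10, 6, 15, 17, 19, 23, 21]),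
   ([0, 8, 13, 2, 1, 19, 3, 17, 6, 12, 7, 22, 9, 18, 23, 11, 16, 20, 4, 21, 10, 15, 14, 5], [0, 4, 3, 6, 18, 23, 8, 10, 1, 12, 20, 15, 9, 2, 22, 21, 16, 7, 13, 5, 17, 19, 11, 14]),
   ([0, 8, 13, 3, 4, 21, 2, 20, 18, 12, 7, 14, 16, 6, 15, 11, 9, 17, 1, 19, 10, 23, 22, 5], [0, 18, 6, 3, 4, 23, 13, 10, 1, 16, 20, 15, 9, 2, 11, 14, 12, 17, 8, 19, 7, 5, 22, 21]),
   ([0, 8, 13, 4, 3, 11, 6, 7, 1, 9, 20, 5, 16, 2, 23, 21, 12, 17, 18, 19, 10, 15, 22, 14], [0, 8, 13, 4, 3, 11, 6, 7, 1, 9, 20, 5, 16, 2, 23, 21, 12, 17, 18, 19, 10, 15, 22, 14]),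
   ([0, 8, 13, 6, 18, 19, 4, 17, 2, 9, 20, 22, 12, 1, 15, 21, 16, 7, 3, 11, 10, 23, 5, 14], [0, 13, 8, 18, 6, 22, 3, 17, 1, 9, 20, 19, 12, 2, 23, 14, 16, 7, 4, 5, 10, 15, 11, 21]),
   ([0, 8, 13, 18, 6, 21, 1, 20, 3, 16, 17, 14, 12, 4, 23, 19, 9, 7, 2, 11, 10, 15, 5, 22], [0, 6, 18, 8, 13, 22, 4, 17, 1, 16, 20, 19, 12, 2, 11, 21, 9, 10, 3, 15, 7, 5, 23, 14]),
   ([0, 13, 8, 1, 2, 22, 4, 17, 18, 12, 7, 19, 9, 6, 15, 5, 16, 20, 3, 14, 10, 23, 21, 11], [0, 3, 4, 18, 6, 15, 13, 10, 2, 12, 20, 23, 9, 1, 19, 14, 16, 7, 8, 11, 17, 22, 5, 21]),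
   ([0, 13, 8, 2, 1, 5, 6, 7, 3, 16, 17, 11, 9, 4, 23, 22, 12, 20, 18, 14, 10, 15, 21, 19], [0, 4, 3, 8, 13, 5, 6, 7, 2, 12, 20, 11, 16, 1, 19, 21, 9, 10, 18, 23, 17, 22, 15, 14]),
   ([0, 13, 8, 3, 4, 5, 18, 7, 2, 9, 20, 11, 16, 1, 15, 14, 12, 17, 6, 22, 10, 23, 19, 21], [0, 13, 8, 3, 4, 5, 18, 7, 2, 9, 20, 11, 16, 1, 15, 14, 12, 17, 6, 22, 10, 23, 19, 21]),
   ([0, 13, 8, 4, 3, 14, 1, 20, 6, 12, 7, 21, 16, 18, 23, 5, 9, 17, 2, 22, 10, 15, 19, 11], [0, 6, 18, 4, 3, 15, 8, 10, 2, 16, 20, 23, 9, 1, 5, 21, 12, 17, 13, 22, 7, 11, 19, 14]),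
   ([0, 13, 8, 6, 18, 14, 2, 20, 4, 16, 17, 21, 12, 3, 15, 22, 9, 7, 1, 5, 10, 23, 11, 19], [0, 18, 6, 13, 8, 19, 3, 17, 2, 16, 20, 22, 12, 1, 5, 14, 9, 10, 4, 23, 7, 11, 15, 21]),
   ([0, 13, 8, 18, 6, 22, 3, 17, 1, 9, 20, 19, 12, 2, 23, 14, 16, 7, 4, 5, 10, 15, 11, 21], [0, 8, 13, 6, 18, 19, 4, 17, 2, 9, 20, 22, 12, 1, 15, 21, 16, 7, 3, 11, 10, 23, 5, 14]),
   ([0, 18, 6, 1, 2, 23, 8, 10, 3, 9, 17, 15, 16, 4, 5, 19, 12, 20, 13, 14, 7, 11, 21, 22], [0, 3, 4, 8, 13, 14, 2, 20, 6, 9, 7, 21, 16, 18, 19, 11, 12, 10, 1, 15, 17, 22, 23, 5]),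
   ([0, 18, 6, 2, 1, 19, 4, 17, 13, 12, 10, 22, 16, 8, 11, 23, 9, 20, 3, 14, 7, 5, 21, 15], [0, 4, 3, 18, 6, 21, 2, 20, 13, 16, 10, 14, 9, 8, 19, 23, 12, 7, 1, 5, 17, 22, 11, 15]),
   ([0, 18, 6, 3, 4, 23, 13, 10, 1, 16, 20, 15, 9, 2, 11, 14, 12, 17, 8, 19, 7, 5, 22, 21], [0, 8, 13, 3, 4, 21, 2, 20, 18, 12, 7, 14, 16, 6, 15, 11, 9, 17, 1, 19, 10, 23, 22, 5]),
   ([0, 18, 6, 4, 3, 14, 2, 20, 8, 12, 10, 21, 9, 13, 5, 23, 16, 17, 1, 19, 7, 11, 22, 15], [0, 18, 6, 4, 3, 14, 2, 20, 8, 12, 10, 21, 9, 13, 5, 23, 16, 17, 1, 19, 7, 11, 22, 15]),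
   ([0, 18, 6, 8, 13, 14, 1, 20, 4, 9, 17, 21, 12, 3, 11, 19, 16, 10, 2, 23, 7, 5, 15, 22], [0, 6, 18, 13, 8, 21, 2, 20, 3, 9, 17, 14, 12, 4, 5, 22, 16, 10, 1, 15, 7, 11, 23, 19]),
   ([0, 18, 6, 13, 8, 19, 3, 17, 2, 16, 20, 22, 12, 1, 5, 14, 9, 10, 4, 23, 7, 11, 15, 21], [0, 13, 8, 6, 18, 14, 2, 20, 4, 16, 17, 21, 12, 3, 15, 22, 9, 7, 1, 5, 10, 23, 11, 19])]

/-- the points of the root dodecad moved by the root involution -/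
def moved8 : List ℕ := [1, 2, 3, 4, 6, 8, 13, 18]

/-- the first coordinates of the moved points -/
def bxL : List ℕ := [0, 1, 2, 0, 0, 0, 2, 0, 1, 0, 0, 0, 0, 2, 0, 0, 0, 0, 1, 0, 0, 0, 0, 0]

/-- the second coordinates of the moved points -/
def byL : List ℕ := [0, 0, 0, 1, 2, 0, 2, 0, 2, 0, 0, 0, 0, 1, 0, 0, 0, 0, 1, 0, 0, 0, 0, 0]

/-- the first coordinate of a point -/
def bxN (j : ℕ) : ℕ := bxL.getD j 0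

/-- the second coordinate of a point -/
def byN (j : ℕ) : ℕ := byL.getD j 0

/-- the map is linear in the coordinates -/
def lin (f : ℕ → ℕ) : Bool :=
  moved8.all fun j =>
    (bxN (f j) == (bxN (f 1) * bxN j + bxN (f 3) * byN j) % 3) &&
    (byN (f j) == (byN (f 1) * bxN j + byN (f 3) * byN j) % 3)

/-- the map preserves the set of moved points -/
def mvd (f : ℕ → ℕ) : Bool := moved8.all fun j => moved8.contains (f j)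

/-- the matrix entries of a map, as a list -/
def keyM (f : ℕ → ℕ) : List ℕ := [bxN (f 1) % 3, bxN (f 3) % 3, byN (f 1) % 3, byN (f 3) % 3]

/-- the test for the centralizer -/
def phiC (f : ℕ → ℕ) : Bool := (f 0 == 0) && commF x0T f

theorem x0_ok : genOK x0T = true := by decide +kernel

theorem x0_fix : fixSet (ap x0T) 340831 = true := by decide +kernel

set_option maxRecDepth 100000 in
theorem XsC_ok : allD XsC = true := by decide +kernel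

set_option maxRecDepth 100000 in
theorem selC : (selD phiC XsC).length = 48 := by decide +kernel

theorem lenC : XsC.length = 48 := by decide +kernel

set_option maxRecDepth 100000 in
theorem ndC : (XsC.map (fun X => key5 (ap X))).Nodup := by decide +kernel

set_option maxRecDepth 100000 in
theorem linC : XsC.all (fun X => lin (ap X) && mvd (ap X)) = true := by decide +kernel

set_option maxRecDepth 100000 in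
theorem ndM : (XsC.map (fun X => keyM (ap X))).Nodup := by decide +kernel

/-- every admissible pair of images is covered -/
def covAll : Bool :=
  (List.range 24).all fun a => (List.range 24).all fun b =>
    !((340831 : ℕ).testBit a) || !((340831 : ℕ).testBit b) || (ap x0T a == a) ||
      (ap x0T b == b) || (b == a) || (b == ap x0T a) ||
      coversD XsC 0 a (ap x0T a) b (ap x0T b)

set_option maxRecDepth 100000 in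
theorem covC : covAll = true := by decide +kernel

theorem x0_vals : ap x0T 0 = 0 ∧ ap x0T 1 = 2 ∧ ap x0T 2 = 1 ∧ ap x0T 3 = 4 ∧ ap x0T 4 = 3 := by
  decide

theorem x0_invo : invo (ap x0T) = true := by decide +kernel

end Cfsg.Agent.Lib_lead_M11CentData
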