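import Mathlib
import Cfsg.Prelude.Def_Sporadic_a
import Cfsg.Agent.Lib_lead_Golay
import Cfsg.Agent.Lib_lead_GolayPerm
import Cfsg.Agent.Lib_lead_M24
import Cfsg.Agent.Lib_lead_M24Data
import Cfsg.Agent.Lib_lead_M24Chain
import Cfsg.Agent.Lib_lead_M24Oct
import Cfsg.Agent.Lib_lead_M12
import Cfsg.Agent.Lib_lead_M12Data
import Cfsg.Agent.Lib_lead_M12Data2
import Cfsg.Agent.Lib_lead_M12Thm

/-! Pointwise stabilizers of points of a dodecad inside the dodecad stabilizer. -/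

set_option autoImplicit false

namespace Cfsg.Agent.Lib_lead_M12Thm2

open Cfsg Cfsg.Agent.Lib_lead_Golay Cfsg.Agent.Lib_lead_GolayPerm Cfsg.Agent.Lib_lead_M24
  Cfsg.Agent.Lib_lead_M24Chain Cfsg.Agent.Lib_lead_M12 Cfsg.Agent.Lib_lead_M12Data
  Cfsg.Agent.Lib_lead_M12Thm
open scoped Pointwise

/-- the dodecad stabilizer is 2-transitive on the dodecad -/
theorem stab_trans2 (d : Finset GolayPt) (hd : d ∈ dodecads) (p q p' q' : GolayPt)
    (hp : p ∈ d) (hq : q ∈ d) (hp' : p' ∈ d) (hq' : q' ∈ d) (hpq : p ≠ q) (hpq' : p' ≠ q') :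
    ∃ g ∈ M24, g • d = d ∧ g p = p' ∧ g q = q' := by
  obtain ⟨σ, hσ, hσd⟩ := exists_sigma d hd
  obtain ⟨g1, hg1, h1, h2⟩ := rA2 (σ⁻¹ p) (σ⁻¹ q) ((bit_iff hσd p).mpr hp)
    ((bit_iff hσd q).mpr hq) (fun h => hpq (σ⁻¹.injective h))
  obtain ⟨g2, hg2, h1', h2'⟩ := rA2 (σ⁻¹ p') (σ⁻¹ q') ((bit_iff hσd p').mpr hp')
    ((bit_iff hσd q').mpr hq') (fun h => hpq' (σ⁻¹.injective h))
  obtain ⟨hM, hd', hmap⟩ := conj_lemma hσ hσd hg1 hg2
  exact ⟨_, hM, hd', hmap p p' (h1.trans h1'.symm), hmap q q' (h2.trans h2'.symm)⟩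

/-- the dodecad stabilizer is 3-transitive on the dodecad -/
theorem stab_trans3 (d : Finset GolayPt) (hd : d ∈ dodecads) (p q r p' q' r' : GolayPt)
    (hp : p ∈ d) (hq : q ∈ d) (hr : r ∈ d) (hp' : p' ∈ d) (hq' : q' ∈ d) (hr' : r' ∈ d)
    (hpq : p ≠ q) (hpr : p ≠ r) (hqr : q ≠ r) (hpq' : p' ≠ q') (hpr' : p' ≠ r')
    (hqr' : q' ≠ r') :
    ∃ g ∈ M24, g • d = d ∧ g p = p' ∧ g q = q' ∧ g r = r' := by
  obtain ⟨σ, hσ, hσd⟩ := exists_sigma d hd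
  obtain ⟨g1, hg1, h1, h2, h3⟩ := rA3 (σ⁻¹ p) (σ⁻¹ q) (σ⁻¹ r) ((bit_iff hσd p).mpr hp)
    ((bit_iff hσd q).mpr hq) ((bit_iff hσd r).mpr hr) (fun h => hpq (σ⁻¹.injective h))
    (fun h => hpr (σ⁻¹.injective h)) (fun h => hqr (σ⁻¹.injective h))
  obtain ⟨g2, hg2, h1', h2', h3'⟩ := rA3 (σ⁻¹ p') (σ⁻¹ q') (σ⁻¹ r') ((bit_iff hσd p').mpr hp')
    ((bit_iff hσd q').mpr hq') ((bit_iff hσd r').mpr hr') (fun h => hpq' (σ⁻¹.injective h))
    (fun h => hpr' (σ⁻¹.injective h)) (fun h => hqr' (σ⁻¹.injective h))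
  obtain ⟨hM, hd', hmap⟩ := conj_lemma hσ hσd hg1 hg2
  exact ⟨_, hM, hd', hmap p p' (h1.trans h1'.symm), hmap q q' (h2.trans h2'.symm),
    hmap r r' (h3.trans h3'.symm)⟩

theorem smul_mem_of_stab {g : M24} {d : Finset GolayPt} (hg : g • d = d) {x : GolayPt}
    (hx : x ∈ d) : g • x ∈ d := by
  have h1 : g • x ∈ g • d := Finset.smul_mem_smul_finset hx
  rwa [hg] at h1

theorem card_stab_dpq (d : Finset GolayPt) (hd : d ∈ dodecads) (p q : GolayPt) (hp : p ∈ d)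
    (hq : q ∈ d) (hpq : p ≠ q) :
    Nat.card ↥(MulAction.stabilizer M24 d ⊓ MulAction.stabilizer M24 p ⊓
      MulAction.stabilizer M24 q) = 720 := by
  have h := orbit_count (G := M24) (MulAction.stabilizer M24 d ⊓ MulAction.stabilizer M24 p) q
    (d.erase p)
    (fun g hg => by
      rw [Subgroup.mem_inf, MulAction.mem_stabilizer_iff, MulAction.mem_stabilizer_iff] at hg
      rw [Finset.mem_erase]
      refine ⟨?_, smul_mem_of_stab hg.1 hq⟩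
      intro hgq
      have h1 : g • q = g • p := by rw [hgq, hg.2]
      exact hpq (MulAction.injective g h1).symm)
    (fun z hz => by
      rw [Finset.mem_erase] at hz
      obtain ⟨g, hg, hgd, hgp, hgq⟩ := stab_trans2 d hd p q p z hp hq hp hz.2 hpq
        (Ne.symm hz.1)
      exact ⟨⟨g, hg⟩, ⟨hgd, hgp⟩, hgq⟩)
  rw [card_stab_dp d hd p hp, Finset.card_erase_of_mem hp, card_dodecad hd] at h
  omega

theorem card_stab_dpqr (d : Finset GolayPt) (hd : d ∈ dodecads) (p q r : GolayPt) (hp : p ∈ d)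
    (hq : q ∈ d) (hr : r ∈ d) (hpq : p ≠ q) (hpr : p ≠ r) (hqr : q ≠ r) :
    Nat.card ↥(MulAction.stabilizer M24 d ⊓ MulAction.stabilizer M24 p ⊓
      MulAction.stabilizer M24 q ⊓ MulAction.stabilizer M24 r) = 72 := by
  have h := orbit_count (G := M24)
    (MulAction.stabilizer M24 d ⊓ MulAction.stabilizer M24 p ⊓ MulAction.stabilizer M24 q) r
    ((d.erase p).erase q)
    (fun g hg => by
      rw [Subgroup.mem_inf, Subgroup.mem_inf, MulAction.mem_stabilizer_iff,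
        MulAction.mem_stabilizer_iff, MulAction.mem_stabilizer_iff] at hg
      rw [Finset.mem_erase, Finset.mem_erase]
      refine ⟨?_, ?_, smul_mem_of_stab hg.1.1 hr⟩
      · intro hgr
        have h1 : g • r = g • q := by rw [hgr, hg.2]
        exact hqr (MulAction.injective g h1).symm
      · intro hgr
        have h1 : g • r = g • p := by rw [hgr, hg.1.2]
        exact hpr (MulAction.injective g h1).symm)
    (fun z hz => by
      rw [Finset.mem_erase, Finset.mem_erase] at hz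
      obtain ⟨g, hg, hgd, hgp, hgq, hgr⟩ := stab_trans3 d hd p q r p q z hp hq hr hp hq hz.2.2
        hpq hpr hqr hpq (Ne.symm hz.2.1) (Ne.symm hz.1)
      exact ⟨⟨g, hg⟩, ⟨⟨hgd, hgp⟩, hgq⟩, hgr⟩)
  have hc : ((d.erase p).erase q).card = 10 := by
    rw [Finset.card_erase_of_mem (Finset.mem_erase.mpr ⟨Ne.symm hpq, hq⟩),
      Finset.card_erase_of_mem hp, card_dodecad hd]
  rw [card_stab_dpq d hd p q hp hq hpq, hc] at h
  omega

/-- the pointwise stabiliser of three points of a dodecad in its stabilizer has order 72 and is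
transitive on the complementary dodecad -/
theorem thm (d : Finset GolayPt) (hd : d ∈ dodecads) (p q r : GolayPt) (hp : p ∈ d)
    (hq : q ∈ d) (hr : r ∈ d) (hpq : p ≠ q) (hpr : p ≠ r) (hqr : q ≠ r) :
    Nat.card ↥(MulAction.stabilizer M24 d ⊓ MulAction.stabilizer M24 p ⊓
      MulAction.stabilizer M24 q ⊓ MulAction.stabilizer M24 r) = 72 ∧
    ∀ x ∉ d, ∀ y ∉ d, ∃ g ∈ (MulAction.stabilizer M24 d ⊓ MulAction.stabilizer M24 p ⊓
      MulAction.stabilizer M24 q ⊓ MulAction.stabilizer M24 r),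
      ((g : M24) : Equiv.Perm GolayPt) x = y := by
  refine ⟨card_stab_dpqr d hd p q r hp hq hr hpq hpr hqr, ?_⟩
  intro x hx y hy
  obtain ⟨σ, hσ, hσd⟩ := exists_sigma d hd
  have key : ∀ z, z ∉ d → ∃ g ∈ stabD 340831 0, g (σ⁻¹ p) = ptN 0 ∧ g (σ⁻¹ q) = ptN 1 ∧
      g (σ⁻¹ r) = ptN 2 ∧ g (σ⁻¹ z) = ptN 5 := fun z hz =>
    Cfsg.Agent.Lib_lead_M12Data2.rC (σ⁻¹ p) (σ⁻¹ q) (σ⁻¹ r) (σ⁻¹ z) ((bit_iff hσd p).mpr hp)
      ((bit_iff hσd q).mpr hq) ((bit_iff hσd r).mpr hr) (bit_false hσd z hz)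
      (fun h => hpq (σ⁻¹.injective h)) (fun h => hpr (σ⁻¹.injective h))
      (fun h => hqr (σ⁻¹.injective h))
  obtain ⟨g1, hg1, a1, a2, a3, a4⟩ := key x hx
  obtain ⟨g2, hg2, b1, b2, b3, b4⟩ := key y hy
  obtain ⟨hM, hd', hmap⟩ := conj_lemma hσ hσd hg1 hg2
  exact ⟨⟨_, hM⟩, ⟨⟨⟨hd', hmap p p (a1.trans b1.symm)⟩, hmap q q (a2.trans b2.symm)⟩,
    hmap r r (a3.trans b3.symm)⟩, hmap x y (a4.trans b4.symm)⟩

end Cfsg.Agent.Lib_lead_M12Thm2
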