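import Mathlib
import Cfsg.Agent.Lib_lead_M24Chain

/-! Simplicity criteria for doubly transitive groups. -/

set_option autoImplicit false

namespace Cfsg.Agent.Lib_lead_Simple

open Cfsg.Agent.Lib_lead_M24Chain

/-- a Sylow subgroup containing an element of order `r` is generated by it, when `r²` does not
divide the group order -/
theorem sylow_eq_zpowers {G : Type*} [Group G] [Finite G] (r : ℕ) [Fact r.Prime]
    (hG : ¬ r ^ 2 ∣ Nat.card G) (S : Sylow r G) (y : G) (hy : orderOf y = r)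
    (hle : Subgroup.zpowers y ≤ (S : Subgroup G)) : (S : Subgroup G) = Subgroup.zpowers y := by
  have hr : r.Prime := Fact.out
  obtain ⟨n, hn⟩ := IsPGroup.iff_card.mp S.isPGroup'
  have hz : Nat.card (Subgroup.zpowers y) = r := by rw [Nat.card_zpowers, hy]
  have h1 : r ∣ r ^ n := by
    have h := Subgroup.card_dvd_of_le hle
    rw [hz, hn] at h
    exact h
  have h2 : r ^ n ∣ Nat.card G := by
    have h := Subgroup.card_subgroup_dvd_card (S : Subgroup G)
    rw [hn] at h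
    exact h
  have hn1 : n = 1 := by
    rcases Nat.lt_or_ge n 2 with h | h
    · interval_cases n
      · rw [pow_zero, Nat.dvd_one] at h1
        exact absurd h1 hr.one_lt.ne'
      · rfl
    · exact absurd (dvd_trans (pow_dvd_pow r h) h2) hG
  rw [hn1, pow_one] at hn
  exact (Subgroup.eq_of_le_of_card_ge hle (by rw [hn, hz])).symm

/-- an element of prime order `r` lies in every normal subgroup of order divisible by `r`, when
`r²` does not divide the group order -/
theorem mem_of_prime_order {G : Type*} [Group G] [Finite G] (N : Subgroup G) [hN : N.Normal]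
    (r : ℕ) [Fact r.Prime] (hdvd : r ∣ Nat.card N) (hG : ¬ r ^ 2 ∣ Nat.card G) (c : G)
    (hc : orderOf c = r) : c ∈ N := by
  have hcP : IsPGroup r (Subgroup.zpowers c) :=
    IsPGroup.of_card (n := 1) (by rw [Nat.card_zpowers, hc, pow_one])
  obtain ⟨P, hP⟩ := hcP.exists_le_sylow
  obtain ⟨x, hx⟩ := exists_prime_orderOf_dvd_card' r hdvd
  have hx' : orderOf (x : G) = r := by rw [Subgroup.orderOf_coe, hx]
  have hxP : IsPGroup r (Subgroup.zpowers (x : G)) :=
    IsPGroup.of_card (n := 1) (by rw [Nat.card_zpowers, hx', pow_one])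
  obtain ⟨Q, hQ⟩ := hxP.exists_le_sylow
  have eP := sylow_eq_zpowers r hG P c hc hP
  have eQ := sylow_eq_zpowers r hG Q (x : G) hx' hQ
  obtain ⟨g, hg⟩ := MulAction.exists_smul_eq G Q P
  have hcP' : c ∈ (P : Subgroup G) := by
    rw [eP]
    exact Subgroup.mem_zpowers c
  rw [← hg, Sylow.coe_subgroup_smul, Subgroup.mem_pointwise_smul_iff_inv_smul_mem, eQ] at hcP'
  have hmem : (MulAut.conj g)⁻¹ • c ∈ N := (Subgroup.zpowers_le.mpr x.2) hcP'
  rw [MulAut.smul_def, MulAut.conj_inv_apply] at hmem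
  have h2 := hN.conj_mem _ hmem g
  have h3 : g * (g⁻¹ * c * g) * g⁻¹ = c := by group
  rwa [h3] at h2

/-- a normal subgroup of a doubly transitive group moving a point is transitive -/
theorem normal_trans {G α : Type*} [Group G] [MulAction G α] (S : Set α)
    (h2 : ∀ a ∈ S, ∀ b ∈ S, ∀ c ∈ S, ∀ d ∈ S, a ≠ b → c ≠ d → ∃ g : G, g • a = c ∧ g • b = d)
    (N : Subgroup G) [hN : N.Normal] (n : G) (hn : n ∈ N) (a : α) (ha : a ∈ S)
    (hna : n • a ∈ S) (hne : n • a ≠ a) (c d : α) (hc : c ∈ S) (hd : d ∈ S) (hcd : c ≠ d) :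
    ∃ m ∈ N, m • c = d := by
  obtain ⟨g, hg1, hg2⟩ := h2 a ha (n • a) hna c hc d hd (Ne.symm hne) hcd
  refine ⟨g * n * g⁻¹, hN.conj_mem n hn g, ?_⟩
  rw [mul_smul, mul_smul, ← hg1, inv_smul_smul, hg2]

theorem dvd_card_of_trans {G α : Type*} [Group G] [Finite G] [MulAction G α] [DecidableEq α]
    (S : Finset α) (N : Subgroup G) (c₀ : α) (hpres : ∀ m ∈ N, m • c₀ ∈ S)
    (htr : ∀ d ∈ S, d ≠ c₀ → ∃ m ∈ N, m • c₀ = d) : S.card ∣ Nat.card N := by
  have h := orbit_count N c₀ S hpres (fun z hz => by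
    by_cases h : z = c₀
    · exact ⟨1, N.one_mem, by rw [h, one_smul]⟩
    · exact htr z hz h)
  exact Dvd.intro _ h.symm

/-- a normal subgroup of a doubly transitive group is trivial or transitive -/
theorem normal_dvd {G α : Type*} [Group G] [Finite G] [MulAction G α] [DecidableEq α]
    (S : Finset α) (hpres : ∀ g : G, ∀ a ∈ S, g • a ∈ S)
    (hfaith : ∀ g : G, g ≠ 1 → ∃ a ∈ S, g • a ≠ a)
    (h2 : ∀ a ∈ S, ∀ b ∈ S, ∀ c ∈ S, ∀ d ∈ S, a ≠ b → c ≠ d → ∃ g : G, g • a = c ∧ g • b = d)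
    (N : Subgroup G) [hN : N.Normal] (hbot : N ≠ ⊥) :
    S.card ∣ Nat.card N ∧ ∀ c ∈ S, ∀ d ∈ S, c ≠ d → ∃ m ∈ N, m • c = d := by
  obtain ⟨⟨n, hn⟩, hn1⟩ := (Subgroup.ne_bot_iff_exists_ne_one).mp hbot
  have hn1' : n ≠ 1 := fun h => hn1 (Subtype.ext h)
  obtain ⟨a, ha, hna⟩ := hfaith n hn1'
  have htr : ∀ c ∈ S, ∀ d ∈ S, c ≠ d → ∃ m ∈ N, m • c = d := fun c hc d hd hcd =>
    normal_trans (↑S) h2 N n hn a ha (hpres n a ha) hna c d hc hd hcd
  refine ⟨?_, htr⟩
  apply dvd_card_of_trans S N a (fun m _ => hpres m a ha)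
  intro d hd hda
  exact htr a ha d hd (Ne.symm hda)

/-- simplicity from double transitivity, a prime dividing the degree whose square does not
divide the order, and generation by the elements of that prime order -/
theorem simple_of {G α : Type*} [Group G] [Finite G] [Nontrivial G] [MulAction G α]
    [DecidableEq α] (S : Finset α) (r : ℕ) [Fact r.Prime] (hr : r ∣ S.card)
    (hG : ¬ r ^ 2 ∣ Nat.card G) (hpres : ∀ g : G, ∀ a ∈ S, g • a ∈ S)
    (hfaith : ∀ g : G, g ≠ 1 → ∃ a ∈ S, g • a ≠ a)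
    (h2 : ∀ a ∈ S, ∀ b ∈ S, ∀ c ∈ S, ∀ d ∈ S, a ≠ b → c ≠ d → ∃ g : G, g • a = c ∧ g • b = d)
    (hgen : ∀ K : Subgroup G, (∀ c : G, orderOf c = r → c ∈ K) → K = ⊤) : IsSimpleGroup G := by
  refine { exists_pair_ne := exists_pair_ne G, eq_bot_or_eq_top_of_normal := fun N hN => ?_ }
  by_cases hbot : N = ⊥
  · exact Or.inl hbot
  · right
    have hdvd : r ∣ Nat.card N := dvd_trans hr (normal_dvd S hpres hfaith h2 N hbot).1
    apply hgen
    intro c hc
    exact mem_of_prime_order N r hdvd hG c hc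

/-- simplicity from double transitivity on a set whose size is divisible by 2 and 3, given that
normal subgroups meet a point stabilizer trivially or contain it -/
theorem simple_of_stab_aux {G α : Type*} [Group G] [Finite G] [Nontrivial G] [MulAction G α]
    [DecidableEq α] (S : Finset α) (p : α) (hp : p ∈ S) (h2S : 2 ∣ S.card) (h3S : 3 ∣ S.card)
    (hpres : ∀ g : G, ∀ a ∈ S, g • a ∈ S)
    (hfaith : ∀ g : G, g ≠ 1 → ∃ a ∈ S, g • a ≠ a)
    (h2 : ∀ a ∈ S, ∀ b ∈ S, ∀ c ∈ S, ∀ d ∈ S, a ≠ b → c ≠ d → ∃ g : G, g • a = c ∧ g • b = d)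
    (hstab : ∀ N : Subgroup G, N.Normal →
      (∀ x ∈ N, x • p = p → x = 1) ∨ (∀ x : G, x • p = p → x ∈ N)) : IsSimpleGroup G := by
  refine { exists_pair_ne := exists_pair_ne G, eq_bot_or_eq_top_of_normal := fun N hN => ?_ }
  by_cases hbot : N = ⊥
  · exact Or.inl hbot
  right
  obtain ⟨hdvd, htr⟩ := normal_dvd S hpres hfaith h2 N hbot
  rcases hstab N hN with hfree | hcont
  · exfalso
    haveI : Fact (Nat.Prime 2) := ⟨Nat.prime_two⟩
    haveI : Fact (Nat.Prime 3) := ⟨Nat.prime_three⟩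
    obtain ⟨x, hx⟩ := exists_prime_orderOf_dvd_card' (G := N) 2 (dvd_trans h2S hdvd)
    obtain ⟨y, hy⟩ := exists_prime_orderOf_dvd_card' (G := N) 3 (dvd_trans h3S hdvd)
    have hx' : orderOf (x : G) = 2 := by rw [Subgroup.orderOf_coe, hx]
    have hy' : orderOf (y : G) = 3 := by rw [Subgroup.orderOf_coe, hy]
    have hxp : (x : G) • p ≠ p := by
      intro h
      have h1 := hfree _ x.2 h
      rw [h1, orderOf_one] at hx'
      omega
    have hyp : (y : G) • p ≠ p := by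
      intro h
      have h1 := hfree _ y.2 h
      rw [h1, orderOf_one] at hy'
      omega
    obtain ⟨g, hg1, hg2⟩ := h2 p hp ((x : G) • p) (hpres _ p hp) p hp ((y : G) • p)
      (hpres _ p hp) (Ne.symm hxp) (Ne.symm hyp)
    have hmem : (y : G)⁻¹ * (g * (x : G) * g⁻¹) ∈ N :=
      N.mul_mem (N.inv_mem y.2) (hN.conj_mem _ x.2 g)
    have hfix : ((y : G)⁻¹ * (g * (x : G) * g⁻¹)) • p = p := by
      have h1 : g⁻¹ • p = p := by rw [inv_smul_eq_iff, hg1]
      rw [mul_smul, mul_smul, mul_smul, h1, hg2, inv_smul_smul]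
    have h1 := hfree _ hmem hfix
    have h2' : g * (x : G) * g⁻¹ = (y : G) := by
      rw [inv_mul_eq_one] at h1
      exact h1.symm
    have h3 : orderOf (g * (x : G) * g⁻¹) = orderOf (x : G) :=
      orderOf_injective (MulAut.conj g).toMonoidHom (MulAut.conj g).injective (x : G)
    rw [h2', hx', hy'] at h3
    omega
  · rw [eq_top_iff]
    intro g _
    by_cases hgp : g • p = p
    · exact hcont g hgp
    · obtain ⟨m, hm, hmp⟩ := htr p hp (g • p) (hpres g p hp) (Ne.symm hgp)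
      have h1 : (m⁻¹ * g) • p = p := by rw [mul_smul, ← hmp, inv_smul_smul]
      have h2' := N.mul_mem hm (hcont _ h1)
      rwa [mul_inv_cancel_left] at h2'

/-- the same for a subgroup, with the point stabilizer given as an intersection -/
theorem simple_of_stab {G α : Type*} [Group G] [MulAction G α] [DecidableEq α]
    (H : Subgroup G) [Finite H] [Nontrivial H] (S : Finset α) (p : α) (hp : p ∈ S)
    (h2S : 2 ∣ S.card) (h3S : 3 ∣ S.card)
    (hpres : ∀ g ∈ H, ∀ a ∈ S, g • a ∈ S)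
    (hfaith : ∀ g ∈ H, g ≠ 1 → ∃ a ∈ S, g • a ≠ a)
    (h2 : ∀ a ∈ S, ∀ b ∈ S, ∀ c ∈ S, ∀ d ∈ S, a ≠ b → c ≠ d → ∃ g ∈ H, g • a = c ∧ g • b = d)
    (hstab : IsSimpleGroup ↥(H ⊓ MulAction.stabilizer G p)) : IsSimpleGroup ↥H := by
  apply simple_of_stab_aux (G := ↥H) S p hp h2S h3S
  · intro g a ha
    exact hpres g.1 g.2 a ha
  · intro g hg
    exact hfaith g.1 g.2 (fun h => hg (Subtype.ext h))
  · intro a ha b hb c hc d hd hab hcd
    obtain ⟨g, hg, h⟩ := h2 a ha b hb c hc d hd hab hcd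
    exact ⟨⟨g, hg⟩, h⟩
  · intro N hN
    let f : ↥(H ⊓ MulAction.stabilizer G p) →* ↥H := Subgroup.inclusion inf_le_left
    haveI : (N.comap f).Normal := hN.comap f
    rcases hstab.eq_bot_or_eq_top_of_normal (N.comap f) inferInstance with h | h
    · left
      intro x hx hxp
      have hmem : (⟨x.1, ⟨x.2, hxp⟩⟩ : ↥(H ⊓ MulAction.stabilizer G p)) ∈ N.comap f := hx
      rw [h, Subgroup.mem_bot] at hmem
      have h1 := congrArg (fun z : ↥(H ⊓ MulAction.stabilizer G p) => (z : G)) hmem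
      exact Subtype.ext h1
    · right
      intro x hxp
      have hmem : (⟨x.1, ⟨x.2, hxp⟩⟩ : ↥(H ⊓ MulAction.stabilizer G p)) ∈ N.comap f := by
        rw [h]
        exact Subgroup.mem_top _
      exact hmem

/-- a subgroup of a subgroup as a subgroup of the whole group -/
def flat {G : Type*} [Group G] (H : Subgroup G) (A : Subgroup ↥H) (B : Subgroup G)
    (h : ∀ x : ↥H, x ∈ A ↔ (x : G) ∈ B) (hB : B ≤ H) : ↥A ≃* ↥B where
  toFun := fun x => ⟨x.1.1, (h x.1).mp x.2⟩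
  invFun := fun y => ⟨⟨y.1, hB y.2⟩, (h _).mpr y.2⟩
  left_inv := fun _ => rfl
  right_inv := fun _ => rfl
  map_mul' := fun _ _ => rfl

/-- conjugate subgroups are isomorphic -/
def conjEquiv {G : Type*} [Group G] (A B : Subgroup G) (σ : G)
    (h : ∀ x : G, x ∈ A ↔ σ * x * σ⁻¹ ∈ B) : ↥A ≃* ↥B where
  toFun := fun x => ⟨σ * x.1 * σ⁻¹, (h x.1).mp x.2⟩
  invFun := fun y => ⟨σ⁻¹ * y.1 * σ, (h _).mpr (by
    have e : σ * (σ⁻¹ * y.1 * σ) * σ⁻¹ = y.1 := by group
    rw [e]
    exact y.2)⟩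
  left_inv := fun x => Subtype.ext (by
    show σ⁻¹ * (σ * x.1 * σ⁻¹) * σ = x.1
    group)
  right_inv := fun y => Subtype.ext (by
    show σ * (σ⁻¹ * y.1 * σ) * σ⁻¹ = y.1
    group)
  map_mul' := fun x y => Subtype.ext (by
    show σ * (x.1 * y.1) * σ⁻¹ = σ * x.1 * σ⁻¹ * (σ * y.1 * σ⁻¹)
    group)

end Cfsg.Agent.Lib_lead_Simple
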