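import Mathlib
import Cfsg.Prelude.Def_Sporadic_a
import Cfsg.Agent.Lib_lead_Simple
import Cfsg.Agent.Lib_lead_M24Oct
import Cfsg.Agent.Lib_lead_OctConfig
import Cfsg.Agent.S0360

/-! The stabilizer of an octad induces the alternating group on it, and splits over the
pointwise stabilizer. -/

set_option autoImplicit false

namespace Cfsg.Agent.Lib_lead_OctA8

open Cfsg Cfsg.Agent.Lib_lead_Golay Cfsg.Agent.Lib_lead_GolayPerm Cfsg.Agent.Lib_lead_M24
  Cfsg.Agent.Lib_lead_M24Chain Cfsg.Agent.Lib_lead_M24ChainData Cfsg.Agent.Lib_lead_M24Trans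
  Cfsg.Agent.Lib_lead_M24Oct Cfsg.Agent.Lib_lead_OctConfig
open scoped Pointwise

/-- the stabilizer of a set, as a group of permutations -/
abbrev HS (o : Finset GolayPt) : Subgroup (Equiv.Perm GolayPt) :=
  M24 ⊓ MulAction.stabilizer (Equiv.Perm GolayPt) o

theorem mem_HS (o : Finset GolayPt) (g : Equiv.Perm GolayPt) :
    g ∈ HS o ↔ g ∈ M24 ∧ g • o = o := by
  rw [Subgroup.mem_inf]
  exact and_congr Iff.rfl MulAction.mem_stabilizer_iff

theorem card_stab_octad (o : Finset GolayPt) (ho : o ∈ octads) :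
    Nat.card (MulAction.stabilizer M24 o) = 322560 := by
  classical
  obtain ⟨S, hS⟩ := Cfsg.Agent.Lib_lead_Steiner.exists_finset octads
  have hScard : S.card = 759 := by
    have h : (S : Set (Finset GolayPt)) = octads := by
      ext b
      simp [hS]
    rw [← Set.ncard_coe_finset, h]
    exact Cfsg.Agent.S0360.result
  have h := orbit_count (G := M24) (⊤ : Subgroup M24) o S
    (fun g _ => (hS _).mpr (smul_mem_weight g.2 ho))
    (fun z hz => by
      obtain ⟨g, hg⟩ := Cfsg.Agent.Lib_lead_M24Data.octads_trans o z ho ((hS z).mp hz)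
      exact ⟨g, Subgroup.mem_top _, hg⟩)
  rw [Subgroup.card_top, top_inf_eq, hScard, card_M24] at h
  omega

theorem card_HS (o : Finset GolayPt) (ho : o ∈ octads) : Nat.card ↥(HS o) = 322560 := by
  rw [← card_stab_octad o ho]
  exact (Nat.card_congr (Cfsg.Agent.Lib_lead_Simple.flat M24 (MulAction.stabilizer M24 o) (HS o)
    (fun x => ⟨fun h => (mem_HS o _).mpr ⟨x.2, h⟩, fun h => ((mem_HS o _).mp h).2⟩)
    inf_le_left).toEquiv).symm

/-- restriction to the set -/
def res (o : Finset GolayPt) : ↥(HS o) →* Equiv.Perm ↥o where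
  toFun := fun g => (g : Equiv.Perm GolayPt).subtypePerm
    (fun x => mem_of_presv ((mem_HS o _).mp g.2).2 x)
  map_one' := by
    ext x
    rfl
  map_mul' := fun a b => by
    ext x
    rfl

theorem res_apply (o : Finset GolayPt) (g : ↥(HS o)) (x : ↥o) :
    ((res o g x : ↥o) : GolayPt) = (g : Equiv.Perm GolayPt) x := rfl

theorem smul_of_iff {g : Equiv.Perm GolayPt} {o : Finset GolayPt}
    (h : ∀ x, g x ∈ o ↔ x ∈ o) : g • o = o := by
  ext p
  rw [← Finset.inv_smul_mem_iff]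
  have h1 := h (g⁻¹ p)
  rw [Equiv.Perm.inv_def, Equiv.apply_symm_apply] at h1
  exact h1.symm

theorem smul_of_fix {g : Equiv.Perm GolayPt} {o : Finset GolayPt}
    (h : ∀ p ∈ o, g p = p) : g • o = o := by
  apply smul_of_iff
  intro x
  constructor
  · intro hx
    have h1 := h _ hx
    have h2 : g x = x := g.injective h1
    rwa [h2] at hx
  · intro hx
    rw [h x hx]
    exact hx

theorem range_res (o : Finset GolayPt) :
    {e : Equiv.Perm ↥o | ∃ g : Equiv.Perm GolayPt, g ∈ M24 ∧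
      ∃ h : (∀ x, g x ∈ o ↔ x ∈ o), g.subtypePerm h = e}
      = ((res o).range : Set (Equiv.Perm ↥o)) := by
  ext e
  constructor
  · rintro ⟨g, hg, h, rfl⟩
    exact ⟨⟨g, (mem_HS o g).mpr ⟨hg, smul_of_iff h⟩⟩, rfl⟩
  · rintro ⟨g, rfl⟩
    exact ⟨g.1, ((mem_HS o _).mp g.2).1,
      fun x => mem_of_presv ((mem_HS o _).mp g.2).2 x, rfl⟩

theorem ker_res (o : Finset GolayPt) : (res o).ker.map (HS o).subtype = KK o := by
  ext g
  rw [Subgroup.mem_map, mem_KK]
  constructor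
  · rintro ⟨x, hx, rfl⟩
    refine ⟨((mem_HS o _).mp x.2).1, fun p hp => ?_⟩
    have h1 := congrArg (fun e : Equiv.Perm ↥o => ((e ⟨p, hp⟩ : ↥o) : GolayPt))
      (MonoidHom.mem_ker.mp hx)
    exact h1
  · rintro ⟨hg, hfix⟩
    refine ⟨⟨g, (mem_HS o g).mpr ⟨hg, smul_of_fix hfix⟩⟩, ?_, rfl⟩
    rw [MonoidHom.mem_ker]
    refine Equiv.ext fun x => Subtype.ext ?_
    exact hfix x.1 x.2

theorem card_range (o : Finset GolayPt) (ho : o ∈ octads) :
    Nat.card ↥(res o).range = 20160 := by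
  have h1 : Nat.card ↥(res o).ker = 16 := by
    rw [← Subgroup.card_map_of_injective (HS o).subtype_injective, ker_res]
    exact (octad_fix o ho).1
  have h2 := Subgroup.index_mul_card (res o).ker
  rw [Subgroup.index_ker, h1, card_HS o ho] at h2
  omega

theorem range_eq (o : Finset GolayPt) (ho : o ∈ octads) :
    (res o).range = alternatingGroup ↥o := by
  apply Equiv.Perm.eq_alternatingGroup_of_index_eq_two
  have h1 := Subgroup.index_mul_card (res o).range
  have h2 : Nat.card (Equiv.Perm ↥o) = 40320 := by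
    rw [Nat.card_eq_fintype_card, Fintype.card_perm, Fintype.card_coe, ho.2]
    decide
  rw [card_range o ho, h2] at h1
  omega

/-- the stabilizer of an octad induces the alternating group on it -/
theorem induced (o : Finset GolayPt) (ho : o ∈ octads) :
    {e : Equiv.Perm ↥o | ∃ g : Equiv.Perm GolayPt, g ∈ M24 ∧
      ∃ h : (∀ x, g x ∈ o ↔ x ∈ o), g.subtypePerm h = e}
      = (alternatingGroup ↥o : Set (Equiv.Perm ↥o)) := by
  rw [range_res, range_eq o ho]

/-! ### The complement -/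

theorem bitc : ∀ j : Fin 24, (3277415 : ℕ).testBit j.val = true →
    j.val = 1 ∨ (3277413 : ℕ).testBit j.val = true := by decide

theorem bitd : ∀ z : Fin 24, (3277413 : ℕ).testBit z.val = false →
    (13499802 : ℕ).testBit z.val = true := by decide

theorem disj (o : Finset GolayPt) (ho : o ∈ octads) (p : GolayPt) (hp : p ∉ o) :
    KK o ⊓ (HS o ⊓ MulAction.stabilizer (Equiv.Perm GolayPt) p) = ⊥ := by
  obtain ⟨σ, hσ, hσo, hσp⟩ := config1' o ho p hp
  rw [eq_bot_iff]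
  intro g hg
  rw [Subgroup.mem_inf, mem_KK, Subgroup.mem_inf, MulAction.mem_stabilizer_iff] at hg
  obtain ⟨⟨hgM, hfix⟩, -, hgp⟩ := hg
  have hmem : σ⁻¹ * g * σ ∈ stabM 3277415 := by
    refine ⟨M24.mul_mem (M24.mul_mem (M24.inv_mem hσ) hgM) hσ, ?_⟩
    intro j hj hbit
    rw [Equiv.Perm.mul_apply, Equiv.Perm.mul_apply, Equiv.Perm.inv_eq_iff_eq]
    rcases bitc ⟨j, hj⟩ hbit with h1 | h1
    · have hj1 : j = 1 := h1
      rw [hj1, hσp]
      exact hgp
    · apply hfix
      rw [← hσo]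
      apply Finset.smul_mem_smul_finset (a := σ)
      rw [mem_fsOf, idx_ptN' j hj]
      exact h1
  rw [stab_oct_pt, Subgroup.mem_bot] at hmem
  rw [Subgroup.mem_bot]
  have h3 : g = σ * (σ⁻¹ * g * σ) * σ⁻¹ := by group
  rw [h3, hmem]
  group

/-- every element of the octad stabilizer is an element of the pointwise stabilizer times an
element fixing the outside point -/
theorem decomp (o : Finset GolayPt) (ho : o ∈ octads) (p : GolayPt) (hp : p ∉ o)
    (g : Equiv.Perm GolayPt) (hg : g ∈ HS o) :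
    ∃ k ∈ KK o, k⁻¹ * g ∈ HS o ⊓ MulAction.stabilizer (Equiv.Perm GolayPt) p := by
  obtain ⟨σ, hσ, hσo, hσp⟩ := config1' o ho p hp
  have hg' := (mem_HS o g).mp hg
  have hgp : g p ∉ o := fun h => hp ((mem_of_presv hg'.2 p).mp h)
  have hbit : (3277413 : ℕ).testBit (idx (σ⁻¹ (g p))) = false := bit_false8 hσo (g p) hgp
  obtain ⟨t, ht, hFt, htb⟩ := lvl6'.2.2.2 (idx (σ⁻¹ (g p))) (idx_lt _)
    (bitd ⟨_, idx_lt _⟩ hbit)
  rw [ptN_idx] at htb
  have hkfix : ∀ x ∈ o, (σ * t * σ⁻¹) x = x := by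
    intro x hx
    rw [Equiv.Perm.mul_apply, Equiv.Perm.mul_apply,
      fix_of_FixM hFt (σ⁻¹ x) ((bit_iff8 hσo x).mpr hx), Equiv.Perm.inv_def,
      Equiv.apply_symm_apply]
  have hkM : σ * t * σ⁻¹ ∈ M24 := M24.mul_mem (M24.mul_mem hσ (C3_le ht)) (M24.inv_mem hσ)
  have hk : σ * t * σ⁻¹ ∈ KK o := (mem_KK o _).mpr ⟨hkM, hkfix⟩
  refine ⟨σ * t * σ⁻¹, hk, ?_⟩
  refine Subgroup.mem_inf.mpr ⟨(mem_HS o _).mpr ⟨M24.mul_mem (M24.inv_mem hkM) hg'.1, ?_⟩,
    MulAction.mem_stabilizer_iff.mpr ?_⟩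
  · rw [mul_smul, hg'.2, inv_smul_eq_iff, smul_of_fix hkfix]
  · rw [Equiv.Perm.smul_def, Equiv.Perm.mul_apply, Equiv.Perm.inv_eq_iff_eq,
      Equiv.Perm.mul_apply, Equiv.Perm.mul_apply, ← hσp, Equiv.Perm.inv_def,
      Equiv.symm_apply_apply, htb, Equiv.Perm.inv_def, Equiv.apply_symm_apply, hσp]

theorem KK_le (o : Finset GolayPt) : KK o ≤ HS o := by
  intro g hg
  rw [mem_KK] at hg
  exact (mem_HS o g).mpr ⟨hg.1, smul_of_fix hg.2⟩

theorem sup_eq (o : Finset GolayPt) (ho : o ∈ octads) (p : GolayPt) (hp : p ∉ o) :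
    KK o ⊔ (HS o ⊓ MulAction.stabilizer (Equiv.Perm GolayPt) p) = HS o := by
  apply le_antisymm
  · exact sup_le (KK_le o) inf_le_left
  · intro g hg
    obtain ⟨k, hk, hmem⟩ := decomp o ho p hp g hg
    have h1 := Subgroup.mul_mem_sup hk hmem
    rwa [mul_inv_cancel_left] at h1

/-- restriction of the complement to the octad -/
def res' (o : Finset GolayPt) (p : GolayPt) :
    ↥(HS o ⊓ MulAction.stabilizer (Equiv.Perm GolayPt) p) →* Equiv.Perm ↥o :=
  (res o).comp (Subgroup.inclusion inf_le_left)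

theorem res'_inj (o : Finset GolayPt) (ho : o ∈ octads) (p : GolayPt) (hp : p ∉ o) :
    Function.Injective (res' o p) := by
  rw [injective_iff_map_eq_one]
  intro x hx
  have hmem : (x : Equiv.Perm GolayPt) ∈
      KK o ⊓ (HS o ⊓ MulAction.stabilizer (Equiv.Perm GolayPt) p) := by
    refine Subgroup.mem_inf.mpr ⟨?_, x.2⟩
    rw [mem_KK]
    refine ⟨((mem_HS o _).mp (Subgroup.mem_inf.mp x.2).1).1, fun q hq => ?_⟩
    have h1 := congrArg (fun e : Equiv.Perm ↥o => ((e ⟨q, hq⟩ : ↥o) : GolayPt)) hx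
    exact h1
  rw [disj o ho p hp, Subgroup.mem_bot] at hmem
  exact Subtype.ext hmem

theorem range_res' (o : Finset GolayPt) (ho : o ∈ octads) (p : GolayPt) (hp : p ∉ o) :
    (res' o p).range = alternatingGroup ↥o := by
  rw [← range_eq o ho]
  apply le_antisymm
  · rintro e ⟨x, rfl⟩
    exact ⟨Subgroup.inclusion inf_le_left x, rfl⟩
  · rintro e ⟨g, rfl⟩
    obtain ⟨k, hk, hmem⟩ := decomp o ho p hp g.1 g.2
    refine ⟨⟨k⁻¹ * g.1, hmem⟩, ?_⟩
    refine Equiv.ext fun x => Subtype.ext ?_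
    show (k⁻¹ * (g : Equiv.Perm GolayPt)) x.1 = (g : Equiv.Perm GolayPt) x.1
    rw [Equiv.Perm.mul_apply, Equiv.Perm.inv_eq_iff_eq]
    have hgq : (g : Equiv.Perm GolayPt) x.1 ∈ o :=
      (mem_of_presv ((mem_HS o _).mp g.2).2 x.1).mpr x.2
    exact (((mem_KK o k).mp hk).2 _ hgq).symm

/-- an octad stabilizer is a split extension -/
theorem split (o : Finset GolayPt) (ho : o ∈ octads) (p : GolayPt) (hp : p ∉ o) :
    (M24 ⊓ fixingSubgroup (Equiv.Perm GolayPt) (o : Set GolayPt)) ⊓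
      (M24 ⊓ MulAction.stabilizer (Equiv.Perm GolayPt) o ⊓
        MulAction.stabilizer (Equiv.Perm GolayPt) p) = ⊥ ∧
    (M24 ⊓ fixingSubgroup (Equiv.Perm GolayPt) (o : Set GolayPt)) ⊔
      (M24 ⊓ MulAction.stabilizer (Equiv.Perm GolayPt) o ⊓
        MulAction.stabilizer (Equiv.Perm GolayPt) p) =
      (M24 ⊓ MulAction.stabilizer (Equiv.Perm GolayPt) o) ∧
    Nonempty (↥(M24 ⊓ MulAction.stabilizer (Equiv.Perm GolayPt) o ⊓
      MulAction.stabilizer (Equiv.Perm GolayPt) p) ≃* alternatingGroup (Fin 8)) := by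
  refine ⟨disj o ho p hp, sup_eq o ho p hp, ⟨?_⟩⟩
  have hcard : Fintype.card ↥o = Fintype.card (Fin 8) := by
    rw [Fintype.card_coe, ho.2, Fintype.card_fin]
  exact ((MonoidHom.ofInjective (res'_inj o ho p hp)).trans
    (MulEquiv.subgroupCongr (range_res' o ho p hp))).trans
    (Equiv.altCongrHom (Fintype.equivOfCardEq hcard))

end Cfsg.Agent.Lib_lead_OctA8
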