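import Mathlib
import Cfsg.Prelude.Def_SporadicCombinatorics
import Cfsg.Agent.Lib_lead_M12Thm2
import Cfsg.Agent.Lib_lead_OctA8
import Cfsg.Agent.Lib_lead_DodPair
import Cfsg.Agent.Lib_lead_M24Orb
import Cfsg.Agent.Lib_lead_Leech

/-! The stabilizer of a pair of points of the complementary dodecad in the stabilizer of a dodecad
and one of its points is the symmetric group of degree five. -/

set_option autoImplicit false

namespace Cfsg.Agent.Lib_lead_M11S5

open Cfsg Cfsg.Agent.Lib_lead_Golay Cfsg.Agent.Lib_lead_GolayPerm Cfsg.Agent.Lib_lead_M24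
  Cfsg.Agent.Lib_lead_M24Chain Cfsg.Agent.Lib_lead_M12 Cfsg.Agent.Lib_lead_M12Data
  Cfsg.Agent.Lib_lead_M12Thm Cfsg.Agent.Lib_lead_M12Thm2 Cfsg.Agent.Lib_lead_M24Orb
  Cfsg.Agent.Lib_lead_OctA8
open scoped Pointwise

/-- the octad through the points 0, 5, 7 meeting the complement of the root dodecad in two
points -/
theorem uniq : ∀ k < 4096, popc (M k) = 8 → popc (M k &&& 16436384) = 2 →
    (M k).testBit 0 = true → (M k).testBit 5 = true → (M k).testBit 7 = true → M k = 262637 :=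
  forall_of_card_filter (by decide +kernel)

theorem O0_octad : fsOf 262637 ∈ octads := by
  have hk : M 1921 = 262637 := by decide +kernel
  rw [← hk]
  exact fsOf_mem_weight 1921 8 (by decide +kernel)

theorem compl0 : (fsOf 340831)ᶜ = fsOf 16436384 := by
  rw [fsOf_compl]
  have hx : (16777215 ^^^ 340831 : ℕ) = 16436384 := by decide
  rw [hx]

theorem memB : ∀ x : GolayPt, x ∈ fsOf 262476 ↔
    (x ∈ fsOf 262637 ∧ x ∈ fsOf 340831 ∧ x ≠ ptN 0) := by
  intro x
  rw [mem_fsOf, mem_fsOf, mem_fsOf]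
  obtain ⟨j, hj, rfl⟩ : ∃ j < 24, x = ptN j := ⟨idx x, idx_lt x, (ptN_idx x).symm⟩
  rw [idx_ptN' j hj]
  interval_cases j <;> decide

theorem std_inv (h : Equiv.Perm GolayPt) (hM : h ∈ M24) (hd : h • fsOf 340831 = fsOf 340831)
    (hp : h (ptN 0) = ptN 0)
    (hq : h • ({ptN 5, ptN 7} : Finset GolayPt) = {ptN 5, ptN 7}) :
    h • fsOf 262637 = fsOf 262637 := by
  have ho : h • fsOf 262637 ∈ octads := smul_mem_weight hM O0_octad
  obtain ⟨k, hk, hpop, hk'⟩ := Cfsg.Agent.Lib_lead_M24Data.weight_eq ho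
  have hsub : ({ptN 5, ptN 7} : Finset GolayPt) ⊆ fsOf 262637 := by
    intro x hx
    rw [Finset.mem_insert, Finset.mem_singleton] at hx
    rcases hx with rfl | rfl
    · rw [mem_fsOf, idx_ptN' 5 (by norm_num)]
      decide
    · rw [mem_fsOf, idx_ptN' 7 (by norm_num)]
      decide
  have hsub' : ({ptN 5, ptN 7} : Finset GolayPt) ⊆ fsOf (M k) := by
    rw [← hk', ← hq]
    exact Finset.smul_finset_subset_smul_finset hsub
  have b0 : (M k).testBit 0 = true := by
    have h1 : h (ptN 0) ∈ h • fsOf 262637 :=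
      Finset.smul_mem_smul_finset (by rw [mem_fsOf, idx_ptN' 0 (by norm_num)]; decide)
    rw [hp, hk', mem_fsOf, idx_ptN' 0 (by norm_num)] at h1
    exact h1
  have b5 : (M k).testBit 5 = true := by
    have h1 := hsub' (Finset.mem_insert_self _ _)
    rw [mem_fsOf, idx_ptN' 5 (by norm_num)] at h1
    exact h1
  have b7 : (M k).testBit 7 = true := by
    have h1 := hsub' (Finset.mem_insert_of_mem (Finset.mem_singleton_self _))
    rw [mem_fsOf, idx_ptN' 7 (by norm_num)] at h1
    exact h1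
  have hc : h • fsOf 16436384 = fsOf 16436384 := by
    rw [← compl0, Cfsg.Agent.Lib_lead_DodPair.smul_compl, hd]
  have bc : popc (M k &&& 16436384) = 2 := by
    have hlt : M k &&& 16436384 < 2 ^ 24 := Nat.and_lt_two_pow _ (by norm_num)
    rw [← card_fsOf _ hlt, ← fsOf_inter, ← hk']
    nth_rewrite 1 [← hc]
    rw [← Finset.smul_finset_inter, Finset.card_smul_finset, fsOf_inter, card_fsOf _ (by decide)]
    decide +kernel
  rw [hk', uniq k hk hpop bc b0 b5 b7]

theorem std_B (h : Equiv.Perm GolayPt) (hM : h ∈ M24) (hd : h • fsOf 340831 = fsOf 340831)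
    (hp : h (ptN 0) = ptN 0)
    (hq : h • ({ptN 5, ptN 7} : Finset GolayPt) = {ptN 5, ptN 7}) :
    h • fsOf 262476 = fsOf 262476 := by
  have hO := std_inv h hM hd hp hq
  apply Finset.eq_of_subset_of_card_le
  · intro y hy
    obtain ⟨x, hx, rfl⟩ := Finset.mem_smul_finset.mp hy
    obtain ⟨h1, h2, h3⟩ := (memB x).mp hx
    refine (memB _).mpr ⟨?_, ?_, ?_⟩
    · rw [← hO]
      exact Finset.smul_mem_smul_finset h1
    · rw [← hd]
      exact Finset.smul_mem_smul_finset h2
    · intro h4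
      apply h3
      apply h.injective
      rw [hp]
      exact h4
  · rw [Finset.card_smul_finset]

theorem B0_sub : fsOf 262476 ⊆ fsOf 340831 := fun x hx => ((memB x).mp hx).2.1

theorem B0_card : (fsOf 262476).card = 5 := by
  rw [card_fsOf _ (by norm_num)]
  decide +kernel

/-- a third point outside a set of twelve points -/
theorem third (d : Finset GolayPt) (hd : d.card = 12) (q q' : GolayPt) :
    ∃ r, r ∉ d ∧ r ≠ q ∧ r ≠ q' := by
  have h1 : (insert q (insert q' d)).card < (Finset.univ : Finset GolayPt).card := by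
    have h2 := Finset.card_insert_le q (insert q' d)
    have h3 := Finset.card_insert_le q' d
    rw [Finset.card_univ, Cfsg.Agent.Lib_lead_Leech.card_golayPt]
    omega
  obtain ⟨r, -, hr⟩ := Finset.exists_mem_notMem_of_card_lt_card h1
  rw [Finset.mem_insert, Finset.mem_insert] at hr
  push Not at hr
  exact ⟨r, hr.2.2, hr.1, hr.2.1⟩

theorem emb3 (a b c : GolayPt) (hab : a ≠ b) (hac : a ≠ c) (hbc : b ≠ c) :
    Function.Injective ![a, b, c] := by
  intro i j h
  fin_cases i <;> fin_cases j <;> simp_all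

/-- two-transitivity on the complement -/
theorem two_compl (d : Finset GolayPt) (hd : d ∈ dodecads) (p : GolayPt) (hp : p ∈ d)
    (q q' a b : GolayPt) (hq : q ∉ d) (hq' : q' ∉ d) (ha : a ∉ d) (hb : b ∉ d) (hqq' : q ≠ q')
    (hab : a ≠ b) :
    ∃ g ∈ MulAction.stabilizer M24 d ⊓ MulAction.stabilizer M24 p,
      (g : Equiv.Perm GolayPt) q = a ∧ (g : Equiv.Perm GolayPt) q' = b := by
  obtain ⟨r, hr, hrq, hrq'⟩ := third d (card_dodecad hd) q q'
  obtain ⟨c, hc, hca, hcb⟩ := third d (card_dodecad hd) a b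
  obtain ⟨g, hg, hmap⟩ := three d hd p hp ⟨![q, q', r], emb3 q q' r hqq' (Ne.symm hrq) (Ne.symm hrq')⟩
    ⟨![a, b, c], emb3 a b c hab (Ne.symm hca) (Ne.symm hcb)⟩
    (by intro i; fin_cases i <;> simp [hq, hq', hr])
    (by intro i; fin_cases i <;> simp [ha, hb, hc])
  exact ⟨g, hg, hmap 0, hmap 1⟩

/-- moving the standard configuration to any configuration -/
theorem exists_sigma4 (d : Finset GolayPt) (hd : d ∈ dodecads) (p q q' : GolayPt) (hp : p ∈ d)
    (hq : q ∉ d) (hq' : q' ∉ d) (hqq' : q ≠ q') :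
    ∃ σ ∈ M24, σ • fsOf 340831 = d ∧ σ (ptN 0) = p ∧ σ (ptN 5) = q ∧ σ (ptN 7) = q' := by
  obtain ⟨σ0, hσ0, hσ0d⟩ := exists_sigma d hd
  obtain ⟨r, hr, hrq, hrq'⟩ := third d (card_dodecad hd) q q'
  obtain ⟨g, hg, h0, h5, h7, -⟩ := rB (σ0⁻¹ p) (σ0⁻¹ q) (σ0⁻¹ q') (σ0⁻¹ r)
    ((bit_iff hσ0d p).mpr hp) (bit_false hσ0d _ hq) (bit_false hσ0d _ hq') (bit_false hσ0d _ hr)
    (fun h => hqq' (σ0⁻¹.injective h)) (fun h => hrq (σ0⁻¹.injective h).symm)
    (fun h => hrq' (σ0⁻¹.injective h).symm)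
  have hgd : g⁻¹ • fsOf 340831 = fsOf 340831 := by
    rw [inv_smul_eq_iff]
    exact hg.2.1.symm
  refine ⟨σ0 * g⁻¹, M24.mul_mem hσ0 (M24.inv_mem hg.1), ?_, ?_, ?_, ?_⟩
  · rw [mul_smul, hgd, hσ0d]
  · rw [Equiv.Perm.mul_apply, ← h0, Equiv.Perm.inv_def g, Equiv.symm_apply_apply,
      Equiv.Perm.inv_def σ0, Equiv.apply_symm_apply]
  · rw [Equiv.Perm.mul_apply, ← h5, Equiv.Perm.inv_def g, Equiv.symm_apply_apply,
      Equiv.Perm.inv_def σ0, Equiv.apply_symm_apply]
  · rw [Equiv.Perm.mul_apply, ← h7, Equiv.Perm.inv_def g, Equiv.symm_apply_apply,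
      Equiv.Perm.inv_def σ0, Equiv.apply_symm_apply]

theorem smul_pair (σ : Equiv.Perm GolayPt) (a b : GolayPt) :
    σ • ({a, b} : Finset GolayPt) = {σ a, σ b} := by
  rw [Finset.smul_finset_insert, Finset.smul_finset_singleton]
  rfl

/-- an invariant set of five points of the dodecad -/
theorem exists_B (d : Finset GolayPt) (hd : d ∈ dodecads) (p q q' : GolayPt) (hp : p ∈ d)
    (hq : q ∉ d) (hq' : q' ∉ d) (hqq' : q ≠ q') :
    ∃ B : Finset GolayPt, B.card = 5 ∧ B ⊆ d ∧ ∀ h ∈ M24, h • d = d → h p = p →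
      h • ({q, q'} : Finset GolayPt) = {q, q'} → h • B = B := by
  obtain ⟨σ, hσ, hσd, hσp, hσq, hσq'⟩ := exists_sigma4 d hd p q q' hp hq hq' hqq'
  refine ⟨σ • fsOf 262476, ?_, ?_, ?_⟩
  · rw [Finset.card_smul_finset, B0_card]
  · rw [← hσd]
    exact Finset.smul_finset_subset_smul_finset B0_sub
  · intro h hM hhd hhp hhq
    have h1 : (σ⁻¹ * h * σ) • fsOf 262476 = fsOf 262476 := by
      apply std_B _ (M24.mul_mem (M24.mul_mem (M24.inv_mem hσ) hM) hσ)
      · rw [mul_smul, mul_smul, hσd, hhd, inv_smul_eq_iff, hσd]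
      · rw [Equiv.Perm.mul_apply, Equiv.Perm.mul_apply, hσp, hhp, ← hσp, Equiv.Perm.inv_def,
          Equiv.symm_apply_apply]
      · rw [mul_smul, mul_smul, smul_pair, hσq, hσq', hhq, inv_smul_eq_iff, smul_pair, hσq,
          hσq']
    have h2 : h • σ • fsOf 262476 = σ • (σ⁻¹ * h * σ) • fsOf 262476 := by
      rw [← mul_smul, ← mul_smul]
      congr 1
      group
    rw [h2, h1]

/-- an element of the stabilizer of a dodecad fixing five of its points is trivial -/
theorem eq_one_of_fix5 (d : Finset GolayPt) (hd : d ∈ dodecads) (B : Finset GolayPt)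
    (hB : B.card = 5) (hBd : B ⊆ d) (g : MulAction.stabilizer M24 d)
    (hfix : ∀ x ∈ B, ((g : M24) : Equiv.Perm GolayPt) x = x) : g = 1 := by
  let e : Fin 5 ↪ GolayPt :=
    (Finset.equivFinOfCardEq hB).symm.toEmbedding.trans (Function.Embedding.subtype _)
  have he : ∀ i, e i ∈ B := fun i => ((Finset.equivFinOfCardEq hB).symm i).2
  obtain ⟨g0, -, huniq⟩ := sharp d hd e e (fun i => hBd (he i)) (fun i => hBd (he i))
  have h1 := huniq g (fun i => hfix _ (he i))
  have h2 := huniq 1 (fun i => rfl)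
  rw [h1, h2]

theorem card_H (d : Finset GolayPt) (hd : d ∈ dodecads) (p q q' : GolayPt) (hp : p ∈ d)
    (hq : q ∉ d) (hq' : q' ∉ d) (hqq' : q ≠ q') :
    Nat.card ↥(MulAction.stabilizer M24 d ⊓ MulAction.stabilizer M24 p ⊓
      MulAction.stabilizer M24 ({q, q'} : Finset GolayPt)) = 120 := by
  have h := orbit_count (G := M24) (MulAction.stabilizer M24 d ⊓ MulAction.stabilizer M24 p)
    ({q, q'} : Finset GolayPt) (dᶜ.powersetCard 2)
    (fun g hg => by
      rw [Subgroup.mem_inf, MulAction.mem_stabilizer_iff, MulAction.mem_stabilizer_iff] at hg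
      have hgd : (g : Equiv.Perm GolayPt) • d = d := hg.1
      rw [Finset.mem_powersetCard]
      refine ⟨?_, ?_⟩
      · have h1 : (g : Equiv.Perm GolayPt) • ({q, q'} : Finset GolayPt) ⊆
            (g : Equiv.Perm GolayPt) • dᶜ := by
          apply Finset.smul_finset_subset_smul_finset
          intro x hx
          rw [Finset.mem_insert, Finset.mem_singleton] at hx
          rw [Finset.mem_compl]
          rcases hx with rfl | rfl
          · exact hq
          · exact hq'
        rw [Cfsg.Agent.Lib_lead_DodPair.smul_compl, hgd] at h1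
        exact h1
      · have h2 : (g • ({q, q'} : Finset GolayPt)).card = ({q, q'} : Finset GolayPt).card :=
          Finset.card_smul_finset _ _
        rw [h2, Finset.card_pair hqq'])
    (fun z hz => by
      rw [Finset.mem_powersetCard] at hz
      obtain ⟨a, b, hab, rfl⟩ := Finset.card_eq_two.mp hz.2
      have ha : a ∉ d := Finset.mem_compl.mp (hz.1 (Finset.mem_insert_self _ _))
      have hb : b ∉ d :=
        Finset.mem_compl.mp (hz.1 (Finset.mem_insert_of_mem (Finset.mem_singleton_self _)))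
      obtain ⟨g, hg, hga, hgb⟩ := two_compl d hd p hp q q' a b hq hq' ha hb hqq' hab
      refine ⟨g, hg, ?_⟩
      have h3 : (g : Equiv.Perm GolayPt) • ({q, q'} : Finset GolayPt) = {a, b} := by
        rw [smul_pair, hga, hgb]
      exact h3)
  have hc : (dᶜ.powersetCard 2).card = 66 := by
    rw [Finset.card_powersetCard, Finset.card_compl, Cfsg.Agent.Lib_lead_Leech.card_golayPt,
      card_dodecad hd]
    decide
  rw [card_stab_dp d hd p hp, hc] at h
  omega

/-- the stabilizer of a pair is the symmetric group of degree five -/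
theorem main (d : Finset GolayPt) (hd : d ∈ dodecads) (p q q' : GolayPt) (hp : p ∈ d)
    (hq : q ∉ d) (hq' : q' ∉ d) (hqq' : q ≠ q') :
    Nonempty (↥(MulAction.stabilizer M24 d ⊓ MulAction.stabilizer M24 p ⊓
      MulAction.stabilizer M24 ({q, q'} : Finset GolayPt)) ≃* Equiv.Perm (Fin 5)) := by
  obtain ⟨B, hB5, hBd, hBinv⟩ := exists_B d hd p q q' hp hq hq' hqq'
  have hmem : ∀ h : ↥(MulAction.stabilizer M24 d ⊓ MulAction.stabilizer M24 p ⊓
      MulAction.stabilizer M24 ({q, q'} : Finset GolayPt)),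
      ((h : M24) : Equiv.Perm GolayPt) ∈ HS B := by
    intro h
    have h1 := h.2
    rw [Subgroup.mem_inf, Subgroup.mem_inf, MulAction.mem_stabilizer_iff,
      MulAction.mem_stabilizer_iff, MulAction.mem_stabilizer_iff] at h1
    exact (mem_HS B _).mpr ⟨(h : M24).2, hBinv _ (h : M24).2 h1.1.1 h1.1.2 h1.2⟩
  let incl : ↥(MulAction.stabilizer M24 d ⊓ MulAction.stabilizer M24 p ⊓
      MulAction.stabilizer M24 ({q, q'} : Finset GolayPt)) →* ↥(HS B) :=
    { toFun := fun h => ⟨((h : M24) : Equiv.Perm GolayPt), hmem h⟩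
      map_one' := rfl
      map_mul' := fun _ _ => rfl }
  let φ := (res B).comp incl
  have hinj : Function.Injective φ := by
    rw [injective_iff_map_eq_one]
    intro h hh
    have h1 := h.2
    rw [Subgroup.mem_inf, Subgroup.mem_inf] at h1
    have hfix : ∀ x ∈ B, ((h : M24) : Equiv.Perm GolayPt) x = x := by
      intro x hx
      have h3 := congrArg (fun e : Equiv.Perm ↥B => ((e ⟨x, hx⟩ : ↥B) : GolayPt)) hh
      exact h3
    have h4 := eq_one_of_fix5 d hd B hB5 hBd ⟨(h : M24), h1.1.1⟩ hfix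
    have h5 : (h : M24) = 1 := congrArg Subtype.val h4
    exact Subtype.ext h5
  have hcard : Nat.card (Equiv.Perm ↥B) = 120 := by
    rw [Nat.card_eq_fintype_card, Fintype.card_perm, Fintype.card_coe, hB5]
    decide
  have hbij : Function.Bijective φ := by
    rw [Nat.bijective_iff_injective_and_card]
    exact ⟨hinj, by rw [card_H d hd p q q' hp hq hq' hqq', hcard]⟩
  exact ⟨(MulEquiv.ofBijective φ hbij).trans (Finset.equivFinOfCardEq hB5).permCongrHom⟩

end Cfsg.Agent.Lib_lead_M11S5
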