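import Mathlib
import Cfsg.Prelude.Def_SporadicCombinatorics
import Cfsg.Agent.Lib_lead_M11CentData
import Cfsg.Agent.Lib_lead_M11S5

/-! The centralizer of an involution in the stabilizer of a dodecad and a point of it is the
general linear group of degree two over the field of three elements. -/

set_option autoImplicit false

namespace Cfsg.Agent.Lib_lead_M11Cent

open Cfsg Cfsg.Agent.Lib_lead_Golay Cfsg.Agent.Lib_lead_GolayPerm Cfsg.Agent.Lib_lead_M24
  Cfsg.Agent.Lib_lead_M24Chain Cfsg.Agent.Lib_lead_Cls Cfsg.Agent.Lib_lead_Enum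
  Cfsg.Agent.Lib_lead_EnumD Cfsg.Agent.Lib_lead_M11CentData
  Cfsg.Agent.Lib_lead_M12 Cfsg.Agent.Lib_lead_M12Data Cfsg.Agent.Lib_lead_M12Thm
open scoped Pointwise

/-- the matrix of a map -/
def mat (f : ℕ → ℕ) : Matrix (Fin 2) (Fin 2) (ZMod 3) :=
  !![(bxN (f 1) : ZMod 3), (bxN (f 3) : ZMod 3); (byN (f 1) : ZMod 3), (byN (f 3) : ZMod 3)]

theorem mat_comp (f f' : ℕ → ℕ) (h : lin f = true) (h' : mvd f' = true) :
    mat (fun j => f (f' j)) = mat f * mat f' := by
  unfold mvd at h'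
  rw [List.all_eq_true] at h'
  have m1 : f' 1 ∈ moved8 := by simpa using h' 1 (by decide)
  have m3 : f' 3 ∈ moved8 := by simpa using h' 3 (by decide)
  unfold lin at h
  rw [List.all_eq_true] at h
  have l1 := h _ m1
  have l3 := h _ m3
  simp only [Bool.and_eq_true, beq_iff_eq] at l1 l3
  unfold mat
  rw [Matrix.mul_fin_two, l1.1, l1.2, l3.1, l3.2]
  simp only [ZMod.natCast_mod, Nat.cast_add, Nat.cast_mul]

theorem keyM_of_mat {f f' : ℕ → ℕ} (h : mat f = mat f') : keyM f = keyM f' := by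
  unfold mat at h
  have h00 := congrFun (congrFun h 0) 0
  have h01 := congrFun (congrFun h 0) 1
  have h10 := congrFun (congrFun h 1) 0
  have h11 := congrFun (congrFun h 1) 1
  simp only [Matrix.of_apply, Matrix.cons_val_zero, Matrix.cons_val_one, Matrix.cons_val',
    Matrix.cons_val_fin_one] at h00 h01 h10 h11
  rw [ZMod.natCast_eq_natCast_iff'] at h00 h01 h10 h11
  unfold keyM
  rw [h00, h01, h10, h11]

/-- the matrix of a permutation -/
def matP (g : Equiv.Perm GolayPt) : Matrix (Fin 2) (Fin 2) (ZMod 3) :=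
  mat (fun j => idx (g (ptN j)))

theorem matP_desc {g : Equiv.Perm GolayPt} {f : ℕ → ℕ} (h : Desc g f) : matP g = mat f := by
  have e1 : idx (g (ptN 1)) = f 1 := by
    rw [h.1 1 (by norm_num), idx_ptN' _ (h.2 1 (by norm_num))]
  have e3 : idx (g (ptN 3)) = f 3 := by
    rw [h.1 3 (by norm_num), idx_ptN' _ (h.2 3 (by norm_num))]
  show mat (fun j => idx (g (ptN j))) = mat f
  unfold mat
  simp only [e1, e3]

theorem matP_one : matP 1 = 1 := by
  have e1 : idx ((1 : Equiv.Perm GolayPt) (ptN 1)) = 1 := by decide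
  have e3 : idx ((1 : Equiv.Perm GolayPt) (ptN 3)) = 3 := by decide
  show mat (fun j => idx ((1 : Equiv.Perm GolayPt) (ptN j))) = 1
  unfold mat
  simp only [e1, e3]
  have b1 : bxN 1 = 1 := by decide
  have b2 : bxN 3 = 0 := by decide
  have b3 : byN 1 = 0 := by decide
  have b4 : byN 3 = 1 := by decide
  rw [b1, b2, b3, b4, Matrix.one_fin_two]
  simp

/-- the defining property of the root centralizer -/
def PhiC (g : Equiv.Perm GolayPt) : Prop := g (ptN 0) = ptN 0 ∧ g * P x0T = P x0T * g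

theorem phiC_iff (g : Equiv.Perm GolayPt) (f : ℕ → ℕ) (_hg : g ∈ M24) (h : Desc g f) :
    PhiC g ↔ phiC f = true := by
  unfold PhiC phiC
  rw [Bool.and_eq_true, beq_iff_eq, commF_iff h x0_ok]
  constructor
  · rintro ⟨h0, hc⟩
    refine ⟨?_, hc⟩
    rw [h.1 0 (by norm_num)] at h0
    exact ptN_inj (h.2 0 (by norm_num)) (by norm_num) h0
  · rintro ⟨h0, hc⟩
    refine ⟨?_, hc⟩
    rw [h.1 0 (by norm_num), h0]

/-- the root centralizer -/
def C0Set : Set (Equiv.Perm GolayPt) :=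
  {g | g ∈ M24 ∧ (g • fsOf 340831 = fsOf 340831 ∧ PhiC g)}

theorem covC' (a b : ℕ) (ha : a < 24) (hb : b < 24) (h1 : (340831 : ℕ).testBit a = true)
    (h2 : (340831 : ℕ).testBit b = true) (h3 : ap x0T a ≠ a) (h4 : ap x0T b ≠ b) (h5 : b ≠ a)
    (h6 : b ≠ ap x0T a) : coversD XsC 0 a (ap x0T a) b (ap x0T b) = true := by
  have h := covC
  unfold covAll at h
  rw [List.all_eq_true] at h
  have h' := h a (List.mem_range.mpr ha)
  rw [List.all_eq_true] at h'
  have h'' := h' b (List.mem_range.mpr hb)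
  simpa [h1, h2, h3, h4, h5, h6] using h''

theorem x0_mem : P x0T ∈ stabD 340831 0 :=
  mem_stabD0 (P_mem x0_ok) ((fixSet_iff (desc_P x0_ok) _).mpr x0_fix)

theorem x0_apply (y : GolayPt) : P x0T y = ptN (ap x0T (idx y)) := desc_apply (desc_P x0_ok) y

theorem cov (g : Equiv.Perm GolayPt) (hg : g ∈ M24) (hgd : g • fsOf 340831 = fsOf 340831)
    (hΦ : PhiC g) :
    coversD XsC (idx (g (ptN 0))) (idx (g (ptN 1))) (idx (g (ptN 2)))
      (idx (g (ptN 3))) (idx (g (ptN 4))) = true := by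
  obtain ⟨h0, hc⟩ := hΦ
  have hgS := mem_stabD0 hg hgd
  have hcomm : ∀ y, g (P x0T y) = P x0T (g y) := fun y => by
    have := congrArg (fun t : Equiv.Perm GolayPt => t y) hc
    simpa using this
  have e12 : P x0T (ptN 1) = ptN 2 := by rw [x0_apply]; decide
  have e34 : P x0T (ptN 3) = ptN 4 := by rw [x0_apply]; decide
  have i2 : idx (g (ptN 2)) = ap x0T (idx (g (ptN 1))) := by
    rw [← e12, hcomm, x0_apply, idx_ptN' _ (ap_lt x0_ok _ (idx_lt _))]
  have i4 : idx (g (ptN 4)) = ap x0T (idx (g (ptN 3))) := by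
    rw [← e34, hcomm, x0_apply, idx_ptN' _ (ap_lt x0_ok _ (idx_lt _))]
  have i0 : idx (g (ptN 0)) = 0 := by rw [h0]; decide
  rw [i0, i2, i4]
  apply covC' _ _ (idx_lt _) (idx_lt _)
  · rw [bitD hgS]; decide
  · rw [bitD hgS]; decide
  · intro h
    have h1 : P x0T (g (ptN 1)) = g (ptN 1) := by rw [x0_apply, h, ptN_idx]
    rw [← hcomm, e12] at h1
    exact absurd (g.injective h1) (by decide)
  · intro h
    have h1 : P x0T (g (ptN 3)) = g (ptN 3) := by rw [x0_apply, h, ptN_idx]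
    rw [← hcomm, e34] at h1
    exact absurd (g.injective h1) (by decide)
  · intro h
    have h1 : g (ptN 3) = g (ptN 1) := by rw [← ptN_idx (g (ptN 3)), h, ptN_idx]
    exact absurd (g.injective h1) (by decide)
  · intro h
    rw [← i2] at h
    have h1 : g (ptN 3) = g (ptN 2) := by rw [← ptN_idx (g (ptN 3)), h, ptN_idx]
    exact absurd (g.injective h1) (by decide)

theorem ncard_C0 : C0Set.ncard = 48 := by
  have h := ncardD XsC_ok phiC PhiC phiC_iff cov ndC
  rw [selC] at h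
  exact h

theorem enumC {g : Equiv.Perm GolayPt} (hg : g ∈ C0Set) :
    ∃ k < XsC.length, g = P (XsC.getD k ([], [])) ∧ Desc g (ap (XsC.getD k ([], []))) ∧
      lin (ap (XsC.getD k ([], []))) = true ∧ mvd (ap (XsC.getD k ([], []))) = true := by
  obtain ⟨hM, hd, hΦ⟩ := hg
  obtain ⟨k, hk, hgP, hdesc⟩ := enumD XsC_ok phiC PhiC phiC_iff g hM hd hΦ (cov g hM hd hΦ)
  have hk' := ((mem_selD _ _ _).mp hk).1
  have hl := linC
  rw [List.all_eq_true] at hl
  have h1 := hl (XsC.getD k ([], [])) (by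
    rw [List.getD_eq_getElem _ _ hk']
    exact List.getElem_mem hk')
  rw [Bool.and_eq_true] at h1
  exact ⟨k, hk', hgP, hdesc, h1.1, h1.2⟩

theorem matP_mul {g g' : Equiv.Perm GolayPt} (hg : g ∈ C0Set) (hg' : g' ∈ C0Set) :
    matP (g * g') = matP g * matP g' := by
  obtain ⟨k, -, -, hd, hl, -⟩ := enumC hg
  obtain ⟨k', -, -, hd', -, hm'⟩ := enumC hg'
  rw [matP_desc (desc_mul hd hd'), matP_desc hd, matP_desc hd', mat_comp _ _ hl hm']

theorem matP_inj {g g' : Equiv.Perm GolayPt} (hg : g ∈ C0Set) (hg' : g' ∈ C0Set)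
    (h : matP g = matP g') : g = g' := by
  obtain ⟨k, hk, hgP, hd, -, -⟩ := enumC hg
  obtain ⟨k', hk', hgP', hd', -, -⟩ := enumC hg'
  rw [matP_desc hd, matP_desc hd'] at h
  have hkey := keyM_of_mat h
  rw [List.getD_eq_getElem _ _ hk, List.getD_eq_getElem _ _ hk'] at hkey
  have hk1 : k < (XsC.map (fun X => keyM (ap X))).length := by rw [List.length_map]; exact hk
  have hk1' : k' < (XsC.map (fun X => keyM (ap X))).length := by rw [List.length_map]; exact hk'
  have h3 : (XsC.map (fun X => keyM (ap X)))[k] = (XsC.map (fun X => keyM (ap X)))[k'] := by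
    rw [List.getElem_map, List.getElem_map]
    exact hkey
  have hkk : k = k' := (List.Nodup.getElem_inj_iff ndM).mp h3
  rw [hgP, hgP', hkk]

theorem inv_app (σ : Equiv.Perm GolayPt) (y : GolayPt) : σ⁻¹ (σ y) = y :=
  Equiv.symm_apply_apply σ y

theorem app_inv (σ : Equiv.Perm GolayPt) (y : GolayPt) : σ (σ⁻¹ y) = y :=
  Equiv.apply_symm_apply σ y

theorem sq_apply {xv : Equiv.Perm GolayPt} (hx2 : xv * xv = 1) (y : GolayPt) : xv (xv y) = y := by
  have := congrArg (fun t : Equiv.Perm GolayPt => t y) hx2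
  simpa using this

/-- an involution of the stabilizer of a dodecad and a point is conjugate to the root one -/
theorem exists_std (d : Finset GolayPt) (hd : d ∈ dodecads) (p : GolayPt) (hp : p ∈ d)
    (xv : Equiv.Perm GolayPt) (hxM : xv ∈ M24) (hxd : xv • d = d) (hxp : xv p = p)
    (hx2 : xv * xv = 1) (hx1 : xv ≠ 1) :
    ∃ σ ∈ M24, σ • fsOf 340831 = d ∧ σ (ptN 0) = p ∧ σ⁻¹ * xv * σ = P x0T := by
  classical
  have hmemd : ∀ y ∈ d, xv y ∈ d := fun y hy => by
    have h1 : xv • y ∈ xv • d := Finset.smul_mem_smul_finset hy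
    rw [hxd] at h1
    exact h1
  -- few fixed points
  have hF : (d.filter (fun y => xv y = y)).card ≤ 4 := by
    by_contra hcon
    obtain ⟨B, hBF, hB5⟩ := Finset.exists_subset_card_eq
      (show 5 ≤ (d.filter (fun y => xv y = y)).card by omega)
    have hBd : B ⊆ d := fun y hy => (Finset.mem_filter.mp (hBF hy)).1
    have h1 := Cfsg.Agent.Lib_lead_M11S5.eq_one_of_fix5 d hd B hB5 hBd ⟨⟨xv, hxM⟩, hxd⟩
      (fun y hy => (Finset.mem_filter.mp (hBF hy)).2)
    exact hx1 (congrArg (fun t : MulAction.stabilizer M24 d => ((t : M24) : Equiv.Perm GolayPt)) h1)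
  have hMv : 8 ≤ (d.filter (fun y => ¬ xv y = y)).card := by
    have h1 := Finset.card_filter_add_card_filter_not (s := d) (fun y => xv y = y)
    rw [card_dodecad hd] at h1
    omega
  obtain ⟨a, ha⟩ : (d.filter (fun y => ¬ xv y = y)).Nonempty := by
    rw [← Finset.card_pos]; omega
  obtain ⟨had, hxa⟩ := Finset.mem_filter.mp ha
  obtain ⟨c, hc⟩ : ((d.filter (fun y => ¬ xv y = y)) \ {a, xv a}).Nonempty := by
    rw [← Finset.card_pos]
    have h1 := Finset.le_card_sdiff ({a, xv a} : Finset GolayPt) (d.filter (fun y => ¬ xv y = y))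
    have h2 : ({a, xv a} : Finset GolayPt).card ≤ 2 := Finset.card_le_two
    omega
  obtain ⟨hc1, hc2⟩ := Finset.mem_sdiff.mp hc
  obtain ⟨hcd, hxc⟩ := Finset.mem_filter.mp hc1
  rw [Finset.mem_insert, Finset.mem_singleton, not_or] at hc2
  obtain ⟨hca, hcxa⟩ := hc2
  have hpa : p ≠ a := fun h => hxa (by rw [← h, hxp])
  have hpc : p ≠ c := fun h => hxc (by rw [← h, hxp])
  have hpxa : p ≠ xv a := fun h => hpa (by rw [← sq_apply hx2 a, ← h, hxp])
  have hpxc : p ≠ xv c := fun h => hpc (by rw [← sq_apply hx2 c, ← h, hxp])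
  have haxc : a ≠ xv c := fun h => hcxa (by rw [h, sq_apply hx2])
  have hxaxc : xv a ≠ xv c := fun h => hca (xv.injective h).symm
  obtain ⟨σ0, hσ0, hσ0d⟩ := exists_sigma d hd
  have hne : ∀ u v : GolayPt, u ≠ v → σ0⁻¹ u ≠ σ0⁻¹ v := fun u v huv h => huv (σ0⁻¹.injective h)
  obtain ⟨g, hg, g0, g1, g2, g3, g4⟩ := rA5 (σ0⁻¹ p) (σ0⁻¹ a) (σ0⁻¹ (xv a)) (σ0⁻¹ c)
    (σ0⁻¹ (xv c)) ((bit_iff hσ0d _).mpr hp) ((bit_iff hσ0d _).mpr had)
    ((bit_iff hσ0d _).mpr (hmemd a had)) ((bit_iff hσ0d _).mpr hcd)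
    ((bit_iff hσ0d _).mpr (hmemd c hcd))
    (hne _ _ hpa) (hne _ _ hpxa) (hne _ _ (Ne.symm hxa)) (hne _ _ hpc) (hne _ _ (Ne.symm hca))
    (hne _ _ (Ne.symm hcxa)) (hne _ _ hpxc) (hne _ _ haxc) (hne _ _ hxaxc) (hne _ _ (Ne.symm hxc))
  have hval : ∀ (j : ℕ) (u : GolayPt), g (σ0⁻¹ u) = ptN j → (σ0 * g⁻¹) (ptN j) = u := by
    intro j u h
    rw [Equiv.Perm.mul_apply, ← h, inv_app, app_inv]
  have s0 := hval 0 _ g0
  have s1 := hval 1 _ g1
  have s2 := hval 2 _ g2
  have s3 := hval 3 _ g3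
  have s4 := hval 4 _ g4
  have hσM : σ0 * g⁻¹ ∈ M24 := M24.mul_mem hσ0 (M24.inv_mem hg.1)
  have hσd : (σ0 * g⁻¹) • fsOf 340831 = d := by
    have h1 : g⁻¹ • fsOf 340831 = fsOf 340831 := by
      rw [inv_smul_eq_iff, hg.2.1]
    rw [mul_smul, h1, hσ0d]
  refine ⟨σ0 * g⁻¹, hσM, hσd, s0, ?_⟩
  have hyS : (σ0 * g⁻¹)⁻¹ * xv * (σ0 * g⁻¹) ∈ stabD 340831 0 := by
    apply mem_stabD0 (M24.mul_mem (M24.mul_mem (M24.inv_mem hσM) hxM) hσM)
    rw [mul_smul, mul_smul, hσd, hxd, inv_smul_eq_iff, hσd]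
  apply det5 hyS x0_mem
  have hinv : ∀ (j : ℕ) (u : GolayPt), (σ0 * g⁻¹) (ptN j) = u → (σ0 * g⁻¹)⁻¹ u = ptN j := by
    intro j u h
    rw [← h, inv_app]
  intro j hj
  rw [Equiv.Perm.mul_apply, Equiv.Perm.mul_apply, x0_apply]
  interval_cases j
  · rw [s0, hxp, hinv 0 _ s0]; decide
  · rw [s1, hinv 2 _ s2]; decide
  · rw [s2, sq_apply hx2, hinv 1 _ s1]; decide
  · rw [s3, hinv 4 _ s4]; decide
  · rw [s4, sq_apply hx2, hinv 3 _ s3]; decide

theorem card_GL23 : Nat.card (GL (Fin 2) (ZMod 3)) = 48 := by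
  have : Fact (Nat.Prime 3) := ⟨by norm_num⟩
  rw [Matrix.card_GL_field, ZMod.card, Fin.prod_univ_two]
  rfl

theorem conj_mul (σ a b : Equiv.Perm GolayPt) :
    σ⁻¹ * (a * b) * σ = σ⁻¹ * a * σ * (σ⁻¹ * b * σ) := by group

/-- the centralizer of an involution -/
theorem main (d : Finset GolayPt) (hd : d ∈ dodecads) (p : GolayPt) (hp : p ∈ d)
    (x : ↥(MulAction.stabilizer M24 d ⊓ MulAction.stabilizer M24 p)) (hx : orderOf x = 2) :
    Nonempty (↥(Subgroup.centralizer
      ({x} : Set ↥(MulAction.stabilizer M24 d ⊓ MulAction.stabilizer M24 p))) ≃*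
        GL (Fin 2) (ZMod 3)) := by
  classical
  have hxM : ((x : M24) : Equiv.Perm GolayPt) ∈ M24 := (x : M24).2
  have hxd : ((x : M24) : Equiv.Perm GolayPt) • d = d := (Subgroup.mem_inf.mp x.2).1
  have hxp : ((x : M24) : Equiv.Perm GolayPt) p = p := (Subgroup.mem_inf.mp x.2).2
  have hx2 : ((x : M24) : Equiv.Perm GolayPt) * ((x : M24) : Equiv.Perm GolayPt) = 1 := by
    have h := pow_orderOf_eq_one x
    rw [hx, pow_two] at h
    exact congrArg (fun y : ↥(MulAction.stabilizer M24 d ⊓ MulAction.stabilizer M24 p) =>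
      ((y : M24) : Equiv.Perm GolayPt)) h
  have hx1 : ((x : M24) : Equiv.Perm GolayPt) ≠ 1 := by
    intro h
    have h1 : x = 1 := Subtype.ext (Subtype.ext h)
    rw [h1, orderOf_one] at hx
    omega
  obtain ⟨σ, hσM, hσd, hσ0, hσx⟩ := exists_std d hd p hp _ hxM hxd hxp hx2 hx1
  -- the conjugation map
  have hconj : ∀ c : ↥(Subgroup.centralizer
      ({x} : Set ↥(MulAction.stabilizer M24 d ⊓ MulAction.stabilizer M24 p))),
      σ⁻¹ * (((c : ↥(MulAction.stabilizer M24 d ⊓ MulAction.stabilizer M24 p)) : M24) :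
        Equiv.Perm GolayPt) * σ ∈ C0Set := by
    intro c
    have hcM : (((c : ↥(MulAction.stabilizer M24 d ⊓ MulAction.stabilizer M24 p)) : M24) :
        Equiv.Perm GolayPt) ∈ M24 := c.1.1.2
    have hcd : (((c : ↥(MulAction.stabilizer M24 d ⊓ MulAction.stabilizer M24 p)) : M24) :
        Equiv.Perm GolayPt) • d = d := (Subgroup.mem_inf.mp c.1.2).1
    have hcp : (((c : ↥(MulAction.stabilizer M24 d ⊓ MulAction.stabilizer M24 p)) : M24) :
        Equiv.Perm GolayPt) p = p := (Subgroup.mem_inf.mp c.1.2).2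
    have hcx : ((x : M24) : Equiv.Perm GolayPt) *
        (((c : ↥(MulAction.stabilizer M24 d ⊓ MulAction.stabilizer M24 p)) : M24) :
          Equiv.Perm GolayPt) =
        (((c : ↥(MulAction.stabilizer M24 d ⊓ MulAction.stabilizer M24 p)) : M24) :
          Equiv.Perm GolayPt) * ((x : M24) : Equiv.Perm GolayPt) := by
      have h := Subgroup.mem_centralizer_iff.mp c.2 x (Set.mem_singleton x)
      exact congrArg (fun y : ↥(MulAction.stabilizer M24 d ⊓ MulAction.stabilizer M24 p) =>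
        ((y : M24) : Equiv.Perm GolayPt)) h
    refine ⟨M24.mul_mem (M24.mul_mem (M24.inv_mem hσM) hcM) hσM, ?_, ?_, ?_⟩
    · rw [mul_smul, mul_smul, hσd, hcd, inv_smul_eq_iff, hσd]
    · rw [Equiv.Perm.mul_apply, Equiv.Perm.mul_apply, hσ0, hcp, ← hσ0, inv_app]
    · rw [← hσx, ← conj_mul, ← conj_mul, hcx]
  -- the homomorphism
  let ψ : ↥(Subgroup.centralizer
      ({x} : Set ↥(MulAction.stabilizer M24 d ⊓ MulAction.stabilizer M24 p))) →*
      Matrix (Fin 2) (Fin 2) (ZMod 3) :=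
    { toFun := fun c => matP (σ⁻¹ *
        (((c : ↥(MulAction.stabilizer M24 d ⊓ MulAction.stabilizer M24 p)) : M24) :
          Equiv.Perm GolayPt) * σ)
      map_one' := by
        show matP (σ⁻¹ * 1 * σ) = 1
        rw [mul_one, inv_mul_cancel, matP_one]
      map_mul' := fun c c' => by
        show matP (σ⁻¹ * ((((c : ↥(MulAction.stabilizer M24 d ⊓ MulAction.stabilizer M24 p)) :
          M24) : Equiv.Perm GolayPt) * (((c' : ↥(MulAction.stabilizer M24 d ⊓
            MulAction.stabilizer M24 p)) : M24) : Equiv.Perm GolayPt)) * σ) = _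
        rw [conj_mul, matP_mul (hconj c) (hconj c')] }
  have hinj : Function.Injective ψ.toHomUnits := by
    intro c c' h
    have h1 : ((ψ.toHomUnits c : (Matrix (Fin 2) (Fin 2) (ZMod 3))ˣ) :
        Matrix (Fin 2) (Fin 2) (ZMod 3)) = (ψ.toHomUnits c' : (Matrix (Fin 2) (Fin 2) (ZMod 3))ˣ) := by
      rw [h]
    rw [MonoidHom.coe_toHomUnits, MonoidHom.coe_toHomUnits] at h1
    have h2 := matP_inj (hconj c) (hconj c') h1
    have h3 := mul_left_cancel (mul_right_cancel h2)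
    exact Subtype.ext (Subtype.ext (Subtype.ext h3))
  -- the order
  have hcard : Nat.card ↥(Subgroup.centralizer
      ({x} : Set ↥(MulAction.stabilizer M24 d ⊓ MulAction.stabilizer M24 p))) = 48 := by
    have himg : (fun c : ↥(Subgroup.centralizer
        ({x} : Set ↥(MulAction.stabilizer M24 d ⊓ MulAction.stabilizer M24 p))) =>
        σ⁻¹ * (((c : ↥(MulAction.stabilizer M24 d ⊓ MulAction.stabilizer M24 p)) : M24) :
          Equiv.Perm GolayPt) * σ) '' Set.univ = C0Set := by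
      ext g
      constructor
      · rintro ⟨c, -, rfl⟩
        exact hconj c
      · intro hg
        obtain ⟨hgM, hgd, hg0, hgx⟩ := hg
        have hM : σ * g * σ⁻¹ ∈ M24 := M24.mul_mem (M24.mul_mem hσM hgM) (M24.inv_mem hσM)
        have hsd : (σ * g * σ⁻¹) • d = d := by
          have h1 : σ⁻¹ • d = fsOf 340831 := by rw [inv_smul_eq_iff, hσd]
          rw [mul_smul, mul_smul, h1, hgd, hσd]
        have hsp : (σ * g * σ⁻¹) p = p := by
          rw [Equiv.Perm.mul_apply, Equiv.Perm.mul_apply, ← hσ0, inv_app, hg0]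
        have hsx : ((x : M24) : Equiv.Perm GolayPt) * (σ * g * σ⁻¹) =
            (σ * g * σ⁻¹) * ((x : M24) : Equiv.Perm GolayPt) := by
          have e : ((x : M24) : Equiv.Perm GolayPt) = σ * P x0T * σ⁻¹ := by
            rw [← hσx]; group
          rw [e]
          have e1 : σ * P x0T * σ⁻¹ * (σ * g * σ⁻¹) = σ * (P x0T * g) * σ⁻¹ := by group
          have e2 : σ * g * σ⁻¹ * (σ * P x0T * σ⁻¹) = σ * (g * P x0T) * σ⁻¹ := by group
          rw [e1, e2, hgx]
        refine ⟨⟨⟨⟨σ * g * σ⁻¹, hM⟩, Subgroup.mem_inf.mpr ⟨hsd, hsp⟩⟩,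
          Subgroup.mem_centralizer_iff.mpr ?_⟩, Set.mem_univ _, ?_⟩
        · intro y hy
          rw [Set.mem_singleton_iff] at hy
          subst hy
          exact Subtype.ext (Subtype.ext hsx)
        · show σ⁻¹ * (σ * g * σ⁻¹) * σ = g
          group
    have hinj2 : Function.Injective (fun c : ↥(Subgroup.centralizer
        ({x} : Set ↥(MulAction.stabilizer M24 d ⊓ MulAction.stabilizer M24 p))) =>
        σ⁻¹ * (((c : ↥(MulAction.stabilizer M24 d ⊓ MulAction.stabilizer M24 p)) : M24) :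
          Equiv.Perm GolayPt) * σ) := by
      intro c c' h
      exact Subtype.ext (Subtype.ext (Subtype.ext (mul_left_cancel (mul_right_cancel h))))
    rw [← Set.ncard_univ, ← Set.ncard_image_of_injective _ hinj2, himg, ncard_C0]
  have hbij : Function.Bijective ψ.toHomUnits := by
    apply Function.Injective.bijective_of_nat_card_le hinj
    rw [hcard]
    exact card_GL23.le
  exact ⟨MulEquiv.ofBijective ψ.toHomUnits hbij⟩

end Cfsg.Agent.Lib_lead_M11Cent
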