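import Mathlib
import Cfsg.Prelude.Def_SporadicCombinatorics
import Cfsg.Prelude.Def_Spor_Mathieu
import Cfsg.Agent.Lib_lead_ClsCount

/-! The two classes of point stabilizers in the stabilizer of the dodecad of squares. -/

set_option autoImplicit false

namespace Cfsg.Agent.Lib_lead_M11Conj

open Cfsg Cfsg.Agent.Lib_lead_Golay Cfsg.Agent.Lib_lead_GolayPerm Cfsg.Agent.Lib_lead_M24
  Cfsg.Agent.Lib_lead_M24Chain Cfsg.Agent.Lib_lead_SixSet Cfsg.Agent.Lib_lead_Cls
  Cfsg.Agent.Lib_lead_ClsCount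
open scoped Pointwise

/-- an element mapping the dodecad of squares to its complement and the point 0 to the extra
point -/
def gT : Tb := ([23, 14, 10, 19, 11, 18, 7, 16, 21, 15, 4, 3, 22, 20, 13, 9, 5, 12, 17, 2, 6, 0, 1, 8], [21, 22, 19, 11, 10, 16, 20, 6, 23, 15, 2, 4, 17, 14, 1, 9, 7, 18, 5, 3, 13, 8, 12, 0])

/-- an element fixing the dodecad of squares and the extra point, and no point of the
dodecad -/
def xT : Tb := ([1, 3, 18, 8, 9, 5, 12, 10, 4, 13, 14, 15, 2, 16, 21, 22, 0, 19, 6, 17, 11, 20, 7, 23], [16, 0, 12, 1, 8, 5, 18, 22, 3, 4, 7, 20, 6, 9, 10, 11, 13, 19, 2, 17, 21, 14, 15, 23])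

theorem gT_ok : genOK gT = true := by decide +kernel
theorem xT_ok : genOK xT = true := by decide +kernel
theorem g_d : pull gT.2 340831 = 16777215 ^^^ 340831 := by decide +kernel
theorem g_0 : ap gT 0 = 23 := by decide
theorem x_d : pull xT.2 340831 = 340831 := by decide +kernel
theorem x_23 : ap xT 23 = 23 := by decide
theorem x_fpf : ∀ j < 24, (340831 : ℕ).testBit j = true → ap xT j ≠ j := by decide

theorem sq_eq : Cfsg.Spor.squareDodecad = fsOf 340831 := by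
  unfold Cfsg.Spor.squareDodecad
  rw [support₂_eq, enc_qr]
  rfl

theorem compl_eq : Finset.univ \ fsOf 340831 = fsOf (16777215 ^^^ 340831) := by
  ext p
  rw [Finset.mem_sdiff, mem_fsOf, mem_fsOf, Nat.testBit_xor, testBit_full _ (idx_lt p)]
  simp

theorem mem_M11 (x : Equiv.Perm GolayPt) : x ∈ Cfsg.Spor.M11 ↔
    x ∈ M24 ∧ x • Cfsg.Spor.squareDodecad = Cfsg.Spor.squareDodecad ∧ x (some 0) = some 0 := by
  unfold Cfsg.Spor.M11 Cfsg.Spor.M12
  rw [Subgroup.mem_inf, Subgroup.mem_inf, MulAction.mem_stabilizer_iff,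
    MulAction.mem_stabilizer_iff]
  exact ⟨fun h => ⟨h.1.1, h.1.2, h.2⟩, fun h => ⟨⟨h.1, h.2.1⟩, h.2.2⟩⟩

theorem mem_M11' (x : Equiv.Perm GolayPt) :
    x ∈ Cfsg.Spor.M12 ⊓ MulAction.stabilizer (Equiv.Perm GolayPt) (none : GolayPt) ↔
    x ∈ M24 ∧ x • Cfsg.Spor.squareDodecad = Cfsg.Spor.squareDodecad ∧ x none = none := by
  unfold Cfsg.Spor.M12
  rw [Subgroup.mem_inf, Subgroup.mem_inf, MulAction.mem_stabilizer_iff,
    MulAction.mem_stabilizer_iff]
  exact ⟨fun h => ⟨h.1.1, h.1.2, h.2⟩, fun h => ⟨⟨h.1, h.2.1⟩, h.2.2⟩⟩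

theorem conj_smul_iff {g x : Equiv.Perm GolayPt} {A : Finset GolayPt} :
    (g⁻¹ * x * g) • A = A ↔ x • (g • A) = g • A := by
  rw [mul_smul, mul_smul]
  constructor
  · intro h
    have := congrArg (fun B => g • B) h
    simpa [smul_inv_smul] using this
  · intro h
    rw [h, inv_smul_smul]

theorem conj_pt_iff {g x : Equiv.Perm GolayPt} {p : GolayPt} :
    (g⁻¹ * x * g) p = p ↔ x (g p) = g p := by
  rw [Equiv.Perm.mul_apply, Equiv.Perm.mul_apply, Equiv.Perm.inv_eq_iff_eq]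

theorem mem_conj (g x : Equiv.Perm GolayPt) (H : Subgroup (Equiv.Perm GolayPt)) :
    x ∈ MulAut.conj g • H ↔ g⁻¹ * x * g ∈ H := by
  rw [Subgroup.mem_pointwise_smul_iff_inv_smul_mem]
  simp [MulAut.smul_def]

theorem smul_compl (x : Equiv.Perm GolayPt) (A : Finset GolayPt) :
    x • (Finset.univ \ A) = Finset.univ \ A ↔ x • A = A := by
  rw [Finset.smul_finset_sdiff, Finset.smul_finset_univ]
  constructor
  · intro h
    have h1 : (Finset.univ \ (Finset.univ \ x • A)) = (Finset.univ \ (Finset.univ \ A)) := by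
      rw [h]
    rwa [Finset.sdiff_sdiff_eq_self (Finset.subset_univ _),
      Finset.sdiff_sdiff_eq_self (Finset.subset_univ _)] at h1
  · intro h
    rw [h]

theorem g_sq : P gT • Cfsg.Spor.squareDodecad = Finset.univ \ Cfsg.Spor.squareDodecad := by
  rw [sq_eq, P_smul gT_ok _ (by norm_num), g_d, compl_eq]

theorem g_zero : P gT (some 0) = none := by
  have := P_apply gT_ok 0 (by norm_num)
  rw [g_0] at this
  exact this

/-- the conjugate of the stabilizer of 0 is the stabilizer of the extra point -/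
theorem conj_eq : MulAut.conj (P gT) • Cfsg.Spor.M11 =
    Cfsg.Spor.M12 ⊓ MulAction.stabilizer (Equiv.Perm GolayPt) (none : GolayPt) := by
  ext x
  rw [mem_conj, mem_M11, mem_M11', conj_smul_iff, conj_pt_iff, g_sq, smul_compl, g_zero]
  constructor
  · rintro ⟨h1, h2, h3⟩
    refine ⟨?_, h2, h3⟩
    have := M24.mul_mem (M24.mul_mem (P_mem gT_ok) h1) (M24.inv_mem (P_mem gT_ok))
    have e : P gT * ((P gT)⁻¹ * x * P gT) * (P gT)⁻¹ = x := by group
    rwa [e] at this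
  · rintro ⟨h1, h2, h3⟩
    exact ⟨M24.mul_mem (M24.mul_mem (M24.inv_mem (P_mem gT_ok)) h1) (P_mem gT_ok), h2, h3⟩

theorem x_mem : P xT ∈ Cfsg.Spor.M12 ⊓
    MulAction.stabilizer (Equiv.Perm GolayPt) (none : GolayPt) := by
  rw [mem_M11']
  refine ⟨P_mem xT_ok, ?_, ?_⟩
  · rw [sq_eq, P_smul xT_ok _ (by norm_num), x_d]
  · have := P_apply xT_ok 23 (by norm_num)
    rw [x_23] at this
    exact this

theorem main : Nonempty (↥(Cfsg.Spor.M12 ⊓ MulAction.stabilizer (Equiv.Perm GolayPt)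
      (none : GolayPt)) ≃* ↥Cfsg.Spor.M11) ∧
    (¬ ∃ k ∈ Cfsg.Spor.M12, MulAut.conj k • Cfsg.Spor.M11 =
      Cfsg.Spor.M12 ⊓ MulAction.stabilizer (Equiv.Perm GolayPt) (none : GolayPt)) ∧
    ∃ g ∈ M24, g • Cfsg.Spor.squareDodecad = Finset.univ \ Cfsg.Spor.squareDodecad ∧
      MulAut.conj g • Cfsg.Spor.M11 =
        Cfsg.Spor.M12 ⊓ MulAction.stabilizer (Equiv.Perm GolayPt) (none : GolayPt) := by
  refine ⟨⟨((Subgroup.equivSMul (MulAut.conj (P gT)) Cfsg.Spor.M11).trans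
    (MulEquiv.subgroupCongr conj_eq)).symm⟩, ?_, ⟨P gT, P_mem gT_ok, g_sq, conj_eq⟩⟩
  rintro ⟨k, hk, he⟩
  have hkd : k • Cfsg.Spor.squareDodecad = Cfsg.Spor.squareDodecad := by
    unfold Cfsg.Spor.M12 at hk
    rw [Subgroup.mem_inf, MulAction.mem_stabilizer_iff] at hk
    exact hk.2
  have hx := x_mem
  rw [← he, mem_conj, mem_M11, conj_pt_iff] at hx
  have hq : k (some 0) ∈ Cfsg.Spor.squareDodecad := by
    have h0 : (some 0 : GolayPt) ∈ Cfsg.Spor.squareDodecad := by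
      rw [sq_eq, mem_fsOf]
      decide
    have : k • (some 0 : GolayPt) ∈ k • Cfsg.Spor.squareDodecad :=
      Finset.smul_mem_smul_finset h0
    rwa [hkd] at this
  rw [sq_eq, mem_fsOf] at hq
  have h1 := P_apply xT_ok (idx (k (some 0))) (idx_lt _)
  rw [ptN_idx, hx.2.2] at h1
  have h2 := congrArg idx h1
  rw [idx_ptN' _ (ap_lt xT_ok _ (idx_lt _))] at h2
  exact x_fpf _ (idx_lt _) hq h2.symm

end Cfsg.Agent.Lib_lead_M11Conj
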