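import Mathlib
import Cfsg.Prelude.Def_Sporadic_a
import Cfsg.Agent.Lib_lead_M24
import Cfsg.Agent.Lib_lead_M24Chain
import Cfsg.Agent.Lib_lead_M12
import Cfsg.Agent.Lib_lead_Simple

/-! Straight-line programs over an arbitrary list of generators, and generation of stabilizers
by elements of prime order. -/

set_option autoImplicit false

namespace Cfsg.Agent.Lib_lead_SlpG

open Cfsg Cfsg.Agent.Lib_lead_Golay Cfsg.Agent.Lib_lead_GolayPerm Cfsg.Agent.Lib_lead_M24
  Cfsg.Agent.Lib_lead_M24Chain Cfsg.Agent.Lib_lead_M12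
open scoped Pointwise

/-- iterate a table -/
def iterTab (tab : List ℕ) : ℕ → ℕ → ℕ
  | 0, j => j
  | n + 1, j => tab.getD (iterTab tab n j) 0

/-- the table has order dividing `r` and is not the identity -/
def ordChk (tab : List ℕ) (r : ℕ) : Bool :=
  (List.range 24).all (fun j => iterTab tab r j == j) &&
    (List.range 24).any (fun j => tab.getD j 0 != j)

theorem permD_ptN {tab itab : List ℕ} (h : validTab tab itab = true) (j : ℕ) (hj : j < 24) :
    permD tab itab (ptN j) = ptN (tab.getD j 0) := by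
  rw [permD_apply h]
  unfold tabFun
  rw [idx_ptN' j hj]

theorem iter_spec {tab itab : List ℕ} (h : validTab tab itab = true) (n : ℕ) :
    ∀ j < 24, iterTab tab n j < 24 ∧
      ((permD tab itab) ^ n) (ptN j) = ptN (iterTab tab n j) := by
  induction n with
  | zero =>
    intro j hj
    exact ⟨hj, rfl⟩
  | succ n ih =>
    intro j hj
    obtain ⟨h1, h2⟩ := ih j hj
    refine ⟨(validTab_spec h _ h1).1, ?_⟩
    rw [pow_succ', Equiv.Perm.mul_apply, h2, permD_ptN h _ h1]
    rfl

theorem ptN_inj {i j : ℕ} (hi : i < 24) (hj : j < 24) (h : ptN i = ptN j) : i = j := by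
  have := congrArg idx h
  rwa [idx_ptN' i hi, idx_ptN' j hj] at this

theorem order_of_chk {tab itab : List ℕ} (h : validTab tab itab = true) (r : ℕ)
    [Fact r.Prime] (hc : ordChk tab r = true) : orderOf (permD tab itab) = r := by
  unfold ordChk at hc
  rw [Bool.and_eq_true, List.all_eq_true, List.any_eq_true] at hc
  obtain ⟨hall, j, hj, hne⟩ := hc
  rw [List.mem_range] at hj
  apply orderOf_eq_prime
  · refine Equiv.ext fun p => ?_
    have h1 := (iter_spec h r (idx p) (idx_lt p)).2
    have h2 := hall (idx p) (List.mem_range.mpr (idx_lt p))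
    rw [beq_iff_eq] at h2
    rw [h2, ptN_idx] at h1
    rw [h1, Equiv.Perm.one_apply]
  · intro h1
    have h2 := permD_ptN h j hj
    rw [h1, Equiv.Perm.one_apply] at h2
    have h3 := ptN_inj hj (validTab_spec h j hj).1 h2
    rw [bne_iff_ne] at hne
    exact hne h3.symm

/-- check a generator: valid, preserves the code, fixes `F`, preserves `D`, has order `r` -/
def genChk (D F r : ℕ) (g : List ℕ × List ℕ) : Bool :=
  validTab g.1 g.2 && codeChk g.1 && fixTab F g.1 && (pull g.2 D == D) && ordChk g.1 r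

theorem permD_eq {tab itab : List ℕ} (h : validTab tab itab = true) :
    permD tab itab = permOf tab itab h := by
  unfold permD
  rw [dif_pos h]

theorem FixM_of_fixTab {tab itab : List ℕ} (hv : validTab tab itab = true) {F : ℕ}
    (hfix : fixTab F tab = true) : FixM F (permD tab itab) := by
  intro j hj hFj
  unfold fixTab at hfix
  rw [List.all_eq_true] at hfix
  have h2 := hfix j (List.mem_range.mpr hj)
  rw [hFj] at h2
  simp only [Bool.not_true, Bool.false_or, beq_iff_eq] at h2
  rw [permD_ptN hv j hj, h2]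

theorem gen_sound {D F r : ℕ} [Fact r.Prime] (hD : D < 2 ^ 24) {g : List ℕ × List ℕ}
    (h : genChk D F r g = true) :
    validTab g.1 g.2 = true ∧ permD g.1 g.2 ∈ stabD D F ∧ orderOf (permD g.1 g.2) = r := by
  unfold genChk at h
  simp only [Bool.and_eq_true, beq_iff_eq] at h
  obtain ⟨⟨⟨⟨hv, hcode⟩, hfix⟩, hpull⟩, hord⟩ := h
  refine ⟨hv, ⟨?_, ?_, FixM_of_fixTab hv hfix⟩, order_of_chk hv r hord⟩
  · rw [permD_eq hv]
    exact mem_M24_of_chk hv hcode
  · rw [permD_eq hv, smul_fsOf hv D hD, hpull]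

/-- a node is valid, and is a generator from the list (kind 0), the product of two earlier
nodes (kind 1), or the inverse of an earlier node (other kinds) -/
def nodeOKG (gt : List (List ℕ × List ℕ)) (nodes : List Node) (j : ℕ) (nd : Node) : Bool :=
  validTab nd.1.1 nd.1.2 &&
  (if nd.2.1 = 0 then decide (nd.2.2.1 < gt.length) &&
        (nd.1.1 == (gt.getD nd.2.2.1 ([], [])).1)
   else if nd.2.1 = 1 then decide (nd.2.2.1 < j) && decide (nd.2.2.2 < j) &&
        (nd.1.1 == compose (nodes.getD nd.2.2.1 dnode).1.1 (nodes.getD nd.2.2.2 dnode).1.1)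
   else decide (nd.2.2.1 < j) && (nd.1.1 == (nodes.getD nd.2.2.1 dnode).1.2))

/-- all nodes are valid -/
def slpOKG (gt : List (List ℕ × List ℕ)) (nodes : List Node) : Bool :=
  (List.range nodes.length).all (fun j => nodeOKG gt nodes j (nodes.getD j dnode))

theorem slpG_node {gt : List (List ℕ × List ℕ)} {nodes : List Node}
    (h : slpOKG gt nodes = true) (j : ℕ) (hj : j < nodes.length) :
    nodeOKG gt nodes j (nodes.getD j dnode) = true := by
  unfold slpOKG at h
  rw [List.all_eq_true] at h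
  exact h j (List.mem_range.mpr hj)

theorem slpG_valid {gt : List (List ℕ × List ℕ)} {nodes : List Node}
    (h : slpOKG gt nodes = true) (j : ℕ) (hj : j < nodes.length) :
    validTab (nodes.getD j dnode).1.1 (nodes.getD j dnode).1.2 = true := by
  have h1 := slpG_node h j hj
  unfold nodeOKG at h1
  rw [Bool.and_eq_true] at h1
  exact h1.1

theorem permD_congr {tab itab tab' itab' : List ℕ} (h : validTab tab itab = true)
    (h' : validTab tab' itab' = true) (he : tab = tab') : permD tab itab = permD tab' itab' := by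
  refine Equiv.ext fun p => ?_
  rw [permD_apply h, permD_apply h', he]

theorem slpG_mem {K : Subgroup (Equiv.Perm GolayPt)} {gt : List (List ℕ × List ℕ)}
    (hK : ∀ g ∈ gt, validTab g.1 g.2 = true ∧ permD g.1 g.2 ∈ K) {nodes : List Node}
    (h : slpOKG gt nodes = true) :
    ∀ j, j < nodes.length → permD (nodes.getD j dnode).1.1 (nodes.getD j dnode).1.2 ∈ K := by
  intro j
  induction j using Nat.strong_induction_on with
  | _ j ih =>
    intro hj
    have hv := slpG_valid h j hj
    have h1 := slpG_node h j hj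
    unfold nodeOKG at h1
    rw [Bool.and_eq_true] at h1
    have h2 := h1.2
    split_ifs at h2 with hk0 hk1
    · rw [Bool.and_eq_true, decide_eq_true_eq, beq_iff_eq] at h2
      obtain ⟨ha, htab⟩ := h2
      have hmem : gt.getD (nodes.getD j dnode).2.2.1 ([], []) ∈ gt := by
        rw [List.getD_eq_getElem _ _ ha]
        exact List.getElem_mem ha
      obtain ⟨hvg, hgK⟩ := hK _ hmem
      rw [permD_congr hv hvg htab]
      exact hgK
    · simp only [Bool.and_eq_true, decide_eq_true_eq, beq_iff_eq] at h2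
      obtain ⟨⟨ha, hb⟩, htab⟩ := h2
      have hva := slpG_valid h _ (lt_trans ha hj)
      have hvb := slpG_valid h _ (lt_trans hb hj)
      have he : permD (nodes.getD j dnode).1.1 (nodes.getD j dnode).1.2
          = permD (nodes.getD (nodes.getD j dnode).2.2.1 dnode).1.1
              (nodes.getD (nodes.getD j dnode).2.2.1 dnode).1.2
            * permD (nodes.getD (nodes.getD j dnode).2.2.2 dnode).1.1
              (nodes.getD (nodes.getD j dnode).2.2.2 dnode).1.2 := by
        refine Equiv.ext fun p => ?_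
        rw [Equiv.Perm.mul_apply, permD_apply hv, permD_apply hva, permD_apply hvb, htab,
          tabFun_compose hvb]
      rw [he]
      exact K.mul_mem (ih _ ha (lt_trans ha hj)) (ih _ hb (lt_trans hb hj))
    · simp only [Bool.and_eq_true, decide_eq_true_eq, beq_iff_eq] at h2
      obtain ⟨ha, htab⟩ := h2
      have hva := slpG_valid h _ (lt_trans ha hj)
      have he : permD (nodes.getD j dnode).1.1 (nodes.getD j dnode).1.2
          = (permD (nodes.getD (nodes.getD j dnode).2.2.1 dnode).1.1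
              (nodes.getD (nodes.getD j dnode).2.2.1 dnode).1.2)⁻¹ := by
        refine Equiv.ext fun p => ?_
        rw [permD_apply hv, permD_inv_apply hva, htab]
      rw [he]
      exact K.inv_mem (ih _ ha (lt_trans ha hj))

theorem lvlG_sound {K : Subgroup (Equiv.Perm GolayPt)} {gt : List (List ℕ × List ℕ)}
    (hK : ∀ g ∈ gt, validTab g.1 g.2 = true ∧ permD g.1 g.2 ∈ K) {nodes : List Node}
    (h : slpOKG gt nodes = true) {F b tgt : ℕ} {row : List ℕ} (hb : b < 24)
    (hl : lvlOK nodes false F b tgt row = true) :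
    ∀ z < 24, tgt.testBit z = true → ∃ g ∈ K, FixM F g ∧ g (ptN b) = ptN z := by
  intro z hz hbit
  unfold lvlOK at hl
  rw [List.all_eq_true] at hl
  have h1 := hl z (List.mem_range.mpr hz)
  rw [hbit] at h1
  simp only [Bool.not_true, Bool.false_or, Bool.and_eq_true, decide_eq_true_eq, beq_iff_eq,
    Bool.or_eq_true, Bool.not_eq_true', Bool.not_false, true_or, and_true] at h1
  obtain ⟨⟨hlen, hfix⟩, hmap⟩ := h1
  have hv := slpG_valid h _ hlen
  refine ⟨_, slpG_mem hK h _ hlen, FixM_of_fixTab hv hfix, ?_⟩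
  rw [permD_ptN hv b hb, hmap]

/-- one step of generation: the stabilizer of `F` lies in `K` if witnesses for the orbit of
`b` lie in `K` and the next stabilizer does -/
theorem gen_stepD {K : Subgroup (Equiv.Perm GolayPt)} {D F b tgt : ℕ} (hb : b < 24)
    (hsub : ∀ g ∈ stabD D F, tgt.testBit (idx (g (ptN b))) = true)
    (hsupK : ∀ z < 24, tgt.testBit z = true → ∃ g ∈ K, g ∈ stabD D F ∧ g (ptN b) = ptN z)
    (hnext : stabD D (F ||| 2 ^ b) ≤ K) : stabD D F ≤ K := by
  intro g hg
  obtain ⟨t, htK, ht, htb⟩ := hsupK (idx (g (ptN b))) (idx_lt _) (hsub g hg)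
  rw [ptN_idx] at htb
  have hmem : t⁻¹ * g ∈ stabD D (F ||| 2 ^ b) := by
    rw [stabD_succ D F b hb, Subgroup.mem_inf, MulAction.mem_stabilizer_iff]
    refine ⟨(stabD D F).mul_mem ((stabD D F).inv_mem ht) hg, ?_⟩
    rw [Equiv.Perm.smul_def, Equiv.Perm.mul_apply, ← htb, Equiv.Perm.inv_def,
      Equiv.symm_apply_apply]
  have h1 := K.mul_mem htK (hnext hmem)
  rwa [mul_inv_cancel_left] at h1

/-- one level of a chain certificate -/
theorem chain_step {K : Subgroup (Equiv.Perm GolayPt)} {gt : List (List ℕ × List ℕ)}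
    {nodes : List Node} {D F0 r : ℕ} [Fact r.Prime] (hD : D < 2 ^ 24)
    (hgt : gt.all (genChk D F0 r) = true) (hnodes : slpOKG gt nodes = true)
    (hK : ∀ c ∈ stabD D F0, orderOf c = r → c ∈ K)
    {F b tgt F' : ℕ} {row : List ℕ} (hb : b < 24) (hF' : F ||| 2 ^ b = F')
    (hsub : ∀ g ∈ stabD D F, tgt.testBit (idx (g (ptN b))) = true)
    (hrow : lvlOK nodes false F b tgt row = true)
    (hnext : stabD D F' ≤ K) : stabD D F ≤ K := by
  apply gen_stepD hb hsub _ (by rw [hF']; exact hnext)
  have hK' : ∀ g ∈ gt, validTab g.1 g.2 = true ∧ permD g.1 g.2 ∈ K ⊓ stabD D 0 := by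
    intro g hg
    rw [List.all_eq_true] at hgt
    obtain ⟨hv, hmem, hord⟩ := gen_sound hD (hgt g hg)
    exact ⟨hv, hK _ hmem hord, stabD_le_zero D F0 hmem⟩
  intro z hz hbit
  obtain ⟨g, hg, hFg, hgb⟩ := lvlG_sound hK' hnodes hb hrow z hz hbit
  exact ⟨g, hg.1, ⟨hg.2.1, hg.2.2.1, hFg⟩, hgb⟩

theorem stabD_zero (F : ℕ) : stabD 0 F = stabM F := by
  ext g
  rw [mem_stabD, mem_stabM]
  constructor
  · rintro ⟨h1, -, h3⟩
    exact ⟨h1, h3⟩
  · rintro ⟨h1, h3⟩
    refine ⟨h1, ?_, h3⟩
    have h0 : fsOf 0 = ∅ := by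
      ext p
      rw [mem_fsOf]
      simp
    rw [h0, Finset.smul_finset_empty]

/-- simplicity of a permutation group on the 24 points from double transitivity on a set and
a certificate of generation by elements of prime order -/
theorem simple_flat (H : Subgroup (Equiv.Perm GolayPt)) [Nontrivial H] (S : Finset GolayPt)
    (r : ℕ) [Fact r.Prime] (hr : r ∣ S.card) (hG : ¬ r ^ 2 ∣ Nat.card H)
    (hpres : ∀ g ∈ H, ∀ a ∈ S, g a ∈ S)
    (hfaith : ∀ g ∈ H, (∀ a ∈ S, g a = a) → g = 1)
    (h2 : ∀ a ∈ S, ∀ b ∈ S, ∀ c ∈ S, ∀ d ∈ S, a ≠ b → c ≠ d → ∃ g ∈ H, g a = c ∧ g b = d)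
    (hcert : ∀ K : Subgroup (Equiv.Perm GolayPt), (∀ c ∈ H, orderOf c = r → c ∈ K) → H ≤ K) :
    IsSimpleGroup ↥H := by
  apply Cfsg.Agent.Lib_lead_Simple.simple_of (G := ↥H) S r hr hG
  · intro g a ha
    exact hpres g.1 g.2 a ha
  · intro g hg
    by_contra hcon
    push_neg at hcon
    exact hg (Subtype.ext (hfaith g.1 g.2 hcon))
  · intro a ha b hb c hc d hd hab hcd
    obtain ⟨g, hg, h⟩ := h2 a ha b hb c hc d hd hab hcd
    exact ⟨⟨g, hg⟩, h⟩
  · intro K hK
    have hle := hcert (K.map H.subtype) (fun c hc hord => by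
      rw [Subgroup.mem_map]
      refine ⟨⟨c, hc⟩, hK _ ?_, rfl⟩
      rw [← Subgroup.orderOf_coe]
      exact hord)
    rw [eq_top_iff]
    intro x _
    obtain ⟨y, hy, hyx⟩ := Subgroup.mem_map.mp (hle x.2)
    have : y = x := Subtype.ext hyx
    rwa [← this]

end Cfsg.Agent.Lib_lead_SlpG
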