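import Mathlib
import Cfsg.Prelude.Def_Sporadic_a
import Cfsg.Agent.Lib_lead_SlpG
import Cfsg.Agent.Lib_lead_M12Data

/-! Generation of a stabilizer by two elements of order 11: a stabilizer chain inside the
subgroup they generate. -/

set_option autoImplicit false

namespace Cfsg.Agent.Lib_lead_Simp11

open Cfsg Cfsg.Agent.Lib_lead_Golay Cfsg.Agent.Lib_lead_GolayPerm Cfsg.Agent.Lib_lead_M24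
  Cfsg.Agent.Lib_lead_M24Chain Cfsg.Agent.Lib_lead_M12 Cfsg.Agent.Lib_lead_SlpG
open scoped Pointwise

/-- two generators of order 11 -/
def gt : List (List ℕ × List ℕ) :=
  [([0, 6, 3, 8, 2, 20, 4, 7, 13, 12, 5, 15, 18, 9, 19, 10, 1, 21, 16, 23, 17, 14, 11, 22], [0, 16, 4, 2, 6, 10, 1, 7, 3, 13, 15, 22, 9, 8, 21, 11, 18, 20, 12, 14, 5, 17, 23, 19]),
   ([0, 16, 18, 1, 2, 22, 13, 10, 12, 8, 17, 5, 6, 3, 19, 15, 4, 21, 9, 20, 7, 23, 14, 11], [0, 3, 4, 13, 16, 11, 12, 20, 9, 18, 7, 23, 8, 6, 22, 15, 1, 10, 2, 14, 19, 17, 5, 21])]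

set_option maxRecDepth 100000 in
/-- straight-line program over the two generators -/
def nodes : List Node :=
  [(([0, 6, 3, 8, 2, 20, 4, 7, 13, 12, 5, 15, 18, 9, 19, 10, 1, 21, 16, 23, 17, 14, 11, 22], [0, 16, 4, 2, 6, 10, 1, 7, 3, 13, 15, 22, 9, 8, 21, 11, 18, 20, 12, 14, 5, 17, 23, 19]), (0, 0, 0)),
   (([0, 16, 18, 1, 2, 22, 13, 10, 12, 8, 17, 5, 6, 3, 19, 15, 4, 21, 9, 20, 7, 23, 14, 11], [0, 3, 4, 13, 16, 11, 12, 20, 9, 18, 7, 23, 8, 6, 22, 15, 1, 10, 2, 14, 19, 17, 5, 21]), (0, 1, 0)),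
   (([0, 16, 4, 2, 6, 10, 1, 7, 3, 13, 15, 22, 9, 8, 21, 11, 18, 20, 12, 14, 5, 17, 23, 19], [0, 6, 3, 8, 2, 20, 4, 7, 13, 12, 5, 15, 18, 9, 19, 10, 1, 21, 16, 23, 17, 14, 11, 22]), (2, 0, 0)),
   (([0, 1, 2, 3, 4, 5, 6, 7, 8, 9, 10, 11, 12, 13, 14, 15, 16, 17, 18, 19, 20, 21, 22, 23], [0, 1, 2, 3, 4, 5, 6, 7, 8, 9, 10, 11, 12, 13, 14, 15, 16, 17, 18, 19, 20, 21, 22, 23]), (1, 0, 2)),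
   (([0, 4, 8, 13, 3, 17, 2, 7, 9, 18, 20, 10, 16, 12, 23, 5, 6, 14, 1, 22, 21, 19, 15, 11], [0, 18, 6, 4, 1, 15, 16, 7, 2, 8, 11, 23, 13, 3, 17, 22, 12, 5, 9, 21, 10, 20, 19, 14]), (1, 0, 0)),
   (([0, 13, 1, 12, 18, 7, 2, 10, 3, 6, 22, 15, 9, 8, 20, 17, 16, 23, 4, 11, 21, 19, 5, 14], [0, 2, 6, 8, 18, 22, 9, 5, 13, 12, 7, 19, 3, 1, 23, 11, 16, 15, 4, 21, 14, 20, 10, 17]), (1, 1, 0)),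
   (([0, 2, 13, 9, 8, 21, 3, 7, 12, 16, 17, 5, 1, 18, 22, 20, 4, 19, 6, 11, 14, 23, 10, 15], [0, 12, 1, 6, 16, 11, 18, 7, 4, 3, 22, 19, 8, 2, 20, 23, 9, 10, 13, 17, 15, 5, 14, 21]), (1, 0, 4)),
   (([0, 9, 6, 18, 16, 7, 3, 5, 8, 4, 11, 10, 12, 13, 17, 21, 1, 22, 2, 15, 14, 23, 20, 19], [0, 16, 18, 6, 9, 7, 2, 5, 8, 1, 11, 10, 12, 13, 20, 19, 4, 14, 3, 23, 22, 15, 17, 21]), (1, 0, 5)),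
   (([0, 3, 16, 6, 9, 10, 18, 17, 1, 13, 14, 15, 8, 12, 7, 21, 4, 11, 2, 5, 23, 20, 22, 19], [0, 8, 18, 1, 16, 19, 3, 14, 12, 4, 5, 17, 13, 9, 10, 11, 2, 7, 6, 23, 21, 15, 22, 20]), (1, 1, 5)),
   (([0, 18, 3, 8, 12, 23, 1, 10, 6, 4, 21, 22, 16, 9, 14, 7, 2, 20, 13, 5, 19, 11, 17, 15], [0, 6, 16, 2, 9, 19, 8, 15, 3, 13, 7, 21, 4, 18, 14, 23, 12, 22, 1, 20, 17, 10, 11, 5]), (1, 1, 6)),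
   (([0, 12, 4, 16, 1, 7, 8, 20, 13, 2, 15, 5, 18, 9, 21, 14, 6, 11, 3, 10, 19, 22, 17, 23], [0, 4, 9, 18, 2, 11, 16, 5, 6, 13, 19, 17, 1, 8, 15, 10, 3, 22, 12, 20, 7, 14, 21, 23]), (1, 0, 7)),
   (([0, 8, 13, 9, 4, 10, 1, 22, 12, 2, 5, 17, 6, 3, 21, 23, 16, 14, 18, 15, 19, 11, 7, 20], [0, 6, 9, 13, 4, 10, 12, 22, 1, 3, 5, 21, 8, 2, 17, 19, 16, 11, 18, 20, 23, 14, 7, 15]), (1, 1, 7)),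
   (([0, 3, 9, 12, 13, 14, 8, 7, 18, 1, 21, 20, 6, 16, 11, 17, 2, 23, 4, 15, 19, 22, 5, 10], [0, 9, 16, 1, 18, 22, 12, 7, 6, 2, 23, 14, 3, 4, 5, 19, 13, 15, 8, 20, 11, 10, 21, 17]), (1, 0, 6)),
   (([0, 8, 18, 1, 16, 19, 3, 14, 12, 4, 5, 17, 13, 9, 10, 11, 2, 7, 6, 23, 21, 15, 22, 20], [0, 3, 16, 6, 9, 10, 18, 17, 1, 13, 14, 15, 8, 12, 7, 21, 4, 11, 2, 5, 23, 20, 22, 19]), (2, 8, 0)),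
   (([0, 1, 4, 13, 9, 10, 12, 14, 6, 8, 15, 21, 3, 2, 17, 7, 18, 20, 16, 11, 23, 22, 19, 5], [0, 1, 13, 12, 2, 23, 8, 15, 9, 4, 5, 19, 6, 3, 7, 10, 18, 14, 16, 22, 17, 11, 21, 20]), (1, 13, 12)),
   (([0, 13, 9, 12, 2, 5, 6, 11, 18, 3, 20, 21, 4, 8, 14, 22, 1, 19, 16, 10, 23, 15, 7, 17], [0, 16, 4, 9, 12, 5, 6, 22, 13, 2, 19, 7, 3, 1, 14, 21, 18, 23, 8, 17, 10, 11, 15, 20]), (1, 0, 11)),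
   (([0, 2, 6, 8, 18, 22, 9, 5, 13, 12, 7, 19, 3, 1, 23, 11, 16, 15, 4, 21, 14, 20, 10, 17], [0, 13, 1, 12, 18, 7, 2, 10, 3, 6, 22, 15, 9, 8, 20, 17, 16, 23, 4, 11, 21, 19, 5, 14]), (2, 5, 0)),
   (([0, 1, 12, 3, 6, 22, 9, 19, 4, 8, 14, 20, 18, 13, 23, 10, 2, 21, 16, 7, 17, 11, 5, 15], [0, 1, 16, 3, 8, 22, 4, 19, 9, 6, 15, 21, 2, 13, 10, 23, 18, 20, 12, 7, 11, 17, 5, 14]), (1, 16, 15)),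
   (([0, 18, 2, 1, 6, 7, 13, 17, 9, 3, 10, 20, 16, 12, 14, 19, 4, 15, 8, 5, 23, 11, 21, 22], [0, 3, 2, 9, 16, 19, 4, 5, 18, 8, 10, 21, 13, 6, 14, 17, 12, 7, 1, 15, 11, 22, 23, 20]), (1, 0, 10)),
   (([0, 6, 16, 2, 9, 19, 8, 15, 3, 13, 7, 21, 4, 18, 14, 23, 12, 22, 1, 20, 17, 10, 11, 5], [0, 18, 3, 8, 12, 23, 1, 10, 6, 4, 21, 22, 16, 9, 14, 7, 2, 20, 13, 5, 19, 11, 17, 15]), (2, 9, 0)),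
   (([0, 1, 16, 6, 8, 15, 18, 22, 13, 2, 7, 17, 12, 4, 14, 20, 9, 23, 3, 19, 5, 21, 10, 11], [0, 1, 9, 18, 13, 20, 3, 10, 4, 16, 22, 23, 12, 8, 14, 5, 2, 11, 6, 19, 15, 21, 7, 17]), (1, 19, 18)),
   (([0, 6, 2, 4, 16, 10, 12, 7, 3, 18, 15, 22, 9, 8, 23, 19, 13, 5, 1, 17, 20, 14, 21, 11], [0, 18, 2, 8, 3, 17, 1, 7, 13, 12, 5, 23, 6, 16, 21, 10, 4, 19, 9, 15, 20, 22, 11, 14]), (1, 1, 10)),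
   (([0, 1, 4, 6, 18, 15, 9, 7, 2, 12, 11, 23, 13, 3, 19, 14, 8, 10, 16, 20, 5, 21, 17, 22], [0, 1, 8, 13, 2, 20, 3, 7, 16, 6, 17, 10, 9, 12, 15, 5, 18, 22, 4, 14, 19, 21, 23, 11]), (1, 2, 21)),
   (([0, 4, 9, 16, 18, 14, 3, 17, 6, 12, 21, 22, 13, 1, 20, 15, 2, 23, 8, 7, 10, 11, 19, 5], [0, 13, 16, 6, 1, 23, 8, 19, 18, 2, 20, 21, 9, 12, 5, 15, 3, 7, 4, 22, 14, 10, 11, 17]), (1, 1, 1)),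
   (([0, 18, 6, 4, 1, 15, 16, 7, 2, 8, 11, 23, 13, 3, 17, 22, 12, 5, 9, 21, 10, 20, 19, 14], [0, 4, 8, 13, 3, 17, 2, 7, 9, 18, 20, 10, 16, 12, 23, 5, 6, 14, 1, 22, 21, 19, 15, 11]), (2, 4, 0)),
   (([0, 1, 8, 12, 9, 17, 4, 5, 16, 13, 20, 19, 3, 18, 10, 22, 6, 14, 2, 7, 11, 23, 21, 15], [0, 1, 18, 12, 6, 7, 16, 19, 2, 4, 14, 20, 3, 9, 17, 23, 8, 5, 13, 11, 10, 22, 15, 21]), (1, 24, 23)),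
   (([0, 1, 16, 6, 3, 11, 9, 5, 18, 13, 21, 20, 4, 8, 23, 10, 2, 14, 12, 17, 7, 22, 19, 15], [0, 1, 16, 4, 12, 7, 3, 20, 13, 6, 15, 5, 18, 9, 17, 23, 2, 19, 8, 22, 11, 10, 21, 14]), (1, 0, 1)),
   (([0, 9, 1, 12, 6, 11, 16, 17, 13, 2, 23, 14, 4, 8, 19, 10, 18, 7, 3, 22, 20, 5, 21, 15], [0, 2, 9, 18, 12, 21, 4, 17, 13, 1, 15, 5, 3, 8, 11, 23, 6, 7, 16, 14, 20, 22, 19, 10]), (1, 1, 9)),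
   (([0, 16, 18, 6, 9, 7, 2, 5, 8, 1, 11, 10, 12, 13, 20, 19, 4, 14, 3, 23, 22, 15, 17, 21], [0, 9, 6, 18, 16, 7, 3, 5, 8, 4, 11, 10, 12, 13, 17, 21, 1, 22, 2, 15, 14, 23, 20, 19]), (2, 7, 0)),
   (([0, 1, 16, 12, 2, 10, 4, 14, 13, 18, 21, 20, 9, 8, 23, 11, 3, 5, 6, 17, 22, 7, 15, 19], [0, 1, 4, 16, 6, 17, 18, 21, 13, 12, 5, 15, 3, 8, 7, 22, 2, 19, 9, 23, 11, 10, 20, 14]), (1, 28, 27)),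
   (([0, 8, 1, 4, 12, 5, 16, 21, 6, 9, 19, 10, 13, 18, 7, 14, 2, 15, 3, 20, 22, 17, 11, 23], [0, 2, 16, 18, 3, 5, 8, 14, 1, 9, 11, 22, 4, 12, 15, 17, 6, 21, 13, 10, 19, 7, 20, 23]), (1, 0, 8)),
   (([0, 6, 9, 13, 4, 10, 12, 22, 1, 3, 5, 21, 8, 2, 17, 19, 16, 11, 18, 20, 23, 14, 7, 15], [0, 8, 13, 9, 4, 10, 1, 22, 12, 2, 5, 17, 6, 3, 21, 23, 16, 14, 18, 15, 19, 11, 7, 20]), (2, 11, 0)),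
   (([0, 1, 6, 4, 8, 10, 16, 14, 12, 3, 20, 5, 2, 18, 22, 17, 9, 19, 13, 23, 7, 11, 21, 15], [0, 1, 12, 9, 3, 11, 2, 20, 4, 16, 5, 21, 8, 18, 7, 23, 6, 15, 13, 17, 10, 22, 14, 19]), (1, 31, 30)),
   (([0, 12, 3, 8, 2, 17, 16, 14, 6, 18, 22, 21, 13, 1, 23, 11, 4, 19, 9, 15, 20, 5, 10, 7], [0, 13, 4, 2, 16, 21, 8, 23, 3, 18, 22, 15, 1, 12, 7, 19, 6, 5, 9, 17, 20, 11, 10, 14]), (1, 1, 11)),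
   (([0, 4, 9, 18, 2, 11, 16, 5, 6, 13, 19, 17, 1, 8, 15, 10, 3, 22, 12, 20, 7, 14, 21, 23], [0, 12, 4, 16, 1, 7, 8, 20, 13, 2, 15, 5, 18, 9, 21, 14, 6, 11, 3, 10, 19, 22, 17, 23]), (2, 10, 0)),
   (([0, 1, 18, 6, 9, 22, 3, 15, 16, 12, 21, 14, 8, 4, 23, 17, 2, 20, 13, 10, 7, 11, 19, 5], [0, 1, 16, 6, 13, 23, 3, 20, 12, 4, 19, 21, 9, 18, 11, 7, 8, 15, 2, 22, 17, 10, 5, 14]), (1, 34, 33)),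
   (([0, 1, 9, 2, 8, 15, 3, 17, 12, 6, 7, 22, 13, 4, 20, 14, 16, 23, 18, 21, 5, 19, 11, 10], [0, 1, 3, 6, 13, 20, 9, 10, 4, 2, 23, 22, 8, 12, 15, 5, 16, 7, 18, 21, 14, 19, 11, 17]), (1, 14, 14)),
   (([0, 1, 3, 8, 13, 21, 4, 23, 9, 18, 10, 22, 6, 16, 14, 5, 12, 7, 2, 20, 15, 19, 17, 11], [0, 1, 18, 2, 6, 15, 12, 17, 3, 8, 10, 23, 16, 4, 14, 20, 13, 22, 9, 21, 19, 5, 11, 7]), (1, 26, 14)),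
   (([0, 1, 13, 6, 9, 17, 12, 20, 18, 2, 19, 5, 16, 3, 22, 11, 4, 21, 8, 7, 10, 23, 15, 14], [0, 1, 9, 13, 16, 11, 3, 19, 18, 4, 20, 15, 6, 2, 23, 22, 12, 5, 8, 10, 7, 17, 14, 21]), (1, 22, 17)),
   (([0, 1, 6, 13, 8, 14, 18, 23, 9, 4, 10, 11, 3, 12, 21, 19, 16, 17, 2, 20, 15, 5, 7, 22], [0, 1, 18, 12, 9, 21, 2, 22, 4, 8, 10, 11, 13, 3, 5, 20, 16, 17, 6, 15, 19, 14, 23, 7]), (1, 17, 14)),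
   (([0, 1, 12, 9, 3, 11, 2, 20, 4, 16, 5, 21, 8, 18, 7, 23, 6, 15, 13, 17, 10, 22, 14, 19], [0, 1, 6, 4, 8, 10, 16, 14, 12, 3, 20, 5, 2, 18, 22, 17, 9, 19, 13, 23, 7, 11, 21, 15]), (2, 32, 0)),
   (([0, 1, 2, 18, 4, 7, 13, 19, 16, 3, 5, 21, 9, 8, 22, 17, 6, 15, 12, 10, 23, 11, 20, 14], [0, 1, 2, 9, 4, 10, 16, 5, 13, 12, 19, 21, 18, 6, 23, 17, 8, 15, 3, 7, 22, 11, 14, 20]), (1, 40, 39)),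
   (([0, 1, 9, 18, 13, 20, 3, 10, 4, 16, 22, 23, 12, 8, 14, 5, 2, 11, 6, 19, 15, 21, 7, 17], [0, 1, 16, 6, 8, 15, 18, 22, 13, 2, 7, 17, 12, 4, 14, 20, 9, 23, 3, 19, 5, 21, 10, 11]), (2, 20, 0)),
   (([0, 1, 2, 12, 9, 22, 13, 14, 8, 6, 21, 15, 16, 4, 17, 23, 18, 20, 3, 11, 7, 10, 5, 19], [0, 1, 2, 18, 13, 22, 9, 20, 8, 4, 21, 19, 3, 6, 7, 11, 12, 14, 16, 23, 17, 10, 5, 15]), (1, 42, 29)),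
   (([0, 1, 12, 2, 3, 19, 8, 10, 9, 18, 7, 23, 4, 13, 20, 21, 16, 22, 6, 14, 5, 15, 11, 17], [0, 1, 3, 4, 12, 20, 18, 10, 6, 8, 7, 22, 2, 13, 19, 21, 16, 23, 9, 5, 14, 15, 17, 11]), (1, 32, 25)),
   (([0, 1, 16, 3, 8, 22, 4, 19, 9, 6, 15, 21, 2, 13, 10, 23, 18, 20, 12, 7, 11, 17, 5, 14], [0, 1, 12, 3, 6, 22, 9, 19, 4, 8, 14, 20, 18, 13, 23, 10, 2, 21, 16, 7, 17, 11, 5, 15]), (2, 17, 0)),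
   (([0, 1, 2, 16, 3, 7, 9, 15, 6, 12, 19, 14, 8, 13, 11, 17, 18, 5, 4, 10, 22, 23, 21, 20], [0, 1, 2, 4, 18, 17, 8, 5, 12, 6, 19, 14, 9, 13, 11, 7, 3, 15, 16, 10, 23, 22, 20, 21]), (1, 45, 44)),
   (([0, 1, 18, 3, 12, 11, 13, 19, 9, 2, 14, 21, 6, 4, 10, 7, 16, 5, 8, 23, 22, 17, 20, 15], [0, 1, 9, 3, 13, 17, 12, 15, 18, 8, 14, 5, 4, 6, 10, 23, 16, 21, 2, 7, 22, 11, 20, 19]), (1, 22, 14)),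
   (([0, 1, 16, 6, 13, 23, 3, 20, 12, 4, 19, 21, 9, 18, 11, 7, 8, 15, 2, 22, 17, 10, 5, 14], [0, 1, 18, 6, 9, 22, 3, 15, 16, 12, 21, 14, 8, 4, 23, 17, 2, 20, 13, 10, 7, 11, 19, 5]), (2, 35, 0)),
   (([0, 1, 2, 6, 9, 21, 18, 22, 4, 16, 11, 10, 3, 13, 19, 20, 8, 23, 12, 14, 5, 15, 17, 7], [0, 1, 2, 12, 8, 20, 3, 23, 16, 4, 11, 10, 18, 13, 19, 21, 9, 22, 6, 14, 15, 5, 7, 17]), (1, 48, 47)),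
   (([0, 1, 13, 9, 8, 21, 18, 17, 16, 12, 7, 22, 2, 3, 5, 20, 6, 11, 4, 19, 14, 15, 10, 23], [0, 1, 12, 13, 18, 14, 16, 10, 4, 3, 22, 17, 9, 2, 20, 21, 8, 7, 6, 19, 15, 5, 11, 23]), (1, 17, 38)),
   (([0, 1, 9, 13, 16, 11, 3, 19, 18, 4, 20, 15, 6, 2, 23, 22, 12, 5, 8, 10, 7, 17, 14, 21], [0, 1, 13, 6, 9, 17, 12, 20, 18, 2, 19, 5, 16, 3, 22, 11, 4, 21, 8, 7, 10, 23, 15, 14]), (2, 38, 0)),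
   (([0, 1, 2, 4, 18, 17, 8, 5, 12, 6, 19, 14, 9, 13, 11, 7, 3, 15, 16, 10, 23, 22, 20, 21], [0, 1, 2, 16, 3, 7, 9, 15, 6, 12, 19, 14, 8, 13, 11, 17, 18, 5, 4, 10, 22, 23, 21, 20]), (1, 51, 50)),
   (([0, 1, 18, 4, 13, 14, 3, 11, 2, 8, 7, 17, 6, 12, 21, 19, 9, 23, 16, 5, 20, 15, 22, 10], [0, 1, 8, 6, 3, 19, 12, 10, 9, 16, 23, 7, 13, 4, 5, 21, 18, 11, 2, 15, 20, 14, 22, 17]), (1, 25, 38)),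
   (([0, 1, 2, 13, 18, 11, 6, 21, 16, 12, 20, 15, 3, 9, 10, 22, 4, 14, 8, 23, 17, 7, 5, 19], [0, 1, 2, 12, 16, 22, 6, 21, 18, 13, 14, 5, 9, 3, 17, 11, 8, 20, 4, 23, 10, 7, 15, 19]), (1, 48, 53)),
   (([0, 1, 18, 8, 13, 7, 9, 14, 12, 6, 5, 15, 16, 3, 10, 23, 2, 19, 4, 11, 22, 17, 21, 20], [0, 1, 16, 13, 18, 10, 9, 5, 3, 6, 14, 19, 8, 4, 7, 11, 12, 21, 2, 17, 23, 22, 20, 15]), (1, 20, 32)),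
   (([0, 1, 2, 12, 18, 20, 4, 11, 9, 3, 23, 7, 8, 6, 19, 14, 16, 22, 13, 21, 5, 15, 10, 17], [0, 1, 2, 9, 6, 20, 13, 11, 12, 8, 22, 7, 3, 18, 15, 21, 16, 23, 4, 14, 5, 19, 17, 10]), (1, 48, 55)),
   (([0, 1, 4, 18, 8, 21, 6, 22, 2, 13, 17, 7, 3, 16, 14, 5, 9, 23, 12, 19, 20, 15, 11, 10], [0, 1, 8, 12, 2, 15, 6, 11, 4, 16, 23, 22, 18, 9, 14, 21, 13, 10, 3, 19, 20, 5, 7, 17]), (1, 17, 25)),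
   (([0, 1, 13, 12, 2, 23, 8, 15, 9, 4, 5, 19, 6, 3, 7, 10, 18, 14, 16, 22, 17, 11, 21, 20], [0, 1, 4, 13, 9, 10, 12, 14, 6, 8, 15, 21, 3, 2, 17, 7, 18, 20, 16, 11, 23, 22, 19, 5]), (2, 14, 0)),
   (([0, 1, 2, 16, 9, 11, 8, 21, 13, 3, 14, 15, 12, 18, 7, 23, 4, 20, 6, 22, 17, 10, 19, 5], [0, 1, 2, 9, 16, 23, 18, 14, 6, 4, 21, 5, 12, 8, 10, 11, 3, 20, 13, 22, 17, 7, 19, 15]), (1, 58, 57)),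
   (([0, 1, 13, 6, 2, 22, 9, 5, 8, 16, 15, 19, 12, 18, 17, 10, 3, 14, 4, 23, 7, 11, 20, 21], [0, 1, 4, 16, 18, 7, 3, 20, 8, 6, 15, 21, 12, 2, 17, 10, 9, 14, 13, 11, 22, 23, 5, 19]), (1, 14, 37)),
   (([0, 1, 2, 3, 9, 14, 4, 11, 18, 12, 22, 10, 6, 8, 5, 20, 13, 23, 16, 21, 19, 15, 7, 17], [0, 1, 2, 3, 6, 14, 12, 22, 13, 4, 11, 7, 9, 16, 5, 21, 18, 23, 8, 20, 15, 19, 10, 17]), (1, 51, 60)),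
   (([0, 1, 2, 8, 18, 21, 9, 23, 4, 13, 11, 7, 12, 16, 5, 14, 6, 22, 3, 20, 19, 15, 17, 10], [0, 1, 2, 18, 8, 14, 16, 11, 3, 6, 23, 10, 12, 9, 15, 21, 13, 22, 4, 20, 19, 5, 17, 7]), (1, 54, 41)),
   (([0, 1, 2, 9, 3, 20, 8, 22, 16, 13, 11, 17, 6, 4, 15, 14, 12, 23, 18, 21, 19, 5, 7, 10], [0, 1, 2, 4, 13, 21, 12, 22, 6, 3, 23, 10, 16, 9, 15, 14, 8, 11, 18, 20, 5, 19, 7, 17]), (1, 41, 43)),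
   (([0, 1, 2, 3, 6, 14, 12, 22, 13, 4, 11, 7, 9, 16, 5, 21, 18, 23, 8, 20, 15, 19, 10, 17], [0, 1, 2, 3, 9, 14, 4, 11, 18, 12, 22, 10, 6, 8, 5, 20, 13, 23, 16, 21, 19, 15, 7, 17]), (1, 52, 59)),
   (([0, 1, 2, 18, 13, 22, 9, 20, 8, 4, 21, 19, 3, 6, 7, 11, 12, 14, 16, 23, 17, 10, 5, 15], [0, 1, 2, 12, 9, 22, 13, 14, 8, 6, 21, 15, 16, 4, 17, 23, 18, 20, 3, 11, 7, 10, 5, 19]), (2, 43, 0)),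
   (([0, 1, 2, 3, 16, 17, 13, 19, 4, 18, 15, 20, 8, 9, 23, 7, 12, 5, 6, 10, 22, 11, 21, 14], [0, 1, 2, 3, 8, 17, 18, 15, 12, 13, 19, 21, 16, 6, 23, 10, 4, 5, 9, 7, 11, 22, 20, 14]), (1, 65, 56)),
   (([0, 1, 2, 6, 12, 7, 8, 5, 18, 4, 15, 20, 13, 9, 23, 17, 16, 19, 3, 10, 11, 22, 14, 21], [0, 1, 2, 18, 9, 7, 3, 5, 6, 13, 19, 20, 4, 12, 22, 10, 16, 15, 8, 17, 11, 23, 21, 14]), (1, 61, 43)),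
   (([0, 1, 2, 12, 8, 20, 3, 23, 16, 4, 11, 10, 18, 13, 19, 21, 9, 22, 6, 14, 15, 5, 7, 17], [0, 1, 2, 6, 9, 21, 18, 22, 4, 16, 11, 10, 3, 13, 19, 20, 8, 23, 12, 14, 5, 15, 17, 7]), (2, 49, 0)),
   (([0, 1, 2, 3, 18, 23, 16, 20, 6, 8, 21, 15, 13, 4, 17, 22, 9, 14, 12, 11, 10, 7, 19, 5], [0, 1, 2, 3, 13, 23, 8, 21, 9, 16, 20, 19, 18, 12, 17, 11, 6, 14, 4, 22, 7, 10, 15, 5]), (1, 68, 67)),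
   (([0, 1, 2, 16, 8, 7, 12, 19, 18, 9, 15, 21, 3, 4, 11, 10, 6, 5, 13, 17, 23, 22, 14, 20], [0, 1, 2, 12, 13, 17, 16, 5, 4, 9, 15, 14, 6, 18, 22, 10, 3, 19, 8, 7, 23, 11, 21, 20]), (1, 54, 62)),
   (([0, 1, 2, 3, 12, 5, 9, 10, 16, 6, 7, 22, 4, 18, 14, 19, 8, 17, 13, 15, 21, 20, 11, 23], [0, 1, 2, 3, 12, 5, 9, 10, 16, 6, 7, 22, 4, 18, 14, 19, 8, 17, 13, 15, 21, 20, 11, 23]), (1, 52, 70)),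
   (([0, 1, 2, 4, 12, 15, 16, 7, 9, 13, 10, 22, 3, 8, 21, 19, 18, 17, 6, 5, 14, 20, 23, 11], [0, 1, 2, 12, 3, 19, 18, 7, 13, 8, 10, 23, 4, 9, 20, 5, 6, 17, 16, 15, 21, 14, 11, 22]), (1, 41, 52)),
   (([0, 1, 2, 3, 8, 17, 18, 15, 12, 13, 19, 21, 16, 6, 23, 10, 4, 5, 9, 7, 11, 22, 20, 14], [0, 1, 2, 3, 16, 17, 13, 19, 4, 18, 15, 20, 8, 9, 23, 7, 12, 5, 6, 10, 22, 11, 21, 14]), (1, 46, 72)),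
   (([0, 1, 2, 12, 4, 19, 8, 10, 6, 18, 7, 11, 3, 16, 20, 15, 13, 17, 9, 5, 14, 21, 23, 22], [0, 1, 2, 12, 4, 19, 8, 10, 6, 18, 7, 11, 3, 16, 20, 15, 13, 17, 9, 5, 14, 21, 23, 22]), (1, 41, 41)),
   (([0, 1, 2, 3, 13, 23, 8, 21, 9, 16, 20, 19, 18, 12, 17, 11, 6, 14, 4, 22, 7, 10, 15, 5], [0, 1, 2, 3, 18, 23, 16, 20, 6, 8, 21, 15, 13, 4, 17, 22, 9, 14, 12, 11, 10, 7, 19, 5]), (1, 65, 74))]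

theorem gt_ok : gt.all (genChk 340831 1 11) = true := by decide +kernel

theorem nodes_ok : slpOKG gt nodes = true := by decide +kernel

/-- witnesses of level 1 -/
def row1 : List ℕ := [0, 3, 6, 8, 4, 0, 0, 0, 11, 7, 0, 0, 10, 5, 0, 0, 1, 0, 9, 0, 0, 0, 0, 0]

theorem row1_ok : lvlOK nodes false 1 1 340830 row1 = true := by decide +kernel

/-- witnesses of level 2 -/
def row2 : List ℕ := [0, 0, 3, 37, 14, 0, 32, 0, 25, 36, 0, 0, 17, 38, 0, 0, 20, 0, 35, 0, 0, 0, 0, 0]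

theorem row2_ok : lvlOK nodes false 3 2 340828 row2 = true := by decide +kernel

/-- witnesses of level 3 -/
def row3 : List ℕ := [0, 0, 0, 3, 52, 0, 49, 0, 62, 63, 0, 0, 43, 54, 0, 0, 46, 0, 41, 0, 0, 0, 0, 0]

theorem row3_ok : lvlOK nodes false 7 3 340824 row3 = true := by decide +kernel

/-- witnesses of level 4 -/
def row4 : List ℕ := [0, 0, 0, 0, 3, 0, 64, 0, 73, 61, 0, 0, 71, 75, 0, 0, 66, 0, 69, 0, 0, 0, 0, 0]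

theorem row4_ok : lvlOK nodes false 15 4 340816 row4 = true := by decide +kernel


open Cfsg.Agent.Lib_lead_M12Data in
/-- every subgroup containing the elements of order 11 of the stabilizer contains it -/
theorem cert (K : Subgroup (Equiv.Perm GolayPt))
    (hK : ∀ c ∈ stabD 340831 1, orderOf c = 11 → c ∈ K) : stabD 340831 1 ≤ K := by
  haveI : Fact (Nat.Prime 11) := ⟨by norm_num⟩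
  have hbase : stabD 340831 31 ≤ K := by
    rw [stab5]
    exact bot_le
  have h4 : stabD 340831 15 ≤ K :=
    chain_step (by norm_num) gt_ok nodes_ok hK (b := 4) (tgt := 340816) (by norm_num) (by decide)
      lvA5.2.2.1 row4_ok hbase
  have h3 : stabD 340831 7 ≤ K :=
    chain_step (by norm_num) gt_ok nodes_ok hK (b := 3) (tgt := 340824) (by norm_num) (by decide)
      lvA4.2.2.1 row3_ok h4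
  have h2 : stabD 340831 3 ≤ K :=
    chain_step (by norm_num) gt_ok nodes_ok hK (b := 2) (tgt := 340828) (by norm_num) (by decide)
      lvA3.2.2.1 row2_ok h3
  have h1 : stabD 340831 1 ≤ K :=
    chain_step (by norm_num) gt_ok nodes_ok hK (b := 1) (tgt := 340830) (by norm_num) (by decide)
      lvA2.2.2.1 row1_ok h2
  exact h1

end Cfsg.Agent.Lib_lead_Simp11
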