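import Mathlib
import Cfsg.Prelude.Def_Sporadic_a
import Cfsg.Agent.Lib_lead_SlpG
import Cfsg.Agent.Lib_lead_Simp23
import Cfsg.Agent.Lib_lead_Simp22
import Cfsg.Agent.Lib_lead_Simp11
import Cfsg.Agent.Lib_lead_M24Trans
import Cfsg.Agent.Lib_lead_M24Sets
import Cfsg.Agent.Lib_lead_M24Oct
import Cfsg.Agent.Lib_lead_M12Thm

/-! Simplicity of the five Mathieu groups inside the group of the length-24 code. -/

set_option autoImplicit false

namespace Cfsg.Agent.Lib_lead_SimpleM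

open Cfsg Cfsg.Agent.Lib_lead_Golay Cfsg.Agent.Lib_lead_GolayPerm Cfsg.Agent.Lib_lead_M24
  Cfsg.Agent.Lib_lead_M24Chain Cfsg.Agent.Lib_lead_M24ChainData Cfsg.Agent.Lib_lead_M24Trans
  Cfsg.Agent.Lib_lead_M12 Cfsg.Agent.Lib_lead_M12Data Cfsg.Agent.Lib_lead_M12Thm
  Cfsg.Agent.Lib_lead_SlpG Cfsg.Agent.Lib_lead_Simple Cfsg.Agent.Lib_lead_M24Sets
open scoped Pointwise

/-- the stabilizer of a point, as a group of permutations -/
def H1 (p : GolayPt) : Subgroup (Equiv.Perm GolayPt) :=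
  M24 ⊓ MulAction.stabilizer (Equiv.Perm GolayPt) p

/-- the stabilizer of two points -/
def H2 (p q : GolayPt) : Subgroup (Equiv.Perm GolayPt) :=
  H1 p ⊓ MulAction.stabilizer (Equiv.Perm GolayPt) q

/-- the stabilizer of a set -/
def HD (d : Finset GolayPt) : Subgroup (Equiv.Perm GolayPt) :=
  M24 ⊓ MulAction.stabilizer (Equiv.Perm GolayPt) d

/-- the stabilizer of a set and a point -/
def HDp (d : Finset GolayPt) (p : GolayPt) : Subgroup (Equiv.Perm GolayPt) :=
  HD d ⊓ MulAction.stabilizer (Equiv.Perm GolayPt) p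

theorem mem_H1 (p : GolayPt) (g : Equiv.Perm GolayPt) : g ∈ H1 p ↔ g ∈ M24 ∧ g p = p := by
  unfold H1
  rw [Subgroup.mem_inf]
  exact and_congr Iff.rfl MulAction.mem_stabilizer_iff

theorem mem_H2 (p q : GolayPt) (g : Equiv.Perm GolayPt) :
    g ∈ H2 p q ↔ g ∈ M24 ∧ g p = p ∧ g q = q := by
  unfold H2
  rw [Subgroup.mem_inf, mem_H1, and_assoc]
  exact and_congr Iff.rfl (and_congr Iff.rfl MulAction.mem_stabilizer_iff)

theorem mem_HD (d : Finset GolayPt) (g : Equiv.Perm GolayPt) :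
    g ∈ HD d ↔ g ∈ M24 ∧ g • d = d := by
  unfold HD
  rw [Subgroup.mem_inf]
  exact and_congr Iff.rfl MulAction.mem_stabilizer_iff

theorem mem_HDp (d : Finset GolayPt) (p : GolayPt) (g : Equiv.Perm GolayPt) :
    g ∈ HDp d p ↔ g ∈ M24 ∧ g • d = d ∧ g p = p := by
  unfold HDp
  rw [Subgroup.mem_inf, mem_HD, and_assoc]
  exact and_congr Iff.rfl (and_congr Iff.rfl MulAction.mem_stabilizer_iff)

/-- the statement's point stabilizer is the flat one -/
def e1 (p : GolayPt) : ↥(MulAction.stabilizer M24 p) ≃* ↥(H1 p) :=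
  flat M24 _ _ (fun x => ⟨fun h => (mem_H1 p _).mpr ⟨x.2, h⟩, fun h => ((mem_H1 p _).mp h).2⟩)
    inf_le_left

/-- the statement's two-point stabilizer is the flat one -/
def e2 (p q : GolayPt) :
    ↥(MulAction.stabilizer M24 p ⊓ MulAction.stabilizer M24 q) ≃* ↥(H2 p q) :=
  flat M24 _ _ (fun x => ⟨fun h => (mem_H2 p q _).mpr ⟨x.2, h.1, h.2⟩,
    fun h => ⟨((mem_H2 p q _).mp h).2.1, ((mem_H2 p q _).mp h).2.2⟩⟩)
    (fun _ h => ((mem_H2 p q _).mp h).1)

/-- the statement's set stabilizer is the flat one -/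
def eD (d : Finset GolayPt) : ↥(MulAction.stabilizer M24 d) ≃* ↥(HD d) :=
  flat M24 _ _ (fun x => ⟨fun h => (mem_HD d _).mpr ⟨x.2, h⟩, fun h => ((mem_HD d _).mp h).2⟩)
    inf_le_left

/-- the statement's stabilizer of a set and a point is the flat one -/
def eDp (d : Finset GolayPt) (p : GolayPt) :
    ↥(MulAction.stabilizer M24 d ⊓ MulAction.stabilizer M24 p) ≃* ↥(HDp d p) :=
  flat M24 _ _ (fun x => ⟨fun h => (mem_HDp d p _).mpr ⟨x.2, h.1, h.2⟩,
    fun h => ⟨((mem_HDp d p _).mp h).2.1, ((mem_HDp d p _).mp h).2.2⟩⟩)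
    (fun _ h => ((mem_HDp d p _).mp h).1)

theorem fix1b : ∀ j : Fin 24, (1 : ℕ).testBit j.val = true → j.val = 0 := by decide

theorem fix1 (g : Equiv.Perm GolayPt) : FixM 1 g ↔ g (ptN 0) = ptN 0 := by
  constructor
  · intro h
    exact h 0 (by norm_num) (by decide)
  · intro h j hj hbit
    have hj0 : j = 0 := fix1b ⟨j, hj⟩ hbit
    rw [hj0]
    exact h

theorem fix5b : ∀ j : Fin 24, (5 : ℕ).testBit j.val = true → j.val = 0 ∨ j.val = 2 := by decide

theorem fix5 (g : Equiv.Perm GolayPt) :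
    FixM 5 g ↔ g (ptN 0) = ptN 0 ∧ g (ptN 2) = ptN 2 := by
  constructor
  · intro h
    exact ⟨h 0 (by norm_num) (by decide), h 2 (by norm_num) (by decide)⟩
  · intro h j hj hbit
    rcases fix5b ⟨j, hj⟩ hbit with h0 | h0
    · have : j = 0 := h0
      rw [this]
      exact h.1
    · have : j = 2 := h0
      rw [this]
      exact h.2

theorem H1_base : H1 (ptN 0) = stabD 0 1 := by
  ext g
  rw [mem_H1, stabD_zero, mem_stabM, fix1]

theorem H2_base : H2 (ptN 0) (ptN 2) = stabD 0 5 := by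
  ext g
  rw [mem_H2, stabD_zero, mem_stabM, fix5]

theorem HDp_base : HDp (fsOf 340831) (ptN 0) = stabD 340831 1 := by
  ext g
  rw [mem_HDp, mem_stabD, fix1]

theorem nontrivial_of_card {G : Type*} [Finite G] {n : ℕ} (h : Nat.card G = n) (hn : 1 < n) :
    Nontrivial G :=
  Finite.one_lt_card_iff_nontrivial.mp (by rw [h]; exact hn)

theorem card_H1 (p : GolayPt) : Nat.card ↥(H1 p) = 10200960 := by
  rw [← Nat.card_congr (e1 p).toEquiv]
  exact card_stab1 p

theorem card_H2 (p q : GolayPt) (hpq : p ≠ q) : Nat.card ↥(H2 p q) = 443520 := by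
  rw [← Nat.card_congr (e2 p q).toEquiv]
  exact card_stab2 p q hpq

theorem card_HDp (d : Finset GolayPt) (hd : d ∈ dodecads) (p : GolayPt) (hp : p ∈ d) :
    Nat.card ↥(HDp d p) = 7920 := by
  rw [← Nat.card_congr (eDp d p).toEquiv]
  exact card_stab_dp d hd p hp

theorem card_HD (d : Finset GolayPt) (hd : d ∈ dodecads) : Nat.card ↥(HD d) = 95040 := by
  rw [← Nat.card_congr (eD d).toEquiv]
  exact Cfsg.Agent.Lib_lead_M24Oct.dodecad_stab d hd

theorem conj_mem_stab {G α : Type*} [Group G] [MulAction G α] (σ x : G) (a : α) :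
    σ * x * σ⁻¹ ∈ MulAction.stabilizer G (σ • a) ↔ x ∈ MulAction.stabilizer G a := by
  rw [MulAction.mem_stabilizer_iff, MulAction.mem_stabilizer_iff, mul_smul, mul_smul,
    inv_smul_smul, smul_left_cancel_iff]

theorem conj_mem_M24 {σ : Equiv.Perm GolayPt} (hσ : σ ∈ M24) (x : Equiv.Perm GolayPt) :
    σ * x * σ⁻¹ ∈ M24 ↔ x ∈ M24 := by
  constructor
  · intro h
    have h1 := M24.mul_mem (M24.mul_mem (M24.inv_mem hσ) h) hσ
    have h2 : σ⁻¹ * (σ * x * σ⁻¹) * σ = x := by group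
    rwa [h2] at h1
  · intro h
    exact M24.mul_mem (M24.mul_mem hσ h) (M24.inv_mem hσ)

/-! ### The point stabilizer -/

theorem card23 : (Finset.univ.erase (ptN 0)).card = 23 := by
  rw [Finset.card_erase_of_mem (Finset.mem_univ _), card_pts]

theorem simple1_base : IsSimpleGroup ↥(H1 (ptN 0)) := by
  haveI : Fact (Nat.Prime 23) := ⟨by norm_num⟩
  haveI : Nontrivial ↥(H1 (ptN 0)) := nontrivial_of_card (card_H1 _) (by norm_num)
  apply simple_flat (H1 (ptN 0)) (Finset.univ.erase (ptN 0)) 23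
  · rw [card23]
  · rw [card_H1]
    decide
  · intro g hg a ha
    rw [mem_H1] at hg
    rw [Finset.mem_erase] at ha ⊢
    refine ⟨fun h => ha.1 (g.injective (h.trans hg.2.symm)), Finset.mem_univ _⟩
  · intro g hg hfix
    rw [mem_H1] at hg
    refine Equiv.ext fun a => ?_
    rw [Equiv.Perm.one_apply]
    by_cases ha : a = ptN 0
    · rw [ha]
      exact hg.2
    · exact hfix a (Finset.mem_erase.mpr ⟨ha, Finset.mem_univ _⟩)
  · intro a ha b hb c hc d hd hab hcd
    rw [Finset.mem_erase] at ha hb hc hd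
    obtain ⟨g, hg, hmap⟩ := transL [ptN 0, a, b] [ptN 0, c, d]
      (by simp only [List.nodup_cons, List.mem_cons, List.not_mem_nil, or_false, not_or,
            List.nodup_nil, and_true, not_false_eq_true]
          exact ⟨⟨Ne.symm ha.1, Ne.symm hb.1⟩, hab⟩)
      (by simp only [List.nodup_cons, List.mem_cons, List.not_mem_nil, or_false, not_or,
            List.nodup_nil, and_true, not_false_eq_true]
          exact ⟨⟨Ne.symm hc.1, Ne.symm hd.1⟩, hcd⟩) rfl (by norm_num)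
    simp only [List.map_cons, List.map_nil, List.cons.injEq, and_true] at hmap
    exact ⟨g, (mem_H1 _ _).mpr ⟨hg, hmap.1⟩, hmap.2.1, hmap.2.2⟩
  · intro K hK
    rw [H1_base] at hK ⊢
    exact Cfsg.Agent.Lib_lead_Simp23.cert K hK

theorem simple1 (p : GolayPt) : IsSimpleGroup ↥(H1 p) := by
  obtain ⟨σ, hσ, hσp⟩ := trans1 (ptN 0) p
  haveI := simple1_base
  refine (conjEquiv (H1 (ptN 0)) (H1 p) σ (fun x => ?_)).symm.isSimpleGroup
  unfold H1
  rw [Subgroup.mem_inf, Subgroup.mem_inf, conj_mem_M24 hσ, ← hσp]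
  exact and_congr Iff.rfl (conj_mem_stab σ x (ptN 0)).symm

/-! ### The stabilizer of two points -/

theorem card22 : ((Finset.univ.erase (ptN 0)).erase (ptN 2)).card = 22 := by decide

theorem simple2_base : IsSimpleGroup ↥(H2 (ptN 0) (ptN 2)) := by
  haveI : Fact (Nat.Prime 11) := ⟨by norm_num⟩
  have hne : ptN 0 ≠ ptN 2 := by decide
  haveI : Nontrivial ↥(H2 (ptN 0) (ptN 2)) := nontrivial_of_card (card_H2 _ _ hne) (by norm_num)
  apply simple_flat (H2 (ptN 0) (ptN 2)) ((Finset.univ.erase (ptN 0)).erase (ptN 2)) 11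
  · rw [card22]
    decide
  · rw [card_H2 _ _ hne]
    decide
  · intro g hg a ha
    rw [mem_H2] at hg
    rw [Finset.mem_erase, Finset.mem_erase] at ha ⊢
    exact ⟨fun h => ha.1 (g.injective (h.trans hg.2.2.symm)),
      fun h => ha.2.1 (g.injective (h.trans hg.2.1.symm)), Finset.mem_univ _⟩
  · intro g hg hfix
    rw [mem_H2] at hg
    refine Equiv.ext fun a => ?_
    rw [Equiv.Perm.one_apply]
    by_cases ha : a = ptN 0
    · rw [ha]
      exact hg.2.1
    by_cases ha2 : a = ptN 2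
    · rw [ha2]
      exact hg.2.2
    · exact hfix a (Finset.mem_erase.mpr ⟨ha2, Finset.mem_erase.mpr ⟨ha, Finset.mem_univ _⟩⟩)
  · intro a ha b hb c hc d hd hab hcd
    rw [Finset.mem_erase, Finset.mem_erase] at ha hb hc hd
    obtain ⟨g, hg, hmap⟩ := transL [ptN 0, ptN 2, a, b] [ptN 0, ptN 2, c, d]
      (by simp only [List.nodup_cons, List.mem_cons, List.not_mem_nil, or_false, not_or,
            List.nodup_nil, and_true, not_false_eq_true]
          exact ⟨⟨hne, Ne.symm ha.2.1, Ne.symm hb.2.1⟩, ⟨Ne.symm ha.1, Ne.symm hb.1⟩, hab⟩)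
      (by simp only [List.nodup_cons, List.mem_cons, List.not_mem_nil, or_false, not_or,
            List.nodup_nil, and_true, not_false_eq_true]
          exact ⟨⟨hne, Ne.symm hc.2.1, Ne.symm hd.2.1⟩, ⟨Ne.symm hc.1, Ne.symm hd.1⟩, hcd⟩)
      rfl (by norm_num)
    simp only [List.map_cons, List.map_nil, List.cons.injEq, and_true] at hmap
    exact ⟨g, (mem_H2 _ _ _).mpr ⟨hg, hmap.1, hmap.2.1⟩, hmap.2.2.1, hmap.2.2.2⟩
  · intro K hK
    rw [H2_base] at hK ⊢
    exact Cfsg.Agent.Lib_lead_Simp22.cert K hK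

theorem simple2 (p q : GolayPt) (hpq : p ≠ q) : IsSimpleGroup ↥(H2 p q) := by
  obtain ⟨σ, hσ, hσp, hσq⟩ := trans2 (ptN 0) (ptN 2) p q (by decide) hpq
  haveI := simple2_base
  refine (conjEquiv (H2 (ptN 0) (ptN 2)) (H2 p q) σ (fun x => ?_)).symm.isSimpleGroup
  unfold H2 H1
  rw [Subgroup.mem_inf, Subgroup.mem_inf, Subgroup.mem_inf, Subgroup.mem_inf, conj_mem_M24 hσ,
    ← hσp, ← hσq]
  exact and_congr (and_congr Iff.rfl (conj_mem_stab σ x (ptN 0)).symm)
    (conj_mem_stab σ x (ptN 2)).symm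

/-! ### The stabilizer of a dodecad and a point -/

theorem card11 : ((fsOf 340831).erase (ptN 0)).card = 11 := by
  rw [Finset.card_erase_of_mem ((mem_fsOf _ _).mpr (by decide)), card_fsOf _ (by norm_num)]
  decide

theorem bits31 : ∀ j : Fin 24, (31 : ℕ).testBit j.val = true →
    (340831 : ℕ).testBit j.val = true := by decide

theorem simpleDp_base : IsSimpleGroup ↥(HDp (fsOf 340831) (ptN 0)) := by
  haveI : Fact (Nat.Prime 11) := ⟨by norm_num⟩
  have h0 : ptN 0 ∈ fsOf 340831 := (mem_fsOf _ _).mpr (by decide)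
  haveI : Nontrivial ↥(HDp (fsOf 340831) (ptN 0)) :=
    nontrivial_of_card (card_HDp _ root_dodecad _ h0) (by norm_num)
  apply simple_flat (HDp (fsOf 340831) (ptN 0)) ((fsOf 340831).erase (ptN 0)) 11
  · rw [card11]
  · rw [card_HDp _ root_dodecad _ h0]
    decide
  · intro g hg a ha
    rw [mem_HDp] at hg
    rw [Finset.mem_erase] at ha ⊢
    exact ⟨fun h => ha.1 (g.injective (h.trans hg.2.2.symm)), (mem_of_presv hg.2.1 a).mpr ha.2⟩
  · intro g hg hfix
    have hg' := (mem_HDp _ _ _).mp hg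
    have hmem : g ∈ stabD 340831 31 := by
      refine ⟨hg'.1, hg'.2.1, ?_⟩
      intro j hj hbit
      by_cases hj0 : j = 0
      · rw [hj0]
        exact hg'.2.2
      · apply hfix
        rw [Finset.mem_erase]
        refine ⟨fun h => hj0 (ptN_inj hj (by norm_num) h), ?_⟩
        rw [mem_fsOf, idx_ptN' j hj]
        exact bits31 ⟨j, hj⟩ hbit
    rw [stab5, Subgroup.mem_bot] at hmem
    exact hmem
  · intro a ha b hb c hc d hd hab hcd
    rw [Finset.mem_erase, mem_fsOf] at ha hb hc hd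
    obtain ⟨g1, hg1, e1, e2, e3⟩ := rA3 (ptN 0) a b (by decide) ha.2 hb.2 (Ne.symm ha.1)
      (Ne.symm hb.1) hab
    obtain ⟨g2, hg2, f1, f2, f3⟩ := rA3 (ptN 0) c d (by decide) hc.2 hd.2 (Ne.symm hc.1)
      (Ne.symm hd.1) hcd
    have hh : g2⁻¹ * g1 ∈ stabD 340831 0 :=
      (stabD 340831 0).mul_mem ((stabD 340831 0).inv_mem hg2) hg1
    refine ⟨g2⁻¹ * g1, (mem_HDp _ _ _).mpr ⟨hh.1, hh.2.1, ?_⟩, ?_, ?_⟩
    · rw [Equiv.Perm.mul_apply, e1, Equiv.Perm.inv_eq_iff_eq, f1]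
    · rw [Equiv.Perm.mul_apply, e2, Equiv.Perm.inv_eq_iff_eq, f2]
    · rw [Equiv.Perm.mul_apply, e3, Equiv.Perm.inv_eq_iff_eq, f3]
  · intro K hK
    rw [HDp_base] at hK ⊢
    exact Cfsg.Agent.Lib_lead_Simp11.cert K hK

theorem config_dp (d : Finset GolayPt) (hd : d ∈ dodecads) (x : GolayPt) (hx : x ∈ d) :
    ∃ σ ∈ M24, σ • fsOf 340831 = d ∧ σ (ptN 0) = x := by
  obtain ⟨σ, hσ, hσd⟩ := exists_sigma d hd
  obtain ⟨τ, hτ, h1⟩ := rA1 (σ⁻¹ x) ((bit_iff hσd x).mpr hx)
  refine ⟨σ * τ⁻¹, M24.mul_mem hσ (M24.inv_mem hτ.1), ?_, ?_⟩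
  · rw [mul_smul, inv_smul_eq_iff.mpr hτ.2.1.symm, hσd]
  · rw [Equiv.Perm.mul_apply, ← h1, Equiv.Perm.inv_def τ, Equiv.symm_apply_apply,
      Equiv.Perm.inv_def σ, Equiv.apply_symm_apply]

theorem simpleDp (d : Finset GolayPt) (hd : d ∈ dodecads) (p : GolayPt) (hp : p ∈ d) :
    IsSimpleGroup ↥(HDp d p) := by
  obtain ⟨σ, hσ, hσd, hσp⟩ := config_dp d hd p hp
  haveI := simpleDp_base
  refine (conjEquiv (HDp (fsOf 340831) (ptN 0)) (HDp d p) σ (fun x => ?_)).symm.isSimpleGroup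
  unfold HDp HD
  rw [Subgroup.mem_inf, Subgroup.mem_inf, Subgroup.mem_inf, Subgroup.mem_inf, conj_mem_M24 hσ,
    ← hσp, ← hσd]
  exact and_congr (and_congr Iff.rfl (conj_mem_stab σ x (fsOf 340831)).symm)
    (conj_mem_stab σ x (ptN 0)).symm

/-! ### The whole group and the dodecad stabilizer -/

theorem simple24 : IsSimpleGroup ↥M24 := by
  haveI : Nontrivial ↥M24 := nontrivial_of_card card_M24 (by norm_num)
  apply simple_of_stab (G := Equiv.Perm GolayPt) M24 Finset.univ (ptN 0) (Finset.mem_univ _)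
  · rw [card_pts]
    decide
  · rw [card_pts]
    decide
  · intro g _ a _
    exact Finset.mem_univ _
  · intro g _ hg
    by_contra hcon
    push_neg at hcon
    apply hg
    refine Equiv.ext fun a => ?_
    exact hcon a (Finset.mem_univ _)
  · intro a _ b _ c _ d _ hab hcd
    obtain ⟨g, hg, h1, h2⟩ := trans2 a b c d hab hcd
    exact ⟨g, hg, h1, h2⟩
  · exact simple1 (ptN 0)

theorem simpleD (d : Finset GolayPt) (hd : d ∈ dodecads) : IsSimpleGroup ↥(HD d) := by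
  haveI : Nontrivial ↥(HD d) := nontrivial_of_card (card_HD d hd) (by norm_num)
  have h12 : d.card = 12 := hd.2
  obtain ⟨p, hp⟩ : d.Nonempty := by
    rw [← Finset.card_pos, h12]
    norm_num
  obtain ⟨σ, hσ, hσd⟩ := exists_sigma d hd
  apply simple_of_stab (G := Equiv.Perm GolayPt) (HD d) d p hp
  · rw [h12]
    decide
  · rw [h12]
    decide
  · intro g hg a ha
    rw [mem_HD] at hg
    exact (mem_of_presv hg.2 a).mpr ha
  · intro g hg hne
    by_contra hcon
    push_neg at hcon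
    apply hne
    rw [mem_HD] at hg
    have hmem : σ⁻¹ * g * σ ∈ stabD 340831 31 := by
      refine ⟨M24.mul_mem (M24.mul_mem (M24.inv_mem hσ) hg.1) hσ, ?_, ?_⟩
      · rw [mul_smul, mul_smul, hσd, hg.2, ← hσd, inv_smul_smul]
      · intro j hj hbit
        have hmemd : σ (ptN j) ∈ d := by
          rw [← hσd]
          apply Finset.smul_mem_smul_finset (a := σ)
          rw [mem_fsOf, idx_ptN' j hj]
          exact bits31 ⟨j, hj⟩ hbit
        have h1 := hcon _ hmemd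
        rw [Equiv.Perm.mul_apply, Equiv.Perm.mul_apply]
        have h2 : g (σ (ptN j)) = σ (ptN j) := h1
        rw [h2, Equiv.Perm.inv_def, Equiv.symm_apply_apply]
    rw [stab5, Subgroup.mem_bot] at hmem
    have h3 : g = σ * (σ⁻¹ * g * σ) * σ⁻¹ := by group
    rw [h3, hmem]
    group
  · intro a ha b hb c hc e he hab hce
    obtain ⟨g1, hg1, e1, e2⟩ := rA2 (σ⁻¹ a) (σ⁻¹ b) ((bit_iff hσd a).mpr ha)
      ((bit_iff hσd b).mpr hb) (fun h => hab (σ⁻¹.injective h))
    obtain ⟨g2, hg2, f1, f2⟩ := rA2 (σ⁻¹ c) (σ⁻¹ e) ((bit_iff hσd c).mpr hc)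
      ((bit_iff hσd e).mpr he) (fun h => hce (σ⁻¹.injective h))
    obtain ⟨hM, hd', hmap⟩ := conj_lemma hσ hσd hg1 hg2
    exact ⟨_, (mem_HD _ _).mpr ⟨hM, hd'⟩, hmap a c (e1.trans f1.symm), hmap b e (e2.trans f2.symm)⟩
  · exact simpleDp d hd p hp

end Cfsg.Agent.Lib_lead_SimpleM
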