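import Mathlib
import Cfsg.Prelude.Def_SporadicCombinatorics
import Cfsg.Prelude.Def_Spor_Mathieu
import Cfsg.Agent.Lib_lead_EnumD
import Cfsg.Agent.Lib_lead_M11Cent
import Cfsg.Agent.Lib_lead_M11Conj
import Cfsg.Agent.Lib_lead_SimpleM
import Cfsg.Agent.Lib_lead_M11ElusiveData

/-! Every element of prime order of the stabilizer of a point of the dodecad of squares fixes a
point outside the dodecad. -/

set_option autoImplicit false

namespace Cfsg.Agent.Lib_lead_M11Elusive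

open Cfsg Cfsg.Agent.Lib_lead_Golay Cfsg.Agent.Lib_lead_GolayPerm Cfsg.Agent.Lib_lead_M24
  Cfsg.Agent.Lib_lead_M24Chain Cfsg.Agent.Lib_lead_Cls Cfsg.Agent.Lib_lead_Enum
  Cfsg.Agent.Lib_lead_EnumD Cfsg.Agent.Lib_lead_M12 Cfsg.Agent.Lib_lead_M12Data
  Cfsg.Agent.Lib_lead_M11ElusiveData
open scoped Pointwise

/-- a permutation of prime order fixes a point of an invariant set of size prime to the order -/
theorem exists_fixed {α : Type*} [Fintype α] [DecidableEq α] (g : Equiv.Perm α) (p : ℕ)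
    (hp : p.Prime) (hg : g ^ p = 1) (S : Finset α) (hS : ∀ x, g x ∈ S ↔ x ∈ S)
    (hc : ¬ p ∣ S.card) : ∃ x ∈ S, g x = x := by
  haveI : Fact p.Prime := ⟨hp⟩
  have hfp : (g.subtypePerm hS) ^ p ^ 1 = 1 := by
    rw [pow_one, Equiv.Perm.subtypePerm_pow]
    ext x
    simp [hg]
  obtain ⟨a, ha⟩ := Equiv.Perm.exists_fixed_point_of_prime (p := p) (n := 1)
    (by rw [Fintype.card_coe]; exact hc) hfp
  exact ⟨a.1, a.2, congrArg Subtype.val ha⟩

theorem conj_fix {g t : Equiv.Perm GolayPt} {D : Finset GolayPt} (ht : t • D = D)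
    (h : ∃ x, x ∉ D ∧ (t⁻¹ * g * t) x = x) : ∃ x, x ∉ D ∧ g x = x := by
  obtain ⟨x, hx, hfix⟩ := h
  refine ⟨t x, fun hmem => hx ((mem_of_presv ht x).mp hmem), ?_⟩
  have h1 := congrArg t hfix
  rw [Equiv.Perm.mul_apply, Equiv.Perm.mul_apply, Equiv.Perm.inv_def, Equiv.apply_symm_apply] at h1
  exact h1

theorem conj_pt {g t : Equiv.Perm GolayPt} {q q' : GolayPt} (hq : t q = q') (hgq : g q' = q') :
    (t⁻¹ * g * t) q = q := by
  rw [Equiv.Perm.mul_apply, Equiv.Perm.mul_apply, hq, hgq, Equiv.Perm.inv_eq_iff_eq, hq]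

theorem conj_props {g t : Equiv.Perm GolayPt} (hg : g ∈ M24)
    (hgd : g • fsOf 340831 = fsOf 340831) (hg3 : g ^ 3 = 1) (ht : t ∈ M24)
    (htd : t • fsOf 340831 = fsOf 340831) :
    t⁻¹ * g * t ∈ M24 ∧ (t⁻¹ * g * t) • fsOf 340831 = fsOf 340831 ∧ (t⁻¹ * g * t) ^ 3 = 1 := by
  refine ⟨M24.mul_mem (M24.mul_mem (M24.inv_mem ht) hg) ht, ?_, ?_⟩
  · rw [mul_smul, mul_smul, htd, hgd, inv_smul_eq_iff, htd]
  · have e : (t⁻¹ * g * t⁻¹⁻¹) ^ 3 = t⁻¹ * g ^ 3 * t⁻¹⁻¹ := conj_pow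
    rw [inv_inv] at e
    rw [e, hg3, mul_one, inv_mul_cancel]

theorem inv_erase {g : Equiv.Perm GolayPt} {S : Finset GolayPt} (hS : ∀ x, g x ∈ S ↔ x ∈ S)
    {q : GolayPt} (hq : g q = q) : ∀ x, g x ∈ S.erase q ↔ x ∈ S.erase q := by
  intro x
  rw [Finset.mem_erase, Finset.mem_erase, hS x]
  constructor
  · rintro ⟨h1, h2⟩
    exact ⟨fun h => h1 (by rw [h, hq]), h2⟩
  · rintro ⟨h1, h2⟩
    exact ⟨fun h => h1 (g.injective (h.trans hq.symm)), h2⟩

theorem cov3' (a b : ℕ) (ha : a < 24) (hb : b < 24) (h1 : (340831 : ℕ).testBit a = true)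
    (h2 : (340831 : ℕ).testBit b = true) (a0 : a ≠ 0) (a1 : a ≠ 1) (a2 : a ≠ 2) (b0 : b ≠ 0)
    (b1 : b ≠ 1) (b2 : b ≠ 2) (hba : b ≠ a) : coversD Xs3 0 1 2 a b = true := by
  have h := cov3
  unfold cov3All at h
  rw [List.all_eq_true] at h
  have h' := h a (List.mem_range.mpr ha)
  rw [List.all_eq_true] at h'
  have h'' := h' b (List.mem_range.mpr hb)
  simpa [h1, h2, a0, a1, a2, b0, b1, b2, hba] using h''

/-- the elements fixing the first three points are in the list -/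
theorem enum3 (g : Equiv.Perm GolayPt) (hg : g ∈ M24) (hgd : g • fsOf 340831 = fsOf 340831)
    (h0 : g (ptN 0) = ptN 0) (h1 : g (ptN 1) = ptN 1) (h2 : g (ptN 2) = ptN 2) :
    ∃ k < Xs3.length, Desc g (ap (Xs3.getD k ([], []))) := by
  have hgS := mem_stabD0 hg hgd
  have i0 : idx (ptN 0) = 0 := by decide
  have i1 : idx (ptN 1) = 1 := by decide
  have i2 : idx (ptN 2) = 2 := by decide
  have hne : ∀ (a b : ℕ) (c : ℕ), ptN a ≠ ptN b → g (ptN b) = ptN c → idx (g (ptN a)) ≠ c := by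
    intro a b c hab hb h
    apply hab
    apply g.injective
    rw [hb, ← ptN_idx (g (ptN a)), h]
  have hcov : coversD Xs3 (idx (g (ptN 0))) (idx (g (ptN 1))) (idx (g (ptN 2)))
      (idx (g (ptN 3))) (idx (g (ptN 4))) = true := by
    rw [h0, h1, h2, i0, i1, i2]
    apply cov3' _ _ (idx_lt _) (idx_lt _)
    · rw [bitD hgS]
      decide
    · rw [bitD hgS]
      decide
    · exact hne 3 0 0 (by decide) h0
    · exact hne 3 1 1 (by decide) h1
    · exact hne 3 2 2 (by decide) h2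
    · exact hne 4 0 0 (by decide) h0
    · exact hne 4 1 1 (by decide) h1
    · exact hne 4 2 2 (by decide) h2
    · intro h
      have e : g (ptN 4) = g (ptN 3) := by
        rw [← ptN_idx (g (ptN 4)), h, ptN_idx]
      exact absurd (g.injective e) (by decide)
  obtain ⟨k, hk, -, hd⟩ := enumD Xs3_ok (fun _ => true) (fun _ => True)
    (fun _ _ _ _ => ⟨fun _ => rfl, fun _ => trivial⟩) g hg hgd trivial hcov
  exact ⟨k, ((mem_selD _ _ _).mp hk).1, hd⟩

/-- an element of order dividing 3 fixing the first three points fixes a point outside -/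
theorem fix3 (g : Equiv.Perm GolayPt) (hg : g ∈ M24) (hgd : g • fsOf 340831 = fsOf 340831)
    (h0 : g (ptN 0) = ptN 0) (h1 : g (ptN 1) = ptN 1) (h2 : g (ptN 2) = ptN 2)
    (h3 : g ^ 3 = 1) : ∃ x, x ∉ fsOf 340831 ∧ g x = x := by
  obtain ⟨k, hk, hd⟩ := enum3 g hg hgd h0 h1 h2
  have hc := chk3_ok
  unfold chk3 at hc
  rw [List.all_eq_true] at hc
  have hX := hc (Xs3.getD k ([], []))
    (by rw [List.getD_eq_getElem _ _ hk]; exact List.getElem_mem hk)
  have h3' : g * g * g = 1 := by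
    rw [pow_succ, pow_succ, pow_one] at h3
    exact h3
  have hA : ((List.range 24).all fun j => ap (Xs3.getD k ([], []))
      (ap (Xs3.getD k ([], [])) (ap (Xs3.getD k ([], [])) j)) == j) = true := by
    rw [List.all_eq_true]
    intro j hj
    rw [List.mem_range] at hj
    rw [beq_iff_eq]
    have e := congrArg (fun h : Equiv.Perm GolayPt => h (ptN j)) h3'
    simp only [Equiv.Perm.mul_apply, Equiv.Perm.one_apply] at e
    have b1 := hd.2 j hj
    have b2 := hd.2 _ b1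
    have b3 := hd.2 _ b2
    rw [hd.1 j hj, hd.1 _ b1, hd.1 _ b2] at e
    exact ptN_inj b3 hj e
  rw [hA] at hX
  simp only [Bool.not_true, Bool.false_or] at hX
  rw [List.any_eq_true] at hX
  obtain ⟨j, hj, hjb⟩ := hX
  rw [List.mem_range] at hj
  rw [Bool.and_eq_true, Bool.not_eq_true', beq_iff_eq] at hjb
  refine ⟨ptN j, ?_, ?_⟩
  · rw [mem_fsOf, idx_ptN' j hj, hjb.1]
    exact Bool.false_ne_true
  · rw [hd.1 j hj, hjb.2]

theorem bit1 : ∀ z : Fin 24, (340831 : ℕ).testBit z.val = true → z.val ≠ 0 →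
    (340830 : ℕ).testBit z.val = true := by decide

theorem bit2 : ∀ z : Fin 24, (340831 : ℕ).testBit z.val = true → z.val ≠ 0 → z.val ≠ 1 →
    (340828 : ℕ).testBit z.val = true := by decide

/-- elements of order dividing 3 in the stabilizer of the first point -/
theorem order3 (g : Equiv.Perm GolayPt) (hg : g ∈ M24) (hgd : g • fsOf 340831 = fsOf 340831)
    (h0 : g (ptN 0) = ptN 0) (h3 : g ^ 3 = 1) : ∃ x, x ∉ fsOf 340831 ∧ g x = x := by
  have m0 : ptN 0 ∈ fsOf 340831 := by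
    rw [mem_fsOf]
    decide
  have m1 : ptN 1 ∈ fsOf 340831 := by
    rw [mem_fsOf]
    decide
  have c12 : (fsOf 340831).card = 12 := root_dodecad.2
  -- a second fixed point
  obtain ⟨b, hb, hgb⟩ := exists_fixed g 3 (by norm_num) h3 ((fsOf 340831).erase (ptN 0))
    (inv_erase (mem_of_presv hgd) h0)
    (by rw [Finset.card_erase_of_mem m0, c12]; norm_num)
  rw [Finset.mem_erase] at hb
  have hbz : idx b ≠ 0 := by
    intro h
    apply hb.1
    rw [← ptN_idx b, h]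
  have hbb : (340830 : ℕ).testBit (idx b) = true :=
    bit1 ⟨idx b, idx_lt b⟩ ((mem_fsOf _ _).mp hb.2) hbz
  obtain ⟨t, ht, htb⟩ := lvA2.2.2.2 (idx b) (idx_lt b) hbb
  rw [ptN_idx] at htb
  have ht0 : t (ptN 0) = ptN 0 := (Cfsg.Agent.Lib_lead_SimpleM.fix1 t).mp ht.2.2
  obtain ⟨p1, p2, p3⟩ := conj_props hg hgd h3 ht.1 ht.2.1
  have q0 : (t⁻¹ * g * t) (ptN 0) = ptN 0 := conj_pt ht0 h0
  have q1 : (t⁻¹ * g * t) (ptN 1) = ptN 1 := conj_pt htb hgb
  apply conj_fix ht.2.1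
  -- a third fixed point
  have m1' : ptN 1 ∈ (fsOf 340831).erase (ptN 0) :=
    Finset.mem_erase.mpr ⟨by decide, m1⟩
  obtain ⟨c, hc, hgc⟩ := exists_fixed (t⁻¹ * g * t) 3 (by norm_num) p3
    (((fsOf 340831).erase (ptN 0)).erase (ptN 1))
    (inv_erase (inv_erase (mem_of_presv p2) q0) q1)
    (by rw [Finset.card_erase_of_mem m1', Finset.card_erase_of_mem m0, c12]; norm_num)
  rw [Finset.mem_erase, Finset.mem_erase] at hc
  have hcz : idx c ≠ 0 := by
    intro h
    apply hc.2.1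
    rw [← ptN_idx c, h]
  have hcz1 : idx c ≠ 1 := by
    intro h
    apply hc.1
    rw [← ptN_idx c, h]
  have hcb : (340828 : ℕ).testBit (idx c) = true :=
    bit2 ⟨idx c, idx_lt c⟩ ((mem_fsOf _ _).mp hc.2.2) hcz hcz1
  obtain ⟨s, hs, hsc⟩ := lvA3.2.2.2 (idx c) (idx_lt c) hcb
  rw [ptN_idx] at hsc
  have hs0 : s (ptN 0) = ptN 0 := hs.2.2 0 (by norm_num) (by decide)
  have hs1 : s (ptN 1) = ptN 1 := hs.2.2 1 (by norm_num) (by decide)
  obtain ⟨r1, r2, r3⟩ := conj_props p1 p2 p3 hs.1 hs.2.1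
  apply conj_fix hs.2.1
  exact fix3 _ r1 r2 (conj_pt hs0 q0) (conj_pt hs1 q1) (conj_pt hsc hgc) r3

/-- every element of prime order fixes a point outside the dodecad of squares -/
theorem main (g : Equiv.Perm GolayPt) (hg : g ∈ Cfsg.Spor.M11) (hord : (orderOf g).Prime) :
    ∃ x : GolayPt, x ∉ Cfsg.Spor.squareDodecad ∧ g x = x := by
  obtain ⟨hgM, hgd, hg0⟩ := (Cfsg.Agent.Lib_lead_M11Conj.mem_M11 g).mp hg
  rw [Cfsg.Agent.Lib_lead_M11Conj.sq_eq] at hgd ⊢
  have e0 : (some 0 : GolayPt) = ptN 0 := by decide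
  rw [e0] at hg0
  have m0 : ptN 0 ∈ fsOf 340831 := by
    rw [mem_fsOf]
    decide
  have hmem : g ∈ stabD 340831 1 := ⟨hgM, hgd, (Cfsg.Agent.Lib_lead_SimpleM.fix1 g).mpr hg0⟩
  have hcard : Nat.card ↥(stabD 340831 1) = 7920 := by
    rw [← Cfsg.Agent.Lib_lead_SimpleM.HDp_base]
    exact Cfsg.Agent.Lib_lead_SimpleM.card_HDp _ root_dodecad _ m0
  have hdvd : orderOf g ∣ 7920 := by
    rw [← hcard]
    have h := orderOf_dvd_natCard (⟨g, hmem⟩ : ↥(stabD 340831 1))
    rwa [Subgroup.orderOf_mk] at h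
  have hpow : g ^ orderOf g = 1 := pow_orderOf_eq_one g
  have hp4 : orderOf g = 2 ∨ orderOf g = 3 ∨ orderOf g = 5 ∨ orderOf g = 11 := by
    have h7920 : (7920 : ℕ) = 2 ^ 4 * 3 ^ 2 * 5 * 11 := by norm_num
    rw [h7920] at hdvd
    rcases (Nat.Prime.dvd_mul hord).mp hdvd with h | h
    · rcases (Nat.Prime.dvd_mul hord).mp h with h | h
      · rcases (Nat.Prime.dvd_mul hord).mp h with h | h
        · left
          exact (Nat.prime_dvd_prime_iff_eq hord Nat.prime_two).mp (hord.dvd_of_dvd_pow h)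
        · right; left
          exact (Nat.prime_dvd_prime_iff_eq hord Nat.prime_three).mp (hord.dvd_of_dvd_pow h)
      · right; right; left
        exact (Nat.prime_dvd_prime_iff_eq hord Nat.prime_five).mp h
    · right; right; right
      exact (Nat.prime_dvd_prime_iff_eq hord (by norm_num)).mp h
  have hc12 : (Finset.univ \ fsOf 340831 : Finset GolayPt).card = 12 := by
    rw [Finset.card_sdiff_of_subset (Finset.subset_univ _), Finset.card_univ,
      Cfsg.Agent.Lib_lead_Leech.card_golayPt, root_dodecad.2]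
  have hinv : ∀ x, g x ∈ (Finset.univ \ fsOf 340831 : Finset GolayPt)
      ↔ x ∈ (Finset.univ \ fsOf 340831 : Finset GolayPt) := by
    intro x
    rw [Finset.mem_sdiff, Finset.mem_sdiff, mem_of_presv hgd x]
    simp
  rcases hp4 with h | h | h | h
  · -- involutions
    rw [h] at hpow
    have hx2 : g * g = 1 := by rwa [pow_two] at hpow
    have hx1 : g ≠ 1 := by
      rintro rfl
      rw [orderOf_one] at h
      norm_num at h
    obtain ⟨σ, hσ, hσd, -, hconj⟩ := Cfsg.Agent.Lib_lead_M11Cent.exists_std (fsOf 340831)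
      root_dodecad (ptN 0) m0 g hgM hgd hg0 hx2 hx1
    apply conj_fix hσd
    refine ⟨ptN 7, ?_, ?_⟩
    · rw [mem_fsOf]
      decide
    · rw [hconj, P_apply Cfsg.Agent.Lib_lead_M11CentData.x0_ok 7 (by norm_num)]
      decide
  · rw [h] at hpow
    exact order3 g hgM hgd hg0 hpow
  · rw [h] at hpow
    obtain ⟨x, hx, hgx⟩ := exists_fixed g 5 (by norm_num) hpow _ hinv
      (by rw [hc12]; norm_num)
    exact ⟨x, (Finset.mem_sdiff.mp hx).2, hgx⟩
  · rw [h] at hpow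
    obtain ⟨x, hx, hgx⟩ := exists_fixed g 11 (by norm_num) hpow _ hinv
      (by rw [hc12]; norm_num)
    exact ⟨x, (Finset.mem_sdiff.mp hx).2, hgx⟩

end Cfsg.Agent.Lib_lead_M11Elusive
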