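import Mathlib
import Cfsg.Prelude.Def_SporadicCombinatorics
import Cfsg.Agent.Lib_lead_ObjOrb4

/-! Orbit certificate: stabilizer of a pair of complementary dodecads on sextets. Generators of the stabilizer of the base family, and every member
of the other family as the image of one of the orbit representatives under a word in them. -/

set_option autoImplicit false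

namespace Cfsg.Agent.Lib_lead_MixDdSext

open Cfsg Cfsg.Agent.Lib_lead_Golay Cfsg.Agent.Lib_lead_GolayPerm Cfsg.Agent.Lib_lead_M24
  Cfsg.Agent.Lib_lead_M24Chain Cfsg.Agent.Lib_lead_M24Orb Cfsg.Agent.Lib_lead_ObjOrb
  Cfsg.Agent.Lib_lead_ObjOrb3 Cfsg.Agent.Lib_lead_ObjOrb4
open scoped Pointwise

/-- the base family -/
def baseT : List ℕ := [340831, 16436384]

/-- generators of the stabilizer of the base family -/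
def gensT : List (List ℕ × List ℕ) :=
  [([15, 22, 14, 21, 19, 8, 7, 18, 5, 20, 6, 13, 23, 11, 4, 12, 17, 16, 10, 2, 9, 1, 3, 0], [23, 21, 19, 22, 14, 8, 10, 6, 5, 20, 18, 13, 15, 11, 2, 0, 17, 16, 7, 4, 9, 3, 1, 12]),
   ([23, 21, 19, 22, 14, 8, 10, 6, 5, 20, 18, 13, 15, 11, 2, 0, 17, 16, 7, 4, 9, 3, 1, 12], [15, 22, 14, 21, 19, 8, 7, 18, 5, 20, 6, 13, 23, 11, 4, 12, 17, 16, 10, 2, 9, 1, 3, 0]),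
   ([6, 0, 9, 4, 12, 11, 3, 23, 13, 18, 17, 20, 1, 2, 21, 22, 8, 14, 16, 5, 7, 15, 10, 19], [1, 12, 13, 6, 3, 19, 0, 20, 16, 2, 22, 5, 4, 8, 17, 21, 18, 10, 9, 23, 11, 14, 15, 7]),
   ([1, 12, 13, 6, 3, 19, 0, 20, 16, 2, 22, 5, 4, 8, 17, 21, 18, 10, 9, 23, 11, 14, 15, 7], [6, 0, 9, 4, 12, 11, 3, 23, 13, 18, 17, 20, 1, 2, 21, 22, 8, 14, 16, 5, 7, 15, 10, 19])]

/-- orbit representatives -/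
def rootsT : List (List ℕ) :=
  [[131184, 311297, 591360, 2111488, 4194438, 9437448],
   [269, 262368, 622594, 1182720, 4222976, 10486288],
   [101, 45058, 262536, 3277312, 4800512, 8391696]]

/-- orbit sizes -/
def sizeT (c : ℕ) : ℕ := ([396, 495, 880] : List ℕ).getD c 0

set_option maxRecDepth 1000000 in
/-- class and word of every member, sorted by key -/
def tabT : List (ℕ × List ℕ) :=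
  [(0, [0,3,3,0,0,3]), (2, [1,2,1,2,2,2]), (0, [0,3,1,2,0,0]), (0, [3,1,3,0,0]), (2, [2,2,1,3,3]), (0, [1,3,1,3,3,1]),
   (1, [3,1,3,1,2,0]), (1, [2,2,0,3,1,3]), (2, [3,1,2,0]), (2, [1,2,2,0,0,3,0]), (0, [0,2,2,2,1,2]), (2, [0,3,0,3,1]),
   (2, [0,3,0,2,1]), (2, [2,0,3]), (2, [0,2,0,0,2,2,0]), (1, [1,3,0,0,3,0]), (0, [3,3,1,2,2]), (0, [0,3,3,0,3]),
   (1, [1,2,0,3,3,1]), (1, [0,2,2,2,1,2,0,0]), (0, [1,3,1,3,0,3]), (2, [0,2,2,2,0,2]), (0, [0,0,3,1]), (2, [3,1,2,0,0,2,0]),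
   (2, [2,2,1,2,0,0]), (2, [0,3,0]), (0, [0,3,1,2,0,3,3]), (2, [0,2,0,3,1,3,1]), (2, [2,1,2,0,2]), (0, [2,1,2,2,0,3,1]),
   (1, [0,0,2,2,0,2,0]), (2, [1,2,1,2,0,2,2,2]), (2, [2,0,0,2]), (1, [3,0,2,2,2]), (2, [0,0,2,0,3,0,3]), (2, [0,2,0,0,3]),
   (0, [0,3,3,0,0,2]), (2, [3,0,0,3,0,2]), (1, [0,3,0,3,1]), (1, [0,3,1,3,3,0]), (1, [0,2,1,2,0]), (2, [0,2,2,0,2,2,1]),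
   (2, [0,2,1,2,0,2,0]), (2, [3,0,2,0,2,1]), (2, [0,0,3,0,0,2,2,2]), (2, [3,0,0,3,0]), (1, [0,2,2,2,1,2,0]), (0, [1,3,0,3,0,0]),
   (0, [0,0,3]), (2, [0,3,1,2,1,3,0,3]), (1, [0,0,2,0,3,3,0]), (1, [3,1,3,0,2,1]), (0, [3,1,3,0,0,2]), (2, [1,3,3,0,3,0,0]),
   (2, [1,3,0,0,2,2,2,1]), (0, [3,0,0,2,2]), (0, [3,3,0,0]), (0, [3,3,0,0,2]), (1, [2,1,2,2]), (0, [0,2,1,3,0]),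
   (2, [0,3,3,0,3,3,0,2]), (2, [0,2,0,3,3]), (2, [2,2,1,2,1,3,0,0]), (0, [0,2,0,0,2]), (0, [1,2,2,1,3]), (2, [0,3,0,2,0,0,3]),
   (1, [3,0,2,2,1]), (2, [1,3,3,0,2,1,3,3]), (2, [1,3,3,1,3,0,0]), (2, [3,0,2,2,0,0]), (0, [0,0,2,1,2,2,0]), (0, [1,2,0,2]),
   (0, [1,2,2,0,3,1,2]), (0, [2,0,2]), (1, [1,2,1,2,1]), (2, [0,3,0,2,2,2,1,2]), (2, [0,2,1,2,1,3,3]), (2, [0,2,0,2,2,1,3,3]),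
   (1, [2,0,0,2,1]), (2, [1,3,3,1,3,0]), (2, [0,2,0,3,1,3,3]), (0, [2,1,3,0,3]), (0, [3,0,3,0]), (1, [0,2,2,1]),
   (2, [1,3,3,0,2,1,2]), (1, [0,0,2,2,0,0]), (0, [3,3,0]), (1, [2,0,3,0,3,0]), (2, [0,2,0,2,2,2]), (2, [0,3,0,0,2,0,3]),
   (0, [2,0,3,3,0,0]), (2, [1,2,1,3,3]), (2, [1,3,3,0,3,3]), (0, [2,0,2,0]), (0, [1,2,2,1,3,0]), (1, [2]),
   (1, [0,2,2,0,2]), (2, [0,2,0,3,3,1,3]), (1, [2,0,0]), (2, [2,1,3]), (1, [1,2,1,2]), (0, [0,3,1,3,0]),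
   (2, [0,3,1,3,3,0,2,2]), (0, [2,1,2,2]), (2, [0,3,0,2,2,2,0]), (1, [2,2,0,2,2]), (2, [0,0,2,1,2,0,0,3]), (0, [0,3,3,0]),
   (2, [1,3,3,0]), (2, [1,2,1,2,0]), (0, [0,0,2,0,2,1]), (2, [1,2,1,3]), (1, [2,0,2,1,3,0]), (1, [1,2,0,0,3]),
   (2, [1,3,0,3,3,0]), (1, [2,0]), (2, [2,0,2,1,2]), (2, [1,3,1,3,1,3]), (0, [3,0,3,1]), (2, [0,2,2,2]),
   (0, [3,3,1]), (0, [2,1,2,2,1]), (2, [0,2,2,0,3]), (2, [2,1,2,2,1]), (0, [0,3,0,0,3,0]), (0, [0,3,3,0,3,3,1]),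
   (1, [2,2,1,2,0,3]), (0, [0,3,3,0,3,1]), (2, [3,0,2,2,1,2,1]), (2, [1,2,0,3,0,0,2,2,0]), (2, [0,0,2,0,2,2]), (2, [0,2,0,2,0,2,0]),
   (1, [2,0,0,3,0,3]), (0, [0,2,1,2,0,2,1]), (0, [2,2,1,2,0,2]), (2, [0,3,1,2,0,3,0]), (0, [3,3,0,3,3]), (0, [2,2,1,2,2]),
   (0, [3,0,3,3,0]), (2, [0,2,1,2,1,3,1]), (1, [0,2,2,2]), (1, [3,1,2,0,3]), (2, [1,2,0,3,0,0,3]), (0, [2,0,2,2]),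
   (0, [0,2,2,2,1]), (2, [1,2,1,3,3,0,0]), (1, [2,1,2,1,2]), (2, [2,1,3,1,2]), (2, [2,2,1,3,1]), (0, [1,2,2,2,0,0,2]),
   (1, [2,0,3,3,1]), (0, [0,2,0,2,2,0]), (0, [3,0,3,0,2,0]), (2, [1,3,1,3,3]), (0, [2,2,1,2,0]), (1, [2,0,3,0,3]),
   (2, [1,2,1,2,2,1,2]), (2, [3,0,2,2,1,2]), (1, [0,0,3,0,2,0]), (2, [3,0,3,3,1,3,0]), (1, [0,3,3,0,2,0,0]), (1, [3,0]),
   (2, [3,3]), (1, [3,0,0,3,0,2]), (2, [1,3,0,0,2,2]), (0, [3,3,0,3,1,3]), (1, [0]), (1, [1,2,0,3,1]),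
   (1, [1,3,0,2,1,2,0]), (2, [0,2,1,3,0,0,3]), (0, [2,1,3,0]), (2, [3,1,3,0,3,3,0]), (2, [3,1,2,2,0]), (0, [0,2,2,0]),
   (2, [3,0,2,0,2]), (2, [0,3,0,0,2]), (1, [3,0,0]), (0, [0,3,1,3,1]), (0, [2,1,3,0,0,2]), (2, [3,0,3,3,0,0,2]),
   (2, [1,2,0,3,0]), (2, [1,2,2,0,0]), (0, [2,1,3,3,0,2]), (0, [1,2,1,3]), (2, [2,2,0,2,1]), (0, [2,1,3]),
   (2, [0,2,1,3,3,1,2]), (2, [1,3,0,3,3]), (0, [0,2]), (2, [1,3,0,2,0,0,2]), (2, [1,3,1]), (2, [2,1,2,2,0,0,2]),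
   (0, [0,0,3,0]), (0, [3,3,0,3,0]), (2, [2,1,2,1,2,1]), (2, [0,2,0,0,3,1,3]), (0, [2,0,3,3,1,2]), (2, [2,2,1,2,2]),
   (0, [0,2,2,1,2,0,0]), (2, [1,3,0,3,1,3]), (0, [0,3,0,0,3,1,3]), (0, [2,0,3,3,1]), (2, [2]), (0, [0]),
   (0, [0,2,0,2,2,2]), (2, [2,0,0,3,1]), (2, [0,2,2,1,2,0]), (1, [0,2,2,2,0]), (2, [3,1,2,0,0,2]), (1, [3,1,2,0,3,0]),
   (0, [0,0,3,0,2]), (2, [2,0,2,1,3]), (0, [1,2,1,2]), (0, [0,2,0,0,2,1]), (2, [2,1,2,2]), (2, [1,3,3,0,0,3]),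
   (0, [3,0,2,2,1,3]), (0, [1,2,2,0,2,2]), (2, [2,0,0,3,3,0]), (1, [1,2,0,3,1,2]), (2, [3,1,2,2,0,3,3]), (2, [1,3,0,3,0,3]),
   (1, [1,3,1,3,1,2]), (2, [1,2,0,3,0,0]), (2, [0,3,1,2,1,3]), (2, [0,0,2,1,3,3,0]), (2, [0,0,2,1,3,3,1]), (0, [0,0,2,1,3,1]),
   (2, [3,0,0,3,0,2,2]), (0, [0,3,1,3,1,2]), (2, [0,0,2,0,3,3,0]), (2, [0,3,0,0,3,0,0]), (0, [2,2,1,2,2,0]), (0, [0,2,1,2]),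
   (2, [3,1,3,1]), (2, [3,0,2,2,0,3]), (0, [1]), (2, [0,2,2,0,2,2,2]), (0, [1,3,3,1]), (2, [0,3,1,2,0,0]),
   (0, [0,0,2,0,0]), (2, [1,2,2,0,2,0,0]), (0, [0,3,1,2,1,2]), (2, [0,0,2,1,2]), (2, [2,2,1,3,1,3,0]), (2, [1,2,2,0,3,0]),
   (0, [0,3,0,0,3,1]), (2, [2,0,2,1,2,2,0]), (2, [0,2,1,2,1,3,0]), (1, [0,2,0,2,1,2]), (2, [3,1,3,3]), (1, [3,3,0]),
   (1, [0,3,3,0,2,1]), (2, [1,2,1,2,2,0]), (1, [0,2,2,2,0,2]), (0, [0,2,2,0,2,1,3]), (1, [2,0,0,3,0]), (2, [0,3,0,3,1,3,3]),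
   (2, [0,3,0,2,2,0,3]), (2, [2,1,2,0,0,2,1]), (0, [1,3,0,0]), (2, [3,3,0,2,2,1]), (1, [1,2,0,3,0,0]), (0, [3,1,2,2,0]),
   (1, [1,3,0,2,0,0]), (2, [1,2,2,0,2]), (2, [2,1,3,0,2,1]), (2, [1,3,0,3,1,2,0,2]), (0, [1,3,3,1,2]), (2, [1,2,2,0]),
   (2, [3,0,0]), (0, [0,2,0,0,3,0]), (2, [2,2,0,2,0]), (0, [0,2,2,2,1,3]), (2, [1,2,2,2,1,3,1]), (2, [3,1,2,0,3]),
   (2, [3,1,2,1,2]), (2, [2,2,1,2,1,3,0]), (1, [3,1,3,1,2]), (1, [1,2,0,3,0,3]), (2, [2,2,1,2,1,2]), (2, [3,1,3]),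
   (0, [3,0,3,0,0,3,0]), (0, [2,2,1,2]), (2, [1,3,0,3,3,0,0]), (1, [0,0,2,2,1,3,0]), (2, [2,0,0,3,0,2]), (2, [0,2,1,2,1,2,2]),
   (2, [1,3,3,1,2,1]), (1, [2,2,1,3,3]), (0, [0,3,3]), (2, [1,3,0,0,2]), (2, [3,1,2,0,3,0,3]), (2, [2,1,2,2,0]),
   (0, [0,2,1,2,0,3]), (0, [3,3,0,0,3,3]), (0, [3,0,2,1,3]), (0, [2,2,0,2,0,0]), (2, [0,0,3,0,3]), (2, [3,0,0,2,1,3]),
   (0, [2,0,2,0,2]), (2, [0,3,3,0,2,2,2,0]), (2, [1,2,2]), (0, [1,2,2,2,1]), (0, [1,2,2,1]), (2, [0,2,2,1,3,0,0,2]),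
   (2, [2,2,2,0,2]), (2, [0,3,0,0,3,1,2]), (1, [3,0,0,2,0]), (0, [3,1,2,2,2]), (1, [1,3,0,2]), (0, [2,2,1,2,1,3]),
   (2, [2,1,3,0,0,2]), (2, [2,0,0,2,1]), (2, [3,0,0,2,1]), (2, [3,1,3,0,3,1,2,0]), (0, [3,0,2]), (2, [3,1,2,0,0,2,2]),
   (1, [0,0]), (2, [1,3,1,2,1,2,2]), (2, [3,1,2,2,2]), (2, [2,1,2,2,0,2]), (0, [1,3]), (0, [0,0,3,0,0]),
   (1, [3,1,3,1,3]), (2, [0,3,3,0,2,2]), (2, [3,0,2,2,0,3,0,2]), (0, [1,2,2,0,2,1,3]), (0, [1,2,2,2,1,2]), (2, [0,2,2,1,3]),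
   (0, [0,2,2,0,0,2]), (2, [0,3,1,2,2,0]), (2, [2,1,2,0]), (2, [0,3,0,3]), (2, [1,2,1,3,0,2]), (2, [3,0,0,2,0]),
   (2, [0,2,2,2,1,3,0]), (2, [1,3,0,3,1,2]), (2, [3,0,0,2,0,0]), (1, [0,2,1,2,1,3,3]), (2, [1,3,0,2,1,2,0]), (2, [3,1,3,0,0]),
   (0, [2,1,2]), (2, [3,0,3,3,0,0]), (1, [2,1,2,0]), (0, [1,2,2,2,0,2,1]), (0, [3,0,2,2,1]), (1, [1,2,0,2,2,0]),
   (0, [0,2,2,0,2,1]), (2, [2,2,0]), (2, [3,1,2,0,3,0]), (2, [0,3,0,2,2,2,0,3]), (2, [2,0,2,0,3]), (1, [2,0,2,0,3]),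
   (0, [0,0,2,2,0,0,3]), (2, [0,0,2,0,3,0,0]), (1, [2,1]), (2, [2,1,2,0,3]), (0, [0,0,2,2,2]), (2, [3,1,3,3,0,2]),
   (1, [2,2,1,3,0]), (1, [2,2,2,0,2]), (2, [3,0,0,2,1,3,1]), (1, [1,2,0,2,1,3,0]), (1, [1,2,1,2,0]), (2, [2,2,1,2,1,2,2]),
   (1, [0,2,2,1,3,3]), (1, [0,0,3]), (2, [0,2,2,0,3,0]), (2, [0,2,0,2,2]), (0, [2,2]), (2, [1,3,3,0,3,0,2]),
   (2, [3,3,0,2,1,3]), (1, [0,2,0,0,3,0,3]), (1, [0,0,2,2,0]), (0, [0,3,1,2,1]), (2, [0,0,2,0,0,2]), (0, [3,1,3,3,0]),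
   (2, [1,3,1,2,0,0]), (1, [2,2,0,2,0,3]), (2, [1,2,0,3,1,3,1]), (0, [2,2,0,2]), (1, [2,2,0,2,0]), (0, [2,0,3,3,0,2]),
   (1, [3,0,2,1,3]), (0, [2,1,3,3]), (2, [0,3,1,2,2,2,0,0]), (2, [3,3,0,2,2,0]), (0, [2,0,2,2,0,0,3]), (1, [0,0,3,3]),
   (0, [0,0,2,0,0,3]), (1, [0,3,1,2,1]), (2, [2,1,3,0]), (2, [1,3,0,3,0,2]), (1, [0,0,3,3,0,0]), (2, [1,3,0,0,3,0,2]),
   (2, [0,0,3,1,2]), (0, [2,2,1,3,1]), (2, [0,3,0,2,0,0,3,0]), (2, [0,0,2,2,2,0,2,1]), (0, [0,3,1,3]), (2, [0,3,0,2,2,0,3,0]),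
   (2, [0,0,2,1,3,0,0]), (1, [3,0,2,0]), (2, [2,2,2,1]), (2, [1,2,0,0,3]), (1, [3,1,3,1]), (2, [1,3,0,0,2,2,2]),
   (2, [0,2,0,0,2,2,2]), (0, [1,2,2,2,1,2,0]), (2, [1,3,0,0,2,2,2,0]), (2, [1,2,2,2,0,3,3,1]), (0, [0,2,2,2]), (0, [0,0,2,2,2,0]),
   (1, [1,2,1,3,3,0]), (1, [0,3,3,1]), (1, [2,0,3,0,0]), (1, [3,3]), (0, [0,0,2,1,2,0]), (0, [2,1,2,2,0,3]),
   (0, [2,2,0]), (2, [1,2,1,2,0,2,2]), (0, [1,3,0,2]), (1, [1,2,0,2,1,3]), (2, [1,2,2,2,0]), (0, [0,2,2,1,2,1]),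
   (1, [0,0,2,2,1,2,2]), (2, [0,2,1,3,0,0,2]), (1, [3,1,2,0,0,2]), (1, [0,2,0,2,1,3,3]), (0, [1,3,1,3,3]), (0, [2,0,3,3]),
   (1, [2,2,1,3,1]), (2, [1,2,2,0,2,0]), (1, [2,0,3,0,2]), (2, [1,2,1,2,1]), (2, [3,1,2,0,3,1,2]), (0, [0,2,0,0]),
   (0, [3,3,0,3,0,2]), (2, [3,1,3,0,3,0]), (2, [0,2,1]), (2, [0,0,2,2,2,0,2,0,0]), (2, [0,2,2,0,3,3,0,3]), (2, [3,0,2,1]),
   (2, [1,3,3,0,3,3,1,3]), (2, [1,3,0,2,1,3]), (0, [2,1,3,3,0]), (2, [2,1,3,0,0,3,1,2]), (0, [0,2,2,0,2]), (1, [3,1,3]),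
   (1, [3,3,0,3,0]), (2, [3,3,1,3,1,3]), (1, [3,0,2,1]), (0, [1,2,0,0]), (2, [3,0,2,0,0]), (1, [0,0,2,0,0]),
   (2, [0,3,1,2,2,0,2]), (1, [2,1,2,0,2,1]), (0, [1,2,1,2,2]), (1, [1,3,0,0]), (0, [3,3,0,2]), (2, [2,1,3,0,0,3,0,2]),
   (1, [3,1,2,0,3,3]), (2, [0,2,0,2,2,1,2,1]), (0, [1,3,0,3]), (2, [3,0,2,2,2]), (1, [2,1,3]), (0, [1,2,1,3,0,3,1]),
   (2, [2,2,0,0,2,0,3]), (2, [2,1,2,2,0,2,0]), (2, [1,2,1,3,0,2,2,2]), (2, [0,2,0,0,3,1,3,0]), (0, [1,2,2,0,2,1]), (1, [1,2,0,2,2]),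
   (0, [2,2,1,3,0,0]), (1, [0,2,0,2,0,2,2]), (2, [1,2,2,0,3,0,3]), (2, [0,3,3,0,3,0]), (2, [1,3,3,0,3,3,1]), (0, [0,3,1,2]),
   (0, [0,3,3,0,3,0]), (0, [0,0,3,1,3,0]), (1, [3,1,3,3]), (0, [3,0,3,3]), (0, [2,2,2,1]), (2, [2,0]),
   (2, [1,3,3,1,2]), (2, [2,1,2,2,1,3,3]), (0, [0,0,2,1,3,0]), (1, [0,2,2,2,0,3]), (1, [0,0,2,0,0,2]), (1, [3,3,1]),
   (1, [0,0,2,0,2,0]), (2, [0,0,3,0,2]), (0, [3,0,3,0,0]), (1, [1,2,0,3]), (0, [0,2,1,2,0]), (0, [3,3,0,3,3,1]),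
   (0, [0,0,2,2]), (1, [0,2,1,2,0,2,1]), (0, [0,2,2,1,2,0]), (0, [2,2,1,2,2,2]), (2, [1,3,0,3,0,0]), (2, [2,0,0,3,0,2,2]),
   (0, [2,1,3,1,2]), (2, [1,2,2,0,2,0,3]), (1, [2,0,3,3]), (2, [1,3,0,0,3,0,2,1]), (1, [2,0,3,0]), (2, [2,1,2,1,2,2]),
   (2, [1,3,0,0,2,0,3]), (1, [3,1,2,2,1]), (2, [0,2,1,2,2]), (1, [0,3,3,0,3]), (1, [0,0,2,1,2,2,2]), (2, [2,2,1,2,2,0]),
   (2, [1,2,2,0,3,0,0,2]), (0, [3,0,2,2]), (2, [1,2,1,2,2,2,0]), (2, [2,1,2]), (2, [0,0,2,1,3,3,0,2]), (2, [1,3,3,0,3,1]),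
   (0, [1,2,2,0,2]), (0, [2,0,2,2,0,0]), (1, [0,3,0,3,0,2,0]), (2, [0,2,0,3,0,0,3,1]), (2, [1,2,0,3,0,0,3,0]), (0, [0,3,0]),
   (2, [0,2,0,2,0,0,3]), (0, [3,0,3,0,0,3]), (2, [1,2,2,0,2,1]), (0, [1,2,0]), (2, [3,0,2,0,2,0]), (1, [3,3,1,2,0]),
   (1, [3,1,2,0,3,1]), (2, [2,2,2,1,2,0]), (0, [1,2,2,0,0,2]), (2, [2,1,3,0,3]), (1, [2,0,0,3,3]), (1, [0,0,3,3,1,3,1]),
   (1, [2,2,0,3,0,2]), (0, [1,3,0,3,3]), (2, [2,2,0,0,2]), (0, [1,2,1,3,0]), (0, [3,0,2,2,0,0,3]), (2, [2,0,0,2,0,0]),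
   (2, [2,2,0,2,2,1,2]), (0, [0,3,1]), (2, [2,2,1,2,2,2]), (1, [2,0,0,2,0,0]), (2, [1,2,2,2,0,2,2,1]), (0, [3,1,3,3,0,0,3]),
   (2, [1,3,3,1,3,1,3]), (2, [0,2,2,0,0,3]), (0, [0,3,1,2,1,3]), (1, [0,2,0,2,1,3]), (1, [0,3,0,3,0,0,3]), (1, [0,2,0,3,3]),
   (2, [0,3,0,0,3]), (0, [1,3,0]), (0, [0,2,2,0,0]), (1, [1,2,0]), (1, [2,2,0,0]), (1, [0,3,1,3,1]),
   (2, [1,3,3,1,3]), (1, [0,2,1,3,1]), (2, [2,1,3,0,2,0]), (2, [3]), (0, [3,1,2,1,2]), (2, [1,2,2,0,2,0,3,3]),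
   (2, [1,2,0,3,0,0,2,2]), (2, [1,3,0,3,1]), (1, [3,1,2,2,2,0]), (2, [2,2,0,0,2,0]), (2, [2,1,2,0,0,2]), (0, [0,2,0,3,3,0]),
   (0, [0,2,0,2,0]), (2, [0,2,1,2,0]), (2, [1,2,2,2,0,3,0]), (0, [2,1,2,2,0]), (0, [2,0,3]), (1, [1,3,0,2,1]),
   (1, [1,2,2,2]), (1, [0,0,3,0,2]), (0, [1,3,3,1,3,1]), (0, [1,3,1,3]), (2, [0,3,0,0,3,1,3]), (2, [1,2,1,3,3,1]),
   (1, [2,2,1,2,0,3,0]), (2, [0,0,3,3,0]), (2, [0,2,2,0,0]), (0, [0,2,0,0,3,3]), (2, [0,3,0,0,2,1,2]), (2, [1,2,1,3,0,3,3]),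
   (0, [2,1,3,1,3,1]), (0, [0,3,0,0,3]), (2, [3,1,3,0]), (2, [2,2,2,0,0]), (2, [0,3,0,3,1,3,3,1]), (0, [3,0,2,2,2,0]),
   (1, [2,2,0,3,0,0]), (2, [2,0,0,3,3,0,3]), (1, [0,3,0,3,0,3,1]), (1, [3,0,2,0,3]), (1, [3,0,2,2]), (1, [2,0,3,1,2]),
   (2, [0,0,2,1,2,0]), (2, [0,3,3,0,3]), (2, [1,2,2,2]), (2, [1,2,0,2,0]), (2, [2,2,0,2,0,3,1]), (2, [1,2,0,2]),
   (2, [3,1,2,0,3,1]), (0, [0,3,0,2]), (2, [0,2,0,2,0]), (0, [2,2,1,3,1,2]), (0, [3,0,2,2,0,0]), (0, [2,0,2,0,3,0,2]),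
   (2, [1,3,3,0,0,2]), (0, [0,0]), (2, [0,2,0,3,1]), (0, [1,3,0,2,1]), (2, [1]), (0, [2,2,0,2,2,1]),
   (2, [0,0,2,0,3,0,3,3]), (0, [0,0,2,0,3]), (2, [0,3,1,3,3,0,2]), (1, [1,2,1,2,2]), (1, [0,0,3,3,1,3,3]), (2, [2,0,0]),
   (1, [2,0,0,2,2,0,0]), (2, [0,2,0,3,0,3,0]), (2, [0,2,1,2,1,3,0,0]), (2, [0,3,0,0,2,2,2]), (0, [2,2,0,2,2]), (2, [0,2,2,0,3,3]),
   (2, [2,1,2,1]), (0, [2,1,3,0,2]), (2, [1,3,3,0,2]), (2, [3,3,1,2]), (1, [0,0,2,2,2,0]), (2, [1,3,0,2,2,0,0]),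
   (1, [2,0,3,0,0,2]), (1, [2,0,0,2,0]), (0, [3,1,3,0,0,2,2]), (1, [0,3,1]), (2, [3,3,0,0,2]), (0, [3,0,3,0,2]),
   (0, [1,2,1,2,1]), (2, [0,0,3,0,0]), (2, [2,2,1,3,0]), (2, [2,2,1,2,0]), (1, [0,3,3,0,3,3,1]), (0, [0,3,0,2,2]),
   (2, [0,3,0,2,2]), (2, [0,2,0,2,0,0,2]), (1, [2,1,3,0,3,3]), (2, [2,0,2,1,3,3]), (2, [1,3,0,2,1]), (2, [1,3,0,2,2,1]),
   (1, [0,0,2,0,3,3]), (2, [2,1,3,3]), (2, [1,3,3,0,2,1,3,1]), (0, [0,0,2,1,3,0,2]), (1, [0,0,2,1,2,2]), (1, [0,0,3,3,1,2,1]),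
   (2, [2,2,0,2,2,2]), (1, [0,2,0,0,3,0,0]), (0, [0,0,2,2,0,3,3]), (2, [1,3,0,2,0]), (0, [0,2,0,3]), (1, [2,1,3,3,0]),
   (2, [3,1,2,0,2]), (2, [1,2,2,1,3,0,2]), (1, [0,0,2,0,3]), (2, [0,3,1,3,3,0,3,3]), (2, [1,2]), (2, [1,2,0,0,2,1]),
   (1, [2,0,0,2,2,1]), (2, [2,2,0,0,2,0,0,2]), (2, [1,2,1,3,3,0]), (1, [1,2,0,0,2,1,2]), (0, [3,1,3,3]), (2, [2,1,2,0,0,2,1,2]),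
   (1, [0,2,1,3,0,2]), (0, [3,3,0,2,0,0]), (1, [2,0,2,2,1]), (2, [0,3,1,2,0,2,1]), (2, [1,3,0,2,0,0,3]), (2, [2,2,1,2,1,2,1]),
   (2, [1,3,0,3,3,1]), (1, [1,3,1,2]), (0, [3,3,0,2,1]), (0, [3,0]), (2, [0,0,2,0,2,2,2,1]), (1, [1,2,0,0,2,1]),
   (0, [0,2,0,2,2,2,0,3]), (1, [0,2,0,0,3,3]), (1, [0,3,1,3,0]), (0, [1,2,1,3,0,3]), (1, [0,2,1,2,1]), (2, [0,3,0,0,2,1,2,0]),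
   (2, [3,0,3,3,1,2]), (0, [2,2,2]), (2, [0,2,1,2,2,1]), (1, [0,0,2,2,2]), (0, [1,3,0,3,1,3]), (0, [0,2,1,3]),
   (1, [1,2,1,3,0]), (0, [2,1,3,1,2,0]), (2, [1,2,1,3,3,0,3]), (1, [2,0,0,3,0,2]), (0, [2,0,2,2,1]), (0, [3,3,0,2,2,2]),
   (2, [0,2,0,3,3,0,2]), (1, [0,2,2,1,3]), (0, [0,3,0,0,2,0]), (2, [0,2,2,1,2,1,2]), (0, [2,0,3,3,1,3,0]), (2, [2,2,0,2,2]),
   (1, [3,3,1,3]), (2, [0,3]), (2, [1,3,1,2,1,2,2,1]), (1, [0,2,2,1,3,1]), (1, [0,0,3,3,0]), (2, [1,3,0,3,1,2,1,2]),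
   (2, [0,2,0,3,3,0,0]), (2, [1,2,2,1,3]), (2, [1,3,0,0,2,1]), (0, [0,0,2,2,1]), (0, [1,2,2,2,0,2]), (2, [0,3,0,0,2,1,2,1]),
   (1, [0,0,2,1,3,1]), (2, [1,3,0,3,0,3,1]), (0, [1,3,3,1,2,2]), (2, [2,1,3,0,3,1,2]), (2, [1,2,0,0,2,0,0]), (2, [1,2,0,3,0,0,2,1]),
   (2, [0,2,2,2,0]), (2, []), (2, [3,0]), (2, [0,3,3]), (2, [0,2,1,2,2,0]), (1, [0,2,1]),
   (0, [1,3,1,3,0,3,1]), (2, [2,2,1,2,2,1]), (2, [1,2,2,2,1,2,1]), (1, [1,3,0,2,1,3]), (2, [0,2,2,1]), (2, [0,2,0,0,2,2]),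
   (2, [1,2,1,3,0,3]), (2, [0,0,2,1,3,0]), (1, [0,2,0,3]), (2, [3,3,0,2,0]), (0, [1,2,2,0,0]), (2, [0,2,1,2,2,2]),
   (0, [3,1,3,1,3]), (2, [0,2,0,2,0,0,3,1]), (2, [1,3,0,2,2,1,2]), (1, [2,1,2,1,3,1]), (2, [3,3,1]), (1, [0,2,2]),
   (2, [2,2,0,2,1,3]), (2, [0,0,2,0,2,2,2,0]), (1, [1,2,1,2,2,1]), (2, [2,2,0,3,3,1]), (0, [2,0,2,2,0]), (0, [0,0,3,3,1,3,0]),
   (2, [0,2,0,3,3,1]), (0, [1,3,3,1,3,1,3]), (1, [1,3,1,2,0,2]), (2, [1,3,0,2,0,0,3,1]), (1, [2,0,0,2]), (2, [1,2,2,2,0,0]),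
   (2, [2,2,0,3,0,2]), (1, [1,2]), (2, [2,0,2,0,3,1]), (0, [3,0,3]), (2, [3,0,3]), (1, [2,2,1,2,0,2]),
   (1, [2,2,0,3]), (2, [2,1,2,1,3,1,2]), (1, [3,3,0,0,2]), (1, [3,3,1,2,0,3]), (2, [3,1,3,0,3,1]), (1, [1,2,1,3,1]),
   (2, [0,2,0,3,0,3,1]), (1, [2,0,2,0,2,2]), (2, [0,2,2]), (2, [1,3,0,3,1,2,1]), (1, [2,2,2,1,2]), (2, [3,1,3,3,1,2,2]),
   (0, [2,0,3,3,1,3]), (1, [1,2,0,0,2,0,0]), (0, [0,2,2,0,3,0,3,0]), (2, [3,1,3,3,1,3]), (0, [1,2,2,2,0,2,0]), (2, [1,3,3,1,3,1,3,1]),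
   (2, [1,3,1,2,0,2]), (0, [0,0,3,3,1,3]), (1, [2,0,2,1,3,1]), (1, [0,0,2,2,1,2]), (1, [2,1,2,1,3,0]), (2, [2,2,0,3,1]),
   (1, [0,2,0,2,2]), (2, [1,3,0,0,3,3,0]), (0, [3,1,2]), (1, [2,2,2,0,3]), (0, [3,1,3,3,0,0,3,1]), (0, [2,2,0,2,2,0]),
   (2, [0,3,0,0,2,1]), (2, [2,1,3,3,0,3,0]), (1, [1,2,0,2]), (2, [0,0,2,0,2,2,2]), (2, [2,2,2,0,3]), (0, [0,0,2,1,3,0,0]),
   (2, [1,3,3,0,3,3,0]), (1, [2,0,2,0]), (2, [0,0,2,2,2,0,3,1]), (2, [0,2,1,3,0,2]), (1, [0,2,1,3,3,1]), (1, [0,0,3,3,1,3]),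
   (1, [0,0,3,0,3]), (2, [1,3,1,2]), (2, [0,0,3]), (2, [0,2,1,3,0,2,1]), (2, [0,0,3,1]), (0, [2,2,2,1,2]),
   (2, [0,3,1,2,2,0,3]), (2, [1,2,2,0,2,0,2]), (2, [0,0,2,2,2]), (1, [2,0,2,0,2,0,3]), (0, [1,2,2,1,3,3]), (1, [0,0,3,1,3]),
   (0, [1,3,1]), (2, [2,2,0,3,0,0]), (0, [3,0,0,3,0]), (2, [2,2,2,0,3,3]), (1, [1,3,1,3,0,0]), (0, [0,2,2,0,0,3,3]),
   (2, [2,1,2,1,3]), (2, [1,3,0,0,2,2,0]), (0, [0,0,2,2,0,0]), (1, [2,1,2,0,0]), (1, [2,1,2,1]), (1, [0,3]),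
   (2, [2,1,3,0,2]), (2, [0,0,3,0]), (0, [3,0,0,3]), (2, [2,2,2,1,3]), (2, [2,2,0,2,1,2]), (1, [0,0,3,0,2,0,0,3]),
   (2, [2,0,3,1]), (1, [3,0,0,2,0,3]), (2, [0,0]), (2, [1,3,1,2,2,2]), (2, [0,3,0,0]), (1, [3,1,2,0]),
   (2, [0,2,1,3,0]), (0, [3,0,2,1]), (0, [1,2,1,3,0,2]), (1, [3,3,1,3,0,0]), (1, [2,0,2,0,3,0]), (2, [0,3,0,2,1,2,1]),
   (1, [0,0,2,2,0,3,1]), (2, [1,2,2,2,0,3]), (0, [0,3,3,1]), (2, [3,0,2]), (2, [2,2,0,3,0,0,3,0]), (2, [0,3,1,2,2]),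
   (2, [3,1,2,0,2,1]), (1, [2,0,2,1,3,0,0]), (1, [3,0,3]), (1, [3,1,3,0,2]), (1, [0,2,2,1,2]), (0, [0,3,3,0,0]),
   (0, [2,0,0,2,0]), (2, [1,2,0,0,2,0]), (2, [1,2,0,3,1,2,2]), (2, [3,1,2,0,3,0,2]), (2, [2,2,2,1,3,1,2]), (2, [0,2,0,0,3,1]),
   (2, [3,1,3,3,1]), (1, [0,0,2,0,2,0,3]), (1, [0,3,1,2]), (2, [0,0,2,1,3,3]), (2, [2,0,2,0,2]), (2, [0,2,0,2,1]),
   (0, [2,2,1,3,0]), (2, [3,3,1,3,1,3,1]), (2, [0,2,2,2,1,2,2,0]), (1, [2,2,2,1,3]), (0, [3,3,1,2]), (2, [0,3,1,2,2,0,2,1]),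
   (2, [0,3,1,2,0,3,1]), (2, [1,3,3,0,2,1]), (2, [0,3,3,0,2,2,0]), (1, [3,1,3,0,0]), (0, [2,2,2,0]), (2, [2,1,2,2,1,2,1]),
   (2, [0,2,0,3,3,0]), (2, [2,1,2,0,0]), (1, [2,2,0,3,3,0]), (2, [0,2,2,2,1,3]), (2, [3,0,2,2,0]), (1, [2,2,2,1]),
   (0, [0,0,3,0,2,0]), (0, [3,1,3,0]), (2, [0,2,0,0,3,3]), (1, [0,2,2,2,0,0]), (1, [1,2,1,3,1,3,1]), (2, [0,2,1,3,1]),
   (0, [3,1,3,1]), (1, [2,1,3,3,1]), (2, [3,0,0,2,0,2,2]), (2, [0,0,3,0,3,0,0,2]), (1, [0,3,3,1,3,3,1]), (1, [0,0,2,1,2]),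
   (2, [0,0,2,0,3,0]), (2, [1,2,2,0,3]), (2, [0,2,0,0,3,0,0,3]), (1, [0,2,1,3,3,0]), (2, [1,3,0,2,1,2]), (2, [0,2,0,2,0,2,0,3]),
   (1, [3,0,3,3,0]), (1, [0,0,2,2,0,3]), (2, [0,0,2,1,3,3,0,0]), (2, [2,1,2,2,2,1]), (1, [2,0,3,1]), (1, [2,1,2,0,2]),
   (0, [2,2,2,1,3]), (0, [3,0,2,2,2]), (1, [0,2,0]), (0, [3,3,0,0,3]), (0, []), (1, [1,3,0]),
   (0, [1,2,1,3,0,3,3]), (0, [0,3,1,2,0]), (2, [0,2,2,1,2,0,3]), (2, [1,2,2,0,2,2]), (0, [0,0,3,0,2,1,2]), (1, [2,0,2]),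
   (2, [0,0,3,3]), (0, [3,3,0,0,2,2]), (2, [0,2,2,0,3,3,0]), (2, [1,3,0,2,2]), (1, [0,3,1,3,0,3]), (2, [3,0,0,2,0,2]),
   (1, [1,2,0,0]), (0, [3,1,3]), (0, [0,2,0,3,3]), (1, [0,0,3,0,2,0,0]), (2, [0,2,2,2,1,2,2,1]), (2, [0,2,0,2,2,1]),
   (0, [0,3,0,0,2]), (2, [1,2,0,3,0,3,0]), (2, [1,3,0,2,0,3]), (0, [3,3,0,2,0,2]), (2, [3,1,3,0,3,3]), (1, [2,1,2,2,0]),
   (2, [2,1,2,2,2,1,2]), (2, [2,0,0,3,0,0,3]), (0, [0,2,1]), (0, [2,1,3,1,3]), (2, [0,2,2,2,1,2,2]), (1, [2,0,0,2,1,3,3]),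
   (2, [0,3,0,0,2,1,3]), (0, [1,2]), (2, [2,1,3,0,0,3,0,0]), (0, [0,0,2,1]), (1, [1,2,0,2,2,2]), (2, [0,3,0,0,3,0,3]),
   (1, [2,1,2,0,0,3]), (2, [2,0,0,3,1,2]), (2, [3,3,0,2,2]), (1, [0,3,3,1,2]), (2, [1,2,2,2,1,3]), (2, [1,3,0,0,2,0,3,0]),
   (1, [0,2,0,2,2,2]), (2, [0,3,0,3,1,3,0]), (0, [2,1,2,2,1,3]), (2, [0,2,2,1,2,1]), (2, [0,3,0,2,2,2,0,0]), (0, [3,3,1,2,1,2]),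
   (2, [3,0,3,1,2,1]), (2, [2,0,0,2,0,3]), (0, [1,2,2,2,0,0]), (1, [0,0,2,1,3,0,3,3]), (2, [0,3,1,2,1]), (0, [0,0,3,0,0,3]),
   (1, [1,2,1]), (1, [0,3,3,0,0]), (1, [0,0,2,1,2,1,2]), (1, [0,0,2,0,2,1]), (1, [0,3,3,1,3]), (2, [2,0,2]),
   (2, [0,2,2,1,2,1,3]), (1, [1,2,2]), (0, [3,3,0,2,1,2]), (2, [3,3,0,2,2,1,2]), (1, [2,0,0,2,1,3]), (0, [0,3,1,2,1,2,1]),
   (2, [1,3,3,1,3,1,2]), (2, [0,0,2,0,3,1,2]), (0, [2]), (0, [2,0,2,0,3,0]), (1, [0,0,2,0,2,2]), (2, [1,2,0,0,2,0,3]),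
   (0, [2,2,0,2,0]), (2, [0,2,2,0,2]), (0, [0,2,0,0,2,2]), (0, [0,3,0,0,2,0,2]), (2, [2,2,0,3,0,3,0]), (0, [0,0,3,0,2,1]),
   (0, [1,3,1,3,0]), (0, [3,3,0,0,3,0]), (1, [0,2,0,2,1,3,1]), (0, [2,1,2,2,2,0]), (2, [1,3,0,0,2,0,2,2]), (2, [2,2,0,3,3]),
   (2, [0,0,2,1,3,1]), (0, [1,3,0,3,1]), (0, [0,0,2,1,2]), (0, [1,2,2,0,3,1]), (1, [0,2,0,2,2,1]), (2, [0,3,0,2,0,0,3,3]),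
   (2, [1,2,2,0,0,3]), (0, [0,2,0,3,3,1]), (1, [1,3]), (2, [3,1,2]), (1, [2,0,2,1,3,0,2]), (2, [2,2,0,2,2,0,2]),
   (2, [0,2,0,2,2,1,3]), (1, [1,3,1,2,1]), (1, [0,3,1,3,3]), (2, [0,0,2,1,2,2]), (2, [3,0,2,2,0,3,1]), (0, [3,3,0,3,1,2]),
   (0, [3,0,0]), (1, [2,0,0,2,1,2]), (1, [3,1,2,2]), (1, [0,0,3,1]), (2, [1,3,1,2,0]), (2, [0,0,3,0,3,1]),
   (0, [1,2,2,1,3,1]), (2, [1,3,3,0,0]), (1, [0,0,2,1,3,0]), (2, [0,2,0,2,2,1,3,1]), (1, [2,2,2,0,2,0]), (0, [2,0,2,2,2]),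
   (2, [3,3,1,3,3,1,3]), (1, [2,2,2,1,2,1]), (1, [2,1,2,1,3]), (2, [1,3,3,0,2,0]), (0, [0,0,3,3,1]), (0, [0,3,3,0,2]),
   (2, [0,2,0,2,2,0,2]), (1, [3,0,0,2]), (2, [0,0,3,0,2,0]), (2, [0,2,1,3,3]), (0, [1,2,2,0,3]), (2, [0,2,2,1,3,0,0]),
   (2, [0,3,0,0,3,0,3,3]), (0, [3,1,3,3,1]), (1, [0,3,1,3,3,1]), (2, [3,3,0,3]), (2, [2,0,0,3,0,0]), (2, [1,3,0,2,0,0]),
   (2, [0,0,2,1,3,1,2]), (2, [1,2,2,2,0,2,2]), (0, [1,2,1,3,0,2,2]), (2, [0,2,0,3,0,0]), (2, [1,2,0]), (2, [1,2,2,1]),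
   (1, [0,2,1,2,0,0]), (2, [0,2,0,3,1,3,3,1]), (0, [2,2,1]), (1, [1,3,0,2,2]), (2, [3,3,1,3]), (1, [2,0,0,3,0,2,0]),
   (2, [1,2,2,0,3,1,2]), (1, [0,2,2,2,0,3,1]), (1, [0,0,2,1,3,3]), (2, [3,0,3,3]), (1, [0,0,3,1,2]), (2, [2,0,2,0,0]),
   (2, [2,2,2,1,2]), (1, [3,1,3,3,0]), (2, [0,2,0,3,1,3]), (2, [0,0,3,0,3,0,0]), (1, [0,0,2,2,0,0,2]), (2, [3,0,3,1,2,1,3]),
   (2, [0,0,3,0,3,0]), (2, [0,0,3,0,0,2,2]), (1, [3,1,3,0,3]), (1, [2,0,3]), (1, [2,2,0,0,2]), (2, [1,2,0,3,1,2]),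
   (2, [1,2,2,0,3,1]), (2, [0,2,2,0,0,2,1]), (2, [1,2,2,2,1,2]), (2, [2,2,0,2,2,1]), (2, [3,3,1,3,3]), (0, [0,2,1,2,0,3,0,3]),
   (0, [0,0,2,1,3,0,3]), (2, [0,3,0,2,0,0]), (2, [1,2,2,2,0,2]), (1, [2,2,2,0]), (2, [2,1,2,1,2,2,0]), (2, [0,0,3,0,3,1,3,3]),
   (2, [1,3,1,2,2]), (0, [1,3,0,3,3,1]), (1, [2,2,0,2]), (1, [0,3,1,3,1,2]), (1, [3,0,2]), (2, [2,0,0,3,0]),
   (2, [0,0,2,0,0,2,0]), (1, [0,3,0,3,0,0]), (2, [3,0,3,3,1]), (1, [2,2,0,2,2,0]), (2, [1,2,2,1,3,0]), (2, [0,2,1,3,1,2,2]),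
   (1, [0,3,0,2]), (2, [0,3,0,2,2,2]), (0, [1,3,0,2,2,1]), (2, [0,2,0,2,2,0,0,3]), (2, [0,3,0,2]), (1, [1,2,0,2,1]),
   (0, [3,3,0,2,2]), (1, [0,2,1,2]), (1, [0,3,3]), (2, [2,2,0,0]), (1, [1,2,0,3,0]), (2, [0,2,1,3,1,2]),
   (1, [0,0,2,1,3,0,2,0]), (1, [2,0,3,0,0,3]), (2, [3,1,2,2,2,0,3]), (2, [1,3,3,1,3,0,2]), (1, [2,2,0,3,3]), (2, [0,0,2,0,3]),
   (1, [3,3,1,3,1]), (2, [2,0,0,3,0,0,2]), (2, [0,2,0,0]), (2, [0,2,0,0,2,0]), (1, [2,0,2,0,2,0,2]), (0, [3,3,1,2,2,0]),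
   (1, [3,1,3,0]), (2, [0,2,1,3,1,3]), (2, [0,0,3,0,2,0,2]), (0, [0,2,0,2,2,1]), (2, [0,2,0,0,3,3,0]), (2, [1,3,0,2,2,2]),
   (2, [1,3,3,1,3,0,2,0]), (2, [1,2,1,2,2,1]), (2, [3,0,3,3,0,0,3]), (2, [0,2,0,0,3,3,1]), (0, [0,2,2,0,0,3]), (2, [3,0,0,3]),
   (0, [3,0,2,2,2,1]), (1, [0,2,0,2,0,2]), (2, [0,2,0,3,0,0,3]), (2, [3,0,0,2]), (2, [2,1,2,2,0,3,1]), (0, [2,2,0,2,1]),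
   (0, [0,3,3,0,3,3,0]), (1, [0,0,2]), (1, [0,2,1,3,3,0,2]), (2, [2,2,0,2,2,0,0]), (0, [2,2,0,2,0,2]), (2, [2,0,0,3,0,3]),
   (1, [2,0,2,1,2,0]), (1, [2,1,3,0,2,0]), (1, [0,0,3,0,2,2]), (2, [2,0,2,1,2,0]), (2, [0,3,1,3,3]), (1, [3,1]),
   (0, [1,2,2,0]), (1, [0,2]), (2, [2,1,2,1,3,0]), (2, [2,2,1]), (2, [1,2,1,2,1,2]), (1, [0,3,1,2,2,1]),
   (2, [1,3,0,0]), (1, [3,1,2,1]), (2, [3,0,3,3,1,3]), (2, [1,2,0,3,0,3]), (2, [0,3,3,0,2,1]), (0, [0,0,3,1,3]),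
   (1, [0,3,1,3,0,2]), (1, [0,2,0,0,3]), (0, [0,2,0,2]), (0, [1,3,0,3,0]), (2, [3,0,3,1,2,0,2]), (0, [2,0,2,2,2,1]),
   (2, [0,3,1,2,0,2]), (2, [1,2,1,2,2]), (2, [0,3,1,2,0]), (2, [1,2,1]), (2, [3,3,0,0]), (2, [0,2,1,3,0,3]),
   (1, [3,1,3,3,0,2]), (1, [0,3,3,0]), (2, [3,3,0,2]), (2, [2,1,3,3,0,3]), (2, [1,3,0,3]), (2, [0,3,0,2,0,0,2]),
   (1, [2,2,1]), (1, [3,3,0,3,0,2]), (1, [1,3,1]), (1, [2,1,3,0]), (2, [0,0,3,0,2,1]), (0, [1,2,2,2]),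
   (1, [3,0,3,3]), (1, [0,2,0,2,2,0]), (0, [0,3,0,0]), (2, [0,2,0,3]), (0, [1,3,0,0,2]), (1, [3,3,0,3]),
   (1, [0,0,3,3,1]), (2, [2,2,2,0]), (2, [2,2,1,3,1,3]), (0, [2,1]), (2, [2,1,2,1,2,2,1]), (2, [1,3,1,3,1,2]),
   (2, [0,2,0,3,3,1,2]), (2, [1,3,3,1]), (2, [1,2,1,3,0,2,2,0]), (1, [0,3,0,3]), (2, [0,2,0,2,2,2,0]), (1, [2,0,2,2]),
   (2, [1,3,0,3,3,0,2]), (2, [0,2,1,2]), (2, [0,3,0,2,1,2]), (1, [0,3,1,2,1,2]), (2, [3,3,0,2,2,0,0]), (1, [0,3,3,0,3,3]),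
   (1, [3,1,3,1,2,1]), (2, [3,1,2,2,0,3,3,0]), (2, [0,3,1,3,0,2,0]), (0, [1,3,1,3,1]), (1, [2,1,3,3,0,2]), (0, [3,3,0,3]),
   (2, [0,2,0]), (1, [0,0,3,0,3,0]), (2, [1,3,3,0,3]), (1, [3,0,2,2,0]), (0, [0,0,2,0]), (1, [0,3,1,2,0]),
   (2, [3,3,0,2,0,0]), (1, [2,1,3,0,3]), (0, [2,0,2,2,2,0]), (1, [1,3,0,3]), (2, [3,0,0,3,0,2,0]), (2, [0,2,1,3,1,2,2,0]),
   (2, [0,3,1,2,2,2,0]), (1, [0,3,1,3]), (2, [0,0,3,0,2,1,3]), (2, [0,3,3,0,2,2,2]), (2, [0,3,1,2,0,3,0,3]), (1, [0,0,3,0,3,1]),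
   (2, [0,3,1,2,1,3,0]), (2, [0,0,3,0,0,2]), (2, [1,3,0,3,0,2,2]), (2, [0,3,1,3,3,0,3]), (1, [0,2,1,3]), (1, [1,3,1,3,0]),
   (2, [1,3,1,3,1]), (2, [2,2,0,0,2,0,2]), (2, [3,1,2,2,0,3]), (1, [0,2,1,3,1,3]), (2, [1,3,0,0,3]), (1, [3,0,3,3,1,2]),
   (2, [1,2,0,3,0,0,2]), (2, [0,0,3,0,2,0,2,0]), (1, [0,3,1,2,0,0,2]), (1, [1,3,1,3]), (2, [0,2,2,1,3,0]), (1, [2,2,1,2,1]),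
   (1, [2,2,0,3,1]), (2, [0,3,1,3,0,2,0,3]), (2, [0,3,3,0,3,3]), (2, [2,0,2,0,3,3]), (1, [0,0,2,1,3,0,2]), (1, [1,3,1,2,1,3]),
   (2, [0,2,0,3,1,2,0]), (2, [2,0,0,2,1,2]), (1, [3,1,2,0,0]), (1, [2,1,3,0,2]), (2, [2,1,3,0,3,1]), (2, [0,2,2,1,3,1]),
   (1, [0,0,2,1,2,1]), (2, [0,3,0,2,0]), (1, [2,0,3,0,3,3]), (0, [2,1,3,3,0,3]), (0, [0,2,2,1,2]), (2, [1,2,0,3,1]),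
   (2, [2,1,3,0,0]), (0, [0,0,2,2,0,2]), (2, [2,2,0,2,2,2,1]), (0, [1,3,3]), (2, [1,2,1,3,0,2,2]), (1, [3,0,3,3,0,0]),
   (2, [0,2,2,1,3,1,3]), (0, [3,0,2,2,0]), (0, [3,0,0,2,0]), (1, [3,3,1,3,3]), (1, [1,2,1,3,1,2]), (2, [0,2,0,2,0,0,3,1,3]),
   (2, [3,3,0,0,2,1]), (1, [0,2,2,2,1]), (1, [3,0,0,3,0]), (2, [3,1,2,0,0]), (2, [0,2,1,2,1]), (1, [2,2,1,3,3,0]),
   (2, [1,2,1,2,0,3]), (1, [2,0,2,0,2]), (2, [0,3,0,0,3,0]), (0, [2,2,0,2,1,3]), (2, [0,0,2,2,2,0,2,1,2]), (1, [2,2,0,3,1,2]),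
   (2, [3,1]), (0, [2,0,2,0,3]), (2, [0,0,3,0,0,3]), (1, []), (2, [0,3,0,0,3,3]), (0, [2,1,3,3,0,3,0]),
   (0, [3,3,1,3]), (0, [2,0]), (2, [1,2,1,2,2,0,0]), (0, [0,2,1,2,0,3,0]), (0, [1,2,2]), (0, [0,2,1,2,0,2]),
   (1, [0,3,3,0,2,0]), (0, [3,0,0,2]), (0, [1,2,2,2,0]), (2, [2,1,3,0,2,2,0]), (2, [3,0,3,1,2]), (2, [1,3,3]),
   (2, [0,3,0,3,3]), (2, [3,1,3,3,1,2]), (2, [0,0,2,0,3,0,2]), (1, [3,1,2,2,2]), (1, [3,0,2,0,2,0]), (2, [0,2,0,2,0,2,1]),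
   (1, [0,3,0,2,0]), (2, [1,3,0,2,2,0]), (2, [2,1,3,0,0,3,0]), (2, [3,0,2,0]), (2, [0,0,2,0,3,3]), (2, [0,2,2,0,2,1]),
   (2, [0,2,0,0,3,0,3]), (2, [3,1,3,3,0,0]), (2, [2,2,2,1,3,1]), (1, [0,2,2,1,2,2]), (1, [1,2,0,2,2,1]), (2, [3,0,2,0,2,1,2]),
   (2, [2,2,0,2,2,0]), (2, [1,2,0,2,0,2]), (2, [1,2,2,0,2,1,3]), (2, [1,3,0]), (2, [0,2,0,0,2]), (0, [3,0,0,2,0,2]),
   (2, [0,3,1,2,2,2]), (2, [2,2,0,3,0,0,3]), (1, [3,0,2,2,0,0]), (2, [0,2,0,2,2,0,0]), (1, [2,2,0]), (1, [0,3,0,3,0,2]),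
   (0, [3,3,1,2,1]), (2, [2,1,2,1,3,1]), (1, [1,3,0,0,3]), (2, [3,1,2,2]), (1, [3,3,0,0]), (1, [0,3,0,3,0,3]),
   (2, [1,2,2,2,0,3,3]), (2, [0,0,2,1,3,3,0,2,1]), (2, [0,0,3,0,3,1,3]), (1, [2,2]), (2, [1,3,3,0,2,1,3,1,3]), (2, [2,0,0,2,2]),
   (2, [0,2,1,2,0,3]), (0, [0,2,0,2,2,2,0]), (0, [0,3,1,2,0,3]), (2, [1,3,0,0,3,3]), (1, [1,2,1,2,1,3]), (2, [0,3,1]),
   (2, [0,3,1,3,0]), (1, [0,3,1,2,2]), (2, [0,2,1,2,0,2]), (1, [1,3,0,2,1,2]), (0, [3,3,1,3,1]), (1, [2,1,3,0,3,3,1]),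
   (0, [3,1,3,1,3,1]), (2, [0,2,0,2]), (2, [0,2,0,3,1,3,0]), (2, [2,1,2,2,1,2]), (2, [0,2,0,2,2,1,2]), (2, [2,2,1,2,2,2,0]),
   (1, [0,3,0,3,0]), (2, [2,2,1,2,2,1,3]), (2, [0,0,3,0,0,3,3]), (1, [1,2,1,3,1,3]), (1, [0,2,1,3,1,2]), (1, [0,0,2,1]),
   (2, [0,0,2,1,3,1,3]), (1, [0,0,3,3,1,2]), (2, [0,2,1,3,0,0]), (0, [3,3,0,2,0]), (2, [2,2,0,0,2,0,0]), (1, [2,2,1,2,0]),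
   (0, [2,1,2,0]), (1, [2,0,2,2,1,3]), (1, [1,2,0,0,2,0]), (1, [3,1,3,3,0,0]), (1, [2,2,2,0,2,2]), (2, [0,2,0,3,1,2]),
   (2, [0,3,1,3,0,2]), (0, [2,0,0]), (2, [0,3,0,0,2,2]), (2, [3,1,3,3,0,2,0]), (1, [0,0,3,0,2,1]), (2, [2,2,2,0,2,0]),
   (1, [2,1,2,2,1]), (2, [1,2,1,2]), (2, [0,2,0,3,0,2]), (2, [0,3,0,0,2,0]), (1, [0,0,2,1,2,0]), (0, [3,0,3,0,2,2]),
   (2, [2,1,3,1]), (2, [0,0,2,2]), (2, [1,3,0,0,2,0]), (1, [0,2,1,3,3]), (2, [2,1,2,2,0,2,1]), (0, [2,2,1,3,3]),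
   (1, [0,2,0,0,3,0]), (0, [3,1,2,1]), (0, [0,0,2]), (1, [3,1,2,2,1,2]), (2, [2,2,1,2,1,2,0]), (2, [2,0,0,3,3]),
   (2, [2,2,1,2,2,1,2]), (1, [0,3,3,1,3,3]), (0, [3,3,0,3,0,0]), (2, [2,2,1,2]), (1, [2,1,3,3]), (0, [2,0,2,0,2,2]),
   (2, [0,2,0,2,2,0]), (2, [1,2,0,3,0,2]), (1, [0,3,0,2,2]), (1, [0,0,3,1,3,0]), (0, [0,0,2,2,0,3]), (2, [1,3,0,2]),
   (0, [0,3]), (0, [0,2,2,1]), (1, [2,1,3,3,1,2]), (0, [0,3,3,0,3,3]), (1, [3]), (1, [0,2,2,0,2,0]),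
   (2, [0,0,3,0,3,1,3,1]), (2, [3,3,1,3,1]), (2, [0,3,0,2,2,2,1]), (2, [0,2,2,2,1]), (2, [1,2,0,3,0,3,3]), (0, [0,0,2,1,2,2]),
   (2, [3,0,2,1,3]), (1, [0,0,2,1,3,0,3]), (1, [1,3,1,3,0,3]), (2, [3,1,3,0,3,3,1]), (1, [1,2,0,3,0,2]), (2, [2,2,2]),
   (2, [2,2,1,2,1]), (2, [0,0,2,0,2]), (2, [0,2,1,3,0,0,3,0]), (2, [0,0,3,0,3,3]), (1, [0,3,1,3,1,3]), (1, [2,0,0,2,2]),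
   (2, [3,1,2,2,0,2]), (1, [0,3,0,3,0,0,3,1]), (2, [0,3,3,0,3,1,2]), (2, [0,2,2,0,3,0,2]), (1, [1,2,1,3]), (2, [2,0,2,1,2,2]),
   (2, [1,2,1,2,0,3,3]), (2, [0,0,2,1,2,1]), (1, [1,3,0,2,0]), (2, [1,2,2,2,0,3,1]), (1, [0,2,0,2,0]), (2, [3,1,3,1,2]),
   (2, [3,0,3,1,2,2]), (1, [0,0,2,2]), (1, [3,1,3,0,2,0]), (2, [2,2,1,3]), (2, [1,3,3,1,3,1]), (2, [0,2,0,3,3,1,2,2]),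
   (2, [3,3,1,3,3,1]), (2, [1,3,0,3,0]), (2, [2,1,2,2,1,3]), (1, [3,0,3,3,1]), (2, [0,0,2,1,2,0,0]), (2, [0,2,2,0,0,2]),
   (1, [0,2,0,2,0,2,1]), (1, [0,3,1,2,0,0]), (2, [3,0,2,2]), (2, [0,0,3,0,3,1,3,3,1]), (0, [3,1,3,3,0,0]), (0, [2,2,1,3]),
   (2, [0,2,2,0,2,2,1,2]), (1, [0,2,0,2,1]), (1, [0,0,3,0]), (1, [2,2,2]), (2, [0,0,2,0,3,3,0,2]), (2, [2,2,0,2,0,3,3]),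
   (1, [0,0,2,0,2]), (0, [0,0,2,0,2]), (0, [0,2,2]), (1, [1,2,1,3,3,1]), (2, [2,1,3,0,2,2]), (2, [2,1]),
   (2, [2,2,2,0,0,2]), (1, [0,0,2,2,1]), (1, [1,2,0,0,2]), (2, [0,3,1,3]), (2, [0,2,0,0,3,0]), (1, [2,2,1,3,0,3]),
   (2, [1,2,2,0,3,0,0]), (1, [2,1,2,2,1,2]), (2, [0,3,0,3,1,3]), (1, [2,2,1,3]), (1, [1,3,3]), (2, [0,3,3,0,3,3,0]),
   (2, [3,0,3,3,0]), (2, [3,1,2,2,2,0]), (2, [2,2,0,2,0,3]), (1, [0,2,1,2,0,3]), (2, [2,1,3,3,0,3,3]), (1, [0,3,3,0,0,3]),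
   (2, [0,0,2,2,2,0]), (2, [3,1,3,3,0]), (2, [1,2,0,0]), (1, [0,2,2,2,1,3]), (0, [0,2,0,2,2]), (0, [2,0,3,3,0]),
   (2, [3,0,2,2,0,3,0]), (2, [0,3,3,0,2]), (1, [1,2,0,3,1,3]), (2, [2,2,2,0,0,2,2]), (0, [3,0,0,3,1]), (1, [1,3,0,2,0,3]),
   (2, [2,0,0,2,0,0,3,3]), (2, [0,2,2,2,0,3]), (0, [2,1,2,2,2]), (0, [0,3,3,0,2,1]), (1, [0,0,3,0,0]), (2, [0,3,1,3,3,0]),
   (0, [0,2,2,0,0,2,2]), (2, [1,3,0,0,2,1,3]), (1, [0,2,1,3,0]), (0, [2,2,1,2,0,3]), (2, [0,3,1,2]), (0, [1,2,2,0,0,2,1]),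
   (1, [0,0,2,1,2,2,0]), (2, [0,3,0,2,2,0]), (2, [2,1,3,3,0]), (2, [0,3,0,0,2,0,0]), (0, [2,0,2,2,0,0,2]), (2, [3,1,3,3,1,3,3]),
   (0, [0,2,2,0,3]), (1, [1,3,0,0,3,0,3]), (1, [3,1,2]), (2, [2,2,0,0,2,0,2,2]), (1, [2,0,2,0,2,0]), (0, [0,2,2,0,3,0]),
   (1, [0,2,1,3,1,2,0]), (0, [3,3]), (0, [3,0,2,2,0,3]), (2, [3,1,3,3,0,3,3]), (2, [0,2,1,3,3,1]), (2, [2,1,2,2,0,3]),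
   (2, [2,0,0,2,2,0]), (2, [0,3,3,0,3,1]), (0, [0,2,2,0,3,0,3]), (2, [2,2,1,2,0,0,2]), (1, [3,1,3,3,1]), (0, [3,1,2,2]),
   (1, [1,2,0,3,3]), (2, [1,2,2,2,0,0,2]), (2, [2,2,1,3,3,1]), (2, [2,1,2,1,2,2,0,0]), (2, [2,0,2,0,2,1]), (2, [0,2,2,1,2]),
   (2, [0,2,0,3,0]), (0, [3,0,3,1,2]), (0, [1,2,1]), (2, [1,2,0,2,0,3]), (0, [2,2,1,2,1]), (1, [0,2,2,2,1,2]),
   (1, [2,2,1,2,1,2]), (2, [2,0,2,1]), (0, [1,3,0,2,2]), (2, [2,0,0,3,3,0,3,0]), (1, [2,0,0,3]), (1, [0,0,2,2,1,3]),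
   (1, [3,0,0,3]), (1, [1,2,0,2,0,3]), (2, [0]), (2, [3,1,3,0,3]), (2, [2,1,2,2,0,0]), (2, [0,2,2,2,1,3,0,2]),
   (0, [2,1,3,0,0]), (1, [2,2,1,2]), (1, [0,3,0]), (1, [0,0,2,2,1,3,1]), (2, [3,1,3,3,0,3]), (1, [0,0,2,0]),
   (1, [1,2,1,2,0,0]), (2, [3,0,2,0,2,0,0]), (1, [0,3,3,0,0,2]), (0, [3,3,0,3,1]), (1, [0,0,2,1,3]), (0, [1,2,2,0,2,0]),
   (0, [1,2,2,2,0,0,3]), (2, [1,2,0,0,3,3]), (2, [1,2,1,3,0]), (2, [2,1,3,0,0,3,1]), (2, [0,2,0,0,3,0,0,3,0]), (1, [0,0,2,2,2,0,2]),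
   (2, [3,0,3,1]), (1, [1,2,1,3,3]), (2, [2,2,0,2]), (2, [1,2,1,2,2,0,0,2]), (2, [1,3,3,0,3,0]), (2, [0,2,2,0,2,2]),
   (2, [0,2,0,2,0,0]), (2, [0,0,2,1]), (2, [1,2,1,2,0,2,0]), (1, [0,3,0,2,0,3]), (2, [2,0,0,3]), (0, [0,0,3,3]),
   (1, [1,2,1,3,0,2]), (0, [0,0,2,1,3]), (2, [1,3,3,0,2,1,3]), (1, [0,2,0,2]), (1, [0,2,1,2,1,2]), (2, [1,2,1,2,0,3,0]),
   (2, [1,3]), (1, [3,0,2,0,0]), (0, [0,2,0,0,3]), (2, [3,3,0]), (2, [0,0,2,1,3]), (1, [3,1,3,0,3,1]),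
   (1, [0,2,0,3,3,1]), (0, [2,1,3,1]), (2, [0,0,2,0]), (0, [1,3,3,1,3]), (1, [2,0,0,2,2,0]), (2, [0,2,1,3]),
   (2, [0,2,1,2,1,2]), (2, [0,2,2,0,2,2,0]), (1, [0,2,0,0,3,1]), (2, [2,1,2,2,2]), (2, [1,2,0,3,1,3]), (2, [3,0,0,3,0,2,1]),
   (2, [2,1,2,1,2]), (2, [3,0,2,2,1]), (2, [0,0,2,0,0]), (1, [3,0,2,0,2]), (1, [1,2,0,2,0]), (1, [2,0,2,1,2]),
   (2, [1,3,0,3,1,2,0]), (2, [2,2,0,3]), (2, [1,3,0,0,3,0]), (1, [2,2,2,0,0]), (2, [2,0,2,0]), (2, [0,0,2,2,2,0,3]),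
   (2, [2,2,0,3,0]), (1, [0,0,2,2,1,3,0,2]), (2, [1,2,1,2,0,2]), (1, [2,1,2]), (2, [2,0,0,2,0,0,3]), (2, [1,2,2,2,1]),
   (2, [1,2,2,0,3,0,2]), (2, [0,3,1,2,2,2,1]), (1, [0,2,2,2,1,2,1]), (1, [0,2,0,2,0,0]), (0, [0,0,2,2,0]), (0, [0,2,2,0,0,2,2,2]),
   (2, [2,2,1,2,1,3,1]), (2, [0,2,0,2,2,0,3]), (2, [0,2,0,2,0,2]), (1, [3,1,3,1,2,0,3]), (0, [2,0,0,2,0,2]), (0, [2,0,0,2]),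
   (0, [3]), (1, [0,3,3,0,2]), (1, [1,2,1,3,0,3]), (1, [0,2,1,2,1,3]), (2, [3,3,0,2,1]), (0, [0,2,0]),
   (2, [0,2,2,0]), (2, [1,3,1,2,1,2]), (1, [2,0,2,1,3]), (2, [3,1,3,0,3,3,0,0]), (1, [0,2,2,0]), (2, [3,1,2,1]),
   (1, [0,3,1,3,1,3,0]), (2, [1,3,0,2,2,1,3]), (2, [0,3,3,0,3,0,3]), (2, [0,3,3,0]), (0, [3,1]), (1, [2,0,2,1]),
   (0, [1,2,1,2,0]), (2, [1,2,0,3]), (2, [0,3,1,2,0,3]), (1, [2,2,2,1,2,0]), (2, [2,2,1,2,1,3]), (2, [2,0,0,2,0]),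
   (2, [1,3,0,3,0,0,3]), (1, [1]), (2, [0,2,0,3,0,3]), (1, [3,3,1,2]), (2, [0,2,0,0,3,0,0]), (2, [2,2,0,0,3]),
   (1, [2,2,0,2,0,2]), (2, [2,2,0,3,0,3]), (1, [0,2,2,1,2,2,2]), (1, [1,3,0,0,3,1]), (2, [1,2,2,2,0,0,3]), (1, [2,0,0,2,0,0,3]),
   (2, [0,2,1,2,1,3]), (2, [1,3,3,1,3,0,0,2]), (2, [1,3,0,2,2,2,1]), (2, [0,0,2]), (1, [2,2,1,3,0,2]), (2, [1,2,0,0,2]),
   (1, [0,0,3,3,0,3]), (2, [2,2,0,0,2,1]), (1, [0,0,2,2,0,3,0]), (2, [1,3,1,3]), (1, [0,3,3,0,3,3,0]), (2, [1,3,0,3,3,0,3]),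
   (1, [2,0,2,0,3,3]), (2, [0,3,0,0,2,0,3,1]), (2, [1,3,0,3,0,2,2,2]), (2, [0,0,2,0,3,1]), (1, [0,0,2,2,2,1]), (2, [0,0,2,2,2,0,2,0]),
   (2, [0,0,2,2,2,0,2]), (1, [0,0,2,2,0,3,0,0]), (2, [3,1,3,0,3,1,2]), (1, [3,3,1,2,0,2]), (1, [0,2,0,0]), (2, [3,3,0,0,2,0]),
   (2, [0,3,0,0,3,1]), (2, [3,0,2,0,0,3]), (2, [1,3,1,2,1]), (1, [0,2,1,2,0,2]), (1, [1,3,1,2,0]), (2, [3,0,2,0,0,3,0]),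
   (2, [1,3,0,0,2,0,2]), (2, [3,0,3,1,2,0]), (1, [1,3,1,3,1]), (2, [2,0,0,3,1,2,1]), (1, [0,0,2,2,0,2]), (2, [2,1,3,0,0,3]),
   (1, [2,2,0,0,3]), (2, [0,2]), (2, [2,2]), (1, [3,3,1,3,0]), (2, [0,2,2,2,1,2]), (1, [2,1,2,2,2]),
   (1, [2,2,0,3,0])]

theorem hbaseT : (∀ x ∈ baseT, x < 2 ^ 24) ∧ baseT.Nodup := by decide +kernel

theorem hgenT : ∀ g ∈ gensT, genChkS baseT g = true := by decide +kernel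

theorem hrootsT : ∀ r ∈ rootsT, (∀ x ∈ r, x < 2 ^ 24) ∧ r.Nodup := by decide +kernel

theorem hclsT : ∀ e ∈ tabT, e.1 < rootsT.length := by decide +kernel

theorem hincT : incChk (tabKeys gensT rootsT tabT) 0 = true := by decide +kernel

theorem hinvT : ∀ c < rootsT.length, ∀ c' < rootsT.length,
    invLE 2 baseT (rootsT.getD c []) = invLE 2 baseT (rootsT.getD c' []) → c = c' := by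
  decide +kernel

theorem hlenT : tabT.length = 1771 := by decide +kernel

theorem hcountT : ∀ c < rootsT.length, (tabT.filter (fun e => e.1 == c)).length = sizeT c := by
  decide +kernel

end Cfsg.Agent.Lib_lead_MixDdSext
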