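import Mathlib
import Cfsg.Prelude.Def_SporadicCombinatorics
import Cfsg.Agent.Lib_lead_ObjOrb4

/-! Orbit certificate: octad stabilizer on trios. Generators of the stabilizer of the base family, and every member
of the other family as the image of one of the orbit representatives under a word in them. -/

set_option autoImplicit false

namespace Cfsg.Agent.Lib_lead_MixOctTrio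

open Cfsg Cfsg.Agent.Lib_lead_Golay Cfsg.Agent.Lib_lead_GolayPerm Cfsg.Agent.Lib_lead_M24
  Cfsg.Agent.Lib_lead_M24Chain Cfsg.Agent.Lib_lead_M24Orb Cfsg.Agent.Lib_lead_ObjOrb
  Cfsg.Agent.Lib_lead_ObjOrb3 Cfsg.Agent.Lib_lead_ObjOrb4
open scoped Pointwise

/-- the base family -/
def baseT : List ℕ := [3277413]

/-- generators of the stabilizer of the base family -/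
def gensT : List (List ℕ × List ℕ) :=
  [([2, 23, 0, 3, 18, 9, 20, 19, 7, 6, 22, 16, 10, 1, 4, 15, 11, 21, 14, 13, 17, 5, 12, 8], [2, 13, 0, 3, 14, 21, 9, 8, 23, 5, 12, 16, 22, 19, 18, 15, 11, 20, 4, 7, 6, 17, 10, 1]),
   ([2, 13, 0, 3, 14, 21, 9, 8, 23, 5, 12, 16, 22, 19, 18, 15, 11, 20, 4, 7, 6, 17, 10, 1], [2, 23, 0, 3, 18, 9, 20, 19, 7, 6, 22, 16, 10, 1, 4, 15, 11, 21, 14, 13, 17, 5, 12, 8]),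
   ([20, 8, 9, 14, 15, 6, 17, 7, 4, 2, 16, 23, 1, 10, 19, 22, 11, 5, 13, 3, 0, 21, 12, 18], [20, 12, 9, 19, 8, 17, 5, 7, 1, 2, 13, 16, 22, 18, 3, 4, 10, 6, 23, 14, 0, 21, 15, 11]),
   ([20, 12, 9, 19, 8, 17, 5, 7, 1, 2, 13, 16, 22, 18, 3, 4, 10, 6, 23, 14, 0, 21, 15, 11], [20, 8, 9, 14, 15, 6, 17, 7, 4, 2, 16, 23, 1, 10, 19, 22, 11, 5, 13, 3, 0, 21, 12, 18])]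

/-- orbit representatives -/
def rootsT : List (List ℕ) :=
  [[126216, 3277413, 13373586],
   [2491452, 4845570, 9440193],
   [252432, 6554826, 9969957]]

/-- orbit sizes -/
def sizeT (c : ℕ) : ℕ := ([15, 420, 3360] : List ℕ).getD c 0

set_option maxRecDepth 1000000 in
/-- class and word of every member, sorted by key -/
def tabT : List (ℕ × List ℕ) :=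
  [(2, [2,2,2,1,2,1,2]), (2, [0,2,0,2,1,1,3,0,3,0]), (2, [2,2,0,0,3,1,3]), (2, [2,2,2,0,2,0,3,0]), (2, [3,1,3,0,3,1,3]), (2, [2,1,2,1,1,3,1,1]),
   (2, [1,3,0,3,1,1]), (2, [0,2,0,2,2,1,3,0,2]), (2, [0,3,0,0,2,0,2]), (2, [0,3,0,3,0,0,2,1]), (2, [0,2,1,1,2,1,3,1,3]), (2, [3,1,3,1,1,2]),
   (2, [3,3,0,0,3,1,2,1,2]), (2, [0,2,0,0,2,1,1,3]), (2, [0,2,2,0,3,0,0,2]), (2, [1,2,0,0,0,3,0,2]), (2, [2,1,3,1,1,3,1,1]), (2, [1,3,3,1,2,0,3]),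
   (2, [2,2,1,2,0,0,3]), (2, [2,1,3,1,1,2,1,1]), (2, [3,0,0,2,1,3,1,2]), (2, [0,2,1,1,3,0,2,0]), (2, [0,3,0,0,2,1,2,0,3]), (1, [0,0,3,1,3]),
   (2, [3,0,3,0,3,3,0]), (2, [0,2,1,3,0,0,3,0,3]), (1, [2,0,0,3]), (2, [2,0,0,3,0,3,1,1,2]), (2, [0,3,0,2,0,2,1,3,0]), (2, [3,3,1,1,2,0,0]),
   (2, [3,0,3,1,1,2,2]), (1, [1,2,0,2]), (2, [1,2,0,0,0,2,1,1]), (2, [2,0,0,3,3]), (2, [3,0,3,3,0,3]), (2, [1,3,1,2,0]),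
   (2, [0,2,1,2,1,3,1,2]), (1, [2,0,0,2]), (2, [1,2,0,0,3,3,0,2,0]), (2, [3,0,0,0,3]), (2, [1,3,0,3,0,0,2,1]), (2, [0,3,0,3,0,3,3,0]),
   (1, [2,0,3,0,0]), (2, [0,2,1,3,0,2,0,3,0,3]), (2, [0,3,1,1,2,2,0,3]), (2, [0,3,1,2,0,3,0,3]), (2, [0,2,0,2,2,1,1,2]), (2, [0,2,2,0,3,0,0]),
   (2, [0,2,0,0]), (2, [1,2,1,2,0,0,0,3,1]), (2, [3,1,2,0,0,2,0,3]), (1, [0,0,3]), (2, [2,2,2,0,3,0,2,0,2]), (2, [3,3,1,3,1,3]),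
   (2, [0,2,1,1,2,0,0,2,0,3]), (1, [1,2,2,1]), (2, [3,0,2,1]), (2, [0,3,0,0,2,0,3]), (1, [2,0,0,2,0,0]), (2, [0,2,2,2,0,2,1]),
   (2, [1,2,0,2,1]), (2, [1,3,0,2,2,2,0,3]), (1, [1,2,1,3,0,3]), (2, [2,0,0,3,3,0,2]), (2, [0,2,1,3,1]), (2, [2,2,1,3,0,3]),
   (2, [1,2,1,2,0,0,2,1]), (2, [1,2,0,3,1]), (2, [2,1,2,1,1,2,0]), (2, [0,3,3,1,2,0,3,0]), (2, [2,1,3,1,1,3,0,3,1]), (2, [3,3,0,2,0,2]),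
   (2, [0,2,0,2,1,2,0,0,2]), (2, [1,3,3,0,3,1,2]), (2, [1,3,0,2,1]), (2, [1,2,2,2,1,2,0,2]), (2, [1,3,0,2,1,3]), (0, [2,0,2]),
   (2, [2,1,3]), (2, [2,2,0,3,0,3,1]), (2, [2,2,1,3,0,2,1]), (1, [1]), (2, [0,3,0,2,2,2,1,1]), (2, [2,0,0,2,0,0,0,2]),
   (2, [0,3,0,3,0,3,1,1,3]), (2, [2,2,2,0,3,0,3,1,3]), (2, [1,3,0,2,2,2,0]), (1, [3,1,3,0,0,0,2]), (2, [2,1,2,2,0,2]), (2, [1,2,1,3,0,0,2,0,3,3]),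
   (1, [2,1,3,0]), (2, [1,3,1,1,3,3]), (1, [0,2,1]), (2, [0,3,0,3,0,3,1,1,2]), (2, [3,3,0,2,0,0]), (2, [1,2,2,2,1,2,0,2,0]),
   (1, [1,2,0]), (2, [3,1,3,1,1,3]), (0, [0,3,0]), (2, [0,2,1,3,1,1,2,1]), (2, [3,0,2,2,1,3]), (2, [3,1,1,2,2,1,1]),
   (2, [2,0,0,0,3,0]), (2, [2,2,1,3,1,3,3,0,2]), (2, [1,3,0,2,1,3,0,0,2]), (2, [2,0,0,2,1,1,2,1,3]), (2, [2,1,1,2,0,3,0]), (2, [3,0,3,0,0,3]),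
   (2, [1,3,0,2,0,0,2,1]), (2, [3,0,2,0,0,2,0]), (1, [1,3,3]), (2, [1,2,0,0,3,3,0,2,1]), (1, [1,3,0,3]), (1, [2,0,0,3,1,2,0]),
   (1, [1,3,0,0,3]), (2, [1,2,0,0,0,3,0,0,2,0]), (2, [3,3,0,3,1,3,1]), (2, [2,1,2,1,3,0,2]), (1, [2,1,2,0,2,1]), (2, [1,2,0,3,1,2,2]),
   (2, [2,0,2,1,1,2,0]), (2, [3,0,3,0,0,2,1]), (2, [2,0,0,3,0,3]), (2, [0,2,0,0,2,0,3]), (2, [2,2,0,3,0,2,1]), (2, [2,1,2,2,1,2,2]),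
   (2, [2,2,2,1,3,1]), (2, [1,3,3,1,3,1,2]), (2, [2,1,1,3,1,3,0,3]), (2, [1,2,1,2,1,1,3,1,2]), (2, [0,3,0,2,1,3,3,0,2]), (1, [1,3,0,0,2]),
   (2, [0,3,3,1,2,1,3,1]), (2, [0,2,1,3,0,0,2,0]), (2, [3,1,3,0,0,2,1,2]), (2, [1,2,2,2,1,3,1,2]), (2, [0,2,0,2,2,2,0]), (1, [3,1,2,2,1,3]),
   (2, [0,3,3,0,2,1,3,1]), (2, [3,0,0,2,1,1,3,0,2]), (1, [3,3,1,2]), (2, [1,3,3,0,3,1,2,0]), (2, [0,2,0,2,0,0,3,3,0]), (2, [0,3,3,1,2,1,3,1,3]),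
   (1, [2,0,2,0,0,2]), (2, [3,0,2,1,1,3,3]), (2, [2,1,3,1,3]), (2, [2,0,2,0,2,2,2,0,0]), (2, [2,1,2,2,2,1,2]), (2, [0,3,0,2,0,0,2,0,0]),
   (2, [3,3,0,2,0,2,1]), (1, [1,3,0,0,0,3]), (2, [0,2,1,1,2,0,2,0]), (2, [2,0,0,3,1,1,2,0,0]), (2, [2,1,3,1,1,3,0,0]), (2, [0,2,0,3,3,0,2,2,2]),
   (2, [0,3,0,2,0,0,2,0]), (1, [1,3,3,0]), (2, [1,2,1,2,2,2,1,2,2]), (2, [0,2,1,2,0,3,3,0,2]), (2, [1,2,2,1]), (2, [0,2,2,2,1,2,0,0,3]),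
   (1, [1,2,0,0,0,3,0]), (2, [1,3,3,0,0,2,0]), (1, [3,1,3,1,2,1]), (1, [2,1,1]), (2, [2,2,0,3,0,3]), (2, [0,3,1,1,3,0,2]),
   (2, [3,1,2,1,1,3,1]), (2, [0,2,1,2,0,2]), (1, [3,0,2,1,3]), (2, [0,2,2,2,1,2]), (2, [0,3,0,0,3,1,1,3]), (2, [1,2,0,2,0,0,3,1,2]),
   (0, [0,3,0,0]), (2, [0,2,2,1,2,0,0]), (2, [1,2,2,1,1,3,1]), (2, [1,3]), (1, [3,1,2,1,3]), (2, [2,0,3,0,0,3,1,1]),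
   (2, [1,3,0,2,1,3,3]), (2, [0,3,1,1,2,0,3,1]), (2, [0,2,1,3,3]), (2, [2,0,3,0,0,3,3]), (2, [1,3,0,2,0,0,0]), (2, [0,3,0,0,0,2]),
   (1, [0,3,3,0,3]), (2, [3,0,3,1,1,3]), (2, [0,3,0,3,0,3,3,1,2]), (2, [1,2,2,2,1,2,1,2]), (2, [1,2,1,2,0,3,3,1,3,1]), (2, [2,1,3,0,0,3,3,0]),
   (2, [0,3,0,2,1,3,3]), (2, [1,3,0,2,2,2,0,2]), (2, [0,2,0,0,3,1,1,2]), (2, [3,0,0,3,0,0,0,2]), (2, [0,3,1,1,3,0,3,1,1]), (2, [1,2,1,3,0,2,0,0,3]),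
   (2, [0,2,2,2,0,3,1,2]), (2, [2,1,2,1,3,0,3,1,1]), (2, [2,0,2,0,3,1,3]), (1, [0,2,1,1,2,2]), (2, [2,0,2,1,1,2,1]), (2, [0,2,2,0,0,3,1,3]),
   (2, [2,1,1,2,2,2]), (2, [0,2,0,2,2,2,0,0]), (2, [0,3,1,2,0,2,1,1,3]), (2, [0,3,0,3,1]), (2, [2,1,2,1,3,1,1]), (2, [0,2,0,0,0,2,0,2,1,3]),
   (2, [0,2,0,3,3,0]), (2, [3,3,0,0,3,1,2,1]), (2, [3,0,0,2,0,2]), (2, [1,2,0,3,1,3,3]), (2, [0,2,1,2,2,0,3]), (2, [1,2,0,0,0,3,1,1,3,1]),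
   (2, [3,0,0,2,2,2,0,2]), (2, [1,2,1,2,0,2,1,2]), (2, [3,0,2,2,1]), (2, [2,0,3,1,1,2,0]), (2, [1,2,1,2,0,3,1]), (2, [1,2,1,2,1,1,2,1]),
   (2, [0,2,0,2,2,0,0,2,1]), (2, [2,1,3,1,2,0,0,2]), (1, [2,0,0,3,0]), (2, [0,2,0,3,0,0,0]), (2, [3,3,0,0,3]), (2, [0,3,1,3,0,3]),
   (2, [2,1,2,0,0,3,1,1]), (2, [2,0,0,2,0]), (2, [1,3,0,2,2,2,1,2]), (2, [3,3,1,2,0,3]), (0, [0,3,0,3]), (2, [1,3,3,0,3,1,2,1,1]),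
   (2, [2,0,0,3,0,2,0,2,2]), (2, [0,3,0,0,3,1,2,0,3]), (2, [2,1,3,1,2,0,2,2]), (2, [0,3,3,0,2,0,3,0,2]), (2, [3,0,0,2,0,3,3]), (2, [1,2,1,2,0,2,0,3]),
   (2, [2,0,3,1,1,2,1,3,1]), (2, [2,2,2,0,0,2,1,2]), (2, [1,3,0,3,3,1,1]), (2, [2,1,2,0,2,2,0,0,0]), (2, [0,3,1,2,1,3]), (2, [1,2,1,3,0,2,1,1,3]),
   (2, [2,0,3,1,3]), (1, [0,0,3,0,2,2]), (2, [0,2,0,0,2,2]), (2, [3,1,3,0,2,0,0]), (2, [0,3,0,3,0,0,2,2]), (2, [2,0,0,2,1,3,1,2]),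
   (1, [2,2,0,2]), (2, [0,2,0,0,0,2,0,0,0]), (2, [3,0,3,0,2,1,2,1]), (1, [1,2,0,0,3,0]), (2, [2,0,3,1,3,0,0,0]), (2, [2,1,1,3,3]),
   (2, [1,3,0,2,0,3,0,0,0]), (2, [2,2,1,3,0,3,1,3]), (2, [2,0,0,2,1,2,2,0]), (2, [2,1,3,1,3,0,3,1]), (2, [2,2,0,3]), (2, [1,3,3,0]),
   (1, [0,3,0,2,2]), (2, [0,2,2,2,1,2,0]), (2, [2,1,2,2,1,2]), (2, [2,2,2,0,2,0,3,1]), (2, [2,0,0,2,1,3,0,3]), (2, [2,2,2,0,2,2,2,0]),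
   (1, [1,1,3]), (2, [2,1,3,0,0,2,2,0]), (2, [2,1,2,1,3,0,3,0,0]), (2, [3,3,0,2,1,2,0]), (2, [2,0,2,0,3,1,2]), (1, [1,2,0,2,0]),
   (2, [1,3,0,2,2,1]), (2, [1,3,0,3,0,3]), (2, [2,1,2,1,1,2,1,3,0]), (2, [2,1,3,0,3,0,3]), (2, [3,0,3,3,1,3,1,2]), (2, [1,2,2,2,1,3,1]),
   (2, [0,3,3,0,0,0,3]), (2, [2,1,2,0,3]), (2, [2,1,2,0,3,1,3,0]), (1, [3,0,3,0,0]), (2, [0,2,1,3,0,2,0,3,0,2]), (2, [0,2,1,3,0,3,1,1,3]),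
   (2, [0,3,0,2,1,1,2,0]), (2, [2,0,3,1,1,2,1,1]), (2, [2,0]), (2, [1,2,1,3,1,2,0,0,3]), (2, [2,0,2,1,1,2]), (2, [1,2,1,2,0,3,1,3,0]),
   (2, [3,0,3,1,3,0,2]), (2, [0,3,1,1,3,0,0,2]), (2, [2,0,2,0,3,1,3,0]), (2, [3,0,2,2,0,0]), (2, [1,2,1,2,1,1,3,0]), (2, [0,2,1,1,2,0,2,0,0]),
   (2, [3,0,2,1,1]), (2, [2,2,1,2,0,0,2,0,2]), (2, [2,1,3,0,3,3,1,3]), (2, [0,2,0,2,1,1,3,1]), (2, [0,3,0,2,2,0,3,3]), (2, [3,3,1,3,1,3,1]),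
   (2, [3,0,0,3,0,2,2]), (2, [0,2,1,1,3,0,3,3,0]), (2, [1,2,1,3,1,1,2,0,0]), (2, [0,2,2,2,1,2,1,2,0,3]), (2, [3,0,0,3,1,1,3,1,2]), (2, [0,2,2,1,3,3,0]),
   (2, [1,2,1,2,0,0,3,0]), (2, [1,2,1,2,1,3,3,0]), (1, [1,3,1,2,1]), (2, [0,2,2,2,0,3,1]), (2, [1,3,0,3,0,2,1,2,0]), (2, [0,3,0,2,0,3,1,1]),
   (2, [0,3,1,2,2,2]), (2, [3,3,1,3,1,2,1]), (2, [0,3,3,1,3,1,3,1]), (1, [0,0,3,0,2]), (1, [2,0,0,2,0,3,0]), (2, [0,3,0,3,0,0,2,2,2]),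
   (2, [2,2,0,3,1,3,0]), (1, [0,3,1,1,2]), (1, [1,3,3,1]), (2, [2,0,3,0,0,2,0]), (2, [3,0,3,0,0,3,0,3]), (2, [0,3,0,3,0,0,0,3]),
   (2, [1,2,2,1,1,2,1]), (2, [2,0,0,0,3,0,3]), (2, [3,1,3,0,0,2,1,1]), (2, [2,2,1,1,2]), (0, [2,0]), (2, [0,2,1,1,2,1,3]),
   (2, [3,0,3,1,1,2,0,3,0,2]), (2, [1,2,1,2,0,0,3,0,0,2]), (2, [1,2,0,0,0,3,0,3]), (2, [0,3,3,1,3]), (2, [0,2,1,3,0,3,1,3,0]), (2, [2,2,0,3,1,2,1,2]),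
   (2, [0,3,1,2,0,3,3]), (2, [3,3,1,2,0,2,1]), (2, [0,2,0,3,3,0,3,1]), (2, [2,0,0,3,1,2,0]), (2, [2,0,3,1,2,0,0,2,1]), (2, [2,2,1,1,2,1,2]),
   (2, [3,1,3,0,0,3]), (1, [3,1,3,0,0]), (2, [2,1,1,3,1,2,0]), (1, [1,2,2,2]), (2, [2,0,0,2,1,3,3,0]), (2, [1,2,1,2,2]),
   (2, [0,3,1,3,1,3]), (0, [2,1,2]), (2, [1,2,1,2,0,0,2]), (2, [0,2,1,3,0,2,2,2]), (2, [3,0,0,0,3,0,2,0]), (2, [0,2,0,0,2,2,2]),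
   (2, [2,2,1,2,0,0,2]), (2, [2,2,0,3,3,1,1]), (2, [2,1,3,0,3,1,3]), (2, [0,3,3,1,1,2]), (2, [3,0,2,1,1,2,2]), (2, [1,2,1,2,2,2,0,3,3]),
   (2, [1,3,0,2,0,3,3]), (2, [0,2,0,3,1,1,3,0]), (1, [1,3,0,0]), (2, [0,2,2,0,0,3,0,0]), (2, [0,3,3,1,3,1,3,0]), (2, [3,1,2,2,1]),
   (2, [2,0,3,0,3,0]), (2, [3,0,3,3,0,0]), (2, [3,0,0,2,0,0,3]), (2, [2,1,2,0,0,3,0,2,2]), (2, [2,1,2,0,0,3,0,0]), (2, [1,3,0,2,1,3,0]),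
   (2, [3,0,2,1,3,0,3,0]), (2, [0,2,1,2,2,0,2,1]), (2, [0,3,1,2,1,2]), (2, [0,2,0,0,0,2,2]), (2, [1,3,0,3,1,2,0]), (2, [1,3,0,3,0,0,3,1]),
   (2, [1,2,2,2,1,3,0,2]), (2, [0,3,3,0,0,2,1,2]), (2, [3,3,0,0,2]), (2, [0,3,3,1,2,1,3,0]), (2, [0,3,0,3,0,3,1,3]), (2, [1,3,3,1,3,1,3,3]),
   (2, [2,1,1,2,1,3,1]), (2, [0,3,0,0,3,1,2]), (2, [1,2,0,2,0,2,0]), (2, [2,0,2,0,0,3,0]), (2, [2,1,2,1,2,0,3,3]), (2, [1,3,0,3,1,3,1,2,2]),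
   (2, [0,2,2,1,2,2,2,0]), (2, [2,0,0,2,0,2,0,2]), (2, [0,2,0,0,0,2,0,2,1,2]), (2, [1,2,1,2,1,2,2,0,3]), (2, [0,3,0,0,3,3,0]), (2, [0,3,0,2,1,1,2,0,2]),
   (2, [0,3,0,0,3,1]), (2, [1,3,0,2,1,1,3,1]), (1, [2,0,3,0,2,2]), (2, [0,3,0,3,0,0,3,3]), (2, [0,2,1,3,0,2]), (1, [2,2,1,2,0]),
   (2, [1,2,0,0,0,2,0,3]), (2, [2,1,3,1,3,1,1,3,0]), (2, [0,2,0,0,2,1,2,1]), (1, [2,0,3,3]), (2, [1,2,0,0,3,1,2,1]), (2, [2,1,2,2,2,0,2,2]),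
   (2, [0,2,2,0,3,0,2,0]), (2, [3,3,0,3,1,3,0,3]), (2, [3,3,0,3,1,1]), (2, [3,1,3,1,3,0,2]), (2, [2,1,2,1,3,0,3,3]), (2, [1,3,0,3,0,0,0]),
   (2, [0,2,2,2,0,3,3]), (2, [2,1,2,1,2]), (2, [0,2,2,0,0,0]), (2, [1,3,0,3,0,2,0,2]), (2, [0,2,2,2,1,2,2,2,0,3]), (2, [0,2,1,2,1,1,3,1]),
   (2, [0,3,0,3,3,0]), (2, [1,2,1,3,0,0,0,2]), (2, [3,0,0,3,1,3,0,2]), (2, [2,0,0,2,0,3,3]), (2, [3,1,3,3,0,2,0,0]), (2, [0,3,0,0,3,1,2,0]),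
   (2, [1,3,3,0,3,1,2,0,0]), (1, [3,0]), (2, [0,2,2,0,0,2]), (2, [0,3,0,3,0,0,2,0]), (2, [0,3,0,0,3,1,3,1,1]), (2, [3,0,0,2,0,2,2,1]),
   (2, [0,3,1,1,3,0,2,2,0]), (2, [2,1,3,0,3,1,2]), (2, [1,3,0,2,0,0,2,1,1]), (2, [0,2,0,0,2,1,1,2]), (2, [2,2,1,1,2,0,2,1]), (2, [1,2,1,2,0,0,2,0]),
   (2, [2,1,3,0,3,1]), (2, [1,3,3,1,2,2,2,0]), (1, [2,1,3,1,3,1]), (2, [0,3,1,2,1,1,2,0]), (2, [0,3,0,3,3,0,3,1,1]), (2, [2,1,3,0,2,2,2]),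
   (2, [0,2,1,2,0,2,2]), (2, [3,0,3,0,3,1,3,3]), (2, [2,2,1,3,0,2,1,3]), (0, [0]), (2, [0,3,3,0,0]), (2, [1,2,0,0,2,2,1,1]),
   (2, [0,3,1,2,2,0,3,3]), (2, [3,0,2,0,2,1,1]), (1, [2,0,0,2,1,2]), (2, [3,1,2,0,3,0,2]), (2, [1,2,1,2,2,2]), (2, [0,3,1,2,0,2,0,3,1]),
   (2, [0,2,0,0,3,1,1,3,1]), (2, [3,1,1,3,1,3,1]), (2, [2,2,2,0,2,0,2,0]), (2, [1,3,1,3,1]), (1, [2,2,1,1,3]), (2, [0,3,0,0,2,0,2,0]),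
   (2, [0,3,1,2,2,1,3]), (2, [2,0,2,0,3,1,1]), (2, [0,3,0,0,3,0,0,0]), (2, [0,2,2,2,1,2,1,2,0]), (2, [2,2,2,1,3,1,3,1,3]), (2, [0,2,1,3,3,0]),
   (1, [3,3,1]), (2, [0,3,0,2,1,3,1,3,3]), (2, [1,2,0,0,0,3,1,1,2,1]), (2, [2,2,2,1]), (2, [0,3,1,1,3]), (1, [0,2,0,3,0]),
   (2, [0,3,0,2,0,2,1]), (2, [0,2,1,2,1,1,3]), (0, [1]), (1, [1,3,1,1,3]), (2, [2,0,0,2,1,3,1]), (2, [2,1,2,0,2,2,1,3]),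
   (2, [0,2,2,0,0,3,0,3]), (2, [0,2,0,0,3,3,0]), (2, [2,0,3,1,2,0,3]), (2, [3,1,3,0,3]), (2, [3,0,0,0,3,0,3,1]), (2, [0,3,0,0,2,0,2,1,3,0]),
   (2, [1,3,0,2,1,3,1,3]), (2, [1,3,1,3,3]), (2, [0,2,0,2,0,0,2]), (2, [3,0,2,1,3]), (1, [2,0,0,2,1,3]), (2, [1,3,0,3,1,1,3,0,3]),
   (2, [1,2,0,0,3,0,0,0]), (1, [1,1,2,2,0,2,0]), (2, [0,2,0,3,0,2,2]), (1, [2,0,0,2,0]), (1, [2,1,2,2]), (2, [0,3,0,2]),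
   (2, [0,3,0,3,0,3,1,1,3,1]), (2, [0,2,0,3,1,1]), (2, [0,3,1,1,2,0,2,2]), (2, [3,1,3,0,0,3,0,2]), (2, [3,1,1,3,1,3,0,2]), (1, [2,0,3,1,3]),
   (2, [0,2,0,0,0,2,0]), (2, [1,2,2,2,1,3,1,1]), (2, [2,0,2,0,2,2]), (1, [1,2,2,2,0]), (2, [2,0,0,2,1,1,2]), (2, [0,2,1,1,3,0,2]),
   (2, [2,1,2,1,3,0,0]), (2, [2,2,0,3,0,3,1,1]), (1, [1,2,0,0,2,1,2]), (2, [0,3,1,3,0,3,0]), (2, [3,1,3,0,3,0]), (2, [3,3,0,2,1,2,2]),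
   (2, [1,2,1,2,2,2,0,2]), (2, [3,0,2,0,0,2,0,3,0]), (2, [0,3,0,0,3,1,2,0,2]), (1, [2,0,2,0,3,0]), (2, [0,3,0,2,0,2,1,3,1]), (2, [0,2,2,2,0,2,0,2]),
   (1, [1,2,0,2,2,1]), (2, [0,3,1,2,2,1]), (2, [0,3,0,2,2,2,0,0]), (2, [2,2,2,0,2,2]), (2, [1,2,0,0,0,3,1,2]), (2, [3,0,2,1,1,3,0,3,0]),
   (2, [2,2,0,3,3]), (2, [0,3,0,2,0,2,1,2]), (2, [0,2,2,0,0,2,0,0]), (2, [3,0,2,1,2,2,1]), (2, [3,3,0,2,1,3,0]), (2, [2,0,3,0,0,3,0]),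
   (2, [2,0,0,3,1,2,0,3]), (2, [1,2,1,3,0,2]), (2, [1,2,2,2,1,3,1,1,3,0]), (2, [0,2,1,3,1,3,1,3,1]), (2, [1,3,3,0,0,3]), (2, [0,2,0,3,1]),
   (2, [2,2,0,0,3,0,0]), (1, [1,3,0,2,1]), (2, [2,1,2,0,2,2,2,1,1]), (2, [0,3,0,3,3,1]), (2, [2,2,0,3,3,0,3]), (2, [2,1,1,2,0,2,2,2,0]),
   (2, [3,0,3,0,0,0,3,0]), (2, [0,2,1,3,1,2]), (2, [2,1,2,0,2,1,1,2]), (1, [2,1,1,2]), (2, [0,2,1,2,1,3,1,2,1,2]), (2, [2,0,3]),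
   (2, [2,0,0,3,1,1,3,3]), (2, [0,3,3,1,3,1]), (2, [1,3,0,2,0,3,1,3]), (2, [0,2,1,1,2,1,2,2,1]), (2, [0,3,1,1,3,0]), (2, [3,1,3]),
   (2, [2,1,2,0,2,1,1]), (2, [1,2,0,2,0,2]), (2, [2,1,1,3,1,2]), (2, [0,2,1,2,0,3,3,0,2,0]), (2, [2,1,2,0,3,3,0,3]), (2, [0,3,0,3,0,3,3]),
   (2, [2,1,3,1,1,3,3]), (2, [0,2,0,3,1,1,2,1]), (2, [3,3,0,2,0,2,0]), (2, [0,2,2,1,3,1,3,0,0]), (2, [2,1,1,3,1,2,1,2,0]), (2, [2,1,2,1,1,2,0,2]),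
   (2, [2,0,3,3,1,3,1]), (1, [2,1,3,3]), (2, [0,3,0,0,0,2,2]), (2, [2,2,2,0,3,0,3,1]), (2, [2,2,1,3,3,1,3]), (2, [0,3,0,2,1,2,2,0,3]),
   (1, [3,1,3,1]), (2, [0,2,1,1,2,2,1,3]), (2, [2,1,3,0,3,0,0,3]), (2, [3,0,2,2,2,1]), (2, [0,2,1,1,2,1,3,3,0,3]), (2, [1,3,3,1,2,2]),
   (2, [3,3,1,3,0,0,3]), (2, [0,2,0,3,3,0,3,3]), (2, [3,0,2,2,2,0,3]), (2, [3,0,0,2,1,2,0]), (2, [3,0,0,2,1,3,0,2,0]), (2, [1,3,3,0,0,2,2]),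
   (2, [0,3,0,2,1,2,2,2]), (2, [1,2,1,3,1,3,0,2,2]), (2, [0,3,0,2,1,3,1,2,0]), (1, [1,2,1,2]), (1, [1,2,1,3,0]), (2, [2,0,3,1,2,0,0,2,1,1]),
   (2, [2,0,0,2,0,2,0,3,1]), (2, [0,3,1,3,0,0,3]), (2, [0,3,0,3,0,3,1,1]), (2, [2,1,3,1,1,2,2,2]), (1, [1,1,3,1,1,2,0]), (2, [0,3,1,1,3,1,3,0,2]),
   (1, [0,0,2,1,3,0]), (2, [3,1,2,0,3,1]), (2, [0,2,0,3,1,1,3,1,2]), (2, [0,3,0,3,1,1,3,1]), (2, [0,3,0,0,0,2,1,2,0]), (2, [3,3,1,2,0,2,0]),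
   (2, [0,3,1,1,3,0,3,3]), (2, [0,3,0,0,2,1,3]), (2, [2,0,2,0,2,0,0,3,1,1]), (2, [3,0,2]), (2, [2,1,2,0,2,1,1,2,1]), (2, [0,2,0,2,1,1]),
   (2, [1,2,1,3,1,2]), (2, [3,3,1,3,1,2,0,0]), (2, [3,0,2,0]), (2, [2,1,3,0,0,2,2,2]), (2, [0,2,1,3,0,3,3]), (2, [0,2,1,1,2,0,2,1]),
   (2, [2,1,3,1,3,1,1,2,0]), (1, [2,0,2,2]), (2, [0,3,3,0,2,1,1]), (2, [2,1,2,2,2,0,0]), (2, [2,2,2,1,3,0,0]), (2, [3,0,0,3,1,1,2,2,2]),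
   (1, [1,2,2,2,1]), (2, [0,3,0,2,0,3]), (2, [1,2,1,3,1,2,0,0,2]), (2, [3,0,0,3,3,1]), (2, [0,2,0,0,2,1,1,3,0]), (2, [0,2,0,2,2,2]),
   (2, [3,3,0,3,1,3,1,1,3]), (2, [1,2,1,2,2,2,1,2]), (1, [0,0,3,1,3,0]), (2, [3,0,0,3,1,3,1]), (2, [2,1,2,1,2,2,0,3,1]), (2, [0,2,2,2,0,0,0]),
   (2, [2,1,2,0,0,3,1,3,1]), (2, [1,2,1,2,0,3,3,1]), (2, [1,3,0,3,1,2,1,3]), (1, [0]), (1, [2,1,3,1,3]), (2, [2,0,0,3,3,1,3,0]),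
   (2, [0,2,0,2,2,2,1]), (2, [1,2,1,1,2]), (2, [0,2,0,3,1,3,0,0]), (2, [0,2,2,2,0]), (2, [0,2,1,2,2,2,0,3,1]), (2, [3,1,2,0,0,0]),
   (2, [2,0,2,0,2,0]), (2, [2,1,2,1,1,2,2,2,0]), (2, [3,0,2,0,2,2,1,3]), (2, [2,1,3,1,1,2,1,2]), (2, [1,2,1,2,1,2,2,2]), (2, [2,1,2,1,2,0,2,2,2]),
   (2, [0,2,1,3,1,1,3,0,3]), (2, [0,2,0,2,0,0,2,1]), (2, [3,0,0,3,0,3,1,2]), (2, [3,1,3,3,0,3,1,3]), (2, [0,2,2,2,0,2,1,2]), (2, [1,3,0,3,0,2,1,1]),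
   (2, [2,1,3,1,3,0]), (2, [3,0,3,0,3,3,0,2]), (2, [2,0,3,1,2,2,2,0,3]), (1, [1,3,3,1,1,2]), (2, [3,1,3,0,2]), (2, [2,1,2,0,3,1,1,3]),
   (2, [1,3,0,2,1,2,1,3]), (2, [0,2,1,1,2,1,1,3]), (2, [2,0,2,1,2,0,3,0]), (2, [2,0,0,2,1,1,3,0,0]), (2, [3,1,3,1,2,0]), (1, [2,0,2,1]),
   (2, [0,2,0,3,1,1,3,1]), (2, [0,3,0,2,0,3,1,2,0]), (2, [3,0,3,0,2,1]), (2, [0,2,1,2,0,2,2,1]), (1, [0,0,0,2,0]), (2, [0,2,2,0,3]),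
   (2, [1,3,1,1,3,1]), (2, [2,0,2,0,2,0,0,3,0]), (2, [2,0,3,1,2]), (2, [2,1,2,1,1,3,3]), (1, [0,2,2]), (2, [1,3,3,1,1]),
   (2, [1,2,2,0,0]), (2, [3,0,0,0,2,1]), (2, [2,0,3,3]), (2, [2,0,3,3,0,3,0]), (2, [1,2,1,3,0,0,3,3]), (2, [1,2,1,3,1,3,0,2]),
   (2, [1,2,1,3,0,0,3,1,2,2,1]), (2, [1,2,2,2,1,2,1,2,0]), (2, [0,3,1,1,3,0,0,3]), (2, [2,0,3,1,3,0]), (2, [3,3,1,3]), (2, [0,3,3,0,3]),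
   (2, [1,3,1,1,3,0,2]), (2, [0,2,1,2,2,2,0,2,2]), (2, [3,3,0,3,3,0]), (2, [0,3,1,3,0,0]), (2, [2,1,3,1,3,1,2,2]), (2, [3,0,2,1,1,3,1]),
   (2, [1,2,1,2,0,2,0,2,1]), (2, [0,3,1,1,2,1,3]), (2, [2,2,1,2,2,2,0]), (2, [1,2,1,3,1,3,3,0,2]), (2, [2,1,2,1,3,0,3,0]), (2, [0,2,2,2,1,2,1,1,2]),
   (2, [0,3,0,3,1,1,2]), (2, [1,2,0,3]), (2, [1,3,0,3,0,0,0,2,0]), (2, [0,3,0,2,0,3,1,3]), (2, [3,0,3,1,2,1]), (2, [2,2,1,2,2,2]),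
   (1, [0,2,0,2,0]), (2, [2,0,0,3,0,3,0,2]), (2, [2,1,1,2,0,3,0,3]), (2, [0,3,0,3,3,0,0]), (2, [3,1,2,0,0,2,1]), (2, [0,2,0,2,2,0,0,3,0]),
   (2, [0,3,0,3,1,1,2,0]), (2, [0,2,0,0,3,3,0,0,3]), (1, [2,2,1,3]), (2, [1,2,0,2,1,2]), (1, [0,3,0,0,3,0]), (2, [2,0,0,2,1]),
   (2, [3,1,2,1,2]), (1, []), (1, [3,0,3,0,2]), (2, [1,2,1,3,0,0,2,1,3]), (2, [3,0,2,1,2,0]), (2, [3,3,0,2]),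
   (1, [1,1,2,1,1]), (2, [0,2,1,1,3,1,2,2]), (2, [2,1,3,1,3,1,2,0]), (2, [3,0,0,3,1,1,2,1]), (2, [3,1,3,3,0,2,0,3]), (2, [1,3,0,3,1,1,3,1,1,2]),
   (1, [1,1,3,1]), (1, [1,2,0,0,0]), (2, [2,1,1,2,0,2,2,2]), (2, [1,3,3,0,0,2,1,1]), (2, [3,0,3,0,0,0,2,1,1]), (2, [2,2,0,0,3,0]),
   (2, [2,1,3,0,0,0,3,3]), (2, [2,0,2,0,2,1,2,1]), (2, [3,1,3,0,2,0,2,1]), (2, [2,2,1,2,2,1]), (2, [2,1,3,0,0,2,2]), (2, [3,0,2,1,2,2,2]),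
   (2, [2,1,1,2,1,2,1,3,0]), (2, [1,2,1,3,0,0,2]), (2, [0,3,1,2,0,2,0,2]), (2, [3,1,1,2,2,1]), (2, [0,3,1,1,2,1,2,0]), (2, [1,3,0,0,0,2,1,3,0]),
   (2, [0,3,0,2,1,3,0,0]), (2, [3,3,1,2,0,2,2]), (2, [0,2,2,0,2,1,2,2]), (2, [2,0,0,3,0,0,2,2]), (2, [3,1,3,0,2,2]), (2, [1,2,1,2,1,1,3]),
   (2, [0,3,0,2,0,0,3,0]), (2, [2,2,1,3,1,3,1,3,1]), (2, [2,0,0,2,1,2,2,1]), (2, [0,3,0,0,3,0]), (2, [2,0,3,3,1,3,0]), (2, [1,3,0,2,0,0,3,1,1]),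
   (2, [1,3,0,2,0,3,0,2]), (2, [1,2,0,0,0,2,0,0]), (1, [2,1,1,2,0]), (1, [3,1,2,0]), (1, [1,2,1,3,3,0]), (2, [0,2,1,3,0,3,1,1]),
   (2, [0,3,1,2,0,3,1,1,2]), (2, [3,0,2,0,0,2,1]), (2, [2,0,3,1,2,1,3]), (1, [1,2,1]), (2, [2,1,2,0,2,1,3]), (2, [0,2,2,0,3,3,1]),
   (2, [2,2,0,3,1,2]), (2, [2,1,2,1,1,2]), (2, [2,1,2,0,0,3]), (2, [0,2,1,1,2,1,2,0,0]), (2, [3,1,3,0,3,3,0]), (2, [2,2,1,3,0,2,0]),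
   (2, [2,0,0,2,0,3,1]), (1, [3,1,3,3,0]), (1, [2,0,2,1,1,2]), (2, [3,1,3,1,3]), (2, [1,2,2,0,3]), (2, [2,0,0,2,0,0,0]),
   (2, [1,3,0,2,2,1,2]), (2, [3,1,2,0,2,0,3]), (1, [1,3,1,3,0]), (2, [3,3,1,2,1,1,2,1]), (2, [0,2,2,0,0,2,1]), (1, [0,3,1,2]),
   (2, [2,0,2,2,1,1,2,1]), (2, [3,0,2,2,2,1,2,0]), (2, [2,0,3,1,1,2,1]), (2, [1,2,0,2,0,0,3]), (2, [2,0,2,2]), (2, [3,0,2,1,2,0,2,2]),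
   (2, [2,1,3,1,2,0,0,0]), (2, [0,2,2,2,1,2,0,3,0]), (2, [2,1,3,1,3,0,3]), (2, [0,2,1,2,1,2,2,0,2]), (2, [0,3,1,1,2,2,2,1]), (2, [2,2,1,2,0,0,0]),
   (2, [2,2,0,2,2]), (2, [2,1,3,1,1,3,1,2]), (2, [3,0,0,0,2,0,0,2]), (2, [1,3,0,2,0,3,3,1]), (2, [0,3,3,1,2,0,3,1,1]), (2, [3,0,2,1,3,1,3,0]),
   (2, [3,1,1]), (2, [0,2,1,3,0,0,0,3,0]), (2, [0,2,2,2,1,2,2]), (2, [2,0,0,3,1,1,3,0,0]), (2, [0,2,0,0,3,0,3,0,0]), (2, [2,0,3,0,3,0,2,1]),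
   (2, [0,3,1,1,2,1,2]), (2, [0,2,1,2,1,3,0,2]), (2, [3,3,1,2,1,3,0]), (2, [3,3,0,0,0]), (2, [3,0,3,0,0,3,0,3,3]), (2, [2,1,3,1,1,3]),
   (2, [2,1,3,0,3,1,1,3,3]), (2, [3,0,2,1,1,2,0]), (2, [3,0,0,3,0,3]), (2, [2,2,1,3,0,3,1,3,0]), (2, [2,0,0,2,1,1,3,1]), (2, [3,0,2,2,1,3,3]),
   (2, [2,0,3,0,0,2,2]), (2, [0,2,1,3,0,0,0]), (1, [1,2,1,2,0,0]), (1, [0,2,0,2,0,0]), (2, [0,2,0,0,0,2,0,0]), (2, [0,3,1,3,1,3,1,3]),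
   (2, [0,2,1,2,0,0,2]), (2, [0,2,2,0,2,1,2,1]), (2, [2,0,2,0,0,3,1,2]), (2, [0,3,0,0,3,3,1]), (2, [1,2,1,2,1,1,2,1,2]), (2, [3,1,2,0,3,0]),
   (2, [1,2,1,2,1,3,0,0,3]), (2, [2,2,1,3,0,3,0]), (2, [1,2,1]), (2, [1,3,3,0,0,0,2]), (1, [2,0,2,2,2,0]), (2, [1,3,3]),
   (2, [3,0,3,0,0,3,1]), (2, [0,2,1,2,2,2,1,2]), (2, [2,2,2,0,0,2,1]), (2, [3,0,0,3,1,1]), (2, [1,2,1,2,1,1,3,0,0,3]), (2, [2,0,2,2,1,3,3,1]),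
   (2, [2,0,0,2,1,2,0,3]), (2, [0,2,0,3,1,1,3,3]), (2, [0,2,1,1,2,0,3,3]), (2, [2,0,3,1,3,3,1]), (2, [0,2,0,2,2,1,2,0,0]), (2, [0,2,0,0,0,2,1,3]),
   (2, [1,3,3,1,3,0]), (2, [2,2,2,0,3,1,1,2]), (2, [0,3,3,1,3,1,2,1,1]), (2, [2,0,3,1,1]), (2, [0,2,0]), (2, [1,3,3,1,1,2]),
   (2, [0,3,1,1,3,0,0]), (2, [3,0,0,2,0]), (2, [0,3,1,1,2,2]), (2, [2,0,0,3,1,2,0,3,3]), (2, [0,2,1,3,0,0,2,1]), (1, [2,0,3,0]),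
   (2, [2,0,2,0,3,0,0,0]), (2, [0,2,2,2,0,2,0,2,0]), (1, [1,2,1,3,1]), (2, [0,2,0,0,2,0,2,2]), (2, [3,1,2,0,0]), (2, [2,0,3,0,0,2,0,3]),
   (2, [2,0,3,3,1,2,1,1]), (2, [0,3,0,2,0,0,0]), (1, [1,2,0,0,3,3]), (2, [0,3,0,3,0,2,1,3,3]), (2, [0,3,0,3,3,1,3]), (1, [0,0,3,1,1]),
   (2, [0,2,2,2,1,2,1,3,1]), (2, [3,1,3,0,0,3,0]), (2, [0,2,2,1,2,0]), (2, [3,0,2,1,3,1,1,3]), (2, [0,3,0,2,1,1,3]), (1, [2,0,2,2,2,1]),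
   (2, [0,3,0,0,2,1,2,0]), (2, [0,3,0,0,0,2,1,3]), (2, [2,0,0,0,3,0,2,1,3]), (2, [2,1,3,0,3,1,2,2]), (2, [0,2,1,3,1,1,3]), (2, [0,2,1,2,1,3,0,2,2]),
   (2, [2,0,2,0,2,2,2,1]), (2, [1,2,1,2,1,3,3,0,2]), (2, [3,0,2,1,3,0,2]), (2, [2,0,3,0,0,3]), (2, [3,3,0,0,3,1,2]), (2, [2,0,2,1,1]),
   (2, [3,3,0,2,1,3,3]), (2, [0,3,0,2,0,0,2,1,3]), (2, [0,2,0,2,0]), (2, [3,0,0,2,1,1,3,0,2,1]), (2, [2,1,1,3,1,3]), (2, [2,2,1,3,1,3,0]),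
   (2, [2,1,3,1,1,2,1,2,1]), (2, [2,1,2,0,3,1,3,1,3]), (2, [2,1,2,2,2,0,2,2,2]), (2, [3,1,3,1,2]), (2, [0,3,1,2,0,2,0,3]), (2, [0,2,2,2,1,1,2,2]),
   (2, [3,1,2,1,3]), (2, [3,1]), (2, [2,0,0,3,1]), (2, [1,3,1,2,2,0,0,2]), (2, [1,2,0,0,3,3,0]), (2, [2,0,2,1,3,1,3]),
   (2, [0,3,1,1,2,1,1,2]), (2, [2,0,2,1,3,0]), (2, [1,3,0,2,0,3,0,2,1]), (1, [2,0,0,3,1]), (2, [2,1,1,2,1]), (2, [0,2,2,2,1,2,2,2,0]),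
   (2, [0,2,1,2,2,0,2,1,3]), (2, [3,0,0,0,3,0,0,3]), (2, [2,1,3,0]), (2, [2,0,0,3,0,0,2,2,0]), (2, [1,3,0,3,0,2,0,0]), (1, [3,0,2,1]),
   (2, [0,3,1,1,2,2,2,0]), (1, [3,0,3,1,2]), (2, [2,0,0,3,3,0]), (2, [3,3,1,2,1,3]), (2, [3,0,0,2,1,1,3]), (1, [2,2]),
   (2, [2,1,3,1,3,1,1,2]), (2, [1,3,0,0,0,3,0,2]), (2, [3,3,1,3,1]), (2, [2,1,2,1,3]), (2, [3,0,0,3,0,0]), (2, [2,0,0,2,1,1,3,0]),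
   (2, [1,2,2,0,0,3,1]), (2, [2,0,3,0,3,0,3]), (2, [2,0,3,1,2,2,2,0]), (2, [3,0,0,3,1,1,3]), (2, [1,3,0,2,0,2,2,2,0]), (2, [2,0,3,1,1,3,0,0,2]),
   (2, [3,0,2,2,1,2,2]), (2, [0,2,2,2,1,2,0,0]), (2, [0,3,1,3,3]), (2, [3,3,1,3,1,1]), (2, [2,0,2,2,1,1,2,0,2]), (2, [0,2,1,3,0,3]),
   (2, [2,1,2,1]), (2, [1,2,1,2,0,3,3,0]), (1, [1,3,0,2,1,2]), (2, [0,2,2,0,2,2]), (2, [0,2,0,0,3,0,0]), (2, [1,2,1,3,0,2,0]),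
   (2, [0,3,1,3]), (2, [0,2,1,2,2]), (1, [3,0,2]), (2, [2,2,0,3,3,0,2]), (2, [2,0,0,2,1,2,0]), (2, [1,2,1,2,2,2,0,3]),
   (2, [2,0,0,2,0,0,2,2]), (2, [3,1,2,0,2,0,2]), (2, [2,1,3,0,2,0,3,3,0]), (2, [3,1,3,0,2,2,2]), (2, [0,2,0,2,2,1,2]), (2, [1,3,1,3,1,2]),
   (2, [2,2,0,3,0]), (2, [1,2,1,2,1,2,2,0,2]), (2, [0,2,1,3,3,1,2,2]), (2, [3,0,0,2,1,3,0]), (2, [0,3,0,2,0,2,0,3]), (1, [1,3,0,2,0,0]),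
   (2, [2,0,2,2,1,1]), (2, [3,1,3,3,0,2,1,1]), (2, [0,3,0,2,0,0,3,0,2]), (2, [1,3,0,3,1,1,3,1,1,3]), (2, [0,2,0,2,0,3,0,3]), (2, [2,2,2,1,3,1,2,0]),
   (2, [2,2,0,3,0,3,1,1,3]), (2, [1,3,0,3,1,1,2,1,3]), (2, [2,1,2,1,3,0,2,2]), (1, [1,2,1,2,0]), (2, [0,3,0,2,2,1,2]), (2, [2,2,2,1,3,1,3]),
   (2, [2,2,1,3,3,1,2]), (2, [2,0,0,3,3,1,2]), (2, [0,3,0,0,2,1,3,1]), (2, [2,2,2,0,3,1,2,2]), (2, [0,2,2,0,2,0,2]), (2, [0,3,1,1,3,0,2,1]),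
   (2, [2,0,2,1,1,2,1,1]), (2, [0,2,2,0,2,0]), (1, [3,1,3,1,1,2]), (2, [2,0,3,1,2,2,2]), (2, [2,1,3,1,1,3,0,3,3]), (2, [0,3,1,3,1,2,1]),
   (2, [3,1,3,1,3,0]), (2, [2,0,0,2,0,0,2,2,1]), (1, [3,1,2,2,2,0]), (2, [3,0,3,0,3,3]), (2, [0,2,2,0,3,3,0]), (2, [1,3,3,0,0,3,1,2]),
   (1, [1,3,1,2,0,0]), (2, [2,1,2,1,1,2,2,2,1]), (2, [1,2,0,0,2]), (2, [2,0,0,3,0,2,1,2]), (2, [0,2,0,0,0,3,1,1,3]), (2, [3,3,0,2,0,0,3,0]),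
   (2, [3,1,2,0,2,0,2,1]), (2, [0,3,3,0,2,0,3,0]), (2, [0,3,1,2,0,3,1,1]), (2, [0,3,3,0,0,2]), (2, [2,0,3,0,0,3,1]), (2, [3,0,0,0,2,0,2,0]),
   (2, [3,3,1,2,1,3,0,0]), (2, [2,0,2,0,2,1,1,2]), (2, [2,1,2,1,2,2]), (2, [2,0,2,1,3,1,2]), (2, [2,1,2,2,2,1,3,0,0]), (2, [3,0,0,2,1,3,0,3]),
   (2, [0,3,1,1,3,1,2,0]), (2, [0,3,1,1,2,1,2,2,2]), (2, [2,0,0,3,0,2,0,3,3]), (2, [0,2,1,1,2,2]), (1, [2]), (2, [3,0,3,0,2,1,1]),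
   (2, [1,2,1,3,0,2,0,3]), (2, [3,0,3,0,3,1,1,3,1]), (2, [2,1,3,1,2,0,0]), (2, [3,1,3,0,2,2,0]), (2, [1,2,2,1,1]), (2, [1,2,1,2,1,1,2,0,2]),
   (2, [0,3,0,2,0,0,3,3]), (2, [0,2,0,3,0,0]), (2, [2,1,2,0,3,0,0,0]), (2, [0,2,0,0,2,0,2]), (2, [0,2,2,2,1,1,2,1,2]), (1, [0,0,0,3]),
   (2, [0,2,1,2,1,1,2,2,0]), (2, [0,3,1,2,2,0,3]), (2, [0,3,0,3,1,1,3,1,3,1]), (2, [2,1,3,1,1,2,0,0,0]), (2, [0,2,0,2,1,2,1,1,2]), (1, [0,0,2,1,1,2]),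
   (2, [3,0,0,2,2,1]), (2, [2,1,2,0,0,3,0,2]), (2, [0,2,1,3,1,1,2]), (2, [2,1,3,3,1]), (2, [2,1,1,3,3,0,0,2]), (2, [0,3,1,1,3,0,0,3,3]),
   (2, [2,0,3,1,3,1,3]), (2, [1,2,1,3,1,2,0]), (2, [1,2,0,0,3,1]), (1, [2,2,0,3,0]), (2, [3,3,1,3,0,0,2]), (2, [1,2,2]),
   (2, [2,0,0,2,0,2,2]), (2, [1,3,3,0,0,3,3]), (1, [1,2,1,1,3,0]), (2, [2,2,2,1,3,1,2,0,3]), (2, [0,2,0,2,1,2,0]), (2, [0,3,0,0,2,0,3,0]),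
   (2, [0,3,1,1,3,0,0,3,1]), (2, [2,0,0,3,0,2,1]), (2, [1,2,1,3,1,3,3,0,3]), (2, [0,3,1,2,2]), (2, [2,2,2,0,0,2,1,1,2]), (2, [2,1,2,1,2,2,0]),
   (2, [1,2,1,2,2,2,1,3]), (2, [2,0,2,2,1,1,2,0,3]), (2, [0,2,0,2,1,1,3,0,3]), (2, [2,1,3,1,1,2,0,2]), (2, [2,0,0,3,1,3,0,3,0]), (2, [3,0,0,2,0,2,0]),
   (2, [0,3,0,2,0,3,3,1]), (2, [2,1,3,0,3,0,0,2]), (2, [2,1,2,2,2,1,1]), (2, [0,3,1,2,2,2,0]), (2, [0,3,1,2,0,2,0,3,3]), (2, [3,0,3,3,1,3,1,3]),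
   (2, [2,1,2,0,2,2,1,1]), (2, [0,3,0,3,1,3,1]), (1, [0,0,3,1,1,3]), (2, [3,0,0,0,2,2]), (1, [1,1,3,0,2,0]), (2, [1,3,0,3,1,3,1,2]),
   (2, [1,3,0,2,2,1,2,1]), (2, [2,2,1,3,0,3,0,3]), (1, [0,2,1,1,3,1]), (2, [1,2,0,2,0,0,3,0,0]), (2, [0,2,1,3,1,1,3,1]), (2, [0,2,2,2,1,1,3,0,0]),
   (2, [1,2,1,2,0,2,2,1]), (2, [1,2,1,3,0,3,1,2]), (2, [2,0,3,1,2,2,2,1]), (2, [0,2,1,3,0,0,2,1,2]), (2, [1,3,0,2,2,2,0,0]), (2, [2,0,3,1,2,1]),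
   (2, [0,2,0,0,3,3,1]), (2, [0,3,3,1,2,0,3,0,0]), (2, [0,3,0,2,1,1,2,2,0]), (2, [3,1,1,3,1,2,0]), (2, [2,2,2,1,3,1,2,0,2]), (2, [0,2,1,1,3,3,1]),
   (2, [3,0,3,1,3,3]), (1, [0,3,1,1,2,0]), (2, [2,2,1,3,1,3,3]), (2, [0,2,0,3,1,1,3,1,1]), (2, [0,2,2,1,3,1,2,1]), (2, [0,2,0,2,1,2,0,2]),
   (2, [1,2,0,0,3,1,1]), (2, [2,1,2,2,2,0]), (2, [2,2,1,1,2,1]), (2, [2,1,3,0,2,0,3,1]), (1, [2,0,0]), (2, [3,0,3,0,2,0,0,3]),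
   (1, [2,2,0,3,1]), (2, [0,2,1,1,2,1,3,1]), (2, [2,2,2,0,3,3]), (2, [0,3,1,2,2,0,0,3]), (2, [0,3,0,2,2,1,3,3]), (2, [0,2,2,2,0,2,0,3]),
   (2, [3,1,2,0,2,0]), (2, [2,1,2,0,3,1,1,2]), (2, [1,2,1,2,0,2,1,3]), (2, [3,3,0,2,2,0]), (2, [2,1,3,1,2,1,1,3]), (2, [2,2,1,1,3]),
   (2, [2,1,3,1,2,0,2]), (2, [0,3,0,3]), (2, [2,2,2,1,3,1,2]), (2, [0,2,1,2,1,3,1,2,2]), (2, [1,2,0,3,1,3,0]), (2, [1,2,1,2,1,3,0,3]),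
   (2, [2,0,0,3,0,3,1]), (2, [1,3,0,2,0,0,2,0,2]), (2, [2,0,2,0,0,2,2]), (2, [2,2,1,2,0,3]), (2, [0,2,0,3,1,3,0]), (2, [1,3,0,0,0,3,0,2,1]),
   (2, [2,1,2,0,2,0,2,2]), (2, [3,0,2,1,3,3,0]), (2, [1,3,3,1]), (2, [3,1,2,0,0,2,0,0]), (2, [2,0,0,0,3,0,0]), (2, [1,2,1,2,2,2,1]),
   (2, [2,1,2,1,3,0,2,2,2,0]), (2, [1,2,0,0,0,2,0,3,3]), (2, [2,0,2,0,2,2,2,0]), (2, [3,0,0,2,1,3,1]), (2, [0,2,0,3,3,0,2,1,2]), (2, [0,3,0,2,0,2,1,2,0]),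
   (2, [0,3,1,1,3,1,3]), (2, [3,1,3,1,2,2,1]), (2, [2,0,2,0,3,1,3,1,3]), (2, [2,2,0,0,3,1]), (2, [0,2,1,3,1,1,3,0]), (2, [0,3,0,0,2,1,2]),
   (2, [1,2,1,2,0,0,3,1,2,0]), (2, [0,3,0,3,0,0,3,1,3]), (2, [0,3,0,3,1,2,0]), (2, [1,3,0,3,0,2,1,2,1]), (2, [1,2,2,0,2,1]), (2, [0,2,2,1,3]),
   (2, [3,1,3,0,0,2,1]), (1, [0,2,0,0,2]), (1, [0,2,0,3,1,3,3]), (2, [0,3,0,2,2,2]), (2, [3,0,0,2,1,1,3,1]), (2, [3,1,1,2,2]),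
   (2, [0,3,0,2,0,0,2,1,2]), (2, [3,0,3,1,3,3,0]), (2, [3,1,3,0,0,2,1,2,0]), (2, [1,2,1,3,0,2,0,0]), (1, [1,3,1,1]), (2, [1,3,1]),
   (2, [1,2,1,3,0,0,3,0,0]), (2, [0,2,2,2,0,3,0,2,1]), (2, [3,1,2,0,0,2,0,2,1]), (2, [2,1,2,0,2,1]), (2, [0,2,0,2,0,0,0]), (2, [3,0,0,3,3,1,2,1]),
   (1, [1,1,3,0,0]), (2, [0,2,0,0,0,2,2,1]), (2, [0,2,1,2,1,1,2,2]), (2, [2,0,0,3,0]), (2, [3,3,1,2,0,3,0]), (2, [1,2,2,2,1,2,0,0,0]),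
   (2, [3,0,2,1,2,0,3,3]), (2, [0,2,2,0,3,3,1,1]), (2, [2,0,0,3,0,3,0,3]), (2, [0,3,1,2,2,0,2,1]), (2, [0,3,0,0,3]), (1, [3,1]),
   (2, [0,2,0,3,1,1,2,1,2]), (2, [0,3,0]), (2, [2,0,0,2,0,3,1,1]), (2, [0,3,0,0,2,2]), (2, [0,3,1,1,2,0,3,3]), (2, [1,3,0,0,0,2,1,3]),
   (1, [2,0,0,2,2,2,1]), (2, [0,2,1,1,2,0,3]), (1, [1,2,1,1,2,1]), (2, [3,3,0,2,0,3]), (2, [0,3,0,3,0,2,1,3,0]), (2, [2,2,1,3,1,3,3,0]),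
   (2, [0,3,3,1,3,1,2,0]), (1, [0,0,0,2,0,3,3]), (2, [0,3,0,0,0,2,1,1]), (2, [0,2,2,2,0,3,0,3,3]), (2, [1,3,1,2,0,2,1]), (2, [3,0,2,2,2,0]),
   (2, [0,3,0,3,1,3,1,1]), (2, [3,0,2,0,2,2,1]), (2, [0,2,2,1,3,1,2]), (2, [0,3,0,2,0,3,0]), (1, [0,3,0,0,2]), (1, [1,2,0,0,2,1]),
   (2, [2,0,2,1,1,2,0,2,0]), (2, [0,3,1,1,2,1,2,0,3]), (2, [0,3,0,0,2,1]), (2, [0,2,1,2,0,0,2,2]), (2, [0,2,2,1,3,1,2,0]), (2, [0,2,1,3,0,2,0,3,0]),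
   (2, [1,3,3,0,0,3,0]), (1, [2,2,1,2]), (2, [3,0,2,1,1,3,0,3]), (2, [3,0,0,0,3,1]), (2, [1,3,0,3,0,0]), (2, [1,2,1,2,0,0,2,2,0]),
   (2, [0,2,2,2,1,3,0,0,3]), (2, [0,2,1,1,3,0,0,2,1]), (2, [3,1,3,0,3,0,0]), (2, [0,2,2,2,1,1,3,3]), (2, [2,0,0,2,1,1,2,1]), (2, [0,3,3,0,2,0,3,3]),
   (2, [3,0,0,3,0,3,1,3,1]), (2, [2,0,0,2,1,2]), (2, [0,3,1,2,2,0,0]), (1, [3,3,0,3,0]), (2, [0,2,0,0,3,3,0,0]), (2, [2,1,3,0,0,0,2,0,0]),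
   (2, [2,1,3,1,3,0,3,0]), (2, [3,3,0,2,0,2,2]), (2, [0,3,1,1,2,0,2,2,2]), (2, [3,0,0,2,0,3]), (2, [1,3,1,2,2,0,3]), (2, [2,1,3,1,3,0,2]),
   (2, [1,2,0,0,0,3]), (2, [0,3,1,1,3,0,3,1,3]), (2, [2,1,2,1,1,3]), (2, [3,0,2,1,2,0,2]), (2, [3,0,2,0,0,2,0,3]), (2, [3,1,3,0,0,3,1,1]),
   (2, [3,3,1,1,2]), (2, [2,1,1,2,0,2,0,0,2]), (2, [0,3,0,2,1,3,1,3]), (2, [1,2,2,1,1,3,3]), (1, [1,3,1]), (2, [2,0,2,0,2,0,0,3]),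
   (2, [1,3,0,2,2,2]), (2, [2,0,3,1,3,3]), (2, [1,3,0,3,0,3,3]), (2, [3,0,3,0,0,2]), (2, [2,2,2,0,3,1,1]), (2, [1,2,1,2,0,2,2,2]),
   (2, [0,2,0,3,3,0,2]), (1, [3,1,2,1,3,0]), (2, [3,1,1,3,1,2,0,3]), (1, [2,1,2,0,2]), (2, [2,0,0,2,0,2,1,3]), (2, [0,3,1,2,0,0,0]),
   (2, [3,0,3,1,1]), (2, [0,2,1,1,3,1]), (1, [0,2,2,1,3,1]), (2, [0,3,3,1,2,0,3,0,3]), (2, [1,3,1,1,3]), (2, [2,2,1,3,0,2]),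
   (2, [1,3,0,2,0,0,2,2]), (2, [0,3,1,2,0,2]), (2, [0,3,0,3,1,1,2,1,2]), (2, [2,1,2,0,2,0,0,2]), (2, [3,3,1,3,1,1,2]), (2, [3,1,2,0]),
   (2, [3,1,3,0,3,1]), (2, [2,2,0,3,3,0,2,1]), (2, [3,1,2,2,1,1]), (2, [3,1,3,0,3,1,2]), (2, [2,2,2,1,2,0,0,2]), (2, [3,0,0,2,0,0,2,2]),
   (2, [0,3,3,1,3,0,3]), (2, [2,1,2,1,3,0,0,0]), (2, [2,0,0,0,3,0,2]), (2, [0,2,1,1,3,0,0,3,3]), (2, [3,1,3,0,0,2,1,3]), (2, [2,2,0,0,3,1,1]),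
   (2, [1,2,0,0,0,3,1,1,2,0]), (2, [1,2,1,2,0,0,2,2]), (2, [2,1,2,0,2,0,0]), (2, [0,2,0,0,0,2,0,0,3]), (2, [0,2,0,0,3,0,3,0]), (2, [3,1,3,3,0,2,1,3]),
   (2, [1,3,0,2,0,0,3]), (2, [1,3,0,3,0]), (2, [1,2,1,2,1,1,2,2,1]), (2, [1,3,0,3,0,3,3,1,2]), (2, [2,2,2,0,3,0,2,0,3]), (2, [1,3,0,3,0,2,0]),
   (1, [3,1,2,2,2]), (2, [1,3,0,3,0,3,1,1]), (2, [0,2,0,0,0,2,0,2,1]), (1, [2,2,0]), (2, [2,1,2]), (2, [3,3,1,2,1,1,2,0]),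
   (2, [3,0,2,2,2,1,1]), (2, [3,0,3,0,3,3,1,2]), (2, [2,1,2,1,2,0,2,2,1]), (2, [1,2,0,0,0,2,0]), (1, [1,2,2,2,1,2]), (2, [2,0,0,3,1,1,2,2,1]),
   (2, [0,3,0,2,1,2,2,0]), (2, [2,0,2,0,2,1,1]), (2, [3,1,2,2,1,3]), (2, [3,1,2,2,1,2,1,3,1]), (2, [0,2,1,2,1,3,0,2,0]), (2, [2,1,2,0,3,0,2,2]),
   (2, [2,1,2,0,2]), (2, [2,2,1,2,0,3,0]), (1, [3,1,2,1,1]), (2, [1,2,0,3,1,1,3]), (2, [1,2,1,3,0,2,0,0,2]), (2, [3,1,2,0,3,1,1]),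
   (2, [2,1,3,1,2,1,1]), (2, [1,3,0,2,0,0,3,0]), (1, [2,0,0,3,1,3]), (2, [3,3,0,2,0,2,0,0]), (2, [2,2,2,0,3,0,0,0]), (2, [0,3,1,2,0]),
   (2, [3,0,0,0,2,0,2,1]), (1, [0,3,1,3,0,3]), (2, [1,3,3,1,2]), (2, [2,1,2,0,2,0,0,2,2]), (2, [2,2,1,1,2,0,2]), (2, [0,3,0,0,3,3,0,0]),
   (2, [0,2,2,0,3,0,2]), (2, [0,3,3,1,3,1,2,1]), (1, [2,2,1,2,2]), (2, [0,3,1,1,3,1,3,0]), (2, [2,2,2,0,3,1,1,3]), (2, [1,2,1,2,0,2,0,3,1]),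
   (2, [1,2,2,1,1,3]), (2, [3,1,2,0,3,1,3]), (2, [2,0,0,2,0,0,2]), (2, [0,2,0,0,3,3,1,3,0,0]), (1, [0,2,2,1,3,3]), (1, [2,0,0,2,2]),
   (1, [2,2,0,0,2]), (2, [1,2,1,2,0,0,3]), (2, [3,1,3,3]), (2, [1,3,0,3,1,1,3,0,2]), (2, [0,2,0,0,3,3,1,3,1,1]), (2, [2,2,1,1,3,1,3]),
   (2, [2,2,2,0,3,1,3]), (2, [0,3,3,1,2,0,3]), (2, [2,0,2,1,3,1,1,2]), (2, [1,2,0,3,0,0,2,0]), (2, [2,2,0,3,0,2,0,2]), (2, [0,2,2,1,3,1,3]),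
   (2, [3,1,1,3,1,3,1,3,1]), (2, [0,2,1,3,0,2,1,3,3]), (1, [1,3,1,3]), (1, [1,3,3,1,2]), (2, [3,1,2,0,0,2,0]), (2, [0,3,0,2,2,2,0]),
   (2, [1,3,0,2,1,1,3,0]), (2, [1,3,0,0,0,2,1,1,2]), (2, [0,3,1,1,3,1]), (2, [1,2,1,3,3,1]), (2, [0,3,1,3,1,2]), (2, [1,2,1,2,2,2,0]),
   (2, [3,0,3,0,3,1,3]), (2, [0,3,0,2,1,3,0]), (1, [0,2,0,0,3]), (1, [2,1,3,1,3,1,2]), (1, [0,3,1,3,0]), (2, [2,1,2,0,2,2]),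
   (1, [1,1,3,1,2,1]), (2, [0,2,0,3]), (2, [3,3,0,3,1,2,0]), (1, [1,1,3,1,2]), (2, [0,2,0,0,2,0,2,0]), (2, [3,0,2,0,2,0,3,0]),
   (2, [0,3,0,3,3]), (2, [0,3,1,1,2,2,0,3,0]), (2, [2,0,0,2,0,2,1,2]), (2, [1,3,1,3,1,3]), (2, [2,2,2,1,1]), (2, [2,1,3,1,2,1,1,2]),
   (2, [0,3,0,3,0,0,2,1,3]), (1, [2,2,2,1]), (2, [3,0,3,1,2,2,1,2,1]), (2, [2,0,3,1,3,1,2,0]), (2, [2,1,2,0,0,2]), (2, [0,3,0,2,0,3,1,3,1]),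
   (2, [0,2,1,1,2,1,2,2]), (2, [2,1,2,0,3,0]), (2, [1,3,3,0,0,0]), (1, [0,3,3,1]), (2, [0,3,0,0,0,3,1,1]), (2, [0,2,2,0,3,0,3,1]),
   (2, [0,2,0,0,0,2,0,2,0]), (2, [3,3,0,2,1,3,3,0]), (2, [1,2,1,2,1,3]), (2, [0,2,0,0,3,3,1,3,0]), (2, [3,0,0,3,1]), (2, [2,2,1,1,2,2,1]),
   (2, [0,2,1,1,3,3]), (2, [2,2,1,2,0,3,0,2]), (2, [2,0,2,0,0,3]), (2, [0,3,3,0,0,2,1,3]), (2, [1,3,0]), (2, [1,2,1,2,1,2,2,0]),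
   (2, [0,2,1]), (2, [3,3,1,1,2,0,3,1]), (1, [1,3,0,2,2]), (2, [2,0,0,0,3,0,2,1,2]), (2, [2,0,3,0,3,0,2]), (2, [2,1,3,1,3,1,1]),
   (2, [3,1,3,3,0,3,1]), (2, [3,1,3,0,3,0,3]), (2, [1,2,0,0,0,3,1]), (2, [2,0,0,2,0,3,1,2]), (2, [2,0,0,2,1,3,0]), (2, [3,0,2,1,3,1,2]),
   (2, [3,0,3,0,0,2,2]), (2, [2,1,1]), (2, [0,2,0,0,2,1,1]), (2, [2,0,0,3,1,1,2,2]), (2, [2,0,3,1,1,2]), (2, [1,3,0,2,0,3,0]),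
   (2, [1,2,1,3,0,0,3,3,0]), (2, [2,2,1,3]), (2, [2,0,3,3,0,3,3]), (2, [0,2,0,0,3,1,1,3]), (2, [0,2,2,0,3,0,3]), (2, [1,2,1,2,0,3]),
   (2, [0,3,0,2,2,1,1,3]), (2, [0,2,1,2,1,1,2]), (2, [2,1,3,0,0,3]), (2, [0,2,1,1,3]), (2, [1,2,1,2,0,0,3,3]), (2, [2,0,3,0,2]),
   (2, [2,0,0,2,0,2,2,1,2]), (2, [1,2,1,2,1,1,3,3]), (2, [3,3,1,2,1,1,2,0,0]), (2, [2,1,2,1,3,0,2,0]), (2, [2,2,1,2,1,3]), (2, [0,3,0,0,3,1,3,1]),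
   (2, [2,2,2,1,3,0,0,2]), (2, [2,1,2,1,3,1,2]), (2, [0,3,3,1,3,3]), (2, [0,2,1,3,1,1]), (2, [0,2,2,2,1,3,1,3]), (2, [0,2,2,2,1,1]),
   (2, [0,3,1,2,1,1]), (2, [2,2,2,0,3,0,2,0]), (2, [2,1,3,1,1,3,0]), (2, [0,3,1,2,2,0,2,0]), (2, [1,3,0,2,1,1,2,1,3,0]), (2, [0,2,2,0]),
   (2, [1,2,0,0,3,3,0,2]), (2, [1,3,0,3,1,2,0,3]), (2, [1,2,1,2,0,3,1,2]), (2, [0,3,0,2,0,0,2,0,2]), (2, [2,0,0,3,1,3,0]), (2, [3,0,2,1,1,3,0]),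
   (1, [2,1,2,0,3,0]), (2, [1,2,1,2,1,1,2,0,0]), (2, [3,3,0,2,0,2,1,2]), (1, [2,0,0,2,0,3]), (2, [2,1,1,2,0,3,1,2]), (2, [1,2,2,0,2,1,3]),
   (2, [3,1,2,0,3,1,1,2]), (2, [1,2,1,2,1,2,0,0]), (2, [3,1,3,1,3,3]), (2, [0,2,0,2,1,2,1,3]), (2, [2,2,2,0,3,1,2]), (2, [2,0,3,1,3,1,1,3]),
   (1, [0,3,0,2]), (2, [3,3,0,3,1,2]), (2, [1,3,1,2,2]), (1, [1,2,2]), (1, [0,3,3,0,3,3]), (2, [0,2,2,1,1,2,1]),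
   (2, [3,3,1,2]), (2, [0,2,1,2,1,1,2,2,2]), (2, [1,3,3,0,0,3,1]), (2, [2,0,2,2,1,3,3]), (2, [0,3,0,2,1,2]), (2, [2,2,0,3,1,2,1,2,0]),
   (2, [2,2,0,3,1,2,1]), (2, [3,3,0,0,2,1]), (2, [3,0,3,0,3,3,1,3]), (2, [1,2,0,0,0,2,0,0,2]), (2, [2,0,2,0,2,2,2]), (2, [1,3,0,3,1,2,1,1,3]),
   (2, [3,1,3,0,0]), (2, [1,3,0,2,1,1,3,1,1]), (2, [0,2,2,2,0,2,2]), (2, [0,2,1,3,0,0,0,3]), (1, [3,3,0,2]), (1, [3,3,0,0]),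
   (2, [0,3,0,2,1,2,2,0,2]), (1, [3,1,2,0,2,1,1]), (2, [2,1,3,1,2,1]), (1, [3,1,3,1,3]), (2, [3,1,2,2,1,2,0]), (2, [2,2,1,3,1,3,1]),
   (2, [3,0,0,0,2,1,2,1,1]), (2, [3,3]), (2, [3,0,2,1,2,1,1]), (2, [2,1,2,2,0,3,3,1]), (2, [3,0,0,0,2,0,2,0,2,1]), (2, [1,2,2,1,1,2,0]),
   (2, [3,0,2,0,2,2]), (2, [3,1,2,2,1,2,2,2,1]), (2, [2,1,3,1,1,3,0,3]), (2, [1,3,1,2,0,3]), (2, [3,0,0,3,1,1,3,1]), (2, [3,3,0,3,3,0,2]),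
   (1, [3,1,3,1,1]), (2, [0,2,1,3,0,0,2]), (2, [3,0,2,1,3,1]), (2, [2,1,2,1,3,0,2,2,2]), (2, [2,0,0,2,0,2]), (1, [1,2,1,3,3]),
   (2, [1,3,3,1,1,2,0]), (2, [0,2,0,0,3,3,1,3,1]), (2, [2,2,0,3,0,0]), (2, [2,2,1,3,0,3,1]), (2, [0,2,0,2,1,2,0,0]), (2, [2,0,0,2,1,1,2,1,2]),
   (2, [2,1,1,2,0,2,1,3]), (2, [0,3,0,3,3,1,3,1]), (2, [0,2,0,2,2,1,3,0]), (2, [3,0,2,1,2,0,0,3]), (2, [1,3,0,2,2,2,1]), (2, [1,2,0,3,1,1,3,0,0,2]),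
   (2, [0,2,1,1,2,0,0,0]), (2, [2,1,2,1,3,3]), (2, [3,0,0,2,1,2]), (2, [0,2,1,2,1,3,1]), (1, [1,2,0,0,3,1]), (2, [0,2,0,2,1]),
   (1, [1,2,0,0,2]), (2, [0,2,1,2,1,3,0,3,0]), (2, [0,3,0,2,1,3,1]), (2, [1,2,1,3,0,0,2,2,2,0,0]), (2, [0,2,0,0,3,3,0,2]), (2, [0,3,0,2,0,3,3,0,3]),
   (2, [1,2,1,3,1,1,2]), (2, [0,3,3,1,2,0,3,0,0,3]), (2, [1,3,0,2,1,1,2,1,3]), (2, [3,3,1,3,1,2,1,1]), (2, [0,2,0,2,2,0,0]), (2, [2,0,3,1,2,0,0,2,1,3]),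
   (2, [0,2,0,3,0,0,0,2]), (2, [2,1,3,1,1,3,1]), (2, [2,1,1,3,3,0,0]), (2, [2,1,2,0,0,3,1,2]), (2, [1,3,0,2,1,2,1,3,1]), (2, [1,2,0,0,2,2]),
   (2, [3,0,0,0,2,0,0]), (2, [2,0,0,3,0,3,1,1,3]), (2, [2,2,0,3,0,2]), (1, [3,0,3,1]), (2, [0,2,0,0,0,3,1,2,0,2]), (2, [3,0,2,1,2,0,3,0]),
   (1, [3,1,2,0,2,1]), (2, [0,2,1,2,1,2,0,2]), (2, [2,1,2,1,1,2,2]), (1, [3,1,2,0,3]), (2, [3,0,0,3,1,1,2,1,2]), (2, [2,1,2,2,2,0,2]),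
   (2, [0,3,0,3,3,0,0,0]), (2, [2,1,2,0,3,3,0,2]), (2, [2,0,2,2,1,3]), (2, [3,1,2,2,1,2,1,3]), (2, [1,2,1,2,0,0,0,2]), (2, [2,1,2,1,3,0,3,3,1]),
   (2, [3,0,3,1,2,2,1,2]), (2, [0,3,0,0,2,2,0]), (2, [2,2,2,1,2,1,2,0,3]), (2, [0,2,0,3,1,2]), (2, [2,2,2,1,3]), (2, [2,1,3,0,0,3,1,3]),
   (2, [0,3,1,2,2,0]), (2, [1,2,0,0,0,2,1,3,1]), (1, [3,1,2,1]), (1, [3,0,2,0,3]), (2, [0,3,1,2,0,2,1,2]), (2, [2,1,2,2]),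
   (2, [0,2,0,0,3,0,3,0,3]), (2, [0,3,0,2,2,1,3,0]), (2, [3,0,2,2,0,0,0]), (2, [0,2,0,0,0,2,0,0,2]), (2, [2,2,1,3,3,0]), (2, [0,2,2,1,3,3]),
   (2, [0,2,1,2,2,0,2]), (2, [3,0,2,0,2,0]), (2, [2,0,2,2,1,1,3,1]), (2, [0,2,0,0,2,0,3,3]), (2, [2,1,2,1,1,3,0]), (2, [2,2,1,1,2,2,2]),
   (2, [2,1,2,2,1,3,1]), (2, [0,2,0,0,0,2,0,0,2,0]), (2, [0,3,0,0]), (2, [3,1,2,1,1,3,0,3]), (2, [0,3,3,0,3,3]), (2, [2,0,2,2,1,1,2,0]),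
   (2, [2,0,0,2,0,3,3,0]), (2, [3,1,2,1,1]), (2, [2,0,0,3,1,1,2,0]), (1, [0,2,0,0,0]), (2, [2,1,2,1,1,3,0,2,1]), (2, [2,2,1,3,0,3,0,2]),
   (1, [1,1,3,1,1,2]), (1, [3,0,2,0]), (2, [0,2,0,0,2,2,1,1]), (2, [3,1,3,3,0,0]), (2, [0,3]), (2, [3,3,1,3,0,0]),
   (1, [3,3,1,3,3]), (2, [3,3,0,2,1,3,1]), (2, [3,0,2,1,3,0]), (2, [1,2,1,3,0,3,0,2]), (2, [0,2,0,3,1,3,1]), (2, [2,1,3,0,2,2,1]),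
   (2, [0,2,1,1,2,0,0,2]), (2, [2,1,3,1,3,1]), (2, [1,2,1,3,1,3,0,0,2]), (2, [0,2,0,3,0,0,3]), (2, [0,2,1,3,0,2,0,3,1]), (2, [2,0,2,0,0,3,1]),
   (2, [2,1,2,0,2,0,3]), (2, [2,2,1,2,2]), (2, [3,1,3,3,0,2,0,2]), (2, [3,0,2,0,2,1]), (2, [2,0,2,0,0,3,0,0,0]), (2, [0,2,0,0,3,0,2,1,3]),
   (2, [0,3,0,2,1,1]), (2, [1,2,0,2,1,1,2,1,2]), (2, [3,3,1,1,2,1,1]), (2, [2,2,2,0,2,1]), (2, [0,3,1,2,0,0,3]), (2, [2,2,1,3,0,3,0,3,3]),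
   (2, [2,2,2,0,0,2,0]), (2, [2,2,1,2,0,0,2,1]), (2, [2,1,3,1,2,0]), (2, [0,2,2,0,2,0,2,0]), (2, [2,2,0,3,0,3,1,2]), (2, [0,2,2,1,1,2,2]),
   (2, [2,0,0,2,0,3,3,0,2]), (2, [0,2,1,2,0,0,3,3]), (2, [0,3,0,0,3,1,1,2]), (2, [3,0,0,0,2,0]), (2, [0,3,0,3,0,3,1,1,3,0]), (2, [3,0,0,2,1,2,0,3]),
   (2, [2,1,2,1,1,2,1,2]), (2, [2,1,3,0,3,1,1,2,0]), (2, [0,3,3,1,2,1,3,1,1]), (2, [0,3,1,2,0,0]), (2, [3,1,2,0,0,3,1,2]), (1, [1,3,0,0,3,0]),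
   (2, [1,2,0,2,0,0,3,1]), (2, [2,0,2,0,3,1,2,0]), (2, [2,2,2,0]), (2, [1,2,1,3,0,0,2,1,1]), (1, [2,2,0,2,0,3]), (2, [0,2,1,2,0,0,3,1,2]),
   (2, [1,2,2,2,1,2]), (2, [1,3,0,0,0,3,0]), (2, [3,0,0,0,3,0]), (1, [1,3,3,1,3,3]), (2, [2,0,0,2,1,1]), (2, [3,3,0,2,0]),
   (2, [1,2,1,3,0,0,3,1,2]), (2, [0,2,1,2,1]), (1, [1,2,0,0,3,0,2]), (2, [3,0,2,0,2]), (2, [2,0,3,1,2,0,3,3]), (2, [2,2,2,0,3,0,0,2]),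
   (2, [3,0,3,1,2,1,1]), (2, [3,3,0,3,1]), (2, [3,0,0,2,0,0]), (2, [1,3,1,3]), (2, [1,3,0,2,0,2,1,3]), (2, [0,3,0,2,1,1,2,2]),
   (2, [2,1,2,0,0,3,3,0,0]), (2, [0,3,3,0,2,2,1]), (2, [2,1,1,2,0,3,0,3,3]), (1, [1,3,1,1,3,0,3]), (2, [0,2,2,2,1,3,0,3]), (2, [0,2,0,0,3,3,1,3]),
   (2, [2,1,2,1,2,2,0,2]), (2, [3,1,2,2,2]), (1, [0,0,0,2,0,0]), (2, [0,3,0,2,0,2,2,0]), (2, [2,1,2,1,2,0,0,3]), (2, [0,3,1,3,0,2]),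
   (2, [0,2,0,0,2,1,3]), (2, [1,2,0,3,1,1]), (2, [3,0,3,3,0]), (2, [1,2,0,0,0,3,1,1]), (2, [3,0,3,1,1,2,1,1]), (1, [3,1,3,0,0,3]),
   (2, [0,3,0,2,0,0,2,1]), (2, [1,2,1,2,0,2,2]), (2, [0,3,1,1,2,1,2,2]), (2, [0,2,2,2,0,2,0]), (2, [2,0,0,3,1,1,3,0,3]), (2, [3,0,2,0,0,0]),
   (2, [3,1,2,2,1,2,1]), (1, [0,0,2,0,3,1]), (2, [2,1,2,0,3,1]), (2, [2,2,1,2,2,0]), (2, [1,3,0,2,0,3,0,3]), (2, [0,2,2,2,1,3,0,0]),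
   (1, [2,0,3,1,3,1]), (2, [1,2,2,2,1,3]), (2, [0,2,2,1,1,2]), (1, [2,0,2,0,0,0]), (2, [1,2,1,2,1,2,2,1]), (1, [1,1,2,1]),
   (2, [0,2,1,2,1,1,2,1]), (2, [3,0,0,3,1,2,2,2]), (2, [3,0,0,2,0,2,0,2]), (2, [2,0,2,0,3,0,3,3]), (2, [2,1,1,2,2,0,0]), (1, [1,3]),
   (2, [0,3,3,1,3,1,3,0,3]), (2, [0,3,0,0,3,0,2]), (2, [2,0,3,1,2,2,1,2]), (2, [2,1,3,1,2,0,3,3]), (2, [2,1,2,0,2,1,1,3]), (2, [2,0,3,0,0,2,2,2,1]),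
   (2, [0,2,2,2,0,3]), (2, [1,2,1,3,1,1,3,0,2]), (2, [2,1,2,0,2,0,2]), (2, [3,0,3,1,3,3,0,3]), (1, [0,3,3,0,2,1]), (1, [3,3,0]),
   (2, [0,2,1,1,2,0,0,3,1]), (2, [0,3,3,0,2,0]), (2, [3,1,3,1,3,3,0]), (2, [3,0,0,2,0,0,2]), (2, [0,2,2,2,1,1,3,0]), (2, [0,3,0,3,0,2,1,2,2]),
   (2, [2,2,1,3,3,1]), (2, [2,0,2,1]), (2, [2,1,1,2,1,2,1]), (2, [0,2,1,1,3,0]), (2, [3,0,3,1,3,0]), (2, [2,1,1,3,1,3,1]),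
   (2, [2,2,2,1,2,0,2]), (2, [1,2,0,3,0,2,0]), (2, [3,0,0,0,2,0,0,3,0]), (2, [2,2,0,0,3,1,3,0]), (2, [3,0,0,3,1,1,2,2]), (2, [0,3,0,3,0,0]),
   (2, [0,3,1,2,0,2,1]), (2, [3,0,3,0,0,3,0]), (2, [2,1,3,1,3,0,0]), (2, [0,3,0,3,1,1]), (2, [0,2,1,1,2,2,0,0]), (2, [3,0,2,1,3,1,3]),
   (1, [1,3,3,1,3]), (2, [3,0,0,2,1,1,2]), (2, [3,0,0,3,1,2]), (2, [1,3,3,1,3]), (2, [0,2,2,0,2,2,2,0]), (2, [3,1,3,3,0,2,0]),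
   (2, [2,1,3,0,3]), (2, [1,2,1,3,0,0,3,0,0,3]), (2, [2,1,2,1,1,2,2,2]), (2, [0,3,3,1,2,1,3]), (2, [1,3,0,0]), (1, [1,3,1,1,3,0]),
   (2, [2,0,2,0,2,1]), (2, [1,2,1,3,0,0,3,1]), (2, [3,0,3,3,0,0,3,1]), (2, [2,0,0,0,3,0,2,1]), (2, [2,0,2,1,2,1,2,0,3]), (2, [2,1,2,1,1,3,1,1,3]),
   (2, [3,0,2,1,2,0,0,0]), (2, [2,1,3,0,3,3]), (2, [0,3,0,2,1,2,2]), (2, [0,2,2,2,1,2,1,3]), (2, [3,1,2,2,1,3,3]), (2, [2,0,0,3]),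
   (2, [3,0,0,0]), (2, [0,3,1,3,0]), (2, [0,2,1,2,1,3,0]), (2, [0,2,1,2,1,1,3,0]), (2, [2,2,2,0,2,1,3]), (2, [0,2,0,0,0,2,1]),
   (2, [0,2,2,0,2,1]), (1, [2,0,2,0,2]), (1, [0,3,3,0,2,0]), (2, [2,2,2,1,2,1]), (2, [0,2,1,2,1,3,1,2,1]), (2, [3,0,0,2,2]),
   (2, [0,3,0,3,0,3,1,3,3]), (2, [3,0,0,2,0,3,1]), (2, [0,2,1,2,0,3,3,0]), (2, [3,0,0,3,3,1,2]), (1, [2,0,2,2,2]), (2, [2,1,2,1,3,1,2,1]),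
   (2, [1,3,3,1,3,1,2,0]), (2, [2,1,2,2,0,3]), (2, [0,2,2,2,1,2,1,3,1,3]), (1, [3,1,3,1,2]), (2, [0,2,1,2,0,2,2,1,1]), (2, [2,0,2,1,1,3,3,1]),
   (2, [2,1,2,1,1,2,2,1]), (2, [1,3,0,3,0,0,3,0,3]), (2, [1,3,1,2,1]), (2, [1,2,1,2,0,2]), (1, [0,0,0,3,0]), (2, [1,3,0,2,0,2,1]),
   (2, [0,2,2,0,0,3,3]), (2, [0,2,1,1,2,0,0,2,0,2]), (2, [2,1,2,1,2,0,3]), (2, [2,2,1,3,1,3]), (2, [1,2,1,2,1,1,2,2,2]), (2, [2,1,3,0,0,3,1]),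
   (1, [1,3,0,3,1,1]), (2, [3,1,2,0,0,3]), (1, [1,2,1,3]), (2, [2,2,2,1,2,1,3,3]), (2, [2,0,0,2,1,1,2,2]), (2, [3,1,3,1,2,2]),
   (2, [1,2,1,3,1,1,2,2]), (2, [0,3,0,0,2,0,2,1,2]), (2, [3,0,0,3,1,3,0,3]), (2, [0,2,0,0,3,1,1,3,0]), (2, [1,2,0,0,0,3,1,1,3]), (1, [0,3,1,3,3]),
   (1, [2,0,2,0,3]), (1, [3,3,0,2,1]), (2, [0,2,2,2,1,1,3]), (1, [1,2,1,1,3]), (2, [0,2,0,0,0]), (2, [1,3,0,2,0,2,2,1,2]),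
   (2, [2,1,2,0,0,3,1]), (2, [1,2,1,2,0,3,3,1,2,0]), (2, [0,2,1,3]), (2, [1,2,1,2,0,2,0,2]), (2, [1,3,3,0,3]), (2, [2,0,2,1,2,1]),
   (2, [2,1,2,2,2,0,3,3,0]), (2, [2,0,2,0,0,3,0,0]), (2, [3,1,3,1,3,0,3]), (2, [0,2,1,3,0,0,3,0]), (2, [3,1,2,2,1,2,0,2]), (1, [2,1,3]),
   (2, [2,2,2,0,3,0,3,1,2]), (2, [1,2,2,2,1,2,0,0]), (2, [0,2,1,2,0,2,2,1,3]), (2, [2,0,0,3,0,2]), (2, [0,2,2,2,1]), (2, [0,3,0,3,1,2,0,0]),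
   (2, [3,0,2,0,2,0,3]), (2, [2,1,2,1,1,2,0,0]), (2, [2,2,2,0,0,2,0,2]), (2, [2,2,0,3,1,3,0,0]), (2, [3,0,2,1,1,2,2,2]), (2, [0,3,0,2,0,3,1,2]),
   (2, [3,0,2,0,0,3,3]), (1, [2,2,0,3]), (2, [0,2,2,2,1,2,1,2]), (2, [2,0,3,1,2,2,1]), (2, [2,0,3,1,3,1,3,1,3]), (2, [2,1,2,0,0,2,2]),
   (2, [0,2,0,2,2,1,1,2,1]), (2, [3,0,0,3,0]), (1, [2,2,0,3,0,3]), (2, [3,1,3,0,0,2]), (2, [3,3,1,2,0,3,0,3]), (2, [0,2,2,2,0,2]),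
   (2, [0,2,2,2,0,0,0,2]), (2, [1,2,0,0,3,1,3]), (2, [0,2,0,2,1,2,1,3,0]), (2, [3,0,3,1,1,2]), (2, [2,0,0,2,1,2,0,3,1]), (2, [3,1,2,2,1,3,3,0]),
   (2, [1,2,1,2,1,2,2]), (2, [2,0,0,2,0,3,1,3]), (2, [2,0,2,0,3,0,3]), (2, [0,2,0,2,2,0,0,2]), (2, [1,2,1,3,1,3,1,2]), (2, [2,1,3,1,3,1,1,3]),
   (2, [2,2,2,0,2,2,1]), (2, [3,3,1,1,2,0]), (2, [1,2,2,2,1,2,1,1]), (1, [3,1,2,2]), (2, [3,0,2,0,2,2,1,3,1]), (2, [2,1,2,0,2,0,2,1]),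
   (2, [1,3,0,2,0,0,3,0,2]), (2, [0,2,1,2,2,2]), (2, [1,2,1,3,0,0,2,0,3]), (2, [0,3,3,1,2,2,0]), (1, [1,3,1,3,1,1]), (2, [1,2,1,2,1,2]),
   (2, [1,3,0,2,1,1,2,2]), (2, [0,2,1,3,0,2,0,2,1]), (2, [3,1,2,0,2,0,3,0]), (2, [0,2,1,1,2,1,3,3,0]), (2, [2,1,3,0,3,0,3,1,3]), (2, [0,3,1,2,1]),
   (2, [0,2,1,3,3,0,0,0]), (2, [2,0,0,0,3,1]), (2, [3,0,0,2,1,3,0,3,1]), (2, [2,1,2,1,2,0,2,2]), (2, [3,0,2,2,2,1,2]), (2, [2,2,2,1,2,2]),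
   (2, [0,3,0,3,0,2,1,2]), (2, [3,0,3,0,2,1,3]), (2, [2,0,0,2,1,1,3,1,1]), (2, [0,3,0,3,0,2,1,1,2,1]), (2, [0,3,0,2,1,3,0,0,0]), (1, [3,1,3,3]),
   (2, [2,0,2,1,3,1]), (2, [3,0,3,3,1,2,0]), (2, [3,0,0,2,2,2]), (2, [0,3,1,3,1,3,1,1]), (2, [0,2,0,3,3,0,2,1,3]), (2, [0,2,0,3,1,2,0,0]),
   (2, [1,3,0,3,1,2,0,0]), (2, [3,0,0,0,2,1,1]), (1, [0,2,2,1,2]), (2, [3,0,2,0,0,2,1,2]), (2, [1,2,0,0,0,2,2]), (1, [2,2,1,1]),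
   (2, [1,3,0,2,2,2,0,2,1]), (2, [0,2,0,3,1,2,1]), (2, [1,3,0,3,1,2,1]), (2, [2,2,2,1,3,0]), (2, [0,3,1,1,2,0,3,1,2]), (2, [2,1,3,1,1,2,1,3]),
   (2, [2,1,1,2,1,3]), (2, [2,0,2,0,2,0,0,0]), (2, [3,3,0,0]), (2, [3,3,1]), (2, [0,3,0,3,1,3,1,2,0]), (1, [0,2,0,3]),
   (2, [2,1,2,2,2,0,3,1]), (2, [2,0,3,0,0,3,0,0]), (2, [3,0,2,1,3,1,1,3,1]), (2, [2,0,2,2,1,1,2]), (2, [1,3,1,2,2,0,0]), (2, [0,2,0,2,2,1,3,0,0]),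
   (2, [2,1,2,0,0,2,0,2]), (2, [0,3,3,0,0,3,0]), (2, [2,0,3,3,1,3,0,3]), (2, [0,3,1,1,2,0,0,0]), (2, [1,2,1,3,0,0,3,0,2]), (2, [0,3,0,3,1,3]),
   (2, [3,3,1,1,2,0,2]), (2, [3,0,0,0,3,0,2,1]), (2, []), (2, [0,3,3,1,3,0]), (2, [2,2,0,0,0]), (2, [1,3,0,0,0,3,0,3]),
   (2, [2,1,1,2,0,3,1,3,1]), (1, [2,2,2]), (2, [3]), (2, [1,3,0,2,0,3,1,1]), (1, [1,1]), (2, [3,1,2,2,1,3,0]),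
   (2, [0,2,1,2,0,3]), (2, [3,0,2,1,3,0,0]), (2, [1,2,1,3,1,1,2,0,3]), (2, [2,1,2,0,2,2,1]), (2, [2,1,2,0,2,0]), (2, [0,2,0,3,1,1,3,1,3,0]),
   (2, [2,1,2,2,2,1]), (2, [0,3,3,0,0,3]), (2, [0,2,0,3,3,0,3]), (2, [1,2,0,2,1,1]), (2, [0,2,1,2,1,1,3,0,0]), (2, [2,1,3,0,3,1,3,0]),
   (2, [0,2,1,3,3,0,0]), (2, [1,3,0,2,1,2,2,1]), (2, [1,3,0,3,0,2,1,2]), (1, [3,0,3,1,1]), (2, [0,2,1,3,0,2,0]), (2, [0,2,1,1,3,0,2,1]),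
   (2, [3,3,0,2,1,3]), (2, [2,0,0,3,1,2,0,0]), (2, [0,3,3,0,2,1,2]), (2, [2,0,2]), (2, [1,2,2,0,0,3]), (2, [1,2,0,2,1,1,2,1,3]),
   (2, [0,2,2,0,2,1,2]), (2, [3,0,0,2,1,3,0,2]), (2, [3,0,0,2,0,3,3,0,2]), (1, [0,2,1,1]), (2, [3,0,2,1,2,0,3]), (2, [3,1,3,3,0,2,1]),
   (2, [3,0,3,1,2,2,1]), (2, [2,1,3,0,3,1,1]), (2, [0,2,0,2,0,0,3,3]), (2, [0,3,1,2,0,3,0]), (2, [0,2,0,0,2,1,2]), (2, [0,3,3,1]),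
   (1, [2,0,0,3,3]), (2, [0,2,2,0,0,2,0]), (1, [0,0,2,1,3]), (2, [0,2,0,0,3]), (2, [1,3,3,0,3,1]), (2, [2,1,2,0,3,3,0,3,1]),
   (2, [0,3,1,1,2,0]), (2, [3,3,1,1]), (2, [0,3,0,2,2,2,1]), (2, [2,0,2,0,0,2]), (2, [0,2,1,2,2,2,0,2]), (2, [2,0,3,1,1,3,3]),
   (1, [2,0,3,0,0,3]), (2, [0,2,1,3,1,3,1,3]), (2, [1,3,0,3,0,0,3,0,0]), (2, [1,2,1,3,1,3,0]), (2, [0,2,1,2,2,2,0]), (2, [3,0,3,1,3]),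
   (2, [0,2,0,2,1,2,1,1]), (2, [0,2,0,0,3,0]), (2, [0,3,3,1,2,1,3,1,2,0]), (2, [3,3,0,0,3,1]), (2, [2,1,3,0,0,0,2,1]), (2, [0,3,3,0,0,3,3]),
   (2, [2,0,2,1,1,2,2]), (2, [0,2,2,2,0,3,0]), (2, [1,2,1,3,3]), (2, [3,3,0,2,2,1]), (2, [1,2,0,2,0,0,2]), (2, [0,3,0,2,1,3,0,0,3,1]),
   (1, [1,2,0,0,2,0,0]), (2, [0,2,0,2,0,3,0,0,3]), (2, [0,3,0,3,0]), (2, [0,3,3,1,2,0,3,1,2]), (2, [2,1,2,2,2,0,3]), (2, [0,2,0,2,1,2,1]),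
   (2, [3,1,2,2,1,3,1]), (2, [1,2,0,0,0,3,0,0]), (2, [2,0,3,1,1,3,1,3]), (2, [0,2,1,2,1,2,0]), (2, [0,2,2,0,0,3,0]), (2, [2,0,0,3,0,0,2,1,1]),
   (2, [1,2,1,2,1,2,2,2,1]), (2, [0,2,0,3,3,0,2,2]), (2, [0,3,0,2,2,0,3]), (2, [2,2,0,0,3,1,3,0,0]), (2, [3,1,3,0,3,1,3,1]), (2, [0,3,0,2,0,2,0,0]),
   (2, [0,3,0,2,1,3,0,0,3]), (2, [0,3,0,2,2,1,3]), (2, [2,0,0,3,3,1,3]), (2, [0,3,0,3,0,3,3,0,3]), (2, [0,2,0,3,0,0,0,2,0]), (2, [2,2,0,3,3,1]),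
   (2, [1,2,0,3,1,3]), (2, [3,3,0,2,1,2]), (2, [0,3,0,3,1,3,1,2,0,3]), (2, [3,3,1,2,0,3,1]), (2, [1,2,0,2,1,3]), (2, [2,1,3,1,3,1,2]),
   (2, [2,1,3,1,3,0,3,0,0]), (2, [1,3,1,1,3,0]), (2, [1,2,1,2,0,0,2,0,0]), (2, [0,3,1,1,2,0,0,2]), (2, [2,2,1,3,3]), (2, [1,3,3,1,2,0,3,1]),
   (2, [1,2,1,3,1,3,0,0,3]), (2, [0,3,0,2,0,2]), (2, [0,3,1]), (2, [0,2,0,2,1,2,0,0,0]), (2, [0,2,0,2,1,2,1,1,3]), (2, [1,2,1,2,0,0,2,0,2]),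
   (2, [2,2,1,2,0,2,0]), (2, [1,2,1,2,0,0]), (2, [3,3,0,0,2,0]), (2, [2,1,1,3,3,0]), (2, [1,2,1,1,2,1]), (2, [2,1,3,1,1,2,2,1]),
   (2, [2,1,2,0,0,3,3]), (2, [2,0,2,1,3]), (1, [1,1,2,2,0,2]), (2, [3,1,2,2,2,0]), (2, [3,0,3,0]), (2, [0,3,0,2,0,2,1,2,1]),
   (2, [0,3,0,2,2,2,1,1,2]), (2, [0,2,1,3,0,3,1,3,3]), (2, [0,3,0,3,0,0,3,0,3]), (2, [0,3,0,0,2,0,2,1]), (2, [0,2,2,2,1,1,2,0]), (2, [1,2,0,2,0,2,1]),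
   (2, [0,3,1,1,2,0,0,3]), (1, [0,0,0,2,0,2,1]), (2, [0,3,0,0,2,0]), (2, [0,2,1,3,0,2,0,3,0,2,1]), (2, [0,2,2,0,0,3]), (2, [3,0,0,0,3,0,0]),
   (2, [1,3,0,2,1,1,3,0,2]), (2, [0,2,1,3,0]), (1, [0,0,0,2,0,2,2]), (2, [3,1,2,1,2,1]), (2, [0,2,0,2,1,1,3,0,2]), (2, [1,3,1,2,2,2]),
   (2, [2,2,1,1,2,1,1]), (2, [0,2,1,2,2,2,0,2,2,2]), (2, [1,2,1,2,1,1]), (2, [3,0,0,2,0,0,3,1]), (2, [1,2,1,3,0,3,3,0]), (2, [0,3,0,2,0,3,1,2,0,3]),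
   (2, [3,1,3,0]), (2, [2,0,3,3,1,2,0,0]), (2, [0,3,0,2,1,3,1,2]), (2, [3,0]), (2, [3,1,2,0,0,0,2]), (2, [2,1,2,0,3,1,3,1]),
   (2, [2,0,0,2,0,2,0,3,0]), (2, [0,3,1,3,1,3,1]), (2, [1,2,1,2,1,2,0,2]), (2, [1,2,0,3,1,1,3,0,0]), (2, [3,1,2,1,1,3,1,1]), (2, [0,3,0,0,0,2,0]),
   (2, [2,2,1,1,3,1]), (2, [2,0,2,0,3,1,3,1]), (2, [1,2,1,2,0,0,0,2,1]), (1, [1,2,1,3,0,3,0]), (2, [2,2,2,0,3,0,2,1]), (2, [0,3,0,3,1,2,0,2,1]),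
   (2, [0,2,1,2,1,2]), (2, [1,3,0,2,1,1,2,2,2]), (2, [1,2,1,2,0,2,2,1,3]), (2, [1,3,0,3,1,3,0,2]), (2, [0,2,0,3,0,2]), (2, [2,0,0,3,1,1,3]),
   (2, [2,2,2]), (2, [0,2,1,3,0,0,0,3,0,0]), (2, [2,1,1,2,0,2,0]), (2, [2,2,2,0,3,0,3]), (2, [0,3,3,0,2,1,3,3]), (2, [2,0,2,2,2,0,0,2]),
   (2, [2,0,0,2,1,3,0,2]), (2, [3,0,3,0,2,0,0]), (2, [0,3,1,1,2,0,2]), (2, [3,3,1,1,2,1,1,2]), (2, [0,3,1,1,2,0,0,2,1]), (2, [2,1,2,2,2,1,2,1,1]),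
   (2, [0,2,2,0,3,0,3,3]), (2, [0,3,0,0,0,2,1,1,3]), (2, [2,0,2,0,0,2,1,3,1]), (2, [2,1,3,1,1,2,0]), (2, [3,0,0,2,0,3,0,0]), (2, [3,1,2]),
   (2, [0,3,1,2,2,0,2,1,2]), (2, [2,1,3,0,3,1,3,1]), (2, [2,1,1,2,0,2,2]), (1, [3]), (2, [1,2,0,3,1,3,1]), (2, [1,3,0,3,1,1,2]),
   (2, [0,3,3,0,0,0]), (2, [1,2,1,3,1,1,3,0,0]), (2, [0,3,0,0,0,2,1]), (2, [2,0,0,0,3]), (2, [0,2,1,2,1,3,3]), (2, [2,0,0,2,0,0,3,3]),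
   (2, [2,0,0,2,1,1,2,2,1]), (2, [3,3,1,3,1,1,2,0]), (2, [3,0,0,0,3,3]), (2, [3,0,2,1,2]), (2, [2,0,3,1,2,0,3,3,1]), (2, [0,2,1,3,3,1,1,2]),
   (2, [3,0,0,2,2,2,0,3,1]), (2, [0,2,0,3,3]), (2, [0,3,1,1,2,1,3,3,0,3]), (2, [0,2,2,0,0]), (2, [3,0,2,2,0,3]), (2, [0,3,1,1,3,3,0,2]),
   (1, [1,3,0,0,2,1]), (2, [0,3,0,0,3,0,2,1]), (2, [3,1,2,0,2]), (2, [3,1,3,0,2,1]), (2, [0,3,3,1,1]), (2, [2,0,0,3,0,0,3,3]),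
   (2, [0,3,1,3,1,2,0]), (2, [3,1,1,3,1]), (2, [2,1,3,3,1,2,2]), (2, [1,2,1,2,1,2,2,1,3]), (2, [0,2,2,2]), (2, [1,2,1,2,1,2,2,1,2]),
   (2, [0,2,2,1,1,2,1,2]), (2, [3,1,3,1,1]), (2, [1,3,0,0,0,3,3]), (2, [3,0,0,0,3,0,0,2]), (1, [0,2,0,3,1,3,1]), (2, [1,3,3,0,0,2,1]),
   (2, [0,2,2,1]), (2, [2,1,2,0,0,3,3,0]), (2, [0,3,1,2]), (2, [3,0,0,2,0,2,2,1,2]), (2, [1,2,1,3,1,1,3,0,0,3]), (2, [0,3,0,0,3,3,1,3,0]),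
   (2, [1,2,1,2,0,3,1,2,0]), (2, [2,2,1,2,2,0,3,0]), (2, [2,0,0,3,0,0,2,1]), (2, [0,3,1,2,1,2,1]), (2, [2,0,0,3,1,1,3,0]), (2, [0,2,2,1,1]),
   (2, [2,0,0,3,0,3,1,1]), (2, [1,2,1,2,0,0,0,3]), (2, [0,2,2,1,2,2,2]), (2, [0,2,1,2,0,0,3,1,2,0]), (2, [3,0,0,3,1,1,2,0]), (2, [2,1,2,1,1,3,1,3]),
   (2, [1,2,1,3,0,0,0,2,1]), (2, [1,2,1,2,1,1,2,2]), (2, [1,2,2,1,1,3,1,1]), (2, [1,3,3,0,0,2]), (2, [2,1,1,2,0,2,1]), (2, [0,2,1,3,3,1,1]),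
   (2, [3,0,0,3,1,2,1,3]), (2, [3,0,0,3,0,2,2,2]), (2, [1,3,0,0,0,3,0,3,1,2]), (2, [2,2,0,0,3,0,3]), (2, [3,0,0,2,2,2,0,3]), (2, [2,1,2,0,2,2,1,2]),
   (2, [2,2,2,0,0,2,0,0,0]), (1, [0,0,0,2,2]), (2, [2,1,2,2,0,3,3]), (2, [3,1,3,1,1,3,1]), (2, [1,3,0,2,1,3,1,1,2]), (2, [2,1,3,1,3,0,2,2]),
   (2, [3,0,0,0,2,1,2,2]), (2, [2,1,2,0,0,2,2,2]), (2, [1,2,2,2,1,3,3]), (2, [2,1,2,1,2,0,2]), (2, [2,2,1,1,2,0,2,0]), (2, [3,0,2,0,0,2,0,3,1]),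
   (2, [0,3,1,1,3,1,3,1,2]), (2, [1,3,0,2,1,3,1]), (2, [0,2,1,1,2,0,2,2]), (2, [0,3,1,2,0,2,0]), (2, [1,2,1,2,1,1,3,0,3]), (2, [0,3,1,2,1,1,2,1]),
   (2, [2,0,3,1,3,0,0]), (2, [1,3,0,3,0,0,3,3]), (2, [2,0,0,2,1,3]), (2, [2,0,2,2,1,2,2,1]), (2, [0,3,1,1,2,2,2]), (2, [2,0,0,3,1,2]),
   (2, [2,1,2,0,3,3,0]), (2, [3,0,0,3,0,2]), (2, [2,1,2,1,2,0,0]), (2, [0,2,2,1,3,1,3,0,2]), (2, [1,3,3,1,3,1,2,2]), (2, [0,3,0,0,0,3,1,2]),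
   (2, [2,0,0,2,1,3,3]), (2, [0,3,0,3,0,0,2,2,0]), (2, [2,0,0,2,0,2,1,2,1]), (2, [0,3,0,2,2,2,1,2,0]), (2, [1,3,0,3,1,1,3]), (2, [1,3,0,3,1,1,3,1,1]),
   (2, [0,3,3,0,2,2]), (2, [1,3,0,3,1,3,1]), (2, [3,3,0,2,1,3,0,0]), (1, [2,1,2,0,3]), (2, [0,2,0,2,2,1,2,0,0,3]), (2, [0,2,0,3,3,0,2,2,0]),
   (2, [0,2,1,2,1,2,2,2]), (2, [2,0,3,1,3,1,3,1]), (2, [3,0,0,3,3,1,1]), (2, [2,0,3,1,3,1]), (2, [1,3,0,3,0,2,1,3]), (2, [1,2,1,2,0,0,3,0,3]),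
   (2, [1,2,2,2,1,3,1,1,2]), (2, [0,3,1,1,3,1,2]), (2, [0,3,3,0,0,3,3,1]), (2, [3,0,2,0,0,2,1,3]), (2, [0,2,1,3,3,1]), (2, [0,2,0,2,2,2,0,3,1]),
   (2, [2,0,0,3,1,1]), (2, [3,0,3,1]), (2, [0,3,1,2,0,3,0,3,3]), (2, [3,0,2,1,3,0,3]), (2, [0,3,0,0,3,0,3]), (2, [0,3,0,3,0,2,1]),
   (2, [1,2,1,3,0,0,3,1,3]), (2, [0,2,1,1,3,1,2]), (2, [0,2,0,0,3,0,2,1,2]), (2, [1,2,0,0,3,0,2,0]), (2, [3,3,0,3,1,3,1,1]), (2, [1,3,0,2,0,2,1,3,0]),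
   (2, [1,2,1,3,0,0,2,2,2]), (2, [1,3,3,1,2,0]), (2, [2,2,2,0,3,0,2]), (2, [3,0,3,1,1,2,0,3,0]), (1, [3,0,3,0]), (2, [0,3,0,2,2,1,2,2]),
   (2, [1,2,0,0,3,0,3,3]), (2, [0,3,0,2,0,2,2,0,0,0]), (2, [3,0,2,1,2,1,1,3]), (2, [0,2,0,3,1,1,3,0,3]), (2, [2,2,2,1,2,0,2,1,2]), (2, [3,3,0,2,0,2,0,3]),
   (2, [0,3,0,2,0,3,3]), (2, [3,0,0,2,1,2,1]), (2, [0,2,2,2,0,3,0,2]), (2, [2,1,2,1,2,0]), (2, [1,3,0,3,1,3,0,3]), (2, [2,2,1,2,0,2,1,3]),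
   (1, [1,2,1,1,2]), (2, [0,3,0,3,3,0,2]), (2, [2,1,2,2,2,1,1,3]), (2, [2,1,3,3,1,2]), (2, [2,2,2,1,2,1,2,0]), (2, [0,3,0,0,2,0,3,0,3]),
   (2, [0,2,0,0,2,2,1]), (2, [2,2,0,0]), (2, [2,0,0,2,0,2,2,1]), (2, [2,0,3,0,0,2]), (2, [1,3,3,0,0,2,0,3,0]), (2, [2,0,0,2,0,2,0,3]),
   (2, [2,0,2,2,2]), (2, [1,2,1,2,1,1,2]), (2, [1,2,2,1,3,3,0]), (2, [0,3,0,0,0,2,1,1,2]), (2, [1,2,0,0,3,1,2,0,0]), (2, [0,2,2,0,3,0,2,0,3]),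
   (2, [2,1,2,1,3,0,3]), (2, [3,0,3,1,2,2]), (2, [1,2,2,2,1,3,1,1,2,0]), (2, [2,0,2,1,1,3,1]), (2, [1]), (2, [1,3,0,3,1,1,3,3]),
   (2, [1,3,0,3,1,2,0,3,1]), (2, [3,3,0,2,2,1,3,3]), (2, [2,1,3,0,0,0,2,1,1]), (1, [0,0,0,3,1]), (1, [1,2,0,2,2]), (2, [0,3,1,2,0,3]),
   (2, [1,2,1,3,1,1,2,1]), (2, [2,1,2,2,1]), (2, [1,2,1,3,1,3,3,0,2,1]), (2, [1,2,1,2,1,2,0,0,2]), (2, [0,2,0,2,2]), (2, [2,1,3,0,3,1,3,0,2]),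
   (2, [1,2,1,3,0,2,2]), (2, [3,0,0,3,1,2,1]), (2, [1,2,0,0,0,2,1,1,2]), (2, [0,3,1,3,1,2,1,2]), (2, [2,0,2,1,3,1,1]), (2, [3,0,3,0,0,3,1,3]),
   (2, [2,1,3,0,3,1,1,2]), (2, [0,3,0,0,3,3]), (2, [1,3,0,3]), (2, [0,2,1,3,0,0,0,2]), (2, [0,2,0,0,2,0,2,1]), (2, [0,3,0,0,2,0,2,2]),
   (2, [0,2,1,1,2,0,0,3]), (2, [3,0,0,2,1,3,0,0]), (2, [3,1,2,2,1,2,2,2]), (2, [2,2,2,0,3]), (1, [0,0,2]), (2, [2,0,2,2,0,0,0]),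
   (2, [1,2,2,0,2,1,2]), (2, [1,2,2,2,1,2,0,0,2]), (1, [2,0,0,3,1,3,0]), (2, [0,3,1,1]), (2, [2,1,3,0,3,1,1,3]), (2, [0,3,0,2,0,2,0]),
   (2, [0,2,0,0,3,0,2]), (2, [1,2,0,0,3,3]), (2, [0,2,0,3,1,3]), (2, [3,1,2,0,3,1,1,3]), (2, [1,2,0,2,1,1,3,0]), (2, [3,0,3,0,3]),
   (1, [2,0,2,0,0]), (2, [0,2,2,0,0,3,1]), (2, [0,2,1,3,0,2,2]), (2, [2,2,1,3,1,2]), (2, [0,2,1,3,0,3,1,3]), (2, [1,2,1,3,1,1,3,0]),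
   (2, [0,2,0,0,3,0,3,1]), (2, [1,2,1,2,1,1,2,2,2,0]), (2, [1,2,0,3,0,0,0]), (2, [3,1,3,3,0,2,2]), (1, [2,0,0,3,1,1]), (2, [3,3,0,2,0,0,3]),
   (2, [3,0,2,2,2,0,0]), (2, [0,2,1,1,3,0,0,3]), (2, [1,3,1,2,2,2,1]), (2, [3,1,3,1]), (2, [1,3,3,0,0,3,0,0]), (2, [1,3,0,2,0,2,2,1]),
   (2, [2,0,0,2,0,2,0]), (2, [2,1,3,1,2,0,3]), (2, [3,1,2,0,0,2,0,2]), (2, [1,2,0,3,1,1,3,0]), (2, [1,3,3,0,0]), (2, [1,2,1,3,3,0]),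
   (2, [2,1,3,0,0,3,3]), (2, [2,2,2,0,3,0]), (2, [3,0,0,2]), (2, [0,3,0,0,2,2,1]), (2, [0,2,1,2,1,2,2]), (1, [2,0,3,0,3]),
   (2, [1,3,0,2,1,3,1,1]), (2, [1,2,2,2,1]), (2, [1,2,0,0,0,3,0,2,1]), (2, [0,2,1,1,2,1,2,2,0]), (2, [1,2,1,2,1,3,0,3,0]), (2, [0,3,1,3,1]),
   (2, [2,1,2,1,3,0,2,0,0]), (2, [2,0,0,2,1,3,3,1]), (2, [1,2,1,3,0,0,2,1]), (2, [2,2,2,0,0,2]), (2, [0,3,0,0,2,1,3,1,3]), (2, [1,2,1,3,0,3,3]),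
   (2, [3,0,0,0,2,2,2]), (2, [1,2,0,2,1,1,3]), (2, [0,3,0,0,0,3,1]), (2, [0,2,2,0,2,2,2,0,0]), (2, [0,3,3,0,2,2,0]), (2, [2,2,2,1,2,1,3]),
   (2, [0,2,1,1,3,0,0]), (2, [3,1,3,3,0]), (2, [0,3,1,3,3,0,0]), (2, [1,2,0,2,1,1,3,1]), (2, [2,0,2,1,2,1,1]), (2, [1,2,0,2,1,1,2]),
   (2, [2,0,0,2,0,0,3]), (1, [1,3,1,3,3]), (2, [1,2,1,3,0,3,0]), (2, [2,1,2,1,2,2,2,1,2]), (2, [3,0,2,1,3,1,1,3,3]), (1, [0,0,3,1]),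
   (2, [0,3,0,3,0,2,1,3]), (2, [3,0,3,3,1,2]), (2, [2,1,3,1]), (2, [2,2,0,0,3]), (2, [2,1,3,0,3,3,1,1]), (2, [3,0,0,0,2]),
   (2, [3,0,2,0,0,0,2]), (2, [2,2,2,1,3,1,3,0]), (2, [1,3,1,1]), (2, [2,0,2,0,3,0]), (1, [2,0,3,0,2]), (2, [0,3,0,3,1,1,2,1,3]),
   (2, [1,2,1,3,0]), (2, [2,1,2,0,0,3,0]), (1, [0,0,2,0]), (2, [0,3,1,3,3,0]), (2, [1,2,1,2,1,1,3,1]), (2, [1,2,1,2,0,0,3,1]),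
   (2, [3,0,0,0,2,0,0,0]), (2, [2,0,3,3,1,3]), (2, [3,0,0,2,0,3,0]), (2, [0,3,0,2,1,3,1,1]), (1, [1,3,3,0,2]), (1, [1,1,2]),
   (2, [3,1,1,2,2,0,3,1]), (2, [0,3,0,2,0,3,3,0]), (1, [1,3,1,2,2]), (2, [1,3,0,3,0,0,2]), (2, [2,1,2,0]), (2, [2,2,2,0,2,2,2]),
   (2, [0,3,0,3,0,2,1,2,1]), (1, [1,2,0,0,3]), (2, [2,0,3,1,3,1,1]), (2, [1,3,0,0,0,2,1]), (2, [0,2,0,2,1,2,1,2]), (2, [1,2,2,1,3]),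
   (2, [1,2,1,3,0,0,3,0]), (2, [0,3,1,2,2,1,3,3]), (1, [2,0,3]), (2, [3,0,3,0,0,2,2,2]), (1, [1,3,3,0,0,3]), (2, [1,2,1,3,1,3,3,0,0]),
   (2, [0,2,1,1,2,0,0,3,1,3]), (2, [2,1,1,3,1,2,1]), (2, [0,2,0,0,3,0,2,0]), (1, [3,3,1,3]), (2, [1,3,0,0,0,3]), (2, [0,3,3,0,0,2,1]),
   (2, [3,3,0,2,2,1,1]), (2, [2,1,3,0,0,0,2,0]), (2, [1,2,1,2,2,2,1,3,0]), (1, [0,2,2,1,3]), (1, [2,2,1,2,1,2]), (2, [0,2,1,3,1,3,0]),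
   (2, [0,2,1,1,2,0,0,2,1]), (2, [0,2,0,0,3,0,3]), (2, [3,0,0,2,1,3]), (2, [1,2,1,2,0,3,0]), (2, [0,2,2,2,1,3,1,1]), (2, [0,3,0,0,2,0,0]),
   (2, [1,2,1,3,0,0,0]), (1, [2,2,0,0]), (2, [0,3,1,2,1,1,2]), (2, [2,0,0,3,0,3,1,2]), (1, [3,1,2]), (2, [3,0,0,2,0,3,1,2]),
   (2, [1,2,1,3,1]), (2, [3,1,2,2,1,2]), (2, [2,2,1,2,0,0]), (2, [3,0,0,3]), (2, [2,0,2,2,1,1,3,0]), (2, [0,3,1,3,1,3,3]),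
   (2, [1,3,3,1,3,0,0]), (2, [0,2,0,0,0,3,1,1]), (2, [1,2,1,1]), (2, [2,0,0,3,0,3,1,3]), (2, [0,3,0,2,0,3,1]), (1, [1,2,1,3,1,1]),
   (2, [0,3,0,3,0,0,2]), (2, [1,2,1,3,0,0,3,1,3,3]), (2, [1,2,1,3,1,3,3]), (2, [0,2,2,0,2,0,2,1]), (2, [0,3,3,0,2,0,2]), (2, [0,3,1,3,0,0,3,1]),
   (2, [0,3,1,1,2,0,0,2,1,3]), (2, [3,1,1,3,1,2]), (1, [2,2,1,3,1]), (2, [0,2,1,3,0,2,1,3]), (2, [2,1,2,1,1,3,1]), (1, [3,1,3,1,3,1]),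
   (2, [2,1,2,2,2,1,2,1]), (2, [3,0,3,1,2,1,3]), (2, [2,0,3,0,0,2,1]), (2, [2,1,3,0,2,2,2,1]), (2, [2,1,3,0,2,2,1,1]), (2, [3,0,2,0,0,3]),
   (2, [2,1,2,0,3,3]), (1, [1,2,0,0,0,3]), (2, [3,1,3,0,2,1,1]), (1, [2,2,0,2,2]), (2, [1,3,0,2,1,1,3,3]), (2, [2,0,2,0,3,1,2,0,2]),
   (2, [2,0,3,3,0,3]), (2, [3,1,3,0,0,3,1]), (2, [3,1,1,2,2,0,3]), (2, [0,2,2,2,1,2,1,3,0]), (2, [0,2,0,0,3,3,1,3,0,2]), (2, [0,3,0,0,2,1,2,0,2]),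
   (2, [2,1,2,2,2]), (2, [2,0,0,3,0,2,0,2]), (2, [2,1,2,1,3,0,3,1]), (2, [0,3,3,1,3,1,2]), (2, [0,2,2,2,1,2,1,1]), (1, [1,3,0,2,0,2]),
   (2, [0,3,0,3,0,0,3]), (2, [2,2,2,1,2,1,1]), (2, [0,3,3,0,2,0,3]), (2, [2,1,3,1,1,2,1]), (1, [0,2,1,1,2]), (2, [2,1,2,0,2,2,2,1]),
   (2, [0,2,1,2,0]), (2, [0,2,0,0,0,2,1,1]), (2, [2,0,3,1,3,0,3]), (2, [2,0,3,1,1,3,0]), (2, [2,2,1,2,0,2,1]), (2, [2,2,0,3,1,3,1,1]),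
   (1, [1,1,3,0,2]), (2, [0,2,0,3,1,1,2]), (2, [0,2,2,2,1,2,0,0,2]), (2, [0,3,0,3,0,3,3,1,3]), (2, [2,2,2,1,2,0]), (2, [3,1,1,3,1,3]),
   (2, [0,2,0,3,1,1,2,1,2,1]), (2, [2,1,2,0,2,2,0]), (2, [2,2,2,1,3,0,0,3]), (2, [0,2,0,0,2,2,1,3]), (2, [3,1,2,0,2,0,2,0]), (2, [0,2,1,3,0,3,1,2,1]),
   (2, [0,2,2,2,0,3,3,1]), (1, [2,2,0,3,1,3]), (2, [2,1,1,3,1,3,0,2]), (2, [2,2,1]), (2, [0,2,0,0,3,3]), (1, [1,1,3,0,0,0]),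
   (2, [1,3,0,3,1,3,1,2,1]), (2, [2,0,3,3,1,2,1]), (2, [0,2,0,3,3,0,2,1]), (2, [2,0,2,1,1,2,1,3]), (2, [0,2,1,1,3,0,0,2]), (1, [0,2,1,1,3]),
   (2, [0,3,1,1,2,0,0,3,1]), (2, [2,0,3,1,2,0,0]), (2, [0,2,0,2,0,0,2,1,2]), (2, [2,1,1,2,1,3,0,0]), (2, [0,3,3]), (2, [0,3,0,3,1,2,1]),
   (2, [2,0,2,0,2]), (2, [0,2,2,1,2,1,1]), (2, [3,1,3,0,0,2,0,0]), (2, [3,0,0,2,1,3,1,3]), (2, [0,2,0,3,1,2,0]), (2, [2,1,2,0,3,0,0,2]),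
   (2, [0,2,1,3,3,1,2]), (2, [3,1,3,0,3,1,1]), (2, [1,3,3,0,0,0,3]), (2, [2,0,0,3,3,1,1]), (2, [2,1,2,2,2,1,3]), (2, [2,1,2,0,0,3,1,2,1]),
   (2, [2,0,3,1,3,1,2]), (2, [0,3,1,1,3,1,3,1,3]), (2, [0,2,2,2,1,3,3]), (2, [2,0,2,2,2,0,0]), (2, [3,3,0,2,1,1]), (2, [0,2,1,2,0,3,3]),
   (2, [0,2,2,2,1,1,3,1]), (2, [3,1,3,3,0,0,3,0]), (2, [2,1,2,0,0]), (2, [2,2,0,3,3,0]), (2, [0,2,0,2,2,2,0,3,0]), (2, [2,2,1,1,2,2]),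
   (2, [1,2,1,2,0,0,3,0,0]), (1, [0,2,0,0,2,2]), (2, [2,0,0,3,1,3,1]), (2, [2,2,1,3,1,3,1,3]), (1, [1,2,0,0,3,1,1]), (2, [0,2,0,0,3,1]),
   (2, [0,3,0,3,0,0,2,0,3]), (2, [0,2,1,3,0,2,0,2,0]), (2, [0,3,3,0,2,0,3,1]), (2, [0,2,1,1,2,0,2]), (2, [0,3,1,2,2,1,1]), (2, [3,3,1,3,1,1,3]),
   (2, [2,1,2,0,3,1,3,3]), (2, [3,3,1,1,3]), (2, [2,2,0,3,0,0,2]), (2, [0,2,1,2,1,1,3,3]), (2, [0,3,0,2,1,3,1,3,0]), (1, [3,3,0,3,3]),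
   (2, [3,0,0,2,1,1]), (2, [2,1,2,0,3,1,3]), (2, [0,2,2,1,1,2,0]), (2, [2,1,3,1,1,2,0,0]), (1, [1,1,2,2]), (2, [3,1,1,3,1,3,0]),
   (1, [0,0,2,1,1,3]), (1, [3,1,2,2,1]), (2, [1,2,0,0,3]), (2, [0,2,1,2,2,0,2,0,2]), (2, [2,1,2,1,1,2,1,2,2]), (2, [3,1,3,3,0,0,3,1]),
   (2, [0,2,1,2,2,2,1]), (2, [2,1,2,1,3,1,2,0]), (1, [1,2,1,1]), (1, [1,2,0,0]), (2, [2,1,2,0,3,1,2,2,2]), (2, [2,0,0,3,1,3,0,3]),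
   (1, [0,3,3,0]), (2, [2,0,0,3,1,2,0,2]), (2, [2,1,1,3,1,3,0]), (2, [3,1,3,0,3,3]), (2, [3,1,2,1,1,3,0]), (2, [0,3,0,2,0]),
   (2, [3,1,3,0,0,2,0]), (2, [2,0,3,1,3,1,3,0]), (2, [2,1,1,2,2,0,3]), (2, [1,2,1,2,0,3,3,0,2]), (1, [0,0,0]), (1, [1,3,0,0,2,2]),
   (2, [0,3,1,1,3,1,3,1]), (2, [1,2,0,2,1,1,3,0,2]), (1, [1,2,1,3,1,2]), (2, [3,3,0,3,1,3,0,2]), (2, [2,0,3,1,2,2]), (2, [1,2,0,0,0,2,0,2]),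
   (2, [0,3,0,3,0,3,1]), (2, [3,3,0]), (2, [2,1,2,2,0,3,1]), (2, [1,3,0,2,1,1,3,1,1,2]), (1, [2,2,1,3,1,2]), (2, [2,1,2,0,0,2,0]),
   (2, [2,1,2,1,3,0,2,1]), (2, [0,2,1,2,1,1,2,1,2]), (2, [0,3,3,0,2]), (2, [1,2,0,0,0,3,0,3,3]), (1, [2,0,0,2,1,2,0]), (2, [1,2,1,2,0,0,3,1,2]),
   (2, [0,2,0,0,0,2,0,2]), (1, [0,2,0]), (2, [3,1,1,2]), (2, [2,2,1,1,2,0,0]), (2, [0,3,0,3,3,0,3]), (2, [1,2,2,2,1,2,0]),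
   (1, [0,3]), (2, [0,3,0,0,0]), (2, [2,1,2,0,3,1,1]), (2, [2,1,2,1,2,0,3,0]), (2, [3,1,3,0,2,1,2]), (2, [2,1,1,3]),
   (2, [2,0,0,2,1,3,0,0]), (2, [0,2,1,3,1,1,2,2]), (2, [3,1,2,1,1,3,0,0]), (2, [1,2,0,3,0,0,2,1]), (2, [2,1,2,1,1,2,1]), (2, [2,2,1,2,0,2,0,0]),
   (2, [3,1,1,2,2,1,2]), (2, [1,3,0,3,1]), (2, [3,0,3,0,0,2,1,3]), (2, [2,1,3,0,2,0,3]), (2, [0,2,0,0,0,3,1,2,0]), (2, [0,2,1,1,2]),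
   (2, [2,1,3,0,0,0,3]), (2, [0,3,1,1,3,0,3,1,3,0]), (2, [3,0,2,1,1,2,1,1]), (2, [0,3,3,1,2,0]), (1, [0,2,0,2,0,2]), (2, [2,2,0,3,1,3,1]),
   (2, [2,1,2,2,2,0,0,0]), (2, [0,2,1,1,2,0,3,0]), (2, [2,0,0,2,0,0]), (2, [2,2,2,0,0,2,1,1]), (2, [1,3,0,2,1,1,2]), (2, [0,3,3,1,2,1]),
   (1, [2,0,3,1,2]), (1, [2,2,2,1,1]), (2, [1,2,0,2,1,1,3,1,2]), (2, [1,3,0,2,1,2,2]), (2, [1,3,1,2,2,1]), (2, [1,3,0,3,1,2,1,1]),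
   (2, [1,3,1,1,3,3,0]), (2, [3,0,3,0,2,1,3,0]), (2, [2,1,2,0,3,1,2]), (2, [1,2,2,2,1,3,1,1,3]), (1, [2,0,3,1,2,1]), (2, [2,0,0,3,0,0,2]),
   (2, [2,0,3,1,1,2,0,3]), (2, [3,3,1,2,0,2]), (1, [2,0]), (2, [0,3,1,1,3,1,1]), (2, [0,2,1,3,1,1,2,1,3]), (2, [2,1,3,0,3,3,0]),
   (1, [2,1]), (2, [3,0,0,0,2,0,2]), (2, [2,0,3,1,2,1,2]), (2, [0,2,1,2,2,2,0,3]), (2, [0,2,0,2,0,0,3,1]), (2, [0,3,1,3,0,3,3]),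
   (2, [1,3,3,1,3,1,3,0]), (2, [1,3,0,2,0,2,2]), (2, [1,2,0,0,3,1,2]), (2, [1,3,0,3,0,2,1]), (2, [0,2,0,2,1,2]), (2, [1,3,0,2,2,0]),
   (2, [1,2,2,2,1,3,0]), (2, [0,2,1,1,3,0,3]), (2, [0,2,1,3,1,3]), (2, [0,3,0,0,3,3,1,3]), (2, [3,0,3,3,1,3]), (2, [2,2,0,3,1]),
   (2, [0,3,3,1,2,1,3,1,1,2]), (2, [3,0,0,3,0,0,0,3,1]), (2, [3,0,0,0,2,0,2,0,2]), (2, [2,1,2,0,3,1,1,2,2]), (0, [3]), (2, [1,2,1,3,1,1,2,1,2]),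
   (2, [2,1,3,1,2]), (2, [1,3,0,2,1,1,2,1]), (2, [1,2,0,2,0,0,3,1,3,1]), (2, [0,2,1,3,0,2,0,2]), (2, [1,2,1,3,0,2,1,1,2]), (2, [0,3,1,2,1,3,1]),
   (2, [1,2,0,0,0,2,1]), (2, [0,3,0,3,0,3,3,1]), (2, [0,2,2,2,0,3,0,3]), (2, [3,0,0]), (2, [0,2,0,0,0,2]), (1, [1,1,3,0,3]),
   (2, [2,0,2,1,2,2]), (2, [3,0,3,1,2]), (2, [1,2,0,0,0,3,0,0,0]), (2, [0,3,0,2,2,1]), (2, [3,0,2,1,3,0,2,0]), (2, [1,2,1,2,1,2,2,1,3,0]),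
   (2, [1,2,2,0,2]), (2, [3,0,3,0,0,0,2,1]), (2, [3,1,2,0,0,3,1]), (0, [2,1,3]), (2, [1,2,1,3,0,0,2,0]), (2, [1,2,0,0,0,3,0]),
   (2, [0,3,0,2,0,2,2]), (2, [0,3,0,2,0,0,2]), (2, [1,2,2,2,1,2,1,1,3]), (2, [1,3,0,2,2]), (1, [2,0,3,1,2,2]), (1, [2,0,0,0]),
   (2, [2,1,2,0,2,2,2]), (2, [2,0,2,1,1,3]), (2, [0,2,2,2,1,1,3,1,1]), (2, [1,2,1,2,0,0,3,1,3]), (2, [1,2,1,3,1,3,1,2,2]), (2, [3,3,0,3,3]),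
   (2, [2,0,2,2,1,1,3]), (1, [2,2,1,2,1,3]), (2, [2,1,1,2]), (2, [3,0,0,0,2,1,3]), (2, [3,0,3,0,3,1,1]), (2, [1,2,1,2,1]),
   (1, [0,0,2,0,3]), (2, [2,2,0,3,0,2,0]), (2, [2,1,2,0,2,0,3,0]), (2, [3,0,2,1,3,3]), (2, [1,2,0,2,0,0,3,0]), (2, [1,2,0,3,0]),
   (2, [3,0,0,0,3,0,3]), (2, [1,2,1,3,1,3,3,0,2,0]), (2, [3,0,0,0,2,1,2]), (2, [0,2,1,1,3,3,1,1]), (1, [3,1,2,1,2]), (2, [0,2,1,1,3,0,0,2,1,2]),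
   (2, [0,3,3,1,3,1,3]), (2, [0,3,1,1,2,1,1]), (2, [1,2,0,0,3,0]), (2, [3,1,3,0,2,0]), (2, [3,0,3,3,1,3,0]), (2, [1,3,0,2,0,0,2]),
   (1, [2,0,2,0,3,3]), (2, [1,3,0,2,1,1,2,0,2]), (2, [0,3,3,0,2,1]), (2, [3,0,3,3,1]), (2, [1,3,0,2,0,2,2,2]), (2, [1,2,1,3,1,1,2,0]),
   (2, [3,0,3,0,0,0,2]), (2, [0,2,1,3,3,0,2,2]), (2, [2,0,2,1,2]), (2, [0,2,2,1,1,2,1,2,1]), (2, [3,0,3,0,0]), (1, [0,0,0,3,1,3]),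
   (2, [0,2,2,0,2,2,2]), (2, [1,3,3,1,3,1,3,1]), (2, [2,2,2,1,2]), (1, [1,2,0,2,1]), (2, [3,3,1,3,1,2,0]), (2, [1,3,0,0,0,2]),
   (1, [1,3,3,1,1]), (1, [2,1,3,1,3,1,3]), (1, [2,0,3,1,1]), (2, [1,3,3,0,3,1,2,1]), (2, [2,2,0,3,1,3,0,3]), (2, [2,2,1,2,0,0,2,2]),
   (2, [3,0,3,3,1,1]), (1, [0,3,1,2,2]), (2, [2,0,0,2,0,0,3,3,0]), (2, [1,3,0,3,0,3,1]), (2, [0,2,1,2,0,0,3]), (2, [2,2]),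
   (2, [2,1,2,1,3,0,2,1,1]), (2, [2,2,1,2,1]), (1, [2,0,0,3,0,0,0]), (2, [0,2,2,2,1,1,2,1,1]), (2, [1,2,0,0,3,0,2]), (2, [0,2,0,3,1,1,3]),
   (2, [0,2,0,3,1,3,1,3]), (2, [0,3,0,3,1,2,0,3]), (2, [3,0,0,3,3]), (1, [2,0,0,3,1,2]), (2, [2,1,1,2,0]), (2, [1,2,1,3,0,0,2,2,0]),
   (2, [3,0,0,0,2,0,2,0,3]), (2, [0,3,1,2,0,2,1,1]), (2, [0,3,0,2,0,2,0,0,3]), (2, [0,2,2,2,0,0]), (1, [2,0,2,0,3,0,3]), (2, [2,0,3,1,2,2,1,3]),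
   (2, [1,2,1,3,0,0,3,1,2,2]), (2, [1,2,0,0,0,2,0,0,3]), (2, [0,2,1,3,0,3,1,2]), (2, [1,2,1,2,0]), (2, [2,1,1,2,1,3,0]), (2, [2,0,0,2,0,2,1]),
   (1, [2,2,1]), (2, [0,2,0,2,2,2,0,3]), (1, [1,2]), (2, [3,0,3,3]), (2, [0,3,1,1,2,1,1,3]), (1, [1,3,1,3,1]),
   (2, [0,2,0,3,0,0,3,1]), (2, [1,2,1,3,0,0,3]), (2, [2,0,3,0,0,2,0,2,1]), (2, [0,3,0,0,3,1,3,0]), (2, [3,0,2,0,0,2]), (2, [1,2,1,2,0,3,3]),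
   (1, [1,1,3,1,3]), (2, [2,1,1,2,1,2]), (2, [2,1,1,2,0,2,0,0]), (2, [3,0,3,0,2]), (2, [0,3,0,2,0,0,3]), (2, [2,1,1,2,0,2,0,2]),
   (2, [1,2,0]), (1, [1,3,1,1,3,0,2]), (1, [1,3,0,3,1]), (1, [2,2,1,3,1,1]), (1, [0,0,3,0]), (1, [1,1,3,0,3,1]),
   (2, [1,3,0,3,1,3,0]), (2, [2,0,3,3,1,2,0]), (2, [2,2,2,0,2]), (1, [3,1,2,0,2]), (1, [1,2,0,0,0,3,0,2]), (2, [2,2,1,1,3,1,2]),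
   (2, [0,2,1,1,2,1,2,0]), (2, [2,1,2,2,1,3,1,2]), (2, [0,2,2,1,2,0,2]), (2, [0,2,1,2,1,1,2,0]), (2, [1,2,0,0]), (2, [2,1,2,1,1,2,1,1]),
   (2, [0,3,1,1,2,1,3,0]), (2, [0,2,0,2,0,3]), (2, [0,2,0,0,2]), (2, [1,2,2,2]), (2, [0,3,0,0,3,1,1]), (2, [2,0,0,2,0,2,0,2,2]),
   (2, [0,2,0,3,1,3,1,2]), (2, [1,2,1,2,0,2,2,1,3,1]), (2, [1,2,0,0,0,3,0,0,2]), (2, [0,2,1,3,0,2,1,2]), (2, [0,3,0,0,3,1,3,0,2]), (2, [2,1,3,0,3,1,2,2,0]),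
   (1, [1,2,1,3,0,0]), (2, [2,0,3,0,0,2,0,2]), (2, [2,2,2,0,0]), (1, [0,3,3]), (2, [2,2,0,3,0,2,0,3]), (2, [1,2,1,2,1,3,0,0]),
   (2, [1,3,0,2,0,3]), (2, [1,2,0,0,0,2,0,2,0]), (1, [2,0,2]), (1, [3,1,3,0]), (2, [1,3,0,2,0,3,3,1,3]), (1, [0,3,1,3,0,2]),
   (2, [0,2,2,2,0,2,2,2]), (1, [1,2,0,0,2,1,3]), (1, [2,0,2,0,2,2]), (1, [2,0,2,1,3]), (2, [2,0,2,2,1,2]), (2, [2,0,0,0,3,1,1]),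
   (2, [1,2,1,3,1,3,1,1,3]), (2, [2,1,3,0,3,0,0]), (2, [0,2,0,2,1,1,3,0]), (1, [0,0,0,2,0,3]), (2, [2,1,2,1,2,2,2,1]), (2, [1,3,0,2,1,3,0,0]),
   (2, [0,3,0,2,0,2,0,0,2]), (2, [0,2,1,2]), (2, [3,0,3,1,3,3,0,2]), (2, [0,3,0,2,0,2,2,1,1]), (2, [2,2,1,2,2,1,2]), (0, [0,3]),
   (2, [2,1,2,0,3,1,2,1]), (1, [0,3,0,3]), (2, [3,0,0,3,1,3,0,3,1]), (2, [2,2,2,1,2,0,3,3]), (2, [2,1,2,1,2,2,2]), (2, [0,3,0,2,1,3]),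
   (2, [2,0,0,3,0,0,3]), (2, [2,1,3,0,2]), (2, [2,1,2,0,3,0,2,2,1]), (2, [2,0,0,2]), (2, [1,2,2,2,1,2,1]), (2, [2,1,3,0,3,0]),
   (1, [1,1,2,1,1,2]), (2, [2,0,3,1,3,0,2]), (2, [3,0,0,3,1,3,0]), (2, [3,3,0,3,1,3,0]), (2, [2,0,2,0,0,2,1,3,0]), (2, [0,2,1,3,0,0]),
   (2, [2,0,2,0]), (2, [0,2,1,2,0,2,1,2]), (2, [2,1,2,1,3,1]), (2, [2,1,1,2,0,3,0,3,0]), (2, [3,0,3,0,2,1,2]), (2, [2,0,3,1,1,3]),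
   (2, [0,2,0,0,3,1,1]), (1, [3,0,2,0,0]), (2, [2,0,2,1,2,1,2]), (1, [3,1,2,0,0]), (2, [1,2,1,3,0,0,2,2,2,0]), (2, [3,0,2,2,2,0,0,3]),
   (2, [2,0,2,0,0,2,1,1]), (2, [1,3,0,3,0,0,3]), (0, [3,1]), (2, [2,0,3,0]), (2, [0,2,1,3,0,3,3,0]), (1, [0,3,3,1,2]),
   (2, [2,1,3,1,1,2,2]), (2, [1,3,0,2,0,3,0,0]), (2, [3,0,3,1,1,2,0]), (2, [2,1,3,1,3,0,2,2,1]), (2, [0,2,2,1,3,1,3,0]), (2, [0,3,0,3,0,2,1,1]),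
   (2, [3,0,2,2,2,0,0,2]), (2, [2,2,2,0,3,3,1]), (2, [0,2,1,2,2,0]), (2, [1,3,0,2,0,0,3,1]), (2, [2,1,3,0,3,3,1]), (2, [3,0,3,0,2,0]),
   (2, [1,3,0,3,0,2]), (2, [0,3,0,0,2,0,2,1,3]), (2, [2,0,0,2,1,2,2]), (2, [1,3,0,3,1,1,3,0]), (2, [2,0,3,1,1,3,0,0]), (2, [1,2,1,2,0,3,3,1,3]),
   (2, [0,3,0,2,0,2,2,0,0]), (2, [1,3,1,2]), (2, [1,3,3,1,1,2,1]), (2, [0,3,0,3,0,0,0]), (2, [3,3,1,1,2,1,1,3]), (2, [2,0,2,0,0,3,1,1]),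
   (1, [3,3,0,3,0,3]), (2, [1,2,2,2,1,3,1,2,2]), (2, [2,0,2,2,1]), (2, [0,3,1,1,2,0,0]), (2, [2,2,2,0,2,1,2]), (2, [3,1,3,1,1,3,0]),
   (2, [2,1,1,2,0,3]), (2, [0,2,2,2,1,3,1]), (2, [2,0,3,0,0,2,1,2]), (2, [1,2,2,2,1,3,0,2,2]), (2, [2,1,2,0,3,1,2,1,3]), (2, [0,3,3,0,0,0,3,0]),
   (2, [2,0,3,3,1,2]), (1, [2,0,0,2,1]), (1, [0,0,0,2,2,1]), (2, [3,0,2,2,1,1]), (1, [3,1,3,0,0,0]), (2, [2,0,0,3,0,3,0,3,1]),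
   (2, [2,2,2,1,2,1,2,0,2]), (2, [0,3,0,0,0,2,1,2]), (2, [2]), (2, [1,3,0,2,0,0,2,0]), (2, [0,2,0,0,2,1,1,3,1]), (2, [1,3,0,2,2,2,1,1]),
   (1, [1,1,3,0,2,1]), (2, [2,1,2,2,1,3]), (2, [0,2,1,3,0,3,1]), (1, [0,2,1,1,3,3]), (2, [0,3,0,3,0,3]), (2, [3,3,0,2,2,1,3]),
   (1, [2,0,3,0,3,3]), (2, [3,0,3,1,1,2,2,1]), (1, [3,3]), (1, [1,2,1,2,1]), (2, [3,0,2,2,2]), (2, [1,2,0,2,0]),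
   (1, [3,0,3]), (2, [3,0,2,1,2,2,0]), (2, [0,2,1,3,0,2,1]), (1, [1,3,0,0,0,2]), (2, [2,1,1,2,1,2,1,3]), (1, [0,0,2,0,0]),
   (1, [0,3,0,0]), (1, [0,0,2,1]), (2, [2,0,2,2,2,0]), (2, [0,2,1,3,0,2,2,0]), (1, [0,0,0,3,0,3]), (2, [0,2,0,2,1,1,3]),
   (2, [0,2,1,1,3,1,1]), (1, [2,0,0,3,0,0]), (1, [0,3,1]), (1, [0,2,2,1]), (2, [0,3,1,1,3,0,3]), (1, [0,2]),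
   (1, [1,2,0,0,2,0]), (1, [2,1,2,0]), (1, [0,0]), (2, [0,3,3,1,2,0,3,1]), (2, [3,0,2,0,2,2,0]), (2, [3,1,2,0,3]),
   (2, [0,3,0,2,0,0]), (2, [0,3,0,2,1]), (2, [0,2,2,0,3,0,2,1]), (2, [2,1,3,0,3,0,3,1]), (2, [2,0,2,0,0,2,1,2]), (2, [3,3,0,3,1,3]),
   (2, [1,3,0,3,1,3,3]), (2, [2,0,0,3,0,2,0,3]), (2, [2,2,2,0,2,0,3]), (2, [2,0,3,0,0,3,1,1,2]), (2, [3,0,2,1,3,1,2,1]), (2, [1,2,1,2,1,3,3]),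
   (2, [3,0,2,1,1,3]), (2, [2,2,0,0,3,3]), (2, [3,0,2,2,1,2]), (2, [3,3,1,1,2,0,3]), (2, [3,0,0,0,3,0,2]), (2, [0,3,0,3,1,1,2,1]),
   (2, [2,0,0,3,0,3,0]), (2, [1,3,0,3,0,3,1,3]), (2, [1,3,0,3,1,2,2]), (2, [1,2,1,2,0,2,2,1,3,0]), (1, [1,3,1,2]), (2, [3,0,2,2,0]),
   (1, [2,0,0,2,2,2]), (2, [0,2,1,1,2,1,1]), (2, [1,3,3,1,2,1]), (2, [1,3,0,3,0,0,0,2]), (2, [0,2,0,2,2,2,1,3]), (2, [1,3,0,2,1,1,2,0]),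
   (2, [0,2,2,1,3,1]), (2, [0,2,0,0,3,0,2,1]), (2, [1,2,1,3,1,1,2,0,2]), (2, [2,0,0,3,1,1,2]), (2, [2,2,2,0,3,1]), (2, [2,1,2,1,1,3,3,1,2]),
   (2, [1,3,0,3,1,2]), (2, [3,1,3,0,2,0,2]), (2, [3,1,2,1,1,3]), (2, [2,2,2,0,3,3,1,3]), (2, [2,0,2,0,2,0,3]), (0, [2,1]),
   (2, [1,2,1,3,0,3]), (2, [2,1,3,0,2,0,0]), (2, [1,2,1,2,0,0,0]), (1, [2,2,0,2,0,2]), (2, [1,2,1,3,1,3,0,0]), (2, [0,3,0,3,0,2,0,3]),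
   (2, [1,3,0,2,1,1]), (2, [3,0,3,0,0,0]), (2, [1,2,1,2,1,3,3,0,0]), (2, [1,3,0,3,3,1]), (2, [0,3,0,0,2,1,3,1,1]), (1, [0,2,0,3,1,2]),
   (2, [0,2,1,2,1,2,0,3]), (2, [1,2,2,2,1,2,1,1,3,1]), (1, [2,0,2,0]), (2, [1,2,0,0,0,2,1,1,2,0]), (2, [3,0,3,3,1,3,0,3]), (2, [1,2]),
   (0, [2]), (2, [2,2,2,0,2,0,2]), (2, [2,0,3,3,1]), (2, [1,2,1,3,1,1,3]), (1, [0,0,0,2]), (2, [1,3,0,2,0,2,1,2]),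
   (1, [3,1,3]), (1, [2,0,3,1,1,2]), (2, [1,3,0,3,1,2,0,2,0]), (1, [1,1,3,3,1]), (1, [2,2,1,2,1]), (2, [2,1,2,2,2,1,1,2]),
   (1, [3,1,2,0,3,1]), (2, [1,3,0,3,0,0,3,1,1]), (2, [2,1,3,0,3,3,0,3]), (1, [3,3,0,3]), (2, [1,2,0,0,3,0,3]), (1, [0,2,0,2]),
   (2, [0,3,0,3,0,0,3,1]), (2, [2,2,1,1,2,1,2,0]), (1, [1,1,3,1,1]), (2, [2,1,2,1,2,2,0,3,0]), (1, [1,1,3,0]), (1, [3,0,3,0,2,0]),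
   (1, [1,2,1,3,0,3,1]), (1, [1,3,0,2]), (1, [0,2,0,0,2,1,2]), (2, [3,1,3,3,0,3]), (2, [3,0,0,3,1,3]), (2, [3,0,0,3,0,0,2]),
   (2, [0,3,3,1,2]), (2, [0,3,0,3,1,3,1,2]), (2, [1,3,0,2,0]), (1, [2,0,2,1,1]), (2, [3,0,0,2,0,2,2]), (2, [2,0,3,0,0]),
   (2, [2,1,2,0,0,3,1,3,0]), (2, [3,0,0,3,1,1,2]), (2, [3,1,1,3]), (2, [3,0,2,1,3,3,0,2]), (2, [2,0,2,0,2,0,3,3]), (2, [2,2,1,2,0]),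
   (2, [2,2,0]), (2, [1,2,1,1,2,1,1]), (2, [0,3,0,2,2,2,1,2,0,3]), (2, [0,2,1,2,1,1,2,0,2]), (2, [3,0,3,0,3,1]), (2, [0,2,2,2,1,2,0,3,3]),
   (2, [3,1,2,2,1,2,2]), (2, [0,2,1,1,2,1,2]), (2, [3,1,3,3,0,2]), (2, [1,3,0,3,0,0,0,3]), (2, [2,0,0,3,1,1,3,0,2]), (2, [1,3,3,1,2,0,0]),
   (2, [3,0,0,0,2,2,2,1]), (2, [2,1,1,2,0,3,1,3]), (2, [0,3,0,2,0,3,3,1,2]), (2, [2,1,2,2,2,0,3,1,3]), (2, [1,2,0,2,1,1,2,1]), (1, [3,1,3,0,3]),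
   (1, [1,1,2,2,2]), (2, [1,3,0,3,0,0,3,0]), (2, [1,2,1,2,1,1,2,1,1]), (1, [0,3,3,0,2]), (1, [2,0,3,1,3,1,1]), (0, []),
   (2, [1,2,1,2,1,1,2,0]), (2, [0,3,0,3,1,2,0,2]), (1, [1,3,0,2,1,1,3]), (1, [1,3,0,2,0,3]), (2, [3,1,2,0,0,2,0,0,2]), (2, [2,2,1,2,1,2,0]),
   (2, [1,3,3,1,3,0,0,3]), (2, [3,0,3,1,2,2,1,3]), (2, [1,2,0,2,0,0,3,1,3]), (2, [0,3,0,0,3,1,2,1]), (2, [2,0,3,0,0,3,1,3]), (2, [3,0,2,1,1,2,1]),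
   (2, [2,0,0]), (2, [0,3,1,2,0,2,1,3]), (2, [0,3,3,1,1,2,1]), (2, [1,2,0,3,0,2]), (2, [2,1,1,2,2,0,3,0]), (2, [1,3,3,0,3,1,2,0,3]),
   (2, [0,3,0,2,1,3,3,0,3]), (2, [0,3,0,3,1,2]), (2, [2,2,2,1,2,0,3]), (2, [2,0,0,2,1,3,1,3]), (2, [3,1,3,3,0,0,3]), (2, [3,3,1,2,1,1,2]),
   (2, [3,3,0,2,1]), (2, [1,2,1,3,0,0,3,1,1]), (2, [1,2,1,3,0,0,2,0,2]), (2, [2,0,2,1,2,0,3]), (2, [0,3,1,1,3,1,3,0,3]), (2, [3,0,0,2,1]),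
   (2, [0,3,3,1,3,1,2,1,2]), (2, [1,2,0,0,3,1,2,0]), (2, [0,2,1,3,0,0,3,3]), (2, [2,1,3,1,1,2]), (2, [2,1,1,3,1,2,1,2]), (2, [2,0,0,3,3,1]),
   (2, [1,2,1,2,0,2,0,3,0]), (2, [2,0,3,0,3]), (2, [2,0,2,0,3]), (2, [2,0,0,3,1,3]), (2, [2,1,2,0,3,0,0]), (2, [3,0,0,2,0,0,2,0]),
   (2, [2,0,3,1,3,0,0,2]), (2, [3,1,3,0,0,2,1,3,1]), (2, [2,0,0,3,0,2,0,2,0]), (2, [3,0,0,3,0,0,0,3]), (2, [1,2,0,0,3,3,0,2,0,0]), (2, [3,1,3,1,2,2,0]),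
   (2, [3,0,3,0,2,1,2,0]), (2, [0,3,0,2,1,2,2,1]), (2, [2,1,2,0,3,0,0,2,0]), (2, [1,2,0,3,0,2,1]), (2, [1,2,0,3,0,0]), (2, [0,2,1,1,3,1,1,3]),
   (2, [0,2,1,3,1,3,1,2]), (2, [0,3,0,0,2]), (2, [1,2,1,3,0,0,2,0,0]), (2, [2,1,1,2,2]), (2, [2,0,2,0,2,2,0]), (2, [1,2,0,0,0,3,1,2,0]),
   (2, [0,2,0,0,2,2,2,1]), (2, [0,2,1,2,1,3,0,0]), (2, [0,3,3,1,2,2]), (2, [0,2,0,2,0,0,2,2]), (2, [1,2,0,2,1,2,0]), (2, [3,3,0,2,1,3,1,3]),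
   (2, [2,0,2,2,1,2,2]), (2, [3,0,3,0,0,0,3]), (2, [2,2,1,1,2,0]), (2, [2,0,2,2,1,1,2,1,1]), (2, [1,3,0,0,0,2,1,2]), (2, [2,0,3,1,1,3,1,2]),
   (2, [2,2,0,3,1,3]), (2, [2,1,2,1,1,3,0,2]), (2, [0,2,1,2,0,2,1]), (2, [3,3,1,3,0]), (2, [2,1,3,0,0,2]), (2, [0,2,2,1,3,1,3,0,3]),
   (2, [2,0,2,1,1,3,1,2]), (2, [2,0,2,1,1,3,3]), (2, [0,3,1,1,3,3]), (2, [0,2,1,3,0,0,3]), (2, [2,1,2,1,3,0,3,0,2]), (2, [2,1,2,0,2,0,2,2,1]),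
   (2, [3,0,0,3,1,1,3,3]), (2, [2,1,2,1,1]), (1, [1,2,1,2,2]), (2, [3,3,1,3,1,3,0]), (2, [1,3,3,1,2,2,2]), (2, [0,2,0,2,0,0,3]),
   (2, [1,2,1,3,0,2,1]), (2, [3,0,0,2,1,1,3,0]), (2, [2,1,2,0,0,3,1,3]), (2, [0,2,1,3,0,2,0,3,0,0]), (2, [1,2,1,2,1,1,3,0,0]), (2, [3,0,3,1,1,2,0,3]),
   (1, [1,1,2,2,0]), (2, [0,2,1,2,1,3,0,2,1]), (2, [0,2,2,0,2]), (2, [2,1,2,1,1,3,3,1]), (2, [2,1,2,1,2,2,0,2,0]), (2, [2,1,2,2,0]),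
   (2, [2,0,0,3,0,0]), (2, [0,2,1,3,1,3,1]), (2, [1,2,0,2,1,2,1]), (2, [2,0,3,3,1,3,1,1]), (2, [3,0,0,3,0,3,3]), (2, [2,0,0,3,1,1,3,0,2,2]),
   (2, [2,1,2,1,1,3,1,2]), (2, [1,3,0,3,0,3,3,1]), (1, [2,2,0,2,0]), (2, [3,0,3,1,3,0,2,0]), (2, [3,0,2,1,2,0,0,2]), (2, [3,1,2,2]),
   (2, [2,2,1,2]), (2, [1,2,1,3,1,3]), (2, [0,2,0,2,2,1]), (2, [3,0,3,1,3,0,0]), (1, [0,0,2,1,1]), (2, [0,3,0,3,3,0,3,1]),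
   (2, [1,3,3,1,3,1]), (2, [2,2,1,1,2,2,0]), (2, [2,1,2,1,3,0]), (2, [0,3,0,2,1,1,3,0]), (2, [0,3,0,0,2,0,2,0,0]), (2, [2,1,3,0,0,0]),
   (2, [0,3,0,0,2,2,1,2]), (1, [1,3,3,0,0]), (2, [2,0,0,2,0,0,3,3,1]), (2, [2,1,3,0,3,1,2,0]), (2, [1,2,2,1,3,3]), (2, [0,3,1,2,2,0,3,0]),
   (2, [0,2,1,2,0,0,3,1]), (2, [2,2,2,0,0,2,0,0]), (2, [2,0,2,0,0]), (2, [0,2,1,2,1,3]), (2, [3,1,2,0,0,2]), (2, [2,1,3,1,2,0,3,3,0]),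
   (2, [3,0,0,3,1,3,3]), (2, [0,2,2,2,1,2,2,2]), (1, [1,3,1,2,0]), (2, [0,2,1,1,2,2,0]), (2, [2,2,2,0,0,0]), (2, [2,0,2,2,0]),
   (2, [2,2,2,0,2,1,2,0]), (1, [0,2,0,3,3]), (2, [2,0,2,0,2,1,2]), (2, [2,1,3,0,2,0,3,3]), (2, [2,1,3,1,3,1,1,3,1]), (2, [2,1,3,0,0,3,0,0]),
   (1, [1,3,0,2,0,0,3]), (2, [1,2,1,3,1,3,0,3,3]), (2, [1,3,0,0,0,2,1,1]), (2, [2,1,3,1,1]), (2, [1,3,0,2,0,0,3,1,1,2]), (2, [0,3,0,3,0,3,1,1,2,2]),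
   (2, [2,1,2,2,2,1,3,0]), (2, [3,0,2,1,3,1,3,1]), (2, [2,0,3,1,2,2,0]), (2, [0,2,1,2,1,2,2,1]), (2, [1,3,0,2,2,2,1,1,2]), (2, [0,2,1,1,2,1,3,3]),
   (2, [0,3,1,1,2]), (2, [1,2,1,3,0,0]), (2, [3,0,0,3,3,0]), (2, [2,0,0,0,3,1,1,2]), (2, [0,2,1,2,0,0]), (2, [2,1,2,0,2,2,2,0]),
   (2, [1,3,3,1,3,0,0,3,0]), (2, [3,1,2,2,1,2,0,3]), (2, [2,0,3,1,3,0,2,2]), (2, [2,1,1,2,0,3,3]), (2, [0,2,2,1,2,0,3]), (2, [0,2,0,2,2,0,0,3]),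
   (2, [1,2,1,3,1,1,2,1,3]), (2, [1,3,0,2,0,0]), (2, [3,3,1,2,1]), (2, [0,3,0,3,0,0,2,0,2]), (1, [0,3,0,0,3]), (2, [3,0,3,0,0,3,1,1]),
   (2, [3,0,2,1,3,1,1]), (2, [0,2,0,2,2,1,2,0]), (2, [2,2,1,2,1,2]), (2, [3,0,0,0,2,2,2,0]), (2, [1,2,1,2,0,2,0]), (2, [2,2,1,3,0,3,1,1]),
   (2, [2,1,3,0,2,2]), (2, [0,2,0,0,2,2,0]), (2, [2,1,3,1,2,0,0,2,1]), (2, [0,2,2,2,1,3,1,2]), (2, [1,2,0,2]), (2, [2,1,1,2,1,2,2]),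
   (2, [2,0,0,3,0,2,0]), (2, [2,2,0,0,0,2]), (2, [0,2,2,1,2]), (2, [2,1,1,2,0,3,1]), (2, [3,3,1,2,1,1]), (2, [2,0,2,0,3,0,0]),
   (1, [0,3,0]), (2, [3,0,0,3,0,3,1,3]), (1, [1,3,0,2,0]), (2, [1,3,1,2,0,2]), (2, [0,3,1,1,2,1,3,3,0]), (2, [2,2,1,3,0]),
   (2, [3,3,1,2,0]), (2, [0,2,0,2,1,2,1,1,2,0]), (2, [0,2,0,2,2,0]), (2, [0,2,0,0,0,3,1]), (2, [3,0,0,0,2,1,1,3]), (2, [2,0,2,0,0,2,1]),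
   (2, [1,2,0,2,0,2,1,3]), (2, [3,0,2,1,2,1]), (2, [1,2,0,2,1,1,3,0,3]), (1, [0,2,0,3,1]), (2, [0,2,1,1,3,0,3,3,1]), (2, [0,3,0,2,0,3,1,2,1]),
   (2, [3,0,2,1,2,0,0]), (2, [0]), (2, [0,2,1,1,2,0,0]), (2, [0,2,0,2,2,1,3,0,0,2]), (2, [2,1,1,2,1,2,1,3,1]), (2, [2,0,3,3,0]),
   (2, [3,0,3]), (2, [2,1,3,0,2,0,0,2]), (2, [1,3,0,3,3]), (2, [3,0,3,3,1,3,1]), (2, [2,0,2,2,0,0]), (2, [1,3,0,2,1,1,2,1,1]),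
   (2, [2,2,1,2,0,2]), (2, [0,3,0,2,0,2,2,2]), (2, [1,2,0,0,0,2]), (2, [0,2,2,2,1,3,0,2]), (2, [2,2,1,3,1]), (2, [3,0,0,2,2,2,0]),
   (2, [2,0,0,0]), (2, [3,0,3,3,1,2,0,2]), (2, [2,1,1,2,2,0,2]), (2, [2,1,3,0,0,3,0]), (2, [2,2,1,2,1,1]), (2, [1,2,0,3,1,2]),
   (2, [2,2,1,1]), (2, [2,0,3,1]), (2, [2,0,2,0,2,1,1,3]), (2, [0,2,1,1,2,0,0,2,0]), (2, [3,0,2,1,2,0,2,1]), (2, [0,3,1,1,2,2,0]),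
   (2, [3,1,1,3,1,3,1,3]), (2, [3,3,1,3,1,2,1,3]), (2, [2,2,0,3,0,2,1,3]), (2, [2,1]), (2, [0,3,1,1,2,1,3,3]), (2, [2,1,2,1,2,2,0,3]),
   (2, [0,2,0,2]), (2, [1,2,1,3,1,3,0,3]), (2, [3,0,0,2,0,3,3,0]), (2, [2,0,0,2,0,2,2,1,3]), (2, [1,3,3,1,3,3]), (2, [2,1,1,2,2,0]),
   (2, [1,2,2,1,1,2]), (2, [3,0,0,0,3,1,1]), (2, [2,0,0,3,0,0,0]), (1, [1,3,0,0,0]), (2, [1,3,0,0,0,3,0,3,1]), (2, [0,2,1,1,2,2,1]),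
   (2, [2,1,2,0,3,1,2,2]), (2, [0,2,0,2,0,0]), (1, [2,1,3,1]), (2, [0,2,1,2,1,3,0,3]), (2, [2,0,2,1,1,2,0,2]), (2, [0,2,1,3,0,0,2,0,0]),
   (2, [0,2,1,1,2,0,2,1,3]), (2, [1,3,3,0,0,2,0,3]), (2, [0,2,2,1,2,2]), (2, [2,0,0,3,0,3,0,2,0]), (2, [0,2,0,3,1,1,3,1,3]), (2, [2,0,2,0,2,0,0]),
   (2, [2,0,3,0,0,2,2,2]), (2, [1,3,3,1,3,1,2,1]), (2, [0,3,1,1,3,3,0]), (2, [0,2,0,0,2,0]), (2, [2,0,0,2,0,0,0,2,1]), (2, [3,0,0,3,0,3,1]),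
   (2, [0,2,2,2,1,2,1]), (2, [1,2,1,2,0,2,1]), (2, [1,2,1,2,0,0,2,2,2]), (2, [1,3,0,3,0,2,0,3]), (2, [1,2,1,3,1,3,3,0]), (2, [2,2,2,1,2,0,0]),
   (2, [0,3,0,3,0,3,1,1,2,0]), (2, [0,2,0,2,2,1,2,1]), (2, [2,1,2,0,2,1,3,3]), (1, [2,1,2]), (2, [1,2,0,0,0,3,1,1,2]), (2, [1,2,1,3,1,1]),
   (2, [3,0,0,3,1,2,2]), (2, [2,1,2,2,0,2,1]), (2, [2,1,2,2,2,0,3,3]), (2, [1,2,0,0,2,2,1]), (2, [2,1,3,0,0]), (2, [0,2,1,2,2,2,1,3]),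
   (2, [3,0,3,0,0,3,0,0]), (2, [3,0,2,2]), (2, [2,1,2,0,3,0,2]), (2, [2,1,1,3,3,1]), (2, [2,1,3,0,2,2,0,0]), (2, [0,2,2,2,1,3,1,2,0]),
   (2, [1,2,0,2,0,0]), (2, [0,2,0,3,1,3,1,1]), (2, [0,2,2,0,3,0]), (2, [0,2,1,2,1,2,2,0]), (2, [2,1,2,0,2,2,0,0]), (2, [3,1,3,3,0,3,1,2,0]),
   (2, [2,2,1,3,0,3,0,0]), (2, [0,3,1,2,2,1,2]), (2, [3,0,0,0,2,0,0,3]), (1, [1,3,0]), (2, [2,0,3,1,2,0,0,2]), (2, [0,3,0,2,1,1,2]),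
   (2, [0,3,0,0,0,2,0,2]), (2, [0,3,1,1,2,0,3]), (2, [3,0,0,2,2,2,0,0]), (2, [2,1,2,0,0,3,3,1]), (2, [1,3,0,2]), (2, [0,3,0,3,1,1,3]),
   (2, [2,0,3,1,1,2,1,3]), (2, [0,3,0,0,3,1,3,1,2]), (2, [2,2,2,1,3,0,0,2,1]), (1, [2,2,0,0,0]), (2, [3,3,0,3,3,0,3]), (2, [0,3,1,1,2,0,3,1,1]),
   (2, [0,2,1,2,1,1]), (2, [0,2,1,3,3,0,2]), (2, [0,2,2,0,3,3]), (2, [0,2,0,3,0,2,2,0]), (2, [3,0,3,0,3,3,1]), (2, [3,0,3,3,1,2,0,2,0]),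
   (2, [2,1,2,1,1,2,1,3]), (2, [1,2,2,2,1,3,0,0]), (2, [0,3,1,2,0,2,0,0]), (2, [0,2,2,2,1,2,0,3]), (2, [0,2,1,1,3,0,3,3]), (2, [0,3,3,0]),
   (2, [0,3,3,0,2,1,3]), (2, [2,0,3,1,2,2,1,2,0]), (1, [1,1,3,3]), (2, [0,2,2,2,0,0,2]), (2, [2,0,0,2,1,1,2,0]), (2, [0,3,1,1,2,2,1]),
   (2, [2,0,0,2,0,3]), (2, [2,2,2,0,2,0]), (2, [0,2,1,1,3,1,1,2]), (2, [1,2,1,2,0,3,1,3]), (2, [0,3,0,0,3,0,0]), (2, [3,0,0,3,3,0,3]),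
   (2, [0,2,1,2,0,0,3,1,3]), (2, [0,3,1,2,2,2,1]), (2, [1,2,1,3,1,2,0,0]), (2, [3,0,3,0,3,1,1,3]), (2, [2,2,2,1,3,1,3,1]), (2, [0,3,0,3,1,1,3,1,3]),
   (2, [1,2,2,0]), (2, [0,3,1,1,2,2,2,0,0]), (2, [2,0,0,2,1,1,3,0,2]), (2, [3,3,1,3,0,3]), (2, [3,0,0,3,0,0,0]), (2, [0,2,1,2,2,0,2,0]),
   (2, [3,3,1,1,2,1]), (2, [3,3,0,3]), (2, [3,1,2,1]), (2, [3,0,3,1,1,2,0,2]), (2, [3,3,0,2,2]), (2, [0,2,1,2,1,2,0,0]),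
   (2, [0,2]), (2, [2,0,0,2,1,1,3,3]), (2, [0,2,0,3,0,3]), (2, [1,2,0,0,3,0,0]), (2, [3,1,1,2,2,0,0]), (2, [0,3,0,2,2,1,3,0,0]),
   (2, [0,2,1,1,3,0,0,2,0]), (2, [2,0,2,0,2,0,0,3,1]), (2, [2,0,2,1,2,0]), (2, [2,0,3,1,2,0]), (2, [0,3,0,0,0,2,0,2,0]), (2, [2,0,0,2,1,1,3]),
   (2, [1,2,1,2,1,3,0]), (2, [2,2,1,2,2,0,3]), (2, [0,3,1,2,0,3,1]), (2, [3,0,2,0,0]), (2, [1,3,0,2,1,1,3]), (2, [1,2,2,2,1,3,0,2,1]),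
   (2, [2,1,3,3]), (2, [0,2,1,3,3,1,1,2,1]), (2, [1,2,1,2,1,3,0,2]), (2, [2,0,3,1,2,0,2]), (2, [2,2,2,1,2,0,2,1]), (2, [0,3,0,2,0,3,3,0,2]),
   (2, [3,0,3,0,0,3,3]), (2, [0,3,0,2,0,3,0,0]), (2, [1,3,0,0,0]), (2, [1,3,3,1,2,2,0]), (2, [0,3,1,2,0,3,1,3]), (2, [0,2,2,1,2,1]),
   (2, [1,3,0,3,1,2,0,2]), (2, [0,2,0,2,1,2,1,2,2]), (2, [0,2,1,2,1,1,2,1,3]), (2, [0,3,3,1,2,1,3,0,0]), (2, [0,3,0,3,3,1,1]), (2, [2,0,0,2,0,3,1,3,3]),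
   (2, [0,2,0,2,2,1,3,0,0,3]), (2, [2,1,3,0,0,0,2,0,2]), (2, [2,2,1,3,0,3,3]), (2, [2,0,3,1,3,0,2,1]), (2, [0,2,2]), (2, [2,2,1,2,0,0,2,0]),
   (2, [0,2,0,3,0]), (2, [0,2,2,1,2,1,2]), (2, [3,1,1,2,2,0]), (2, [2,0,2,0,3,3]), (1, [0,2,0,0]), (2, [0,2,2,2,1,3,0]),
   (2, [0,2,2,2,1,1,2]), (2, [0,3,1,2,2,0,2]), (2, [2,1,3,0,2,0,0,3]), (1, [1,3,0,2,1,3]), (2, [0,2,1,1]), (1, [0,3,1,3]),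
   (2, [2,0,2,0,0,2,2,0]), (2, [3,0,3,1,1,2,1]), (2, [2,1,1,2,0,2,1,2]), (2, [0,2,0,0,0,2,1,2]), (2, [0,2,0,2,2,1,3]), (2, [0,2,0,2,0,3,0,0]),
   (2, [2,2,1,3,0,3,0,2,1]), (2, [1,3,0,2,1,2,1]), (2, [1,2,1,3,0,0,2,2]), (2, [2,1,1,2,0,2]), (2, [0,2,2,2,1,3]), (2, [2,2,2,0,3,0,0]),
   (2, [0,3,0,3,0,2,1,3,1]), (2, [0,3,1,2,1,1,2,1,3]), (2, [2,1,3,0,0,0,2]), (2, [1,2,1,3,1,3,1]), (2, [0,2,1,2,2,0,2,1,2]), (2, [1,2,0,3,0,0,2]),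
   (2, [0,2,0,0,0,3]), (2, [0,2,0,0,3,0,2,0,0]), (2, [1,2,1,2,1,2,0]), (2, [1,2,0,2,1,1,2,1,1]), (2, [0,3,0,2,2]), (2, [0,2,1,2,2,2,0,3,3]),
   (2, [1,2,0,0,0]), (2, [0,2,0,2,0,3,0]), (2, [2,0,3,1,1,3,1]), (2, [2,1,1,3,1]), (2, [0,2,1,3,1,1,3,3]), (2, [2,0,2,1,2,1,2,0]),
   (2, [2,1,2,0,3,0,0,0,2]), (2, [2,1,3,0,3,3,0,0]), (2, [0,3,1,1,2,1]), (2, [1,2,1,2,0,3,3,1,2]), (2, [2,0,3,1,2,1,2,0]), (2, [0,2,1,1,2,0]),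
   (2, [2,1,3,0,2,0]), (2, [2,0,2,2,1,2,0]), (1, [0,3,1,1]), (2, [0,3,1,1,3,0,2,2]), (2, [0,2,1,1,2,1]), (1, [1,3,0,2,1,1]),
   (2, [0,2,2,1,2,0,0,0]), (2, [0,3,0,2,1,3,3,0]), (1, [0,2,0,0,2,1]), (2, [2,0,2,0,3,1]), (2, [0,3,0,2,0,0,2,2]), (2, [0,2,0,2,2,1,1]),
   (2, [2,1,2,2,0,2,0]), (2, [2,1,1,2,0,3,0,0]), (2, [3,0,2,1,1,2]), (2, [0,2,2,2,1,1,2,0,0]), (2, [0,2,0,0,2,0,0]), (2, [1,2,1,3,0,3,1]),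
   (2, [1,2,1,3,0,3,0,0]), (2, [1,3,1,2,0,2,0]), (2, [2,2,1,1,3,3]), (2, [3,1,3,3,0,3,1,2]), (2, [0,3,0,2,2,1,1]), (2, [0,2,1,3,0,2,0,3]),
   (2, [2,0,3,1,3,1,2,0,2]), (2, [0,2,2,2,1,1,2,1]), (2, [0,2,0,0,2,1]), (2, [0,3,0,2,2,0]), (2, [3,0,0,2,1,1,2,2]), (2, [0,3,0,3,0,0,3,0]),
   (2, [2,2,1,2,0,3,0,2,0]), (2, [1,3,0,3,1,3]), (2, [1,3,0,2,1,2]), (1, [2,0,3,1]), (2, [0,3,3,1,2,1,3,0,2]), (2, [1,2,2,2,1,2,0,3]),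
   (1, [2,0,0,2,2,2,0]), (2, [3,0,3,0,0,3,0,0,0]), (2, [1,3,0,2,0,2]), (2, [1,2,1,3,1,3,1,1]), (1, [2,0,0,2,1,2,2]), (2, [0,3,3,1,2,1,3,1,2]),
   (2, [1,2,1,3,0,2,1,1]), (2, [1,2,0,0,0,2,1,3]), (2, [2,2,0,3,1,3,1,2]), (2, [0,3,0,3,0,2,1,1,2]), (1, [3,1,3,1,2,0]), (2, [1,3,0,3,1,1,3,1]),
   (2, [1,3,1,2,2,0]), (1, [3,1,2,0,3,0]), (2, [2,1,3,0,0,0,2,1,3]), (2, [2,2,0,2]), (2, [1,3,0,3,1,1,2,1]), (2, [0,2,2,0,0,0,2]),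
   (2, [1,3,0,2,0,2,2,1,2,1]), (1, [0,0,0,2,0,2]), (2, [1,3,0,2,1,2,2,1,2,1]), (2, [1,2,0,0,0,2,1,1,2,1]), (2, [0,3,3,1,2,2,2]), (2, [1,2,1,2,1,1,2,0,0,0]),
   (2, [0,2,0,3,1,2,0,3]), (2, [0,3,0,2,0,0,3,1]), (2, [0,3,0,0,0,3]), (2, [0,3,0,2,0,3,3,1,3]), (2, [0,3,0,2,0,2,1,3]), (2, [2,0,2,1,1,2,2,2]),
   (2, [0,3,0,2,2,2,0,0,3]), (2, [3,3,1,3,1,2]), (1, [1,2,0,0,2,0,3]), (2, [3,0,2,1,2,2]), (1, [3,0,3,3]), (2, [0,3,1,1,3,0,3,1]),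
   (2, [2,0,2,0,2,0,2]), (1, [0,2,0,3,1,3]), (2, [2,0,0,0,3,0,3,3]), (2, [2,1,1,2,0,2,0,2,0]), (2, [2,1,3,0,2,2,0]), (2, [2,2,2,0,3,1,2,1]),
   (2, [1,3,0,2,1,2,2,1,2]), (2, [1,3,0,2,1,2,2,0]), (2, [2,0,0,0,3,0,0,3]), (2, [0,3,0,2,2,2,1,2]), (2, [3,0,3,3,0,0,3]), (2, [1,2,1,3]),
   (2, [0,3,0,3,0,2]), (2, [3,0,2,1,2,2,1,3]), (2, [2,1,3,0,2,0,0,2,1]), (2, [1,3,0,2,0,3,1,3,3]), (2, [2,0,3,3,1,2,1,3]), (2, [0,2,2,0,0,3,1,2]),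
   (2, [2,0,0,0,3,0,0,2]), (2, [0,2,2,1,1,2,1,2,1,1]), (2, [3,0,0,0,2,1,2,1]), (2, [3,0,2,1,2,2,1,2]), (2, [2,2,2,0,0,2,1,3]), (2, [1,3,0,2,2,2,0,0,2]),
   (2, [1,3,0,2,0,3,1]), (2, [0,3,0,2,0,2,2,1]), (2, [0,3,0,0,3,1,3]), (2, [0,3,0,3,0,2,0]), (2, [0,2,0,0,0,3,1,2]), (2, [1,2,1,2]),
   (2, [2,0,2,0,0,2,1,3]), (2, [1,3,3,1,3,1,3]), (2, [2,2,1,2,0,0,0,2])]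

theorem hbaseT : (∀ x ∈ baseT, x < 2 ^ 24) ∧ baseT.Nodup := by decide +kernel

theorem hgenT : ∀ g ∈ gensT, genChkS baseT g = true := by decide +kernel

theorem hrootsT : ∀ r ∈ rootsT, (∀ x ∈ r, x < 2 ^ 24) ∧ r.Nodup := by decide +kernel

theorem hclsT : ∀ e ∈ tabT, e.1 < rootsT.length := by decide +kernel

theorem hincT : incChk (tabKeys gensT rootsT tabT) 0 = true := by decide +kernel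

theorem hinvT : ∀ c < rootsT.length, ∀ c' < rootsT.length,
    invLE 2 baseT (rootsT.getD c []) = invLE 2 baseT (rootsT.getD c' []) → c = c' := by
  decide +kernel

theorem hlenT : tabT.length = 3795 := by decide +kernel

theorem hcountT : ∀ c < rootsT.length, (tabT.filter (fun e => e.1 == c)).length = sizeT c := by
  decide +kernel

end Cfsg.Agent.Lib_lead_MixOctTrio
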