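import Mathlib
import Cfsg.Prelude.Def_SporadicCombinatorics
import Cfsg.Agent.Lib_lead_ObjOrb4

/-! Orbit certificate: stabilizer of an octad and of a trio through it, on trios. Generators of the stabilizer of the base family, and every member
of the other family as the image of one of the orbit representatives under a word in them. -/

set_option autoImplicit false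

namespace Cfsg.Agent.Lib_lead_MixOctTrio2

open Cfsg Cfsg.Agent.Lib_lead_Golay Cfsg.Agent.Lib_lead_GolayPerm Cfsg.Agent.Lib_lead_M24
  Cfsg.Agent.Lib_lead_M24Chain Cfsg.Agent.Lib_lead_M24Orb Cfsg.Agent.Lib_lead_ObjOrb
  Cfsg.Agent.Lib_lead_ObjOrb3 Cfsg.Agent.Lib_lead_ObjOrb4
open scoped Pointwise

/-- the base family -/
def baseT : List ℕ := [126216, 3277413, 13373586, 13499802]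

/-- generators of the stabilizer of the base family -/
def gensT : List (List ℕ × List ℕ) :=
  [([2, 15, 0, 7, 13, 17, 21, 3, 22, 20, 23, 12, 11, 4, 19, 1, 18, 5, 16, 14, 9, 6, 8, 10], [2, 15, 0, 7, 13, 17, 21, 3, 22, 20, 23, 12, 11, 4, 19, 1, 18, 5, 16, 14, 9, 6, 8, 10]),
   ([20, 12, 17, 8, 1, 0, 9, 4, 15, 2, 11, 14, 7, 10, 13, 16, 3, 6, 19, 22, 21, 5, 23, 18], [5, 4, 9, 16, 7, 21, 17, 12, 3, 6, 13, 10, 1, 14, 11, 8, 15, 2, 23, 18, 0, 20, 19, 22]),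
   ([5, 4, 9, 16, 7, 21, 17, 12, 3, 6, 13, 10, 1, 14, 11, 8, 15, 2, 23, 18, 0, 20, 19, 22], [20, 12, 17, 8, 1, 0, 9, 4, 15, 2, 11, 14, 7, 10, 13, 16, 3, 6, 19, 22, 21, 5, 23, 18]),
   ([5, 8, 0, 4, 3, 17, 20, 10, 1, 21, 19, 18, 14, 22, 12, 7, 23, 2, 13, 15, 9, 6, 11, 16], [2, 8, 17, 4, 3, 0, 21, 15, 1, 20, 7, 22, 14, 18, 12, 19, 23, 5, 11, 10, 6, 9, 13, 16]),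
   ([2, 8, 17, 4, 3, 0, 21, 15, 1, 20, 7, 22, 14, 18, 12, 19, 23, 5, 11, 10, 6, 9, 13, 16], [5, 8, 0, 4, 3, 17, 20, 10, 1, 21, 19, 18, 14, 22, 12, 7, 23, 2, 13, 15, 9, 6, 11, 16])]

/-- orbit representatives -/
def rootsT : List (List ℕ) :=
  [[126216, 3277413, 13373586],
   [628112, 3277413, 12871690],
   [1302533, 2101096, 13373586],
   [1315526, 2313249, 13148440],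
   [2491452, 4845570, 9440193],
   [1302533, 4982904, 10491778],
   [252432, 6554826, 9969957]]

/-- orbit sizes -/
def sizeT (c : ℕ) : ℕ := ([1, 14, 28, 56, 336, 672, 2688] : List ℕ).getD c 0

set_option maxRecDepth 1000000 in
/-- class and word of every member, sorted by key -/
def tabT : List (ℕ × List ℕ) :=
  [(6, [3,0,4,1,4,1,1]), (6, [1,0,3,3,0,3,1]), (6, [0,2,3,0,1,3,3]), (6, [0,2,3,2,3]), (5, [0,1,0,2,3]), (5, [0,4,0,1,1]),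
   (5, [0,4,0,2,3,2,4]), (5, [1,1,3]), (6, [2,4,2,3,3,1]), (5, [3,0,1,0,2]), (6, [0,1,1,3,1,1]), (6, [0,4,0,1,4,0,2]),
   (6, [0,1,1,3,1,4,1]), (6, [0,4,0,1,4,1,4]), (6, [0,3,2,4,1,3,3,2]), (6, [1,3,1,1,4,1,4]), (6, [3,3,2,3,2,4,2]), (6, [0,1,1,4,1,4,2]),
   (6, [4,1,4,2]), (5, [3,1,1]), (6, [0,1,1,3]), (6, [0,4,2,3,0,1,3]), (6, [1,1,3,3,0,4,2,3,1]), (4, [3,3,1,3]),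
   (5, [0,1,1,4,0]), (6, [2,4,2,3,0,1,4]), (4, [0,4,1,4]), (5, [0,4,1,0,2]), (6, [0,1,0,3,2,4,0]), (6, [0,1,0,3,2]),
   (5, [1,0,2,4,0]), (4, [0,4,1,3,1,1,4,2]), (5, [0,4,1,3,1,1]), (6, [2,3,1,3,3,0]), (6, [0,1,0,3,0,2]), (6, [3,1,1,3,0,1]),
   (6, [0,3,2,4,1]), (4, [3,2,3,2,4,1]), (6, [0,1,1,4,0,3]), (6, [2,3,1,3,3,1,1]), (6, [0,2,4,0,2,4]), (5, [3,0,4,1]),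
   (4, [3,1,1,3,2,4]), (6, [3,0,1,0,3,1]), (6, [0,4,0,1,0,3,2]), (5, [3,3,2,0]), (6, [3,1,1,3,2,4]), (6, [0,4,1,0,2,3,3]),
   (6, [3,2,0,3,3,1]), (6, [3,3,2,3,1,4,2]), (6, [1,4,1,4,2,4,2]), (4, [3,2,4,1]), (6, [0,2,4,1,3,0]), (6, [3,0,2,3,2]),
   (6, [1,0,2,4]), (4, [4,1,3,1,1,3]), (6, [0,1,3,2,3]), (6, [0,1,1,4,0,1,1]), (4, [0,4,1,3,2,4]), (5, [0,3,1,1,3,0]),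
   (6, [3,1,1]), (6, [0,1,0,3,1,4]), (4, [0,3,1,4,1]), (6, [0,3,2,3,1]), (5, [4,1,1,4]), (6, [0,3,0,1,4,2,3]),
   (6, [3,0,1,3,2,3,3,1]), (6, [0,3,0,1,1,4]), (6, [0,2,3,0,4,1]), (6, [0,1,0,2,3,3]), (6, [3,0,2,3,2,3,3]), (6, [1,3,2,4,2,4,1]),
   (6, [0,1,3,0,4,1,3]), (6, [1,0,3,0,1,3,3]), (5, [3,2,3,3,0]), (6, [0,3,2,3,3,1,4,1]), (6, [0,1,3,2,4]), (1, [1,4,2]),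
   (6, [1,3,3,1,3,1,1]), (6, [1,4,0,1,3,3]), (6, [2,4,0,1,3,3]), (4, [3,2,4,1,1,3,1]), (6, [0,2,3,0,1,1,3,2]), (5, [0,2,3,3,2]),
   (6, [4,0,1,3,2,4]), (6, [4,2,4,2,3,1,3]), (5, [3,0,1,0,4]), (4, [0,1,3,2,4,2,3]), (6, [2,4,0,3,3,2]), (6, [0,1,3,0,4,1,4]),
   (4, [1,3,2,3,2,3]), (6, [4,1,3,2,3]), (3, [0,1]), (6, [1,1,4,1,4,1,4]), (6, [3,0,3,3,1,1]), (6, [1,1,4,0,2,3,1]),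
   (4, [0,1,3,2]), (6, [3,1,3,3,0,1,3]), (1, [1,1]), (6, [0,1,4,2,3,0]), (6, [4,2,3,3,1,1]), (6, [0,2,0,3,3]),
   (6, [1,4,0,1]), (6, [1,3,2,4,2]), (6, [0,3,2,0,3,0,1]), (6, [1,1,3,3,0,3]), (6, [2,4,0,1]), (6, [1,1,4,0,1,1]),
   (6, [1,3,1,3,2]), (6, [2,0,4,2,3,0]), (4, [2,3,2,3,2,3]), (6, [1,3,0,2,3,3,2]), (3, [3,1]), (4, [0,4,1,3,1,1,3]),
   (4, [0,4,1,4,1,1]), (6, [3,2,3,2,4,1,1]), (6, [2,3,2,3,3,2]), (6, [0,2,3,0,2,4]), (4, [0,3,2,3,2]), (6, [0,1,1,3,0,1,4,1]),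
   (6, [0,3,0,2,3,0,2]), (6, [3,1,3,1]), (5, [1,3,2]), (6, [3,3,1,1,4,1]), (6, [1,4,2,3,3,0]), (6, [1,0,4,0,3]),
   (6, [2,4,0,2,3]), (6, [0,4,2,3,1,1,4]), (6, [0,1,0,3,0,2,3]), (6, [3,1,1,3,1,3]), (6, [2,3,3,0,2]), (3, [3,1,0]),
   (5, [4,1,0,2]), (6, [3,1,0,3,0,1,4]), (6, [0,1,4,1,1,4,2]), (6, [2,3,1,4,1,3,3]), (6, [1,0,3,0,3]), (4, [2,4,1,4,1,3,2]),
   (6, [2,4,1,4,2,4,2]), (6, [3,3,2,4,0]), (3, [2]), (6, [0,3,0,4,2]), (6, [2,0,4,2,3,3]), (6, [0,1,3,0,2,4]),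
   (4, [4,1,3,2,4,2]), (6, [0,3,1,4,2,3,0,2]), (6, [4,0,4,2,3]), (6, [2,3,2,3,1]), (6, [1,3,2,3]), (6, [4,0,2,3,3,1]),
   (6, [2,4,1,3,3]), (4, [0,2,4,1]), (6, [0,2,0,4,0]), (6, [1,1,4,1,1]), (6, [1,4,0,1,3]), (6, [2,3,3,1,4,2,4]),
   (6, [2,4,0,2,4,1]), (4, [4,1,1,3,1]), (6, [4,0,2,0,3]), (6, [4,1,0,3,3,1,1]), (6, [0,3,1,3,3]), (5, [2,4,0,1,1]),
   (4, [2,4,1,3,2]), (6, [0,2,3,1,4,1,4]), (4, [1,4,1,4]), (4, [3,2,3,1,3,2]), (6, [0,2,3,2,4,0,3]), (5, [0,1,1,4,2]),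
   (5, [0,4,1,0,3]), (6, [1,3,3,1,4,2,4]), (4, [3,3,2,3,2,3]), (6, [0,3,1,3,3,2,4]), (6, [4,0,2,0,4,2]), (6, [1,1,4,2,3,0,1]),
   (1, [1,3]), (6, [2,3,2]), (6, [1,0]), (6, [0,3,2,0,3,2,3]), (4, [1,4,1,3,1,1,3]), (6, [1,0,4,0,1,4,0]),
   (5, [3,2,4]), (6, [1,0,2,3]), (6, [1,1,3,0,2,3,2]), (6, [1,0,2,3,1,1,3]), (5, [0,2,4]), (6, [3,1,0,2,3,3,2,4]),
   (4, [0,3,0]), (6, [1,0,2,4,1,3,3,1]), (5, [0,1,3,1,1]), (6, [2,0,3,2,3,2]), (6, [3,1,3,3,1,1,3,2]), (6, [1,3,0,3,3]),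
   (6, [0,2,4,1,1,3,2]), (6, [1,3,1,1,4,0,1,4]), (6, [3,1,4,1,4,1]), (6, [0,1,3,2,3,3]), (6, [0,4,0,3,3,1]), (6, [0,2,3,3,1,1,3]),
   (6, [4,1,3,1]), (6, [1,0,4,1,3,0]), (5, [1,1,3,0,2]), (4, [2,3,2,3]), (5, [0,4,0,2,3]), (6, [1,1,3,1,1]),
   (5, [0,3,2]), (6, [1,3,1,3,3,0]), (6, [4,2,3,1,4,0,3]), (6, [2,3,3,1,4,0,1]), (6, [0,4,2,0,4,1,1]), (6, [0,2,3,2,4,1,1,4]),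
   (6, [0,3,1,4,0,4,2]), (5, [4,1,3,2]), (6, [0,1,0,3,1]), (6, [1,3,3,0,1,3,2]), (5, [0,3,2,4,1,1]), (6, [4,0,3,1,3]),
   (6, [0,2,4,0]), (6, [0,3,0,1,1,4,0]), (6, [0,3,1,0,3,2,3]), (5, [1,3,3,2,4,1]), (6, [0,4,1,4,1,4]), (6, [0,4,1,4,1,3,1,1]),
   (6, [1,0,3,1,4,0]), (5, [0,4,0,2,4,1]), (4, [1,3,3,1,4]), (6, [3,1,4,1,1,3]), (6, [1,1,4,0,2,3,2]), (6, [3,1,0,3,3,0,2]),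
   (6, [0,2,4,1,4,2,4]), (6, [1,3,2,4,0,1,1]), (6, [0,1,3,0,2,3,2]), (6, [1,1,3,2,3,1,1]), (1, [2,3,3]), (6, [4,0,3]),
   (6, [0,1,1,3,0,1]), (6, [0,3,0,1,4,1,1]), (6, [0,3,2,3,2]), (6, [4,2,3,3]), (6, [1,4,2,3,2,4]), (5, [0,4,0,3,1,3]),
   (6, [0,4,0,2,4,1,1]), (6, [1,4,0,2,3]), (6, [2,0,4,1,1,3,3]), (6, [3,2,0,3]), (6, [0,4,0,4]), (5, [1,3,3]),
   (5, [0,3,0,2]), (4, [3,3,2]), (5, [0,3,0,1,3]), (6, [0,4,1,3,1,4]), (6, [3,1,4,0]), (6, [1,0,2,3,0,1,3,3]),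
   (4, [1,1,3,2]), (5, [0,4,1,0,4,1]), (6, [0,3,3,1,4,1,1]), (4, [3,1,1,4,1,1]), (5, [0,3,2,4]), (6, [0,3,2,4,0,3]),
   (6, [0,4,2,3,1,3,1]), (6, [1,3,3,0,1,1,3,1]), (6, [3,1,4,2,3,3,1]), (5, [0,3,3,2,0,3]), (6, [1,0,2,3,0,1,4,1]), (6, [0,1,4,1,1,4,2,3]),
   (4, [3,2,3,2]), (6, [2,3,3,0,4,1]), (6, [0,3,1,3,3,0,3,1]), (6, [3,0,1]), (6, [1,4,1,4,1,4,1,3]), (6, [1,0,2,4,2]),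
   (4, [1,3,3,1,4,2]), (6, [1,3,3,1,4,1,3]), (6, [1,1,3,1,3,3,0]), (6, [1,3,0,1]), (6, [1,0,4,1]), (4, [1,1]),
   (6, [0,3,2]), (6, [2,3,1,4]), (6, [0,1,3,0,1,3,0]), (6, [2,4,0,4]), (6, [4,0,1,3]), (5, [0,3,2,0,4,2]),
   (6, [1,0,2,4,1,3,1]), (6, [0,4,2,4,2,3]), (6, [1,1,3,1,3,3]), (4, [0,3,2,3,1,1,3]), (6, [3,0,4,1,3]), (6, [0,2,0,3,1,4,0]),
   (6, [0,3,1,3,3,2,3]), (5, [4,0,1,3]), (6, [2,3,1,1,4]), (6, [4,1,4,1,4]), (6, [3,0,2,0,4,0,2]), (5, [2,0,3,1,1]),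
   (6, [3,1,3,2,4,2,4]), (6, [0,4,2,0,4,1,3,3]), (6, [4,2,3,1,4,2]), (6, [2,0,3,2,3,2,4]), (6, [0,3,3,1,3,2,3,3]), (6, [1,0,2,3,0,4,1]),
   (5, [1,0,2,4,2]), (6, [1,3,1,1,3,2]), (5, [0,3,0,1]), (6, [1,0,4,1,1]), (6, [1,0,4,1,4,1]), (5, [3,0,1,0,3]),
   (6, [4,2,3,1,4,0]), (6, [0,4,0,1,4,1,3]), (6, [4,0,2,3,2,4,0]), (6, [0,3,0,3,1,4,2,4]), (6, [1,3,1,4,0,1,1]), (6, [0,2,4,1,3,1,4,2]),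
   (6, [0,2,4,2,3,1,1]), (6, [0,3,2,0,3,0,2]), (4, [2,3,2,3,1,1,4]), (6, [0,1,4,1,1,4,1]), (6, [0,1,3,0,4,1]), (5, [4,1,1,3,1]),
   (6, [3,3,2,3,1,3,0]), (6, [0,3,0,4,2,4]), (6, [1,4,2,4,0,3]), (4, [4,1,3,1,1,4]), (4, [4,1,1,3,2,3]), (5, [4,1,0,2,3,3]),
   (5, [4,0,2,3,1,3]), (4, [2,3,3,2,3,1]), (4, [0,2,4,1,3]), (5, [3,2,0,3,1]), (6, [1,3,1,1,3]), (6, [1,0,2,3,0,1,3]),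
   (6, [0,2,4,2,3,2]), (5, [2,3,1,1,3,1,3]), (6, [0,4,2,3,1,1,3]), (6, [3,1,0,4]), (1, [3]), (5, [0,2,4,0,4]),
   (6, [3,3,2,4,1,4]), (6, [1,3,0,4,1,1,4]), (6, [0,1,3,2,3,3,1,3]), (6, [4,0,1,1,3,0]), (5, [0,1,3,0]), (6, [1,0,2,3,1,4,1]),
   (6, [2,4,0,1,3,3,2]), (5, [3,2,3]), (5, [4,2,3,1,4,2]), (6, [0,3,3,1,1,3]), (6, [3,3,1,4]), (6, [0,4,1,0,3]),
   (6, [3,0,1,1,4,2]), (4, [4,2,3,2]), (5, [3,0,1,3,1]), (4, [1,3,3,2,3]), (6, [3,3,2,3,3,1]), (6, [1,3,3,1,4,2]),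
   (6, [0,1,3,1,4,1,3]), (1, [1,4,1,3]), (6, [0,2,4,1,4,2]), (6, [1,0,2,4,1,3,2]), (6, [0,4,0,3]), (6, [3,1,3,0,4,1]),
   (6, [0,2,4,0,2,4,2]), (5, [3,1,0,2,3,2]), (6, [0,1,0,2]), (6, [3,3,1,4,2]), (6, [1,3,3,0,4,1]), (6, [4,1,3]),
   (5, [1,3,0]), (6, [1,1,3,1,4,0,4]), (4, [0,4,1,4,1,4]), (6, [0,2,0]), (6, [0,3,3,1,0]), (6, [3,3,0,4,1,1]),
   (6, [0,1,3,2,4,0]), (6, [1,0,3,3]), (6, [1,1,3,3,0,4]), (5, [3,3,2]), (6, [3,0,1,3,3,2,3]), (6, [4,0,3,1,4,2,3,1]),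
   (6, [0,3,1,3,2,4,1]), (6, [0,2,3,3,0,2,3]), (5, [3,0,1,1,3,2]), (6, [0,3,0,2,3,2,4]), (6, [0,4,1,4,1,3]), (6, [1,4,1,3,2]),
   (6, [2,3,1,3,3,2,3]), (5, [3,0,1,3,2]), (6, [3,3,0,4,2]), (5, [4,1,1,3]), (6, [1,1,4,2,3]), (6, [3,0,2,3,2,3]),
   (6, [0,3,2,3,3,0]), (6, [3,1,3,3,2,4,1]), (6, [0,2,3,0,4,2]), (5, [2,3,1,1,4,1]), (6, [0,1,0,2,3,2,3]), (6, [1,4,2,3,1,1]),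
   (5, [3,2,0,3,2]), (5, [2,4]), (6, [1,1,4,1,4,1,3]), (6, [3,1,4,0,3]), (6, [4,1,3,1,4]), (5, [3,0,4,1,0]),
   (6, [0,4,0,1,1,3,1]), (6, [0,1,1,4]), (4, [2,3,2]), (5, [4,0]), (6, [0,1,1,3,0,1,3,3]), (4, [0,3,3]),
   (6, [0,2,3,1,1,4,2,4]), (6, [1,0,4,0,1]), (6, [1,4,2,3,2,3]), (4, [3,1]), (6, [0,3,1,0,3,2,3,3]), (6, [1,3,1,4,2,4,0]),
   (6, [4,2,3,1,1]), (5, [0,4,1,3,2,4]), (6, [3,1,4,1,3,1,4]), (6, [4,0,2,3]), (6, [1,1,3,0,1]), (5, [0,2,3,3,0]),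
   (5, [1,0,4,1,1]), (6, [3,0,2,0]), (6, [4,2,3,0,4]), (6, [3,3,0,1,3,2,3]), (6, [2,0,4,2,3]), (6, [0,4,0,1,4,0,1,1]),
   (5, [1,4,2,3,1]), (6, [2,3,2,3,1,3]), (6, [0,2,3,2,4,0,4]), (6, [0,2,3,0,3,3]), (6, [2,0,3,3,2,4]), (6, [3,0,4,1]),
   (6, [4,0,2,0,3,1,1]), (4, [1,3,3,2,3,1]), (6, [4,0,2,3,3,1,4]), (6, [4,1,3,3,0,1]), (6, [3,0,1,0]), (6, [0,2,3,1,3,3,2]),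
   (6, [3,2,0,4]), (6, [1,4,1,1,3,2,3]), (6, [0,3,2,0,4,1,3,0]), (6, [1,0,2,4,1,4,2,4]), (5, [2,4,1,1,3]), (6, [1,0,4,2,3,1,1]),
   (6, [4,0,1,1,3,2]), (6, [2,3,2,4,2]), (4, [1,3,2,3,2]), (6, [0,1,1,4,2]), (5, [0,3,3,0,2]), (6, [0,2,4,0,2,3]),
   (5, [0,3,1,0,2,4]), (6, [3,0,2,3,1,1]), (6, [1,4,0]), (1, [1]), (6, [2,4,1,4,1,1,3,0]), (6, [1,3,2,3,2,3,2,3]),
   (5, [0,4,0,1,4,2]), (6, [3,0,4,1,4,2,4]), (3, [0,1,1,3]), (6, [2,4,0,2,3,3,1]), (6, [1,3,2,4,1,3]), (6, [0,3,3,1,4,1,4]),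
   (6, [0,1,3,2,4,1,3,2]), (6, [0,2,3,3,0,4,2]), (5, [3,3,0,4]), (6, [0,4,0,1,1]), (4, [0,1,4]), (6, [1,1,3,1,1,4,1]),
   (6, [0,2,3,1,4,1,3]), (6, [0,1,0,4,1,4,1,4]), (6, [3,3,1,1,4,1,3]), (5, [1,3,1,3]), (6, [3,1,3,2,3,3,2]), (5, [4,0,2]),
   (4, [2,3,1,3]), (6, [0,4,0,2]), (6, [0,2,3,3,2,4]), (6, [1,0,4,2,3,2]), (5, [1,4,1,1,4,2]), (4, [3,3,2,4,2]),
   (5, [0,1,3,0,3,3]), (6, [1,3,1,4,1,4,1,4]), (1, [2,3]), (3, [0,3,2,4]), (6, [3,0,2,3,1,3]), (5, [0,4,1,1]),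
   (6, [0,1,3,2]), (5, [2,4,2,3]), (6, [1,4,1,3,1]), (6, [0,4,1,4]), (6, [2,3,1,4,0,1,1]), (6, [0,3,1,4,0]),
   (6, [0,3,1,3,2,4,0]), (6, [2,4,1,1]), (6, [4,2,3,3,1,1,4]), (6, [4,2,4,1,3,2]), (3, [1,1]), (6, [1,0,1,3]),
   (6, [2,3,2,3,3,1,4]), (4, [3,1,4]), (6, [0,3,2,0,3,2]), (4, [0,2,3,2,3,1]), (4, [1,4,1,3,1,3]), (6, [3,1,1,3,3,2]),
   (6, [0,3,2,0,3,3,2]), (6, [1,3,3,2,4,2]), (6, [1,0,3,0,1,3,1]), (6, [1,1,3,0,3,3,2,3]), (6, [3,2,4,1,3,2]), (3, [0]),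
   (6, [1,3,3,1,4,2,3]), (5, [2,3,1,4,1,3,1]), (6, [3,2,3,2,4,2]), (4, [1,4,1,3,1,4]), (6, [1,3,3,0,4,2]), (6, [1,3,3,1,4,1,4]),
   (6, [0,2,3,3,2,4,1]), (6, [1,0,2,3,3,2]), (4, [0,4,1,3,2]), (6, [0,1,1,3,1,1,3]), (6, [3,0,2,3,2,4]), (6, [0,2,4,1,3,3,1]),
   (6, [4,2,4,1,3,1]), (5, [3,2,4,1,1,3]), (5, [3,0,3,1]), (3, [3]), (6, [0,2,0,3,2,4,0]), (6, [3,3,2,3,1,3,3]),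
   (4, [1,4,1,4,2,4]), (5, [4,1,4]), (5, [2,3]), (6, [1,3,3,0]), (6, [0,1,3,2,3,2]), (5, [1,1,4,2,3,1]),
   (6, [0,2,0,3,1,3]), (6, [0,2,3,3,0,1]), (6, [0,4,0,1,0,2,4]), (6, [3,1,0,2,3,3,2]), (5, [3,1,1,4]), (6, [3,3,2,3,2,3]),
   (5, [1,0,4,1]), (6, [4,1,3,1,1,3,2]), (6, [0,4,1,4,2]), (6, [0,2,0,3,3,2,3]), (6, [3,1,3,0]), (6, [4,0,1,3,3,1,1]),
   (6, [4,1,0]), (4, [2,3,1,4]), (6, [3,1,0,3,1]), (6, [4,1,3,3,0]), (6, [2,4,1,3,1]), (5, [3,1,1,3,1]),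
   (6, [3,2,4,0,2,4]), (5, [0,1,3,1,4,0]), (5, [2,0]), (4, [0,3,2,3]), (6, [3,1,4,2,4]), (6, [0,1,3,0,2]),
   (6, [0,2,4,1,3,3,2]), (6, [0,3,3,1,4,0,2]), (6, [2,3,3,1,4,2,3]), (6, [4,0,1,4,0,1,3]), (6, [0,1,3,0,2,3,1]), (6, [1,1,4,1,3,3,1]),
   (6, [0,1,0,2,3,3,0]), (5, [4,2,0,4,0]), (6, [0,3,1]), (6, [0,2,3,3,1,1,3,0]), (6, [1,3,0,4,2]), (6, [3,3,2,3,1]),
   (6, [0,3,0,4]), (6, [2,0,3,1,1,4]), (6, [1,4,0,1,4]), (6, [2,3,1,4,1,1]), (6, [3,2,4,0,2,3]), (6, [3,2,4,1,4]),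
   (6, [2,4,1,4,2]), (3, [0,3,0,1]), (6, [1,4,1,4,1]), (5, [3,0,4,2,3]), (6, [0,4,2,4,0]), (6, [3,3,0,1,3,3,2]),
   (4, [4,1,3,1,1,4,1]), (6, [2,4,0,1,1,3]), (6, [3,0,4,1,4,2,3]), (5, [4,2,0,4,2]), (6, [1,1,3,2,3,3,0,3]), (6, [3,1,3,0,1,3]),
   (6, [4,0,2,0,4,1]), (5, [1,0,2,3,1]), (5, [3,2,3,2,3,3]), (6, [0,1,1,4,0,3,3]), (6, [0,1,1,4,1,1,3,3]), (6, [4,0,4]),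
   (6, [0,3,1,4,0,1,1]), (6, [3,2,3,2,3]), (6, [1,3,2,4,2,3]), (4, [0,3,0,1]), (4, [4,1,1,3,1,3]), (6, [0,1,0,2,4,1,1]),
   (5, [1,3,1,4,1]), (6, [1,1,3,3,0,4,1]), (6, [3,3,2,4,0,1]), (6, [2,0,4,0,3,1]), (3, [3,2,3]), (6, [0,1,0]),
   (4, [2,3,1,1]), (6, [0,3,1,3,1,4]), (6, [0,4,2,0]), (6, [1,3,1,3,2,4]), (6, [1,0,3,3,0,1,1]), (6, [3,1,4,0,1,3]),
   (6, [0,1,1,3,2,3,3]), (6, [0,3,0,1,0,3]), (5, [0,2,4,2,3,1]), (6, [1,1,4,0,1]), (6, [0,3,1,0,2,4,2]), (6, [0,1,1,3,1,4,1,4]),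
   (6, [3,1,4,0,4]), (6, [1,3,2,3,1]), (5, [3,2,3,1]), (6, [2,3,1,4,1,4]), (5, [1,0,2,4]), (6, [1,1,3,0,4]),
   (6, [0,2,4,1,4,1,1]), (3, [1,3]), (6, [3,0,1,1,3,3]), (6, [3,3,1,4,2,3,2]), (6, [2,3,2,3,1,3,2]), (6, [0,1,4,1,4,2,4]),
   (4, [1,3,3,2,3,1,1]), (6, [1,3,3,1,3,1]), (6, [1,0,4,1,1,4]), (6, [2,3,2,3,2,4,0]), (6, [3,0,2,3,3,2,4]), (6, [0,2,4,0,1,1]),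
   (5, [0,1,0,4,0,2]), (6, [0,4,2]), (4, [2,4,1,3,1,4]), (6, [1,1,4,1,3,0,3,3]), (6, [4,1,3,0,4,1]), (6, [4,1,3,0,1,1,4]),
   (6, [1,0,3,2]), (6, [0,3,0,1,0,4,2]), (6, [3,3,0,4,1,1,3]), (4, [2,3,3,1]), (4, [2,3,2,3,1,3]), (6, [0,1,1,4,2,3]),
   (6, [4,1,3,2]), (6, [3,1,4,0,3,2]), (6, [0,3,3,2,3,1,1]), (6, [0,2,0,4,1,4,1]), (6, [2,4,2,3,2,3,1]), (5, [3,1,4,2]),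
   (6, [0,3,1,4,2,3,0]), (6, [0,3,1,3,0,1,3]), (6, [0,3,1,3,2,4,0,2]), (6, [0,3,2,0,3,3,2,4]), (6, [1,4,1,4,2]), (6, [4,2,3,0,1]),
   (6, [4,1,0,3,2,3]), (5, [3,2,4,2,3]), (6, [3,2,0,3,3,2]), (6, [1,0,4,0]), (5, [0,4,0,3]), (6, [1,3,3,0,1,1,3]),
   (6, [3,3,1,0]), (5, [3,2,3,2,4,0]), (6, [1,0,1,4]), (4, [1,4,1,4,1,1,4]), (5, [2,3,1,3,3]), (6, [0,3,0,1,1,4,2]),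
   (6, [3,1,0,2]), (6, [0,3,3,0,2,3]), (6, [0,4,1,1,3,3]), (6, [1,3,3,1,4,1,1]), (6, [1,1,4,1,3,2]), (4, [0,3,2,3,1,1,3,1]),
   (6, [4,2,0,4,2,4]), (6, [0,3,1,4,0,3,1]), (6, [0,1,3,0,1,1,3,3]), (6, [0,3,3,0,2,4]), (4, [1,3,1,1]), (6, [3,1,3]),
   (6, [0,2,0,3,0,4,1]), (5, [3,2,4,2,4]), (6, [4,2,4,1,3,0,3]), (6, [4,1,1,4,2,4]), (4, [1,3,1,3]), (6, [2,4,0,2,3,1,1,4]),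
   (6, [2,0,3,1,3]), (6, [1,3,3,0,4,1,1]), (6, [1,1,4,2,3,3,1]), (6, [2,3,3,1,4,1,1]), (6, [4,0,2,4,0,1,1]), (6, [1,4,2,4,0]),
   (6, [0,2,3,1,1,4,1,1]), (6, [3,0,1,4,1,3]), (6, [0,1,0,2,3,0,1,4]), (6, [3,1,4,2,3,3]), (6, [1,0,3,0,2,3,0,1]), (6, [4,0,1,4,0,2]),
   (6, [4,0,2,4,0,2]), (6, [0,3,3,1,3,0]), (6, [0,2,0,3,3,0,1]), (6, [3,3,2,4,1,4,1]), (6, [0,4,1,3,1,1]), (5, [2,0,4,2]),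
   (6, [4,2,0,3,2,4,0]), (6, [0,3,0,1,0,3,2]), (6, [1,3,1,1]), (6, [1,3,0,1,4,2]), (6, [3,0,2,3,3]), (6, [0,1,3,0,4]),
   (6, [0,2,0,3,1,4,1,3]), (6, [1,4,0,1,1,3]), (6, [3,2,3,2,3,3,0]), (6, [1,0,3,3,1,1]), (6, [0,2,4,1,4,1,3]), (6, [4,0,2,4]),
   (4, [4,1,3,2]), (6, [1,1,4,0,2,4,1]), (6, [0,2,0,4,0,1,4]), (6, [3,0,4,1,0,3,2,4]), (6, [0,3,3,1,1,4,1]), (6, [1,0,2,3,0,2,3]),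
   (6, [0,3,2,3,3,2]), (5, [4,0,1,0]), (4, [1,3,2,3,1,3]), (6, [0,2,3,0,1,3]), (4, [0,2,4,1,3,2]), (6, [0,1,3,0,1,4,2]),
   (6, [2,4,0,2,4,0]), (4, []), (4, [3,2,4]), (6, [0,3]), (6, [0,4,0,2,3,3]), (6, [1,3,3,2,3,1,3]),
   (4, [2,4,1,4,1,3,3]), (5, [0,3,2,3]), (6, [4,2,0,3,2]), (6, [2,3,2,3,1,3,0]), (6, [0,1,3,0,2,3,3]), (6, [1,4,1,1,3,1,1]),
   (4, [0,2,3,2,3,2,4]), (4, [3,1,1,4,1,4]), (6, [3,0,3,3,1]), (6, [3,2,3,2,3,2]), (6, [0,3,3,1,4,0,1,4]), (6, [1,3,1,1,4]),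
   (6, [0,2,3,2,3,1,3]), (6, [3,3,1,4,1,3,2]), (6, [0,3,2,4,1,4]), (5, [0,3,1,0,3,0]), (6, [1,0,3,3,1,4]), (5, [3,1,1,4,1,3]),
   (6, [0,2,3,2,4,2]), (6, [0,1,3,2,3,1,3]), (6, [0,2,3,0]), (6, [1,0,4,2,3,3]), (6, [1,3,1,4,1,3,3]), (6, [3,1,0,2,4,2,4]),
   (6, [0,3,3,1]), (6, [0,3,2,3,3,1,4,2]), (6, [0,1,1,3,2,3,3,2]), (6, [3,3,2,3]), (6, [4,2,0,4,1,3]), (6, [4,0,2,0,3,3,2]),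
   (6, [0,4,2,3,0,4]), (6, [3,1,0,3,0,2]), (6, [3,2,0,3,0]), (6, [1,1,4,0,2,4,0,2]), (6, [4,2,0,3]), (6, [4,1,0,3,2,4]),
   (6, [0,3,1,0,2,4,0]), (5, [0,4,0,3,3]), (4, [0,1,3,2,3,2]), (4, [1,3,3,1,3]), (4, [1,4,1,3,1,3,2]), (6, [4,0,1,4,1,4]),
   (6, [3,1,0,3,1,4]), (6, [1,0,3,1,1,4]), (6, [4,1,0,3,2]), (4, [2,4,1,4,2,4]), (6, [4,0,2,3,2,4,1]), (6, [2,4,2,3,1,1,4]),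
   (5, [3,3,2,3,2]), (6, [1,3,3,0,2]), (5, [4,0,2,0]), (6, [1,3,0,4,1,3,2,3]), (6, [0,3,3,1,4,0,2,4]), (6, [1,3,0,1,4]),
   (6, [2,4,0,2,3,1,1]), (4, [1,4]), (4, [1,4,1,3,1,1]), (6, [0,3,1,4,1,4,2]), (6, [0,4,2,4]), (6, [0,2,3,2,3,2,4,0]),
   (5, [0,3,1,0,3]), (6, [0,2,3,3,2,3,1]), (4, [0,2]), (6, [0,2,0,4,1,3,1]), (6, [0,1,1,4,0,1,4,1]), (4, [0,2,3,2,4]),
   (6, [2,3,1,1,3]), (6, [0,1,1,4,1,4,1,3]), (6, [1,3,2]), (5, [4,0,3]), (6, [1,1,4,1,3,1]), (6, [1,3,1,4,2,4]),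
   (6, [0,3,0,3,3,2]), (6, [3,0,1,3,0,1]), (6, [0,2,3,3,2]), (6, [3,0,1,0,3,2]), (5, [0,1,3,2,4,1,1]), (6, [3,0,1,1,3,3,1]),
   (5, [4,0,1,4]), (6, [4,1,1,4,1]), (6, [0,1,0,1,3]), (5, [0,1,0,1,4]), (6, [1,1,3,3,0,2]), (6, [3,1,4,2,3,0]),
   (6, [3,1,3,3,0,1]), (6, [1,3,2,4,2,3,1]), (6, [1,0,2,4,1,1]), (6, [1,3,0,4,1,3]), (6, [0,4,1,3]), (5, [0,1,0,3,1]),
   (6, [3,0,1,3]), (6, [2,0,4,1,1]), (5, [4,2,3,0,2,3]), (6, [1,4,1,3]), (6, [1,0,3,3,1,1,3]), (5, [3,0,1,0]),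
   (6, [0,3,0,4,2,3,1]), (6, [3,2,3,1,3,1]), (6, [0,2,0,3,2]), (5, [4,1,4,1]), (6, [2,4,2,3,0,1]), (6, [3,1,0,3,3,1,3,1]),
   (5, [0,3,0,2,3,3]), (6, [0,4,1,1,3,0]), (4, [3,2,4,1,3]), (4, [3,1,1,4,1,3,3]), (6, [1,4,0,3,1,4,1]), (5, [0,1,0,2]),
   (6, [0,3,2,4,0,1,4,2]), (6, [0,2,4,1,4,1]), (6, [0,1,1,3,2,4,0]), (6, [0,2,3,0,1,4,1]), (6, [4,2,3]), (6, [4,0,4,2]),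
   (6, [0,1,0,4]), (6, [3,3,0,1]), (6, [0,3,0,4,2,3,2]), (6, [3,1,1,4,1,4]), (4, [3,3,2,4]), (6, [0,2,3,2,4,2,3]),
   (6, [0,2,3,0,1,4,2]), (6, [4,0,2,4,0,1]), (6, [3,0,4,1,3,3,2]), (6, [0,2,3,1,4,0,3]), (6, [4,0,2,3,2,4]), (6, [4,1,0,4,2,3]),
   (6, [1,0,2,4,1,3,0]), (6, [1,3,3,0,3,3]), (5, [4,1]), (6, [3,1,3,0,1,3,2]), (6, [3,0,2,3,0,2]), (6, [0,3,3,1,4,2,3]),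
   (6, [1,4,1,1]), (5, [3,2]), (6, [1,1,3,0,4,2]), (5, [0,3,3,0]), (5, [3,2,4,1,3]), (6, [3,0,4,1,4,2]),
   (6, [0,4,1,3,2,4]), (6, [0,2,0,3,1,4]), (5, [2,3,3,2]), (6, [3,2,0,3,2]), (6, [3,2,4,1,3]), (4, [4,1,3,2,3]),
   (6, [3,3,2,3,1,4]), (6, [2,4,2,3,1,1]), (4, [0,1,4,1]), (6, [1,4,1,3,3,0]), (6, [1,1,4,0,1,1,3]), (6, [0,1,3,3,2,3,1]),
   (6, [0,2,4,1,3,0,4]), (6, [1,1,4,1]), (4, [2,4,1,4,1,4]), (5, [2,3,1,3,1]), (6, [0,3,0,1,4,1]), (4, [4,1,4]),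
   (6, [3,3,0,1,3,1]), (5, [0,3,1,4,2,4,0]), (6, [3,2,3,2,3,1]), (6, [1,4,0,2,4,0,1]), (6, [1,4,1,4,1,3]), (4, [0,3,2]),
   (6, [1,1,3,1,4,0]), (6, [4,2,0,3,2,4,1]), (6, [1,0,2,3,0,2,3,2]), (6, [4,1,0,2,3,1,3]), (6, [3,2,3,3,0,2]), (6, [3,1,4,0,2,4,1]),
   (6, [1,0,3,3,0,2,3]), (6, [1,0,4,1,4,2]), (6, [0,3,3,1,0,3]), (5, [1,1,4,2]), (5, [3,0,4]), (6, [4,2,0,4,1,3,3]),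
   (6, [3,1,3,0,1]), (6, [1,3,2,3,1,1]), (6, [0,2,4,2,3,2,4]), (6, [1,4,0,3,1,1,4]), (5, [2,0,3,3,1]), (5, [0,4,1,1,3,0]),
   (5, [0,4,1,3,1]), (6, [4,1,0,3,3,1,3]), (6, [0,3,3,2,4,1]), (6, [3,0,2,3,3,1]), (6, [2,3,1,3,3,1]), (6, [1,3,2,3,2,3]),
   (6, [3,3,1,3,3]), (6, [1,1,4,1,3,0]), (6, [2,3,2,4,0,3,2]), (5, [1,0,1,3,3]), (6, [3,0,4,1,0,3,2]), (5, [0,4,1,3,2]),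
   (6, [0,1,1,3,0]), (6, [0,2,3,2,3,2]), (5, [0,2,3,3,0,3]), (4, [4,0,2]), (5, [0,4,0,2,4,1,4]), (6, [0,1,3,1,4,1,1]),
   (6, [3,3,0,4,2,3,2]), (5, [4,0,2,3]), (6, [0,2,0,3,0,1,4]), (6, [0,2,0,4,2,3,2,4]), (6, [1,1,3,3,0,2,3,2]), (4, [1,3,2,3]),
   (6, [2,4,2,3,2,3]), (4, [3,1,4,1]), (6, [0,3,3,2,3,2]), (6, [3,1,0,2,4,2]), (5, [3,1]), (4, [0,3,0,1,3]),
   (5, [3,1,0,4]), (6, [1,1,3,0,1,3,3,2]), (6, [3,3,2,3,2,4]), (5, [3,0,2,4]), (6, [2,0,3,3]), (5, [3,0,2,0]),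
   (6, [4,1,1,4,2,3,2]), (6, [0,3,0,2,3,2]), (6, [4,1,4,1,4,2]), (6, [0,2,0,3,0,2]), (6, [3,2,3,2,4]), (6, [0,1,1,3,2,3,3,0]),
   (6, [0,3,0,1,3,3]), (5, [4,1,3,1]), (5, [4,1,1,3,1,3]), (5, [1,1,4,0,1]), (5, [0,2,3,2]), (6, [4,0,1,4,2,3]),
   (6, [4,0,1,4,2,4]), (6, [0,3,0,4,1]), (4, [3,1,1,3,2]), (6, [0,3,0,3]), (6, [0,3,0,1,0,4]), (6, [3,1,0,3,1,3,1]),
   (6, [1,0,2,4,1,3,3]), (5, [0,3,0,4]), (4, [0,2,3,2,3,2]), (5, [1,3,3,0]), (5, [1,3,0,3]), (6, [1,0,4,0,1,4,2]),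
   (6, [0,2,3,3,0,1,1]), (6, [3,1,1,3,3,1,3]), (6, [0,3,3,1,4,0,1]), (6, [4,0,1,3,2]), (6, [0,3,1,3,2]), (6, [0,2,0,4,1,3]),
   (6, [3,3,2,3,2]), (6, [0,4,2,3,3]), (5, [0,2,4,0]), (6, [0,2,4,0,2,3,3]), (6, [0,2,0,4,1,4]), (4, [0,3,1,4]),
   (6, [1,3,2,4,1,1,3]), (6, [3,2,0,3,3]), (6, [0,4,1,3,0,3]), (6, [1,3,3,1,1,3]), (6, [3,0,1,0,3]), (6, [0,4,1,0,3,3]),
   (6, [0,3,2,4,0,3,2]), (6, [1,3,3,1,3,1,1,3]), (5, [1,1,4,2,4]), (3, [3,3]), (5, [0,1,4,2]), (6, [0,3,1,3,0,1,3,2]),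
   (6, [0,1,1,3,2]), (6, [0,1,1,3,1]), (5, [3,2,0,3,1,4]), (6, [3,3,2,3,1,3]), (6, [4,0,3,1,4,1]), (6, [0,3,3,0,3,1]),
   (6, [1,3,3,1,3]), (6, [1,3,3,0,2,3,1,3]), (4, [2,4,1,3,1,1]), (6, [3,2,3,1,1]), (6, [0,2,3,1,3]), (6, [3,0,3,1]),
   (6, [1,0,3,2,3,2]), (6, [1,0,2,4,0,2,4]), (4, [4,1,1,4,1]), (6, [0,3,2,4,0,4]), (6, [0,4,0,2,3,3,1]), (6, [1,3,3,2,3,2,3]),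
   (4, [0,3,1,3]), (6, [4,2,3,3,2]), (5, [0,3,0,2,3]), (6, [4,2,4,1,4]), (6, [1,0,4,2,3,0]), (6, [0,2,4,1,3,1,1]),
   (5, [2,3,1,4,2]), (5, [4,2,4]), (6, [0,1,1,3,1,4]), (6, [4,0,3,1,4,2]), (6, [1,3,2,4,2,4]), (6, [3,2,3,3,1,3,0]),
   (6, [0,4,0,1,0,3]), (6, [0,4,1,3,1]), (6, [0,2,3,0,2,3,2]), (6, [2,3,3,0,4,2]), (6, [3,3,0,1,4,2,3]), (6, [0,2,3,2]),
   (6, [1,4,2,3,1,4,0]), (6, [3,3,1,3]), (6, [0,1,1,3,1,4,0]), (6, [0,3,0,1,1]), (3, [4,1]), (6, [4,0,1,4]),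
   (5, [0,1,3,3,1,3]), (5, [0,4,0,1,0,2]), (6, [1,1,4,1,3]), (6, [1,3,1,1,4,1]), (5, [0,4,1,4,1,1]), (6, [1,0,2,4,1]),
   (6, [3,2,0]), (6, [0,4,2,4,1]), (6, [0,4,0,2,4,1]), (6, [4,1,0,3]), (5, [3,2,0,3,0,2]), (4, [0,4,1,4,1,1,4]),
   (6, [0,2,4,0,2]), (6, [4,1,0,2,3,2,4]), (5, [3,0,4,2,4,1]), (6, [1,0,4,1,3]), (5, [2,0,3,1]), (4, [3,3,1,3,2]),
   (6, [1,4,0,1,1,3,3]), (6, [0,4,1,3,2]), (6, [3,2,3,3,0,3,1]), (6, [4,1,0,3,3,1,4]), (6, [1,3,3,2]), (5, [0,1,0,4,1,3]),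
   (6, [0,3,3,0,2,3,1,4]), (6, [0,3,1,3,3,0]), (5, [2,0,3,2,3,2]), (4, [3,1,1,3,1,4]), (6, [1,3,1,4,1,3,1]), (6, [0,2,3,0,3,3,1,3]),
   (6, [0,1,4,1,3,3,2]), (6, [2,3,1,3,3,0,1,4]), (3, [0,3,3,1]), (6, [0,3,2,3,1,1]), (6, [0,3,2,0,3,1]), (6, [1,0,3,0,2,3,0]),
   (6, [1,4,0,3,3,2]), (6, [1,1,4,1,4,1,1]), (6, [1,4,1,4,2,3,3]), (6, [0,3,2,4,0,1,4]), (5, [0,4]), (6, [4,1,3,3,2,4,0]),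
   (6, [1,4,2,4,2,3,1]), (6, [0,3,2,4,0,1,3,3]), (6, [1,0,2,4,0,2,3]), (6, [1,3,1,4,2,4,1]), (6, [2,3,3,1,4,1,4]), (5, [4,0,1,0,2]),
   (5, [0,1,0,3]), (5, [3,3,1,3,2,4]), (6, [1,0,2,3,3,0,1]), (6, [1,1,3,3,0,4,2]), (6, [1,0,3,0,3,3]), (6, [0,2,4,0,3,3]),
   (6, [0,2,4,0,2,3,2]), (5, [0,4,0,4,2,3]), (3, [4,0]), (6, [2,3,1,4,1,3]), (3, [3,2,4]), (5, [1,3,1,4]),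
   (6, [2,4,0,4,2]), (6, [4,1,3,1,3,3]), (4, [0,4,1,3,1,3]), (5, [1,0,1,3,0]), (6, [3,1,0]), (5, [2,4,1,3]),
   (6, [0,3,3,2,0]), (6, [0,2,0,3,2,4,2,3]), (5, [0,4,1,3,2,4,1]), (6, [1,3,2,4,0,2,3]), (5, [0,3,2,3,2]), (6, [0,3,3,0,4]),
   (6, [0,3,1,0,3,2,4]), (6, [3,3,2,4,2,4,1]), (5, [2,3,2,3,1]), (6, [0,2,4,0,2,3,1]), (6, [2,0,3,1,4,1]), (5, [3,3]),
   (5, [2,0,3,0,1,4]), (3, [1,4]), (6, [0,2,3,3,2,3,1,3]), (6, [3,0,1,3,2,3]), (5, [3,2,3,3]), (5, [3,1,3,2]),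
   (6, [3,1,3,2,4,0]), (6, [1,1,3,3,0]), (5, [0,3,1]), (6, [1,4,0,2,4,1]), (4, [2,4]), (6, [0,4,0,3,2,4]),
   (4, [3,2,4,2,4,1]), (6, [4,1,0,4,1,4]), (6, [4,2]), (6, [3,3,0,4,1]), (5, [0,1,0,3,3,2]), (6, [2,0,3,1,4,2]),
   (6, [1,3,1,4,0,2]), (6, [0,1,1,4,0,2,3]), (6, [0,3,3,1,1,4]), (5, [4,1,1,4,2]), (5, [3,1,3,1]), (6, [0,2,3,0,2,3,0,1]),
   (6, [2,0,3,2,3,2,3]), (5, [0,3,3,2,0]), (6, [4,2,3,1,4]), (6, [2,4,2,3,1,4]), (6, [2,4,0,3,1]), (5, [1,0,4,2,3]),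
   (6, [1,0,2,3,0,1]), (6, [0,4,1,3,3,2,4]), (6, [0,1,1,4,1,1]), (5, [0,4,1,4]), (6, [1,1,3,2,3,3]), (6, [3,0,1,4,1,3,3]),
   (6, [4,2,3,1,3,1]), (5, [4,0,1,4,2]), (5, [3,2,3,2]), (6, [0,4,1]), (5, [4,2,3,0,1]), (6, [1,4,2,3,0,4]),
   (6, [0,3,2,3,2,4,0]), (5, [1,1,4]), (5, [4,0,1,4,1,4]), (6, [2,4,0,3]), (5, [0,3,1,4,1,4]), (5, [3,1,4,2,4]),
   (6, [3,0,4,1,0,3,1,4]), (6, [1,0,4,2,3,2,3]), (6, [0,2,3,3,2,3,1,1]), (6, [0,3,3,1,0,3,2]), (6, [2,4]), (5, [0,4,0,2,0,4]),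
   (6, [3,3,0,4]), (6, [1,1,3,3,1,4,2]), (6, [3,0,2,0,4,0]), (6, [1,0,4,0,3,1]), (6, [1,3,1,1,4,0,1]), (6, [3,0,2,4]),
   (5, [2,3,0,1,1]), (4, [4,2,3,2,3,1]), (4, [4,1,4,2]), (6, [4,1,1,4,1,3]), (6, [1,0,3,2,3,1]), (6, [0,3,2,3,2,3,3]),
   (6, [4,2,3,2,4,2]), (6, [1,3,1,4,1,1]), (5, [0,3,1,3,1]), (6, [2,4,0,1,1,3,3]), (4, [3,1,1,4,2,4]), (6, [0,1,3,0,1,1]),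
   (6, [0,2,3,3,1,1,4]), (6, [4,1,0,2,3,1]), (6, [0,1,1,4,1]), (6, [4,0,2,3,2]), (6, [2,4,0,2,4,2]), (6, [2,4,2,3,0,4]),
   (4, [4,1,1,4,2,4]), (5, [1,0,2,3]), (5, [0,3,1,3,0]), (6, [0,4,2,3,1,4,0,1]), (5, [4,2,0,3]), (5, [0,2,3,1,4]),
   (5, [3,1,1,3]), (6, [4,1,3,3,2,3,2]), (6, [2,4,0,1,1,4]), (6, [1,3,2,4,1,1]), (6, [4,0,2,0,3,3]), (3, [0,2,3]),
   (6, [1,0,3,0,2,3]), (6, [1,3,0,1,4,1,4]), (6, [0,1,1,3,2,4,0,3]), (6, [0,3,2,3,3]), (6, [0,3,0,4,2,3,1,4]), (6, [1,1,4,2,3,3]),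
   (4, [4,1,3,1,1,4,2]), (6, [1,1,3,3,1,4,0]), (3, [3,2,0,3]), (6, [3,1,1,3,2,4,2,4]), (6, [4,1,4,1,3]), (6, [2,3,1,3,0,4]),
   (6, [0,1,1,3,0,4]), (4, [3,1,1,3,1,1]), (5, [2,3,0,2,4]), (6, [0,4,1,1]), (6, [0,2,0,4,0,3,1]), (6, [4,0,4,2,3,1]),
   (6, [0,1,0,4,1]), (6, [2,4,0,1,4,0]), (6, [0,4,0,2,3]), (5, [3,3,1]), (4, [4,1,1,3]), (4, [4,2,3]),
   (6, [1,0,2,3,1,4]), (6, [1,1,3,3,1,4,1]), (6, [1,4,1,3,0,4]), (6, [0,2,3,0,3,3,2]), (6, [0,1,3,3,0,3,1]), (6, [0,1,1,4,1,1,4,0]),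
   (6, [1,1,3,1,4,0,2]), (4, [3,2,4,1,1,3]), (6, [0,3,3,1,3,1,4]), (6, [1,0,3,2,3,1,3]), (5, [4]), (6, [4,1,3,0,1]),
   (6, [2,3,2,4,0]), (6, [1,4,0,3,1,3]), (5, [2,3,1,1,4]), (5, [0,1,3,3,0,2]), (5, [1,3,1,4,2]), (5, [1,3,2,3,1]),
   (6, [0,4,0,1,4,1,3,2]), (6, [1,4,2,3,1]), (5, [4,2,0]), (4, [4,0,1,1]), (6, [1,3,1,4,1,4]), (5, [0,3,3,2,0,4]),
   (6, [0,1,1,4,0,4]), (6, [0,2,0,4,0,3]), (5, [3,0,1,0,4,2]), (5, [0,3,3,1]), (6, [4,2,0,3,3]), (5, [2,0,3,2]),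
   (5, [3,3,0]), (6, [2,4,2,3,1]), (6, [3,0,1,3,3,1,1]), (6, [3,1,4,1,3,3]), (5, [0,1,0,2,4]), (5, [0,2,4,1,3]),
   (5, [1,4,2,3]), (6, [0,1,3,0,2,3,3,1,4]), (6, [1,1,4,0,4]), (6, [0,2,0,3,3,2]), (4, [0,3,0,1,3,1,4]), (6, [1,1,3,0,1,4]),
   (5, [0,1,3,1,4]), (6, [0,4,1,1,4,0]), (5, [1,1,3,3,0]), (6, [0,3,3,1,4,2,3,1]), (6, [0,1,1,3,3,0,1]), (6, [3,1,1,4,1]),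
   (5, [4,2,3,0,4]), (4, [0]), (6, [0,3,1,4,2,3]), (4, [1,3,2,4,1,3]), (6, [0,1,3,1,4,1,4]), (6, [4,1,3,1,3,3,2]),
   (6, [2,0,3,2,3]), (6, [1,3,3,2,3]), (4, [3,2,4,1,3,2]), (6, [1,0,4,2,3,0,2]), (5, [4,0,1,4,0]), (6, [1,1,3,1,1,4,0]),
   (5, [0,2,3,2,4]), (6, [0,4,2,3,0,1,4]), (6, [3,1,0,3,0,1,3]), (6, [1,4,0,1,4,0]), (6, [0,3,1,3,0,4,1,3]), (6, [3,1,3,3,2]),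
   (5, [0,4,1,3,1,1,4]), (6, [2,0,3,2]), (6, [3,1,4,0,2,3]), (6, [0,2,0,4,0,1]), (6, [3,3,1,1,3,1,1,4]), (6, [1,0,2,3,0]),
   (6, [2,3,1,1,3,3]), (5, [0,3,1,1,3,1]), (6, [1,1,4,1,3,1,4]), (6, [3,2,0,3,2,4]), (5, [4,1,1,4,0,1]), (6, [1,1,3,3,0,4,2,3,2]),
   (6, [3,0,1,4,2]), (6, [0,3,0,1,3,0,2]), (6, [2,0,4,1,1,3]), (6, [0,1,3,3,2]), (6, [0,2,3,0,2,3,0]), (5, [1,4,0,1]),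
   (6, [0,1,4,2,4]), (5, [2,3,1,1,4,0]), (6, [0,3,2,4,0]), (6, [1,4,1,1,3,1,4]), (6, [0,3,1,4,1,3,2]), (6, [1,1,4,1,4,2]),
   (4, [3,1,1,4,1,3,2]), (6, [0,1,0,3,1,1]), (6, [4,0,3,1,3,1]), (4, [0,3,2,3,2,3]), (6, [3,1,3,1,4,1]), (6, [2,4,0,2,3,1]),
   (6, [0,2,0,3,0,1]), (6, [1,3,1,4,0,3,3]), (6, [0,4,2,3,0,1,1]), (5, [2,0,3,2,4]), (4, [2,4,1,4,1,1]), (6, [0,3,1,4,1,4]),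
   (6, [1,1,3,1,4,1,1]), (6, [1,1,3,0,3,3]), (6, [0,4,2,0,4,1,4]), (6, [1,1,4,0,2,3]), (6, [1,0,3,2,4]), (6, [0,1,4,1,3,3]),
   (6, [0,2,0,3,3,0,3]), (6, [1,0,2,4,2,3]), (4, [4,2,3,1,3]), (6, [1,3,2,3,3,2]), (6, [0,3,0,1,4,1,4]), (6, [1,3,3]),
   (6, [4,2,3,0,2,4]), (6, [1,1,4,1,4,1,3,0]), (4, [3,2,3,1,1,4]), (6, [3,2,0,3,0,1]), (6, [0,2,3]), (6, [1,0,3,3,0]),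
   (6, [3,1]), (4, [0,3,0,1,3,1,1]), (6, [0,3,2,3,3,1,4]), (6, [0,3,3,1,1,3,1,3]), (6, [2,4,2,3,2,3,3]), (6, [0,4,0,1,1,3]),
   (6, [0,3,2,4,0,1,3,2]), (6, [0,2,3,2,3,3,2]), (4, [2,4,1,4,1,1,3]), (6, [2,3,2,3,2,3]), (6, [1,0,3,3,2]), (6, [1,0,3,0,4,1]),
   (6, [0,3,2,4]), (6, [3,0,3,3,2,3]), (6, [3,1,4,1,3]), (6, [1,3,3,0,1,4,1]), (4, [3,2,3,2,3]), (4, [0,1,3,2,3]),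
   (4, [2,3,3,2]), (6, [4,2,3,1]), (6, [0,1,4,1,1,4]), (6, [0,1,1,4,0,1,1,3]), (6, [0,4,2,3,1,4,2]), (6, [0,4,2,0,4,0,2]),
   (6, [1,3,0,4,1,1,3,1]), (6, [1,0,4,2,3,3,0]), (6, [0,3,0,1,4,2,3,0]), (5, [0,1,3,2,4]), (6, [0,1,4,1,3,1,4]), (6, [4,0,1]),
   (6, [3,0,1,3,2]), (6, [0,1,3,3]), (4, [0,4,1,4,1,1,4,1]), (4, [0,4,1,4,2]), (6, [0,1,3,0,1,4,1,1]), (6, [1,0,4,1,1,3,2]),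
   (6, [4,1,1,4,1,3,1]), (6, [0,3,2,3,3,0,2]), (6, [0,2,3,2,4,0,1]), (6, [4,2,3,2,4,1,3]), (6, [1,1,3,0,1,4,2,3]), (6, [1,0,2,4,0,3]),
   (5, [2,4,0,2,4]), (6, [4,1,0,3,1]), (4, [0,1,3,2,4]), (4, [4,1,1,4,1,3]), (4, [0,3,0,1,3,2]), (6, [2,3,2,3,3,1]),
   (4, [0,3,2,3,1,3,2]), (6, [0,1,1,3,2,4,0,1]), (6, [1,1,4,0,3,3,2]), (4, [1,4,1]), (6, [1,3,2,4,0,4]), (6, [4,0,2,0,3,1]),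
   (6, [0,1,1,4,0,1,1,4]), (6, [0,4,2,3,1,3]), (6, [3,3,2,0,4]), (5, [4,2,3,0]), (6, [1,1,3,1,4,1,4]), (6, [4,1,0,2,3,0,2]),
   (6, [3,2,3,3,1,1,4]), (4, [3,3,2,4,2,3]), (6, [4,2,3,1,3,3]), (6, [0,4,2,3,0,2]), (6, [0,1,4,1,4,1,4]), (6, [1,0,3,1,3,3,0]),
   (6, [0,3,2,4,2,3,1]), (6, [3,1,3,2,3,2,4]), (6, [0,1,4,2,3,3,1,4]), (4, [0,1,3,2,4,1]), (6, [0,4,1,0,2,4]), (6, [0,1,4,1,1,3]),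
   (6, [3,1,4,1,1]), (6, [0,1,3,1,3,3,2]), (6, [1,0,2,4,1,3,3,2]), (6, [4,0,1,4,2,3,2]), (6, [0,2,3,3,1,1]), (6, [1,4,0,2,4,0]),
   (6, [0,4,1,4,1,3,2]), (6, [2,3,1,1,3,1,4]), (6, [1,0,3,2,4,2,4]), (6, [0,3,0,1,3,1,4]), (6, [2,0,4,2,3,2]), (6, [1,3,3,0,1,3,3]),
   (6, [0,3,3,1,0,3,2,4]), (6, [0,3,0,4,2,4,1]), (4, [3,3,1,3,1,1]), (5, [0,1,3,0,2]), (6, [3,1,3,3,0,3]), (6, [3,3,2,0]),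
   (6, [3,1,3,1,4,1,1]), (6, [3,3,0,3]), (5, [2,3,1,1]), (6, [0,4,2,3,1,4]), (6, [0,4,0,1,1,4]), (5, [2,4,2]),
   (6, [3,0,4,1,3,2,3]), (6, [0,3,2,3,2,4,0,4]), (6, [3,1,1,3,3]), (6, [0,4,1,3,3]), (6, [0,3,2,4,1,3,3]), (6, [3,0,1,4,1]),
   (6, [4,0,2,4,1]), (6, [0,3,3,2,4,1,3]), (6, [4,1,4,1,3,0,4]), (6, [3,3,2,4,1,3]), (6, [0,3,0,1,0,3,1]), (6, [0,1,3,2,3,1,4]),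
   (6, [0,2,3,0,1,1]), (6, [0,2,4,0,3,2,4]), (6, [1,0,3,0,4,2,3]), (6, [3,0,3,3,1,3,2]), (6, [0,3,2,0,3,1,1]), (6, [0]),
   (6, [0,2,4,2,3,1]), (6, [1,3,0,4,1,3,3]), (6, [4,0,1,3,3,2]), (6, [2,0,4,2,4]), (6, [4,1,3,1,1,3,0]), (6, [0,4,0,1,4,0,1]),
   (6, [0,2,3,2,4]), (6, [4,2,0,4,1]), (5, [2,0,4,2,3]), (6, [0,3,3,1,0,4]), (6, [0,2,3,1,1]), (6, [3,1,0,2,3,3]),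
   (6, [0,2,0,4,0,4]), (6, [4,0,1,0,3]), (6, [0,2,4,0,2,4,2,3]), (6, [1,3,1,4,2,3]), (6, [3,0,3,3]), (6, [4,1,3,1,4,1]),
   (6, [1,4,0,2,3,3,0]), (6, [0,2,3,2,4,1]), (6, [1,0,4,2,3,1,1,4]), (6, [4,1,1,4,2,4,0]), (6, [0,2,0,3,2,3,3]), (6, [0,3,1,3,3,2]),
   (4, [0,3,1,1]), (6, [2,3,2,3,2,3,1]), (6, [0,3,3,1,3,2]), (4, [0,2,3,2,4,2,3]), (6, [0,2,3,0,1]), (6, [4,1,3,1,1,3]),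
   (6, [2,4,2,3,0,1,3]), (6, [2,3,3,0,4]), (6, [3,1,0,3,0,4,2]), (6, [1,4,1,1,3,2]), (6, [1,0,4,0,2,3]), (6, [1,0,4,0,3,1,1]),
   (4, [3,3,1,3,1]), (6, [3,1,3,1,4,2]), (6, [2,3,1,1,3,0,4]), (4, [0,4,1,3]), (4, [0,4,1,4,1,1,4,2]), (6, [3,0,2,0,4,1]),
   (6, [4,1,3,3,2,3]), (6, [3,2,4,2,3,2]), (5, [2,3,1]), (6, [1,3,1,4,0,2,4]), (6, [1,1,4,1,3,0,2]), (6, [3,2,0,4,1,3]),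
   (5, [0,1,3,2,3,3,0]), (6, [0,1,3,1,1]), (6, [0,1,1,3,0,1,4,2]), (6, [2,4,1,3,3,2,3]), (6, [4,2,4,0,2]), (6, [1,4,0,1,1,4]),
   (5, [0,3,1,3,0,4]), (6, [0,1,3,0,3,3]), (6, [0,3,3,0,2,3,2,4]), (6, [3,2,0,4,1,3,3]), (4, [0,3,2,3,1,3]), (4, [0,3,2,3,1,1,4]),
   (6, [1,3,1,4,1,3]), (4, [3,2,3,1]), (6, [0,1,3,0,2,3,3,1]), (4, [1,3,2,4,2,4,1]), (6, [4,0,2,4,1,1]), (6, [2,3,1,3,3,2,4]),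
   (6, [1,3,3,1,4,1]), (6, [3,1,0,4,1,3]), (6, [0,3,1,3,3,0,3]), (6, [0,3,2,0,3,1,1,3]), (6, [4,1,4,1,3,0]), (6, [2,4,2,3,2,4,1]),
   (6, [1,1,3,0,3,3,1]), (6, [2,4,2,3,3]), (6, [0,4,0,2,3,2,3]), (6, [0,4,1,3,3,0,1]), (5, [1,0,4,2,3,1]), (6, [1,4,0,1,4,1]),
   (4, [0,3,0,1,1]), (6, [4,2,3,0,2,3]), (6, [2,3,1,4,0,1]), (6, [4,2,4,0,2,4]), (6, [1,0,3,0]), (4, [0,4,1,3,1,4]),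
   (6, [3,1,0,4,1]), (6, [0,1,1,4,0,1]), (6, [4,1,0,2,3,0]), (6, [0,1,3,0,1,1,4]), (6, [1,3,3,1,1]), (6, [0,1,1,4,2,3,0]),
   (6, [3,3,1,1,4,2,3]), (6, [1,0,4,1,3,3,1]), (6, [1,4,1,4,2,3]), (6, [3,2,4,2]), (5, [0,1,0,3,1,1]), (6, [1,4,0,1,4,2]),
   (6, [0,3,3,1,1,3,1,4]), (6, [2,3,3,1,3,3]), (6, [3,3,0,4,1,3]), (6, [1,4,0,3,1,4,2]), (4, [2,3,1]), (6, [4,0,1,1]),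
   (4, [1,3,2,3,2,4]), (6, [0,4,0,3,3]), (6, [0,3,3,2]), (6, [1,0,3,3,1,1,4]), (6, [4,1,4]), (6, [0,2,4,2,3,0]),
   (6, [4,0,1,3,3,1]), (6, [1,0,3,1,4,2]), (6, [3,3,2,3,1,1]), (6, [3,2,4,1,4,1]), (6, [0,4,1,4,1,4,1]), (6, [0,1,4,1,4,2,4,1]),
   (6, [0,2,0,3,2,4,2]), (6, [4,1,0,3,3,1]), (6, [0,2,3,3,2,3,2]), (6, [0,1,0,4,1,4,1]), (5, [1,1,3,1]), (6, [0,4,1,0,2]),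
   (6, [2,3,3,1,4,1,4,1]), (6, [0,1,3,2,4,1]), (6, [4,2,4,2,3]), (4, [2,3,2,3,1,1,3]), (6, [1,1,3,1,4,0,3]), (5, [2,4,1,3,1,3]),
   (4, [1,4,1,3,2,4]), (6, [1,0,4,1,3,3]), (6, [4,0,3,2]), (4, [2,3,2,3,1,1,3,1]), (6, [4,1,0,3,3,2]), (5, []),
   (6, [0,2,3,1,4,1]), (5, [0,1,3,0,1,1]), (5, [0,1,4,0,2]), (6, [1,4,0,1,1,4,2]), (6, [0,1,1,4,2,3,1]), (6, [4,2,0,4,0]),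
   (6, [1,1,3,0,3,3,1,1]), (6, [0,1,0,2,3,1,1,4]), (6, [0,2,3,0,1,1,3]), (6, [2,0,4,2]), (6, [3,0,4,1,4,1]), (6, [0,4,0,2,4]),
   (6, [4,0,1,0,2]), (6, [0,1,1,4,0,2]), (4, [1,3,2]), (4, [4,2,4]), (6, [4,2,3,0,2]), (6, [0,3,1,4,0,4]),
   (5, [3,1,0,2,4,1]), (6, [0,4,2,3,2,4]), (6, [4,1,1,4,0,4]), (6, [0,1,3,2,3,3,1,4]), (6, [3,0,2,3,3,2]), (6, [2,4,1,3]),
   (6, [1,3,2,4,0,1]), (6, [0,1,0,3,2,3,3]), (6, [1,4,2,3,1,4]), (6, [3,3,2,0,4,1,3]), (5, [2,4,1,1]), (5, [1,0,4,0]),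
   (6, [2,0,4,0,3]), (6, [3,1,0,3,0,4]), (6, [1,4,0,1,1,4,1]), (6, [0,1,0,4,1,4,2]), (6, [1,3,3,0,1]), (6, [4,0,3,1]),
   (6, [1,4,1,3,2,4]), (6, [3,1,3,2]), (5, [0,4,2,0]), (4, [1,3,2,4]), (6, [1,0,3,0,2,3,2]), (5, [2,3,0,3]),
   (4, [0,4,1,3,1,1,4]), (3, [4,1,4,1]), (6, [0,1,3,0,1,3,1]), (6, [1,4,2,3,0,4,1]), (5, [0,3,3,1,1]), (6, [0,4,1,3,3,1]),
   (4, [1,3,3,1]), (6, [1,3,1,4,2,3,2]), (5, [3,0,2,3,2]), (6, [0,3,3,2,3,1]), (6, [1,4,2,3,2,3,3]), (6, [0,1,1,3,0,4,1]),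
   (6, [0,1,1,4,1,4]), (6, [3,0,3,3,2,3,2]), (6, [0,1,4,1,4,1,4,1]), (5, [4,1,1,4,0]), (6, [0,2,3,2,3,1]), (6, [4,2,3,0,1,1]),
   (6, [1,0,2]), (6, [1,0,3,0,4,2]), (6, [1,0,3,3,0,3]), (6, [1,3,3,0,2,3,2]), (6, [0,1,0,2,4,1]), (5, [0,4,2,4]),
   (5, [1,1,4,1,3]), (6, [4,0,3,3,2]), (6, [0,4,1,4,1,4,2]), (6, [2,3,1,3,3,0,1]), (6, [3,1,0,2,4,1,3]), (6, [0,3,1,4,1]),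
   (6, [4,1,3,0,1,1]), (6, [2,3,1,3,3,2]), (6, [1,3,3,0,1,4]), (5, [0,3,1,1,3]), (6, [0,3,1,1,3,1]), (6, [0,4,1,3,1,4,1]),
   (5, [0,4,0,1]), (5, [4,0,4,2]), (6, [0,3,3,2,3,2,4,1]), (6, [0,1,0,2,3,0,4]), (6, [0,3,0,1,4,1,3]), (5, [2,3,3,0,2]),
   (6, [0,3,0,2,3,0]), (6, [0,1,0,3,2,3]), (5, [2,4,0,2,3,2,4]), (6, [1,3,0,1,3,3,1]), (6, [1,0,3,0,1]), (4, [1,4,1,3,2]),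
   (5, [3,1,1,3,3]), (5, [4,2,3,2]), (6, [2,0,4,1,4,1,3]), (6, [4,2,3,0,2,3,1]), (3, [4,1,3,3,2]), (6, [1,3,1,1,3,3,1]),
   (5, [0,3,3]), (6, [0,3,3,1,1]), (6, [0,3,1,3,2,3]), (4, [0,1]), (6, [3,1,3,3,1,1]), (6, [0,1,4,1,4,1,3]),
   (6, [2,0,3,3,2,4,1,1]), (6, [3,3,2,4]), (4, [1,4,1,4,1,4]), (6, [0,1,0,3,2,4,2]), (6, [0,3,1,3,2,4,1,3]), (6, [3]),
   (6, [0,3,2,4,2,3]), (6, [0,2,0,3,3,0]), (6, [0,4,1,3,0]), (6, [0,2,3,0,1,1,4]), (6, [0,1,1,3,2,3,3,1]), (6, [0,1,4,1]),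
   (6, [0,4,2,3,0]), (6, [1,0,3,0,1,3]), (5, [2,4,1,3,0,1]), (4, [4,2,3,1]), (6, [0,1,0,2,3,1]), (5, [0,1,3,3,1]),
   (6, [3,1,3,3]), (6, [1,3,0,4,1,1,3,2]), (4, [0,4,1,3,1,1]), (5, [0,4,0,3,1]), (6, [1,3,0,1,4,1,4,1]), (5, [2,0,4,1,3]),
   (5, [3,2,4,1,4]), (6, [0,1,0,2,4,2]), (6, [4,1,0,3,2,3,3]), (5, [2,4,1,3,1,1]), (6, [0,2,3,0,1,3,1]), (4, [3,2,4,2]),
   (6, [1,4,2,3,3,1,4]), (6, [1,0,3,1,3,3]), (5, [4,1,3,3]), (6, [1,0,3,0,2,3,1]), (6, [0,3,1,1,3,2,4,2]), (6, [3,0,1,1,3,3,2]),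
   (6, [0,1]), (4, [0,4,1,4,2,4]), (6, [2,3,2,3,1,1]), (6, [0,2,3,3,1]), (6, [2,3,3,1,4,0]), (6, [0,4,2,3]),
   (3, [0,3,3,1,4]), (5, [1,4,1,3,3]), (6, [1,0,2,3,2,3,2]), (4, [4,1,4,2,4]), (6, [0,3,2,4,2]), (2, [0,3,0,1]),
   (6, [1,1,3,2,3,2,4]), (5, [0,1,0,3,3,1]), (6, [0,2,3,3,0,4,1]), (5, [0,3,2,0]), (6, [4,1,3,3,0,1,4]), (4, [0,2,3,2]),
   (6, [0,2,4,2,3,0,2]), (5, [3,2,4,0,2]), (5, [2,4,0,3,1]), (6, [3,0,1,3,1,1]), (6, [0,3,2,0,3,1,3,3]), (5, [0,3,1,3,3,2]),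
   (6, [1,3,3,2,4,1,4]), (6, [0,3,3,1,3,1]), (5, [0,4,1,0]), (6, [3,3,2,0,4,2,3,1]), (4, [1,4,1,4,1,3,3]), (4, [0,3,2,3,1]),
   (6, [1,0,2,3,3,2,4]), (6, [0,1,1,4,2,3,2]), (6, [1,1,4,1,1,4,0]), (5, [2,3,0,4,2]), (6, [3,1,0,3,2,4]), (6, [1,4,2,3,0,1,1]),
   (6, [0,3,1,3,2,4,2]), (5, [0,1,4,1,3]), (6, [0,4,1,1,4]), (5, [2,4,1,1,4,2]), (6, [0,1,3,0,1,3,3,2]), (6, [0,3,3,1,0,4,1]),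
   (6, [1,1,4,0,2,3,3]), (6, [0,2,4,0,3,2]), (5, [0,4,1,1,4,0]), (6, [3,3,2]), (6, [2,3,3,1,3,1,4]), (6, [0,4,1,3,0,1,4]),
   (6, [1,4,2,3,1,3]), (6, [0,1,4,2,3,2,3,2]), (6, [1,3,1,1,3,3]), (6, [1,3,1,4,0]), (6, [3,2,3,3,1,1,3]), (6, [0,1,3,0,1,4,1]),
   (3, [0,3]), (6, [1,1,3,1,4,2]), (6, [1,3,0,2,3]), (6, [4,1,3,0]), (6, [0,1,3,0,1,1,3]), (6, [3,0,3,3,1,3]),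
   (5, [0,4,1,1,4,1]), (6, [1,3,3,0,1,1,4]), (5, [0,4,0,2]), (5, [0,1,3,3,0]), (6, [4,0,3,1,4,2,3,2]), (4, [0,1,3,2,4,1,3]),
   (6, [0,3,1,3,0]), (6, [0,4,0,2,3,1]), (6, [2,0,3,1,3,3]), (6, [1,4,1,4,2,4]), (6, [0,1,3,3,2,3,2,3]), (6, [0,4,2,0,4,0]),
   (6, [2,3,3,1,3]), (6, [0,1,1,3,2,4,1]), (5, [2,4,1,3,2,3]), (5, [2,4,1,4,1]), (6, [1]), (6, [4,2,4,1]),
   (6, [3,1,0,2,3,3,1]), (6, [1,3,0,1,4,1,3]), (6, [0,1,3,3,0,3]), (6, [2,4,1,4,1,1,3]), (6, [0,2,0,3,3,0,4]), (6, [0,1,1,3,3,0,4,1]),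
   (6, [2,3,3,1,3,2,4]), (3, [1,3,3,1]), (4, [4]), (5, [2,3,1,4,1]), (6, [4,0,2,4,2]), (6, [2,4,0,3,1,1]),
   (6, [0,1,4,2,3]), (6, [2,0,3,3,2,4,1]), (5, [0,3,3,2,3,1]), (6, [1,1,3,0,1,1,3]), (4, [3,1,1,4]), (6, [3,2,4,0]),
   (6, [3,3,1,1,3,2]), (5, [2,0,4,0,2]), (6, [1,3,0,1,3,1,4]), (4, [3,3,2,3]), (6, [3,0,1,1]), (6, [0,2,0,4,1,1,3,1]),
   (6, [0,2,4]), (6, [1,1,3,3,0,3,1]), (6, [4,0,1,0,2,4]), (6, [1,1,3,2,3,3,0,2]), (4, [1,3,3]), (6, [0,3,0,1,3,1,3]),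
   (6, [1,0,3,3,0,2]), (6, [1,3,0,2,3,1,1]), (6, [0,3,0,4,2,0]), (6, [3,3,0,1,4,1]), (6, [3,2,3,3,1,1]), (5, [0,4,2,3,2]),
   (4, [0,2,3,2,3,1,3]), (6, [0,4,1,3,2,3,3]), (3, [0,3,0,4]), (6, [4,0,3,1,3,2,3]), (6, [1,3,2,3,3]), (6, [2,0,4,0,2]),
   (6, [0,3,3]), (6, [1,3,3,2,3,1]), (5, [2,0,3,0,1,4,1]), (6, [1,3,1,4]), (6, [0,1,0,4,1,4]), (4, [3,1,1]),
   (2, [4]), (4, [1,3,2,4,2]), (6, [0,4,0,2,0,4]), (4, [4,1]), (6, [0,3,2,4,2,4,1]), (6, [0,3,1,4,2,3,1]),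
   (6, [3,0,1,3,2,4]), (6, [0,1,0,2,3,1,4]), (6, [0,4,2,3,2]), (6, [1,3,0,1,3]), (6, [3,1,0,2,3]), (6, [0,3,1,0]),
   (6, [1,3,3,2,3,1,4]), (6, [0,4,0,1,4,0]), (6, [0,1,0,3,2,4,2,4]), (6, [1,0,3,0,4,1,1]), (5, [1,4]), (4, [4,1,3]),
   (6, [1,1,4,1,3,3,2]), (5, [3,0,3,1,4]), (6, [0,3,1,3,0,4]), (6, [2,3,1]), (5, [1,4,1,3,1]), (6, [2,4,0,3,2,4,1]),
   (6, [0,3,2,0,4,2]), (5, [0,3,3,2,4]), (5, [0,2]), (5, [0,4,2,3,3]), (6, [4,1,3,1,1,3,1]), (6, [0,2,3,0,2,3,2,4]),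
   (6, [4,0,2,0]), (4, [3,1,4,2,3]), (6, [1,0,3,0,3,3,1]), (6, [1,1,3,0,1,1]), (5, [2,0,3,0,2]), (6, [4,1,3,0,3,3,2]),
   (6, [0,2,3,0,2]), (6, [0,3,2,4,0,1]), (4, [0,1,3,3]), (6, [3,2,3]), (6, [3,1,1,3,1,1]), (6, [0,1,4,1,4,1]),
   (6, [0,1,1,3,0,1,3,0]), (6, [0,3,0,1,3,0]), (5, [0,1,3,2,3,3]), (6, [0,3,1,4,0,1,4]), (6, [0,1,1,4,0,2,3,1]), (6, [1,4,0,1,3,3,1]),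
   (6, [0,3,0,1,3]), (5, [1,4,1,4]), (6, [0,2,3,3,1,4]), (6, [1,3,3,0,1,3,1]), (6, [4,1,1,4,0]), (6, [1,1,3,2,3]),
   (6, [4,1,4,1]), (6, [0,2,4,1,4,1,4]), (5, [3,2,4,0,1,1]), (4, [0,4]), (6, [3,1,4,2]), (6, [3,2,0,3,3,1,1]),
   (6, [1,0,3,1,4,1,1]), (6, [3,2,3,3,2,3]), (5, [0,3,3,2,0,3,2]), (6, [4,2,4,2]), (4, [0,4,1,4,1,1,3]), (6, [0,4,0,1,0]),
   (5, [3,2,4,1,4,2]), (6, [2,4,0,1,4,1]), (5, [3,2,0,4]), (6, [3,0,1,3,1,4]), (6, [2,3,1,1,3,1]), (6, [4,1,0,4]),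
   (6, [0,4,1,0,2,3]), (5, [4,2,3,0,2]), (5, [4,1,1,3,2,4]), (6, [3,1,1,4,0,2]), (6, [1,1,3,1,1,3,0]), (6, [0,2,3,2,3,3]),
   (6, [4,2,3,2,4,1]), (6, [2,0,3]), (5, [0,1,0,4,2]), (6, [3,1,4,1,3,1]), (6, [4,1,4,1,3,3]), (4, [3,2,3]),
   (6, [4,0,2,3,1,1,4]), (6, [1,4,0,2,4,2]), (6, [2,0,3,1,4,1,3]), (6, [4,2,3,3,1]), (6, [0,1,1,3,3,0,3,1,4]), (6, [0,3,1,4,1,3]),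
   (6, [0,4,0,1,4,2,3]), (6, [1,3,3,2,3,3]), (4, [3,3,2,3,2]), (6, [3,0,2,3,2,4,1]), (6, [2,3,1,4,0,2]), (4, [0,1,3,2,3,2,3]),
   (6, [1,0,2,4,0,2]), (6, [1,3,1,4,0,2,3]), (6, [1,1,3,3,1,3]), (5, [3,0,1,4]), (6, [3,2,4,1,1]), (6, [0,4,0,2,0]),
   (6, [1,0,2,3,2,4]), (5, [1,4,1,1,4,1]), (6, [4,0,1,3,3]), (6, [0,4,2,4,2]), (5, [1,3,3,2,3]), (4, [3,2,3,2,4]),
   (5, [0,2,4,2,4]), (6, [3,3,0,3,1]), (6, [3,3,0,1,4]), (6, [1,1,3,2,3,1,3]), (6, [0,3,2,3,2,3,1,4]), (6, [3,2,3,3]),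
   (6, [1,0,2,4,1,4]), (6, [3,1,0,3,2,3,2]), (6, [2,0,4,1,3,3,2]), (6, [3,1,3,2,4,1,1]), (6, [1,3,3,2,4,0]), (6, [1,1,3,3,0,4,2,3]),
   (6, [0,3,0,2,0]), (6, [0,3,2,0,4,1,3,3]), (6, []), (6, [1,0,4,1,1,3]), (5, [0,4,0,4,2]), (6, [1,3,0,2,3,0,2]),
   (6, [0,1,0,2,3,0,1]), (4, [2,4,1,4,2]), (6, [0,1,3,0,4,1,3,2]), (6, [1,4,1,1,3]), (4, [0,4,1,3,1,1,4,1]), (6, [1,4,1,3,0,2]),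
   (6, [1,0,3,0,1,4,1]), (6, [1,0,3,3,1,4,0]), (5, [1,3,3,2,4]), (6, [0,4,2,0,4]), (6, [0,1,0,2,3,3,1]), (6, [1,3,3,2,4,2,3]),
   (6, [0,2,4,1,1]), (6, [0,1,3,2,4,2]), (6, [0,3,0,2,3,3,1,3]), (6, [0,1,1,3,1,4,0,4]), (6, [4,2,3,0]), (5, [0,2,4,2,3]),
   (6, [4,0,2,4,1,1,4]), (5, [0,3,0]), (5, [3,3,1,3]), (4, [1,4,1,4,1,3]), (6, [3,1,3,2,3,3,0]), (5, [0,1,3,0,1,3]),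
   (6, [3,3,2,0,4,1]), (6, [4,2,3,2,3,1]), (6, [3,0,1,4,1,1]), (6, [4,1,4,1,1,3]), (6, [3,1,4,2,4,1,1]), (6, [0,4,2,4,1,3,0]),
   (5, [3,1,1,3,2]), (5, [0,1,0,4,0,1]), (6, [1,3,0,2]), (4, [4,1,1,4,2]), (6, [4,1,0,3,1,1]), (6, [1,1,4,2,3,1]),
   (5, [4,0,1,4,1]), (6, [1,1,4,0,1,4,0]), (6, [3,3,0,1,4,1,3]), (6, [1,3,2,3,3,2,3]), (6, [2,3,1,1,3,3,1]), (6, [0,2,3,3,0,4,1,3]),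
   (3, [0,2,4]), (6, [3,1,0,3,2,3]), (2, [3,1]), (6, [0,3,2,0,4,1]), (6, [0,3,3,1,1,3,2]), (5, [3,3,1,3,0]),
   (5, [0,3,1,4,2,4]), (5, [0,4,0,1,3]), (5, [0,3,2,4,1]), (6, [3,0,1,3,2,3,3]), (6, [3,0,1,3,3,2]), (6, [0,1,3,2,4,1,1]),
   (3, [3,2,0,4]), (6, [0,2,3,2,4,1,1]), (6, [3,1,3,3,0]), (6, [0,3,0,2,0,4]), (5, [3,1,4,2,3,1]), (6, [3,0,4,1,4,1,3]),
   (6, [0,2,3,0,2,3,3]), (6, [1,3,0,3]), (6, [1,3,1,4,1,4,1]), (6, [0,1,4,2,3,2]), (5, [3,3,1,4]), (5, [0,1,3,2,3,2]),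
   (6, [0,1,0,3,2,4,0,1]), (5, [4,2,4,0]), (6, [0,3,3,0,2,3,2]), (6, [1,3,1,1,4,0,2,3]), (5, [0,1,0,3,3]), (5, [2,3,3,2,3]),
   (4, [1,3,1,4]), (6, [4,0,3,1,3,2,4]), (6, [2,4,1,4,1,1]), (6, [3,0,2]), (6, [0,3,2,0,4,1,1]), (6, [2,3,3]),
   (6, [1,3,2,3,1,3]), (5, [0,3,2,4,2]), (6, [0,3,1,4,0,3]), (6, [3,1,3,2,4]), (6, [2,4,1,1,3]), (6, [4,2,3,1,3]),
   (6, [3,0,1,4,1,4]), (6, [4,2,3,2,4,1,1]), (6, [0,2,4,1,1,3,2,3]), (6, [4,1,3,1,1]), (6, [4,1,3,0,1,4]), (5, [0,3,0,1,1]),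
   (6, [4,1,4,1,1]), (6, [0,3,1,1,3,2,4]), (5, [4,1,0,2,3]), (6, [0,2,4,0,1,4,1,3]), (6, [1,4,1,4]), (6, [4,2,4,0,3]),
   (5, [4,2,0,4]), (6, [0,3,2,3]), (6, [4,1,4,1,1,4]), (6, [1,0,4,0,2]), (5, [2,3,0,2,3]), (6, [1,1,3,3,1,4]),
   (5, [1,3,1,4,0]), (6, [0,1,0,1]), (6, [2,0,4]), (5, [2,4,0]), (5, [3,0,1,0,3,2]), (6, [0,1,3,1,1,4]),
   (6, [0,1,3]), (6, [4,0,3,1,4,2,3]), (6, [1,3,3,0,1,1,3,2]), (6, [0,2,3,3,0,3]), (6, [0,2,4,2]), (6, [0,1,0,1,4,0]),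
   (5, [2,0,3,1,1,4]), (6, [1,1,3,2,4,0]), (6, [3,0,2,3,0,1]), (6, [1,1,4,0,2,4]), (5, [2,4,0,2,3,2]), (6, [0,1,0,2,4,1,3]),
   (6, [3,2,4,1]), (6, [4,2,3,2,3]), (4, [2,4,1,4,1,1,4]), (5, [0,1,1,3,0,4]), (6, [3,3,2,0,3,2,3]), (6, [2,3,3,1]),
   (6, [1,3,0,4,1,1]), (6, [4,1,3,1,4,1,3]), (6, [0,1,3,3,2,3,2]), (6, [3,1,4,0,1]), (6, [1,4,2,3,1,3,0]), (6, [1,0,1]),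
   (6, [3,1,4,1,4,1,4]), (4, [1,3,2,3,2,4,1]), (6, [0,2,0,3,0,4]), (6, [0,1,4]), (6, [0,3,2,0,3,0]), (6, [0,4]),
   (6, [0,1,0,2,3,1,1,3]), (6, [4,2,0,4,2]), (2, [0,3,1,3]), (5, [3,1,3]), (5, [0,1,0,4,2,4]), (6, [1,3,1,1,4,0]),
   (6, [0,4,0,3,3,1,1]), (6, [0,4,1,4,1,3,3]), (6, [1,1,4,0,3,2]), (5, [2,3,2,3]), (6, [4,0,3,2,0]), (6, [1,3,1,4,0,1]),
   (6, [4,1,1]), (6, [0,1,3,0,3]), (5, [4,1,1,3,3]), (6, [2,4,1,3,1,1]), (6, [3,2,3,3,0,3]), (6, [0,4,1,3,3,1,1]),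
   (6, [1,1,3,1,1,4,2,4]), (6, [3,1,4,2,3,0,4]), (6, [0,1,1,3,3,0,4]), (6, [4,1,0,4,2]), (6, [1,1,3]), (5, [2,3,1,3,0]),
   (6, [0,4,2,0,3,2]), (6, [0,3,2,0]), (6, [0,4,1,4,1,3,0]), (4, [4,1,3,2,4]), (6, [0,3,0,3,3,1]), (6, [0,2,4,1,3]),
   (6, [3,2,3,2,4,0,3]), (6, [1,1,4,2,3,1,1]), (6, [3,1,0,3,3]), (6, [1,4,1,4,1,1]), (6, [2,3,3,0,1]), (5, [0,1,0,4]),
   (6, [4,1,3,0,4,1,4]), (6, [0,3,1,0,3,0]), (6, [1,0,2,3,1,4,0]), (6, [3,1,1,3,2,4,1,1]), (6, [4,2,3,2,4]), (5, [3,0,4,2,0]),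
   (6, [1,0,1,3,0]), (6, [0,4,0,2,3,2]), (6, [0,1,0,2,4,1,4]), (6, [1,3,0,1,3,1]), (6, [4,0]), (6, [0,3,3,0,2,3,1]),
   (6, [3,1,1,3,1]), (6, [3,3,1,4,0]), (6, [1,1,4,0,3,3,1]), (5, [0,1,0,4,1,1]), (6, [3,1,1,3,0,2]), (5, [0,1,0,4,1,3,2]),
   (5, [4,1,1,3,2]), (6, [3,3,0,1,3,3]), (6, [1,3,0,2,3,2,3]), (4, [1,3,3,2,3,2]), (6, [3,0,3]), (6, [2,4,0,1,4]),
   (5, [0,4,1,1,3,2]), (6, [4,1,0,3,2,4,0]), (6, [0,2,4,1,3,0,3]), (6, [3,1,3,3,2,4]), (5, [0,3,1,3]), (6, [3,2,4,0,2]),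
   (6, [0,3,0,3,1,4]), (6, [3,1,4,1,3,1,1]), (6, [0,2]), (6, [1,0,4,1,4,2,4]), (5, [2,4,0,2,4,0]), (6, [3,2,3,1,3,2]),
   (6, [1,1,4,0,1,4]), (6, [3,1,3,2,4,0,2]), (5, [2,0,3]), (5, [3,0,1,4,1,4]), (5, [3,1,1,4,0,2]), (6, [4,0,1,3,3,2,4]),
   (4, [0,3,1]), (6, [0,2,0,4,0,1,4,1]), (6, [1,0,3,1,4,1,3]), (6, [0,3,0,2,4]), (6, [4,2,3,3,0]), (6, [2]),
   (6, [3,3,2,4,2,4]), (6, [1,0,4,0,1,4,1]), (6, [1,0,2,3,2]), (6, [0,2,3,1,4,2]), (6, [4,1,1,4,2,3,0]), (6, [0,3,1,0,3,1]),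
   (5, [3,1,4]), (6, [0,2,4,0,1,4,1]), (6, [1,1,4,2]), (6, [0,1,3,0,2,3,2,3]), (4, [0,1,3,2,4,2]), (6, [1,0,4,1,1,3,1]),
   (5, [0,1,3,0,3]), (6, [2,4,1,4,2,4,1,1]), (6, [0,2,0,3,1,1]), (5, [2,0,3,0]), (6, [3,1,4,0,2,4,2]), (5, [2,3,1,3]),
   (6, [1,0,3,1,3]), (6, [1,1,4,1,4,1,4,2]), (6, [1,1,4,1,3,0,4]), (6, [4,2,0,3,2,4,2]), (6, [3,1,3,2,3,2]), (6, [0,2,3,2,4,0]),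
   (6, [4,1,3,3,2,4]), (6, [0,3,0,3,3,1,0]), (6, [1,0,3,1,4,1]), (6, [3,3,2,0,3,1,4]), (6, [0,1,1,3,1,4,0,4,2]), (6, [4,0,3,3,1]),
   (6, [3,0,1,0,3,2,3]), (6, [3,3,0]), (6, [3,2,3,3,2,3,1]), (5, [0,1,1,3]), (6, [0,3,3,1,3,0,1]), (5, [3,0,3,3,1]),
   (6, [0,1,1,3,0,1,3]), (6, [4,0,1,4,2]), (6, [1,4,1,3,1,1,3]), (6, [0,1,0,4,1,1]), (6, [2,4,1,3,0,4]), (6, [0,3,2,3,3,1]),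
   (6, [1,4]), (4, [2,3,2,3,1]), (6, [1,0,4,2,3,2,4]), (6, [0,2,4,0,3,3,2]), (6, [0,2,4,1,1,4]), (6, [3,1,4]),
   (6, [3,0,4,1,0,3,1,3]), (6, [0,3,3,2,4]), (6, [4,1,1,4,2,4,1]), (6, [1,3,1,4,0,1,3]), (6, [1,4,0,1,4,0,1]), (5, [2,0,4]),
   (6, [1,1,3,2,3,1,3,1]), (6, [2,3,3,0,2,3,2]), (6, [4,1,1,4,1,1]), (6, [3,3,1,4,1,3]), (5, [3,1,4,2,3]), (6, [2,0,4,1,4,2]),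
   (6, [0,4,1,3,3,0]), (5, [2,3,0]), (5, [1,0]), (6, [0,2,4,2,3,3]), (6, [3,0,1,4]), (6, [3,1,0,2,4,2,3]),
   (6, [3,3]), (5, [0,2,3,0]), (6, [4,0,1,4,0]), (6, [1,3,3,0,2,3,2,3]), (6, [0,4,1,0,2,3,1]), (6, [3,2,3,2,3,3]),
   (6, [0,3,0,1,3,1]), (6, [0,3,3,1,1,3,1]), (5, [0,1,4,1]), (5, [1,0,4,2,4]), (6, [1,3,1,4,0,1,4,1]), (6, [2,0,4,0]),
   (5, [0,1,0]), (6, [0,3,2,4,0,1,3]), (6, [1,1,3,0,2,3]), (2, [0,1]), (6, [0,1,3,1,4,1]), (6, [1,3,0,1,1,3,1]),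
   (6, [0,3,0]), (5, [0,4,1,0,2,3]), (6, [2,4,1,3,0,2]), (6, [3,0,3,3,1,0,4]), (6, [3,3,2,4,1,3,3]), (5, [3,3,1,3,2]),
   (6, [0,1,3,0,2,3,0]), (5, [3,2,4,2]), (6, [2,3,2,4,2,3]), (6, [2,4,0]), (6, [0,3,2,0,3,3,2,3]), (6, [0,1,4,1,3,3,1]),
   (6, [1,1,4,2,3,0]), (6, [2,3,3,1,3,1]), (6, [1,3,2,3,2,4]), (6, [0,4,1,0,4,0,2]), (6, [4,1,0,4,1,1,4]), (6, [3,3,1,1,3,1]),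
   (6, [0,3,0,4,1,4]), (6, [0,4,0,2,4,2]), (6, [1,0,3,3,1,4,0,1]), (6, [2,0,4,1,3,1,3]), (6, [3,1,0,3,0]), (6, [1,3,0,3,3,1,3]),
   (6, [0,3,0,2,3,1]), (6, [0,4,2,0,4,0,2,3]), (5, [1,4,1,1]), (5, [3,3,1,3,1]), (4, [3,1,1,4,1,3]), (6, [0,2,4,0,2,3,2,3]),
   (5, [0,3,1,4,1,1]), (6, [4,1,0,2,3,2]), (6, [1,1,4,1,4]), (6, [0,1,3,1,3,3]), (5, [0,1,3]), (5, [0,1,3,2,4,1]),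
   (6, [1,0,2,3,2,3]), (6, [2,3,1,4,0,2,4]), (6, [0,3,0,2,3,3]), (5, [0,1]), (6, [0,4,1,0,2,3,2]), (6, [1,4,2,4,2,3,2]),
   (4, [3,3]), (6, [3,2,4,0,3,3]), (6, [1,1,3,0,3]), (6, [0,4,2,4,1,3]), (6, [2,3,1,4,1,4,1]), (5, [2,4,0,2,4,1]),
   (6, [1,3,0,2,3,0,1]), (6, [0,3,3,2,3,2,4,2]), (6, [0,3,0,2,3,1,4,1]), (6, [3,3,1,4,1]), (6, [0,3,3,1,4,0,2,3]), (6, [1,0,4,2]),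
   (5, [2,0,3,2,4,1,4]), (6, [4,0,2,3,3,0,2]), (5, [0,1,1,4,1]), (6, [0,4,1,3,3,2]), (6, [3,0,1,1,4]), (5, [3,1,1,3,2,3]),
   (6, [1,3,2,3,2,3,2]), (6, [3,1,1,3,0,1,3]), (6, [3,2,0,4,2]), (6, [1,0,3,0,2]), (5, [0,3,1,4]), (5, [3,2,0,3,1,1]),
   (6, [0,2,4,1,3,0,2,3]), (6, [1,3,0,4,1]), (6, [1,4,1]), (2, [0,3,1,4]), (4, [0,2,4,1,3,1,4]), (6, [0,2,4,1,3,0,2]),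
   (6, [1,4,2,3,2,3,2]), (6, [2,3,2,3,3,1,1]), (6, [3,2,3,1,3]), (6, [0,1,4,1,1]), (6, [0,2,4,1,1,3,1]), (6, [4,2,0,4]),
   (6, [0,2,3,1,3,3]), (5, [2,0,3,2,4,1]), (6, [2,4,1,4]), (6, [3,1,4,2,3,0,2]), (6, [3,1,1,3,0]), (6, [0,3,0,1,0,4,0]),
   (5, [2,0,3,1,1,4,1]), (5, [0,1,0,3,2]), (5, [2,0,3,0,4]), (6, [1,0,3,0,4,2,4]), (5, [0,3,1,4,2]), (6, [0,4,1,1,3,3,1]),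
   (5, [0,1,0,4,0]), (6, [1,3,3,1,1,3,3]), (6, [1,1,3,1,3]), (6, [3,1,1,3,0,1,3,1]), (4, [4,1,4,1,1,3]), (6, [0,4,2,4,2,3,2]),
   (6, [0,2,4,1,1,3,3]), (6, [0,4,2,4,2,3,2,3]), (4, [2]), (6, [3,0,1,4,1,4,2]), (6, [3,0,2,3,0,1,1]), (6, [1,0,3,1,1,4,2]),
   (6, [3,1,4,1,1,3,0]), (6, [1,1,4,1,4,1]), (5, [3,1,1,3,3,1]), (6, [0,3,1,3,2,4,0,4]), (6, [0,4,0,3,2]), (6, [1,3,3,1,4,1,4,2]),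
   (4, [2,3,1,4,1]), (6, [1,3,0,4]), (6, [0,3,0,3,1,4,2]), (6, [3,3,1,4,2,3]), (6, [2,0,4,1,4,2,4]), (6, [4,2,0,3,2,4]),
   (6, [0,1,0,3,2,3,3,1]), (6, [0,2,4,1,3,1,4]), (6, [1,3,3,1,4,1,4,1]), (6, [3,3,1,4,1,1]), (4, [4,2,3,2,3]), (6, [3,0,2,0,4,1,4]),
   (5, [0,3,1,4,1]), (6, [2,4,1,4,1]), (6, [3,0,1,1,3]), (5, [2,3,2]), (5, [0,1,3,0,3,3,2]), (5, [3,2,3,2,4]),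
   (6, [1,4,2,3,3]), (5, [0,1,4,1,3,0]), (5, [3,2,3,2,3]), (6, [1,0,2,3,3,0]), (5, [0,4,2,4,0]), (6, [3,0,1,0,2]),
   (6, [3,1,3,3,2,4,2]), (6, [0,1,1,3,3]), (6, [1,4,1,3,1,1]), (5, [0,4,1,1,4,0,2]), (6, [0,3,1,1,3]), (4, [3,2,4,2,3]),
   (6, [0,1,3,0]), (6, [0,4,0,1,4,1]), (6, [3,3,2,4,2]), (5, [1,1,4,1]), (6, [3,3,2,0,3,3]), (6, [0,3,1,1]),
   (6, [0,2,4,1,4,1,4,1]), (6, [3,1,1,3,2,4,2]), (6, [4,2,3,3,1,3,2]), (6, [0,1,0,2,3,2,3,1]), (6, [0,2,3,0,1,3,0]), (6, [0,3,2,0,3]),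
   (6, [1,0,2,4,1,1,3]), (6, [0,2,0,4,1,3,3]), (6, [0,1,0,2,3]), (6, [0,2,3,0,4]), (6, [0,1,3,0,1,3]), (6, [1,3,2,4,0,2]),
   (6, [0,3,0,2,3,1,3]), (6, [0,2,4,0,4]), (6, [3,3,2,0,3,1,1]), (6, [0,2,4,1,3,3]), (6, [0,1,4,1,3,3,0]), (6, [1,4,1,3,3]),
   (5, [2,0,3,3,2]), (4, [3,2]), (6, [1,0,2,4,1,1,4]), (6, [0,4,2,4,1,3,1]), (6, [0,1,1,3,2,3,1,1]), (4, [1,3,2,4,2,3]),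
   (6, [1,4,0,2,4,1,1,4]), (6, [2,4,1,4,1,3]), (6, [2,3,1,3,0,4,1]), (6, [3,2,4,0,2,3,2]), (6, [1,1,3,0,2]), (6, [2,3,3,1,4,1,4,2]),
   (6, [1,3,3,0,2,3,2,3,1]), (5, [0,1,3,3,2]), (6, [0,3,1,0,2,4]), (6, [0,3,2,3,2,4,1]), (4, [2,4,1,3,1,1,3]), (5, [2,4,0,3,2]),
   (6, [4,0,3,1,0]), (6, [1,1,4,0]), (4, [2,4,1,3]), (6, [4,0,2,3,3]), (6, [4,0,1,4,1,3,2]), (6, [3,2,4,1,3,3,2]),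
   (6, [1,3,3,0,4]), (6, [2,3,2,3,2,4,2]), (6, [0,2,0,4,2,3]), (6, [1,0,4]), (4, [3,3,1]), (4, [0,2,4]),
   (6, [0,1,3,0,1,3,3]), (6, [0,1,0,3,0,1]), (4, [2,3,3,2,3]), (6, [1,4,0,1,1,4,1,4]), (6, [3,3,0,1,3,2]), (6, [0,1,3,2,3,3,1]),
   (6, [2,0,4,1,3,0]), (3, [3,3,2,3,2]), (6, [3,3,1,1,4]), (6, [1,3,2,3,3,1]), (6, [0,2,4,0,1,4,0]), (6, [0,1,1,3,2,3,2]),
   (6, [1,3,3,1,3,1,4]), (6, [4,1,3,0,4]), (4, [0,4,1,4,1,3,2]), (6, [1,0,4,2,4]), (3, [0,3,2,3,2]), (6, [4,1,0,4,1]),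
   (6, [1,1,3,1,4]), (6, [1,4,1,3,3,1,4]), (6, [2,3,3,1,4,2]), (4, [0,4,1,3,1,3,3]), (6, [0,2,4,2,3,3,0]), (6, [0,1,1,3,2,4]),
   (5, [2]), (6, [1,3,1]), (6, [0,3,1,4]), (2, [4,1]), (4, [3,2,3,3]), (6, [1,4,2,3,0,1]),
   (6, [1,3,1,4,0,4]), (6, [0,1,1,4,1,1,3]), (6, [0,2,0,4]), (6, [0,1,1,4,1,1,4]), (5, [4,0,3,1]), (6, [3,3,0,4,2,4]),
   (6, [3,1,4,0,3,1,4]), (4, [0,2,3,2,4,1]), (6, [0,1,3,2,3,3,2]), (6, [0,4,0,1,4,1,1]), (4, [2,4,1,4]), (6, [2,3,2,3]),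
   (6, [1,4,2,3,3,1]), (6, [0,3,0,1,4,2]), (6, [0,1,4,2,3,3]), (6, [0,3,0,1,0,3,1,4]), (6, [3,3,2,0,3,2]), (6, [0,2,4,0,3]),
   (6, [0,2,3,0,3]), (6, [0,2,3,1,1,4,2]), (6, [1,1,4,1,4,1,3,3]), (6, [0,2,0,4,1]), (6, [1,3,3,0,4,2,3]), (4, [0,2,4,1,3,1,1]),
   (6, [2,4,2,3,3,1,4]), (6, [1,0,2,4,2,3,0]), (6, [1,1,3,3]), (6, [0,1,0,4,2,3]), (6, [3,1,4,0,2]), (6, [0,1,4,1,3,3,2,4]),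
   (6, [0,4,0,3,2,4,1,4]), (6, [2,0,4,0,1,4,1]), (4, [2,3,2,3,2]), (6, [1,4,0,4,2,3]), (6, [1,4,1,1,3,1,4,0]), (4, [2,4,1,3,2,4]),
   (5, [3,3,2,3]), (6, [0,3,0,1,3,2,4]), (6, [0,2,0,3,2,3]), (5, [1,1,4,0,2]), (6, [1,3,3,0,3]), (6, [1,0,2,3,0,1,4,2]),
   (6, [1,0,3]), (4, [1,4,1,4,1,1]), (6, [0,3,3,1,4]), (4, [3,2,3,1,1,3,2]), (5, [0,3,1,4,2,3,1]), (6, [1,1,4,1,1,4,0,4]),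
   (6, [0,3,2,4,0,2,4]), (6, [0,2,3,1,4,0]), (6, [4,1,3,1,3,2]), (6, [2,3,1,4,0]), (5, [0,1,3,0,1,4,1]), (6, [0,2,4,2,4]),
   (6, [4,0,2,0,4,2,3]), (6, [0,2,4,0,1]), (6, [2,4,1,3,2]), (6, [1,4,2,4,1,3]), (6, [2,0,4,1]), (4, [2,3,3]),
   (6, [1,3,3,1]), (6, [0,2,3,1]), (6, [3,1,0,3,3,1,3]), (6, [2,0,4,1,3]), (4, [1,3,3,1,3,2,3]), (6, [2,0,4,1,3,3]),
   (6, [2,0,4,1,4,1]), (6, [0,2,4,2,3]), (6, [0,1,3,1,4,0]), (6, [3,1,0,3,2]), (6, [0,3,0,2,3,1,4,2]), (5, [3,1,1,3,1,1]),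
   (4, [2,4,1,3,1,1,4]), (6, [3,3,1,4,2,3,1]), (6, [1,0,3,3,0,1]), (6, [0,1,4,2,4,0]), (6, [2,3,1,1,3,2]), (6, [0,3,3,0,3,1,4]),
   (5, [1,0,2,3,2]), (6, [4,1,4,1,1,4,2]), (6, [1,0,2,3,2,3,1]), (6, [3,1,4,0,3,1,3]), (6, [0,2,4,1]), (5, [0,1,3,3,1,3,1]),
   (6, [1,4,1,1,3,1]), (4, [1,3,2,4,2,4]), (5, [3,2,3,1,1]), (6, [1,1,3,2,3,3,1]), (6, [1,3,1,1,3,1]), (4, [1,3,3,1,3,2]),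
   (6, [1,1]), (6, [1,3,3,0,1,1]), (6, [4,2,4]), (6, [2,4,0,2,4,1,1]), (5, [0,4,0]), (4, [3,2,4,2,4]),
   (5, [0,1,0,1,3]), (6, [0,4,2,0,4,2]), (6, [1,1,3,3,0,4,1,1]), (6, [0,3,3,1,4,1,3]), (5, [0,4,2,4,2]), (6, [0,4,1,1,4,2]),
   (5, [4,2,0,3,3]), (6, [4,0,1,4,1,3]), (5, [0,3]), (6, [2,3,1,4,0,2,3]), (5, [1,1,4,1,1]), (6, [1,3,1,1,4,2]),
   (5, [4,0,4]), (6, [2,4,1,4,1,4]), (6, [1,3,0,1,4,1]), (6, [3,3,2,0,4,2]), (6, [0,1,3,1]), (5, [0,2,3,2,3]),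
   (5, [0,1,3,2,4,2]), (5, [3]), (6, [3,2,3,2,4,1]), (6, [0,3,1,3,2,3,2]), (6, [0,3,0,2,3,2,3]), (6, [0,3,2,0,4]),
   (5, [3,2,0,4,1,3]), (6, [2,4,0,1,1,4,2]), (6, [1,4,0,3,1,4]), (5, [0,1,3,1,3]), (6, [0,2,3,0,1,4]), (5, [2,4,0,1,3]),
   (6, [0,1,0,3]), (4, [0,4,1]), (6, [0,2,3,0,4,1,1]), (6, [1,1,3,1,3,3,2]), (4, [3,2,3,1,3]), (6, [1,0,3,2,3,3]),
   (6, [0,4,0,1,0,3,0]), (5, [2,4,0,1]), (6, [0,2,3,1,4,0,4]), (6, [0,1,1,4,1,4,1]), (6, [0,2,4,2,3,0,1]), (6, [1,0,4,1,3,1]),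
   (6, [0,1,1,4,0,3,1]), (6, [4,1,0,2,3,1,4]), (6, [0,2,4,1,3,0,1]), (6, [0,1,1,4,0]), (6, [2,4,0,3,2]), (4, [1,4,1,4,1,1,3]),
   (6, [1,4,1,4,2,3,1]), (5, [2,4,0,2]), (6, [0,1,1,4,0,3,3,2]), (6, [3,1,3,2,4,2]), (4, [0,2,3,2,3,2,3]), (5, [0,3,1,0,4]),
   (4, [3,1,1,4,2]), (4, [4,1,1,4]), (6, [3,0,1,3,1,4,1]), (6, [1,0,2,3,0,1,4]), (6, [1,3,2,4,0]), (5, [0,3,0,2,3,1]),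
   (6, [1,0,3,1,4,0,4]), (6, [3,0,2,0,4]), (4, [2,4,1,4,1]), (4, [4,1,3,2,3,1]), (6, [3,0,4,1,3,3]), (6, [1,4,1,3,0,3]),
   (4, [4,1,1,4,2,3]), (6, [4,1,4,1,3,2]), (6, [2,0,3,1,4,1,1]), (5, [3,3,1,0]), (6, [3,1,0,3,1,3]), (5, [2,4,1,3,1]),
   (6, [1,3,1,1,4,0,2]), (6, [3,0,2,0,4,1,3]), (6, [0,3,3,1,4,1]), (6, [0,3,0,1,3,3,2]), (4, [3,2,4,1,1,4]), (4, [3,2,3,1,1]),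
   (5, [0,4,1,3]), (6, [2,4,2,3,1,1,4,0]), (4, [0,4,1,4,1]), (6, [0,1,3,0,1]), (5, [3,0,4,2]), (6, [2,4,0,2,4]),
   (5, [0,4,1,4,1]), (5, [0,4,0,2,3,2]), (6, [1,3,1,4,1]), (6, [2,3]), (4, [4,1,3,2,3,3]), (5, [0,4,0,2,0,3]),
   (6, [2,4,2,3,2,3,2]), (6, [1,3,0,4,1,1,3]), (6, [0,3,2,3,3,0,2,3]), (5, [0,1,1,3,3]), (3, [4,1,4]), (6, [4,2,4,1,4,1,3]),
   (5, [0,4,0,2,0,4,1]), (4, [2,4,1]), (6, [0,1,4,2]), (5, [4,1,3]), (6, [0,2,4,1,3,1]), (5, [2,4,1,3,0]),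
   (4, [4,1,4,1,1,4]), (5, [2,0,3,3]), (6, [1,3,2,3,2]), (6, [1,0,2,4,1,4,1]), (5, [4,2,3,2,4]), (6, [0,2,3,3,1,1,4,2]),
   (6, [1,0,2,4,0]), (6, [0,4,0,1,0,2]), (5, [1,1,3,0]), (5, [3,2,3,1,4]), (5, [3,0,4,2,4]), (6, [2,4,2,3,1,4,2]),
   (5, [2,4,1,4]), (5, [0,1,4,1,3,2]), (5, [3,1,0,2,4]), (5, [0,4,1]), (5, [4,2,4,1]), (6, [4,2,3,3,1,3]),
   (6, [0,3,3,0,4,1]), (6, [3,2,4,1,1,4]), (6, [1,1,4,0,2,3,1,1]), (6, [2,0,3,3,2,4,2]), (3, [4]), (5, [3,2,4,0,3]),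
   (6, [1,3,0]), (6, [1,1,4,1,3,0,1]), (6, [0,3,0,4,2,3]), (6, [1,4,1,3,3,1]), (6, [2,0,3,1,4]), (6, [0,1,0,3,2,3,2]),
   (3, [0,3,2,3,3]), (3, [0,3,3]), (6, [1,0,3,3,1,4,2]), (5, [1,1,3,0,4]), (6, [3,1,1,4,0]), (6, [2,3,2,3,2,3,2]),
   (6, [0,4,2,3,0,1]), (6, [1,1,3,2]), (6, [0,4,2,4,0,3]), (6, [2,4,2,3,0]), (2, [0,3,0]), (5, [0,2,4,1]),
   (6, [0,1,0,1,4]), (6, [2,3,1,4,1]), (4, [0,2,3,2,3]), (6, [4,0,3,1,4]), (5, [1,0,2,3,3]), (6, [3,2,0,3,2,3]),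
   (4, [1,4,1,4,2]), (5, [2,4,2,4]), (6, [0,4,1,3,0,1]), (6, [0,2,3,3,0,2,4]), (6, [0,1,3,0,2,3]), (6, [0,1,0,2,3,2,3,2]),
   (6, [1,0,4,1,4]), (5, [2,0,4,1,3,2]), (6, [0,3,1,1,3,1,4,0]), (6, [2,3,3,1,4,0,2]), (6, [1,1,3,2,3,1]), (6, [1,4,2,3,2,3,2,3]),
   (5, [0,1,4,1,1,3]), (6, [0,3,1,4,0,3,3]), (6, [1,1,4,2,4]), (6, [0,3,2,4,0,3,3]), (6, [0,3,1,3,0,1]), (6, [0,1,0,3,0,2,3,2]),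
   (6, [4,0,1,4,2,3,1]), (6, [3,1,4,1,4]), (6, [0,2,3,1,3,3,2,3]), (6, [0,3,0,4,1,1]), (1, [1,3,3]), (6, [3,1,4,2,4,2]),
   (6, [4,0,3,1,3,2]), (6, [3,3,0,1,3]), (6, [1,3,3,1,3,2]), (6, [1,4,0,2,3,1]), (5, [0,4,1,1,4]), (5, [4,0,1,0,3]),
   (5, [2,4,1,3,3]), (6, [3,1,0,3]), (6, [0,3,3,0,3]), (6, [2,4,1,3,3,2]), (5, [1,3,3,2]), (3, [0,3,0]),
   (6, [3,1,4,1,1,4]), (6, [1,1,3,1,4,1]), (5, [0,1,1,3,0]), (6, [3,0,1,0,2,3]), (6, [4,2,0,4,1,4]), (6, [1,0,3,2,3,1,1]),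
   (5, [1,1,4,0]), (6, [0,4,2,0,4,1,3]), (5, [0,4,1,1,3,3]), (1, [2,4]), (6, [1,1,3,0,2,3,0]), (5, [0,4,0,2,4]),
   (6, [1,1,3,1]), (5, [0,4,0,2,0]), (6, [1,3,2,3,1,3,1]), (6, [0,4,2,0,4,1]), (4, [1,3,2,4,2,3,3]), (3, [3,3,0]),
   (6, [3,0,4,1,3,2]), (6, [4,0,2,0,4]), (6, [2,0,3,1,4,1,4]), (6, [4,1,3,2,3,1]), (6, [0,2,0,3,3,2,4]), (6, [1,0,4,0,3,2]),
   (6, [2,3,1,3,3]), (4, [3]), (6, [3,2,4,1,3,1]), (6, [2,4,1]), (6, [4,1,3,1,3]), (6, [1,3,2,4,0,3]),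
   (4, [4,1,3,1,4]), (6, [3,0,4,1,0]), (6, [2,0,3,3,2]), (6, [1,3,0,3,3,1]), (5, [0,4,1,0,4]), (6, [1,3,0,4,1,3,2]),
   (6, [2,0,4,2,3,3,1]), (6, [4,2,4,1,3,3]), (6, [0,2,3,0,2,3]), (6, [1,0,3,1,1,4,1]), (4, [1]), (6, [3,2,3,1]),
   (6, [1,0,4,2,3,0,4]), (5, [1,3,3,1]), (6, [1,3,2,4,1]), (6, [0,1,3,1,4,0,1]), (6, [3,1,4,2,3,1]), (6, [0,1,3,1,3,3,2,3]),
   (4, [3,3,2,4,1,4]), (6, [1,1,3,1,1,3]), (5, [0,3,0,2,0]), (6, [0,3,0,3,1]), (6, [2,3,3,1,3,1,4,1]), (6, [1,0,4,1,3,1,4]),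
   (5, [3,0,1,0,4,1,1]), (6, [0,2,3,0,1,1,3,1]), (6, [3,2,0,3,2,4,2]), (5, [0,3,1,1]), (6, [1,3,3,2,4,1]), (4, [1,1,3]),
   (6, [0,3,0,1,3,2]), (6, [3,1,4,1,1,3,2]), (6, [0,4,1,1,4,1,3]), (4, [3,2,4,1,1,3,2]), (6, [0,1,0,3,1,4,1]), (6, [0,2,4,2,3,0,4]),
   (4, [4,2]), (4, [4,0,1]), (4, [0,1,3]), (6, [1,3,0,1,3,3]), (6, [1,4,1,1,3,2,4]), (6, [1,0,3,0,4]),
   (6, [0,1,0,4,1,1,3]), (3, [3,2,0,3,3]), (6, [4,2,4,1,3,0,1]), (6, [1,4,0,2,4]), (6, [2,4,0,1,4,2]), (5, [0,3,1,0,2,4,2]),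
   (6, [0,3,1,3,2,4]), (6, [3,3,2,0,4,2,4]), (4, [0,4,1,4,2,4,1]), (6, [3,0,4,1,4]), (6, [3,3,2,3,1,4,1]), (6, [2,3,2,4,0,3]),
   (6, [0,3,0,1,4]), (6, [3,1,3,1,4,1,4]), (6, [0,4,0,1,1,3,3]), (4, [0,1,1]), (6, [1,1,3,1,1,4]), (6, [4,0,2,4,0]),
   (6, [0,4,1,4,1,4,1,1]), (6, [3,2,4,0,3]), (5, [3,0,1,4,1]), (5, [0,3,2,0,4]), (4, [0,3,2,3,1,1]), (6, [0,4,1,4,1,1]),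
   (6, [1,1,3,0]), (6, [0,1,0,3,2,4]), (6, [1,4,0,2]), (6, [1,0,2,3,0,4]), (6, [3,3,0,1,4,2]), (6, [0,2,0,3,3,1,1]),
   (4, [0,1,4,2]), (6, [1,0,4,1,3,0,2]), (4, [4,1,4,1,4]), (6, [1,4,0,2,3,3]), (6, [3,0,1,3,0]), (4, [3,2,3,1,1,3,1]),
   (6, [1,3,3,0,2,3,1]), (6, [3,0,2,3,0,2,4]), (5, [1,0,1,3]), (6, [3,3,2,4,0,2]), (6, [1,3,0,2,4]), (6, [0,3,0,1,0,4,1]),
   (3, [3,2,0]), (6, [1,1,3,2,4,0,3]), (6, [3,2,4,0,4]), (6, [1,4,1,3,0]), (6, [2,3,1,3]), (5, [3,2,0,4,1]),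
   (6, [2,0,3,1,1]), (4, [2,4,1,3,1]), (4, [1,3,1]), (2, [3]), (4, [3,3,1,3,1,4]), (4, [4,1,1,3,2]),
   (6, [3,3,0,1,4,2,3,1]), (6, [1,1,3,0,1,3,0]), (6, [4,2,4,1,4,1]), (4, [3,3,2,3,1,1]), (3, [1,3,3]), (5, [0,4,1,4,2]),
   (5, [4,2,3,1]), (6, [1,0,3,2,3]), (6, [1,0,3,3,1,3,1]), (6, [2,4,0,2,3,2]), (6, [3,0,3,3,2]), (6, [3,3,2,3,3]),
   (6, [0,2,0,3,0]), (6, [4,1,0,3,3]), (6, [0,2,3,2,3,2,4]), (6, [0,3,3,1,4,2,3,2]), (6, [2,3,2,3,3]), (6, [0,1,3,2,3,1,1]),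
   (6, [0,1,4,2,3,0,1]), (6, [3,2,3,2,3,1,1]), (6, [3,1,4,1,1,3,3]), (5, [0,4,0,3,2]), (6, [0,2,0,4,0,3,3]), (6, [3,0,4,1,0,3,1]),
   (4, [0,2,3,2,4,2]), (6, [3,3,2,0,4,2,3]), (6, [4,1,0,2]), (4, [2,3,3,2,3,1,4]), (6, [0,4,2,3,1,4,0]), (6, [0,2,0,4,1,1,3]),
   (6, [1,3,1,1,3,2,4]), (6, [0,2,3,3,2,3,2,3,1]), (4, [3,2,4,1,1]), (4, [0,3,0,1,3,1]), (6, [2,3,1,3,0]), (3, [4,0,2]),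
   (5, [0,1,3,2,3]), (3, [1]), (4, [1,3,2,3,1,1]), (4, [3,3,2,4,1,1]), (6, [0,2,3,1,1,4,1]), (6, [1,4,0,3,3,1]),
   (5, [1,0,4]), (6, [2,3,3,0,2,3,1]), (6, [3,3,1,1]), (4, [2,3,1,4,1,3]), (5, [3,3,1,4,0]), (6, [4,0,1,1,3,1]),
   (6, [0,2,3,3,0,3,1]), (5, [2,4,0,2,3]), (6, [1,3,1,3,3,0,3]), (5, [3,0,1,3,2,4]), (6, [4,1,1,4]), (1, []),
   (6, [0,4,2,3,1,1,3,3]), (3, [3,3,2]), (6, [2,3,3,1,4,1]), (5, [0,2,0]), (6, [1,1,4,1,3,3,1,4]), (6, [1,0,3,1,1]),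
   (6, [0,2,3,3,2,3]), (6, [2,3,1,1,3,3,2]), (6, [3,0,2,3,1]), (6, [0,1,0,4,1,4,1,3]), (5, [4,1,4,2]), (6, [0,2,0,4,0,2,3]),
   (4, [4,1,3,1,1]), (5, [1,4,0]), (5, [2,0,4,1,1]), (6, [1,3,3,0,3,1,4]), (6, [1,4,1,1,3,1,3]), (5, [0,2,3,1]),
   (6, [3,1,1,3]), (6, [4,0,1,1,3,2,4]), (6, [0,4,0,1]), (6, [0,4,1,0,4,1]), (6, [0,3,2,0,4,1,4]), (5, [2,0,3,2,3]),
   (6, [0,2,3,3,0]), (4, [3,3,1,3,2,3]), (6, [1,0,2,4,1,4,2]), (4, [1,4,1,3,1]), (6, [0,1,1,4,0,1,4]), (6, [0,2,4,1,3,2]),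
   (6, [1,3,3,1,1,3,1]), (6, [1,0,3,1,1,4,1,4]), (1, [1,4,1]), (5, [0,1,0,2,4,0]), (6, [3,1,1,4]), (4, [3,1,4,2]),
   (6, [1,3,3,2,3,2]), (6, [0,1,3,1,4,1,1,3]), (6, [4,2,0,3,3,2]), (6, [4,0,1,4,1]), (5, [4,2,0,4,2,3]), (6, [0,3,2,3,3,1,1,4]),
   (6, [1,1,3,0,1,1,4]), (6, [2,0,3,1,3,3,2]), (6, [1,4,1,4,1,4]), (6, [0,2,3,0,1,3,2]), (6, [1,3,0,4,1,4]), (6, [0,4,2,3,1,1]),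
   (6, [4,1,1,4,2,3,1]), (5, [0,4,0,4]), (6, [4,0,1,3,2,4,1]), (6, [3,2,4,0,2,3,3,1]), (6, [2,4,1,4,2,4]), (6, [1,4,2,3,0,2]),
   (6, [2,4,0,1,4,1,1]), (6, [2,4,0,1,1]), (6, [0,3,3,1,4,2,4]), (5, [2,4,1,1,4,1]), (5, [0,3,1,3,3]), (5, [1,4,2,3,2]),
   (4, [0,3,1,4,1,3]), (5, [0,2,3,0,4]), (6, [0,3,2,4,1,3]), (6, [0,4,0,1,4,2]), (6, [0,2,3,3,2,4,2]), (5, [0,1,0,3,1,3]),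
   (6, [0,3,0,3,3,2,3]), (6, [4,0,1,4,1,1]), (6, [1,0,2,3,2,4,1]), (5, [4,0,1,1]), (6, [3,1,1,4,2]), (6, [0,2,0,4,1,1]),
   (6, [1,1,3,2,3,1,3,0]), (4, [1,3,2,4,1,1]), (4, [0,4,1,3,2,4,1]), (6, [1,1,3,0,1,3,3]), (4, [0,3,0,1,3,2,4]), (6, [1,1,3,3,1]),
   (6, [1,3,3,1,1,4,0]), (6, [0,1,0,2,3,2,4]), (6, [4,1,0,4,0,2]), (6, [4,2,0,4,1,3,2]), (6, [0,1,3,1,4,2]), (5, [2,4,1,4,1,3,0]),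
   (4, [0,2,3,3]), (6, [3,2,3,3,2,3,2]), (6, [3,0,1,3,3]), (3, []), (6, [3,1,0,3,0,1,1]), (6, [0,3,1,0,3,2]),
   (4, [3,2,4,1,3,1]), (6, [3,1,1,3,2]), (4, [3,2,3,2,3,3]), (4, [4,1,4,1,1]), (6, [3,2,4,1,3,1,4]), (6, [3,1,0,2,4,1]),
   (3, [0,3,2,3]), (6, [0,2,4,1,1,3,1,3]), (6, [0,4,1,0,4]), (4, [0,3,0,4]), (6, [1,1,4,2,3,2,3]), (4, [1,3]),
   (4, [2,4,1,4,1,3]), (4, [1,3,2,4,1]), (6, [3,0,1,3,3,1]), (6, [0,3,2,3,3,0,3]), (3, [1,1,4]), (6, [1,1,3,0,1,4,2]),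
   (5, [1,3,2,3]), (4, [3,1,1,3,1]), (4, [0,4,1,4,1,3]), (4, [4,0]), (6, [2,4,2,3]), (4, [1,3,2,4,1,3,2]),
   (3, [3,3,2,3]), (4, [1,3,2,3,1]), (4, [1,3,3,2]), (6, [1,3,2,3,3,0]), (5, [2,3,1,1,3]), (6, [3,1,4,1,3,2,3]),
   (6, [3,0,2,3]), (6, [0,3,1,4,1,1]), (6, [2,3,1,4,0,3,1]), (6, [0,2,4,1,3,3,0]), (6, [1,3,2,4,1,4]), (6, [0,1,0,2,3,1,1]),
   (5, [3,2,0,3,0]), (5, [2,3,1,1,3,1]), (5, [3,2,4,1]), (6, [0,1,1,4,2,3,2,3]), (6, [1,0,3,3,1,3]), (6, [0,1,1,3,3,0]),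
   (6, [0,1,3,2,3,1]), (5, [4,2,3]), (5, [0,3,0,1,4]), (5, [0,3,3,0,1]), (6, [1,4,0,3,3]), (6, [3,0,4,1,0,3]),
   (6, [1,4,2,3]), (6, [0,1,1,4,0,1,4,0]), (5, [1,0,4,0,3]), (6, [4,2,4,1,3,0]), (4, [1,4,1,3]), (6, [4,1,1,4,2,3]),
   (4, [4,1,1,3,1,1]), (6, [0,1,4,2,3,2,3]), (6, [3,2,3,2,4,1,4]), (6, [0,1,4,1,4]), (6, [0,2,3,3,0,2]), (6, [1,3,3,2,3,2,3,1]),
   (5, [4,1,4,1,1]), (6, [0,4,2,3,1]), (6, [1,1,3,1,1,4,2]), (6, [3,0,2,3,1,4]), (6, [1,4,0,1,1]), (6, [2,3,3,0,2,3,2,3]),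
   (6, [0,4,2,3,2,3,3]), (5, [1]), (6, [2,0,4,2,3,0,1]), (6, [4,0,2,3,1,4]), (6, [1,1,4,2,3,0,1,1]), (1, [1,4]),
   (6, [3,1,4,2,3]), (6, [0,2,3,3,2,3,2,3]), (6, [0,3,0,1,3,0,1]), (4, [3,3,2,3,1]), (6, [0,2,3,1,1,4]), (6, [0,3,3,1,0,3,1]),
   (5, [0,4,1,4,1,1,4]), (5, [0,2,3]), (6, [4,1,0,4,0]), (6, [0,3,0,1,0]), (6, [1,3,3,0,3,1]), (4, [1,4,1,3,1,1,4]),
   (6, [0,3,3,0,2]), (6, [3,3,2,0,3]), (4, [4,1,3,1]), (6, [3,2,3,1,3,0]), (5, [1,1,4,1,4]), (6, [0,4,1,1,3]),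
   (1, [2]), (6, [2,0,3,1]), (6, [0,3,0,1,0,2]), (6, [4,1,3,3,2]), (2, []), (5, [4,0,3,2,4]),
   (4, [0,2,3,2,4,1,1]), (2, [4,2,4]), (6, [0,2,4,0,2,4,0]), (4, [3,1,1,3]), (2, [4,2,3]), (5, [3,0,1,1]),
   (4, [4,1,1]), (6, [0,3,2,0,4,1,3]), (6, [0,4,0,1,3,3]), (2, [0,4]), (6, [0,3,1,1,3,0]), (2, [0,3,1]),
   (6, [1,4,0,3,2]), (6, [1,3,0,1,1,3,2]), (2, [0,3]), (6, [4,0,1,3,2,4,0]), (2, [3,3]), (2, [3,3,1]),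
   (4, [4,1,4,1]), (4, [3,3,2,4,1]), (4, [3,2,3,1,1,3]), (6, [0,2,3,0,1,3,1,1]), (6, [3,1,4,0,1,1,3]), (6, [1,3,3,0,2,3]),
   (6, [1,3,2,3,2,3,2,4]), (6, [0,2,0,3,3,1]), (5, [2,4,1,1,4]), (4, [0,1,4,1,1]), (6, [1,4,0,3,1,1]), (6, [0,2,3,2,3,2,3]),
   (5, [0,4,1,3,1,3]), (5, [1,0,1,4]), (5, [4,1,0]), (6, [1,1,3,1,1,3,3]), (6, [4,1,3,0,2,3,1]), (6, [3,3,2,3,2,4,0]),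
   (6, [4,1,3,3,1,1]), (6, [1,3,2,4,0,1,4,2]), (6, [1,3,2,4]), (5, [0,2,0,3,0]), (6, [2,0,4,1,3,3,2,3]), (5, [3,0,1,0,4,1]),
   (6, [2,3,1,4,0,3]), (6, [1,0,3,1]), (6, [2,3,2,3,2,4]), (6, [2,4,2,3,2]), (6, [2,3,3,1,4]), (6, [3,1,0,2,4]),
   (6, [0,1,4,2,3,3,1]), (5, [0,4,1,1,3,0,1]), (6, [0,1,0,3,0,4,2]), (6, [1,4,2,4]), (6, [0,2,3,2,4,1,3]), (2, [1,3,0]),
   (2, [3,3,2]), (6, [0,1,1,3,2,3,2,3]), (6, [0,2,3,1,1,4,1,4]), (2, [0,3,2]), (2, [0,1,4]), (0, []),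
   (6, [1,3,2,4,0,1,4]), (5, [3,2,0]), (2, [0,4,1]), (2, [1]), (6, [0,1,4,1,3]), (6, [0,3,2,4,1,3,0]),
   (6, [1,4,2,4,2]), (6, [0,2,0,4,0,2,4]), (6, [2,4,2,4]), (6, [1,3,0,1,1]), (6, [2,3,3,1,3,2,3]), (6, [0,3,2,3,2,3,1]),
   (6, [0,2,3,3,0,3,3]), (5, [0,1,1,4]), (6, [0,2,4,1,1,3]), (5, [2,3,1,4]), (5, [0,1,3,0,1,4]), (6, [1,3,1,4,2]),
   (5, [3,0,1]), (5, [0,3,1,4,2,3]), (5, [3,0,1,4,1,3]), (6, [1,3,1,4,0,1,4]), (6, [4,1,3,0,3,3]), (5, [2,3,0,2]),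
   (6, [0,2,4,0,1,4,0,2]), (6, [0,1,3,0,1,4]), (6, [1,3,3,0,1,3]), (6, [0,3,2,4,2,3,0]), (6, [0,1,0,2,4]), (6, [0,1,3,2,3,3,1,1]),
   (6, [4,1,1,4,0,1]), (6, [0,1,4,1,4,1,3,1]), (6, [1,4,2]), (6, [3,1,0,3,3,0]), (6, [1,1,4,0,2,4,0]), (6, [2,0,4,1,3,0,2]),
   (6, [0,1,1]), (5, [0]), (6, [3,2,4,1,3,3]), (6, [1,3]), (6, [1,0,3,1,4]), (6, [0,3,0,3,3]),
   (6, [0,4,0,1,4,1,3,3]), (6, [0,3,2,4,2,4]), (5, [0,3,3,2,3]), (6, [4,2,4,0]), (6, [4,1,3,0,2]), (5, [2,4,0,3]),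
   (6, [0,3,3,2,3]), (6, [4,1,1,4,0,2]), (5, [1,4,1,3]), (6, [3,3,0,3,3]), (6, [2,3,2,3,2]), (6, [3,0,1,3,1]),
   (6, [3,1,3,3,1,1,3]), (6, [1,1,3,2,3,2]), (6, [0,1,0,3,0]), (6, [3,3,2,4,1,4,1,4]), (6, [2,4,1,3,0,3]), (6, [3,2,3,2,4,0]),
   (6, [4,0,1,0]), (6, [4,1,0,4,1,1,3]), (6, [3,2,3,3,1]), (6, [1,3,0,2,3,3]), (5, [1,4,1]), (6, [1,0,2,3,2,3,3]),
   (6, [3,1,1,3,2,4,1]), (6, [0,3,0,2,3,1,4]), (6, [0,2,0,3,1,4,1]), (6, [0,3,0,4,1,0]), (6, [1,3,3,0,1,4,2]), (6, [3,2,3,1,3,1,1]),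
   (5, [0,1,4,0,3]), (6, [3,0,2,3,0]), (5, [1,0,4,0,1]), (5, [0,1,3,0,1,3,2]), (5, [0,4,2,3,3,1]), (6, [0,4,0,3,2,4,1]),
   (6, [4,1,0,4,1,1]), (5, [0,1,3,3]), (6, [0,3,1,0,2]), (6, [1,1,3,2,4]), (6, [0,2,3,3,1,3,3]), (6, [0,2,0,3,2,3,2]),
   (6, [0,3,1,3,0,4,1]), (6, [3,2]), (4, [1,4,1,4,1]), (6, [0,2,0,3,2,3,1]), (6, [0,3,3,1,4,2]), (6, [1,4,0,4,2,3,1]),
   (6, [3,2,3,2]), (6, [2,0,4,1,3,1,3,2]), (6, [0,3,2,4,2,3,3]), (6, [0,2,3,3,1,3]), (6, [0,4,2,3,2,4,2]), (6, [3,3,2,4,0,1,4]),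
   (4, [0,2,4,2]), (6, [3,2,3,3,1,3]), (6, [3,3,1,1,4,2]), (6, [0,2,0,4,2,3,2]), (5, [0,1,3,2]), (6, [3,2,3,3,2]),
   (6, [3,2,4]), (5, [0,3,3,2]), (6, [0,4,1,0,3,3,1]), (6, [3,2,3,3,0]), (6, [0,1,0,2,4,1,3,3]), (5, [0,3,3,2,4,1]),
   (6, [2,0,4,1,4,1,1]), (5, [0,1,4]), (4, [4,1,1,4,1,1]), (6, [1,0,3,0,1,4]), (6, [1,0,2,3,3,2,3]), (6, [4,1,3,1,4,0]),
   (6, [1,1,4,0,2]), (6, [0,3,2,4,2,3,2]), (6, [0,2,4,0,1,4,1,4]), (6, [0,3,0,2]), (4, [3,1,1,3,2,4,1]), (6, [3,3,1,3,0]),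
   (6, [0,2,3,3]), (6, [2,3,1,1,3,3,2,3]), (6, [0,3,0,2,3]), (6, [3,2,4,2,3]), (6, [4,0,3,3]), (6, [0,3,0,2,3,0,1]),
   (6, [1,1,3,2,3,3,0]), (4, [4,1,4,2,4,1]), (6, [0,1,1,4,2,3,1,1]), (6, [0,4,2,3,3,0]), (6, [1,3,1,3]), (6, [2,0,4,1,4,1,4]),
   (6, [0,3,1,3,3,0,1]), (6, [2,3,3,0]), (5, [0,3,1,3,3,0]), (6, [3,1,3,3,1]), (5, [1,3,1,3,3]), (6, [0,2,3,1,4,0,2]),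
   (6, [1,0,4,0,1,4]), (5, [2,3,3,0,1]), (4, [0,3]), (5, [2,0,4,0,1]), (6, [1,1,4,0,2,3,3,2]), (6, [1,1,4,1,3,0,3]),
   (6, [1,1,3,3,0,2,3]), (3, [3,2,3,3]), (5, [0,1,4,1,1,3,2]), (6, [0,3,1,1,3,1,3]), (5, [2,3,1,3,2]), (5, [0,4,1,1,4,2]),
   (3, [0,2,3,3]), (6, [0,1,0,2,3,2]), (6, [0,1,1,3,3,2]), (6, [0,4,0,1,4]), (6, [0,3,2,3,2,4]), (6, [0,3,1,0,3]),
   (5, [3,0,3,3]), (5, [0,4,0,1,0]), (6, [2,0,4,1,3,1]), (5, [1,1]), (6, [0,1,3,1,4]), (6, [1,1,4,2,3,0,2]),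
   (6, [1,4,0,2,4,1,1]), (6, [3,3,0,4,2,4,2]), (6, [3,1,3,2,4,1]), (6, [1,1,3,0,1,3,3,1]), (6, [0,3,1,4,2]), (6, [0,1,0,1,3,0]),
   (6, [1,3,0,2,3,0]), (6, [0,2,0,4,2]), (5, [3,2,4,1,1]), (5, [4,2,0,3,3,0]), (5, [0,4,2,3,1]), (5, [2,3,0,4,1]),
   (6, [3,3,2,0,3,1]), (5, [2,3,3,0,3]), (5, [4,2,3,3]), (6, [0,3,3,2,4,2]), (2, [0,3,0,2]), (6, [1,4,1,4,1,4,1]),
   (5, [2,3,1,4,1,4]), (5, [2,3,1,4,2,4]), (5, [0,1,3,2,4,1,3]), (6, [1,4,2,3,0]), (6, [2,4,1,4,2,4,1]), (6, [0,3,3,0]),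
   (6, [0,1,0,3,1,1,3]), (6, [0,3,2,0,3,1,4]), (6, [0,3,1,1,3,2]), (6, [0,1,1,3,2,4,2]), (6, [1,3,0,1,1,3]), (6, [2,4,0,2]),
   (5, [4,1,3,3,1]), (5, [0,2,3,3]), (5, [1,3]), (5, [0,3,1,0,2]), (6, [0,3,1,1,3,0,3]), (5, [0,3,1,1,4]),
   (3, [0,1,1]), (6, [4]), (3, [0,4]), (5, [2,0,4,2,3,0]), (5, [3,2,4,0]), (6, [0,4,2,3,2,3]),
   (6, [1,0,4,2,3,0,1]), (6, [1,0,2,3,0,1,1]), (5, [0,2,0,3]), (5, [4,1,1]), (6, [1,4,0,4,2]), (5, [4,0,2,3,1]),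
   (5, [1,4,0,3]), (5, [0,1,0,3,0,2]), (6, [0,2,4,0,1,4,2]), (2, [1,3]), (5, [4,1,0,2,4]), (6, [0,1,1,3,3,0,3]),
   (5, [0,1,4,0,2,4]), (6, [1,3,0,3,1]), (5, [0,4,1,0,4,0]), (6, [4,1,4,1,3,2,3]), (6, [0,2,0,3,2,3,1,3]), (6, [1,3,0,2,3,2,4]),
   (5, [0,4,1,0,2,4]), (6, [3,3,2,4,1]), (6, [0,1,3,1,4,1,3,3]), (6, [2,3,2,3,3,0,2]), (6, [3,1,3,2,4,0,4]), (6, [2,4,0,3,3]),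
   (6, [1,0,2,3,1]), (5, [3,2,4,2,3,3]), (5, [2,3,3]), (6, [0,1,1,3,2,3]), (6, [3,2,3,2,3,1,4]), (6, [0,3,1,3]),
   (6, [1,3,1,4,0,3]), (6, [0,2,0,3]), (6, [3,3,0,4,2,3]), (6, [0,3,3,1,3,2,4]), (6, [4,1,3,3]), (6, [1,4,2,4,1]),
   (6, [1,3,1,1,4,2,3]), (6, [1,0,3,0,2,3,2,3]), (6, [0,1,0,3,0,4]), (5, [4,0,3,2,4,1]), (5, [3,0,2]), (6, [0,1,4,1,3,1]),
   (6, [1,1,4,0,2,3,3,0]), (6, [4,2,0,3,3,0]), (6, [0,4,2,0,3,2,4]), (6, [1,4,0,3]), (6, [0,1,3,2,3,2,3]), (5, [3,1,0,2]),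
   (6, [4,0,2,4,2,3]), (5, [1,1,4,2,3]), (6, [0,3,0,2,3,3,1]), (5, [0,1,3,1]), (6, [0,1,3,0,3,1]), (6, [1,4,0,2,3,2]),
   (6, [0,4,2,0,3]), (6, [0,4,1,3,2,3]), (6, [1,1,4,1,3,3]), (4, [3,1,1,4,1]), (6, [3,2,0,4,1,4]), (6, [1,0,2,4,0,2,3,3]),
   (6, [4,1,0,2,3,0,1]), (6, [0,2,3,1,4,1,3,3]), (4, [0,3,0,2]), (6, [3,1,4,1,3,2]), (6, [4,1,3,1,4,2]), (6, [1,0,3,2,4,2]),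
   (6, [1,3,3,1,3,2,3]), (5, [0,2,4,2]), (6, [1,0,3,3,1]), (6, [0,4,1,0]), (5, [0,3,0,3]), (6, [0,4,1,3,0,4]),
   (6, [3,2,0,3,2,3,3]), (6, [2,3,1,4,2]), (5, [3,3,0,4,1]), (6, [0,1,1,4,2,3,0,1]), (6, [0,1,1,3,2,4,2,4]), (5, [3,0,4,2,3,1]),
   (5, [0,1,4,1,1]), (6, [3,2,0,4,1]), (6, [0,3,1,4,0,1]), (6, [0,3,0,1]), (6, [1,0,2,4,1,3]), (5, [0,3,0,2,3,2]),
   (6, [3,1,3,0,4]), (6, [1,0,1,4,0]), (6, [3,0]), (4, [1,4,1,3,2,4,1]), (6, [4,2,3,1,4,0,1]), (6, [3,0,4]),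
   (6, [0,2,3,1,4,0,2,4]), (6, [0,4,1,4,1,3,1]), (6, [1,0,3,1,4,0,2]), (6, [3,1,3,2,3]), (6, [0,4,0,2,4,0]), (6, [4,2,4,0,2,4,1]),
   (6, [0,3,2,4,1,4,2]), (6, [1,3,0,2,3,2]), (6, [3,3,1,3,3,2]), (6, [0,4,0,3,3,2]), (6, [1,1,4,0,3]), (6, [0,3,3,0,4,2]),
   (6, [3,1,4,1]), (6, [0,3,2,3,3,1,4,0]), (6, [2,4,2,3,2,4]), (6, [0,1,3,3,2,3]), (6, [0,3,0,2,3,1,1]), (6, [0,3,3,1,4,0]),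
   (6, [0,3,0,1,4,1,3,3]), (6, [4,0,2,3,3,0]), (6, [3,1,4,0,2,4]), (4, [0,2,3,2,3,1,1]), (5, [0,4,2]), (6, [2,3,2,3,1,3,1]),
   (6, [0,3,2,3,3,1,1]), (6, [0,3,3,2,3,2,4]), (6, [1,1,4]), (6, [0,2,4,1,4]), (5, [0,4,0,1,4]), (6, [2,0]),
   (6, [1,1,3,2,3,3,2]), (6, [4,0,1,0,2,4,2]), (6, [2,3,1,1]), (4, [3,2,4,2,3,3]), (5, [0,2,3,1,4,0]), (5, [2,3,0,1]),
   (6, [4,1,0,2,3]), (6, [3,1,4,0,3,1]), (5, [0,4,1,0,3,2]), (6, [2,0,4,1,1,4]), (6, [0,2,3,3,2,4,2,3]), (6, [4,2,4,2,3,1]),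
   (6, [0,3,0,4,2,4,2]), (5, [1,4,1,1,4]), (6, [1,3,3,1,4]), (6, [0,2,3,1,4]), (6, [0,1,1,3,0,1,4]), (6, [2,4,0,1,3]),
   (6, [0,3,0,4,1,4,1]), (6, [3,1,3,2,3,3]), (4, [2,3]), (6, [3,1,0,3,3,1]), (6, [0,2,3,3,2,4,1,4]), (6, [3,3,1,1,3,1,1]),
   (6, [3,1,3,1,4]), (6, [3,1,4,2,4,1]), (6, [2,4,0,3,2,4]), (6, [4,0,4,2,3,1,3]), (6, [1,1,3,0,3,3,2]), (5, [2,4,1,3,2]),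
   (6, [1,3,0,2,3,1]), (6, [0,3,2,0,3,3]), (6, [1,3,3,1,1,4]), (6, [4,2,4,1,3]), (6, [0,1,0,3,2,3,1]), (6, [1,3,0,3,3,2]),
   (5, [3,0,3]), (5, [3,2,0,3]), (6, [3,0,4,1,4,1,4]), (6, [3,3,1,1,4,2,4]), (6, [1,0,3,3,0,4]), (5, [2,3,1,1,4,0,2]),
   (6, [0,1,0,4,2]), (6, [0,3,2,4,0,2]), (6, [4,2,3,2]), (6, [0,1,1,3,1,4,0,2]), (6, [1,1,4,1,3,3,1,1]), (6, [3,0,2,3,1,3,1]),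
   (6, [0,3,1,4,0,2]), (6, [0,1,3,0,2,3,1,1]), (6, [0,1,3,2,3,1,1,4]), (5, [1,0,1]), (6, [4,0,2,0,3,2]), (5, [3,0,1,3]),
   (6, [1,1,4,2,3,2]), (6, [0,2,0,4,0,2]), (6, [3,3,0,1,4,2,4]), (5, [4,2,3,1,4]), (6, [1,4,0,3,1,1,3]), (6, [1,0,4,2,3,1]),
   (6, [4,1,3,3,1,1,3]), (5, [1,1,3,3]), (6, [2,4,0,2,3,3]), (6, [0,3,3,1,3,2,3]), (6, [1,3,1,1,4,2,4]), (6, [0,3,2,0,3,1,3]),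
   (6, [0,1,3,2,3,2,4]), (5, [3,1,0,2,3,3]), (6, [1,3,3,0,4,1,3]), (6, [0,1,1,3,2,3,3,0,3]), (6, [1,3,0,1,4,2,3]), (6, [0,1,3,3,0]),
   (5, [4,0,1,4,0,2]), (6, [0,1,0,2,4,2,3]), (6, [1,0,2,3,0,2]), (5, [0,4,1,4,1,4]), (6, [0,2,3,3,0,4]), (6, [2,4,2]),
   (6, [1,4,2,4,2,3]), (6, [1,0,3,0,2,3,2,4]), (6, [1,3,0,1,1,4]), (5, [0,1,0,3,0]), (5, [2,3,1,1,4,2]), (6, [1,3,1,3,3,1]),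
   (6, [4,0,2,3,1,1]), (6, [0,1,1,3,3,0,3,1]), (6, [3,0,3,3,1,0]), (6, [4,1]), (6, [0,1,3,1,3]), (6, [0,2,4,0,1,4]),
   (6, [2,3,3,1,3,2]), (6, [2,3,1,1,3,0]), (6, [1,4,0,4]), (5, [4,0,3,2]), (3, [3,2]), (5, [2,3,1,4,1,3]),
   (5, [0,4,0,3,3,2]), (5, [0,3,1,0]), (5, [2,3,1,4,2,3]), (3, [0,2]), (5, [1,4,0,3,1]), (2, [4,2]),
   (5, [1,3,1]), (5, [0,2,3,2,4,2]), (5, [0,3,1,1,4,1]), (5, [3,2,4,0,1]), (5, [4,2]), (5, [0,2,3,3,1]),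
   (6, [4,1,1,4,2]), (6, [1,3,3,2,4]), (6, [1,1,3,0,1,3]), (5, [1,0,4,2]), (6, [4,2,0]), (6, [0,4,1,1,4,1,3,2]),
   (6, [4,2,3,0,4,1]), (5, [0,1,0,1]), (6, [3,3,2,4,2,3]), (6, [0,4,1,4,1]), (6, [0,4,1,0,4,0]), (5, [0,1,3,0,4]),
   (6, [3,2,4,0,2,3,3]), (6, [0,3,3,2,4,0]), (6, [1,4,1,3,1,4]), (6, [3,3,1]), (5, [4,0,1]), (6, [4,0,1,1,3]),
   (6, [3,1,0,3,0,1]), (6, [0,2,3,3,2,4,1,1]), (6, [2,3,3,0,2,3]), (6, [0,2,4,2,3,2,3]), (5, [0,3,0,2,4]), (6, [1,0,2,3,3]),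
   (5, [2,0,4,1]), (6, [0,1,4,1,4,2]), (6, [0,4,0]), (6, [4,0,1,4,0,1]), (6, [1,4,2,3,2]), (6, [0,3,2,0,4,1,4,2]),
   (5, [0,1,3,3,0,4]), (5, [3,0,2,3]), (3, [4,0,2,3]), (5, [0,4,1,1,4,1,1]), (5, [2,4,1,4,1,3]), (3, [4,1,3,3]),
   (5, [2,3,3,0]), (5, [2,0,4,0]), (2, [0,1,4,0]), (5, [3,2,3,1,1,3]), (5, [0,1,4,0]), (5, [2,3,0,4]),
   (5, [0,4,2,3]), (5, [0,4,0,1,3,3]), (5, [2,3,1,4,2,4,2]), (6, [4,1,3,3,1]), (6, [0,4,0,1,3]), (6, [3,0,1,4,1,3,0]),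
   (6, [0,3,2,3,2,3]), (6, [0,3,3,0,3,3]), (6, [1,4,0,3,1]), (6, [3,0,1,1,4,2,3]), (6, [0,1,0,2,3,2,3,3]), (5, [3,0]),
   (5, [3,1,0]), (6, [0,3,1,0,4]), (6, [4,1,3,0,2,3]), (6, [0,3,1,1,3,1,4]), (6, [0,4,1,3,1,1,3]), (5, [1,4,0,3,1,4]),
   (6, [3,1,4,0,1,1]), (6, [3,1,3,1,4,1,1,3]), (6, [0,1,0,4,2,3,2]), (4, [2,3,2,3,1,1]), (6, [0,1,4,1,3,3,2,3]), (6, [2,0,4,0,1,4]),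
   (4, [0,2,4,1,3,1]), (6, [1,1,4,0,1,4,1]), (6, [2,4,1,3,0]), (6, [3,1,0,3,1,1]), (4, [3,3,2,3,1,4]), (6, [3,1,0,3,2,3,3]),
   (6, [2,0,4,1,4]), (6, [0,1,0,4,2,4]), (6, [0,1,3,1,4,0,2]), (6, [0,2,0,3,2,4]), (4, [0,4,1,3,1]), (6, [1,1,4,0,3,3]),
   (6, [3,1,1,3,3,1]), (4, [0,1,3,2,4,1,1]), (6, [1,3,0,1,3,0]), (6, [4,0,2]), (6, [0,3,3,1,3]), (6, [0,4,1,1,4,1]),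
   (6, [3,3,1,1,3]), (4, [0,2,3]), (6, [0,2,3,1,4,0,3,3]), (6, [0,1,0,2,3,0]), (6, [4,1,3,0,3]), (6, [4,2,4,1,1]),
   (5, [3,1,0,2,3]), (5, [2,0,3,0,1]), (5, [0,4,1,1,3]), (5, [2,4,1]), (5, [0,1,3,0,1]), (5, [3,1,1,4,0]),
   (5, [0,1,0,4,1]), (5, [3,0,1,1,3]), (2, [0]), (5, [1,0,2]), (3, [4,1,3]), (5, [0,1,1]),
   (5, [1,4,2]), (3, [0,3,2]), (5, [0,2,3,0,2]), (6, [2,0,4,0,1,4,0]), (6, [3,3,0,4,2,3,1]), (5, [2,3,3,1]),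
   (6, [0,1,3,0,1,3,2]), (5, [3,0,1,1,3,2,4]), (6, [0,3,1,3,1]), (6, [0,2,0,3,1]), (6, [1,1,4,1,1,4]), (6, [1,4,2,3,3,2]),
   (5, [0,4,1,0,2,4,1]), (6, [1,0,2,3,1,1]), (6, [0,2,0,3,0,2,3]), (6, [0,1,1,3,2,3,1]), (6, [2,4,0,3,3,1]), (6, [2,3,2,3,3,0]),
   (6, [2,3,3,1,3,1,1]), (5, [2,0,3,2,3,2,4]), (5, [3,1,4,1]), (6, [1,1,4,0,2,3,1,4]), (6, [2,0,4,0,1]), (6, [2,3,2,4]),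
   (6, [3,3,1,4,1,3,1]), (6, [1,0,4,2,3]), (6, [0,1,3,2,4,1,3]), (6, [0,1,0,3,1,4,0]), (6, [0,2,3,0,3,3,1]), (6, [1,3,1,3,3]),
   (5, [3,1,1,4,1]), (6, [0,1,1,3,1,1,3,0]), (6, [4,0,2,3,1])]

theorem hbaseT : (∀ x ∈ baseT, x < 2 ^ 24) ∧ baseT.Nodup := by decide +kernel

theorem hgenT : ∀ g ∈ gensT, genChkS baseT g = true := by decide +kernel

theorem hrootsT : ∀ r ∈ rootsT, (∀ x ∈ r, x < 2 ^ 24) ∧ r.Nodup := by decide +kernel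

theorem hclsT : ∀ e ∈ tabT, e.1 < rootsT.length := by decide +kernel

theorem hincT : incChk (tabKeys gensT rootsT tabT) 0 = true := by decide +kernel

theorem hinvT : ∀ c < rootsT.length, ∀ c' < rootsT.length,
    invLE 2 baseT (rootsT.getD c []) = invLE 2 baseT (rootsT.getD c' []) → c = c' := by
  decide +kernel

theorem hlenT : tabT.length = 3795 := by decide +kernel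

theorem hcountT : ∀ c < rootsT.length, (tabT.filter (fun e => e.1 == c)).length = sizeT c := by
  decide +kernel

end Cfsg.Agent.Lib_lead_MixOctTrio2
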