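import Mathlib
import Cfsg.Prelude.Def_SporadicCombinatorics
import Cfsg.Agent.Lib_lead_ObjOrb4

/-! Orbit certificate: sextet stabilizer on trios. Generators of the stabilizer of the base family, and every member
of the other family as the image of one of the orbit representatives under a word in them. -/

set_option autoImplicit false

namespace Cfsg.Agent.Lib_lead_MixSextTrio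

open Cfsg Cfsg.Agent.Lib_lead_Golay Cfsg.Agent.Lib_lead_GolayPerm Cfsg.Agent.Lib_lead_M24
  Cfsg.Agent.Lib_lead_M24Chain Cfsg.Agent.Lib_lead_M24Orb Cfsg.Agent.Lib_lead_ObjOrb
  Cfsg.Agent.Lib_lead_ObjOrb3 Cfsg.Agent.Lib_lead_ObjOrb4
open scoped Pointwise

/-- the base family -/
def baseT : List ℕ := [101, 45058, 262536, 3277312, 4800512, 8391696]

/-- generators of the stabilizer of the base family -/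
def gensT : List (List ℕ × List ℕ) :=
  [([7, 21, 8, 16, 5, 18, 3, 19, 22, 15, 0, 6, 9, 17, 4, 20, 11, 1, 14, 10, 12, 13, 23, 2], [10, 17, 23, 6, 14, 4, 11, 0, 2, 12, 19, 16, 20, 21, 18, 9, 3, 13, 5, 7, 15, 1, 8, 22]),
   ([10, 17, 23, 6, 14, 4, 11, 0, 2, 12, 19, 16, 20, 21, 18, 9, 3, 13, 5, 7, 15, 1, 8, 22], [7, 21, 8, 16, 5, 18, 3, 19, 22, 15, 0, 6, 9, 17, 4, 20, 11, 1, 14, 10, 12, 13, 23, 2]),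
   ([19, 5, 16, 20, 3, 22, 14, 17, 9, 10, 18, 7, 0, 6, 1, 2, 12, 4, 21, 15, 11, 23, 13, 8], [12, 14, 15, 4, 17, 1, 13, 11, 23, 8, 9, 20, 16, 22, 6, 19, 2, 7, 10, 0, 3, 18, 5, 21]),
   ([12, 14, 15, 4, 17, 1, 13, 11, 23, 8, 9, 20, 16, 22, 6, 19, 2, 7, 10, 0, 3, 18, 5, 21], [19, 5, 16, 20, 3, 22, 14, 17, 9, 10, 18, 7, 0, 6, 1, 2, 12, 4, 21, 15, 11, 23, 13, 8]),
   ([17, 23, 20, 19, 8, 9, 21, 22, 16, 2, 18, 3, 11, 10, 1, 4, 13, 5, 14, 12, 0, 6, 15, 7], [20, 14, 9, 11, 15, 17, 21, 23, 4, 5, 13, 12, 19, 16, 18, 22, 8, 0, 10, 3, 2, 6, 7, 1]),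
   ([20, 14, 9, 11, 15, 17, 21, 23, 4, 5, 13, 12, 19, 16, 18, 22, 8, 0, 10, 3, 2, 6, 7, 1], [17, 23, 20, 19, 8, 9, 21, 22, 16, 2, 18, 3, 11, 10, 1, 4, 13, 5, 14, 12, 0, 6, 15, 7])]

/-- orbit representatives -/
def rootsT : List (List ℕ) :=
  [[3322370, 4800613, 8654232],
   [126216, 3277413, 13373586],
   [762504, 3152963, 12861748],
   [252432, 6554826, 9969957]]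

/-- orbit sizes -/
def sizeT (c : ℕ) : ℕ := ([15, 180, 720, 2880] : List ℕ).getD c 0

set_option maxRecDepth 1000000 in
/-- class and word of every member, sorted by key -/
def tabT : List (ℕ × List ℕ) :=
  [(1, [3,5,0]), (2, [3,1,3,3]), (3, [2,4,2,4,4]), (2, [2,2,5,5,3]), (3, [0,5,2,0,2,4]), (3, [3,5,2,0]),
   (3, [5,2,5,2,1]), (3, [0,2,1,4,0,4]), (2, [5,0,3,5]), (3, [0,3,4,1,5]), (1, [2,1,3]), (3, [5,0,0,2,0,4]),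
   (2, [2,4,1,5]), (2, [2,4,4,3]), (3, [2,4,4,0,5]), (3, [4,0,0,4,0]), (3, [4,1,4,4,0]), (3, [5,0,2,5,1]),
   (3, [3,4,3]), (3, [5,0,3,3,4]), (2, [3,5,0,5,3]), (3, [1,2,0,4,0]), (3, [5,3,5,5,2]), (3, [2,0,0,4]),
   (3, [1,2,4,2,4,3]), (3, [2,4,3,1]), (0, [2]), (3, [2,4,2,5,2]), (3, [5,0,4]), (3, [0,4,0,5,5]),
   (3, [0,2,0,0]), (3, [0,4,2,5,1,2]), (3, [3,5,1,4,3]), (3, [3,5,0,3,3]), (3, [0,2,5,2,0]), (3, [3,4,2,1,5]),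
   (3, [1,2,5,5,1]), (3, [2,1,2,4]), (3, [2,1,3,4,0]), (2, [0,4,3,0,4]), (3, [0,5,1,4]), (2, [3,0,0,2]),
   (0, [5]), (3, [2,2,5,0,3]), (3, [0,4,1,4,0,2]), (2, [0,5,0,4]), (3, [2,1,3,4,4]), (2, [2,4,0,2,5]),
   (3, [1,5,5,1]), (3, [5,0,2,5,5]), (3, [2,0,4,2,5]), (1, [0,2,1]), (3, [0,4,4,3]), (3, [1,2,1,2,0,3]),
   (3, [1,5,5,1,2]), (2, [0,2,4,4,1]), (3, [4,0,4,3]), (2, [5,1,3]), (0, [4]), (3, [0,3,4,2]),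
   (1, [0,3,0,4]), (3, [0,2,1,4,1]), (3, [0,0,5,5,3]), (3, [5,2,1,4,0,4]), (3, [1,4,3,5,1]), (3, [5,2,2,4]),
   (3, [4,4,4,0,4]), (1, [1,4,2]), (2, [3,1]), (3, [1,5,5,1,3]), (2, [4,1,2]), (2, [2,2,2]),
   (2, [4,2,2]), (3, [2,4,0,4,3]), (3, [4,3,4,2,1]), (3, [0,2,0,4,1]), (3, [0,0,4,2,0]), (0, [4,0,3]),
   (2, [3,5,0,5]), (3, [4,3,1,5]), (3, [0,4,0,3,3]), (3, [1,2,0,2,1]), (3, [1,3,4,4,1]), (2, [3,1,4,2,1]),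
   (1, [2,0,5]), (3, [0,0,3,1,2,5]), (3, [0,5,2,4,3,5]), (3, [0,2,0,4,1,3]), (3, [5,3,1,4]), (3, [4,0,2,2]),
   (1, [0,0,4,3]), (3, [5,5,5,3,5]), (1, [5,1]), (3, [4,2,1,5,2]), (2, [5,1,3,5,2]), (3, [2,2,5,1,4]),
   (2, [3,0,5,1,5]), (3, [3,0,2,4,2,2]), (1, [0,3,4,2]), (3, [2,1,2,5,2]), (3, [2,1,3,1,5]), (3, [5,2,5,5,0]),
   (3, [5,5,5,1,5]), (3, [0,3,3,4,3,3]), (3, [4,0,3,3,5]), (3, [0,3,3,1]), (3, [0,2,1,2,5]), (1, [4,1,5,3]),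
   (3, [0,0,5,5,0,3]), (3, [4,2,0,2]), (1, [3,5,1,5]), (3, [1,3,0,5,3,4]), (2, [3,1,5,1,5]), (3, [5,5,5,0,0]),
   (1, [1,4]), (3, [1,4,0,0,5,5]), (3, [1,4,1,4,1]), (3, [2,0,3]), (3, [0,0,5,5,5,1]), (3, [1,2,1,4]),
   (3, [0,5,3,4,2]), (3, [1,2,0,5,3]), (2, [4,2,4,3]), (3, [5,5,3,4,1]), (3, [3,4,3,5,5]), (3, [4,0,3,3,4]),
   (3, [0,5,5,2,2]), (2, [0,2,0,3,5]), (3, [2,5,0,2,2]), (2, [2,0,2,0,2]), (2, [0,3,4,4,2]), (2, [4,1,5,2]),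
   (3, [3,5,1,3,3]), (2, [3,4,4,2]), (2, [0,4,3,4]), (2, [2,2,0,2]), (3, [2,4,2,4]), (3, [0,0,5,5,2,1]),
   (3, [2,0,3,4,3]), (3, [2,2,2,4,2,1]), (1, [3,5,1]), (3, [0,2,0,3,1,4]), (3, [0,5,0,5,0]), (3, [3,1,5,2,1]),
   (1, [0,2,5,1]), (3, [1,3,5,0,2]), (3, [0,4,3,0,3]), (3, [0,0,5,0]), (3, [0,4,1,4,0]), (3, [0,2,4,3,4,3]),
   (3, [0,5,2,0,5,5]), (3, [2,2,1,2,0]), (3, [1,5,0,2,5]), (3, [1,2,5,0,2,4]), (3, [3,1]), (2, [5,3,1,4]),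
   (3, [4,0,3,5,3,1]), (1, [1,4,4]), (3, [0,4,1,5,5]), (1, [1,2,0,3]), (3, [1,5,5,2,4]), (3, [0,4,0,2,5,3]),
   (1, [1]), (3, [1,3,0,2,1,4]), (0, []), (3, [0,4,4,0]), (3, [2,0,5,1,4]), (3, [1,5,5,2,4,1]),
   (3, [1,5,3,5,5,1]), (3, [2,2,5,5,3]), (3, [1,4,1,5,1,2]), (2, [2,0,2,5,2]), (3, [0,4,1,2,4,4]), (2, [0,5,2,0,4]),
   (0, [5,0]), (3, [2,5,3,3]), (3, [4,2,2]), (3, [1,4,4,3,4]), (3, [0,0,2,2,0,2]), (2, [2,5,1,2]),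
   (3, [0,4,0,4,1,5]), (2, [3,3,4,2,4]), (3, [5,0,0,3]), (3, [0,2,0,4,0,3]), (3, [5,0,5]), (3, [1,5,1,3,0]),
   (2, [2,0,4,4,3]), (3, [2,5,3,4]), (3, [0,2,2,5,0]), (2, [0,3,5,2,2]), (3, [4,3,5,5,5]), (3, [0,3,0,4]),
   (3, [4,1,2,0,0]), (3, [3,0,4,3]), (2, [2,2,4,4,4]), (3, [5,5,1,3,0]), (3, [0,5,1,4,2,4]), (2, [0,3,1,3,3]),
   (3, [0,3,5,1,5,1]), (3, [4,4,0]), (3, [1,2,5,0,0,2]), (3, [5,3,0,4,0]), (3, [1,4,0,0]), (2, [2,0,2,0]),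
   (2, [0,3,1]), (3, [1,3,5,5,3]), (3, [1,4,3,4,2,5]), (3, [0,2,4,0,3]), (3, [1,5,2,4,4]), (1, [2,1,2]),
   (3, [0,0,2,5,3,1]), (3, [1,2,5,3,4,2]), (3, [0,3,5,2]), (3, [2,0,4,0,3,5]), (3, [0,4,3,3,5]), (3, [2,2,5,0]),
   (3, [0,2,5,3,4,4]), (3, [2,5,0,5,5]), (3, [2,2,1,5,2]), (3, [1,4,1,5]), (3, [3,5,0,4]), (3, [1,5,5,3,1]),
   (3, [3,5,1,4,0]), (3, [2,0,4,4]), (1, [4,1]), (3, [4,2,2,0,5]), (3, [2,0,4,0,5]), (3, [0,5,2,2,1]),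
   (3, [3,5,0,2,0]), (3, [2,5,2,5,0]), (2, [2,0,4,3]), (3, [0,0,3,4,3,5]), (1, [0,2,4]), (3, [2,0,5,2]),
   (3, [2,0,2,0,5]), (3, [2,1,4,0]), (2, [0,5,0,5]), (1, [2,0]), (3, [5,0,5,5]), (3, [5,5,5]),
   (3, [5,1,3,0,2]), (2, [0,4,0,5]), (3, [0,0,3,1]), (3, [1,2,5,3,4,1]), (3, [1,5,1,3,1]), (3, [1,3,0,4,4]),
   (3, [0,5,5,1,4,0]), (1, [0,0,3,3]), (2, [3,4,0,3]), (3, [2,2,4,2,4,0]), (3, [2,4,2,5,1]), (3, [1,3,4,2,2,4]),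
   (2, [5,3,5,5,0]), (3, [0,0,3,0,5,1]), (1, [2,0,3,5]), (1, [1,4,2,0]), (3, [0,2,0,4,2]), (2, [3,1,4]),
   (1, [0,5,0]), (3, [2,5,2,4,1]), (2, [2,0,2]), (3, [0,2,2,5]), (3, [5,3,0,2,1]), (3, [4,3,4,3,1]),
   (1, [0,5,1,5]), (3, [0,3,3,1,4,4]), (3, [1,2,0,5,0,2]), (2, [0,2,4,2,0]), (3, [0,0,2,4,0,0]), (3, [0,0,2,4,3,1]),
   (3, [0,0,2,1,5]), (3, [0,0,3,5,0,0]), (1, [0,5,0,4]), (3, [3,0,0,5]), (3, [1,2,0,4,4]), (1, [4,4,1,4]),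
   (3, [0,2,1,4,3,0]), (3, [1,3,0,2,1]), (3, [2,1,5]), (3, [4,1,2,1]), (3, [2,4,2,4,3]), (3, [2,2,2,5]),
   (2, [2,4,0,3,1]), (3, [1,4,4,2]), (2, [0,3,3,0]), (3, [0,5,5,0]), (3, [0,5,5,5,1]), (2, [4,3]),
   (3, [1,3,3,4,4,1]), (3, [3,1,5,5,3]), (3, [5,3,0,4]), (3, [3,4,2,5,0,3]), (3, [5,1,2,2,4]), (3, [4,3,5]),
   (3, [1,2]), (3, [0,4,3,0,2,1]), (3, [0,3,5,2,5]), (3, [4,3,4,0,5]), (1, [1,2,1,4]), (2, [0,3,5,0,0]),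
   (3, [0,5,1,5,2]), (3, [1,3,3,4,2,2]), (3, [1,3,4,0,0]), (3, [3,5,0,2,5]), (2, [4,0,4,4]), (3, [0,5,2,5,2,2]),
   (3, [0,2,5,5,5,1]), (3, [0,5,1,2,0]), (2, [5,5,3,5]), (3, [0,2,4,4]), (1, [0,3,1,2]), (3, [2,2,5,3,3]),
   (1, [1,5,2,1,3]), (3, [2,0,2,0,3]), (2, [4,1,2,1]), (3, [4,3,4]), (3, [0,4,4,1]), (3, [3,1,5,3]),
   (3, [0,5,5,2]), (3, [0,3,0,2]), (3, [1,4,4,0,2]), (3, [3,0,2,5,2]), (3, [1,4,1,5,0,0]), (3, [0,5,3,1,3,5]),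
   (3, [2,2,4,0,2,1]), (2, [0,2,1,5,5]), (2, [0,4,1,5]), (3, [5,5,1,4,4]), (3, [5,1,4]), (3, [1,4,4,3,5]),
   (3, [2,0,5,5,1]), (3, [2,1,4]), (3, [4,1,2,1,2]), (3, [0,4,3,5,1,5]), (1, [5]), (3, [2,0,4,0,4]),
   (1, [0,0,4,0]), (3, [0,5,0,3,5,0]), (3, [3,0,0,3,4,4]), (1, [0,5,0,5]), (3, [0,0,2,5,1,5]), (2, [5,2,1]),
   (3, [3,4,3,3,0]), (3, [0,3,4]), (3, [3,5,1,5,1]), (3, [0,0,4]), (3, [2,1,4,2,0,5]), (2, [4,1,5,5,2]),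
   (2, [0,3,1,3]), (3, [2,2,0,0,2]), (3, [0,2,2,0,0,2]), (3, [0,0,2,2]), (2, [0,3,3,0,2]), (3, [1,2,2,5,1]),
   (2, [2,4]), (1, [2,4,2]), (3, [0,2,0,5,5,3]), (3, [5,3,3,5,5]), (2, [5,2]), (2, [0,3,1,2,1]),
   (3, [2,5,5,0,3,4]), (3, [1,2,1,3,4]), (2, [0,2,4,4,3]), (3, [1,5,2,4]), (3, [4,3,3,0,2]), (3, [2,1,5,0,4]),
   (3, [4,1,4,1,2]), (3, [0,2,2,0,3]), (3, [0,0,2,1,4]), (3, [2,4,4,0,3,1]), (3, [4,3,5,0,4]), (2, [4,2,2,4]),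
   (3, [0,3,3,0,2]), (3, [0,3,1,5,0,4]), (2, [4,4,2,1]), (3, [1,5,1,5,1,4]), (3, [2,0,2,2,0]), (3, [0,2,5,0,0]),
   (3, [2,4,3,0,4]), (3, [0,5,5,2,0,4]), (3, [4,4,1,3,3]), (3, [4,2,0,2,4]), (3, [0,3,3,0,4]), (3, [1,3,5,5,2]),
   (3, [2,0,0,4,2]), (3, [0,4,0,3,3,4]), (3, [1,2,4,3,5]), (3, [0,4,3,3,4]), (3, [5,0,2,4]), (3, [3,4,2,0]),
   (2, [2,5,0,2,1]), (3, [0,2,2,2,1]), (3, [3,4,2,1,2]), (3, [0,2,4,0,3,1]), (3, [0,4,4,4,4,1]), (1, [1,2,1]),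
   (3, [4,2,5,5]), (3, [0,4,0,0,4,2]), (3, [4,0,3,4,4]), (2, [2,0,0,4,3]), (3, [4,3,5,1]), (3, [0,2,4,2]),
   (3, [1,4,2,4,0]), (3, [3,4,0,3,4]), (2, [0,2,2,4]), (2, [3,1,2,5,2]), (3, [0,3,0,5,0]), (2, [0,4,1,3,3]),
   (3, [3,0,5,3,5]), (2, [4,1,3,3]), (2, [3,0,5,5]), (3, [2,4,3,5,0,3]), (3, [3,1,4,0,4]), (3, [2,5,0,0,2]),
   (3, [4,1,5]), (3, [0,4,4,1,5,3]), (3, [1,5,3,1,3]), (3, [2,0,4,4,1,2]), (3, [5,5,3,5,1]), (3, [2,5,5]),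
   (3, [4,0,4,4,0]), (3, [0,0,2,5,0]), (3, [1,5,2,4,0,5]), (3, [3,5,2,5,2]), (3, [1,2,4,3]), (3, [1,2,0,2,5]),
   (3, [0,0,3,3,0]), (3, [5,3,0]), (2, [0,3,5,3]), (3, [2,4,4,0,2]), (3, [2,2,0,0]), (3, [0,3,4,0,3,0]),
   (3, [4,3,5,3,4]), (2, [0,3,0,3]), (3, [0,3,1,3,3]), (3, [0,3,1,5,0]), (3, [1,3,0,2]), (3, [0,3,5,5,0]),
   (3, [0,0,2,1,2]), (3, [0,2,1,3,5,3]), (2, [5,5,5,5]), (3, [1,3,5,3,1]), (3, [1,5,0,4,3,1]), (1, [1,4,4,2]),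
   (2, [2,4,0,0,3]), (3, [0,3,5,0,3,0]), (3, [4,3,4,0,0]), (3, [1,5,5,1,4]), (3, [0,0,3,5,5,1]), (3, [0,5,1,4,3,4]),
   (3, [5,5,2,0,2]), (3, [3,4,4,3,1]), (3, [0,2,0,4,4]), (1, [4,4]), (3, [1,2,2,0,2]), (3, [1,2,2]),
   (3, [2,5,5,5,5]), (3, [0,2,4,3,1,2]), (3, [4,3,3,0,4]), (2, [5,0,2,5,5]), (3, [2,2,1,2,2]), (2, [4,1,5]),
   (3, [1,3,5,2]), (3, [4,4,4,0,5]), (2, [3,3,0,2]), (1, [2,0,3]), (2, [3,1,3,4]), (3, [2,4,0,4,0,4]),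
   (3, [3,4,2,5,5]), (3, [0,0,2,5,0,3]), (3, [4,1,5,5,5]), (3, [5,5,2,4,2]), (3, [3,4,2,4]), (2, [5,0,2,5]),
   (3, [0,0,4,3,5,1]), (3, [5,0,0,5]), (3, [3,4,1,4]), (3, [1,3,3,4,3]), (3, [0,4,1,2,0,5]), (3, [0,4,4,0,4]),
   (2, [3,3,1]), (3, [3,4,2,0,3]), (1, [0,2,5]), (1, [2,1,5]), (3, [1,2,1,3,1]), (2, [5,5,2,2]),
   (3, [0,5,3,5,3,3]), (3, [0,2,2,1]), (3, [0,2,2,0,4,2]), (3, [0,0,5,3,5,3]), (2, [2,2,4,1]), (2, [3,4,3,4]),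
   (2, [3,0,5,0,0]), (3, [5,3,5,3,3]), (3, [1,3,0,2,5]), (3, [2,4,0,3,5,5]), (3, [0,0,4,3,5,2]), (3, [1,2,4,2,2]),
   (3, [5,3,1]), (2, [0,4,1,2,2]), (2, [3,4,3]), (1, [0,0,3,5,2]), (3, [2,5,3,0,5]), (2, [0,2,0,2]),
   (2, [3,4,4,1]), (3, [0,0,5,0,3,0]), (3, [0,0,4,0,0]), (3, [4,2,5,5,0]), (1, [4,3,5,0]), (3, [2,1,4,2,1]),
   (3, [0,4,1,2,0,0]), (3, [4,0,2,2,5]), (2, [3,4,1,5]), (2, [2,0,3,4]), (3, [4,3,5,5,2]), (3, [1,5,3,0,4]),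
   (3, [0,4,0,2,4,3]), (3, [2,0,4,4,3]), (1, [1,2,2,0]), (3, [2,1,4,3,1]), (3, [0,2,4,3,3,1]), (3, [0,3,0,5,5,3]),
   (2, [2,5,3,5]), (3, [3,4,1]), (2, [3,4,4,3]), (3, [1,2,0,5,2,4]), (3, [2,5,3,4,2]), (3, [1,5,1,2]),
   (2, [0,2,1,3]), (2, [2,4,0,0]), (2, [0,2,4]), (3, [0,0,3,3,5,0]), (2, [3,5,3,0]), (3, [0,3,4,2,5]),
   (3, [2,0,3,5,1]), (2, [2,0,3,3,4]), (2, [2,1,4,4,1]), (3, [2,0,2,1,5]), (3, [2,4,4,3,0]), (3, [0,2,2,0,4]),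
   (3, [1,2,1,5,2,5]), (2, [5,0,5,5]), (3, [2,1,5,0,5,0]), (3, [2,5,2,2,5]), (3, [3,5,0,5,5]), (2, [5,0,4,1]),
   (3, [0,4,0,0,2,4]), (2, [2,4,1,5,1]), (3, [2,0,0,3]), (3, [1,3,4,2,4]), (3, [1,4,1,3,1]), (3, [4,2,4,1,5]),
   (3, [3,5,3,1]), (3, [0,5,0,3,5,1]), (2, [3,3,5]), (3, [1,2,0,4,1,5]), (3, [1,3,5,0]), (3, [5,2,1,4,2]),
   (3, [1,5,1,3,5]), (3, [0,2,1,5,5,3]), (3, [1,3,4,0,3]), (3, [5,1,2,0]), (3, [0,3,4,4]), (3, [0,3,0,3,5]),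
   (3, [1,4,3]), (3, [5,3,4]), (2, [4,3,5]), (2, [0,5,2,1]), (3, [1,3,3,4,1]), (3, [0,4,3,0]),
   (2, [3,1,5,0]), (3, [3,0,2,1]), (3, [2,2,4,4,0]), (3, [0,4,2,0,5]), (3, [5,5,3,4,2]), (2, [2,4,0,2]),
   (3, [0,3,4,3,4,0]), (2, [3,1,5,2]), (3, [3,4,0,2]), (3, [3,4,4,3]), (3, [1,5,0,3,0,5]), (3, [0,3,5,5,2,4]),
   (2, [3,1,4,2]), (3, [0,0,5,0,5,3]), (3, [0,0,4,1,3,5]), (3, [0,5,2,5,3]), (3, [4,1,2,2,4]), (3, [0,3,0]),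
   (3, [0,2,4,3,4,2]), (3, [5,5,0]), (3, [3,5,1,3,4,0]), (3, [0,0,5,5]), (3, [2,0,5,5]), (3, [1,5,3,0,2]),
   (3, [5,2,4,3,1]), (3, [2,2,5,2]), (2, [0,4,0,2]), (3, [4,1,2]), (1, [2,4,2,1]), (3, [2,0,2,4,2]),
   (3, [3,5,5,2,2]), (3, [5,2,2]), (3, [0,0,4,0,0,5,2]), (3, [1,3,4,2,2]), (3, [2,4,3,4,0]), (2, [4,4,4,2,5]),
   (2, [0,3,0,2,1]), (3, [0,5,0,0]), (3, [0,3,3,1,3,3]), (3, [0,4,2,0,0]), (2, [5,3,5,5]), (3, [0,0,4,0,5,5]),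
   (3, [0,4,1,5,2,5]), (3, [2,5,2,4,0]), (3, [1,5,5,3,1,4]), (3, [1,3]), (3, [1,3,1,5]), (3, [0,4,0,0,2,2]),
   (3, [0,3,4,0]), (3, [1,2,2,0,4,4]), (3, [0,4,1,3]), (3, [1,3,4,3,0,4]), (3, [5,5,2,1]), (3, [1,3,0,3,4]),
   (2, [2,4,0,3]), (3, [2,1,3,4,1]), (3, [0,4,1,4,0,5]), (2, [2,2,4,4]), (3, [1,5,0,3]), (3, [0,4,1,2,4]),
   (2, [3,1,2,2]), (3, [5,0,3,4]), (3, [0,4,0,4,1,2]), (3, [2,0,4]), (3, [1,3,3]), (3, [4,2,0,5,1]),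
   (2, [5,5,5]), (3, [5,5,0,3]), (2, [0,2,2,5]), (3, [2,2,5,5,0,4]), (3, [2,4,4,0,4]), (3, [1,3,3,5]),
   (3, [0,2,1,4]), (3, [5,0,5,3]), (3, [2,4,2,1,5]), (1, [0,2,4,1]), (3, [2,1,2,0,3,3]), (3, [1,4,1,5,2]),
   (2, [5,3,4]), (3, [0,0,2,0,5,3]), (3, [4,0,3,5,3]), (3, [1,3,4,0,5,2]), (3, [0,2,0,2,2]), (3, [0,4,3,4,2,5]),
   (3, [4,0,3,5]), (2, [4,0,0]), (3, [2,4,3,0,2]), (3, [0,4,0,3,4]), (3, [5,3,3]), (3, [4,3,4,3,4]),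
   (3, [5,1,4,3,0]), (3, [2,5,0,5,2]), (1, [4,2,1,3]), (3, [0,5,2,2,5]), (3, [0,0,2,5,2]), (2, [3,5,3]),
   (2, [2,4,4,4]), (3, [0,0,3,5,0,4]), (2, [0,5,2,4,3]), (3, [0,0,3,4]), (3, [0,5,0,2,0]), (3, [0,4,1,5]),
   (3, [0,3,3,1,3]), (3, [2,5,0,3,1]), (3, [2,4,0,5,5,3]), (3, [4,0,3,0]), (3, [4,2,1,4]), (2, [4,1,3,4]),
   (3, [0,0,4,4,2]), (3, [2,0,3,0,4,2]), (3, [2,2,2,5,2,5]), (3, [0,0,5,3,4,0]), (2, [4,4,0,4]), (3, [2,0,5,2,5,1]),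
   (3, [3,0,4,2,2]), (3, [0,3]), (2, [2,1,2,0,3]), (2, [0,2,5,2,5]), (3, [1,2,0,3]), (3, [2,4,0,5,0]),
   (3, [2,5,3,3,5]), (3, [0,3,1,3,1]), (3, [1,3,1,4,1,2]), (3, [0,0,4,2,4,1]), (3, [1,5,0,2]), (3, [0,5,2,1,2,4]),
   (3, [0,5,1,2,5]), (3, [2,4,1,3,4]), (3, [3,0,5,3,5,2]), (3, [4,0,3,0,2,1]), (2, [5,2,4,3]), (2, [0,2,5,0,5]),
   (2, [5,3,3]), (3, [0,3,3,4,3]), (3, [4,3,3,0,3]), (3, [0,5,5,1,4]), (3, [3,4,2,5,0]), (3, [2,5,1,2,2]),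
   (2, [2,4,4,4,4]), (2, [0,4,0,2,2]), (3, [2,4,3,5]), (3, [2,5,5,1]), (2, [3,5,0,2]), (3, [2,4,2,1,4]),
   (3, [1,3,3,4,2]), (3, [4,3,3]), (3, [0,3,5,0,0,4]), (3, [5,5,5,0]), (3, [3,5,2,1]), (2, [0,3,1,4]),
   (3, [0,3,1,5,2]), (3, [3,4,1,3,1]), (3, [0,0,2,2,0,5]), (3, [3,0,4,1,2]), (3, [3,5,1,3,4]), (3, [1,2,4,1]),
   (3, [0,4,2,5,0,3]), (3, [1,2,5,0,4,0]), (3, [3,0,4]), (3, [0,4,2,1,3,5]), (3, [2,1,3,5,1]), (3, [0,3,1]),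
   (3, [0,5,2,4]), (1, [0,0,4,4,1]), (2, [3,1,5,2,4]), (3, [1,3,4,3,1,2]), (3, [2,2,5,5,5]), (3, [2,1,2,5,0]),
   (2, [2,5,5,0]), (3, [4,2,2,0]), (2, [0,3,4,1]), (3, [4,3,1]), (3, [2,4,2,2]), (3, [2,4,0,3,5]),
   (2, [3,1,3,3,1]), (3, [4,2,0,4,4]), (2, [3,3]), (2, [0,4,1,5,0]), (3, [0,0,3,5,0]), (3, [0,5,3,4,3]),
   (3, [1,3,3,0,4]), (2, [3,5,5,5,5]), (3, [2,1,4,2,0]), (3, [2,0,4,0]), (2, [2,2,0,4]), (3, [2,4,0,5,1]),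
   (3, [0,3,3,4,2]), (3, [4,1,4,1,4]), (3, [5,2,1,5,1]), (3, [3,4,4,4]), (3, [2,4,0,5,5]), (1, [1,5,2,2]),
   (3, [1,2,1,5,2]), (3, [3,1,4,0,5]), (3, [3,4,4,0,2]), (3, [0,0,3,0,5,2]), (2, [3,0,0,2,0]), (2, [2,1,4,0,5]),
   (3, [3,0,2,5,0]), (3, [0,2,1]), (3, [0,2,5,2,4,3]), (3, [5,0,4,2,0]), (3, [0,0,2,0,0]), (2, [3,4,0,4]),
   (3, [4,4,1,4,0]), (3, [1,2,1,2,4]), (1, [0,2,1,4]), (1, [5,5,1]), (2, [0,2,0,0]), (3, [3,4,1,3]),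
   (3, [0,2,1,5,3]), (3, [2,0,2,0]), (2, [2,5,0,4]), (2, [0,2,1,2]), (3, [5,0,3,0,0]), (3, [1,3,4,4,4]),
   (3, [1,4,4,3]), (3, [0,3,1,3,1,3]), (3, [2,1,5,0,2]), (3, [4,0,3]), (3, [1,2,5,3,0]), (3, [0,0,4,1,5,2]),
   (2, [2,2,1,5]), (3, [2,1,3,4,2]), (3, [5,2,5,0]), (3, [3,1,5,3,3]), (3, [4,1,5,1,2]), (3, [2,2,1,3]),
   (3, [0,2,5,0,0,3]), (3, [4,3,5,0,5]), (1, [5,1,4]), (3, [1,4,2,1,5]), (3, [1,4,0,2]), (2, [2,0,4,3,3]),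
   (3, [0,2,1,5,1,5]), (3, [3,5,3,1,4]), (3, [0,4,3,3,1]), (3, [0,4,0,0,2]), (3, [0,4,1,2,0]), (3, [1,2,5,3]),
   (3, [0,5,1,4,0,5]), (3, [1,2,2,5,3]), (3, [1,3,0,4,3]), (3, [3,4,3,4,1]), (3, [1,3,4,1,5,5]), (3, [2,4,1,4,3]),
   (3, [2,0,3,0,2]), (3, [2,0,2,4,4]), (3, [0,4,2,2,5,0]), (3, [0,4,0,4]), (3, [4,2,2,4,3]), (3, [0,4,0,0,4,4]),
   (2, [2,1,5]), (2, [4,3,5,3]), (3, [2,4,1,4,0]), (3, [0,4,4,4,0]), (3, [1,3,4,3,1,4]), (3, [1,5,1,5]),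
   (3, [0,5,5,5,3]), (3, [1,2,1,3]), (3, [1,3,0,0,4,3]), (3, [4,2,4,0]), (2, [0,2,5,0]), (2, [3,1,3,1,4]),
   (3, [0,4,2,2,1]), (3, [2,1,5,5,5]), (3, [0,3,4,1,4]), (2, [4,4,0,0]), (3, [0,2,5,5,5,0]), (3, [3,4,0,0,5]),
   (3, [1,4,3,4,1]), (3, [0,5,2,0,4]), (1, [5,0,3,1]), (2, [0,4,2,4]), (2, [5,5,5,3]), (3, [0,5,1,2]),
   (3, [0,2,1,2,4,1]), (2, [4,2,4]), (3, [3,5,1,5,5]), (3, [3,0,5,1,4]), (2, [3,1,2,2,1]), (3, [1,3,0,5,3]),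
   (2, [4,0,4,2]), (3, [4,3,0,4]), (3, [1,5,2,4,0]), (3, [5,1,3,5,2]), (1, [0,5,1]), (3, [1,4,1,5,0]),
   (3, [0,4,2,2,2]), (3, [4,3,5,2]), (3, [0,4,3,4,3]), (3, [1,5,5,3,1,2]), (2, [4,4,1,2]), (3, [4,3,4,1,4]),
   (3, [4,0,2,5,2]), (3, [4,0,4,0]), (3, [4,0,0,4,1]), (3, [5,0,4,1]), (3, [2,2,4,2]), (3, [2,1,2,4,0]),
   (3, [0,3,5,0,3]), (2, [3,3,4,2,2]), (3, [2,5,5,3,4]), (3, [3,0,5,3,4]), (3, [0,0,4,2,1]), (3, [5,3,4,3,5]),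
   (3, [0,3,4,3,3,1]), (3, [1,3,3,0]), (3, [4,2,4,3]), (3, [0,4,0]), (3, [5,1,4,3]), (1, [0,0,3,3,5]),
   (3, [3,1,5,2,1,4]), (2, [0,5,5,2]), (3, [2,0,0]), (3, [2,4,2,5,3]), (3, [0,3,5,2,2]), (3, [0,4,1,2,4,3]),
   (3, [3,5,2,0,0]), (3, [0,2,0,5,2]), (3, [0,0,2,4,2,1]), (3, [5,2,2,0,3]), (3, [0,4,0,2,5]), (2, [0,2,1]),
   (3, [0,5,2,1,2]), (3, [0,5,2,2,5,0]), (3, [0,0,3,0,5]), (3, [0,0,2,5,1]), (3, [3,4,0]), (2, [5,0,5,0]),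
   (3, [2,2,2,0]), (3, [2,2,5,1,3,0]), (3, [2,1,4,0,0]), (3, [1,4,3,4,3,0]), (1, [0,0,4,2]), (3, [2,5,3,3,5,3]),
   (3, [0,3,3,5,1]), (3, [1,5,5,5,0]), (3, [2,1,5,2,4]), (3, [0,0,2,0,3,1]), (3, [1,3,3,4,4,2]), (3, [0,2,5,2]),
   (3, [4,0,2,2,1]), (1, [4,2,0]), (3, [3,4,1,5]), (3, [0,0,3,0,0,2]), (3, [1,3,1,3,1]), (3, [0,5,0,2]),
   (3, [5,5,1,5,1]), (2, [0,2,0,3,1]), (3, [2,4,2]), (2, [4,2,0]), (3, [3,5,0,2]), (2, [5,3,0]),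
   (3, [0,0,3,4,0]), (3, [1,2,2,2]), (3, [0,3,4,3,0,2]), (3, [0,2,0,2]), (3, [3,4,3,1]), (3, [0,2,4,3,3]),
   (3, [2,1,4,3,0]), (3, [2,1,3,1,2,4]), (3, [1,3,0,5,0]), (2, [0,2,0,0,5]), (3, [3,5,5,5,5]), (3, [2,1,4,1,2]),
   (2, [2,5,3]), (3, [0,5,5]), (3, [2,1,3]), (3, [1,4,0,0,3,4]), (3, [0,3,4,1,4,2]), (3, [1,5,2,1,2,2]),
   (3, [1,3,5,0,0]), (1, [0,3,0,2]), (3, [0,5,3,4,0]), (2, [5,5,2,5]), (3, [3,1,5,5,1]), (2, [3,1,2,2,0]),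
   (2, [5,2,2,1]), (2, [2,5,0]), (3, [0,4,1,3,1,3]), (2, [3,5,3,3]), (2, [3,4,4,1,2]), (3, [4,2,1,4,3]),
   (3, [1,2,2,1,5]), (2, [0,5,3,0]), (3, [3,5,1,2,5]), (3, [5,1,5,3]), (3, [4,4,2]), (3, [1,2,2,5]),
   (2, [0,2,0,4,1]), (2, [2,4,1,4]), (3, [0,5,2,0,5]), (3, [3,4,0,2,0]), (2, [5,5,1]), (3, [0,0,5]),
   (3, [3,0,2]), (3, [0,4,2,2]), (1, [2,1]), (3, [5,1,3]), (2, [5,1,3,3]), (1, [1,5,3]),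
   (3, [0,3,0,0,3,1]), (3, [0,0,3,0,2,2]), (1, [0,3,1,4]), (3, [0,2,0,2,1]), (3, [1,3,4,2,5]), (3, [0,5,2,4,1]),
   (2, [3,1,5,3,1]), (3, [0,3,5,5,5]), (3, [3,4,0,3,3]), (2, [2,5,3,5,2]), (2, [4,4,2,1,2]), (3, [0,4,1,3,0]),
   (3, [2,5,1,2,4]), (2, [4,0,2]), (3, [0,3,5,2,2,0]), (3, [0,5,3,0,3]), (3, [0,0,5,3,4,4]), (2, [0,2,1,5,2]),
   (3, [0,4,0,4,3]), (3, [0,3,3,0]), (3, [0,5,3,5,2]), (3, [0,2,2,2]), (2, [4,1,2,4]), (3, [0,2,1,5,2]),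
   (2, [2,0,0,2,4]), (3, [1,5,1,3]), (3, [5,0,3,3]), (1, [4,1,4]), (3, [0,4,3,5]), (3, [1,5,0,2,2,5]),
   (3, [2,2,5,1]), (3, [5,2,1,4,0]), (3, [1,2,5,3,5,5]), (3, [1,5,0,4,4]), (3, [1,5,5,5,2]), (3, [5,3,5,2,2]),
   (3, [5,0,2,2,1]), (3, [2,1,3,5,5]), (3, [0,3,1,4,3,3]), (3, [1,3,4,1]), (3, [0,3,0,2,5,5]), (3, [1,2,0,0,2]),
   (3, [0,0,4,0,3]), (3, [0,5]), (1, [0,0,4,0,3]), (3, [0,2,0,4,0,4]), (3, [0,0,2,2,1]), (2, [2,0,5,3]),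
   (3, [2,1,4,3,0,2]), (3, [5,5,3,3,5]), (3, [0,2,1,4,0]), (3, [5,5,2,1,4]), (3, [1,2,0,5,1,2]), (3, [0,5,3,1,4]),
   (3, [1,2,4,2,5]), (3, [2,0,0,3,0]), (2, [0,4,3]), (3, [2,1,4,4,0]), (3, [0,5,3,5,3,4]), (2, [2,5,1,5]),
   (3, [0,5,3,3,5]), (3, [1,5,1]), (3, [0,3,3,4,0,2]), (3, [1,3,0,3,3]), (3, [4,1,2,5,2]), (3, [4,3,0,3]),
   (3, [0,3,0,4,3,4]), (2, [2,0,4,4]), (3, [4,2,5,0,5,5]), (3, [0,4,1,3,4]), (2, [0,3,3,4,3]), (1, [0,3,1,3]),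
   (3, [1,3,4,1,2,0]), (2, [2,0,0,5,1]), (3, [3,1,4,1,5,1]), (3, [5,5,1,4]), (3, [0,2,2,4,0]), (3, [0,4,4,2,1]),
   (2, [0,2,5,1,5]), (3, [5,3,5,1]), (3, [1,4,0,2,1,4]), (3, [5,3,3,0,3,1]), (3, [2,0,5,5,0,0]), (3, [5,1,4,0,4]),
   (3, [3,1,4,0]), (3, [0,3,0,4,1]), (3, [0,3,0,4,4,2]), (3, [0,0,5,3,5,0]), (3, [0,4,2,1,2]), (3, [1,2,0,4,1]),
   (3, [3,4,3,4,0]), (3, [0,2]), (3, [0,3,0,3,5,2]), (3, [0,0,3,4,0,5]), (3, [2,4,1,3,5]), (2, [3,3,1,3,3]),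
   (3, [0,0,2,4]), (1, [0,0,4,3,3]), (3, [0,4,3,0,4,4]), (2, [3,1,5,1]), (3, [5,2,0,3,0]), (3, [2,4,2,0,0]),
   (3, [0,2,4,2,5]), (3, [0,2,4,4,4]), (1, [1,5]), (3, [1,3,0,2,1,2]), (3, [0,4,1,2,1]), (3, [0,0,2,1,3,3]),
   (3, [1,2,2,1,2]), (3, [0,3,1,5,3]), (3, [2,4,3,3,1]), (3, [3,5,1,4,1]), (3, [0,0,4,0,0,5]), (2, [0,4]),
   (2, [4,4,4,1]), (3, [0,4,1,2,5,2]), (3, [2,2,1,5,1]), (2, [3,0,3,5,2]), (3, [3,0,2,4]), (3, [0,4,0,4,0,0]),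
   (2, [0,5,3,4,4]), (3, [1,4,0,2,1]), (2, [0,2,0,5]), (3, [0,2,0,4,3,0]), (3, [2,1,5,0]), (3, [1,4,0,5,3]),
   (3, [5,2,1,5]), (2, [3,0,4,4]), (2, [0,5,5,3]), (3, [0,3,0,0,4]), (3, [4,0,0,4]), (3, [0,5,0,2,2,0]),
   (3, [2,5,2,1]), (3, [0,2,2,4,1]), (3, [2,1,2,5]), (3, [2,5,3,1,3]), (3, [1,4,1,3]), (2, [0,5,3,5]),
   (3, [3,4,3,4]), (2, [3,4,2,2,4]), (3, [0,2,0,0,2,1]), (3, [0,3,5,0,0,5]), (3, [0,3,4,0,3,3]), (3, [2,2,1,4,3]),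
   (3, [0,0,5,2,0,3]), (3, [3,1,5,5,0]), (3, [4,1,2,0,4]), (3, [0,2,5,3,4]), (3, [3,0,3,4,0]), (3, [0,0,3,0]),
   (3, [0,2,5,2,4,4]), (3, [2,1,2,4,4]), (3, [2,1,3,4]), (3, [2,2,2,5,0]), (3, [4,1,5,2,4]), (3, [3,5,1,3]),
   (3, [3,0,0,5,0]), (3, [4,3,5,3,0]), (3, [0,2,5]), (3, [1,5,2,5,1]), (3, [5,2,5,0,5]), (3, [1,3,5,0,3]),
   (2, [2,4,1,3,5]), (3, [2,5,0,3,4]), (3, [5,1,5]), (2, [2,2,0,0,3]), (3, [5,2,0,4]), (3, [1,4,1,5,1]),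
   (3, [1,2,2,1,4]), (3, [4,2,5,0,5]), (3, [0,3,5,5,2,1]), (3, [2,2,2,5,2]), (2, [3,5,2]), (2, [4,2,2,2]),
   (3, [1,3,0,5]), (3, [3,4,1,2,0,5]), (3, [3,0,0,3,0]), (3, [5,2]), (3, [1,5,5,1,2,1]), (3, [0,4,0,5,1]),
   (3, [5,1]), (2, [2,5,5,3,4]), (3, [1,2,2,4,2]), (3, [4,3,3,4]), (3, [5,2,1,2]), (3, [1,5,5,5,1]),
   (2, [2,1]), (3, [0,2,1,5,5]), (3, [5,2,2,0]), (2, [2,5,1,3,1]), (3, [2,0,2,1,3,1]), (3, [3,0,2,4,0]),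
   (2, [2,2,5,3]), (3, [2,2,1,3,4]), (3, [1,2,5,2,4,3]), (2, [0,5,5,3,1]), (3, [0,3,0,4,3,1]), (3, [4,4,2,1,2]),
   (3, [1,2,0,5,3,4]), (3, [0,0,5,5,2]), (1, [0,3,0]), (3, [5,0,5,0,4]), (2, [0,2,4,0,5]), (3, [0,5,1,4,3,5]),
   (3, [0,5,5,3,4]), (3, [1,5,2,0]), (3, [0,4,4,2,2,5]), (2, [0,3,0,3,4,0]), (3, [2,4,0,2,0]), (3, [3,4,4,2,1]),
   (3, [1,5,1,2,1]), (2, [2,1,4,1]), (3, [0,3,1,4,4,3]), (2, [3,3,1,5]), (3, [3,5,5,2,5]), (3, [0,5,1,5,3,5]),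
   (3, [4,4]), (3, [2,4,0,0,5]), (3, [2,2,2,1]), (3, [0,0,5,1,2,1]), (2, [0,2,1,3,3]), (3, [0,2,5,2,4]),
   (3, [3,5,1,3,5]), (3, [2,2,5,1,3]), (3, [2,4,0,0,2]), (2, [2]), (3, [2,5,0,0]), (3, [0,2,0,5,0]),
   (2, [2,0,3,0]), (3, [2,2,0,3]), (3, [3,5,5,2,0]), (3, [1,5,3,0,4,3]), (3, [0,4,1,5,3]), (3, [0,2,2,5,2,4]),
   (2, [3,0,5,3]), (3, [4,2,1,3]), (3, [4,3,0,5,5]), (3, [4,3,5,1,5]), (2, [5,3,5,1,4]), (3, [0,0,4,4,2,1]),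
   (3, [1,4,0,5,5]), (3, [0,3,1,3,0]), (3, [0,0,2,2,1,2]), (3, [2,0,4,0,0]), (3, [0,2,0,4,1,4]), (2, [0,4,0,4,3]),
   (2, [0,4,1,2,1]), (2, [4,1,5,5]), (3, [0,0,3,5,5]), (3, [0,2,0,4,3,4]), (2, [3,3,4,3,5]), (3, [2,0,5,0,2]),
   (3, [0,3,3,5,0,2]), (3, [2,1,5,5,1]), (3, [5,0,3,0]), (3, [0,4,2,5,5,0]), (3, [4,0,2,4,1]), (3, [4,1,2,5,0]),
   (3, [3,0,5,3,0]), (3, [0,3,4,4,3,5]), (2, [0,5,3,4]), (3, [0,2,0,3,3]), (2, [0,3,0,5,1]), (2, [0,3,0,4]),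
   (2, [3,5,2,1]), (3, [2,5,1]), (3, [3,5,5,5]), (3, [2,1,3,1,2]), (3, [0,5,0,0,3]), (3, [4,2,1,3,3]),
   (3, [5,0,2,0]), (3, [0,0,4,1,5]), (3, [1,5,2,1,4]), (3, [1,3,0,4,2,0]), (3, [0,5,2,5]), (3, [5,5,3,0]),
   (3, [0,4,2,0,2]), (3, [3,1,5,5,5]), (2, [0,5,3,5,3]), (3, [1,4,0,0,3]), (3, [1,3,5,0,5,2]), (3, [1,2,2,4,1,4]),
   (3, [4,4,0,3,4]), (3, [2,1,5,0,5]), (3, [3,4,0,2,2]), (2, [0,2,0,3,0]), (2, [0,2,2,2]), (3, [2,5,3,4,1]),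
   (2, [5,0,4,1,5]), (3, [2,2,4,4,1]), (3, [3,1,4,1,4]), (2, [5,0,4]), (3, [4,0,3,5,0]), (2, [4,2,1]),
   (3, [1,2,1,2,0,2]), (3, [0,5,1,5,1]), (3, [3,5,2,4,3]), (3, [3,4,1,4,4]), (3, [2,5,1,3]), (2, [0,5,3,0,2]),
   (3, [0,0,4,1,3]), (3, [1,3,4,3,0]), (3, [1,2,1,5]), (3, [0,5,0,5,1]), (2, [2,0,3,5]), (3, [1,3,3,0,5]),
   (3, [0,0,4,4,0]), (3, [2,0,5,5,1,3]), (3, [5,1,3,0,3]), (3, [5,3,4,3]), (2, [3,0,0,5]), (3, [0,3,4,3]),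
   (3, [2,2,1,5,5]), (3, [4,1,2,5]), (3, [3,0,3,3]), (3, [1,5,3,0,3]), (3, [1,3,4,4,2]), (3, [5,2,0,2,5]),
   (3, [1,4,4,4,0]), (3, [1,2,5,0,0]), (2, [3,0,5,1]), (3, [0,5,5,5,5,5]), (3, [1,2,2,4]), (2, [5,1,4,4,2]),
   (3, [1,3,4,3,5]), (2, [5,2,5,5]), (3, [1,2,5,2]), (3, [1,3,3,4,3,0]), (3, [4,1,2,0]), (3, [1,5,1,5,0]),
   (3, [3,0,5,0,5]), (3, [0,2,2,4,0,3]), (3, [0,4,0,2]), (3, [4,0,0,3]), (1, [5,2,0]), (3, [1,2,0]),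
   (3, [0,5,0,2,5]), (3, [1,2,5,3,5]), (3, [5,3,4,2]), (3, [5,3,1,4,1]), (3, [4,1,5,0]), (3, [0,5,2,0,2,5]),
   (3, [5,1,4,1]), (3, [1,3,5]), (3, [1,4,4,1,4]), (2, [4,2,0,5]), (3, [0,0,3,5,5,2]), (3, [5,0,3]),
   (2, [2,2,1,2]), (3, [5,3,5,0,4]), (3, [5,3,0,4,1]), (2, [5,3,0,5]), (3, [0,5,3,5,2,4]), (3, [0,3,0,0,3]),
   (3, [2,0,0,2,2,2]), (3, [0,4,3,0,4]), (3, [2,2,5,3]), (1, [0,2,2,1,5]), (2, [5,3,5]), (3, [1,3,4,2,2,2]),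
   (3, [0,3,1,4]), (3, [5,1,5,0,0]), (3, [3,4,2,1]), (3, [1,2,5,2,5,3]), (1, [0,3,1,5]), (3, [0,2,2,5,2]),
   (2, [4,2,5]), (2, [0,2,0,5,3,3]), (2, [5,3,4,2]), (3, [0,0,2,2,4,3]), (3, [5,0,0,2,0]), (2, [3,3,5,2]),
   (3, [5,0,3,4,1]), (3, [5,5,0,0,5]), (3, [0,0,3,5,5,5]), (3, [1,3,0,0,4]), (3, [4,2,0,2,1]), (3, [0,0,2,0]),
   (3, [2,0,2,4,1]), (3, [1,3,5,2,0]), (3, [2,1,3,5,5,3]), (3, [0,3,5,0,4]), (3, [0,5,3,5,0,2]), (3, [0,5,0,2,1]),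
   (3, [4,0,3,3]), (3, [2,5,2,1,2]), (3, [0,4,4,0,3]), (3, [0,5,3]), (3, [1,3,1,4,0,2]), (3, [5,0,5,5,3]),
   (2, [0,4,3,0,3]), (3, [1,5,5,5]), (2, [0,4,4,3]), (3, [3,4,4,1,2]), (3, [2,4,3,0]), (2, [5,3,5,1]),
   (2, [4,4,2,0,4]), (3, [1,2,5,0,4]), (3, [2,0,3,5,1,3]), (2, [3,5]), (3, [0,0,3,4,0,2]), (2, [0,2,2]),
   (3, [3,0,5]), (3, [2,0,5]), (3, [5,3,3,4]), (3, [1,3,5,0,5]), (2, [4,2,0,0]), (3, [5,5,1]),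
   (3, [5,0,4,3]), (3, [1,2,2,0,4]), (3, [1,2,5,2,2]), (3, [1,4,3,3]), (2, [3,0,0,4]), (2, [4,0,3]),
   (3, [0,4,3,5,2]), (2, [0,4,3,0]), (3, [0,0,5,1,5]), (3, [4,1,5,5,1]), (3, [2,5,2,5,5]), (3, [0,3,5,1]),
   (3, [1,4,0,2,4]), (2, [5,2,4,2]), (3, [1,3,5,3,5,2]), (3, [3,4,4,2,0]), (3, [2,2,4,3,3]), (3, [0,3,0,5]),
   (3, [1,3,1,3,3,4]), (3, [2,5,2,5,1]), (2, [0,3,1,2,0]), (3, [4,3,4,1,2]), (3, [0,0,5,2,0,2]), (3, [0,2,5,1]),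
   (2, [0,3,4,0,2]), (3, [5,3,5,0]), (3, [0,5,2,2,1,4]), (2, [0,3,4,4]), (3, [2,1,2,0]), (3, [1,4,2,2]),
   (3, [3,0,0,2,4,1]), (3, [2,0,4,2,2]), (2, [5,2,5,5,0]), (3, [0,5,1,4,0,2]), (3, [0,2,4,3,1]), (3, [1,3,0,0,5]),
   (3, [1,2,1,5,5]), (3, [0,0,5,2]), (3, [1,2,5,1,5,0]), (3, [1,2,4,2,4]), (3, [1,5,1,3,3]), (3, [4,4,4,0,3]),
   (3, [0,2,2,0,3,4]), (2, [0,4,0]), (3, [3,0,2,0]), (1, [3,5,3,1]), (3, [0,2,5,5,0,5]), (3, [2,4,2,2,5]),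
   (3, [2,4,3,1,5]), (3, [2,0,2,1,2,5]), (2, [2,2,4,2,4]), (3, [3,5,3,1,3]), (3, [0,0,4,4,1]), (3, [5,0,0,4,3]),
   (2, [3,4,2,0,4]), (3, [2,2,2]), (2, [3,1,2,5,1]), (3, [0,3,3,4,2,5]), (3, [3,0,5,0]), (3, [2,4,4,0]),
   (3, [1,5,5,1,4,1]), (3, [5,5,5,5,0]), (2, [3,0,3]), (3, [2,2,2,5,5,2]), (3, [5,1,3,5]), (3, [0,0,2,2,1,5]),
   (3, [0,3,1,3,1,4]), (2, [0,3,5,2,4]), (3, [2,2,2,1,3]), (3, [0,3,5,0,2]), (3, [0,3,4,3,5]), (3, [2,4,4,3,1]),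
   (3, [2,0,2,4,0]), (3, [0,2,1,3,1,3]), (2, [0,2,0,5,3]), (3, [0,2,5,1,3]), (3, [2,5,5,5,5,1]), (3, [5,2,1]),
   (3, [1,3,0,0,5,5]), (3, [4,2,0,5,3]), (3, [1,5,2,5,3]), (3, [0,0,4,3,3,1]), (3, [5,2,5,1,5]), (3, [2,4,0,0]),
   (3, [2,4,0,0,4]), (3, [1,3,5,0,2,5]), (3, [5,2,2,4,0]), (2, [4,4,4,4]), (3, [0,2,0,5,5,5]), (3, [4,3,4,1]),
   (3, [3,4,3,5]), (3, [0,5,2,2,5,2]), (3, [4,4,0,3]), (2, [2,4,1,4,4]), (3, [3,4,3,5,0,3]), (3, [3,0,3]),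
   (3, [2,4,3,5,3]), (3, [2,5,0,4,0]), (3, [1,2,1,4,4]), (3, [4,2,4,0,4]), (3, [5,3,4,0,5]), (3, [0,5,1,4,3]),
   (3, [0,4,2,2,4,4]), (2, [3,5,2,2]), (2, [3,5,0,3]), (3, [0,3,3,1,5,3]), (3, [2,5,0,3]), (3, [5,0,4,2,1]),
   (3, [0,2,5,3]), (3, [5,1,3,3,1]), (2, [5,2,4]), (3, [1,3,4,2,2,5]), (3, [3,1,5,3,4]), (3, [2,2,4,4,4]),
   (2, [0,5,2,4]), (2, [0,2,4,0,2]), (3, [1,5,2,0,3]), (3, [0,0,5,1]), (2, [0,3,5,2]), (3, [2,5,0,0,5]),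
   (2, [4,0,2,0,4]), (2, [5,2,0,0]), (3, [5,1,2,4,2]), (3, [0,3,4,4,3]), (3, [0,4,3,5,2,2]), (2, [3,3,5,2,2]),
   (2, [0,4,1]), (2, [5,1,5,2]), (3, [2,2,1,3,0]), (2, [0,2,1,5,1]), (2, [2,2,0,3]), (3, [4,3,0,0,5]),
   (3, [0,3,0,4,4,0]), (1, [2,1,5,0]), (3, [1,2,5,2,1]), (3, [0,3,4,3,0,4]), (3, [4,2,1,4,0]), (3, [0,5,0]),
   (3, [4,2,4,2]), (3, [4,0]), (3, [4,4,1,4]), (2, [0,4,2,4,2]), (2, [3,4,0,0]), (3, [4,2,1,2]),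
   (3, [0,5,1,5,5]), (3, [0,4,2,5,0]), (3, [5,5,2]), (3, [2,2,2,0,3]), (3, [2,1,4,4,2]), (2, [2,1,5,2]),
   (3, [5,2,0,4,4]), (1, [4,2,1,4]), (2, [2,5,0,2]), (2, [2,2,2,1,3]), (3, [4,2,2,0,4]), (3, [1,4,4,0,3]),
   (3, [3,4,1,2]), (3, [3,5,1,2,0]), (3, [0,5,3,1,5]), (3, [5,1,5,0]), (2, [2,5,5,3,0]), (3, [0,5,1,5,3]),
   (3, [0,2,0,5,5]), (3, [4,3,0,5]), (3, [3,0,2,0,0]), (3, [1,2,1,5,2,4]), (3, [4,2,5,1,4]), (2, [3,5,0]),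
   (0, [2,1,5]), (3, [5,2,5,3,1]), (3, [1,2,2,1,2,5]), (1, [0,0]), (3, [2,5,1,5,5]), (2, [0,5,5,2,1]),
   (3, [0,0,4,1,4,0]), (3, [0,5,1,3,3,4]), (1, [0,0,3,4]), (3, [1,3,5,2,5]), (2, [0,3,1,5,3]), (1, [2,4,0]),
   (3, [2,0,0,5,3]), (3, [4,2,5]), (3, [0,4,1,5,2,1]), (3, [4,2,4,1]), (3, [4,2,4,2,2]), (3, [1,2,4,0,3,0]),
   (3, [0,2,4,2,0]), (3, [4,4,0,0]), (3, [1,4,2,1,4]), (3, [4,0,4,2,0]), (2, [0,3,5]), (2, [2,1,2,0]),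
   (3, [3,0,0,2,4]), (3, [0,3,4,3,5,2]), (2, [0,3,3,0,5]), (3, [0,4,1,5,2]), (3, [5,3,5,1,4]), (3, [0,5,5,0,2]),
   (2, [0,2,2,4,2,0]), (3, [0,2,1,3,4]), (3, [0,2,1,3]), (3, [1,4,1,3,5]), (3, [1,2,2,4,1]), (1, [4,3,0]),
   (3, [2,5,2,0]), (3, [2,0,5,2,4]), (3, [4,4,1]), (3, [1,5,5,5,0,2]), (3, [5,5,5,5,0,5]), (1, [3,0]),
   (2, [2,0,0]), (3, [1,3,0,5,5]), (3, [0,4,2,1,4]), (3, [1,3,3,0,3]), (1, [4,4,3,0]), (3, [1,4,0,0,5]),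
   (0, [2,0,4]), (3, [0,4,1,2]), (2, [3,4,2,2]), (2, [0,3]), (3, [4,4,2,5]), (2, [4,0,5,2]),
   (2, [2,2,4,0]), (2, [0,3,5,1,2]), (2, [0,2,0,3]), (3, [0,4,3,5,5]), (3, [3,0,4,1,4]), (2, [4,2,1,3]),
   (1, [0,0,4,4,4]), (3, [0,2,0,2,0,0]), (3, [1,5,3]), (3, [0,2,5,5]), (3, [0,5,1,2,1]), (3, [0,4,4,4,3]),
   (3, [4,3,3,4,4]), (3, [1,4,3,0]), (2, [3,0,3,5]), (3, [0,0,2,5,3,5]), (3, [3,5,1,5,3]), (3, [5,5,3,4]),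
   (3, [3,0,0,2,1]), (3, [2,0,5,2,5,3]), (2, [3,0,4,0,3]), (3, [0,2,0,2,0,4]), (3, [0,2,4,1,3,1]), (3, [2,0,3,4]),
   (2, [3,4,4]), (3, [0,4,4,4]), (3, [1,3,3,0,5,5]), (3, [4,1]), (2, [0,2,5,1,4]), (3, [0,0,3,5,2]),
   (3, [0,2,5,1,5]), (3, [5,0,2,1,3]), (3, [5,2,5,2,4]), (3, [3,0,0,5,5]), (3, [2,2,2,0,0]), (3, [0,2,4,2,4]),
   (3, [4,4,4,3,0]), (3, [0,3,4,3,1]), (3, [2,5,1,3,3,4]), (3, [2,1,2,5,5]), (3, [0,2,1,4,4]), (2, [3,5,3,4]),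
   (1, [0,3,5]), (1, [4,4,1]), (3, [5]), (3, [1,2,5,1,2]), (3, [5,5,3,5,0]), (3, [2,0,3,0,4]),
   (1, [5,2,0,2]), (3, [4,4,1,5,0]), (3, [1,4,3,5]), (3, [1,5,1,5,1,3]), (3, [1,2,5,2,4,1]), (2, [5,1,2]),
   (3, [1,5,2,1,5,5]), (2, [4,0,2,2]), (3, [2,5,1,3,3]), (3, [0,5,0,3,3]), (3, [1,3,1,2,5,5]), (3, [5,1,3,0]),
   (3, [0,5,3,3]), (3, [5,1,4,3,5]), (3, [0,3,4,0,0,4]), (3, [4,2,5,0]), (3, [5,5,3,4,4]), (2, [0,5,5,0]),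
   (2, [0,2,0,2,2]), (3, [4,2,4]), (2, [0,2,2,4,0]), (3, [3,4]), (3, [1,3,3,5,3]), (3, [0,3,5,0,0]),
   (3, [5,2,5,5]), (3, [0,3,0,4,4,3]), (2, [2,0,5]), (3, [2,0,4,0,5,0]), (3, [5,5,5,0,5]), (3, [3,4,1,4,3]),
   (3, [0,2,0,2,2,4]), (3, [2,4,0,2,2]), (3, [4,0,2,4,0]), (3, [0,2,0,3,5]), (2, [3]), (3, [1,3,5,2,4]),
   (1, [1,4,2,4]), (3, [5,5,5,3]), (3, [4,0,2,1]), (3, [5,5,3,0,2]), (2, [0,4,1,4,0]), (1, [2,0,5,3]),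
   (3, [2,4,1,4,2]), (3, [0,5,2,0,0]), (3, [5,5,3,1,3]), (3, [4,1,5,5,3]), (2, [2,0,3]), (3, [4,3,1,3,5]),
   (3, [0,0,4,0,4,2]), (3, [0,0,3,0,0]), (3, [0,4,2,4,2,5]), (1, [1,2,5,1]), (3, [2,5,1,2,2,1]), (3, [5,2,0,2]),
   (3, [0,3,3,4,0,0]), (3, [3,1,4,4]), (3, [4,1,4,4,1]), (3, [3,5,5,0,5]), (3, [4,2,0,4,2]), (3, [0,4,1,4,1]),
   (3, [0,0,5,2,0]), (3, [1,4,4]), (3, [1,3,3,5,2]), (3, [2,4,0,5,2]), (2, [2,2]), (3, [3,0,3,5,0]),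
   (2, [0,3,3,4,2]), (3, [2,0,0,2,0]), (3, [3,4,2,0,4]), (3, [0,0,4,2]), (3, [4,2,2,1,2]), (3, [0,2,4,3,1,5]),
   (3, [3,1,5,1,5]), (3, [5,3,5,3,4]), (3, [5,0,5,0,0]), (3, [2,5,2,2,5,3]), (3, [5,0,0]), (2, [3,1,3,4,1]),
   (3, [4,2,1,3,4,0]), (3, [0,2,0,5,5,0]), (3, [0,3,0,0]), (3, [1,3,1,2,0]), (3, [2,1,4,1]), (3, [3,4,4,0,3]),
   (3, [4,0,2,5,3]), (3, [1,4,4,4]), (3, [1,4,2,2,5]), (3, [0,3,0,2,4,0]), (3, [2,0,5,5,2]), (3, [3,1,5,5]),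
   (3, [0,3,4,3,4]), (2, [0,2,1,2,2]), (2, [4,2,0,4]), (3, [0,0,3,3]), (3, [1,2,2,0,0]), (3, [2,5,3,4,0]),
   (3, [4,1,4,4,2]), (3, [1,2,4,0,5]), (3, [5,3]), (2, [0,2,4,3]), (3, [0,4,4,4,3,0]), (2, [4,4,0,5]),
   (3, [1,5,5,5,3,5]), (2, [5,2,5]), (2, [2,2,1]), (3, [2,4,3,4]), (3, [2,0,0,3,3]), (2, [0,4,2]),
   (3, [4,4,3]), (3, [0,5,5,3,0]), (3, [2,0,5,0,0]), (3, [2,5,5,0]), (3, [0,2,4,2,2,5]), (3, [1,3,4,2,0]),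
   (3, [2,0,0,2,4]), (3, [2,0,5,5,3,0]), (2, [4,4,4]), (3, [0,2,4,2,2,4]), (2, [0,2,4,4,2]), (1, [4,2,5]),
   (3, [0,0,4,3,0]), (3, [1,2,4]), (3, [5,5,3,5]), (3, [1,3,4,0,4,2]), (3, [5,2,0]), (2, [2,2,0,0]),
   (3, [0,3,3,4]), (2, [3,4,3,5]), (2, [5,3,5,2]), (3, [1,2,5,2,4]), (3, [2,5,5,2]), (3, [2,0,3,0]),
   (3, [2,1,3,1,4]), (3, [3,0,2,1,3]), (2, [3,0,5]), (3, [0,2,0]), (2, [0,2,1,4,0]), (2, [2,4,4,2]),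
   (3, [1,2,0,4]), (3, [0,3,5,5,1,4]), (3, [2,5,1,5,3]), (2, [3,4,2,4,1]), (3, [4,4,4,4,4]), (3, [2,4,0,0,3]),
   (2, [2,2,1,5,2]), (3, [0,0,5,3,1,3]), (2, [4,0]), (2, [2,0,0,2,5]), (3, [0,5,5,5,5]), (3, [3,5,3,1,5]),
   (3, [0,0,2,0,3,3]), (3, [5,0,2,2,5]), (2, [5,5,3]), (3, [5,0,4,1,2]), (3, [0,2,1,2,4,2]), (1, [4,2,1]),
   (3, [0,4,0,4,0]), (3, [5,0,3,3,5]), (3, [0,2,1,5,0]), (3, [4,4,4,4,2]), (3, [1,4,1,4,4]), (3, [2,0,2,2,5]),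
   (2, [3,4,4,4]), (3, [0,2,0,2,5]), (3, [4,3,4,0]), (3, [0,3,1,5,0,3]), (3, [2,0,5,1,2]), (3, [1,2,1,4,2]),
   (3, [4,0,2,4,2]), (3, [0,2,2,4,2]), (2, [4,1,3,1]), (2, [2,5,5,2]), (3, [4,4,3,3,4]), (3, [1,3,4,2]),
   (3, [0,4,3]), (3, [0,4,2,5,2,0]), (2, [0,3,4,4,4]), (3, [4,3,0,4,0]), (3, [5,2,2,5]), (3, [1,3,1]),
   (3, [1,2,5,2,5]), (3, [2,1,5,0,4,3]), (3, [5,1,2,4,3]), (2, [0,5,3,0,5]), (0, [3,5]), (3, [4,3,5,1,2]),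
   (3, [2,5,3]), (2, [4,2,4,4,3]), (1, [1,2,2]), (1, [1,2,0]), (3, [4,2]), (3, [5,0,3,1,2]),
   (3, [3,4,4,4,1]), (3, [4,2,4,4,1]), (1, [1,5,2,5]), (2, [0,3,3,0,4]), (2, [0,2,1,2,4]), (3, [2,5]),
   (3, [0,2,2,4,4]), (1, [0,3,5,0]), (3, [0,5,2,2,2]), (3, [0,2,4,0,5]), (2, [2,4,0,3,4]), (3, [0,0,4,1,5,1]),
   (3, [0,0,3]), (2, [0,3,4,0]), (1, [1,2,0,4]), (3, [5,3,0,5]), (3, [0,4,2,2,0]), (3, [5,1,5,3,3]),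
   (3, [0,4,2]), (3, [0,0,4,0,4]), (3, [1,4,2,4,1]), (3, [2,0,0,3,5]), (3, [5,0,3,5,0]), (2, [3,1,3]),
   (3, [1,2,0,3,4]), (3, [3,0,0,2]), (3, [3,0,3,5,2]), (3, [2,1,5,3,5]), (3, [0,4,1,5,0,0]), (3, [2,2,5,5,0]),
   (3, [0,3,0,3,4]), (1, [5,0,0]), (3, [1,4,2,0,0]), (3, [2,5,5,5,1]), (1, [0,3,4,0]), (3, [4,3,4,2]),
   (2, [2,2,4,1,2]), (3, [2,4,3,0,5]), (3, [0,2,0,5,2,0]), (2, [5,2,5,2]), (3, [0,5,1,3,3]), (2, [3,0,4,1]),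
   (1, [5,2,2,0]), (3, [3,5,0,3,4]), (1, [2,1,4,3]), (3, [4,2,1,5]), (3, [5,0,3,1,2,4]), (3, [4,2,1,2,5]),
   (3, [1,4,3,4,2]), (3, [1,3,4,3,0,0]), (3, [5,0,2,2]), (3, [0,5,1]), (3, [2,0,5,3,1]), (3, [2,5,1,3,5]),
   (3, [2,4,3,1,2]), (3, [0,2,4,1,3]), (2, [2,0,4]), (3, [0,2,1,4,0,3]), (3, [2,0,5,5,2,2]), (2, [2,5,1,3]),
   (3, [2,0,5,5,1,5]), (3, [0,4,0,5,3]), (3, [4,1,4,3,5]), (2, [2,5,1,2,1]), (3, [2,2,1,4]), (3, [3,4,0,4,0]),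
   (3, [2,5,5,1,3]), (2, [3,4,4,2,1]), (3, [3,0,4,3,5]), (3, [4,3,0,2,4]), (3, [0,4,2,5]), (3, [0,5,2,1,2,0]),
   (3, [0,2,1,2,5,1]), (3, [1,2,1,5,5,3]), (2, [0,5,1,2]), (2, [4,0,5]), (3, [3,5,5]), (3, [1,2,4,1,4]),
   (3, [1,2,5,2,5,2]), (3, [3,0,5,3]), (3, [0,0,4,4,1,3]), (3, [0,0,5,3,3]), (3, [1,4,2,0,4]), (3, [0,4,2,2,4]),
   (2, [3,0,0,5,3]), (3, [4,1,5,5]), (3, [1,3,1,5,3]), (3, [1,3,4,2,5,1]), (2, [4,4,0]), (3, [2,5,0,5]),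
   (3, [3,4,0,3]), (3, [5,0,4,3,5]), (3, [0,0,3,1,4]), (3, [4,1,5,1,4]), (3, [2,5,2,2,2]), (2, [2,4,4,4,1]),
   (3, [0,0,3,1,4,4]), (3, [0,3,4,3,3]), (3, [1,3,0,2,4,4]), (3, [1,2,2,0,5]), (1, [1,4,3,5]), (3, [0,5,2,0]),
   (3, [1,3,5,3,5]), (2, [0,5,5,0,5]), (3, [4,4,4,4]), (2, [0,5,3,1]), (2, [0,5,5,1]), (2, [3,0,4,2]),
   (3, [0,0,3,4,0,4]), (3, [4,4,0,3,5]), (2, [5,2,2,5]), (3, [3,5,0]), (3, [2,0,0,4,2,4]), (2, [0,4,2,5,3]),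
   (3, [0,4]), (2, [0,5,0,3]), (3, [4,2,0]), (3, [5,1,4,1,2]), (3, [2,0,0,4,3]), (3, [4,3,3,0]),
   (3, [0,2,2,2,4,3]), (3, [4,1,2,5,3]), (3, [2,5,0,5,1]), (3, [0,2,2,4,3]), (3, [0,2,0,2,2,2]), (2, [4]),
   (3, [1,3,1,3,3]), (3, [0,4,4,4,4]), (3, [0,0,5,0,0]), (3, [2,4,0,2,5]), (3, [2,5,0,2]), (2, [0,2,5,2,1]),
   (3, [3,5,5,0,0]), (2, [5,2,4,1]), (2, [3,4,0,2]), (3, [0,3,0,5,3,1]), (3, [0,0,5,1,2]), (3, [1,5,1,5,2]),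
   (3, [0,0,4,4,2,4]), (3, [0,2,0,5,1]), (3, [0,2,5,0]), (3, [3,4,1,5,2,1]), (3, [0,2,0,4,0]), (3, [0,0,3,0,4,4]),
   (2, [2,1,5,0,4]), (2, [5,0,5]), (3, []), (3, [2,1,5,1]), (3, [5,2,0,4,2]), (3, [3,1,4,4,2]),
   (3, [2,0,5,2,2]), (3, [0,0,5,1,5,5]), (3, [5,1,5,2]), (3, [1,2,0,5,2,1]), (2, [2,0,4,2]), (3, [2,2,4,4]),
   (3, [2,0,4,0,3,3]), (3, [0,4,3,5,3]), (3, [0,3,4,0,3]), (2, [3,1,5]), (2, [4,4,3]), (2, [5,3,4,4]),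
   (3, [0,0,5,2,1]), (3, [0,0,2,2,0,3]), (3, [0,0,3,0,3,5]), (3, [0,2,5,1,3,1]), (1, [0,3,5,0,3]), (3, [3,5,0,4,4]),
   (3, [2,4,0,4,1]), (3, [0,4,2,5,5,1]), (3, [5,0,0,2]), (1, [5,2,2]), (2, [2,1,2]), (2, [0,2,5,5]),
   (3, [0,0,2,4,1,2]), (3, [0,4,3,4,2]), (2, [0,2]), (3, [2,2,4]), (2, [5,1,4,4]), (2, [2,2,5,3,3]),
   (3, [1,4,4,2,4]), (3, [3,5,2,1,2]), (3, [2,2,4,2,4]), (1, [4,1,5]), (3, [3,0,3,5,5]), (3, [2,1,2,4,3]),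
   (3, [0,4,0,4,2]), (3, [0,2,2,4,1,5]), (3, [0,0,5,1,5,3]), (3, [3,0,3,5]), (3, [4,1,4,0]), (3, [0,5,5,3,5]),
   (3, [0,3,1,3,4]), (3, [4,4,3,0,2]), (2, [5,5,0]), (3, [0,2,0,5,1,5]), (3, [2,5,3,4,1,2]), (3, [1,2,4,2,1]),
   (3, [3,5,3]), (3, [0,2,0,3,0,0]), (3, [0,0,2,5]), (2, [3,1,4,3]), (1, [1,2,2,4]), (3, [5,0,3,3,4,4]),
   (3, [0,0,5,3,5,2]), (2, [0,3,5,5,1]), (2, [5,0,3,1]), (1, [0,3,0,4,4]), (3, [2,2,5,5,2]), (3, [0,0,2,2,0]),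
   (3, [4,0,3,0,5]), (3, [2,5,0,5,0]), (3, [2,5,2,0,2]), (3, [0,0,2,2,2]), (3, [4,0,2,4,3]), (3, [1,5,3,4]),
   (3, [0,5,5,1,5]), (3, [2,5,2,4,4]), (3, [5,5,2,0]), (3, [5,2,4,4,3]), (3, [1,5,2]), (3, [3,5,2]),
   (2, [0,4,1,3,4]), (2, [3,0,0,2,2]), (3, [1,4,1,4]), (3, [3,5]), (3, [1,2,4,0,3,5]), (3, [1,4,1,3,4]),
   (3, [2,5,0,3,1,4]), (3, [3,5,2,2]), (1, [0,3,0,0]), (2, [2,5]), (3, [2,1,2,4,1]), (3, [2,5,1,3,0]),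
   (3, [2,2,4,4,3]), (2, [3,3,0,5]), (3, [0,2,0,0,2]), (3, [2,0,4,4,1]), (3, [0,2,1,5,0,3]), (3, [0,0,3,0,3]),
   (3, [1,2,2,4,0]), (3, [4,1,5,2]), (3, [0,5,2,1,3]), (3, [1,3,0,4]), (3, [0,0,3,5,0,3]), (3, [2,5,1,2]),
   (3, [5,0,4,4,1]), (3, [0,3,4,4,4]), (3, [0,3,5,5,3]), (3, [0,0,5,3,0,4]), (3, [0,5,2,2,0]), (3, [5,5,3]),
   (3, [2,5,2,5,5,3]), (3, [0,5,0,5,5]), (3, [0,5,1,3,3,5]), (3, [5,5,0,3,1]), (3, [4,2,4,2,0]), (3, [5,5,2,0,4]),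
   (2, [0,3,1,4,2]), (3, [0,0,3,5,2,5]), (3, [4,3,1,2,1]), (3, [1,4,4,4,2]), (3, [0,2,0,3,4,2]), (3, [3,1,4,4,4]),
   (3, [2,4,0,5,2,4]), (3, [3,4,3,0,2]), (3, [2,1,5,3,3]), (3, [0,2,0,0,2,0]), (3, [1,2,4,0,0,3]), (3, [1,4,3,0,3,4]),
   (3, [2,2,1,4,2]), (3, [0,2,1,2,4]), (3, [1,2,0,5,1]), (3, [1,2,0,2,5,5]), (3, [5,2,5]), (3, [0,4,2,0]),
   (3, [0,4,2,2,4,3]), (2, [3,1,3,3,5]), (3, [4,3,0,2,2]), (3, [1,2,0,2,1,3]), (3, [2,2,4,0]), (3, [3,0,4,3,3]),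
   (3, [2,0,5,3]), (2, [3,0,5,1,4]), (3, [5,5,3,3]), (3, [5,5,2,1,5]), (2, [3,5,5,2]), (2, [2,0,2,5]),
   (3, [3,1,5,3,4,4]), (3, [0,3,4,0,0]), (3, [0,0,3,0,3,3]), (3, [2,0,0,3,0,4]), (2, [2,4,0]), (3, [5,0,5,2]),
   (3, [0,2,2,4,3,4]), (3, [1,2,4,2,5,5]), (3, [0,4,4,4,4,3]), (3, [1,2,0,5,0,0]), (3, [0,2,1,2,0]), (3, [5,1,2]),
   (3, [5,1,3,0,5]), (2, [4,0,2,4]), (2, [4,4,1,3]), (3, [0,4,2,5,1]), (3, [1,5,1,2,1,5]), (3, [1,4]),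
   (3, [0,0,4,3,5,3]), (3, [2,0,0,2,2]), (3, [0,4,2,1,3]), (3, [0,0,3,1,4,0]), (3, [0,5,5,3]), (3, [5,0,2,5]),
   (3, [0,3,4,1]), (3, [5,0,4,4,2]), (3, [5,0,0,2,5]), (2, [5,1,5,0]), (3, [1,5,2,4,1]), (3, [3,5,5,1,2]),
   (3, [0,2,0,5,5,1]), (3, [0,0,3,0,4]), (2, [2,5,1]), (3, [0]), (3, [0,4,3,5,1]), (3, [1,5,5,5,3]),
   (3, [1,5,2,1,2]), (1, [0,0,4,4,0]), (3, [0,5,5,3,4,1]), (3, [3,4,3,0]), (3, [1,2,0,2]), (3, [1,3,0,0,3,1]),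
   (3, [5,2,1,3]), (3, [5,1,4,3,3]), (3, [2,1]), (2, [3,3,4,2]), (3, [0,3,0,2,4]), (3, [2,0,4,0,2]),
   (3, [0,5,2,5,2]), (3, [0,4,3,4,4]), (3, [2,5,5,1,2]), (2, [3,4]), (2, [5,5,1,2]), (3, [3,4,4]),
   (3, [1,3,4,4,2,4]), (3, [1,3,5,5,3,3]), (3, [0,2,2,1,5]), (3, [0,2,1,4,1,3]), (3, [3,0,5,0,3]), (3, [2,1,4,2,4]),
   (3, [4,2,1,2,4]), (2, [3,0,4,0]), (3, [1,2,2,1]), (3, [2,0,5,0]), (3, [4,4,1,4,4]), (3, [0,5,1,5]),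
   (3, [3,0,5,1,2]), (3, [0,2,5,5,1]), (3, [3,1,5,1]), (3, [1,2,5,0]), (2, [0,3,5,5,2]), (2, [5,5,0,0]),
   (2, [0,3,5,0]), (3, [5,3,1,3]), (3, [2,2,2,4,3]), (3, [1,3,0,5,1]), (3, [2,4,4,2]), (2, [3,0,4]),
   (2, [4,1,3]), (2, [5,5,5,0]), (3, [3,4,1,5,2]), (3, [3,1,5,5,1,4]), (3, [0,2,0,3]), (2, [0,4,2,1]),
   (3, [2,4,3,4,4]), (3, [5,1,2,2,2]), (3, [1,2,4,0,3]), (3, [3,4,1,5,3]), (3, [5,2,0,4,1]), (3, [0,3,0,0,5]),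
   (3, [4,3,5,1,3]), (3, [5,2,1,5,3]), (3, [1,4,4,1]), (3, [5,2,5,1,3]), (3, [5,2,5,0,4]), (3, [5,0,2,0,0]),
   (3, [2,5,2,4,4,4]), (3, [0,3,0,3,4,3]), (3, [1,3,0,4,2]), (3, [0,5,2,4,0]), (2, [0,2,5,1]), (3, [2,2,4,3]),
   (3, [2,0,2,1,4]), (3, [3,0,5,2]), (3, [4,3,5,0,3]), (3, [4,4,3,3]), (3, [3,0,3,4,1]), (3, [0,0,3,1,3,3]),
   (3, [0,2,0,0,4]), (3, [5,3,5,2,4]), (2, [2,4,0,5,2]), (3, [0,0,5,3,4]), (3, [1,2,1,2,2]), (2, [3,1,3,1,5]),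
   (3, [2,2,5,5,0,0]), (3, [1,3,1,2]), (3, [3,4,2,0,5]), (3, [3,0,0,3,4]), (3, [0,2,2,5,3]), (3, [2,1,4,1,3]),
   (3, [0,2,1,4,0,2]), (3, [0,4,2,1,4,4]), (2, [2,5,5]), (3, [2,1,4,0,2]), (3, [1,5,1,5,1]), (3, [1,5,3,1,2]),
   (3, [5,5,0,0,2,2]), (1, [0,3,4]), (3, [3,5,0,4,2]), (3, [0,5,5,1]), (3, [3,1,5,1,2]), (2, [2,0,3,3]),
   (3, [0,4,1,5,0,4]), (3, [1,5,5,0]), (3, [4,0,3,1,4]), (3, [1,5,2,1]), (3, [0,5,2,1,5]), (3, [0,2,4]),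
   (3, [0,2,1,3,0]), (3, [3,4,0,4,4]), (3, [0,5,0,0,3,1]), (3, [4,1,5,1]), (3, [0,2,5,3,1,5]), (3, [4,2,4,4,0,2]),
   (3, [0,2,0,2,2,5]), (3, [1,5,1,4]), (3, [0,5,3,5,3]), (3, [0,4,1,4,2]), (3, [0,0,2,1,3]), (3, [4,3,5,1,4]),
   (2, [5,0,3,3]), (3, [5,1,3,5,0]), (2, [2,0,0,2]), (3, [0,2,2,1,3,0]), (3, [1,5,3,5,5]), (3, [0,2,1,4,4,4]),
   (3, [2,4,0,4,2]), (3, [1,5,3,5]), (3, [1,2,2,0,3]), (3, [2,4,1,4]), (3, [0,0,5,3,4,3]), (3, [1,5,0,2,2]),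
   (3, [1,5,2,4,0,3]), (3, [2,4,2,2,0,5]), (3, [3,0,4,1]), (2, [0,3,4]), (3, [4,0,2,2,4]), (3, [0,2,5,5,0,2]),
   (3, [0,2,2,4,3,0]), (2, [3,4,1]), (3, [1,4,0,5,0,4]), (3, [1,3,3,5,5]), (2, [2,2,4,2]), (3, [1,3,4,0]),
   (3, [0,2,2,2,0]), (3, [0,3,4,0,2]), (3, [5,3,0,2]), (2, [2,4,0,5]), (3, [0,0,3,1,4,3]), (3, [2,5,0,5,0,2]),
   (2, [0,2,2,4,2]), (3, [3,4,3,4,2]), (3, [0,4,1,2,1,3]), (3, [3,5,5,1,4]), (3, [1,4,2,1]), (3, [2,0,2,1]),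
   (3, [0,4,0,5,2]), (3, [4,0,3,0,2]), (3, [0,0,2,0,5]), (3, [2,4,2,0]), (2, [0,4,1,2,0]), (3, [1,2,0,0,2,2]),
   (3, [2,0,5,1,3]), (3, [1,2,0,3,1,5]), (2, [4,4,4,0]), (3, [0,5,1,4,0,4]), (1, [0]), (2, [0,3,4,2,5]),
   (3, [5,3,5,2,1]), (2, [3,5,3,0,0]), (3, [0,2,2,0,4,1]), (3, [1,3,1,5,2]), (3, [5,5]), (3, [3,0,0,3,1]),
   (3, [0,3,1,4,4,2]), (2, [2,0,0,4]), (1, [2,1,4,2]), (2, [2,1,5,0]), (3, [5,3,3,5,1]), (3, [0,2,0,4,4,0]),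
   (3, [2,1,4,3]), (3, [2,0,2,2,1]), (3, [5,3,5,5]), (3, [3,0,2,4,0,3]), (3, [1,3,3,4,4]), (3, [0,4,2,0,0,5]),
   (3, [0,0,3,1,5]), (3, [3,1,4]), (2, [2,2,0,5]), (2, [0,2,5,2,0]), (3, [3,4,3,0,5]), (3, [4,3,4,3]),
   (3, [2,5,0,4,4]), (2, [4,0,3,3]), (3, [0,3,4,0,2,2]), (1, [3,0,3]), (2, [4,1,5,5,0]), (3, [0,2,0,5,1,4]),
   (3, [1,3,0,2,4]), (3, [2,0,2,4]), (3, [2,4,1]), (3, [1,4,0,2,5]), (3, [0,3,3,5,0,0]), (3, [0,2,1,2,4,4]),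
   (2, [0,5,0,3,4]), (3, [0,2,0,3,0]), (2, [0,4,4,3,3]), (3, [1,2,5,5,0]), (2, [0,2,0,0,4]), (3, [1,4,0,5]),
   (3, [1,3,4,0,5]), (3, [0,5,5,5]), (3, [0,4,1,5,3,1]), (3, [0,2,4,4,0,4]), (3, [0,3,5,0,5]), (1, [0,0,5]),
   (3, [0,4,1,2,5,0]), (3, [0,3,1,5,3,1]), (3, [3,0,2,4,3]), (2, [5,2,2,2]), (2, [2,0,2,5,1]), (3, [5,2,1,5,2]),
   (3, [0,2,4,2,5,1]), (2, [5,3,3,5]), (3, [2,1,4,1,3,0]), (3, [5,0,5,0,2]), (3, [0,3,0,4,3,5]), (3, [2,2,2,1,2]),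
   (3, [0,2,2]), (3, [2,2,1,2]), (3, [1,3,1,3]), (3, [3,5,0,2,1]), (2, [0,4,3,5,2]), (3, [0,3,5,0,3,4]),
   (3, [1,5,0,4,0,3]), (2, [0,2,2,5,3]), (3, [0,3,1,4,1]), (2, [5,5,0,2,5]), (3, [1,2,5,5,2]), (3, [4,0,4,3,4]),
   (2, [0,3,1,5,3,4]), (3, [0,3,3,4,3,1]), (2, [5,3]), (3, [3,0,5,3,3,1]), (3, [5,0,2,5,2]), (3, [2,4,4,3,4]),
   (3, [3,1,5,3,0]), (3, [3,4,0,4,2]), (3, [0,0,4,0,3,5]), (3, [3,4,3,3]), (3, [0,4,2,5,5]), (1, [2,1,4,0]),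
   (3, [0,3,4,3,4,4]), (1, [3,0,3,5]), (3, [1,5,1,2,4]), (2, [0,5,1,2,1]), (3, [2,0,0,3,1]), (2, [5,3,0,0]),
   (3, [4,0,2,4]), (3, [4,0,4,4,1]), (1, [0,0,4,1]), (2, [3,5,0,4,2]), (2, [4,4,2,0]), (3, [5,0,0,5,0]),
   (3, [2,0,5,5,5]), (3, [0,0,2,0,2]), (3, [0,5,2,0,0,4]), (3, [2,1,4,0,3]), (3, [0,2,2,0]), (1, [0,0,5,5]),
   (2, [0,3,1,2,2]), (3, [0,3,3,0,3,5]), (3, [3,4,0,2,5]), (3, [1,5,1,4,2]), (3, [0,4,2,5,2]), (3, [3,0,5,0,2]),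
   (2, [3,1,4,0]), (3, [0,2,4,1]), (3, [0,2,0,2,0]), (3, [1,3,0,3]), (3, [0,4,4,2,2]), (2, [4,3,3]),
   (3, [0,5,1,4,0]), (3, [5,1,2,4]), (3, [1,2,4,2,0]), (3, [3,5,5,2]), (3, [2,2,5,5,1]), (3, [1,3,1,5,5]),
   (2, [4,2,0,0,4]), (3, [5,0,3,4,2]), (3, [0,2,0,4,0,5]), (3, [1,2,2,0]), (3, [5,2,5,2]), (3, [0,4,0,2,1]),
   (3, [5,5,3,1]), (3, [2,0,5,1]), (3, [1,5,3,4,4]), (3, [4,0,4,0,4]), (3, [0,4,2,4,1]), (3, [4,4,0,0,3]),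
   (3, [4,3,0]), (2, [0,4,3,3]), (1, [1,5,1,4]), (1, [0,0,4,3,0]), (3, [0,0,2,5,3,0]), (1, [5,1,5]),
   (1, [1,5,2,4]), (2, [4,3,5,2]), (3, [3,5,2,4,1]), (1, [1,5,3,5,2]), (3, [2,0,4,0,0,4]), (3, [0,2,4,0]),
   (3, [4,2,5,0,4]), (3, [0,2,5,0,4]), (1, [1,4,3]), (3, [4,4,1,3,5]), (3, [3,0]), (3, [4,4,0,0,5]),
   (3, [2,5,5,5,0]), (2, [2,5,1,3,3]), (2, [3,3,1,3]), (3, [1,5,2,4,1,3]), (3, [1,3,0,2,0,2]), (3, [1,3,3,0,4,0]),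
   (3, [4,3,5,3]), (2, [2,5,3,4]), (3, [3,4,3,0,3]), (3, [5,0,5,3,5]), (3, [0,2,2,1,5,2]), (2, [0,5,1]),
   (3, [0,4,0,0,3]), (3, [1,2,5,1]), (3, [2,1,5,3]), (2, [3,5,0,4,1]), (3, [5,3,4,2,5]), (2, [0,3,4,1,2]),
   (2, [3,5,5,0,0]), (2, [2,0,2,2]), (2, [3,5,5,5]), (3, [4,2,2,4]), (2, [5,1]), (3, [0,3,0,5,0,4]),
   (1, [0,0,3,5]), (3, [5,2,1,3,3]), (3, [0,3,1,3]), (3, [5,3,5,3,5]), (1, [0,2,2,1]), (3, [1,4,3,4,1,2]),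
   (1, [0,0,4,4]), (3, [2,4,1,3,0]), (3, [0,5,2,5,3,3]), (2, [3,5,5,0]), (3, [0,4,1,4]), (3, [0,4,3,3]),
   (3, [1,4,1]), (2, [4,4,0,3]), (1, [0,0,3,4,4]), (2, [3,3,0,3]), (0, [2,1,2]), (2, [0,4,0,4]),
   (3, [0,0,5,0,4]), (2, [4,4,1,5]), (3, [5,5,0,0,2]), (1, [1,2]), (2, [5,3,4,3]), (2, [2,5,5,3]),
   (3, [4,1,5,0,3]), (1, [0,3,1]), (2, [4,2,2,1]), (3, [0,2,0,2,4,4]), (0, [2,0]), (3, [3,5,1,4]),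
   (3, [0,4,2,5,5,5]), (3, [0,4,2,2,5]), (3, [2,4,3]), (3, [2,0,5,2,5]), (3, [4,0,3,3,0]), (3, [0,4,2,1]),
   (3, [1,2,0,5,0]), (3, [2,0,4,1]), (3, [5,5,5,5,2]), (2, [0,5,5,2,4]), (2, [5,5,2]), (3, [1,2,1,3,0]),
   (3, [2,4,2,2,0]), (1, [1,2,5]), (3, [5,2,5,1]), (3, [2,0,3,4,0]), (3, [4,1,4,0,5]), (3, [4,2,2,1,5]),
   (1, [1,5,2,1]), (3, [5,2,2,0,0]), (3, [2,1,5,2,1]), (2, [2,2,4,2,1]), (3, [4,4,4,3]), (0, [3]),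
   (2, [4,4,3,5]), (3, [0,4,0,3,0]), (3, [3,5,0,3,0]), (2, [2,2,5,5]), (3, [0,4,3,4,0]), (3, [1,3,3,5,0]),
   (3, [0,0,2,0,3,4]), (1, [2,1,4]), (2, [5,0,2,0]), (3, [0,4,0,2,5,0]), (3, [4,2,5,3]), (1, [1,4,0]),
   (3, [2,4,4,0,4,1]), (3, [2,5,5,0,3]), (2, [3,3,4,4]), (3, [2,0,4,0,3]), (3, [2,4,0,4]), (3, [0,0,3,1,5,2]),
   (3, [0,3,3,5]), (2, [4,1]), (2, [5,3,3,1]), (3, [1,3,3,4,3,3]), (3, [0,4,2,2,5,1]), (2, [0,3,0,2]),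
   (2, [0,5]), (3, [2,1,5,2]), (3, [2,1,3,5]), (3, [1,2,0,0,3]), (3, [4,2,0,5]), (2, [2,4,0,0,5]),
   (3, [3,4,3,5,0]), (2, [5,1,3,5]), (3, [4,2,1,5,5]), (3, [2,2,2,4]), (3, [0,3,0,3,3]), (3, [5,0,4,0]),
   (1, [4,3]), (3, [4,3,5,0]), (2, [0,2,5,2]), (3, [2]), (3, [1,2,0,5]), (3, [0,2,1,4,1,2]),
   (2, [0,2,0,5,5]), (2, [4,2]), (3, [5,1,3,3]), (3, [2,4,1,4,2,1]), (3, [0,0,5,5,5]), (3, [2,0,5,5,3]),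
   (3, [2,4,0,2]), (3, [4,2,0,0,2]), (3, [1,2,4,2]), (3, [0,2,0,4]), (3, [1,5,1,5,5]), (3, [4,1,4,2,2]),
   (2, [2,5,3,0,4]), (3, [0,4,4,3,0]), (3, [4,4,1,4,3]), (3, [0,0,5,3,0]), (3, [5,2,4,3,0]), (2, [0,2,1,4]),
   (3, [3,5,5,3]), (3, [2,4,0,4,4]), (1, [1,4,2,1]), (3, [2,0,0,2]), (3, [5,0,2]), (2, [5,1,5]),
   (3, [1,2,2,2,5]), (2, [0,5,3,5,5]), (2, [0,5,2,0,3]), (3, [5,2,0,3,1]), (3, [1,2,0,2,4]), (3, [1,5,3,4,2,0]),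
   (3, [3,4,4,2,2]), (3, [4,2,2,2]), (2, [2,4,4,4,0]), (3, [4,4,3,1]), (3, [5,0,5,5,2]), (3, [1,3,5,2,2]),
   (3, [1,5,0,4]), (3, [5,3,1,2]), (3, [0,0,4,3]), (3, [1,3,1,2,0,3]), (3, [4,2,5,3,5]), (3, [0,5,3,0,5,1]),
   (3, [4,2,2,2,1]), (3, [0,2,0,4,1,2]), (2, [2,2,2,0]), (3, [3,5,1,5,0]), (3, [0,0,2,4,2]), (3, [0,2,0,4,4,1]),
   (3, [0,0,3,1,3,0]), (2, [0,5,1,5]), (2, [5,2,0,3]), (3, [0,4,2,4,2]), (3, [2,1,5,2,2]), (3, [2,4,0,2,1]),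
   (2, [0,5,5]), (3, [0,2,1,2,4,3]), (3, [1,3,4,2,5,2]), (2, [4,0,2,0]), (3, [1,2,1,4,2,4]), (2, [3,3,4,3,4]),
   (2, [2,2,5]), (3, [1,2,0,0,5]), (3, [0,4,3,5,2,0]), (3, [1,5,3,4,1]), (2, [2,1,4]), (2, [0,5,2]),
   (2, [0,3,3,4]), (2, [0,3,4,1,5]), (3, [1,2,4,0,2]), (2, [2,5,0,5]), (3, [0,2,0,3,0,3]), (3, [0,4,1,5,3,0]),
   (3, [0,0,4,3,3]), (2, [0,3,0,3,1]), (3, [5,0,5,0]), (3, [4,0,3,1,5]), (3, [3,5,5,5,2]), (3, [2,4,0]),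
   (3, [1,5,1,4,3]), (2, [0,4,3,0,0]), (3, [2,5,3,0]), (2, [0,4,1,4]), (3, [2,4,0,4,2,1]), (3, [1,5,3,4,2]),
   (3, [1,2,0,5,2]), (3, [2,0,4,2]), (3, [4,3,5,2,2]), (3, [1,4,4,3,4,3]), (3, [1,5,0,0]), (3, [5,3,3,0,5]),
   (3, [0,2,0,2,5,1]), (3, [1,5,0]), (3, [4,0,4,2]), (2, [0,3,4,2,0]), (2, [0,3,4,3,1]), (2, [0,2,1,5]),
   (2, [5,5,0,2]), (2, [2,2,4]), (3, [4,1,2,0,2]), (3, [1,2,4,1,2]), (3, [1,3,0]), (3, [3,0,4,2]),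
   (3, [0,2,1,5]), (3, [1,4,3,0,2]), (3, [0,4,3,3,0,0]), (3, [1,5,0,0,3]), (3, [5,1,4,0]), (2, [3,3,0]),
   (2, [4,4]), (2, [0,3,5,1]), (3, [0,2,2,4]), (3, [3,4,0,4]), (3, [0,0,5,2,5,5]), (3, [4,1,4,2,2,1]),
   (3, [0,0,5,0,5]), (2, [0,2,5,2,2]), (3, [0,2,4,3,0]), (2, [0,4,3,1,3]), (2, [5,5]), (3, [1,5,3,5,3]),
   (3, [2,1,3,3]), (3, [0,0,4,1,2]), (3, [5,0,4,2,2]), (2, [0,2,5,1,3]), (3, [2,0,4,2,4]), (3, [4,2,1,3,4]),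
   (3, [2,0,2,1,3]), (3, [1,3,5,1,5]), (3, [4,3,1,2,5]), (3, [5,2,1,3,0]), (3, [1,2,5,1,2,1]), (3, [1,2,1,2,0]),
   (3, [4,0,4]), (3, [4,3,0,2,1]), (3, [0,4,3,0,2]), (3, [3,5,2,4]), (3, [5,1,4,1,4]), (3, [3,0,5,0,4]),
   (3, [4,4,1,3,1]), (3, [0,0,2,0,0,4]), (3, [0,0,4,2,0,4]), (3, [2,0,4,2,2,1]), (3, [0,0,2,5,2,1]), (3, [4,3,1,2,5,2]),
   (3, [0,4,1,4,3,1]), (3, [1,2,1,5,3]), (3, [2,1,2,0,4]), (3, [0,2,1,3,5]), (3, [1,2,0,3,0]), (3, [1,2,4,2,5,1]),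
   (3, [0,0,2,0,2,0]), (3, [1,3,4,1,3]), (3, [0,2,5,5,0]), (3, [4,4,3,0]), (1, [0,5,1,2]), (3, [1,2,0,3,5,1]),
   (3, [2,1,4,4]), (3, [1,3,5,3,4,0]), (3, [0,5,0,0,2]), (3, [0,0,4,1,2,4]), (3, [0,0,2,5,3]), (3, [2,1,3,3,1]),
   (3, [4,0,4,3,5]), (3, [0,4,1,4,3,4]), (2, [3,0,3,5,5]), (2, [2,0,4,4,0]), (3, [2,5,0,4,1]), (3, [2,1,3,1,3]),
   (3, [1,2,1,4,2,0]), (2, [0,2,4,0]), (3, [2,4,1,4,1]), (3, [2,4,0,3,1]), (3, [1,2,5,1,5]), (3, [0,4,0,0,5,0]),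
   (3, [0,5,5,0,3]), (3, [2,5,5,0,4]), (3, [0,0,3,3,5]), (3, [0,0,5,3,0,0]), (3, [1,5]), (3, [4,0,4,3,3]),
   (3, [0,4,3,4]), (3, [5,0,4,1,5]), (3, [0,5,3,1,3]), (3, [0,0,2,2,0,4]), (3, [4,2,2,4,0]), (3, [3,5,1,5,1,4]),
   (3, [0,0,2,1,5,3]), (2, [2,1,4,4,0]), (3, [0,5,2]), (3, [1,5,5,2]), (1, [4]), (2, [0,4,2,4,1]),
   (3, [4,3,4,3,3]), (3, [4,2,5,3,4]), (3, [2,5,1,3,4]), (3, [4,2,5,2]), (3, [2,2,1]), (3, [0,5,2,0,2]),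
   (3, [2,5,3,1]), (3, [0,3,5,2,5,2]), (3, [1,3,1,4,0]), (3, [5,2,4,4]), (3, [0,3,5,1,4]), (3, [2,1,3,5,1,5]),
   (3, [3,4,4,3,3]), (3, [1,5,5,3]), (3, [0,4,4,2,4]), (3, [1,2,5,5]), (3, [4,4,3,0,5]), (1, [0,5,0,3]),
   (3, [4,2,0,3,5]), (3, [3,1,4,1]), (3, [4,2,0,0]), (1, [3,5,3]), (1, [1,4,0,5]), (3, [1,2,2,2,4]),
   (3, [1,5,5,1,5]), (3, [0,5,3,5,0]), (3, [4,1,4,2]), (3, [1,3,4,1,5]), (2, [0,2,1,4,2]), (3, [1,5,2,0,3,0]),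
   (3, [2,1,3,1]), (3, [4,1,4]), (3, [3,5,1,4,4]), (3, [1,2,5,1,2,2]), (3, [1,2,0,2,4,0]), (3, [3,5,0,5]),
   (2, [4,0,3,4,1]), (3, [3,0,3,4,3]), (3, [2,4,0,4,0]), (3, [5,0,2,1,2]), (3, [0,2,0,3,4,3]), (3, [2,4,2,4,0]),
   (2, [2,4,1,3]), (3, [0,3,3]), (2, [0,4,4]), (3, [0,3,1,5,5]), (3, [0,5,0,3,4]), (3, [3,5,1]),
   (3, [2,2,1,2,4]), (1, [1,5,1]), (3, [1,2,5,2,0]), (3, [0,2,4,3]), (3, [0,0,2,2,4]), (3, [5,0,2,2,0]),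
   (3, [1,3,1,4]), (3, [0,5,5,1,3,3]), (3, [0,3,0,2,5]), (3, [1,3,3,5,1,3]), (3, [4,1,2,2,5]), (2, [0,4,2,4,3]),
   (2, [3,3,0,2,1]), (3, [4,1,4,1]), (3, [0,4,0,5]), (3, [5,2,2,2]), (2, [0,5,3]), (1, [3,0,4,0]),
   (3, [4,3,3,0,0]), (3, [2,2,1,4,0]), (2, [0]), (3, [0,2,5,1,4,2]), (3, [0,0,4,4,0,3]), (3, [3,5,5,0,3]),
   (2, [0,5,5,0,3]), (3, [1,2,2,5,2]), (3, [2,2,4,0,4]), (2, [2,1,5,2,5]), (3, [5,3,5,3]), (3, [0,5,5,1,4,2]),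
   (3, [0,0,4,2,5]), (2, [3,3,1,3,4]), (3, [0,3,3,4,1,3]), (3, [0,0,3,1,4,2]), (3, [2,2,0,0,3,5]), (3, [0,4,1]),
   (3, [4,4,3,4]), (3, [2,0,0,2,4,2]), (3, [5,3,5]), (3, [1,5,0,4,0]), (3, [2,2,0,0,4]), (3, [4,4,1,2]),
   (1, [4,2,0,4]), (3, [2,2,1,3,1]), (2, [0,3,0,2,2]), (2, [5]), (3, [0,2,0,4,3,1]), (2, [4,4,4,2]),
   (3, [3,5,5,0]), (3, [3,4,2,5,3]), (2, [5,1,2,2]), (3, [2,0,0,5]), (3, [0,5,5,2,0]), (3, [0,5,2,2]),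
   (3, [4,2,5,1]), (3, [0,2,2,4,4,4]), (3, [1,4,2,0]), (2, [5,0,3]), (2, [0,3,0]), (2, [0,4,4,2,4]),
   (3, [5,3,4,0,3]), (2, [0,2,4,4]), (3, [1,2,5,3,4]), (3, [0,2,4,0,0,2]), (3, [0,2,4,2,2]), (2, [0,4,3,1]),
   (3, [4,1,4,3]), (3, [3,0,5,1]), (2, [3,1,2,2,4]), (3, [0,3,3,1,3,5]), (3, [0,5,2,5,5]), (2, [0,2,4,3,4]),
   (3, [0,2,0,4,3]), (3, [0,5,5,5,3,1]), (2, [0,3,4,0,4]), (3, [4,2,0,4,1]), (3, [5,1,2,2]), (3, [2,4,2,5]),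
   (3, [0,4,2,5,0,0]), (3, [1,4,0,5,0]), (2, [0,5,3,1,2]), (3, [1,4,2,0,0,5]), (3, [5,2,0,5]), (3, [5,5,3,1,5]),
   (3, [4,2,2,2,0]), (3, [0,4,4,0,5]), (2, [3,1,4,2,5]), (3, [0,0,3,5]), (2, [0,3,0,2,4]), (3, [4,3,4,2,0]),
   (3, [0,5,3,0]), (3, [5,0,4,2]), (2, [5,1,4]), (2, [0,4,1,3,1]), (3, [2,0,2,2,1,2]), (3, [1,3,5,3,4]),
   (3, [5,2,1,4]), (2, [3,3,4]), (2, [3,3,0,0]), (2, [5,0,2,1]), (3, [2,4,2,1,3]), (2, [4,4,0,2]),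
   (3, [1,3,5,5]), (3, [0,3,3,5,0]), (3, [0,4,0,2,4,2]), (3, [4,3,3,4,3]), (3, [5,2,2,4,1]), (2, [4,1,5,3]),
   (3, [4,3,3,1]), (3, [0,3,5]), (2, [3,4,2,0]), (3, [1,5,5,2,5]), (3, [2,0,5,5,1,2]), (3, [4,4,2,1]),
   (3, [3,0,0,3,3]), (3, [0,2,4,3,3,0]), (2, []), (2, [3,1,2,1]), (3, [0,3,5,0,3,5]), (3, [3,4,0,3,3,4]),
   (3, [0,0,3,0,5,5]), (3, [1,4,1,5,5]), (3, [0,4,1,5,1,3]), (1, [5,0]), (2, [3,3,1,4]), (3, [2,1,3,5,2]),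
   (3, [2,2,4,0,5]), (3, [0,0,2,1]), (2, [0,3,0,3,3]), (2, [0,5,5,3,5]), (3, [2,2,2,5,3]), (3, [0,3,1,4,2,2]),
   (3, [5,2,2,5,3]), (3, [4,3,1,2]), (3, [5,0,4,3,3]), (3, [0,0,4,1,4]), (3, [1,4,4,1,4,1]), (3, [1,3,5,1]),
   (2, [5,1,4,4,1]), (3, [4,3,0,2]), (3, [0,5,3,1,5,3]), (3, [1,2,0,3,1]), (1, [1,2,0,2]), (1, [5,5]),
   (3, [0,4,3,3,0]), (3, [0,2,4,2,0,3]), (3, [4,4,1,4,1]), (3, [0,4,1,5,2,2]), (3, [2,4,4,3,5]), (3, [3,4,3,1,4]),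
   (2, [3,5,5,1]), (3, [5,2,0,5,2]), (3, [4,1,2,2]), (2, [0,5,0]), (3, [0,2,1,4,3]), (2, [4,0,3,4]),
   (3, [0,5,5,0,5]), (3, [0,3,3,5,1,3]), (3, [0,4,4,0,4,0]), (3, [3,5,5,0,4]), (3, [1,2,5,1,3]), (3, [0,0,3,5,1,5]),
   (3, [4,0,4,4]), (3, [3,0,2,5,3]), (3, [3,4,4,1]), (3, [5,3,3,0]), (3, [0,3,3,0,2,2]), (3, [0,0,4,3,5,0]),
   (3, [1,3,0,0]), (2, [0,4,2,5]), (3, [1,3,4]), (3, [1,4,2,1,4,0]), (1, [0,3,0,5]), (3, [0,4,1,4,3]),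
   (3, [4,2,2,1]), (2, [0,3,0,4,0]), (1, [0,2]), (3, [0,0,4,3,5,5]), (3, [5,3,5,2]), (3, [5,5,3,4,0]),
   (3, [5,0,0,3,0]), (2, [2,0,0,5]), (3, [1,3,3,4]), (3, [4,3,1,3]), (3, [1,3,4,3,1]), (2, [0,4,3,0,2]),
   (1, [1,4,0,3]), (3, [5,3,0,4,4]), (2, [0,4,3,5,3]), (3, [4,2,1,3,5]), (2, [0,4,3,4,4]), (3, [0,0,4,3,5]),
   (3, [1,5,3,0]), (2, [3,3,4,3,1]), (3, [0,3,4,1,2]), (3, [2,1,5,1,2]), (3, [0,2,5,1,2]), (3, [0,2,2,0,5,1]),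
   (3, [3,4,2,0,5,2]), (3, [2,1,2,0,3,1]), (3, [5,5,1,3,4]), (3, [5,5,5,5,3]), (3, [5,5,1,3]), (2, [0,2,5,1,2]),
   (3, [4,0,0]), (3, [1,5,3,4,0]), (2, [0,2,5,2,4]), (3, [1,3,5,2,1]), (3, [0,3,3,5,0,4]), (3, [5,3,4,3,0]),
   (2, [5,0,3,0]), (3, [0,0,5,5,1,5]), (3, [1,5,2,5]), (3, [5,0,3,1]), (2, [4,4,0,2,0]), (3, [0,5,0,5,0,5]),
   (3, [2,5,5,3]), (2, [0,4,1,2]), (3, [2,0,3,0,0]), (3, [2,5,2,1,4]), (2, [3,4,4,0]), (2, [0,3,5,2,0]),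
   (2, [3,5,0,4]), (3, [2,2,4,0,2]), (2, [5,0,2]), (3, [5,3,4,2,1]), (3, [3,0,0,4]), (3, [3,4,2,5]),
   (3, [5,0,5,1,2]), (3, [1,3,1,2,5]), (3, [2,4,1,3]), (2, [0,3,4,4,0]), (3, [5,3,0,4,2]), (2, [2,2,2,4]),
   (2, [3,4,1,3]), (3, [2,2,5,3,5]), (3, [2,0,0,3,1,5]), (3, [0,3,1,4,2]), (3, [0,5,2,0,2,0]), (3, [1,2,0,0,5,0]),
   (2, [0,3,0,5]), (3, [4,2,1,4,1]), (3, [3,5,0,3]), (3, [2,1,3,5,1,4]), (2, [5,0]), (1, [5,2]),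
   (1, [3,5]), (1, [4,3,5]), (3, [0,3,4,1,2,2]), (3, [2,0,5,5,0]), (1, [2]), (3, [0,2,0,5]),
   (3, [5,0,0,5,2]), (3, [0,0,5,2,5]), (1, [0,2,2]), (1, [0,3]), (3, [2,0,4,4,2]), (2, [3,0,5,5,3]),
   (1, [5,0,5]), (1, [0,3,4,3]), (3, [0,0,5,1,3,1]), (3, [0,4,0,0,4]), (3, [3,4,0,3,4,1]), (3, [1,3,4,3,3]),
   (3, [5,3,5,5,5]), (3, [5,5,2,2]), (3, [2,4,1,3,3]), (3, [1,2,5,0,2]), (2, [0,3,5,0,4]), (2, [5,3,5,0]),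
   (3, [1,2,0,0,3,0]), (3, [0,0,2,4,0]), (3, [1,3,0,0,3]), (3, [0,4,0,2,5,2]), (3, [1,5,1,4,0]), (3, [1,3,4,4]),
   (3, [2,0,2]), (3, [5,3,0,2,1,4]), (2, [4,2,5,0]), (3, [0,4,1,3,1]), (3, [1,2,2,1,4,3]), (3, [0,3,1,4,4]),
   (3, [1,2,5]), (3, [4,4,3,5]), (3, [0,4,0,5,0]), (1, [2,1,2,0]), (2, [4,1,3,5]), (3, [4,2,4,4,0]),
   (3, [1,2,1,3,0,5]), (3, [0,3,0,5,3]), (3, [3,4,4,3,0]), (3, [4,2,0,3]), (3, [1,3,0,2,0]), (3, [4,2,2,0,5,2]),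
   (3, [1,5,3,1]), (3, [1,3,4,1,2,4]), (3, [0,5,2,2,2,1]), (3, [0,4,2,0,5,0]), (3, [0,2,2,5,1,3]), (3, [5,1,5,2,5]),
   (2, [3,0]), (3, [2,1,2,5,0,0]), (3, [3,4,0,3,0]), (3, [0,3,5,0,2,4]), (3, [3,0,5,1,3]), (1, [4,4,4]),
   (3, [2,2,2,0,4]), (3, [5,5,5,1,3]), (3, [2,5,1,5]), (3, [3,0,2,5,1]), (3, [4,4,2,1,4]), (3, [0,2,4,4,0]),
   (3, [0,3,3,1,5]), (3, [0,4,0,3]), (3, [0,0,4,0]), (3, [0,5,3,4,4]), (3, [0,0]), (1, [5,0,3]),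
   (3, [0,2,0,5,0,2]), (3, [3,4,2]), (1, [0,5]), (3, [3,5,2,5]), (2, [2,4,4]), (1, [1,5,3,5]),
   (0, [2,1,5,1]), (3, [2,0,5,3,4]), (2, [3,5,5]), (2, [0,4,3,0,5]), (2, [2,4,1,4,2]), (3, [0,5,1,4,1]),
   (3, [2,1,4,2,2]), (3, [0,0,4,2,4]), (3, [1,4,4,1,4,2]), (2, [0,3,5,5]), (3, [2,2,0,0,2,4]), (2, [3,3,4,3]),
   (0, [4,0]), (2, [5,1,4,3]), (3, [3,0,2,1,2]), (2, [4,3,5,0]), (1, [2,1,4,1]), (3, [1,3,3,0,3,4]),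
   (3, [0,2,2,5,1]), (3, [1,4,1,3,4,3]), (2, [3,1,3,0,2]), (2, [3,0,0]), (2, [3,1,3,0]), (3, [0,2,2,1,3]),
   (1, [4,3,3]), (3, [4,0,3,1,2]), (1, [4,2]), (3, [1,4,4,4,3]), (3, [0,4,4,4,1]), (2, [5,2,0]),
   (3, [2,4,3,0,4,4]), (2, [3,3,1,4,3]), (3, [0,5,5,2,4]), (0, [2,1]), (3, [2,5,0]), (3, [3,4,4,0]),
   (3, [5,0,0,4]), (3, [2,2,5]), (2, [3,1,3,1,3]), (1, [0,0,3]), (3, [0,4,4,4,0,2]), (3, [5,3,3,4,0]),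
   (3, [0,3,3,0,3]), (3, [0,4,3,4,0,5]), (3, [0,4,0,4,4]), (3, [0,0,4,4,2,0]), (3, [5,2,5,0,2]), (3, [0,4,0,2,4]),
   (3, [4,4,1,5,3]), (3, [2,2,0,0,5]), (2, [3,5,3,1]), (2, [0,2,5]), (3, [2,1,5,5,0]), (2, [2,0,3,3,0]),
   (3, [2,5,0,4]), (3, [0,4,3,5,3,1]), (2, [0,3,0,4,0,3]), (3, [1,3,4,3]), (3, [3,1,5,2]), (3, [4,3,3,0,0,2]),
   (2, [4,1,2,1,4]), (3, [1,5,2,5,0]), (2, [0,2,4,2,4]), (2, [0,5,2,5]), (3, [4,1,5,2,1]), (1, []),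
   (1, [2,0,5,1]), (3, [0,0,5,3,0,5]), (3, [4,0,0,4,4]), (3, [0,0,3,0,2]), (3, [4,2,2,1,3]), (3, [2,5,3,5]),
   (3, [0,0,5,5,1]), (3, [4,3,0,5,0]), (3, [2,5,2,1,3]), (3, [0,0,5,3,1]), (3, [2,0,3,1,3]), (3, [5,5,5,3,4]),
   (3, [5,1,5,1,4]), (3, [2,4,0,3]), (3, [5,0,0,3,4]), (3, [1,3,4,3,0,2]), (3, [5,3,1,2,1]), (3, [1,4,4,0]),
   (3, [0,0,4,0,0,3]), (3, [1,4,2]), (3, [0,0,3,1,3,1]), (3, [0,0,4,4]), (3, [0,5,3,5,3,0]), (3, [1,4,4,3,1]),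
   (3, [5,2,4,3]), (3, [3,0,0,3,5]), (3, [0,5,1,4,2]), (3, [5,1,2,2,0]), (3, [3,0,0,2,2]), (3, [0,2,1,5,1]),
   (3, [2,4,2,1]), (3, [3,4,0,0]), (3, [2,2,5,5,3,4]), (3, [0,4,2,4]), (3, [1,2,4,2,1,3]), (3, [3,5,5,3,1]),
   (3, [3,4,0,3,1]), (3, [1,2,4,1,5]), (3, [4,3,0,0]), (3, [0,0,3,0,4,0]), (3, [4,0,0,4,3]), (3, [2,2,5,0,2]),
   (3, [0,3,3,1,4]), (3, [3,1,5]), (3, [0,5,5,1,3]), (3, [5,0,4,1,4]), (3, [2,0,0,3,0,3]), (3, [0,4,1,5,1]),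
   (3, [0,4,0,4,1]), (2, [3,4,0]), (2, [0,5,2,5,2]), (3, [0,5,2,5,1]), (3, [4,0,0,3,3]), (3, [0,0,4,0,4,1]),
   (3, [2,1,2,2]), (3, [0,0,3,3,5,1]), (3, [0,5,2,1,5,0]), (3, [3,4,1,2,0]), (3, [1,2,4,2,5,3]), (3, [5,5,5,5]),
   (3, [2,5,3,3,0]), (3, [0,2,2,5,3,1]), (3, [1,4,3,4]), (3, [5,0,2,1]), (3, [0,2,1,3,5,1]), (3, [5,0,3,5,5]),
   (3, [2,0]), (3, [0,3,4,2,4]), (3, [0,2,4,4,3]), (2, [5,2,2,4]), (3, [0,3,5,5,2]), (3, [2,4,3,3]),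
   (3, [3,5,1,5]), (2, [4,0,2,1,4]), (3, [3,5,1,2]), (3, [0,2,0,5,0,4]), (3, [4,3,5,2,5]), (3, [0,0,3,5,1]),
   (3, [2,5,2,4,3]), (3, [2,2,0,2]), (3, [0,2,2,0,4,0]), (3, [1,5,0,3,5]), (3, [0,5,5,3,3]), (3, [4,0,2,5]),
   (3, [0,3,3,0,0]), (3, [1,3,3,5,3,4]), (3, [4,0,0,3,1]), (3, [0,2,2,0,5,3]), (3, [3,4,4,2]), (3, [0,2,0,3,1,5]),
   (3, [2,4,0,5]), (3, [0,3,0,0,5,5]), (3, [4,2,0,3,3]), (3, [4,4,4,0,2]), (2, [3,1,3,1]), (3, [0,3,3,4,1]),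
   (3, [0,3,1,3,3,1]), (1, [5,1,2]), (3, [2,4,4,3]), (3, [2,2,5,2,0]), (2, [5,3,1]), (2, [3,0,4,3]),
   (3, [1,2,1,2]), (3, [3,0,5,0,0]), (3, [1,2,4,0,2,5]), (3, [5,1,2,0,2]), (3, [3,5,2,5,3]), (3, [0,4,2,5,3]),
   (3, [0,4,4,1,5]), (3, [0,4,4,3,5]), (2, [0,2,1,4,4]), (3, [1,3,4,1,2]), (2, [3,3,4,1,2]), (3, [2,0,3,1]),
   (3, [1,3,5,1,3]), (2, [4,4,2]), (2, [0,2,2,5,3,4]), (3, [0,2,4,3,0,3]), (3, [0,0,4,1]), (3, [3,1,4,3]),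
   (3, [0,4,4,2,4,3]), (3, [0,0,3,1,2]), (2, [0,3,1,2]), (3, [0,4,4,0,3,0]), (2, [0,4,3,5]), (3, [0,4,1,2,4,2]),
   (3, [0,0,3,3,5,5]), (2, [0,3,5,5,0]), (3, [0,0,5,3,5]), (3, [0,4,0,0,5]), (3, [5,2,5,3,3]), (3, [5,0,4,4]),
   (3, [0,5,0,5]), (2, [2,1,4,0]), (3, [1,3,3,5,2,5]), (1, [4,1,2]), (3, [0,3,4,3,0]), (3, [2,5,0,2,0]),
   (3, [3,0,2,5]), (3, [0,2,2,4,2,5]), (1, [5,3]), (3, [2,5,3,3,4]), (3, [1,2,0,3,3]), (3, [2,5,2]),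
   (2, [3,1,5,3,5]), (3, [3,0,2,5,1,4]), (3, [1,5,3,4,3]), (3, [0,3,5,1,5,3]), (3, [4,3,5,5]), (3, [0,2,4,2,2,2]),
   (3, [0,0,2,4,3]), (3, [5,0]), (3, [0,5,0,2,2]), (2, [2,5,3,0]), (2, [4,2,1,5]), (2, [3,4,3,3]),
   (2, [5,5,5,1]), (3, [1,3,0,3,1]), (3, [4,3]), (3, [0,2,2,2,4]), (3, [4,2,0,5,5,0]), (3, [2,0,5,0,5]),
   (2, [4,2,1,4]), (3, [0,3,0,4,4]), (3, [0,2,0,3,0,4]), (3, [3,5,1,3,5,5]), (3, [1,4,0,5,3,5]), (2, [0,3,3]),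
   (3, [2,1,2,2,2]), (3, [5,5,2,4]), (3, [0,2,0,2,1,2]), (3, [3,5,5,1]), (3, [0,2,1,2]), (3, [1,2,2,0,3,1]),
   (3, [4,2,4,3,0]), (3, [5,3,1,4,0]), (3, [4,2,5,2,2]), (3, [4,0,3,4]), (3, [4,3,3,0,5]), (3, [0,3,4,1,4,0]),
   (3, [0,4,1,5,0]), (3, [1,4,3,0,3]), (3, [1,4,1,4,1,4]), (3, [2,4,3,4,0,3]), (1, [1,5,2]), (2, [3,0,5,0]),
   (3, [1,5,1,5,1,5]), (3, [0,0,2,5,1,4]), (2, [5,3,1,2]), (3, [3,5,3,4]), (3, [0,4,2,5,3,3]), (3, [1,2,4,0,0]),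
   (3, [1,3,4,1,4]), (3, [2,0,3,1,3,4]), (3, [0,0,3,5,3]), (3, [1,5,3,0,5]), (3, [0,2,2,0,0]), (2, [0,5,2,0]),
   (2, [3,1,4,1]), (3, [5,5,0,3,0]), (1, [3]), (3, [0,4,3,5,3,0]), (2, [3,5,3,0,5]), (3, [1,4,4,3,3]),
   (3, [1,4,0]), (3, [0,0,5,3,0,2]), (3, [2,1,3,3,4,3]), (3, [1,2,5,5,0,3]), (3, [2,0,2,2]), (3, [0,2,2,1,2]),
   (3, [1,3,0,2,1,5]), (3, [0,5,0,3,5]), (3, [5,5,0,0]), (2, [0,3,0,4,4]), (2, [0,3,4,3]), (3, [0,3,1,5,2,2]),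
   (3, [0,0,2,4,1]), (3, [2,5,1,2,0]), (2, [5,2,1,5]), (3, [0,3,5,1,5]), (3, [2,1,2,0,5]), (3, [4,3,5,1,4,3]),
   (3, [0,2,5,3,4,1]), (3, [2,4,0,3,4]), (3, [0,3,1,4,3]), (3, [4,2,4,0,2]), (3, [2,4,3,5,0]), (3, [5,0,3,5]),
   (3, [2,1,5,2,0]), (3, [2,5,5,0,5]), (3, [3,5,1,3,1]), (3, [3,0,0,3]), (3, [3,5,1,4,0,0]), (3, [4,4,1,4,1,2]),
   (3, [0,3,4,3,5,5]), (3, [4,3,5,2,0]), (3, [5,2,5,3]), (2, [3,3,5,3]), (2, [2,1,4,4]), (3, [3,5,5,1,2,4]),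
   (3, [0,3,4,3,0,3]), (2, [3,3,4,1]), (2, [0,3,1,5,5]), (3, [1,3,5,3]), (3, [3,5,0,0]), (3, [4,4,3,0,0]),
   (3, [5,3,3,0,3]), (1, [1,2,5,5]), (2, [0,2,0,4]), (3, [0,4,0,0]), (3, [2,4]), (2, [5,1,5,3]),
   (3, [1,3,1,3,0]), (3, [4,4,4]), (3, [2,0,2,2,4,1]), (3, [2,1,4,1,5]), (3, [1,2,0,0]), (3, [5,5,2,4,4]),
   (3, [2,0,3,1,4]), (3, [4,2,1,5,1]), (3, [2,0,3,4,2]), (3, [2,1,2]), (3, [0,3,3,0,0,4]), (3, [2,4,3,1,3]),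
   (3, [0,3,5,5]), (3, [4,4,4,0]), (3, [0,0,5,5,3,5]), (3, [2,2,2,4,2]), (3, [2,0,2,2,4]), (3, [0,3,0,3]),
   (3, [2,5,2,5]), (3, [0,5,0,0,3,4]), (3, [1,5,0,3,0]), (3, [1,4,4,2,4,2]), (2, [3,4,2,4]), (3, [0,3,5,5,1]),
   (2, [2,2,2,1]), (3, [0,0,2,4,2,4]), (3, [0,2,4,3,4]), (3, [3,4,3,5,2]), (3, [1,4,2,4,0,4]), (3, [0,2,2,0,5]),
   (3, [5,2,5,0,0]), (3, [4,0,2]), (3, [0,3,4,1,2,0]), (3, [0,4,0,5,2,4]), (3, [0,3,3,4,2,1]), (3, [4,3,0,3,3]),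
   (2, [0,4,2,1,5]), (3, [0,2,2,4,4,1]), (2, [2,1,2,5]), (3, [2,2,0]), (3, [0,2,2,1,4]), (3, [1]),
   (3, [2,5,5,5]), (3, [2,2,0,0,3]), (3, [5,5,2,2,0]), (3, [0,2,0,3,4]), (3, [1,4,2,4]), (3, [1,2,1]),
   (3, [0,0,5,0,3]), (3, [3,5,2,5,5]), (3, [0,4,1,2,5]), (3, [2,5,2,2]), (3, [2,5,1,2,5]), (3, [5,2,2,0,2]),
   (3, [2,1,2,0,3]), (3, [3,5,0,0,4]), (3, [0,5,2,4,2]), (3, [4,0,4,2,2]), (3, [5,3,5,1,5]), (3, [5,5,5,1]),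
   (2, [0,2,0,3,3]), (2, [5,3,0,2]), (3, [5,5,0,5]), (2, [0,3,0,3,4]), (3, [5,1,3,5,5]), (3, [4,0,3,1,5,2]),
   (1, [1,4,4,1]), (3, [2,2]), (3, [3,0,0]), (3, [0,0,3,4,3]), (3, [0,5,3,4]), (3, [3]),
   (3, [1,4,3,4,3]), (3, [5,1,5,1]), (3, [0,2,4,0,0]), (2, [0,2,1,2,5]), (3, [4,2,0,0,3]), (3, [5,2,4,4,4]),
   (3, [2,1,2,5,1]), (2, [4,0,2,1]), (3, [2,2,4,3,1]), (3, [5,2,4]), (3, [5,3,3,5]), (3, [1,2,5,1,3,3]),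
   (3, [4,4,0,3,0]), (3, [1,3,1,5,5,1]), (3, [0,3,1,5]), (3, [4,1,4,4]), (3, [2,5,3,0,2]), (3, [4,4,0,4]),
   (2, [0,4,0,3]), (3, [2,4,3,5,2]), (1, [4,4,3]), (2, [0,2,1,2,0]), (3, [1,3,1,2,1]), (3, [4,2,1,5,3]),
   (3, [3,0,2,1,4]), (3, [2,0,0,2,5]), (3, [0,4,4,0,0]), (3, [4,1,5,2,0]), (3, [0,5,3,0,5]), (3, [0,2,5,1,4]),
   (3, [1,5,5]), (2, [3,4,0,4,1]), (2, [3,4,2]), (2, [0,4,4,1]), (3, [0,4,2,5,2,1]), (3, [4,0,2,5,5]),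
   (3, [0,0,3,1,3,4]), (2, [0,3,4,2]), (2, [3,1,5,3]), (3, [0,5,0,3]), (3, [0,5,2,1]), (3, [0,5,3,5]),
   (3, [0,5,1,3]), (2, [0,5,5,2,0]), (2, [4,4,1]), (3, [4,0,4,3,0]), (3, [0,0,3,0,0,4]), (1, [3,0,4]),
   (2, [2,5,3,1]), (2, [2,0]), (3, [0,0,2,0,3]), (3, [2,2,4,3,4]), (2, [0,3,1,2,5]), (2, [3,1,2,5]),
   (3, [2,2,5,0,4]), (3, [0,4,3,4,4,0]), (3, [2,2,1,5]), (3, [1,4,3,5,2]), (2, [4,2,4,4]), (3, [0,0,5,5,0]),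
   (1, [1,2,2,5]), (3, [2,1,5,5,3]), (3, [5,3,4,0]), (3, [1,4,2,2,4]), (3, [3,0,3,4,2]), (3, [5,2,0,5,5]),
   (3, [3,4,2,2,2]), (3, [2,1,5,5]), (3, [0,2,4,4,2]), (3, [0,0,5,1,3,4]), (3, [3,4,2,2]), (3, [4,2,4,4]),
   (3, [5,0,0,4,3,0]), (3, [1,2,5,0,2,1]), (3, [0,4,1,3,0,0]), (3, [0,2,4,4,4,1]), (3, [0,0,4,0,5]), (3, [0,3,5,0,4,0]),
   (2, [0,2,0]), (3, [0,4,4,2]), (3, [2,4,4,2,5]), (3, [2,0,3,5]), (3, [2,0,3,5,3]), (3, [3,4,2,4,0]),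
   (3, [3,0,3,4]), (3, [0,4,2,0,3]), (3, [1,2,2,1,3]), (3, [2,0,5,0,3]), (3, [0,2,5,5,5]), (3, [1,5,2,1,5]),
   (3, [1,5,2,4,2]), (3, [0,4,4]), (3, [2,0,2,4,3]), (3, [4,4,1,3]), (3, [1,2,0,3,5]), (3, [0,4,2,2,0,3]),
   (3, [2,0,4,1,4]), (3, [0,2,5,0,3]), (3, [4,1,4,0,4]), (3, [4,2,0,4]), (3, [3,1,4,2,4]), (3, [2,1,3,3,4]),
   (3, [2,4,4]), (3, [4,2,2,1,4]), (3, [0,3,5,0]), (3, [0,5,5,0,3,0]), (3, [4,2,1]), (3, [0,5,5,3,0,3]),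
   (3, [0,4,2,1,5]), (3, [0,5,2,4,3]), (3, [5,2,0,3]), (3, [5,2,2,1]), (2, [2,4,2]), (2, [4,4,4,3]),
   (2, [4,3,5,1]), (2, [2,0,5,0]), (3, [4,4,1,5]), (3, [0,5,0,5,0,2]), (3, [2,2,2,5,5]), (3, [2,2,4,3,0]),
   (2, [2,4,1]), (2, [5,1,3,0]), (1, [0,0,4]), (3, [1,5,5,5,0,3]), (3, [0,3,0,2,4,2]), (3, [0,2,0,0,3]),
   (3, [1,5,0,4,1]), (3, [0,0,4,3,0,2]), (3, [3,0,0,3,5,0]), (3, [1,3,1,4,1]), (3, [0,0,3,1,3]), (3, [5,0,5,0,5]),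
   (3, [2,0,2,1,2]), (3, [0,0,5,3]), (3, [4,3,4,2,5]), (3, [0,4,1,2,0,3]), (3, [5,3,0,4,3]), (3, [3,1,4,2]),
   (2, [0,2,4,2]), (3, [3,0,5,2,4]), (2, [0,3,0,5,2]), (3, [0,0,2,2,2,5]), (3, [0,0,4,1,2,2]), (1, [0,2,2,4]),
   (3, [2,1,4,2]), (2, [3,3,1,2]), (2, [0,3,0,4,4,2]), (3, [5,0,5,1]), (2, [3,0,4,4,2]), (3, [0,0,5,2,0,3,4]),
   (3, [3,4,4,0,4]), (2, [2,2,2,1,4]), (3, [4,0,3,1]), (3, [0,3,3,4,2,4]), (3, [3,0,4,2,2,5]), (3, [0,2,1,3,4,3]),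
   (3, [2,2,5,5]), (3, [1,3,3,5,1]), (3, [2,0,3,1,5]), (3, [0,2,1,5,2,5]), (3, [0,5,3,1]), (3, [2,4,4,0,3]),
   (3, [1,2,0,0,5,5]), (3, [0,3,0,3,5,5]), (3, [3,0,5,3,3]), (3, [0,0,4,2,0,0]), (3, [4]), (3, [3,5,0,0,5]),
   (3, [0,0,3,5,2,4]), (3, [0,0,2]), (2, [0,4,4,2]), (2, [0,4,1,3]), (3, [0,0,5,1,3]), (3, [2,5,3,0,5,3]),
   (1, [2,4]), (2, [3,3,0,4]), (3, [0,2,4,1,3,3]), (3, [3,4,4,0,5]), (2, [2,0,3,0,5]), (2, [0,3,4,2,4]),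
   (3, [3,0,5,2,5]), (3, [1,2,0,4,4,2]), (2, [3,1,2]), (3, [0,3,4,0,2,0]), (3, [4,2,0,5,5]), (3, [0,0,5,3,0,3]),
   (3, [0,2,0,2,4]), (3, [0,3,1,4,2,5]), (3, [1,3,1,4,3]), (3, [2,1,3,5,0]), (3, [5,2,5,2,2]), (3, [1,5,0,4,3]),
   (3, [5,5,3,1,2]), (3, [3,0,0,2,5]), (3, [5,2,5,2,5]), (3, [0,3,5,1,5,5]), (3, [1,2,4,0]), (3, [0,4,2,5,5,2]),
   (3, [5,0,0,5,3]), (3, [3,4,0,2,1]), (3, [4,0,3,5,5]), (3, [0,3,4,0,3,4]), (3, [2,4,1,4,4]), (3, [1,3,4,0,4]),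
   (3, [0,2,5,3,1]), (3, [1,2,5,0,5]), (3, [0,2,0,2,1,3]), (3, [1,4,0,2,0]), (3, [0,3,1,3,4,4]), (3, [2,2,4,2,2]),
   (3, [2,0,2,0,2]), (3, [3,0,2,4,2]), (3, [0,0,3,1,2,2]), (3, [3,1,4,1,5]), (3, [0,3,0,5,5]), (2, [5,2,2]),
   (2, [2,0,3,4,2]), (3, [2,2,5,0,3,1]), (3, [5,5,1,5]), (2, [0,5,2,2]), (2, [2,2,4,0,5]), (3, [3,4,4,4,2]),
   (3, [3,4,2,2,5]), (1, [0,3,0,4,1]), (2, [0,2,0,5,2]), (3, [2,5,2,4]), (3, [0,2,5,0,3,5]), (2, [0,4,2,1,4]),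
   (1, [4,2,0,0]), (3, [5,1,5,3,0]), (2, [0,5,2,4,1]), (3, [1,5,2,4,2,4]), (3, [3,0,3,4,0,0]), (2, [0,4,3,4,3]),
   (3, [1,4,4,4,2,0]), (2, [2,0,2,0,5]), (2, [0,3,1,5]), (3, [0,2,1,3,1]), (2, [2,2,0]), (3, [0,3,3,4,0]),
   (3, [0,3,0,4,3]), (2, [4,0,4]), (3, [0,2,0,3,1])]

theorem hbaseT : (∀ x ∈ baseT, x < 2 ^ 24) ∧ baseT.Nodup := by decide +kernel

theorem hgenT : ∀ g ∈ gensT, genChkS baseT g = true := by decide +kernel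

theorem hrootsT : ∀ r ∈ rootsT, (∀ x ∈ r, x < 2 ^ 24) ∧ r.Nodup := by decide +kernel

theorem hclsT : ∀ e ∈ tabT, e.1 < rootsT.length := by decide +kernel

theorem hincT : incChk (tabKeys gensT rootsT tabT) 0 = true := by decide +kernel

theorem hinvT : ∀ c < rootsT.length, ∀ c' < rootsT.length,
    invLE 2 baseT (rootsT.getD c []) = invLE 2 baseT (rootsT.getD c' []) → c = c' := by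
  decide +kernel

theorem hlenT : tabT.length = 3795 := by decide +kernel

theorem hcountT : ∀ c < rootsT.length, (tabT.filter (fun e => e.1 == c)).length = sizeT c := by
  decide +kernel

end Cfsg.Agent.Lib_lead_MixSextTrio
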