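import Mathlib
import Cfsg.Prelude.Def_SporadicCombinatorics
import Cfsg.Agent.Lib_lead_ObjOrb4

/-! Orbit certificate: triad stabilizer on sextets. Generators of the stabilizer of the base family, and every member
of the other family as the image of one of the orbit representatives under a word in them. -/

set_option autoImplicit false

namespace Cfsg.Agent.Lib_lead_MixTriSext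

open Cfsg Cfsg.Agent.Lib_lead_Golay Cfsg.Agent.Lib_lead_GolayPerm Cfsg.Agent.Lib_lead_M24
  Cfsg.Agent.Lib_lead_M24Chain Cfsg.Agent.Lib_lead_M24Orb Cfsg.Agent.Lib_lead_ObjOrb
  Cfsg.Agent.Lib_lead_ObjOrb3 Cfsg.Agent.Lib_lead_ObjOrb4
open scoped Pointwise

/-- the base family -/
def baseT : List ℕ := [7]

/-- generators of the stabilizer of the base family -/
def gensT : List (List ℕ × List ℕ) :=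
  [([0, 1, 2, 7, 6, 22, 16, 21, 17, 11, 19, 5, 23, 4, 18, 13, 8, 15, 3, 9, 10, 12, 20, 14], [0, 1, 2, 18, 13, 11, 4, 3, 16, 19, 20, 9, 21, 15, 23, 17, 6, 8, 14, 10, 22, 7, 5, 12]),
   ([0, 1, 2, 18, 13, 11, 4, 3, 16, 19, 20, 9, 21, 15, 23, 17, 6, 8, 14, 10, 22, 7, 5, 12], [0, 1, 2, 7, 6, 22, 16, 21, 17, 11, 19, 5, 23, 4, 18, 13, 8, 15, 3, 9, 10, 12, 20, 14]),
   ([1, 2, 0, 9, 11, 23, 7, 3, 16, 8, 22, 17, 6, 19, 20, 21, 14, 15, 18, 12, 5, 4, 13, 10], [2, 0, 1, 7, 21, 20, 12, 6, 9, 3, 23, 4, 19, 22, 16, 17, 8, 11, 18, 13, 14, 15, 10, 5]),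
   ([2, 0, 1, 7, 21, 20, 12, 6, 9, 3, 23, 4, 19, 22, 16, 17, 8, 11, 18, 13, 14, 15, 10, 5], [1, 2, 0, 9, 11, 23, 7, 3, 16, 8, 22, 17, 6, 19, 20, 21, 14, 15, 18, 12, 5, 4, 13, 10])]

/-- orbit representatives -/
def rootsT : List (List ℕ) :=
  [[2632, 311424, 1708032, 2098464, 4194311, 8462352],
   [101, 45058, 262536, 3277312, 4800512, 8391696],
   [202, 90116, 525072, 1212417, 6554624, 8394784]]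

/-- orbit sizes -/
def sizeT (c : ℕ) : ℕ := ([21, 630, 1120] : List ℕ).getD c 0

set_option maxRecDepth 1000000 in
/-- class and word of every member, sorted by key -/
def tabT : List (ℕ × List ℕ) :=
  [(1, [2,0,2,2,0]), (1, [0,0,3,0,0,2]), (2, [3,0,2,2,2,0,2]), (1, [0,2,0,3,3,1,2]), (2, [2,2,0,2,1]), (2, [1,3,0,0]),
   (2, [1,2,0,0,3,0]), (2, [3,0,2,0,3]), (2, [3,0,0,0,2,0]), (1, [0,3,0,0,2]), (1, [3,0]), (2, [3,1]),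
   (2, [0,2,2,0,2,0,0]), (2, [2,1,1,3,1,3]), (1, [1,2,1,1,1,3]), (2, [1,1,2,2,1,1]), (2, [0,2,0,0,3,0]), (2, [2,0,3,3]),
   (1, [2,0,0]), (2, [0,2,2,0,0,3]), (1, [0,3,3,3,0]), (2, [2,1,3,3,0]), (1, [0,2,2,1]), (1, [3,3,0,3,3]),
   (2, [3,0,3,0,0,2]), (2, [1,1,2,1,2,1]), (2, [2,0,2,1,3,0,3]), (1, [3,3,0,2,0]), (2, [1,2,2,1,2,2]), (2, [0,2,0,3,1,1]),
   (1, [0,2,0,0]), (2, [1,3,0,2,2,0]), (2, [0,2,0,0,3,0,0]), (2, [0,0,3,0,3,0]), (1, [1,1,3,1]), (1, [2,0,0,2,1,1]),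
   (2, [1,1,2,0,2,1]), (2, [0,3,3,0,2,1,1]), (2, [2,0,3,3,1,2]), (2, [3,1,3,0,0,0]), (2, [0,3,1,1]), (2, [1,3,0,0,3,3]),
   (1, [2,0,2,2,0,2]), (2, [0,3,1,3,0,3]), (2, [0,0,0,3,3,0]), (2, [1,2,1,3,1]), (2, [2,1,2,1,2,0]), (2, [2,2,2,2,2]),
   (2, [1,2,0,3,3,1]), (2, [0,0,3,0,3,1]), (1, [0,2,1,3,1,3]), (2, [0,0,2,1]), (2, [3,3,0,2,0]), (2, [1,2,0,3,3,0,0]),
   (2, [0,2,2,1,3,0,0]), (2, [1,1,3,1,2,2,1]), (2, [0,3,0,3]), (2, [0,2,0,2,2,0]), (2, [0,3,1,1,3,3]), (2, [1,3,0,0,2,1,3]),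
   (2, [0,0,2,1,3,0,0]), (2, [1,3,0,3,1,2,2]), (2, [2,1,3,0,0]), (2, [1,3,1,3,1,3]), (2, [1,2,1,1,3]), (1, [2,0,2,1]),
   (1, [2,1,3,3,3,1]), (2, [1,3,0,2,1]), (2, [0,3,0,2,0,2]), (2, [3,3,3]), (1, [0,3,0,2,0,2,1]), (2, [1,3,0,3,1]),
   (2, [2,0,0,3,1,1,3]), (2, [0,3,1,3,3,1,2]), (2, [0,3,3,1,1,2]), (1, [1,1,2,2,2,1]), (1, [0,0,0,3,3]), (2, [1,3,3,1,1]),
   (2, [0,0,2,0]), (2, [1,3,3,3,3,1,3]), (2, [0,3,0,2,2,2]), (2, [2,2,0,2]), (1, [0,3,0,2,1]), (1, [3,3,0]),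
   (1, [0,0,0,2,2]), (2, [1,1,1,3,0,3,1]), (2, [1,1,2,1,2,2]), (2, [0,3,3,0,2,1]), (2, [1,3,3]), (2, [0,2,1,2,0]),
   (2, [3,3,1,1,2]), (2, [0,2,0,0]), (2, [2,0,0,3,1]), (2, [0,2,1,3,3,3,1]), (2, [0,2,2,1,3,0]), (1, [0,2,1,2]),
   (2, [1]), (1, [0]), (2, [0,2,1,3,0,0,3]), (1, [0,0,0,2,0]), (2, [3,0,3,3,1,2]), (1, [1,2,2]),
   (2, [0,3,1,1,2,0]), (2, [1,1,2,1,3,3]), (2, [0,3,3,1,2,0]), (2, [0,3,1,3,1,3]), (2, [3,1,2,1,1]), (2, [0,2,2,1,2,0,0]),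
   (1, [1,2,0,0]), (1, [2,1,2,1,3]), (2, [0,2,0,2,0,0,3]), (1, [0,3,0,2,0,2,2]), (1, [2,1,2]), (2, [0,0,0,2,1,3,1]),
   (2, [1,1,1,3,3,1]), (2, [3,3,1,1,3]), (2, [2,0,3,0,3,3,1]), (2, [1,3,0,2,0]), (2, [1,2,2,0,0]), (1, [2,2,2,2,1]),
   (2, [0,0,2,0,3,1,2,2]), (2, [1,2,0,3,3]), (2, [0,3,1,3,1,1]), (2, [1,1,3,1,3]), (2, [1,3,0,2,1,1]), (2, [3,1,2,0]),
   (1, [3,1,3,3,1,2]), (2, [0,2,1,3,3,1,2]), (2, [0,0,0,3,0,2]), (1, [0,3,0,3,1,2]), (1, [0,2,1,2,2,0]), (2, [2,1,2,2,1,1]),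
   (1, [2,2,0,3,0,0]), (2, [2,2,0,2,0,3]), (1, [0,0,0,2,1]), (1, [0,0,2,1,1,3]), (2, [1,2,0,0,3]), (1, [2,2,2,1,1]),
   (2, [2,1,2,0,2,1]), (2, [2,1,1,2,1]), (1, [1,3,1,2,2,0]), (2, [2,1,1,3,3,1]), (2, [0,2,1,3,0,0]), (2, [3,1,2,2,2]),
   (1, [0,2,0,0,2,0]), (1, [0,3,0,2,0]), (1, [1,2,2,0,3]), (1, [1,3,3,1,3]), (2, [0,3,3,0,2,2,0]), (1, [0,0,0,3,1,1]),
   (2, [0,0,0,3,0]), (2, [3,0,3,0,0]), (2, [2,2,2,0]), (2, [1,2,2]), (2, [0,2,0,0,2,1,2]), (1, [1,2,1,2]),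
   (1, [0,2,1,2,2]), (2, [1,1,2,2,2,1]), (2, [1,1,1,3]), (2, [2,0]), (1, [0,3,0,0,3,1]), (1, [3,3,1]),
   (1, [0,3,3,3,1]), (1, [2,0,2,1,3]), (2, [1,2,1,3,0]), (1, [2,2,1,1]), (1, [2,0,2,1,3,0]), (2, [0,0,2,0,2,0,2]),
   (1, [1,2,2,0,3,0]), (2, [3,1,2,1]), (2, [1,1,1,3,0,3]), (1, [1,1,2,1,3]), (1, [2,2,2,2,0]), (1, [0,3,0,2,0,2]),
   (2, [1,1,2,1,1,3]), (1, [2,1,2,0,0,2]), (2, [0,2,0,0,0,3,1]), (2, [0,3,0,0,0,3]), (1, [0,3,3,0]), (2, [1,2,1,3,1,1,2]),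
   (1, [0,3,1,2,0,0]), (2, [0,0,3,0,3,3]), (2, [0,0,3,1,3,3]), (2, [0,3,1,3,0,0,2]), (2, [3,0,3,1,1,2]), (1, [0,0,2,2]),
   (1, [0,2,0,3,3]), (1, [2,2,0,3,3]), (1, [3,0,2,0]), (1, [3,0,2,0,2,2]), (2, [2,1,2,2,2,0]), (2, [2,1,3,3,1,1,2]),
   (2, [1,1,2,2,2,1,2]), (1, [3,3,1,3]), (2, [0,2,2,0,0,2]), (2, [0,3,3,3,1,2]), (1, [1,2,2,0,2]), (2, [0,3,3,0,0,0]),
   (2, [3,3,1,1,1]), (2, [3,3,3,1]), (2, [0,3,3,0,3,1,2]), (2, [3,1,1,1,3,0]), (0, []), (2, [0,0,2,1,2,0]),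
   (1, [1,1,3,1,1]), (2, [1,1,2,1]), (2, [1,1,2,2,1,1,1]), (2, [0,2,0,0,2,2]), (0, [1,2]), (2, [3,0,0,3,1,2]),
   (1, [3,3,1,1,3]), (1, [1,3,3,0,0]), (2, [0,0,2,2,0]), (1, [1,3,0,0,2]), (2, [2,1,3,0,3]), (2, [0,3,0,2,1]),
   (2, [1,1,3,0,2,2]), (1, [2,0,3,1,2]), (1, [0,2,2,2,0,2]), (2, [0,2,1,2,0,3,3]), (1, [0,2,0,3]), (2, [1,3,3,1,2]),
   (1, [0,0,2,0,3,3,1]), (2, [3,0,3,0,3]), (2, [2,1,1,3,0]), (1, [0,3,1,3,1,3,3]), (1, [1,1,1,3,1,1]), (1, [0,3,1,3,1,3,0]),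
   (2, [0,0,0,2,1,3,0]), (1, [0,3,3,1,1,3]), (2, [1,3,3,3,1,2]), (2, [0,2,2,1,3,3,1]), (2, [0,2,0,2,1,1,2]), (2, [1,1,1,3,0]),
   (2, [3,3,3,1,3]), (2, [3,0,3,1,2,2,0]), (1, [2,2,0,2,0]), (1, [0,0,3,3,0]), (2, [2,0,2,2,1,1]), (2, [0,2,0,3,3,3,3]),
   (1, [3,1,3,3]), (1, [1,3,0,0]), (1, [0,0,2,2,2]), (1, [0,0,2,2,0,0,3]), (2, [3,0,2,2,2,1,3]), (1, [1,2,0,0,2]),
   (1, [3,1,1,1,2,0]), (1, [2,2,2]), (1, [1,1,2,0,3]), (1, [0,2,2,1,1,3]), (2, [2,0,2,2,2,1]), (2, [0,0,3,3,0,3]),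
   (2, [2,0,3,3,0,0]), (2, [0,2,1,3,1,3,0]), (2, [1,1,2,0,2,1,2]), (2, [1,1,3,0,0,3]), (2, [2,0,0,3,3,0,0]), (2, [3,3,3,0]),
   (1, [3,3,0,3,1]), (2, [0,0,3,0,2,2]), (2, [0,3,3,0,2,0]), (1, [2,1,3,1,1]), (1, [2,0,2,2,0,3]), (2, [2,1,2,0]),
   (1, [2]), (2, [3,1,3,0]), (2, [3,1,3,1,1,3]), (2, [1,1,3,3,1,3]), (2, [3,0,2,2,2]), (2, [3,0,0,3]),
   (1, [0,2,2,0,2]), (1, [0,0,2,1,1,2,0]), (1, [2,2,2,1,3]), (2, [2,1,2,0,3,1,2]), (2, [0,2,1,1,3,0]), (2, [2,0,0,3]),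
   (1, [0,3,1,1,2,0]), (1, [1,1,3,1,2,0]), (2, [1,1,3,1,2,2]), (2, [0,0,3,1,1,3]), (1, [0,2,2,1,2]), (2, [1,3,0,0,2,1]),
   (2, [1,1,2,1,3]), (2, [0,2,1,1,1,3,0]), (2, [3,1,1,3]), (2, [0,0,0,3,1,2]), (2, [1,1,2,0,2,0]), (1, [1,1,2,0]),
   (2, [2,1,2,1]), (1, [1,3,3,1,1]), (1, [3,1,1,3,1,3]), (1, [1,1,3,3,3]), (2, [0,0,2,1,1]), (2, [0,2,1,3,1,3]),
   (2, [3,0,3]), (1, [2,1,1,3,1]), (2, [1,2,1,1,3,1]), (2, [3,1,2,1,2,1]), (2, [2,1,2,0,2,1,2]), (2, [1,1,2,2,2,0,0]),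
   (2, [1,1,1,3,3]), (1, [1,3,0,0,3,3]), (2, [1,2,0,0,2,1,2]), (2, [1,1,3,1,1]), (1, [0,2,1,1,3]), (2, [2,2,1,1,3,1]),
   (1, [0,0,3,1,1,2]), (2, [2,2,2,2,1]), (2, [0,2,0,3,1,2]), (1, [2,2,0,3,3,3]), (2, [0,2,2,2,1,1]), (2, [0,0,3,1,3]),
   (1, [0,3,0,2,2,2]), (2, [2,2,2,0,2,2]), (1, [0,3,3,1,1,2]), (2, [0,0,2,1,2,1]), (2, [0,2,1,2,1,3]), (2, [0,3,3,0,3,0,0]),
   (2, [0,0,0,3,3,1,2]), (1, [0,2,1,1,1,3,0]), (2, [3,3,0,3,0]), (1, [2,1,1,2,1,3]), (2, [1,2,0,0,3,3]), (2, [0,3,1,2,2,0]),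
   (2, [0,2,1,1,2,2]), (2, [0,3,3,3,3,1]), (1, [3,3,1,1,2]), (2, [3,1,2,0,2,2]), (2, [2,0,2,2,1,3,0]), (2, [0,0,0,2,2,1,2]),
   (2, [0,3,0,2,2]), (2, [0,0,2,0,3,0]), (2, [2,0,2,2,1,2]), (2, [2,1,3,3,3]), (1, [1,3,0,0,0,2]), (2, [2,2,2,0,3,3]),
   (1, [0,2,1,1,2,2,0]), (1, [0,0,2,2,1]), (2, [0,0,3,0,3]), (2, [3,1,2,2,0,3,3]), (2, [1,2,0,0,2,1]), (2, [2,0,0,0,3]),
   (2, [0,3,1,1,2]), (1, [0,3,3]), (2, [0,2,1,2,1,3,0,3]), (2, [3,1,1,1,2]), (1, [0,2,1,3,0]), (2, [2,0,2,0,0,3]),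
   (1, [0,2,0,3,1]), (1, [0,3,0,0,3]), (2, [0,3,1,1,3]), (1, [0,2,0,0,0]), (2, [3,1,1,3,0]), (1, [1,3,3,0,2,0]),
   (2, [0,2,0,0,3,3,0]), (1, [1,2,1,2,2]), (2, [0,3,3,1,2,1,1]), (2, [0,3,0,3,0,3]), (1, [0,3,3,1,1]), (2, [1,3,0,3]),
   (1, [1,3,1,2,2]), (1, [2,2,0,2,2]), (2, [0,2,0,0,3,0,3]), (2, [2,2,2,1,3]), (2, [2,1,3,1,1,2]), (2, [1,2,0,2,1]),
   (2, [0,2,2]), (2, [0,2,2,1]), (2, [1,2,0,0,0,2]), (2, [3,3,1,1,1,2]), (2, [1,2,2,2,0,3]), (1, [0,3,3,1,1,3,0]),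
   (2, [1,1,1,3,0,2]), (1, [0,3,3,0,2]), (0, [0,3,0]), (2, [3,1,3,0,3,3,1]), (0, [0,3]), (2, [0,2,0,0,0,2,2]),
   (2, [2,2,1,1,2,1,2]), (1, [0,2,0,3,3,1]), (2, [2,2,0,3]), (2, [0,3,0,0,3,3]), (1, [1,1,2,2]), (2, [0,2,2,1,2,1,1]),
   (2, [1,2,0,3,0]), (2, [3,0,2,2,2,0]), (1, [2,1,3,0]), (2, [1,2,0,3,1]), (2, [0,0,3,0,2,0]), (1, [0,0,0,2,1,2]),
   (2, [0,2,0,3,1,3]), (1, [1,1,3,3,0]), (2, [1,1,3,1,2,0]), (2, [0,3,0,2]), (1, [2,0,0,2]), (2, [0,3,1,3,0,2,1]),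
   (2, [2,2,0,3,0]), (2, [0,0,0,3,0,2,2]), (2, [1,1,2,2,0,3]), (2, [2,0,0,2]), (2, [2,2,1,2,1,2]), (1, [3,3,3,3,1]),
   (1, [1]), (2, [0,0,0]), (1, [3,1,3,3,1,3]), (1, [2,2,2,1,1,3]), (1, [3,3,0,2]), (2, [2,0,0,2,0,2]),
   (2, [0,3,3,0]), (2, [0,2,1,2,1,1,1]), (2, [0,2,1,2,0,3]), (1, [3,3,1,1,2,0]), (2, [0,0,2,0,2,2,2]), (2, [0,3,3,0,3,0]),
   (1, [0,0,3,1,1,1]), (2, [2,2,1,1,2,1]), (2, [1,3,0,2]), (1, [0,0,0,3]), (2, [3,3,3,3]), (2, [0,0,2,0,3,1]),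
   (2, [0,3,3,1,1]), (0, [1,1]), (2, [2,1,3,3,1,1]), (1, [1,2,2,2,0,3]), (2, [3,1,3,0,3,0]), (2, [0,2,1,1,1,3,3]),
   (1, [0,2,2,2,2,1]), (2, [1,1,2,2]), (1, [2,1,1,1,3,3]), (1, [2,1,3,1,3,0]), (2, [0,3,1,3,3,1]), (2, [3,3,1,2]),
   (2, [2,0,0,3,1,1]), (2, [1,1,2,0,3,0,3]), (2, [3,0,3,3,1]), (1, [0,0,3,0,2,1]), (2, [2,2,2,2]), (2, [0,3,1,3,3,3]),
   (2, [3,3,3,1,2,1]), (2, [3,0,2,0]), (2, [0,3,0]), (1, [0,3,1,1]), (2, [3,1,3,0,0]), (2, [0,2,0,2,1,2]),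
   (2, [0,0,2,0,2,2,2,1]), (1, [1,3,1,1]), (2, [0,3,3,0,3]), (1, [2,2,0,3,1]), (2, [2,1,3,1,2]), (2, [0,0,0,2,2,2,0,2]),
   (1, [0,0,2,2,0,0]), (1, [3,0,3,1,3]), (2, [1,2,2,0]), (2, [0,0,3,0,0,3]), (1, [3,1,1,3,1]), (2, [0,2,0,0,0,3,3]),
   (2, [2]), (2, [0,3,1,3]), (1, [2,2,1,3,1]), (2, [0,0,0,2,1,2,0]), (1, [2,0,2,2]), (2, [3,1,3,0,3]),
   (2, [0,2,0,2,0,0]), (2, [0,0,2,1,1,2]), (2, [2,0,2,0,2]), (2, [2,0,0,3,0]), (1, [1,3,0,2,1,1]), (2, [0,0,2,0,0,0,3]),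
   (2, [0,0,3,3]), (1, [2,1,2,1,1]), (2, [0,0,2,0,0]), (2, [1,3,0,3,0,2]), (1, [3,1,1]), (1, [0,0,2,2,1,3]),
   (2, [2,1,2,0,3,3]), (2, [0,2,1,3,3,3]), (2, [1,3,3,3,1,3]), (1, [0,2,0,0,2]), (2, [1,3,3,0,0]), (2, [2,1,3,0,0,3,1]),
   (2, [3,3,3,1,1,3]), (2, [1,3,3,3,3,1]), (2, [3,0,3,3,3]), (2, [2,0,0,3,3,3]), (2, [0,3,1,3,0,2]), (2, [3,3,0]),
   (1, [1,1,1,3,0]), (1, [3,3,1,1]), (2, [2,1,2,0,2,1,1]), (2, [3,1,2,0,0,2]), (1, [1,1,1,2,2]), (1, [2,1,2,0,3]),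
   (1, [1,1,1,3,3]), (1, [1,2,0,2,1,1]), (2, [2,1,3,3,3,1,3]), (2, [0,2,0,0,3,0,0,2]), (2, [0,0,2,0,2]), (1, [1,2,1,3,0]),
   (2, [0,0,3,0,0]), (2, [1,3,3,0,0,0]), (1, [2,1,2,0,0,3,1]), (1, [1,2,1,3,0,0]), (1, [0,3,1,3,1]), (2, [0,0,3,3,1,2]),
   (2, [3,3,3,0,2,2]), (1, [2,1,1]), (2, [0,2,0,2,1,1]), (1, [0,0,2,1]), (1, [0,0,2,1,2]), (1, [0,0,3,0,0]),
   (2, [1,2,0,2,0,2]), (1, [2,1,1,2,0]), (2, [3]), (1, [2,2,1,3,0]), (1, [0,0,2,2,1,2,2]), (2, [2,1,3,1,2,2]),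
   (2, [3,3,3,0,0,0]), (1, [0,2,1,3,3]), (2, [1,3,1,2,0,0]), (2, [2,0,2,1,1,2]), (2, [0,2,0,3,0]), (2, [2,2,0,0]),
   (2, [3,1,3,0,0,2]), (1, [0,0,0,2,2,1]), (1, [2,0]), (1, [0,0,2,2,1,2,0]), (2, [2,1,2,2,1]), (2, [1,2,2,0,0,2]),
   (1, [3,0,0,2]), (1, [3,3,0,0,0]), (2, [0,2,2,1,3,0,3]), (1, [2,2,1,2,0,0]), (1, [0,3,0,3,1,1,2]), (1, [2,1,1,3,0]),
   (2, [3,0,0,2,1,3]), (2, [2,1,3,0]), (2, [0,0,3,3,0,2]), (2, [3,1,1,2,0]), (2, [1,2,2,2,0,0,3]), (1, [1,3,0,0,0,3]),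
   (1, [0,2,1,3]), (2, [1,3,0,3,1,2]), (2, [2,1,1,3]), (2, [3,1,1,3,0,0]), (2, [2,2,2,0,2]), (1, [3,1,1,2]),
   (1, [0,3,3,3,1,1]), (2, [1,1,1,2,2,0,0]), (2, [2,1,2,2,2,1,1]), (1, [3,0,3,1,2,2]), (2, [2,2,1,2,0]), (2, [0,2,2,0,0,3,0]),
   (2, [3,1,2]), (1, [3,0,0,3,1]), (2, [0,3,0,0,2]), (2, [2,1,2,2]), (1, [1,2,1,2,1,3]), (2, [0,0,3,1,1,3,0]),
   (1, [0,2,1,2,0,0,3]), (2, [0,0,2,1,1,3,1]), (2, [3,0,3,1,2,1]), (2, [1,3,1,2,1]), (1, [0,2,2,0,0,3,0]), (1, [2,0,2,2,2]),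
   (0, [0]), (2, [1,2,1,1,3,0,2]), (2, [3,1,2,0,2]), (1, [3,1,3,0]), (2, [3,0,0,0]), (1, [1,3,0,2,0]),
   (1, [2,1,2,1,2]), (2, [1,1,3,0,2]), (1, [0,3,1,3,1,1]), (2, [1,3,0,3,1,3]), (2, [1,1,3]), (1, [3,0,0,2,0]),
   (2, [1,3,0,0,3]), (1, [0,0,2,1,3,1]), (2, [0,2,2,2,1,1,1]), (2, [3,0,0,0,3,1]), (1, [3,0,2,0,2,1]), (1, [0,0,2,0,3,3,0]),
   (2, [2,2,1,3]), (1, [0,3,1,1,1,3]), (2, [3,3,0,2]), (1, [0,3,1,2]), (2, [1,1,3,1,1,2,1]), (2, [1,2,0,2,0]),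
   (2, [2,0,0,2,1]), (2, [2,1,2,0,0,3,1,1]), (1, [1,3,3,3,1,3]), (1, [0,2,2]), (2, [0,2,0,0,0]), (2, [3,0,3,1,1,1]),
   (2, [0,2,0,3,1,3,1]), (2, [0,3,0,3,1,3,3,0]), (1, [2,1,1,2,0,0]), (1, [3,0,3,0,3]), (2, [2,0,2]), (2, [0,2,2,1,2,1,2]),
   (1, [3,1,2,0,2,1]), (2, [2,1,2,2,1,3,1]), (1, [1,3,1,2,2,2]), (0, [0,3,0,0]), (2, [1,1,1,3,1,3]), (1, [2,0,0,3,3]),
   (2, [1,2,1,3,3,0]), (2, [2,2,2,0,0,2,0]), (1, [3,3,0,0,2,1]), (2, [2,0,3]), (2, [1,1,1,2]), (2, [0,0,2,2,0,2]),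
   (2, [2,2,1,1,2]), (2, [0,3,1,2,2,2]), (1, [3,0,3,1]), (2, [0,2,0,3,1]), (1, [0,0,3,1,1,3]), (2, [3,0,2,0,2,1]),
   (1, [0,0,3,0]), (2, [3,3,0,0,0]), (2, [3,1,1,3,0,2,1]), (2, [0,3,3,3,1,2,1]), (1, [0,2,1,1,2,1]), (2, [1,2,1,3,3,1,2]),
   (1, [0,0,2,0,3,3]), (1, [1,2,0,3]), (1, [3,0,3,1,1]), (1, [1,3,3,3,3,1]), (2, [0,2,1,1,2,0,0]), (2, [2,1,2,1,3]),
   (1, [2,2,1,1,1]), (1, [0,0,2,1,2,2]), (1, [1,1,2,2,0]), (2, [0,0,0,2,2,0,3]), (2, [2,0,2,2,0,3]), (2, [1,1,1,3,3,1,3]),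
   (2, [0,2,2,2,1,3,3]), (1, [2,1,3,1,2,0]), (1, [0,0,2,2,1,2]), (2, [2,1,3,1,2,0,0]), (1, [3,1,3,3,1]), (1, [0,0,2,0]),
   (2, [2,1,3,1,3,0,3]), (1, [1,2,1,3,3,0]), (1, [1,3,3,0,3]), (2, [3,0,3,3]), (2, [0,0,3,0,3,1,1]), (1, [0,3,0]),
   (1, [0,2,1,2,2,1,3]), (1, [0,0,3]), (0, [2,0,3]), (1, [1,2,1,1,1]), (2, [1,2,0,0,3,1,2]), (2, [0,2,0,0,2,1]),
   (1, [0,2,1,3,1]), (2, [1,3,1,1]), (2, [1,1,2,0,3]), (1, [1,2,0,2,2]), (2, [0,3,3,0,3,1,3]), (1, [0,2,2,1,2,0]),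
   (1, [1,2,0]), (1, [1,1,3,1,2]), (2, [1,1,2,1,3,1]), (2, [2,0,2,1,3,0]), (2, [1,3,1,1,3,1]), (1, [0,3,0,2,0,3]),
   (2, [2,1,2,0,2,1,3]), (1, [0,3,0,2,2,0]), (2, [0,2,1,1,2]), (1, [0,2,2,2,2,0]), (2, [0,0,0,2,2,0,0]), (2, [0,2,1,3,1,1,1,2]),
   (1, [0,0,3,1,1,1,2]), (2, [1,1,1,2,1,2]), (1, [1,3,0,2,2,2]), (2, [3,0,3,1,2,2]), (1, [0,3,0,2,0,0,3]), (2, [3,3,1,1,2,2]),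
   (2, [1,1,1,2,1,2,2]), (1, [0,3,1,3,0]), (2, [3,0,3,0,0,3]), (1, [2,1,1,2]), (2, [1,2,0,3,0,2,0]), (2, [0,0,2,1,2,1,2]),
   (2, [2,1,3,1,3,0]), (1, [3,0,3,0]), (2, [0,2,1,3,0]), (2, [1,2,0,0]), (1, [1,1,2,2,2]), (2, [1,2,0,0,0,2,2]),
   (2, [3,0,2,2,2,2]), (2, [2,0,2,2,2]), (1, [3,0,2,1]), (2, [3,3,0,2,2]), (1, [0,3,1,1,2]), (1, [0,0,3,1]),
   (2, [0,2,1,3,1,1]), (2, [3,1,3,1,2,0]), (1, [1,1,2,0,3,1]), (2, [2,1,1,3,0,0]), (2, [1,1,2,0,0,0]), (2, [0,0,2,1,2]),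
   (1, [2,2,1,1,2]), (2, [0,3,1,3,3,3,0]), (2, [0,0,0,2,0]), (1, [0,2,2,1,1,1]), (2, [2,1,3,1,2,2,2]), (2, [3,1,2,0,0,0]),
   (1, [0,0,3,3,0,3]), (2, [2,1,2,1,2,2]), (1, [3,1,1,1,2,2]), (2, [1,3,1,3,1]), (2, [0,0,0,2,2,2,2]), (2, [1,3,0,3,3,3]),
   (2, [0,2,2,1,1,1]), (1, [0,0,0,3,1]), (2, [3,3,1,2,1,2]), (1, [0,3,0,2,2]), (1, [1,2,2,2]), (1, [1,2,2,1]),
   (2, [0,3,1,2,2,2,1]), (1, [0,2,1,1,3,0,2]), (2, [1,1,1,2,0,2]), (1, [1,1,3,3,1,1,1]), (2, [2,2,0,2,1,2,0]), (2, [3,0,0,2,1,1,2]),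
   (1, [3,1,1,3,3]), (2, [1,1,3,3,0,2]), (1, [0,0,2]), (1, [0,0,2,1,2,0]), (2, [0,3,3,0,0]), (2, [0,0,2,2,1]),
   (2, [2,2,1,2,0,3]), (2, [0,3,3,0,2,0,0]), (2, [0,3,0,3,1,1,2]), (2, [1,1,2,0,2]), (1, [2,1,2,2]), (1, [1,3,0,2,2]),
   (2, [0,3,3,3,3]), (1, []), (2, [0,2,1,1,2,0]), (2, [3,3,0,0,2,1]), (2, [0,0,0,3,0,2,2,0]), (1, [0,3,3,3,0,2]),
   (1, [0,2,1,1,2,2]), (2, [0,3,1]), (2, [3,1,2,2,2,0]), (2, [1,2,2,0,2]), (1, [0,2,2,0,0,0]), (1, [0,3,0,2,0,0]),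
   (1, [1,1,3,3,1]), (2, [0,0,0,2,2,0,2]), (2, [0,2,1,3,3,0,3]), (2, [1,1,2,2,2,0]), (2, [1,1,3,0,3,0]), (2, [0,0,3,3,0,2,0,2]),
   (1, [1,1,2,0,0]), (2, [1,3,1,3,3,1]), (1, [2,2,1]), (2, [2,1,3,1]), (2, [0,2,2,2,1]), (2, [3,0,3,1,3,1,2]),
   (2, [3,3,1,1,3,0]), (2, [2,0,0,2,0]), (1, [2,0,2,2,2,0]), (2, [1,1,1]), (1, [2,1,3,1,3]), (1, [0,0,3,1,2,0]),
   (1, [1,2,0,0,2,2]), (2, [3,3,0,0]), (2, [2,2,1,2,0,0]), (2, [1,2,1,1]), (2, [0,0,3,0,2,0,0]), (2, [0,2,2,1,1]),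
   (1, [0,3,1,2,0]), (2, [0,2,2,0,0,0]), (2, [0,3,3,1,3,0]), (2, [2,1,2,0,3]), (2, [3,0,2,1,2,1]), (1, [0,3,0,0,0,2]),
   (2, [3,0,3,1,1,3]), (1, [3,1,1,1,3,3]), (2, [3,0,0,3,1,2,2]), (2, [3,0,2,0,3,3]), (1, [0,3,3,1]), (2, [3,1,3,1,1,3,0]),
   (2, [0,2,0,0,3,3]), (1, [3,1,2,0,3,3]), (2, [1,3,3,3,0,3]), (1, [0,3,1,2,0,3]), (2, [1,2,0,2]), (2, [2,1,1,3,3]),
   (2, [1,2,2,1,2,2,0]), (1, [2,2,2,2]), (2, [0,2,1,3,1,1,2]), (2, [1,3,3,0,2,1]), (2, [3,1,2,1,1,3]), (2, [3,3]),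
   (1, [0,0,2,0,2,0,2]), (1, [3,1,3,3,0]), (2, [0,0,3,0,0,3,1]), (1, [1,2,2,0,2,1]), (2, [3,1,1,3,3,0]), (1, [0,2,1,2,0]),
   (2, [0,2,2,1,2,0]), (1, [0,0,3,0,2,2]), (1, [3,0,3]), (2, [3,3,0,3,1,2]), (2, [1,1,2,1,2]), (2, [1,3,0,0,3,1]),
   (2, [0,0,0,2,1,3]), (2, [0,2,1,2,1]), (2, [0,0,3,0,0,3,0,3]), (2, [2,1,3,0,3,0]), (2, [0,0]), (2, [0,3,3,0,3,3,0]),
   (2, [3,0,3,1,2,0]), (2, [1,2,2,2,0,0,0]), (1, [3,0,2,0,2]), (1, [0,0]), (2, [1,2,0,0,3,1]), (2, [0,2,2,0,0,2,0]),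
   (1, [1,3,3,3,1,1]), (1, [2,2,1,2,2,0]), (2, [0,2,2,1,2,0,2]), (2, [3,3,3,1,1]), (2, [0,0,2,0,0,3,3,1]), (2, [1,3,1,3,3,0]),
   (2, [0,2,1,1,3,3]), (2, [3,3,0,0,2,2]), (2, [0,0,0,2,1,2,0,3]), (2, [3,3,3,3,0,2,2]), (1, [0,0,0,3,0]), (2, [2,1,1,2]),
   (2, [1,1,1,3,1,2]), (2, [0,2,0,2]), (1, [0,2,2,1,2,1,1]), (2, [1,1,1,2,1]), (1, [2,1,3,1,3,1]), (2, [1,3,3,3,1]),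
   (2, [3,0,3,3,3,1]), (2, [3,1,2,1,1,3,1]), (2, [2,1,2,0,2]), (2, [2,0,0,3,1,1,2]), (2, [0,3,3,3,3,3,3]), (1, [3,0,0,0,2]),
   (1, [1,2,2,2,2,2]), (2, [0,0,2,0,0,3]), (2, [0,0,0,2]), (2, [0,3,3,0,2]), (1, [1,1,3,1,3,0]), (2, [3,0,3,0,3,1]),
   (2, [0,2,1,3,0,2]), (1, [0,0,2,0,2,0]), (2, [1,2,0,0,2]), (2, [2,1,3,1,2,1]), (2, [2,1,3]), (2, [3,3,0,3,3,1]),
   (2, [1,1,2,0,0,2]), (1, [1,3,0,0,2,2]), (2, [1,2,0,2,0,2,2]), (1, [0,0,3,3]), (2, [0,2,0,3,0,3]), (1, [2,0,2,2,1]),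
   (2, [2,1,2,2,0,3,1]), (1, [2,2,1,2,2]), (1, [3,0,2]), (2, [0,0,0,3]), (1, [1,2,2,2,2]), (2, [1,1,2,2,2]),
   (1, [2,1,3,1,2]), (2, [0,3,0,3,3,0]), (2, [0,3,3,0,2,2,2]), (2, [0,0,3,1,3,3,0]), (1, [0,2,1,3,0,3]), (2, [1,1,3,3,1]),
   (2, [1,2,2,1,2]), (2, [3,1,3,1,2]), (1, [0,2,2,2,2]), (2, [0,3,3,3,1]), (2, [0,2,1,2,1,2]), (1, [0,3,3,3]),
   (1, [0,0,0,2,1,1]), (1, [0,3,3,0,3,1]), (1, [2,2,2,1,3,1]), (1, [0,0,2,1,1,2]), (2, [0,2,1,3,1,1,3]), (2, [0,3,1,1,3,1]),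
   (1, [0,3,0,3,1,1]), (1, [0,3,0,2]), (2, [0,0,2,2]), (2, [2,0,3,0,3,1]), (1, [0,0,2,1,2,0,3]), (2, [3,3,0,0,3,3]),
   (2, [1,3,3,3,1,2,2]), (1, [2,2,1,2,0]), (2, [1,3,0,2,0,0]), (2, [3,1,1,2,1,2]), (2, [2,1,3,3,0,2]), (1, [3,1,1,1,2]),
   (2, [0,2,1,2,1,2,1]), (2, [0,0,3,1,3,1,2]), (2, [3,0,3,0]), (2, [0,3,1,2,2]), (0, [1,1,2]), (1, [0,2,2,2,2,2]),
   (2, [3,0,3,3,1,1]), (2, [3,0,3,1]), (2, [0,2,2,0]), (1, [3,0,2,1,3]), (2, [3,1,3,1,3]), (1, [0,2,1,1]),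
   (2, [1,1,1,2,2,0]), (2, [0,2,2,0,2,2]), (2, [0,2,1,2,2]), (2, [3,0,2,2,2,2,0]), (2, [0,0,0,3,1]), (2, [0,2,0,2,2]),
   (2, [2,0,2,2,0,2]), (2, [0,2,1]), (1, [3,1,2,2,2]), (1, [0,3,1,2,0,2]), (2, [2,1,2,0,3,1]), (2, [1,1,3,0,3,3,3]),
   (1, [0,2,0,3,3,0]), (2, [1,1,3,0,3,1]), (1, [0,0,3,1,2,0,3]), (1, [0,3,1,1,3]), (2, [3,3,3,0,0]), (2, [2,0,0,2,0,0]),
   (1, [1,1,1,2,1]), (2, [3,3,0,3,3]), (2, [1,1,1,2,0,0]), (2, [0,2,1,2,2,0]), (1, [0,0,3,0,0,0]), (1, [3,1,1,2,1]),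
   (2, [2,1,3,1,3]), (2, [3,0,3,1,3,1,1]), (2, [0,2,1,2,0,3,1]), (1, [0,3,0,0]), (2, [2,0,0,3,3]), (2, [2,0,2,2,1]),
   (2, [1,1,3,0,3,0,3]), (2, [0,3,3,3]), (2, [0,2,1,3,1,1,1]), (1, [3,0,3,1,2]), (1, [0,3,3,0,0,0,2]), (1, [3,3,3,3]),
   (2, [3,1,1,3,3,3]), (1, [1,1,2,2,2,1,3]), (2, [2,1,2,0,3,1,3]), (2, [1,1,2,0,0,3]), (2, [3,3,3,1,1,1]), (1, [2,0,3,1,3,3]),
   (1, [2,2,2,0,0,3]), (1, [3,1,2,0,3]), (2, [1,3,3,3]), (2, [0,0,3]), (1, [1,1,2,1]), (2, [0,3,3,3,3,3]),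
   (1, [2,1,2,0,3,0]), (1, [0,2,0,0,2,1]), (2, [0,2,2,1,2,1]), (2, [0,0,0,3,0,3]), (2, [3,1,2,2,0,3]), (2, [0,2,2,0,0,0,3]),
   (2, [3,0,0,2]), (2, [1,1,1,2,2,1,3]), (1, [1,1,1,2,0]), (2, [2,0,2,1,1]), (2, [0,0,3,0,2]), (2, [1,1,2,0,0]),
   (1, [1,1,2,1,3,1]), (1, [0,0,0,3,1,3]), (2, [2,2,1]), (2, [2,2,2]), (2, [2,0,2,0,0]), (2, [3,3,1,3,3]),
   (2, [0,0,0,2,0,2]), (1, [2,1,2,0,0,3]), (1, [0,0,3,0,2,2,1]), (1, [2,2,1,2,2,1]), (2, [1,2,2,2,1,1]), (2, [0,0,2,1,3,0]),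
   (2, [2,1,2,0,0,3]), (1, [1,3,0,0,3]), (1, [0,0,3,0,0,3]), (2, [1,3,3,3,0]), (2, [3,0,0,2,2]), (2, [1,2,0,3,1,1]),
   (1, [1,2,0,3,0]), (1, [2,2,2,0,0]), (2, [3,3,3,1,2]), (1, [2,2,2,1]), (2, [3,1,1,3,0,2,2]), (2, [2,0,2,2,1,3]),
   (2, [0,0,2,1,1,2,2]), (2, [2,0,3,3,0]), (2, [3,0,2,2,2,1,2]), (1, [0,3,3,0,3,1,1]), (2, [0,2,0,2,2,1,3]), (2, [0,0,0,2,2,0]),
   (2, [2,0,3,0,3]), (2, [3,1,2,2,0]), (1, [2,1,2,1,1,1]), (1, [3,3,1,1,1]), (1, [1,1,1]), (1, [1,1,2,2,1]),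
   (1, [0,3,0,3,1,3,3]), (2, [0,0,3,1]), (1, [0,2,1]), (2, [2,1,3,3,0,2,2]), (1, [0,3,0,3,1,3]), (2, [0,3,3,1,3,1,1]),
   (2, [3,1,3,1]), (2, [1,2,0,3]), (2, [2,0,0,3,0,0]), (2, [0,0,2,1,3]), (2, [2,1,3,0,2]), (2, [0,2,1,3,1]),
   (2, [3,0,3,3,3,1,3]), (2, [0,0,2,0,2,2,0]), (2, [1,1,3,0,3]), (1, [1,3,3,3,3]), (0, [1,1,1]), (2, [2,0,2,0,2,1]),
   (2, [3,0,3,3,3,3]), (2, [3,0,0,0,3]), (2, [0,0,3,1,1,1]), (2, [0,3,0,3,1]), (2, [1,3,3,3,1,1]), (2, [0,0,2,0,3,1,2]),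
   (2, [1,2,0,2,1,3]), (2, [1,2,0,3,1,1,3]), (2, [1,1,1,2,0]), (2, [0,3,1,2]), (2, [1,1,3,1,2]), (2, [2,1,3,3,1]),
   (2, [2,0,0,0,3,3]), (2, [1,3,3,3,3]), (2, [3,0,3,1,1]), (2, [2,0,0]), (2, [1,2,2,1]), (2, [3,3,3,3,0]),
   (2, [1,3,3,1,2,1]), (2, [1,3,1,1,3,1,3]), (2, [0,3,3,1,3,3]), (1, [2,0,0,0]), (2, [0,3,0,2,0,0,2]), (2, [3,3,1,1,2,1]),
   (1, [0,2,1,2,0,0,2]), (1, [1,2,0,2,1,2]), (1, [2,1,2,2,1,1]), (2, [1,1,2,1,1]), (2, [2,1,3,3,0,3]), (2, [3,1,1,1,3]),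
   (2, [3,0,3,0,0,0]), (2, [0,3,1,1,2,0,2]), (2, [0,3,0,0,0]), (2, [2,1,3,3,1,2]), (2, [0,2,1,2,0,0]), (2, [0,3,1,3,0,3,3]),
   (1, [3,0,3,0,3,0]), (1, [0,0,3,3,0,0]), (2, [0,2,0,2,0]), (2, [0,0,0,3,3]), (1, [3,1,1,2,1,3]), (2, [1,3,1,1,1,3]),
   (1, [1,3,1,3,0,0]), (1, [2,1,2,0,0]), (2, [1,3,0,3,3,0,3]), (2, [3,0,3,3,0]), (2, [0,3,3,1,2,1]), (2, [1,2,2,1,2,2,2]),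
   (2, [0,2,0,0,2,0,3]), (1, [0,3,0,0,2,1]), (2, [1,1,2,2,0,3,3]), (2, [1,1,2,1,3,1,2]), (1, [1,1,3]), (2, [0,3,0,2,0]),
   (2, [2,1,3,3]), (2, [3,3,3,0,3]), (2, [1,2,2,2,0]), (1, [0,0,3,0,2]), (2, [2,0,2,2]), (2, [0,3,0,2,2,1]),
   (1, [2,1,2,1]), (2, [0,2,1,3]), (2, [0,3,0,0]), (2, [1,3,1,3,0,0]), (2, [0,3,0,3,1,1]), (2, [0,0,0,2,2,2,0]),
   (2, [3,3,3,1,2,2]), (2, [3,1,2,1,3]), (2, [0,2,0,0,0,2]), (2, [2,0,2,0,2,1,2]), (2, [0,2,0,2,2,1]), (1, [2,1,1,2,0,3]),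
   (1, [0,3,0,3,1]), (2, [1,1,1,3,1]), (2, [2,0,3,0,3,0]), (1, [1,1,1,3]), (0, [1]), (1, [2,1,1,1]),
   (2, [0,2,2,1,1,3]), (1, [0,0,2,0,3]), (1, [2,0,0,2,2]), (0, [1,2,1]), (2, [0,3,1,1,1]), (0, [2,1]),
   (2, [0,3,3,3,3,0]), (1, [0,3,1,2,2]), (2, [1,3,3,0,3]), (2, [1,1,2,0,3,1]), (2, [3,3,3,3,0,2]), (2, [0,3,3]),
   (2, [2,1,2,2,1,3]), (1, [2,2,0,3]), (2, [0,3,3,0,3,1]), (2, [1,1,2]), (2, [0,2,0,3,1,2,2]), (2, [0,2,0,3,3,3,1]),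
   (2, [3,0,0,3,1]), (1, [1,2,1,1]), (2, [0,3,1,1,3,3,3]), (2, [1,3,1,2,1,3]), (2, [0,0,3,1,3,1,1]), (2, [1,3,3,0]),
   (2, [3,3,1,2,2,0]), (1, [3,1,2,0]), (2, [3,0,3,1,3,1]), (1, [2,0,0,0,3,3]), (2, [1,3,3,3,0,0]), (1, [1,1,3,0,3]),
   (2, [2,1,1]), (1, [2,2,0,2]), (1, [0,2,1,1,1]), (2, []), (2, [2,1,2,0,0,0]), (1, [1,2,2,2,1,3]),
   (2, [0,2,1,3,3]), (2, [0,2,2,1,3]), (1, [2,0,2,2,1,1]), (1, [0,3,1,2,2,0,0]), (2, [0,3,3,0,2,2]), (2, [0,2,1,3,0,3,0]),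
   (2, [0,0,3,3,0,3,3]), (1, [3,3,0,3,0]), (2, [2,1,2,2,2,1]), (2, [0,2,2,0,3]), (2, [2,2,1,2,0,0,2]), (2, [1,1,2,0,0,3,1]),
   (2, [1,3,0,0,2]), (2, [0,2,0,0,2]), (1, [1,2,0,2,1]), (2, [0,0,0,2,2]), (2, [2,0,0,2,1,1]), (2, [1,2]),
   (2, [2,1,2,2,0,3]), (0, [0,3,3,0]), (2, [0,2,0,0,0,3]), (1, [1,3]), (1, [2,0,3,1,3]), (2, [1,2,2,2,1]),
   (1, [3,1,3]), (1, [1,3,3,0]), (1, [2,1,1,1,3]), (1, [1,1,3,3,1,1]), (1, [0,3,3,0,2,0]), (2, [1,3,3,0,0,3]),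
   (2, [0,3,0,2,2,1,2]), (2, [0,0,0,2,1]), (2, [2,0,2,0]), (2, [0,3,3,1,3,1]), (2, [3,1,1,3,3]), (2, [1,3,1,1,1,3,3]),
   (1, [0,0,2,2,2,2]), (2, [3,1,3,1,1]), (1, [0,2,1,2,0,0]), (2, [0,0,2,1,2,2]), (1, [1,3,3,0,2,1]), (2, [0,0,3,0,0,0]),
   (1, [1,2,2,2,2,1]), (1, [0,3,1,3,3]), (1, [2,0,3,0,0]), (2, [0,2,1,3,1,2]), (2, [3,3,1,3,0]), (2, [0,3,0,0,3,3,3]),
   (2, [1,2,1,1,3,0]), (2, [3,3,1,2,2]), (1, [1,2,0,3,0,3]), (2, [3,1,2,1,2,0]), (1, [1,3,1,3]), (1, [0,2,1,3,3,0]),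
   (1, [0,2,2,0]), (1, [1,3,1]), (2, [0,2,2,0,3,1]), (1, [3,1,1,2,2]), (1, [2,0,2,0,0]), (2, [1,3,0,3,0]),
   (2, [0,2,2,1,1,3,1]), (2, [1,1,3,3,0,0]), (2, [1,1,3,3,3]), (2, [0,0,2,1,1,3]), (2, [2,1,2,0,0]), (2, [1,1,1,2,0,0,3]),
   (2, [3,3,0,2,1]), (2, [0,2,0,2,0,3]), (2, [0,3,1,2,1]), (2, [3,1,2,1,3,0]), (1, [2,0,0,2,1]), (2, [2,1,3,1,1]),
   (1, [0,0,2,2,0,3]), (2, [3,3,1,3,0,3]), (1, [3,1]), (1, [3,1,2,1]), (2, [3,3,0,2,2,1]), (2, [2,2,1,3,1,3,0]),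
   (2, [1,2,0]), (1, [0,0,0,3,1,1,3]), (1, [0,3,3,0,0,2]), (2, [0,0,0,3,3,1]), (2, [2,2,1,1,3]), (1, [1,3,1,1,1,3]),
   (2, [0,2,1,3,0,3]), (2, [1,1,2,2,1,3]), (2, [2,0,0,2,1,3]), (2, [0,2,0,0,3]), (2, [3,3,0,3,1]), (2, [1,2,1,1,1]),
   (1, [0,2,0,0,0,2]), (1, [1,2,0,0,0]), (1, [0,0,0,3,1,2,0]), (1, [0,0,2,1,2,0,0]), (2, [0,0,3,3,1]), (2, [2,2,2,1,3,0]),
   (1, [2,1,3,3]), (2, [1,2,0,0,0,3]), (1, [2,0,0,2,1,3]), (2, [0,2,1,1,2,0,3]), (2, [0,0,3,1,1,3,1]), (2, [1,2,0,2,2,2]),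
   (1, [3,3,0,0]), (2, [1,1,3,3,0,3]), (2, [0,2,1,1,3,3,3]), (1, [3,3,0,3,1,3]), (1, [0,0,0,3,0,2,2]), (1, [2,0,3,0]),
   (2, [1,1,2,0,2,1,3]), (2, [0,2,1,1]), (2, [0,0,0,2,1,2,1]), (2, [3,1,1,1]), (2, [0,2,0,3,0,2,1]), (2, [1,3,0,3,0,2,1]),
   (1, [1,3,3,3,3,3]), (2, [2,1,3,1,2,0]), (1, [3,3,3,0,2]), (2, [2,1,2,0,0,3,1]), (2, [0,2,0,3,0,3,0]), (2, [0,3,3,1,3,0,3]),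
   (2, [0,0,0,2,2,2,1]), (2, [0,3,1,1,3,1,1]), (1, [0,3]), (1, [0,0,2,2,0]), (2, [1,3,1,3,3]), (1, [1,1]),
   (2, [1,1,3,0]), (2, [0,3,0,2,0,0]), (1, [3,3,0,0,3]), (1, [1,1,1,2,1,2]), (2, [0,3,0,2,1,1]), (1, [0,0,2,1,3]),
   (2, [3,0,0,2,1,1]), (1, [0,2,1,2,2,1]), (1, [3,3,0,3,1,1]), (1, [0,2,1,1,2,2,2]), (2, [3,0,0,0,2,0,0]), (1, [0,3,1,2,1]),
   (1, [1,2,1,2,1]), (2, [2,2,1,2]), (2, [1,2,0,0,0]), (1, [3,1,1,1,3]), (2, [2,0,0,3,0,2,2]), (2, [0,3,1,3,0]),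
   (1, [2,2,0,3,1,1]), (1, [0,3,1]), (2, [2,2,1,1]), (2, [2,1,2,1,3,0]), (1, [3,0,3,1,2,0]), (2, [1,1,2,0]),
   (1, [0,0,2,1,1]), (1, [3,3,0,2,1]), (1, [2,1,3]), (2, [0,0,3,3,1,1]), (2, [2,2,0,0,2]), (2, [2,1,2,1,2]),
   (2, [3,0,0,2,1]), (2, [0,2,0,0,2,1,3]), (2, [1,3,0,3,3]), (2, [1,2,2,2,0,0]), (2, [3,1,1,3,1,2]), (1, [0,0,0,3,0,2]),
   (2, [1,3,3,3,1,2,1]), (1, [0,2,2,1,1]), (1, [0,0,0,2]), (1, [3,0,0,2,1]), (2, [1,1,1,2,1,1]), (1, [1,2,0,2,1,3]),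
   (1, [0,3,3,1,3]), (1, [0,0,0]), (2, [0,0,3,1,2]), (2, [2,2,0,0,2,1]), (2, [3,0,2,1,2]), (2, [2,0,3,0,3,1,1]),
   (2, [2,1,3,1,1,1]), (2, [0,0,0,3,3,0,3]), (2, [1,2,2,0,2,1]), (2, [0,3,3,0,3,0,3]), (1, [2,2,1,3]), (2, [2,2]),
   (2, [0,2,0,3,3,3]), (2, [1,2,2,2,1,1,2]), (2, [0,0,0,2,0,2,1]), (1, [0,2,0,0,2,2]), (2, [0,2,0,2,1]), (1, [3,0,3,1,1,1]),
   (1, [1,2,2,1,3,0]), (2, [0,0,2,1,3,1,3]), (2, [2,1,1,1]), (1, [2,2,0]), (2, [3,3,0,0,2]), (2, [0,2,0,3,1,1,2,1]),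
   (2, [3,1,2,2]), (1, [0,2,2,1,2,1,2]), (2, [0,0,2,0,2,2]), (0, [3]), (2, [1,1,3,1,2,1]), (2, [3,3,1,2,1]),
   (2, [0,0,2,2,1,2,0]), (2, [3,1,2,1,3,3]), (2, [2,1,3,1,3,0,0]), (2, [1,2,0,3,0,2]), (2, [0,0,2,0,3]), (2, [2,0,2,1,3,1]),
   (2, [1,2,1,3]), (2, [0,0,3,0]), (1, [0,3,3,0,0,0]), (2, [2,2,1,2,1]), (1, [0,2,1,1,2]), (2, [0,0,2,0,0,3,0]),
   (2, [2,2,2,0,0]), (1, [1,2,2,1,3]), (1, [0,0,0,3,1,3,0]), (2, [3,3,0,0,0,3]), (1, [1,2,1,3]), (1, [2,1,2,0]),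
   (1, [0,3,1,3,3,1]), (2, [3,3,1,3]), (2, [3,0,0]), (2, [0,0,3,1,3,1]), (2, [0,3,0,2,1,2]), (2, [3,3,1,1]),
   (1, [1,1,1,3,1]), (2, [3,0,2,0,2]), (1, [0,3,3,1,3,0]), (1, [1,1,3,1,2,2]), (1, [0,2,0]), (2, [0,2,2,2,1,3]),
   (2, [3,0]), (1, [0,2]), (1, [2,1,2,2,1]), (2, [2,1,2,1,3,0,0]), (2, [2,0,3,0,3,3]), (2, [2,1,3,0,0,0]),
   (2, [2,2,1,2,2]), (2, [1,2,0,2,2,1,2]), (1, [3,1,1,1]), (2, [3,1,2,0,0]), (2, [0,2,2,1,1,3,3]), (1, [2,1,3,3,3]),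
   (2, [2,2,2,0,0,2]), (2, [0,0,2,1,2,1,1]), (2, [1,1,3,0,0,2]), (1, [1,3,3,0,2]), (2, [1,2,1]), (1, [2,0,2]),
   (1, [3,1,2,2,0]), (2, [1,3,3,1]), (2, [2,0,3,3,1,3]), (2, [2,0,2,2,0]), (1, [2,0,0,3,3,1]), (1, [1,2,0,2,1,2,1]),
   (2, [0,2,0,0,0,3,1,3]), (1, [1,3,0,0,0]), (2, [2,1,1,3,0,2]), (1, [0,2,2,1,1,1,2]), (1, [1,2,2,0]), (1, [0,3,0,0,0]),
   (1, [2,0,0,2,0]), (2, [0,0,0,2,1,2]), (1, [2,1,1,3]), (2, [1,2,0,2,2,1]), (2, [0,2,0,3]), (2, [1,1,1,2,2,0,0,0]),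
   (1, [1,3,1,3,0]), (1, [1,2,2,2,0]), (1, [2,2,1,2]), (1, [1,2,0,2]), (2, [3,0,0,3,0,0]), (2, [1,3,1,1,3]),
   (2, [1,1,1,2,2,1]), (2, [3,3,1,1,2,1,2]), (1, [2,2,1,2,0,2]), (2, [0,0,2]), (2, [1,1,3,3,3,1]), (1, [2,2]),
   (2, [0,2,0,0,2,0]), (1, [3,1,2,2]), (1, [0,0,3,1,2]), (2, [2,0,3,1]), (1, [3,3,3,0]), (2, [2,1,2,1,3,1,1]),
   (1, [0,2,1,2,0,2]), (1, [3,3,1,3,0,3]), (2, [1,2,2,2,0,0,3,1]), (2, [3,0,3,1,2]), (2, [1,1,1,2,0,3]), (2, [3,1,1,3,0,2]),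
   (1, [0,0,3,1,3]), (1, [3,3,3,3,1,3]), (1, [0,0,0,3,0,0]), (2, [0,3,3,1,2]), (2, [2,0,2,1,3]), (2, [3,1,3,0,3,3]),
   (2, [0,3,0,3,1,3,3]), (2, [1,1,3,1]), (2, [3,0,0,0,2,0,3]), (2, [0,0,2,0,0,3,3]), (1, [3]), (2, [0,2,2,0,2,2,0]),
   (2, [2,2,0,2,1,2]), (2, [3,1,1,2,1]), (2, [3,0,2,2,2,2,1]), (1, [0,0,3,3,1,1]), (1, [1,2,2,2,1]), (2, [3,1,2,1,3,1]),
   (2, [0,3,1,1,2,2]), (1, [2,0,3]), (2, [2,0,0,3,0,2]), (2, [1,2,1,3,3]), (1, [3,1,3,1]), (2, [0,2,1,1,1]),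
   (1, [3,0,0]), (2, [2,2,1,2,1,3]), (2, [2,0,0,0,3,3,0]), (2, [3,0,2]), (2, [2,0,3,0]), (2, [3,0,2,1]),
   (1, [0,2,1,1,1,3]), (2, [0,2]), (2, [0,2,2,0,0]), (2, [0,3,3,1,3,1,1,1]), (2, [1,3,1,2]), (1, [3,1,2,1,3]),
   (2, [3,1,3,0,3,1]), (2, [1,3,0,2,2]), (1, [2,1,3,1,2,2]), (1, [2,0,3,0,3]), (1, [0,2,0,0,3,0]), (2, [2,1,2,0,2,0,0]),
   (2, [2,0,3,1,1]), (1, [0,3,0,3]), (2, [3,0,2,2]), (2, [0,2,1,3,3,1]), (1, [1,3,0,2,1]), (1, [0,0,2,2,2,1]),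
   (2, [3,1,1,2]), (1, [2,2,1,3,3]), (1, [2,1,1,2,1]), (2, [0,2,0,3,1,3,1,3]), (2, [2,1,2,1,2,1]), (2, [3,1,3,1,1,1]),
   (1, [0,3,1,3,1,3]), (0, [2,2]), (2, [2,1,1,3,0,2,2]), (2, [0,0,2,2,1,2]), (2, [0,0,3,0,2,0,3]), (1, [0,2,2,0,2,1]),
   (1, [0,0,0,2,0,0]), (0, [2,0,0]), (2, [1,3,1,3,1,1]), (2, [2,2,0,0,3]), (2, [1,3,0,3,3,0]), (2, [0,0,0,2,2,1,1]),
   (2, [0,0,2,1,1,3,3]), (1, [3,0,3,1,3,1]), (1, [1,2,1,3,3,3]), (2, [0,0,0,2,2,2]), (2, [3,3,0,2,0,3]), (2, [2,2,0,0,3,3]),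
   (2, [0,2,0,3,0,2]), (1, [1,3,0,2,2,2,2]), (2, [0,3,1,3,3]), (1, [3,3,0,3,0,3]), (1, [1,3,3,0,0,2]), (2, [2,2,0,2,1,2,1]),
   (0, [2,0,0,2]), (2, [0,2,1,2,2,0,2]), (2, [1,1,1,2,2]), (2, [3,3,0,0,3]), (2, [1,2,1,3,0,2]), (1, [0,2,2,0,0,2]),
   (2, [1,1,2,1,2,1,2]), (2, [2,2,2,1,2]), (1, [0,3,1,2,2,0]), (1, [0,2,2,1,2,1]), (2, [3,3,0,3]), (1, [1,3,0,2]),
   (2, [0,2,1,2,1,2,0]), (2, [3,0,2,2,2,1]), (1, [3,3,1,3,0]), (1, [0,2,1,3,1,2]), (2, [1,1,3,0,0,3,3]), (1, [0,0,0,2,2,0]),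
   (2, [2,2,1,3,1,3]), (1, [3,0,2,1,1]), (2, [0,2,0,3,3]), (2, [1,1,3,3,0]), (2, [3,3,3,1,1,1,2]), (2, [1,1,3,3]),
   (1, [0,3,1,1,1]), (1, [1,1,3,3,3,3]), (2, [3,3,0,3,1,1]), (1, [3,3,0,2,1,3]), (1, [2,0,2,2,1,2]), (2, [0,0,0,2,2,1]),
   (2, [3,0,0,3,0,2]), (2, [0,3,1,3,1]), (2, [1,3,1,3,3,3]), (2, [2,1,2]), (2, [1,3,3,0,2]), (2, [1,3,3,0,2,1,1]),
   (2, [2,1,2,2,2]), (2, [1,1,3,3,0,2,2]), (1, [1,3,3,3]), (2, [1,1,3,0,0]), (2, [0,2,1,2]), (2, [0,2,1,1,3]),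
   (2, [3,1,3]), (2, [0,3,0,3,1,3]), (2, [3,0,2,1,2,2]), (2, [1,2,1,3,3,1,3]), (0, [0,3,3]), (1, [1,2,0,2,0]),
   (2, [2,1,2,2,2,0,3]), (2, [1,1,3,1,2,0,0]), (1, [0,3,1,2,1,1]), (2, [0,0,3,1,1]), (2, [2,1,2,0,2,0]), (2, [1,2,0,3,3,1,3]),
   (1, [2,0,0,0,3]), (2, [2,1]), (2, [2,0,3,0,3,0,0]), (1, [1,1,3,1,3]), (2, [1,1,2,1,3,0]), (2, [0,2,2,1,3,3]),
   (2, [0,2,2,0,3,0]), (1, [1,1,3,0]), (1, [3,3,3]), (2, [1,2,2,2]), (1, [2,1,2,1,1,3]), (2, [1,1,2,2,0]),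
   (1, [1,2]), (2, [1,2,2,1,2,1]), (2, [0,0,2,0,0,0]), (2, [2,1,1,3,1]), (2, [3,1,1,2,0,3]), (2, [3,3,3,3,1]),
   (1, [1,1,1,2]), (2, [2,0,3,1,2]), (2, [3,3,3,0,2]), (1, [2,0,0,3]), (1, [2,2,0,3,0]), (2, [0,2,2,2]),
   (2, [0,2,1,2,0,3,0]), (1, [1,1,2]), (2, [0,0,3,0,0,3,0]), (2, [2,0,2,2,1,2,2]), (1, [1,2,2,1,3,1]), (2, [1,3,3,0,2,0]),
   (1, [2,1,1,1,2]), (2, [1,1,3,3,1,1]), (2, [2,1,2,1,3,1]), (2, [1,3,0]), (2, [1,3,1]), (1, [0,2,1,3,0,3,0]),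
   (1, [3,0,0,3]), (2, [2,1,3,0,0,3]), (2, [3,3,1,3,0,2]), (2, [0,3,0,3,3]), (1, [1,3,3,1]), (2, [3,1,3,1,3,0]),
   (1, [1,3,3]), (2, [2,2,0,2,0]), (2, [2,2,1,3,0]), (2, [0,3,1,3,0,0]), (1, [0,3,0,2,2,0,2]), (2, [0,0,2,0,2,0]),
   (2, [1,3]), (2, [0,2,0,2,0,2]), (1, [2,1,3,3,0]), (1, [1,3,0]), (1, [0,2,1,3,1,3,3]), (1, [0,0,0,2,0,2]),
   (1, [3,0,2,1,3,1]), (1, [2,0,2,0]), (2, [0]), (2, [0,0,3,1,3,1,3]), (1, [3,1,2]), (2, [0,3,0,3,0,3,1]),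
   (2, [1,1,1,3,1,2,2]), (2, [0,3,0,3,0]), (2, [0,2,0,2,2,0,3]), (2, [2,2,2,0,2,1]), (2, [0,0,2,1,3,1]), (2, [3,3,1]),
   (2, [1,1,2,0,3,0]), (1, [0,3,1,2,1,2]), (1, [0,2,1,3,0,3,1]), (2, [1,1]), (1, [1,3,1,2,0]), (2, [2,0,0,3,3,0]),
   (2, [0,3,0,0,2,1]), (2, [0,2,0]), (2, [1,2,1,3,3,1]), (2, [2,2,1,3,1]), (2, [1,1,3,1,1,2]), (2, [0,0,3,0,3,3,1]),
   (2, [1,1,2,1,2,0]), (2, [0,0,3,3,0,2,0]), (1, [0,2,2,2]), (0, [2,0]), (1, [0,0,2,0,2]), (2, [0,2,1,2,1,3,0]),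
   (2, [0,2,1,2,2,1]), (1, [1,2,2,0,0]), (2, [2,0,0,0]), (2, [1,3,1,1,1,2]), (2, [2,2,2,1]), (1, [3,1,2,0,2]),
   (2, [1,2,0,3,3,0]), (2, [3,0,0,0,2]), (2, [2,0,3,0,2]), (2, [0,3,3,1]), (1, [0,2,2,0,0,3]), (2, [1,2,2,1,2,0]),
   (1, [0,0,3,1,1]), (1, [0,0,3,0,2,2,2]), (1, [0,0,0,3,1,2]), (1, [1,3,3,3,1]), (2, [0,3]), (2, [0,2,2,0,2]),
   (2, [2,1,3,3,3,1]), (2, [2,2,1,3,1,2]), (2, [1,3,3,0,0,2]), (1, [3,3]), (1, [0,2,2,2,0]), (1, [0,0,0,3,3,3]),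
   (2, [1,2,0,0,3,0,0]), (2, [0,3,3,0,3,3]), (1, [0,2,0,0,3]), (2, [1,1,2,2,1,2]), (2, [1,3,1,1,1]), (1, [2,0,3,1]),
   (2, [0,3,3,1,3]), (1, [0,2,2,0,0]), (1, [3,3,3,1]), (1, [0,3,1,3,1,2]), (2, [1,1,1,2,0,2,2]), (2, [1,3,1,2,0]),
   (1, [0,2,1,1,3,0]), (2, [0,2,2,0,2,0]), (2, [0,2,2,1,2]), (1, [1,1,3,3]), (2, [0,0,3,3,1,2,1]), (2, [0,2,0,3,1,1,2]),
   (2, [0,0,0,3,3,1,2,2]), (1, [1,3,1,2]), (1, [3,1,1,3]), (2, [0,2,2,0,2,0,3]), (2, [2,0,3,3,1]), (2, [0,3,0,0,3]),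
   (2, [0,2,1,3,3,0]), (1, [1,1,2,0,0,2]), (0, [2]), (1, [3,1,2,1,3,3]), (1, [3,3,0,0,2,2]), (2, [2,1,2,2,0,2]),
   (2, [2,2,0]), (2, [0,2,2,0,0,0,2]), (1, [0,3,3,0,3]), (2, [3,0,0,3,0]), (2, [3,1,1,3,1]), (2, [1,3,1,3]),
   (1, [1,1,1,3,3,0]), (2, [3,1,1,1,2,2]), (2, [2,2,2,0,3]), (1, [2,2,0,0]), (2, [2,2,1,3,0,2]), (1, [0,0,2,2,2,0]),
   (2, [1,2,0,2,2]), (1, [0,3,1,3]), (1, [1,3,1,2,1]), (2, [0,2,1,2,2,1,3]), (2, [0,2,1,1,1,3]), (2, [1,3,1,3,0]),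
   (2, [0,2,0,3,0,3,3]), (1, [0,3,0,2,1,3]), (2, [0,3,3,0,3,3,0,0]), (1, [2,0,2,1,1]), (1, [2,1,2,2,1,2]), (2, [2,1,2,2,0]),
   (1, [1,2,1]), (2, [0,3,3,1,3,3,0]), (1, [3,1,3,3,3]), (2, [1,1,3,0,3,3]), (2, [1,1,2,2,1,2,2]), (1, [3,3,0,3]),
   (2, [1,3,0,2,0,2]), (1, [2,1,3,1]), (2, [1,1,2,2,1]), (2, [1,3,0,3,0,2,2]), (1, [0,0,3,3,1]), (2, [0,2,1,2,1,1]),
   (1, [0,2,2,2,1]), (1, [0,3,3,0,0]), (1, [1,2,0,0,0,3]), (1, [1,2,1,3,3]), (1, [0,0,2,1,2,1]), (2, [0,2,0,0,0,3,0]),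
   (2, [1,2,1,3,1,1]), (2, [1,1,1,2,0,0,2]), (1, [2,0,0,2,0,0]), (2, [0,3,0,0,2,1,2]), (2, [1,3,0,2,0,3]), (2, [0,2,1,1,3,0,3]),
   (2, [1,1,1,3,3,0]), (2, [2,0,0,3,0,2,1]), (1, [3,0,0,2,2]), (2, [2,1,2,2,0,3,3]), (1, [0,2,2,2,0,0]), (1, [1,3,1,1,1]),
   (2, [3,1,1]), (2, [2,1,2,2,1,2]), (2, [0,0,3,3,1,3]), (2, [1,2,1,1,3,1,3]), (2, [2,0,2,1]), (1, [2,2,0,0,3]),
   (2, [3,0,3,1,3]), (1, [1,1,2,2,1,3]), (1, [2,2,2,0]), (2, [3,1,1,1,3,3]), (2, [0,0,3,3,0]), (2, [3,3,3,3,1,2]),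
   (1, [2,1]), (2, [0,3,1,3,3,3,1]), (2, [3,1,2,1,2]), (1, [3,0,0,0]), (1, [3,3,0,0,2]), (2, [2,0,0,2,0,3]),
   (1, [2,2,1,2,1])]

theorem hbaseT : (∀ x ∈ baseT, x < 2 ^ 24) ∧ baseT.Nodup := by decide +kernel

theorem hgenT : ∀ g ∈ gensT, genChkS baseT g = true := by decide +kernel

theorem hrootsT : ∀ r ∈ rootsT, (∀ x ∈ r, x < 2 ^ 24) ∧ r.Nodup := by decide +kernel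

theorem hclsT : ∀ e ∈ tabT, e.1 < rootsT.length := by decide +kernel

theorem hincT : incChk (tabKeys gensT rootsT tabT) 0 = true := by decide +kernel

theorem hinvT : ∀ c < rootsT.length, ∀ c' < rootsT.length,
    invLE 2 baseT (rootsT.getD c []) = invLE 2 baseT (rootsT.getD c' []) → c = c' := by
  decide +kernel

theorem hlenT : tabT.length = 1771 := by decide +kernel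

theorem hcountT : ∀ c < rootsT.length, (tabT.filter (fun e => e.1 == c)).length = sizeT c := by
  decide +kernel

end Cfsg.Agent.Lib_lead_MixTriSext
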