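import Mathlib
import Cfsg.Prelude.Def_Sporadic_a
import Cfsg.Agent.Lib_lead_Golay
import Cfsg.Agent.Lib_lead_GolayPerm
import Cfsg.Agent.Lib_lead_M24
import Cfsg.Agent.Lib_lead_M24Data
import Cfsg.Agent.Lib_lead_M24Chain
import Cfsg.Agent.Lib_lead_M12
import Cfsg.Agent.Lib_lead_M24Orb
import Cfsg.Agent.Lib_lead_M24Orb2

/-! Stabilizer chain inside the stabilizer of the octad with mask 3277413 (points 0, 2, 5, 6, 9, 17, 20, 21). -/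

set_option autoImplicit false

namespace Cfsg.Agent.Lib_lead_OctChain

open Cfsg Cfsg.Agent.Lib_lead_Golay Cfsg.Agent.Lib_lead_GolayPerm Cfsg.Agent.Lib_lead_M24
  Cfsg.Agent.Lib_lead_M24Data Cfsg.Agent.Lib_lead_M24Chain Cfsg.Agent.Lib_lead_M12
  Cfsg.Agent.Lib_lead_M24Orb Cfsg.Agent.Lib_lead_M24Orb2
open scoped Pointwise

set_option maxRecDepth 100000 in
/-- straight-line program -/
def nodes : List Node :=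
  [(([1, 2, 3, 4, 5, 6, 7, 8, 9, 10, 11, 12, 13, 14, 15, 16, 17, 18, 19, 20, 21, 22, 0, 23], [22, 0, 1, 2, 3, 4, 5, 6, 7, 8, 9, 10, 11, 12, 13, 14, 15, 16, 17, 18, 19, 20, 21, 23]), (0, 0, 0)),
   (([23, 22, 11, 15, 17, 9, 19, 13, 20, 5, 16, 2, 21, 7, 18, 3, 10, 4, 14, 6, 8, 12, 1, 0], [23, 22, 11, 15, 17, 9, 19, 13, 20, 5, 16, 2, 21, 7, 18, 3, 10, 4, 14, 6, 8, 12, 1, 0]), (0, 1, 0)),
   (([0, 18, 6, 3, 2, 21, 1, 5, 16, 12, 7, 19, 8, 9, 17, 15, 13, 11, 4, 22, 10, 20, 14, 23], [0, 6, 4, 3, 18, 7, 2, 10, 12, 13, 20, 17, 9, 16, 22, 15, 8, 14, 1, 11, 21, 5, 19, 23]), (0, 2, 0)),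
   (([0, 1, 2, 3, 4, 5, 6, 7, 8, 9, 10, 11, 12, 13, 14, 15, 16, 17, 18, 19, 20, 21, 22, 23], [0, 1, 2, 3, 4, 5, 6, 7, 8, 9, 10, 11, 12, 13, 14, 15, 16, 17, 18, 19, 20, 21, 22, 23]), (1, 1, 1)),
   (([2, 3, 4, 5, 6, 7, 8, 9, 10, 11, 12, 13, 14, 15, 16, 17, 18, 19, 20, 21, 22, 0, 1, 23], [21, 22, 0, 1, 2, 3, 4, 5, 6, 7, 8, 9, 10, 11, 12, 13, 14, 15, 16, 17, 18, 19, 20, 23]), (1, 0, 0)),
   (([22, 11, 15, 17, 9, 19, 13, 20, 5, 16, 2, 21, 7, 18, 3, 10, 4, 14, 6, 8, 12, 1, 23, 0], [23, 21, 10, 14, 16, 8, 18, 12, 19, 4, 15, 1, 20, 6, 17, 2, 9, 3, 13, 5, 7, 11, 0, 22]), (1, 1, 0)),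
   (([23, 0, 12, 16, 18, 10, 20, 14, 21, 6, 17, 3, 22, 8, 19, 4, 11, 5, 15, 7, 9, 13, 2, 1], [1, 23, 22, 11, 15, 17, 9, 19, 13, 20, 5, 16, 2, 21, 7, 18, 3, 10, 4, 14, 6, 8, 12, 0]), (1, 0, 1)),
   (([1, 19, 7, 4, 3, 22, 2, 6, 17, 13, 8, 20, 9, 10, 18, 16, 14, 12, 5, 0, 11, 21, 15, 23], [19, 0, 6, 4, 3, 18, 7, 2, 10, 12, 13, 20, 17, 9, 16, 22, 15, 8, 14, 1, 11, 21, 5, 23]), (1, 0, 2)),
   (([0, 4, 1, 3, 6, 20, 18, 21, 13, 8, 5, 22, 16, 12, 11, 15, 9, 19, 2, 14, 7, 10, 17, 23], [0, 2, 18, 3, 1, 10, 4, 20, 9, 16, 21, 14, 13, 8, 19, 15, 12, 22, 6, 17, 5, 7, 11, 23]), (1, 2, 2)),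
   (([3, 4, 5, 6, 7, 8, 9, 10, 11, 12, 13, 14, 15, 16, 17, 18, 19, 20, 21, 22, 0, 1, 2, 23], [20, 21, 22, 0, 1, 2, 3, 4, 5, 6, 7, 8, 9, 10, 11, 12, 13, 14, 15, 16, 17, 18, 19, 23]), (1, 0, 4)),
   (([11, 15, 17, 9, 19, 13, 20, 5, 16, 2, 21, 7, 18, 3, 10, 4, 14, 6, 8, 12, 1, 23, 22, 0], [23, 20, 9, 13, 15, 7, 17, 11, 18, 3, 14, 0, 19, 5, 16, 1, 8, 2, 12, 4, 6, 10, 22, 21]), (1, 1, 4)),
   (([6, 3, 2, 21, 1, 5, 16, 12, 7, 19, 8, 9, 17, 15, 13, 11, 4, 22, 10, 20, 14, 0, 18, 23], [21, 4, 2, 1, 16, 5, 0, 8, 10, 11, 18, 15, 7, 14, 20, 13, 6, 12, 22, 9, 19, 3, 17, 23]), (1, 2, 4)),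
   (([0, 12, 16, 18, 10, 20, 14, 21, 6, 17, 3, 22, 8, 19, 4, 11, 5, 15, 7, 9, 13, 2, 23, 1], [0, 23, 21, 10, 14, 16, 8, 18, 12, 19, 4, 15, 1, 20, 6, 17, 2, 9, 3, 13, 5, 7, 11, 22]), (1, 0, 5)),
   (([14, 19, 15, 11, 12, 22, 9, 10, 21, 13, 6, 20, 5, 4, 3, 7, 2, 17, 1, 16, 8, 18, 23, 0], [23, 18, 16, 14, 13, 12, 10, 15, 20, 6, 7, 3, 4, 9, 0, 2, 19, 17, 21, 1, 11, 8, 5, 22]), (1, 2, 5)),
   (([23, 1, 13, 17, 19, 11, 21, 15, 22, 7, 18, 4, 0, 9, 20, 5, 12, 6, 16, 8, 10, 14, 3, 2], [12, 1, 23, 22, 11, 15, 17, 9, 19, 13, 20, 5, 16, 2, 21, 7, 18, 3, 10, 4, 14, 6, 8, 0]), (1, 0, 6)),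
   (([0, 23, 21, 10, 14, 16, 8, 18, 12, 19, 4, 15, 1, 20, 6, 17, 2, 9, 3, 13, 5, 7, 11, 22], [0, 12, 16, 18, 10, 20, 14, 21, 6, 17, 3, 22, 8, 19, 4, 11, 5, 15, 7, 9, 13, 2, 23, 1]), (1, 1, 6)),
   (([23, 0, 8, 13, 4, 7, 10, 17, 20, 1, 11, 3, 14, 16, 22, 2, 19, 21, 15, 5, 12, 9, 6, 18], [1, 9, 15, 11, 4, 19, 22, 5, 2, 21, 6, 10, 20, 3, 12, 18, 13, 7, 23, 16, 8, 17, 14, 0]), (1, 2, 6)),
   (([18, 22, 5, 2, 3, 14, 6, 1, 11, 9, 16, 10, 12, 7, 4, 13, 17, 8, 21, 0, 19, 20, 15, 23], [19, 7, 3, 4, 14, 2, 6, 13, 17, 9, 11, 8, 12, 15, 5, 22, 10, 16, 0, 20, 21, 18, 1, 23]), (1, 2, 7)),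
   (([1, 5, 2, 4, 7, 21, 19, 22, 14, 9, 6, 0, 17, 13, 12, 16, 10, 20, 3, 15, 8, 11, 18, 23], [11, 0, 2, 18, 3, 1, 10, 4, 20, 9, 16, 21, 14, 13, 8, 19, 15, 12, 22, 6, 17, 5, 7, 23]), (1, 0, 8)),
   (([4, 5, 6, 7, 8, 9, 10, 11, 12, 13, 14, 15, 16, 17, 18, 19, 20, 21, 22, 0, 1, 2, 3, 23], [19, 20, 21, 22, 0, 1, 2, 3, 4, 5, 6, 7, 8, 9, 10, 11, 12, 13, 14, 15, 16, 17, 18, 23]), (1, 0, 9)),
   (([15, 17, 9, 19, 13, 20, 5, 16, 2, 21, 7, 18, 3, 10, 4, 14, 6, 8, 12, 1, 23, 22, 11, 0], [23, 19, 8, 12, 14, 6, 16, 10, 17, 2, 13, 22, 18, 4, 15, 0, 7, 1, 11, 3, 5, 9, 21, 20]), (1, 1, 9)),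
   (([12, 16, 18, 10, 20, 14, 21, 6, 17, 3, 22, 8, 19, 4, 11, 5, 15, 7, 9, 13, 2, 23, 0, 1], [22, 23, 20, 9, 13, 15, 7, 17, 11, 18, 3, 14, 0, 19, 5, 16, 1, 8, 2, 12, 4, 6, 10, 21]), (1, 0, 10)),
   (([7, 4, 3, 22, 2, 6, 17, 13, 8, 20, 9, 10, 18, 16, 14, 12, 5, 0, 11, 21, 15, 1, 19, 23], [17, 21, 4, 2, 1, 16, 5, 0, 8, 10, 11, 18, 15, 7, 14, 20, 13, 6, 12, 22, 9, 19, 3, 23]), (1, 0, 11)),
   (([1, 13, 17, 19, 11, 21, 15, 22, 7, 18, 4, 0, 9, 20, 5, 12, 6, 16, 8, 10, 14, 3, 23, 2], [11, 0, 23, 21, 10, 14, 16, 8, 18, 12, 19, 4, 15, 1, 20, 6, 17, 2, 9, 3, 13, 5, 7, 22]), (1, 0, 12)),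
   (([0, 8, 13, 4, 7, 10, 17, 20, 1, 11, 3, 14, 16, 22, 2, 19, 21, 15, 5, 12, 9, 6, 23, 18], [0, 8, 14, 10, 3, 18, 21, 4, 1, 20, 5, 9, 19, 2, 11, 17, 12, 6, 23, 15, 7, 16, 13, 22]), (1, 2, 12)),
   (([17, 22, 15, 19, 8, 14, 12, 7, 20, 9, 1, 10, 21, 2, 3, 5, 6, 11, 18, 13, 16, 4, 23, 0], [23, 10, 13, 14, 21, 15, 16, 7, 4, 9, 11, 17, 6, 19, 5, 2, 20, 0, 18, 3, 8, 12, 1, 22]), (1, 2, 13)),
   (([0, 22, 7, 4, 6, 2, 12, 3, 1, 13, 14, 17, 23, 5, 8, 9, 21, 19, 10, 20, 16, 18, 15, 11], [0, 8, 5, 7, 3, 13, 4, 2, 14, 15, 18, 23, 6, 9, 10, 22, 20, 11, 21, 17, 19, 16, 1, 12]), (1, 1, 14)),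
   (([0, 23, 20, 7, 17, 13, 16, 4, 8, 22, 2, 15, 18, 10, 1, 11, 6, 12, 3, 9, 21, 5, 19, 14], [0, 14, 10, 18, 7, 21, 16, 3, 8, 19, 13, 15, 17, 5, 23, 11, 6, 4, 12, 22, 2, 20, 9, 1]), (1, 2, 15)),
   (([23, 0, 16, 9, 2, 5, 7, 11, 10, 18, 19, 3, 17, 13, 14, 6, 22, 20, 15, 21, 8, 12, 1, 4], [1, 22, 4, 11, 23, 5, 15, 6, 20, 3, 8, 7, 21, 13, 14, 18, 2, 12, 9, 10, 17, 19, 16, 0]), (1, 2, 16)),
   (([22, 9, 11, 17, 13, 12, 6, 1, 18, 5, 19, 23, 4, 7, 21, 10, 16, 8, 15, 3, 20, 2, 14, 0], [23, 7, 21, 19, 12, 9, 6, 13, 17, 1, 15, 2, 5, 4, 22, 18, 16, 3, 8, 10, 20, 14, 0, 11]), (1, 1, 18)),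
   (([18, 21, 6, 2, 5, 20, 22, 14, 17, 12, 1, 0, 11, 9, 8, 13, 7, 10, 3, 15, 16, 19, 4, 23], [11, 10, 3, 18, 22, 4, 2, 16, 14, 13, 17, 12, 9, 15, 7, 19, 20, 8, 0, 21, 5, 1, 6, 23]), (1, 2, 18)),
   (([5, 6, 7, 8, 9, 10, 11, 12, 13, 14, 15, 16, 17, 18, 19, 20, 21, 22, 0, 1, 2, 3, 4, 23], [18, 19, 20, 21, 22, 0, 1, 2, 3, 4, 5, 6, 7, 8, 9, 10, 11, 12, 13, 14, 15, 16, 17, 23]), (1, 0, 19)),
   (([15, 11, 12, 22, 9, 10, 21, 13, 6, 20, 5, 4, 3, 7, 2, 17, 1, 16, 8, 18, 23, 14, 19, 0], [23, 16, 14, 12, 11, 10, 8, 13, 18, 4, 5, 1, 2, 7, 21, 0, 17, 15, 19, 22, 9, 6, 3, 20]), (1, 2, 20)),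
   (([13, 17, 19, 11, 21, 15, 22, 7, 18, 4, 0, 9, 20, 5, 12, 6, 16, 8, 10, 14, 3, 23, 1, 2], [10, 22, 23, 20, 9, 13, 15, 7, 17, 11, 18, 3, 14, 0, 19, 5, 16, 1, 8, 2, 12, 4, 6, 21]), (1, 0, 21)),
   (([5, 2, 3, 14, 6, 1, 11, 9, 16, 10, 12, 7, 4, 13, 17, 8, 21, 0, 19, 20, 15, 18, 22, 23], [17, 5, 1, 2, 12, 0, 4, 11, 15, 7, 9, 6, 10, 13, 3, 20, 8, 14, 21, 18, 19, 16, 22, 23]), (1, 2, 22)),
   (([18, 9, 11, 22, 19, 20, 15, 14, 5, 4, 2, 0, 12, 10, 21, 8, 1, 13, 16, 7, 17, 3, 23, 6], [11, 16, 10, 21, 9, 8, 23, 19, 15, 1, 13, 2, 12, 17, 7, 6, 18, 20, 0, 4, 5, 14, 3, 22]), (1, 2, 23)),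
   (([1, 9, 14, 5, 8, 11, 18, 21, 2, 12, 4, 15, 17, 0, 3, 20, 22, 16, 6, 13, 10, 7, 23, 19], [13, 0, 8, 14, 10, 3, 18, 21, 4, 1, 20, 5, 9, 19, 2, 11, 17, 12, 6, 23, 15, 7, 16, 22]), (1, 0, 24)),
   (([18, 0, 16, 20, 9, 15, 13, 8, 21, 10, 2, 11, 22, 3, 4, 6, 7, 12, 19, 14, 17, 5, 23, 1], [1, 23, 10, 13, 14, 21, 15, 16, 7, 4, 9, 11, 17, 6, 19, 5, 2, 20, 0, 18, 3, 8, 12, 22]), (1, 0, 25)),
   (([0, 14, 5, 2, 1, 6, 8, 3, 18, 9, 17, 11, 23, 21, 16, 12, 20, 22, 7, 10, 13, 4, 15, 19], [0, 4, 3, 7, 21, 2, 5, 18, 6, 9, 19, 11, 15, 20, 1, 22, 14, 10, 8, 23, 16, 13, 17, 12]), (1, 2, 26)),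
   (([0, 23, 10, 5, 11, 9, 13, 2, 16, 14, 6, 15, 4, 7, 18, 19, 1, 8, 3, 12, 20, 21, 22, 17], [0, 16, 7, 18, 12, 3, 10, 13, 17, 5, 2, 4, 19, 6, 9, 11, 8, 23, 14, 15, 20, 21, 22, 1]), (1, 2, 27)),
   (([23, 0, 13, 12, 6, 21, 5, 19, 7, 4, 22, 3, 11, 9, 17, 1, 14, 10, 15, 20, 16, 8, 18, 2], [1, 15, 23, 11, 9, 6, 4, 8, 21, 13, 17, 12, 3, 2, 16, 18, 20, 14, 22, 7, 19, 5, 10, 0]), (1, 2, 28)),
   (([14, 12, 19, 11, 9, 8, 1, 18, 4, 21, 22, 23, 2, 5, 20, 7, 13, 16, 15, 3, 10, 6, 17, 0], [23, 6, 12, 19, 8, 13, 21, 15, 5, 4, 20, 3, 1, 16, 0, 18, 17, 22, 7, 2, 14, 9, 10, 11]), (1, 2, 29)),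
   (([19, 22, 7, 3, 6, 21, 0, 15, 18, 13, 2, 1, 12, 10, 9, 14, 8, 11, 4, 16, 17, 20, 5, 23], [6, 11, 10, 3, 18, 22, 4, 2, 16, 14, 13, 17, 12, 9, 15, 7, 19, 20, 8, 0, 21, 5, 1, 23]), (1, 0, 30)),
   (([6, 7, 8, 9, 10, 11, 12, 13, 14, 15, 16, 17, 18, 19, 20, 21, 22, 0, 1, 2, 3, 4, 5, 23], [17, 18, 19, 20, 21, 22, 0, 1, 2, 3, 4, 5, 6, 7, 8, 9, 10, 11, 12, 13, 14, 15, 16, 23]), (1, 0, 31)),
   (([16, 12, 13, 0, 10, 11, 22, 14, 7, 21, 6, 5, 4, 8, 3, 18, 2, 17, 9, 19, 23, 15, 20, 1], [3, 23, 16, 14, 12, 11, 10, 8, 13, 18, 4, 5, 1, 2, 7, 21, 0, 17, 15, 19, 22, 9, 6, 20]), (1, 0, 32)),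
   (([9, 11, 22, 19, 20, 15, 14, 5, 4, 2, 0, 12, 10, 21, 8, 1, 13, 16, 7, 17, 3, 23, 18, 6], [10, 15, 9, 20, 8, 7, 23, 18, 14, 0, 12, 1, 11, 16, 6, 5, 17, 19, 22, 3, 4, 13, 2, 21]), (1, 2, 33)),
   (([6, 3, 4, 15, 7, 2, 12, 10, 17, 11, 13, 8, 5, 14, 18, 9, 22, 1, 20, 21, 16, 19, 0, 23], [22, 17, 5, 1, 2, 12, 0, 4, 11, 15, 7, 9, 6, 10, 13, 3, 20, 8, 14, 21, 18, 19, 16, 23]), (1, 0, 34)),
   (([19, 10, 12, 0, 20, 21, 16, 15, 6, 5, 3, 1, 13, 11, 22, 9, 2, 14, 17, 8, 18, 4, 23, 7], [3, 11, 16, 10, 21, 9, 8, 23, 19, 15, 1, 13, 2, 12, 17, 7, 6, 18, 20, 0, 4, 5, 14, 22]), (1, 0, 35)),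
   (([18, 12, 17, 21, 16, 19, 4, 20, 6, 8, 2, 15, 11, 0, 3, 10, 14, 13, 1, 9, 7, 5, 23, 22], [13, 18, 10, 14, 6, 21, 8, 20, 9, 19, 15, 12, 1, 17, 16, 11, 4, 2, 0, 5, 7, 3, 23, 22]), (1, 2, 36)),
   (([19, 1, 17, 21, 10, 16, 14, 9, 22, 11, 3, 12, 0, 4, 5, 7, 8, 13, 20, 15, 18, 6, 23, 2], [12, 1, 23, 10, 13, 14, 21, 15, 16, 7, 4, 9, 11, 17, 6, 19, 5, 2, 20, 0, 18, 3, 8, 22]), (1, 0, 37)),
   (([4, 0, 13, 10, 12, 15, 9, 16, 20, 7, 6, 19, 14, 3, 2, 1, 5, 8, 22, 17, 11, 21, 23, 18], [1, 15, 14, 13, 0, 16, 10, 9, 17, 6, 3, 20, 4, 2, 12, 5, 7, 19, 23, 11, 8, 21, 18, 22]), (1, 2, 37)),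
   (([1, 15, 6, 3, 2, 7, 9, 4, 19, 10, 18, 12, 23, 22, 17, 13, 21, 0, 8, 11, 14, 5, 16, 20], [17, 0, 4, 3, 7, 21, 2, 5, 18, 6, 9, 19, 11, 15, 20, 1, 22, 14, 10, 8, 23, 16, 13, 12]), (1, 0, 38)),
   (([1, 23, 11, 6, 12, 10, 14, 3, 17, 15, 7, 16, 5, 8, 19, 20, 2, 9, 4, 13, 21, 22, 0, 18], [22, 0, 16, 7, 18, 12, 3, 10, 13, 17, 5, 2, 4, 19, 6, 9, 11, 8, 23, 14, 15, 20, 21, 1]), (1, 0, 39)),
   (([23, 1, 14, 13, 7, 22, 6, 20, 8, 5, 0, 4, 12, 10, 18, 2, 15, 11, 16, 21, 17, 9, 19, 3], [10, 1, 15, 23, 11, 9, 6, 4, 8, 21, 13, 17, 12, 3, 2, 16, 18, 20, 14, 22, 7, 19, 5, 0]), (1, 0, 40)),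
   (([15, 13, 20, 12, 10, 9, 2, 19, 5, 22, 0, 23, 3, 6, 21, 8, 14, 17, 16, 4, 11, 7, 18, 1], [10, 23, 6, 12, 19, 8, 13, 21, 15, 5, 4, 20, 3, 1, 16, 0, 18, 17, 22, 7, 2, 14, 9, 11]), (1, 0, 41)),
   (([20, 0, 8, 4, 7, 22, 1, 16, 19, 14, 3, 2, 13, 11, 10, 15, 9, 12, 5, 17, 18, 21, 6, 23], [1, 6, 11, 10, 3, 18, 22, 4, 2, 16, 14, 13, 17, 12, 9, 15, 7, 19, 20, 8, 0, 21, 5, 23]), (1, 0, 42)),
   (([7, 8, 9, 10, 11, 12, 13, 14, 15, 16, 17, 18, 19, 20, 21, 22, 0, 1, 2, 3, 4, 5, 6, 23], [16, 17, 18, 19, 20, 21, 22, 0, 1, 2, 3, 4, 5, 6, 7, 8, 9, 10, 11, 12, 13, 14, 15, 23]), (1, 0, 43)),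
   (([10, 21, 7, 23, 16, 2, 1, 18, 13, 12, 19, 9, 17, 20, 15, 14, 11, 4, 5, 6, 0, 3, 8, 22], [20, 6, 5, 21, 17, 18, 19, 2, 22, 11, 0, 16, 9, 8, 15, 14, 4, 12, 7, 10, 13, 1, 23, 3]), (1, 1, 44)),
   (([7, 4, 5, 16, 8, 3, 13, 11, 18, 12, 14, 9, 6, 15, 19, 10, 0, 2, 21, 22, 17, 20, 1, 23], [16, 22, 17, 5, 1, 2, 12, 0, 4, 11, 15, 7, 9, 6, 10, 13, 3, 20, 8, 14, 21, 18, 19, 23]), (1, 0, 46)),
   (([6, 16, 21, 23, 8, 12, 10, 3, 19, 9, 15, 22, 7, 2, 1, 5, 11, 18, 4, 20, 14, 17, 0, 13], [22, 14, 13, 7, 18, 15, 0, 12, 4, 9, 6, 16, 5, 23, 20, 10, 1, 21, 17, 8, 19, 2, 11, 3]), (1, 1, 47)),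
   (([20, 2, 18, 22, 11, 17, 15, 10, 0, 12, 4, 13, 1, 5, 6, 8, 9, 14, 21, 16, 19, 7, 23, 3], [8, 12, 1, 23, 10, 13, 14, 21, 15, 16, 7, 4, 9, 11, 17, 6, 19, 5, 2, 20, 0, 18, 3, 22]), (1, 0, 49)),
   (([22, 3, 19, 15, 11, 13, 5, 17, 6, 16, 14, 21, 0, 1, 4, 7, 12, 23, 20, 2, 18, 9, 10, 8], [12, 13, 19, 1, 14, 6, 8, 15, 23, 21, 22, 4, 16, 5, 10, 3, 9, 7, 20, 2, 18, 11, 0, 17]), (1, 1, 51)),
   (([23, 2, 15, 14, 8, 0, 7, 21, 9, 6, 1, 5, 13, 11, 19, 3, 16, 12, 17, 22, 18, 10, 20, 4], [5, 10, 1, 15, 23, 11, 9, 6, 4, 8, 21, 13, 17, 12, 3, 2, 16, 18, 20, 14, 22, 7, 19, 0]), (1, 0, 53)),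
   (([3, 7, 8, 21, 16, 5, 11, 6, 9, 1, 23, 0, 15, 19, 12, 20, 18, 4, 10, 17, 2, 13, 14, 22], [11, 9, 20, 0, 17, 5, 7, 1, 2, 8, 18, 6, 14, 21, 22, 12, 4, 19, 16, 13, 15, 3, 23, 10]), (1, 1, 54)),
   (([5, 16, 12, 7, 19, 8, 9, 17, 15, 13, 11, 4, 22, 10, 20, 14, 0, 18, 6, 3, 2, 21, 1, 23], [16, 22, 20, 19, 11, 0, 18, 3, 5, 6, 13, 10, 2, 9, 15, 8, 1, 7, 17, 4, 14, 21, 12, 23]), (1, 2, 56)),
   (([1, 13, 20, 23, 16, 8, 7, 3, 22, 12, 15, 14, 5, 6, 18, 21, 19, 4, 2, 10, 17, 11, 0, 9], [22, 0, 18, 7, 17, 12, 13, 6, 5, 23, 19, 21, 9, 1, 11, 10, 4, 20, 14, 16, 2, 15, 8, 3]), (1, 2, 59)),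
   (([23, 3, 16, 15, 9, 1, 8, 22, 10, 7, 2, 6, 14, 12, 20, 4, 17, 13, 18, 0, 19, 11, 21, 5], [19, 5, 10, 1, 15, 23, 11, 9, 6, 4, 8, 21, 13, 17, 12, 3, 2, 16, 18, 20, 14, 22, 7, 0]), (1, 0, 62)),
   (([2, 14, 21, 23, 17, 9, 8, 4, 0, 13, 16, 15, 6, 7, 19, 22, 20, 5, 3, 11, 18, 12, 1, 10], [8, 22, 0, 18, 7, 17, 12, 13, 6, 5, 23, 19, 21, 9, 1, 11, 10, 4, 20, 14, 16, 2, 15, 3]), (1, 0, 65)),
   (([16, 22, 20, 19, 11, 0, 18, 3, 5, 6, 13, 10, 2, 9, 15, 8, 1, 7, 17, 4, 14, 21, 12, 23], [5, 16, 12, 7, 19, 8, 9, 17, 15, 13, 11, 4, 22, 10, 20, 14, 0, 18, 6, 3, 2, 21, 1, 23]), (2, 64, 0)),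
   (([20, 15, 21, 23, 7, 6, 5, 11, 16, 9, 1, 8, 18, 3, 4, 12, 14, 0, 19, 10, 17, 2, 22, 13], [17, 10, 21, 13, 14, 6, 5, 4, 11, 9, 19, 7, 15, 23, 16, 1, 8, 20, 12, 18, 0, 2, 22, 3]), (1, 68, 67)),
   (([19, 13, 18, 22, 17, 20, 5, 21, 7, 9, 3, 16, 12, 1, 4, 11, 15, 14, 2, 10, 8, 6, 23, 0], [23, 13, 18, 10, 14, 6, 21, 8, 20, 9, 19, 15, 12, 1, 17, 16, 11, 4, 2, 0, 5, 7, 3, 22]), (1, 0, 48)),
   (([19, 7, 3, 4, 14, 2, 6, 13, 17, 9, 11, 8, 12, 15, 5, 22, 10, 16, 0, 20, 21, 18, 1, 23], [18, 22, 5, 2, 3, 14, 6, 1, 11, 9, 16, 10, 12, 7, 4, 13, 17, 8, 21, 0, 19, 20, 15, 23]), (2, 17, 0)),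
   (([20, 15, 0, 1, 16, 21, 2, 18, 13, 9, 4, 10, 12, 7, 14, 8, 22, 5, 3, 11, 17, 6, 23, 19], [2, 3, 6, 18, 10, 17, 21, 13, 15, 9, 11, 19, 12, 8, 14, 1, 4, 20, 7, 23, 0, 5, 16, 22]), (1, 71, 70)),
   (([18, 23, 19, 1, 8, 7, 17, 3, 11, 15, 5, 13, 21, 16, 22, 10, 6, 12, 2, 9, 20, 14, 0, 4], [22, 3, 18, 7, 23, 10, 16, 5, 4, 19, 15, 8, 17, 11, 21, 9, 13, 6, 0, 2, 20, 12, 14, 1]), (1, 2, 52)),
   (([8, 12, 1, 23, 10, 13, 14, 21, 15, 16, 7, 4, 9, 11, 17, 6, 19, 5, 2, 20, 0, 18, 3, 22], [20, 2, 18, 22, 11, 17, 15, 10, 0, 12, 4, 13, 1, 5, 6, 8, 9, 14, 21, 16, 19, 7, 23, 3]), (2, 60, 0)),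
   (([2, 22, 20, 12, 15, 21, 5, 23, 4, 6, 13, 11, 18, 19, 3, 7, 14, 9, 1, 16, 0, 17, 8, 10], [20, 18, 0, 14, 8, 6, 9, 15, 22, 17, 23, 11, 3, 10, 16, 4, 19, 21, 12, 13, 2, 5, 1, 7]), (1, 74, 73)),
   (([11, 22, 8, 23, 17, 3, 2, 19, 14, 13, 20, 10, 18, 21, 16, 15, 12, 5, 6, 7, 1, 4, 9, 0], [23, 20, 6, 5, 21, 17, 18, 19, 2, 22, 11, 0, 16, 9, 8, 15, 14, 4, 12, 7, 10, 13, 1, 3]), (1, 0, 57)),
   (([11, 9, 20, 0, 17, 5, 7, 1, 2, 8, 18, 6, 14, 21, 22, 12, 4, 19, 16, 13, 15, 3, 23, 10], [3, 7, 8, 21, 16, 5, 11, 6, 9, 1, 23, 0, 15, 19, 12, 20, 18, 4, 10, 17, 2, 13, 14, 22]), (2, 63, 0)),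
   (([6, 23, 2, 10, 19, 0, 20, 13, 22, 21, 15, 18, 16, 3, 4, 12, 14, 5, 7, 1, 9, 17, 8, 11], [5, 19, 2, 13, 14, 17, 0, 18, 22, 20, 3, 23, 15, 7, 16, 10, 12, 21, 11, 4, 6, 9, 8, 1]), (1, 77, 76)),
   (([9, 11, 15, 18, 19, 22, 2, 5, 10, 16, 21, 13, 17, 7, 4, 20, 12, 23, 6, 8, 3, 14, 1, 0], [23, 22, 6, 20, 14, 7, 18, 13, 19, 0, 8, 1, 16, 11, 21, 2, 9, 12, 3, 4, 15, 10, 5, 17]), (1, 1, 34)),
   (([10, 15, 9, 20, 8, 7, 23, 18, 14, 0, 12, 1, 11, 16, 6, 5, 17, 19, 22, 3, 4, 13, 2, 21], [9, 11, 22, 19, 20, 15, 14, 5, 4, 2, 0, 12, 10, 21, 8, 1, 13, 16, 7, 17, 3, 23, 18, 6]), (2, 45, 0)),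
   (([0, 1, 5, 22, 3, 2, 9, 7, 12, 17, 13, 16, 19, 18, 8, 4, 11, 21, 23, 14, 20, 6, 15, 10], [0, 1, 5, 4, 15, 2, 21, 7, 14, 6, 23, 16, 8, 10, 19, 22, 11, 9, 13, 12, 20, 17, 3, 18]), (1, 80, 79)),
   (([23, 3, 13, 15, 12, 18, 16, 14, 7, 5, 6, 1, 17, 8, 10, 2, 11, 9, 4, 0, 22, 19, 20, 21], [19, 11, 15, 1, 18, 9, 10, 8, 13, 17, 14, 16, 4, 2, 7, 3, 6, 12, 5, 21, 22, 23, 20, 0]), (1, 2, 66)),
   (([12, 13, 19, 1, 14, 6, 8, 15, 23, 21, 22, 4, 16, 5, 10, 3, 9, 7, 20, 2, 18, 11, 0, 17], [22, 3, 19, 15, 11, 13, 5, 17, 6, 16, 14, 21, 0, 1, 4, 7, 12, 23, 20, 2, 18, 9, 10, 8]), (2, 61, 0)),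
   (([17, 1, 5, 3, 16, 20, 9, 10, 15, 6, 8, 13, 7, 23, 22, 19, 4, 21, 14, 12, 0, 2, 18, 11], [20, 1, 21, 3, 16, 2, 9, 12, 10, 6, 7, 23, 19, 11, 18, 8, 4, 0, 22, 15, 5, 17, 14, 13]), (1, 83, 82)),
   (([8, 23, 20, 17, 13, 1, 22, 10, 6, 18, 15, 11, 7, 2, 16, 3, 5, 21, 9, 4, 14, 12, 19, 0], [23, 5, 13, 15, 19, 16, 8, 12, 0, 18, 7, 11, 21, 4, 20, 10, 14, 3, 9, 22, 2, 17, 6, 1]), (1, 1, 55)),
   (([1, 6, 11, 10, 3, 18, 22, 4, 2, 16, 14, 13, 17, 12, 9, 15, 7, 19, 20, 8, 0, 21, 5, 23], [20, 0, 8, 4, 7, 22, 1, 16, 19, 14, 3, 2, 13, 11, 10, 15, 9, 12, 5, 17, 18, 21, 6, 23]), (2, 55, 0)),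
   (([2, 23, 0, 19, 12, 6, 5, 14, 22, 20, 15, 13, 4, 11, 7, 10, 18, 21, 16, 3, 9, 17, 8, 1], [2, 23, 0, 19, 12, 6, 5, 14, 22, 20, 15, 13, 4, 11, 7, 10, 18, 21, 16, 3, 9, 17, 8, 1]), (1, 86, 85)),
   (([17, 23, 7, 16, 21, 3, 5, 10, 8, 13, 19, 6, 18, 15, 11, 22, 9, 20, 1, 4, 2, 12, 0, 14], [22, 18, 20, 5, 19, 6, 11, 2, 8, 16, 7, 14, 21, 9, 23, 13, 3, 0, 12, 10, 17, 4, 15, 1]), (1, 1, 50)),
   (([16, 22, 17, 5, 1, 2, 12, 0, 4, 11, 15, 7, 9, 6, 10, 13, 3, 20, 8, 14, 21, 18, 19, 23], [7, 4, 5, 16, 8, 3, 13, 11, 18, 12, 14, 9, 6, 15, 19, 10, 0, 2, 21, 22, 17, 20, 1, 23]), (2, 58, 0)),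
   (([20, 23, 0, 3, 18, 5, 2, 15, 4, 6, 14, 12, 8, 13, 7, 19, 11, 21, 22, 1, 17, 9, 16, 10], [2, 19, 6, 3, 8, 5, 9, 14, 12, 21, 23, 16, 11, 13, 10, 7, 22, 20, 4, 15, 0, 17, 18, 1]), (1, 89, 88)),
   (([9, 12, 17, 11, 13, 20, 0, 18, 14, 21, 23, 22, 7, 10, 19, 16, 4, 6, 1, 15, 5, 2, 8, 3], [6, 18, 21, 23, 16, 20, 17, 12, 22, 0, 13, 3, 1, 4, 8, 19, 15, 2, 7, 14, 5, 9, 11, 10]), (1, 78, 69)),
   (([21, 22, 17, 18, 12, 2, 6, 13, 7, 5, 3, 8, 19, 10, 23, 11, 4, 9, 15, 14, 20, 0, 16, 1], [21, 23, 5, 10, 16, 9, 6, 8, 11, 17, 13, 15, 4, 7, 19, 18, 22, 2, 3, 12, 20, 0, 1, 14]), (1, 69, 75)),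
   (([5, 15, 20, 19, 4, 6, 2, 10, 3, 9, 18, 16, 23, 14, 22, 7, 8, 17, 1, 11, 0, 21, 12, 13], [20, 18, 6, 8, 4, 0, 5, 15, 16, 9, 7, 19, 22, 23, 13, 1, 11, 17, 10, 3, 2, 21, 14, 12]), (1, 81, 75)),
   (([9, 11, 5, 8, 12, 17, 0, 23, 18, 2, 19, 14, 4, 3, 16, 7, 22, 20, 10, 1, 6, 21, 15, 13], [6, 19, 9, 13, 12, 2, 20, 15, 3, 0, 18, 1, 4, 23, 11, 22, 14, 5, 8, 10, 17, 21, 16, 7]), (1, 84, 78)),
   (([6, 18, 21, 23, 16, 20, 17, 12, 22, 0, 13, 3, 1, 4, 8, 19, 15, 2, 7, 14, 5, 9, 11, 10], [9, 12, 17, 11, 13, 20, 0, 18, 14, 21, 23, 22, 7, 10, 19, 16, 4, 6, 1, 15, 5, 2, 8, 3]), (2, 91, 0)),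
   (([0, 3, 20, 22, 1, 2, 6, 10, 7, 21, 14, 8, 16, 23, 15, 12, 11, 5, 13, 18, 17, 9, 19, 4], [0, 4, 5, 1, 23, 17, 6, 8, 11, 21, 7, 16, 15, 18, 10, 14, 12, 20, 19, 22, 2, 9, 3, 13]), (1, 95, 94)),
   (([5, 13, 21, 1, 10, 20, 17, 3, 22, 2, 12, 19, 14, 23, 7, 18, 4, 6, 11, 15, 9, 0, 16, 8], [21, 3, 9, 7, 16, 0, 17, 14, 23, 20, 4, 18, 10, 1, 12, 19, 22, 6, 15, 11, 5, 2, 8, 13]), (1, 69, 78)),
   (([20, 18, 6, 8, 4, 0, 5, 15, 16, 9, 7, 19, 22, 23, 13, 1, 11, 17, 10, 3, 2, 21, 14, 12], [5, 15, 20, 19, 4, 6, 2, 10, 3, 9, 18, 16, 23, 14, 22, 7, 8, 17, 1, 11, 0, 21, 12, 13]), (2, 93, 0)),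
   (([0, 23, 21, 18, 7, 2, 17, 8, 14, 6, 22, 3, 13, 12, 15, 10, 4, 5, 19, 1, 9, 20, 11, 16], [0, 19, 5, 11, 16, 17, 9, 4, 7, 20, 15, 22, 13, 12, 8, 14, 23, 6, 3, 18, 21, 2, 10, 1]), (1, 98, 97)),
   (([5, 15, 21, 1, 22, 17, 9, 4, 8, 2, 13, 7, 18, 19, 23, 11, 16, 6, 14, 12, 20, 0, 3, 10], [21, 3, 9, 22, 7, 0, 17, 11, 8, 6, 23, 15, 19, 10, 18, 1, 16, 5, 12, 13, 20, 2, 4, 14]), (1, 72, 84)),
   (([0, 1, 21, 18, 14, 17, 9, 4, 16, 6, 23, 15, 10, 3, 12, 19, 11, 5, 13, 22, 2, 20, 8, 7], [0, 1, 20, 13, 7, 17, 9, 23, 22, 6, 12, 16, 14, 18, 4, 11, 8, 5, 3, 15, 21, 2, 19, 10]), (1, 98, 100)),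
   (([5, 23, 0, 10, 14, 9, 21, 15, 12, 20, 22, 3, 13, 11, 8, 1, 19, 17, 4, 16, 6, 2, 7, 18], [2, 15, 21, 11, 18, 0, 20, 22, 14, 5, 3, 13, 8, 12, 4, 7, 19, 17, 23, 16, 9, 6, 10, 1]), (1, 78, 84)),
   (([0, 12, 20, 7, 13, 9, 21, 1, 22, 2, 14, 8, 23, 19, 16, 18, 3, 17, 4, 11, 5, 6, 15, 10], [0, 7, 9, 16, 18, 20, 21, 3, 11, 5, 23, 19, 1, 4, 10, 22, 14, 17, 15, 13, 2, 6, 8, 12]), (1, 98, 102)),
   (([2, 4, 20, 14, 3, 9, 5, 13, 22, 17, 23, 11, 10, 8, 15, 7, 12, 21, 1, 16, 0, 6, 19, 18], [20, 18, 0, 4, 1, 6, 21, 15, 13, 5, 12, 11, 16, 7, 3, 14, 19, 9, 23, 22, 2, 17, 8, 10]), (1, 81, 93)),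
   (([20, 18, 0, 14, 8, 6, 9, 15, 22, 17, 23, 11, 3, 10, 16, 4, 19, 21, 12, 13, 2, 5, 1, 7], [2, 22, 20, 12, 15, 21, 5, 23, 4, 6, 13, 11, 18, 19, 3, 7, 14, 9, 1, 16, 0, 17, 8, 10]), (2, 75, 0)),
   (([0, 8, 2, 16, 14, 17, 6, 10, 1, 21, 7, 11, 23, 22, 4, 15, 3, 5, 18, 19, 20, 9, 13, 12], [0, 8, 2, 16, 14, 17, 6, 10, 1, 21, 7, 11, 23, 22, 4, 15, 3, 5, 18, 19, 20, 9, 13, 12]), (1, 105, 104)),
   (([0, 16, 17, 8, 19, 9, 5, 10, 18, 2, 13, 12, 22, 1, 3, 15, 7, 6, 23, 11, 20, 21, 4, 14], [0, 13, 9, 14, 22, 6, 17, 16, 3, 5, 7, 19, 11, 10, 23, 15, 1, 2, 8, 4, 20, 21, 12, 18]), (1, 90, 75)),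
   (([9, 18, 0, 8, 3, 17, 20, 19, 4, 2, 13, 22, 11, 1, 10, 14, 7, 5, 15, 12, 6, 21, 16, 23], [2, 13, 9, 4, 8, 17, 20, 16, 3, 0, 14, 12, 19, 10, 15, 18, 22, 5, 1, 7, 6, 21, 11, 23]), (1, 69, 91)),
   (([0, 7, 6, 22, 23, 2, 5, 14, 16, 21, 4, 11, 3, 18, 13, 8, 12, 20, 19, 1, 17, 9, 15, 10], [0, 19, 5, 12, 10, 6, 2, 1, 15, 21, 23, 11, 16, 14, 7, 22, 8, 20, 13, 18, 17, 9, 3, 4]), (1, 95, 108)),
   (([0, 18, 9, 11, 23, 21, 17, 22, 8, 20, 15, 14, 4, 16, 10, 13, 3, 2, 12, 19, 5, 6, 1, 7], [0, 22, 17, 16, 12, 20, 21, 23, 8, 2, 14, 3, 18, 15, 11, 10, 13, 6, 1, 19, 9, 5, 7, 4]), (1, 99, 96)),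
   (([0, 7, 5, 15, 12, 20, 21, 14, 1, 6, 16, 22, 3, 10, 18, 23, 8, 9, 19, 4, 17, 2, 11, 13], [0, 8, 21, 12, 19, 2, 9, 1, 16, 17, 13, 22, 4, 23, 7, 3, 10, 20, 14, 18, 5, 6, 11, 15]), (1, 103, 96)),
   (([0, 10, 17, 15, 23, 20, 9, 4, 8, 6, 3, 13, 16, 7, 18, 12, 1, 21, 19, 14, 5, 2, 11, 22], [0, 16, 21, 10, 7, 20, 9, 13, 8, 6, 1, 22, 15, 11, 19, 3, 12, 2, 14, 18, 5, 17, 23, 4]), (1, 106, 111)),
   (([0, 13, 9, 14, 22, 6, 17, 16, 3, 5, 7, 19, 11, 10, 23, 15, 1, 2, 8, 4, 20, 21, 12, 18], [0, 16, 17, 8, 19, 9, 5, 10, 18, 2, 13, 12, 22, 1, 3, 15, 7, 6, 23, 11, 20, 21, 4, 14]), (2, 107, 0)),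
   (([0, 7, 2, 15, 18, 20, 5, 22, 3, 17, 14, 10, 1, 16, 8, 11, 13, 21, 4, 23, 6, 9, 19, 12], [0, 12, 2, 8, 18, 6, 20, 1, 14, 21, 11, 15, 23, 16, 10, 3, 13, 9, 4, 22, 5, 17, 7, 19]), (1, 113, 112)),
   (([0, 4, 2, 8, 10, 6, 17, 15, 22, 5, 18, 16, 13, 3, 14, 19, 7, 20, 23, 11, 9, 21, 12, 1], [0, 23, 2, 13, 1, 9, 5, 16, 3, 20, 4, 19, 22, 12, 14, 7, 11, 6, 10, 15, 17, 21, 8, 18]), (1, 103, 110)),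
   (([0, 14, 2, 8, 3, 17, 9, 13, 7, 5, 12, 15, 22, 4, 19, 10, 16, 21, 1, 23, 20, 6, 11, 18], [0, 18, 2, 4, 13, 9, 21, 8, 3, 6, 15, 22, 10, 7, 1, 11, 16, 5, 23, 14, 20, 17, 12, 19]), (1, 109, 111)),
   (([0, 18, 21, 11, 12, 9, 5, 13, 1, 20, 15, 4, 14, 3, 7, 22, 16, 2, 23, 19, 17, 6, 8, 10], [0, 8, 17, 13, 11, 6, 21, 14, 22, 5, 23, 3, 4, 7, 12, 10, 16, 20, 1, 19, 9, 2, 15, 18]), (1, 106, 110)),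
   (([0, 19, 5, 11, 16, 17, 9, 4, 7, 20, 15, 22, 13, 12, 8, 14, 23, 6, 3, 18, 21, 2, 10, 1], [0, 23, 21, 18, 7, 2, 17, 8, 14, 6, 22, 3, 13, 12, 15, 10, 4, 5, 19, 1, 9, 20, 11, 16]), (2, 99, 0)),
   (([0, 3, 2, 22, 13, 20, 17, 12, 19, 21, 14, 16, 8, 11, 4, 10, 23, 5, 1, 18, 6, 9, 7, 15], [0, 18, 2, 1, 14, 17, 20, 22, 12, 21, 15, 13, 7, 4, 10, 23, 11, 6, 19, 8, 5, 9, 3, 16]), (1, 118, 117)),
   (([0, 4, 17, 19, 10, 2, 20, 12, 1, 9, 11, 8, 18, 23, 13, 7, 16, 6, 22, 14, 5, 21, 15, 3], [0, 8, 5, 23, 1, 20, 17, 15, 11, 9, 4, 10, 7, 14, 19, 22, 16, 2, 12, 3, 6, 21, 18, 13]), (1, 101, 111)),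
   (([0, 22, 2, 4, 7, 9, 20, 11, 13, 5, 19, 3, 8, 18, 10, 16, 1, 17, 12, 23, 6, 21, 15, 14], [0, 16, 2, 11, 3, 9, 20, 4, 12, 5, 14, 7, 18, 8, 23, 22, 15, 17, 13, 10, 6, 21, 1, 19]), (1, 113, 120)),
   (([0, 4, 9, 8, 7, 21, 17, 12, 11, 20, 14, 15, 18, 13, 3, 16, 10, 2, 22, 1, 5, 6, 19, 23], [0, 19, 17, 14, 1, 20, 21, 4, 3, 2, 16, 8, 7, 13, 10, 11, 15, 6, 12, 22, 9, 5, 18, 23]), (1, 101, 109)),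
   (([0, 22, 17, 16, 12, 20, 21, 23, 8, 2, 14, 3, 18, 15, 11, 10, 13, 6, 1, 19, 9, 5, 7, 4], [0, 18, 9, 11, 23, 21, 17, 22, 8, 20, 15, 14, 4, 16, 10, 13, 3, 2, 12, 19, 5, 6, 1, 7]), (2, 110, 0)),
   (([0, 12, 2, 8, 23, 5, 6, 18, 3, 9, 11, 10, 1, 15, 16, 13, 14, 17, 7, 22, 20, 21, 19, 4], [0, 12, 2, 8, 23, 5, 6, 18, 3, 9, 11, 10, 1, 15, 16, 13, 14, 17, 7, 22, 20, 21, 19, 4]), (1, 123, 122)),
   (([0, 10, 9, 19, 14, 6, 20, 16, 13, 5, 15, 22, 18, 3, 8, 4, 23, 2, 1, 7, 21, 17, 11, 12], [0, 18, 17, 13, 15, 9, 5, 19, 14, 2, 1, 22, 23, 8, 4, 10, 7, 21, 12, 3, 6, 20, 11, 16]), (1, 109, 99)),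
   (([0, 14, 2, 19, 11, 21, 9, 13, 15, 20, 10, 7, 1, 16, 8, 12, 4, 17, 22, 23, 5, 6, 3, 18], [0, 12, 2, 22, 16, 20, 21, 11, 14, 6, 10, 4, 15, 7, 1, 8, 13, 17, 23, 3, 9, 5, 18, 19]), (1, 123, 125)),
   (([0, 12, 2, 10, 15, 5, 9, 16, 3, 6, 11, 8, 22, 23, 18, 7, 4, 20, 13, 1, 17, 21, 19, 14], [0, 19, 2, 8, 16, 5, 9, 15, 11, 6, 3, 10, 1, 18, 23, 4, 7, 20, 14, 22, 17, 21, 12, 13]), (1, 115, 121)),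
   (([0, 7, 2, 13, 12, 21, 6, 16, 11, 20, 18, 22, 19, 1, 14, 23, 3, 5, 8, 15, 17, 9, 10, 4], [0, 13, 2, 16, 23, 17, 6, 1, 18, 21, 22, 8, 4, 3, 14, 19, 7, 20, 10, 12, 9, 5, 11, 15]), (1, 119, 121)),
   (([0, 12, 2, 22, 16, 20, 21, 11, 14, 6, 10, 4, 15, 7, 1, 8, 13, 17, 23, 3, 9, 5, 18, 19], [0, 14, 2, 19, 11, 21, 9, 13, 15, 20, 10, 7, 1, 16, 8, 12, 4, 17, 22, 23, 5, 6, 3, 18]), (2, 126, 0)),
   (([0, 11, 2, 7, 15, 5, 21, 13, 4, 9, 23, 18, 3, 12, 1, 19, 22, 20, 14, 8, 17, 6, 10, 16], [0, 14, 2, 12, 8, 5, 21, 3, 19, 9, 22, 1, 13, 7, 18, 4, 23, 20, 11, 15, 17, 6, 16, 10]), (1, 129, 128)),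
   (([0, 13, 2, 19, 14, 17, 5, 10, 7, 20, 1, 23, 11, 22, 4, 18, 12, 6, 15, 16, 21, 9, 8, 3], [0, 10, 2, 23, 14, 6, 17, 8, 22, 21, 7, 12, 16, 1, 4, 18, 19, 5, 15, 3, 9, 20, 13, 11]), (1, 119, 115)),
   (([0, 18, 2, 4, 13, 9, 21, 8, 3, 6, 15, 22, 10, 7, 1, 11, 16, 5, 23, 14, 20, 17, 12, 19], [0, 14, 2, 8, 3, 17, 9, 13, 7, 5, 12, 15, 22, 4, 19, 10, 16, 21, 1, 23, 20, 6, 11, 18]), (2, 116, 0)),
   (([0, 7, 2, 14, 1, 5, 9, 15, 8, 20, 18, 19, 22, 12, 13, 23, 10, 21, 11, 16, 17, 6, 3, 4], [0, 4, 2, 22, 23, 5, 21, 1, 8, 6, 16, 18, 13, 14, 3, 7, 19, 20, 10, 11, 9, 17, 12, 15]), (1, 132, 131)),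
   (([0, 11, 2, 15, 10, 9, 17, 12, 3, 21, 22, 4, 16, 19, 8, 23, 13, 5, 18, 7, 20, 6, 1, 14], [0, 22, 2, 8, 11, 17, 21, 19, 14, 5, 4, 1, 7, 16, 23, 3, 12, 6, 18, 13, 20, 9, 10, 15]), (1, 126, 115)),
   (([0, 16, 2, 11, 3, 9, 20, 4, 12, 5, 14, 7, 18, 8, 23, 22, 15, 17, 13, 10, 6, 21, 1, 19], [0, 22, 2, 4, 7, 9, 20, 11, 13, 5, 19, 3, 8, 18, 10, 16, 1, 17, 12, 23, 6, 21, 15, 14]), (2, 121, 0)),
   (([0, 7, 2, 22, 14, 5, 17, 18, 11, 21, 1, 3, 15, 10, 12, 19, 8, 9, 13, 4, 6, 20, 16, 23], [0, 10, 2, 11, 19, 5, 20, 1, 16, 17, 13, 8, 14, 18, 4, 12, 22, 6, 7, 15, 21, 9, 3, 23]), (1, 135, 134)),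
   (([0, 18, 2, 13, 7, 20, 5, 19, 8, 17, 16, 11, 12, 14, 3, 10, 15, 21, 23, 4, 6, 9, 22, 1], [0, 23, 2, 14, 19, 6, 20, 4, 8, 21, 15, 11, 12, 3, 13, 16, 10, 9, 1, 7, 5, 17, 22, 18]), (1, 124, 114)),
   (([0, 12, 2, 8, 18, 6, 20, 1, 14, 21, 11, 15, 23, 16, 10, 3, 13, 9, 4, 22, 5, 17, 7, 19], [0, 7, 2, 15, 18, 20, 5, 22, 3, 17, 14, 10, 1, 16, 8, 11, 13, 21, 4, 23, 6, 9, 19, 12]), (2, 114, 0)),
   (([0, 4, 2, 16, 1, 5, 6, 22, 14, 9, 13, 15, 23, 10, 8, 11, 3, 17, 19, 18, 20, 21, 7, 12], [0, 4, 2, 16, 1, 5, 6, 22, 14, 9, 13, 15, 23, 10, 8, 11, 3, 17, 19, 18, 20, 21, 7, 12]), (1, 138, 137)),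
   (([0, 12, 2, 10, 1, 6, 20, 7, 22, 5, 4, 14, 3, 23, 19, 16, 11, 9, 13, 15, 17, 21, 18, 8], [0, 4, 2, 12, 10, 9, 5, 7, 23, 17, 3, 16, 1, 18, 11, 19, 15, 20, 22, 14, 6, 21, 8, 13]), (1, 119, 114)),
   (([0, 23, 2, 13, 1, 9, 5, 16, 3, 20, 4, 19, 22, 12, 14, 7, 11, 6, 10, 15, 17, 21, 8, 18], [0, 4, 2, 8, 10, 6, 17, 15, 22, 5, 18, 16, 13, 3, 14, 19, 7, 20, 23, 11, 9, 21, 12, 1]), (2, 115, 0)),
   (([0, 22, 2, 4, 23, 5, 17, 16, 8, 9, 1, 14, 13, 18, 15, 11, 19, 20, 12, 7, 6, 21, 10, 3], [0, 10, 2, 23, 3, 5, 20, 19, 8, 9, 22, 15, 18, 12, 11, 14, 7, 6, 13, 16, 17, 21, 1, 4]), (1, 141, 140)),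
   (([0, 4, 2, 19, 22, 5, 21, 11, 12, 20, 8, 10, 7, 13, 18, 14, 23, 9, 3, 15, 6, 17, 16, 1], [0, 23, 2, 18, 1, 5, 20, 12, 10, 17, 11, 7, 8, 13, 15, 19, 22, 21, 14, 3, 9, 6, 4, 16]), (1, 119, 116)),
   (([0, 22, 2, 18, 23, 5, 20, 10, 14, 9, 19, 8, 3, 4, 11, 15, 1, 17, 12, 7, 21, 6, 16, 13], [0, 16, 2, 12, 13, 5, 21, 19, 11, 9, 7, 14, 18, 23, 8, 15, 22, 17, 3, 10, 6, 20, 1, 4]), (1, 133, 127)),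
   (([0, 18, 2, 16, 12, 5, 9, 13, 3, 20, 7, 22, 19, 1, 15, 4, 11, 21, 10, 14, 17, 6, 8, 23], [0, 13, 2, 8, 15, 5, 21, 10, 22, 6, 18, 16, 4, 7, 19, 14, 3, 20, 1, 12, 9, 17, 11, 23]), (1, 136, 136)),
   (([0, 19, 2, 8, 16, 5, 9, 15, 11, 6, 3, 10, 1, 18, 23, 4, 7, 20, 14, 22, 17, 21, 12, 13], [0, 12, 2, 10, 15, 5, 9, 16, 3, 6, 11, 8, 22, 23, 18, 7, 4, 20, 13, 1, 17, 21, 19, 14]), (2, 127, 0)),
   (([0, 14, 2, 7, 1, 5, 6, 18, 8, 17, 15, 12, 22, 19, 4, 16, 10, 21, 3, 23, 20, 9, 11, 13], [0, 4, 2, 18, 14, 5, 6, 3, 8, 21, 16, 22, 11, 23, 1, 10, 15, 9, 7, 13, 20, 17, 12, 19]), (1, 146, 145)),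
   (([0, 23, 2, 13, 11, 5, 9, 3, 16, 6, 15, 14, 7, 12, 19, 22, 1, 20, 10, 4, 17, 21, 18, 8], [0, 16, 2, 7, 19, 5, 9, 12, 23, 6, 18, 4, 13, 3, 11, 10, 8, 20, 22, 14, 17, 21, 15, 1]), (1, 139, 127)),
   (([0, 13, 2, 18, 10, 5, 6, 8, 7, 9, 4, 23, 15, 1, 22, 12, 19, 17, 3, 16, 20, 21, 14, 11], [0, 13, 2, 18, 10, 5, 6, 8, 7, 9, 4, 23, 15, 1, 22, 12, 19, 17, 3, 16, 20, 21, 14, 11]), (1, 146, 148)),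
   (([0, 14, 2, 16, 11, 5, 21, 18, 23, 9, 3, 12, 4, 13, 22, 7, 10, 6, 15, 8, 20, 17, 1, 19], [0, 22, 2, 10, 12, 5, 17, 15, 19, 9, 16, 4, 11, 13, 1, 18, 3, 21, 7, 23, 20, 6, 14, 8]), (1, 142, 130)),
   (([0, 14, 2, 12, 8, 5, 21, 3, 19, 9, 22, 1, 13, 7, 18, 4, 23, 20, 11, 15, 17, 6, 16, 10], [0, 11, 2, 7, 15, 5, 21, 13, 4, 9, 23, 18, 3, 12, 1, 19, 22, 20, 14, 8, 17, 6, 10, 16]), (2, 130, 0)),
   (([0, 18, 2, 23, 1, 5, 6, 11, 10, 9, 12, 13, 8, 7, 16, 3, 22, 21, 4, 19, 17, 20, 14, 15], [0, 4, 2, 15, 18, 5, 6, 13, 12, 9, 8, 7, 10, 11, 22, 23, 14, 20, 1, 19, 21, 17, 16, 3]), (1, 151, 150)),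
   (([0, 16, 2, 10, 15, 5, 20, 12, 14, 21, 22, 4, 11, 1, 13, 7, 8, 9, 18, 23, 17, 6, 19, 3], [0, 13, 2, 23, 11, 5, 21, 15, 16, 17, 3, 12, 7, 14, 8, 4, 1, 20, 18, 22, 6, 9, 10, 19]), (1, 142, 136)),
   (([0, 16, 2, 12, 13, 5, 21, 19, 11, 9, 7, 14, 18, 23, 8, 15, 22, 17, 3, 10, 6, 20, 1, 4], [0, 22, 2, 18, 23, 5, 20, 10, 14, 9, 19, 8, 3, 4, 11, 15, 1, 17, 12, 7, 21, 6, 16, 13]), (2, 144, 0)),
   (([0, 22, 2, 7, 15, 5, 6, 18, 8, 20, 1, 13, 14, 16, 23, 19, 11, 9, 3, 4, 17, 21, 10, 12], [0, 10, 2, 18, 19, 5, 6, 3, 8, 17, 22, 16, 23, 11, 12, 4, 13, 20, 7, 15, 9, 21, 1, 14]), (1, 154, 153)),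
   (([0, 16, 2, 3, 1, 5, 6, 8, 18, 20, 15, 12, 19, 22, 10, 14, 4, 9, 7, 11, 17, 21, 23, 13], [0, 4, 2, 3, 16, 5, 6, 18, 7, 17, 14, 19, 11, 23, 15, 10, 1, 20, 8, 12, 9, 21, 13, 22]), (1, 143, 144)),
   (([0, 3, 2, 11, 4, 5, 17, 18, 13, 20, 16, 8, 14, 1, 19, 23, 7, 21, 22, 15, 6, 9, 10, 12], [0, 13, 2, 1, 4, 5, 20, 16, 11, 21, 22, 3, 23, 8, 12, 19, 10, 6, 7, 14, 9, 17, 18, 15]), (1, 133, 144)),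
   (([0, 10, 2, 11, 19, 5, 20, 1, 16, 17, 13, 8, 14, 18, 4, 12, 22, 6, 7, 15, 21, 9, 3, 23], [0, 7, 2, 22, 14, 5, 17, 18, 11, 21, 1, 3, 15, 10, 12, 19, 8, 9, 13, 4, 6, 20, 16, 23]), (2, 136, 0)),
   (([0, 11, 2, 8, 19, 5, 6, 7, 18, 21, 22, 16, 4, 10, 15, 23, 1, 9, 3, 12, 20, 17, 13, 14], [0, 16, 2, 18, 12, 5, 6, 7, 3, 17, 13, 1, 19, 22, 23, 14, 11, 21, 8, 4, 20, 9, 10, 15]), (1, 158, 157)),
   (([0, 12, 2, 18, 11, 5, 6, 8, 7, 21, 23, 4, 1, 15, 14, 13, 16, 20, 3, 19, 17, 9, 22, 10], [0, 12, 2, 18, 11, 5, 6, 8, 7, 21, 23, 4, 1, 15, 14, 13, 16, 20, 3, 19, 17, 9, 22, 10]), (1, 156, 159)),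
   (([0, 16, 2, 18, 12, 5, 6, 7, 3, 17, 13, 1, 19, 22, 23, 14, 11, 21, 8, 4, 20, 9, 10, 15], [0, 11, 2, 8, 19, 5, 6, 7, 18, 21, 22, 16, 4, 10, 15, 23, 1, 9, 3, 12, 20, 17, 13, 14]), (2, 159, 0)),
   (([0, 19, 2, 8, 1, 5, 6, 3, 7, 9, 15, 12, 16, 14, 23, 22, 11, 20, 18, 4, 21, 17, 10, 13], [0, 4, 2, 7, 19, 5, 6, 8, 3, 9, 22, 16, 11, 23, 13, 10, 12, 21, 18, 1, 17, 20, 15, 14]), (1, 161, 160)),
   (([0, 10, 2, 18, 19, 5, 6, 3, 8, 17, 22, 16, 23, 11, 12, 4, 13, 20, 7, 15, 9, 21, 1, 14], [0, 22, 2, 7, 15, 5, 6, 18, 8, 20, 1, 13, 14, 16, 23, 19, 11, 9, 3, 4, 17, 21, 10, 12]), (1, 155, 155)),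
   (([0, 16, 2, 11, 18, 5, 6, 4, 10, 21, 3, 8, 14, 19, 1, 22, 12, 20, 23, 15, 17, 9, 13, 7], [0, 14, 2, 10, 7, 5, 6, 23, 11, 21, 8, 3, 16, 22, 12, 19, 1, 20, 4, 13, 17, 9, 15, 18]), (1, 152, 147)),
   (([0, 11, 2, 1, 8, 5, 6, 12, 13, 9, 18, 3, 23, 4, 16, 10, 19, 20, 15, 14, 21, 17, 22, 7], [0, 3, 2, 11, 13, 5, 6, 23, 4, 9, 15, 1, 7, 8, 19, 18, 14, 21, 10, 16, 17, 20, 22, 12]), (1, 161, 164)),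
   (([0, 15, 2, 7, 11, 5, 6, 3, 18, 9, 23, 4, 13, 12, 19, 1, 22, 17, 8, 14, 20, 21, 16, 10], [0, 15, 2, 7, 11, 5, 6, 3, 18, 9, 23, 4, 13, 12, 19, 1, 22, 17, 8, 14, 20, 21, 16, 10]), (1, 159, 147)),
   (([0, 13, 2, 10, 19, 5, 6, 11, 4, 20, 14, 22, 1, 12, 3, 15, 18, 9, 23, 8, 17, 21, 7, 16], [0, 12, 2, 14, 8, 5, 6, 22, 19, 17, 3, 7, 13, 1, 10, 15, 23, 20, 16, 4, 9, 21, 11, 18]), (1, 152, 159)),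
   (([0, 11, 2, 22, 15, 5, 6, 16, 19, 9, 12, 1, 10, 23, 18, 4, 7, 17, 14, 8, 20, 21, 3, 13], [0, 11, 2, 22, 15, 5, 6, 16, 19, 9, 12, 1, 10, 23, 18, 4, 7, 17, 14, 8, 20, 21, 3, 13]), (1, 163, 167)),
   (([0, 4, 2, 7, 19, 5, 6, 8, 3, 9, 22, 16, 11, 23, 13, 10, 12, 21, 18, 1, 17, 20, 15, 14], [0, 19, 2, 8, 1, 5, 6, 3, 7, 9, 15, 12, 16, 14, 23, 22, 11, 20, 18, 4, 21, 17, 10, 13]), (1, 162, 162)),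
   (([0, 8, 2, 12, 14, 5, 6, 13, 1, 9, 22, 19, 3, 7, 4, 18, 23, 17, 15, 11, 20, 21, 10, 16], [0, 8, 2, 12, 14, 5, 6, 13, 1, 9, 22, 19, 3, 7, 4, 18, 23, 17, 15, 11, 20, 21, 10, 16]), (1, 165, 169)),
   (([0, 18, 2, 13, 19, 5, 6, 12, 15, 9, 16, 14, 7, 3, 11, 8, 10, 17, 1, 4, 20, 21, 23, 22], [0, 18, 2, 13, 19, 5, 6, 12, 15, 9, 16, 14, 7, 3, 11, 8, 10, 17, 1, 4, 20, 21, 23, 22]), (1, 162, 152)),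
   (([0, 16, 2, 4, 3, 5, 6, 11, 23, 9, 18, 7, 14, 19, 12, 22, 1, 17, 10, 13, 20, 21, 15, 8], [0, 16, 2, 4, 3, 5, 6, 11, 23, 9, 18, 7, 14, 19, 12, 22, 1, 17, 10, 13, 20, 21, 15, 8]), (1, 169, 165)),
   (([0, 10, 2, 19, 13, 5, 6, 14, 22, 9, 1, 12, 11, 4, 7, 23, 18, 17, 16, 3, 20, 21, 8, 15], [0, 10, 2, 19, 13, 5, 6, 14, 22, 9, 1, 12, 11, 4, 7, 23, 18, 17, 16, 3, 20, 21, 8, 15]), (1, 139, 149)),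
   (([0, 23, 2, 14, 12, 5, 6, 19, 16, 9, 15, 13, 4, 11, 3, 10, 8, 17, 22, 7, 20, 21, 18, 1], [0, 23, 2, 14, 12, 5, 6, 19, 16, 9, 15, 13, 4, 11, 3, 10, 8, 17, 22, 7, 20, 21, 18, 1]), (1, 168, 149)),
   (([0, 7, 2, 15, 22, 5, 6, 1, 13, 9, 14, 16, 18, 8, 10, 3, 11, 17, 12, 23, 20, 21, 4, 19], [0, 7, 2, 15, 22, 5, 6, 1, 13, 9, 14, 16, 18, 8, 10, 3, 11, 17, 12, 23, 20, 21, 4, 19]), (1, 170, 149)),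
   (([0, 3, 2, 1, 16, 5, 6, 15, 12, 9, 19, 22, 8, 18, 23, 7, 4, 17, 13, 10, 20, 21, 11, 14], [0, 3, 2, 1, 16, 5, 6, 15, 12, 9, 19, 22, 8, 18, 23, 7, 4, 17, 13, 10, 20, 21, 11, 14]), (1, 171, 149)),
   (([0, 19, 2, 10, 18, 5, 6, 23, 11, 9, 3, 8, 22, 16, 15, 14, 13, 17, 4, 1, 20, 21, 12, 7], [0, 19, 2, 10, 18, 5, 6, 23, 11, 9, 3, 8, 22, 16, 15, 14, 13, 17, 4, 1, 20, 21, 12, 7]), (1, 172, 149)),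
   (([0, 14, 2, 23, 8, 5, 6, 10, 4, 9, 7, 18, 16, 22, 1, 19, 12, 17, 11, 15, 20, 21, 13, 3], [0, 14, 2, 23, 8, 5, 6, 10, 4, 9, 7, 18, 16, 22, 1, 19, 12, 17, 11, 15, 20, 21, 13, 3]), (1, 170, 139)),
   (([0, 22, 2, 11, 7, 5, 6, 4, 10, 9, 8, 3, 19, 14, 13, 16, 15, 17, 23, 12, 20, 21, 1, 18], [0, 22, 2, 11, 7, 5, 6, 4, 10, 9, 8, 3, 19, 14, 13, 16, 15, 17, 23, 12, 20, 21, 1, 18]), (1, 172, 166))]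

theorem nodes_ok : slpOK nodes = true := by decide +kernel

/-- witnesses of level A1 -/
def rowA1 : List ℕ := [3, 0, 75, 0, 0, 93, 78, 0, 0, 91, 0, 0, 0, 0, 0, 0, 0, 84, 0, 0, 69, 92, 0, 0]

theorem rowA1_ok : lvlOKD nodes 3277413 0 0 3277413 rowA1 = true := by decide +kernel

theorem lvA1 : LvlD 3277413 0 0 3277413 :=
  ⟨by norm_num, by norm_num, subD (by norm_num) (by decide) (by decide),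
    lvlD_sound nodes_ok (by norm_num) (by norm_num) rowA1_ok⟩

/-- witnesses of level A2 -/
def rowA2 : List ℕ := [0, 0, 3, 0, 0, 111, 109, 0, 0, 110, 0, 0, 0, 0, 0, 0, 0, 107, 0, 0, 96, 99, 0, 0]

theorem rowA2_ok : lvlOKD nodes 3277413 1 2 3277412 rowA2 = true := by decide +kernel

theorem lvA2 : LvlD 3277413 1 2 3277412 :=
  ⟨by norm_num, by norm_num, subD (by norm_num) (by decide) (by decide),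
    lvlD_sound nodes_ok (by norm_num) (by norm_num) rowA2_ok⟩

/-- witnesses of level A3 -/
def rowA3 : List ℕ := [0, 0, 0, 0, 0, 3, 115, 0, 0, 121, 0, 0, 0, 0, 0, 0, 0, 116, 0, 0, 114, 126, 0, 0]

theorem rowA3_ok : lvlOKD nodes 3277413 5 5 3277408 rowA3 = true := by decide +kernel

theorem lvA3 : LvlD 3277413 5 5 3277408 :=
  ⟨by norm_num, by norm_num, subD (by norm_num) (by decide) (by decide),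
    lvlD_sound nodes_ok (by norm_num) (by norm_num) rowA3_ok⟩

/-- witnesses of level A4 -/
def rowA4 : List ℕ := [0, 0, 0, 0, 0, 0, 3, 0, 0, 127, 0, 0, 0, 0, 0, 0, 0, 136, 0, 0, 144, 130, 0, 0]

theorem rowA4_ok : lvlOKD nodes 3277413 37 6 3277376 rowA4 = true := by decide +kernel

theorem lvA4 : LvlD 3277413 37 6 3277376 :=
  ⟨by norm_num, by norm_num, subD (by norm_num) (by decide) (by decide),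
    lvlD_sound nodes_ok (by norm_num) (by norm_num) rowA4_ok⟩

/-- witnesses of level A5 -/
def rowA5 : List ℕ := [0, 0, 0, 0, 0, 0, 0, 0, 0, 3, 0, 0, 0, 0, 0, 0, 0, 147, 0, 0, 155, 159, 0, 0]

theorem rowA5_ok : lvlOKD nodes 3277413 101 9 3277312 rowA5 = true := by decide +kernel

theorem lvA5 : LvlD 3277413 101 9 3277312 :=
  ⟨by norm_num, by norm_num, subD (by norm_num) (by decide) (by decide),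
    lvlD_sound nodes_ok (by norm_num) (by norm_num) rowA5_ok⟩

/-- witnesses of level A6 -/
def rowA6 : List ℕ := [0, 0, 0, 0, 0, 0, 0, 0, 0, 0, 0, 0, 0, 0, 0, 0, 0, 3, 0, 0, 162, 169, 0, 0]

theorem rowA6_ok : lvlOKD nodes 3277413 613 17 3276800 rowA6 = true := by decide +kernel

theorem lvA6 : LvlD 3277413 613 17 3276800 :=
  ⟨by norm_num, by norm_num, subD (by norm_num) (by decide) (by decide),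
    lvlD_sound nodes_ok (by norm_num) (by norm_num) rowA6_ok⟩

/-- witnesses of level B: they fix the octad pointwise -/
def rowB : List ℕ := [0, 3, 0, 176, 139, 0, 0, 175, 170, 0, 173, 168, 124, 149, 178, 166, 172, 0, 171, 177, 0, 0, 179, 174]

theorem rowB_ok : lvlOKD nodes 3277413 3277413 1 13499802 rowB = true := by decide +kernel

theorem lvB0 : LvlD 3277413 0 1 13499802 :=
  ⟨by norm_num, by norm_num, subD (by norm_num) (by decide) (by decide),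
    fun z hz hbit => (lvlD_sound nodes_ok (by norm_num) (by norm_num) rowB_ok z hz hbit).imp
      (fun g hg => ⟨stabD_mono (F := 0) (F' := 3277413) (by decide) hg.1, hg.2⟩)⟩

theorem lvB1 : LvlD 3277413 1 1 13499802 :=
  ⟨by norm_num, by norm_num, subD (by norm_num) (by decide) (by decide),
    fun z hz hbit => (lvlD_sound nodes_ok (by norm_num) (by norm_num) rowB_ok z hz hbit).imp
      (fun g hg => ⟨stabD_mono (F := 1) (F' := 3277413) (by decide) hg.1, hg.2⟩)⟩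

theorem lvB5 : LvlD 3277413 5 1 13499802 :=
  ⟨by norm_num, by norm_num, subD (by norm_num) (by decide) (by decide),
    fun z hz hbit => (lvlD_sound nodes_ok (by norm_num) (by norm_num) rowB_ok z hz hbit).imp
      (fun g hg => ⟨stabD_mono (F := 5) (F' := 3277413) (by decide) hg.1, hg.2⟩)⟩

theorem lvB37 : LvlD 3277413 37 1 13499802 :=
  ⟨by norm_num, by norm_num, subD (by norm_num) (by decide) (by decide),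
    fun z hz hbit => (lvlD_sound nodes_ok (by norm_num) (by norm_num) rowB_ok z hz hbit).imp
      (fun g hg => ⟨stabD_mono (F := 37) (F' := 3277413) (by decide) hg.1, hg.2⟩)⟩

theorem oA1_c1 : ∀ z : Fin 24, (3277413 : ℕ).testBit z.val = true →
    (3277413 : ℕ).testBit z.val = true := by decide

theorem oA1 (p1 : GolayPt)
    (h1 : (3277413 : ℕ).testBit (idx p1) = true) :
    ∃ g ∈ stabD 3277413 0, g p1 = ptN 0 := by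
  obtain ⟨g1, hg1, e1_1, -⟩ := step_transD lvA1 1 (stabD 3277413 0).one_mem p1
    (oA1_c1 ⟨_, idx_lt _⟩ h1)
  exact ⟨g1, hg1, e1_1⟩

theorem oA2_c1 : ∀ z : Fin 24, (3277413 : ℕ).testBit z.val = true →
    (3277413 : ℕ).testBit z.val = true := by decide

theorem oA2_c2 : ∀ z : Fin 24, (3277413 : ℕ).testBit z.val = true → z.val ≠ 0 →
    (3277412 : ℕ).testBit z.val = true := by decide

theorem oA2 (p1 p2 : GolayPt)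
    (h1 : (3277413 : ℕ).testBit (idx p1) = true)
    (h2 : (3277413 : ℕ).testBit (idx p2) = true)
    (h1_2 : p1 ≠ p2) :
    ∃ g ∈ stabD 3277413 0, g p1 = ptN 0 ∧ g p2 = ptN 2 := by
  obtain ⟨g1, hg1, e1_1, -⟩ := step_transD lvA1 1 (stabD 3277413 0).one_mem p1
    (oA2_c1 ⟨_, idx_lt _⟩ h1)
  have n2_1 : g1 p2 ≠ ptN 0 := fun h => h1_2 (g1.injective (e1_1.trans h.symm))
  obtain ⟨g2, hg2, e2_2, f2⟩ := step_transD lvA2 g1 hg1 p2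
    (oA2_c2 ⟨_, idx_lt _⟩ (by rw [bitD hg1]; exact h2) (idx_ne' n2_1))
  have e2_1 : g2 p1 = ptN 0 := by rw [f2 p1 (by rw [e1_1]; decide), e1_1]
  exact ⟨g2, hg2, e2_1, e2_2⟩

theorem oA3_c1 : ∀ z : Fin 24, (3277413 : ℕ).testBit z.val = true →
    (3277413 : ℕ).testBit z.val = true := by decide

theorem oA3_c2 : ∀ z : Fin 24, (3277413 : ℕ).testBit z.val = true → z.val ≠ 0 →
    (3277412 : ℕ).testBit z.val = true := by decide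

theorem oA3_c3 : ∀ z : Fin 24, (3277413 : ℕ).testBit z.val = true → z.val ≠ 0 → z.val ≠ 2 →
    (3277408 : ℕ).testBit z.val = true := by decide

theorem oA3 (p1 p2 p3 : GolayPt)
    (h1 : (3277413 : ℕ).testBit (idx p1) = true)
    (h2 : (3277413 : ℕ).testBit (idx p2) = true)
    (h3 : (3277413 : ℕ).testBit (idx p3) = true)
    (h1_2 : p1 ≠ p2)
    (h1_3 : p1 ≠ p3)
    (h2_3 : p2 ≠ p3) :
    ∃ g ∈ stabD 3277413 0, g p1 = ptN 0 ∧ g p2 = ptN 2 ∧ g p3 = ptN 5 := by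
  obtain ⟨g1, hg1, e1_1, -⟩ := step_transD lvA1 1 (stabD 3277413 0).one_mem p1
    (oA3_c1 ⟨_, idx_lt _⟩ h1)
  have n2_1 : g1 p2 ≠ ptN 0 := fun h => h1_2 (g1.injective (e1_1.trans h.symm))
  obtain ⟨g2, hg2, e2_2, f2⟩ := step_transD lvA2 g1 hg1 p2
    (oA3_c2 ⟨_, idx_lt _⟩ (by rw [bitD hg1]; exact h2) (idx_ne' n2_1))
  have e2_1 : g2 p1 = ptN 0 := by rw [f2 p1 (by rw [e1_1]; decide), e1_1]
  have n3_1 : g2 p3 ≠ ptN 0 := fun h => h1_3 (g2.injective (e2_1.trans h.symm))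
  have n3_2 : g2 p3 ≠ ptN 2 := fun h => h2_3 (g2.injective (e2_2.trans h.symm))
  obtain ⟨g3, hg3, e3_3, f3⟩ := step_transD lvA3 g2 hg2 p3
    (oA3_c3 ⟨_, idx_lt _⟩ (by rw [bitD hg2]; exact h3) (idx_ne' n3_1) (idx_ne' n3_2))
  have e3_1 : g3 p1 = ptN 0 := by rw [f3 p1 (by rw [e2_1]; decide), e2_1]
  have e3_2 : g3 p2 = ptN 2 := by rw [f3 p2 (by rw [e2_2]; decide), e2_2]
  exact ⟨g3, hg3, e3_1, e3_2, e3_3⟩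

theorem oA4_c1 : ∀ z : Fin 24, (3277413 : ℕ).testBit z.val = true →
    (3277413 : ℕ).testBit z.val = true := by decide

theorem oA4_c2 : ∀ z : Fin 24, (3277413 : ℕ).testBit z.val = true → z.val ≠ 0 →
    (3277412 : ℕ).testBit z.val = true := by decide

theorem oA4_c3 : ∀ z : Fin 24, (3277413 : ℕ).testBit z.val = true → z.val ≠ 0 → z.val ≠ 2 →
    (3277408 : ℕ).testBit z.val = true := by decide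

theorem oA4_c4 : ∀ z : Fin 24, (3277413 : ℕ).testBit z.val = true → z.val ≠ 0 → z.val ≠ 2 → z.val ≠ 5 →
    (3277376 : ℕ).testBit z.val = true := by decide

theorem oA4 (p1 p2 p3 p4 : GolayPt)
    (h1 : (3277413 : ℕ).testBit (idx p1) = true)
    (h2 : (3277413 : ℕ).testBit (idx p2) = true)
    (h3 : (3277413 : ℕ).testBit (idx p3) = true)
    (h4 : (3277413 : ℕ).testBit (idx p4) = true)
    (h1_2 : p1 ≠ p2)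
    (h1_3 : p1 ≠ p3)
    (h2_3 : p2 ≠ p3)
    (h1_4 : p1 ≠ p4)
    (h2_4 : p2 ≠ p4)
    (h3_4 : p3 ≠ p4) :
    ∃ g ∈ stabD 3277413 0, g p1 = ptN 0 ∧ g p2 = ptN 2 ∧ g p3 = ptN 5 ∧ g p4 = ptN 6 := by
  obtain ⟨g1, hg1, e1_1, -⟩ := step_transD lvA1 1 (stabD 3277413 0).one_mem p1
    (oA4_c1 ⟨_, idx_lt _⟩ h1)
  have n2_1 : g1 p2 ≠ ptN 0 := fun h => h1_2 (g1.injective (e1_1.trans h.symm))
  obtain ⟨g2, hg2, e2_2, f2⟩ := step_transD lvA2 g1 hg1 p2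
    (oA4_c2 ⟨_, idx_lt _⟩ (by rw [bitD hg1]; exact h2) (idx_ne' n2_1))
  have e2_1 : g2 p1 = ptN 0 := by rw [f2 p1 (by rw [e1_1]; decide), e1_1]
  have n3_1 : g2 p3 ≠ ptN 0 := fun h => h1_3 (g2.injective (e2_1.trans h.symm))
  have n3_2 : g2 p3 ≠ ptN 2 := fun h => h2_3 (g2.injective (e2_2.trans h.symm))
  obtain ⟨g3, hg3, e3_3, f3⟩ := step_transD lvA3 g2 hg2 p3
    (oA4_c3 ⟨_, idx_lt _⟩ (by rw [bitD hg2]; exact h3) (idx_ne' n3_1) (idx_ne' n3_2))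
  have e3_1 : g3 p1 = ptN 0 := by rw [f3 p1 (by rw [e2_1]; decide), e2_1]
  have e3_2 : g3 p2 = ptN 2 := by rw [f3 p2 (by rw [e2_2]; decide), e2_2]
  have n4_1 : g3 p4 ≠ ptN 0 := fun h => h1_4 (g3.injective (e3_1.trans h.symm))
  have n4_2 : g3 p4 ≠ ptN 2 := fun h => h2_4 (g3.injective (e3_2.trans h.symm))
  have n4_3 : g3 p4 ≠ ptN 5 := fun h => h3_4 (g3.injective (e3_3.trans h.symm))
  obtain ⟨g4, hg4, e4_4, f4⟩ := step_transD lvA4 g3 hg3 p4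
    (oA4_c4 ⟨_, idx_lt _⟩ (by rw [bitD hg3]; exact h4) (idx_ne' n4_1) (idx_ne' n4_2) (idx_ne' n4_3))
  have e4_1 : g4 p1 = ptN 0 := by rw [f4 p1 (by rw [e3_1]; decide), e3_1]
  have e4_2 : g4 p2 = ptN 2 := by rw [f4 p2 (by rw [e3_2]; decide), e3_2]
  have e4_3 : g4 p3 = ptN 5 := by rw [f4 p3 (by rw [e3_3]; decide), e3_3]
  exact ⟨g4, hg4, e4_1, e4_2, e4_3, e4_4⟩

theorem oA5_c1 : ∀ z : Fin 24, (3277413 : ℕ).testBit z.val = true →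
    (3277413 : ℕ).testBit z.val = true := by decide

theorem oA5_c2 : ∀ z : Fin 24, (3277413 : ℕ).testBit z.val = true → z.val ≠ 0 →
    (3277412 : ℕ).testBit z.val = true := by decide

theorem oA5_c3 : ∀ z : Fin 24, (3277413 : ℕ).testBit z.val = true → z.val ≠ 0 → z.val ≠ 2 →
    (3277408 : ℕ).testBit z.val = true := by decide

theorem oA5_c4 : ∀ z : Fin 24, (3277413 : ℕ).testBit z.val = true → z.val ≠ 0 → z.val ≠ 2 → z.val ≠ 5 →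
    (3277376 : ℕ).testBit z.val = true := by decide

theorem oA5_c5 : ∀ z : Fin 24, (3277413 : ℕ).testBit z.val = true → z.val ≠ 0 → z.val ≠ 2 → z.val ≠ 5 → z.val ≠ 6 →
    (3277312 : ℕ).testBit z.val = true := by decide

theorem oA5 (p1 p2 p3 p4 p5 : GolayPt)
    (h1 : (3277413 : ℕ).testBit (idx p1) = true)
    (h2 : (3277413 : ℕ).testBit (idx p2) = true)
    (h3 : (3277413 : ℕ).testBit (idx p3) = true)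
    (h4 : (3277413 : ℕ).testBit (idx p4) = true)
    (h5 : (3277413 : ℕ).testBit (idx p5) = true)
    (h1_2 : p1 ≠ p2)
    (h1_3 : p1 ≠ p3)
    (h2_3 : p2 ≠ p3)
    (h1_4 : p1 ≠ p4)
    (h2_4 : p2 ≠ p4)
    (h3_4 : p3 ≠ p4)
    (h1_5 : p1 ≠ p5)
    (h2_5 : p2 ≠ p5)
    (h3_5 : p3 ≠ p5)
    (h4_5 : p4 ≠ p5) :
    ∃ g ∈ stabD 3277413 0, g p1 = ptN 0 ∧ g p2 = ptN 2 ∧ g p3 = ptN 5 ∧ g p4 = ptN 6 ∧ g p5 = ptN 9 := by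
  obtain ⟨g1, hg1, e1_1, -⟩ := step_transD lvA1 1 (stabD 3277413 0).one_mem p1
    (oA5_c1 ⟨_, idx_lt _⟩ h1)
  have n2_1 : g1 p2 ≠ ptN 0 := fun h => h1_2 (g1.injective (e1_1.trans h.symm))
  obtain ⟨g2, hg2, e2_2, f2⟩ := step_transD lvA2 g1 hg1 p2
    (oA5_c2 ⟨_, idx_lt _⟩ (by rw [bitD hg1]; exact h2) (idx_ne' n2_1))
  have e2_1 : g2 p1 = ptN 0 := by rw [f2 p1 (by rw [e1_1]; decide), e1_1]
  have n3_1 : g2 p3 ≠ ptN 0 := fun h => h1_3 (g2.injective (e2_1.trans h.symm))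
  have n3_2 : g2 p3 ≠ ptN 2 := fun h => h2_3 (g2.injective (e2_2.trans h.symm))
  obtain ⟨g3, hg3, e3_3, f3⟩ := step_transD lvA3 g2 hg2 p3
    (oA5_c3 ⟨_, idx_lt _⟩ (by rw [bitD hg2]; exact h3) (idx_ne' n3_1) (idx_ne' n3_2))
  have e3_1 : g3 p1 = ptN 0 := by rw [f3 p1 (by rw [e2_1]; decide), e2_1]
  have e3_2 : g3 p2 = ptN 2 := by rw [f3 p2 (by rw [e2_2]; decide), e2_2]
  have n4_1 : g3 p4 ≠ ptN 0 := fun h => h1_4 (g3.injective (e3_1.trans h.symm))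
  have n4_2 : g3 p4 ≠ ptN 2 := fun h => h2_4 (g3.injective (e3_2.trans h.symm))
  have n4_3 : g3 p4 ≠ ptN 5 := fun h => h3_4 (g3.injective (e3_3.trans h.symm))
  obtain ⟨g4, hg4, e4_4, f4⟩ := step_transD lvA4 g3 hg3 p4
    (oA5_c4 ⟨_, idx_lt _⟩ (by rw [bitD hg3]; exact h4) (idx_ne' n4_1) (idx_ne' n4_2) (idx_ne' n4_3))
  have e4_1 : g4 p1 = ptN 0 := by rw [f4 p1 (by rw [e3_1]; decide), e3_1]
  have e4_2 : g4 p2 = ptN 2 := by rw [f4 p2 (by rw [e3_2]; decide), e3_2]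
  have e4_3 : g4 p3 = ptN 5 := by rw [f4 p3 (by rw [e3_3]; decide), e3_3]
  have n5_1 : g4 p5 ≠ ptN 0 := fun h => h1_5 (g4.injective (e4_1.trans h.symm))
  have n5_2 : g4 p5 ≠ ptN 2 := fun h => h2_5 (g4.injective (e4_2.trans h.symm))
  have n5_3 : g4 p5 ≠ ptN 5 := fun h => h3_5 (g4.injective (e4_3.trans h.symm))
  have n5_4 : g4 p5 ≠ ptN 6 := fun h => h4_5 (g4.injective (e4_4.trans h.symm))
  obtain ⟨g5, hg5, e5_5, f5⟩ := step_transD lvA5 g4 hg4 p5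
    (oA5_c5 ⟨_, idx_lt _⟩ (by rw [bitD hg4]; exact h5) (idx_ne' n5_1) (idx_ne' n5_2) (idx_ne' n5_3) (idx_ne' n5_4))
  have e5_1 : g5 p1 = ptN 0 := by rw [f5 p1 (by rw [e4_1]; decide), e4_1]
  have e5_2 : g5 p2 = ptN 2 := by rw [f5 p2 (by rw [e4_2]; decide), e4_2]
  have e5_3 : g5 p3 = ptN 5 := by rw [f5 p3 (by rw [e4_3]; decide), e4_3]
  have e5_4 : g5 p4 = ptN 6 := by rw [f5 p4 (by rw [e4_4]; decide), e4_4]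
  exact ⟨g5, hg5, e5_1, e5_2, e5_3, e5_4, e5_5⟩

theorem oA6_c1 : ∀ z : Fin 24, (3277413 : ℕ).testBit z.val = true →
    (3277413 : ℕ).testBit z.val = true := by decide

theorem oA6_c2 : ∀ z : Fin 24, (3277413 : ℕ).testBit z.val = true → z.val ≠ 0 →
    (3277412 : ℕ).testBit z.val = true := by decide

theorem oA6_c3 : ∀ z : Fin 24, (3277413 : ℕ).testBit z.val = true → z.val ≠ 0 → z.val ≠ 2 →
    (3277408 : ℕ).testBit z.val = true := by decide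

theorem oA6_c4 : ∀ z : Fin 24, (3277413 : ℕ).testBit z.val = true → z.val ≠ 0 → z.val ≠ 2 → z.val ≠ 5 →
    (3277376 : ℕ).testBit z.val = true := by decide

theorem oA6_c5 : ∀ z : Fin 24, (3277413 : ℕ).testBit z.val = true → z.val ≠ 0 → z.val ≠ 2 → z.val ≠ 5 → z.val ≠ 6 →
    (3277312 : ℕ).testBit z.val = true := by decide

theorem oA6_c6 : ∀ z : Fin 24, (3277413 : ℕ).testBit z.val = true → z.val ≠ 0 → z.val ≠ 2 → z.val ≠ 5 → z.val ≠ 6 → z.val ≠ 9 →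
    (3276800 : ℕ).testBit z.val = true := by decide

theorem oA6 (p1 p2 p3 p4 p5 p6 : GolayPt)
    (h1 : (3277413 : ℕ).testBit (idx p1) = true)
    (h2 : (3277413 : ℕ).testBit (idx p2) = true)
    (h3 : (3277413 : ℕ).testBit (idx p3) = true)
    (h4 : (3277413 : ℕ).testBit (idx p4) = true)
    (h5 : (3277413 : ℕ).testBit (idx p5) = true)
    (h6 : (3277413 : ℕ).testBit (idx p6) = true)
    (h1_2 : p1 ≠ p2)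
    (h1_3 : p1 ≠ p3)
    (h2_3 : p2 ≠ p3)
    (h1_4 : p1 ≠ p4)
    (h2_4 : p2 ≠ p4)
    (h3_4 : p3 ≠ p4)
    (h1_5 : p1 ≠ p5)
    (h2_5 : p2 ≠ p5)
    (h3_5 : p3 ≠ p5)
    (h4_5 : p4 ≠ p5)
    (h1_6 : p1 ≠ p6)
    (h2_6 : p2 ≠ p6)
    (h3_6 : p3 ≠ p6)
    (h4_6 : p4 ≠ p6)
    (h5_6 : p5 ≠ p6) :
    ∃ g ∈ stabD 3277413 0, g p1 = ptN 0 ∧ g p2 = ptN 2 ∧ g p3 = ptN 5 ∧ g p4 = ptN 6 ∧ g p5 = ptN 9 ∧ g p6 = ptN 17 := by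
  obtain ⟨g1, hg1, e1_1, -⟩ := step_transD lvA1 1 (stabD 3277413 0).one_mem p1
    (oA6_c1 ⟨_, idx_lt _⟩ h1)
  have n2_1 : g1 p2 ≠ ptN 0 := fun h => h1_2 (g1.injective (e1_1.trans h.symm))
  obtain ⟨g2, hg2, e2_2, f2⟩ := step_transD lvA2 g1 hg1 p2
    (oA6_c2 ⟨_, idx_lt _⟩ (by rw [bitD hg1]; exact h2) (idx_ne' n2_1))
  have e2_1 : g2 p1 = ptN 0 := by rw [f2 p1 (by rw [e1_1]; decide), e1_1]
  have n3_1 : g2 p3 ≠ ptN 0 := fun h => h1_3 (g2.injective (e2_1.trans h.symm))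
  have n3_2 : g2 p3 ≠ ptN 2 := fun h => h2_3 (g2.injective (e2_2.trans h.symm))
  obtain ⟨g3, hg3, e3_3, f3⟩ := step_transD lvA3 g2 hg2 p3
    (oA6_c3 ⟨_, idx_lt _⟩ (by rw [bitD hg2]; exact h3) (idx_ne' n3_1) (idx_ne' n3_2))
  have e3_1 : g3 p1 = ptN 0 := by rw [f3 p1 (by rw [e2_1]; decide), e2_1]
  have e3_2 : g3 p2 = ptN 2 := by rw [f3 p2 (by rw [e2_2]; decide), e2_2]
  have n4_1 : g3 p4 ≠ ptN 0 := fun h => h1_4 (g3.injective (e3_1.trans h.symm))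
  have n4_2 : g3 p4 ≠ ptN 2 := fun h => h2_4 (g3.injective (e3_2.trans h.symm))
  have n4_3 : g3 p4 ≠ ptN 5 := fun h => h3_4 (g3.injective (e3_3.trans h.symm))
  obtain ⟨g4, hg4, e4_4, f4⟩ := step_transD lvA4 g3 hg3 p4
    (oA6_c4 ⟨_, idx_lt _⟩ (by rw [bitD hg3]; exact h4) (idx_ne' n4_1) (idx_ne' n4_2) (idx_ne' n4_3))
  have e4_1 : g4 p1 = ptN 0 := by rw [f4 p1 (by rw [e3_1]; decide), e3_1]
  have e4_2 : g4 p2 = ptN 2 := by rw [f4 p2 (by rw [e3_2]; decide), e3_2]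
  have e4_3 : g4 p3 = ptN 5 := by rw [f4 p3 (by rw [e3_3]; decide), e3_3]
  have n5_1 : g4 p5 ≠ ptN 0 := fun h => h1_5 (g4.injective (e4_1.trans h.symm))
  have n5_2 : g4 p5 ≠ ptN 2 := fun h => h2_5 (g4.injective (e4_2.trans h.symm))
  have n5_3 : g4 p5 ≠ ptN 5 := fun h => h3_5 (g4.injective (e4_3.trans h.symm))
  have n5_4 : g4 p5 ≠ ptN 6 := fun h => h4_5 (g4.injective (e4_4.trans h.symm))
  obtain ⟨g5, hg5, e5_5, f5⟩ := step_transD lvA5 g4 hg4 p5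
    (oA6_c5 ⟨_, idx_lt _⟩ (by rw [bitD hg4]; exact h5) (idx_ne' n5_1) (idx_ne' n5_2) (idx_ne' n5_3) (idx_ne' n5_4))
  have e5_1 : g5 p1 = ptN 0 := by rw [f5 p1 (by rw [e4_1]; decide), e4_1]
  have e5_2 : g5 p2 = ptN 2 := by rw [f5 p2 (by rw [e4_2]; decide), e4_2]
  have e5_3 : g5 p3 = ptN 5 := by rw [f5 p3 (by rw [e4_3]; decide), e4_3]
  have e5_4 : g5 p4 = ptN 6 := by rw [f5 p4 (by rw [e4_4]; decide), e4_4]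
  have n6_1 : g5 p6 ≠ ptN 0 := fun h => h1_6 (g5.injective (e5_1.trans h.symm))
  have n6_2 : g5 p6 ≠ ptN 2 := fun h => h2_6 (g5.injective (e5_2.trans h.symm))
  have n6_3 : g5 p6 ≠ ptN 5 := fun h => h3_6 (g5.injective (e5_3.trans h.symm))
  have n6_4 : g5 p6 ≠ ptN 6 := fun h => h4_6 (g5.injective (e5_4.trans h.symm))
  have n6_5 : g5 p6 ≠ ptN 9 := fun h => h5_6 (g5.injective (e5_5.trans h.symm))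
  obtain ⟨g6, hg6, e6_6, f6⟩ := step_transD lvA6 g5 hg5 p6
    (oA6_c6 ⟨_, idx_lt _⟩ (by rw [bitD hg5]; exact h6) (idx_ne' n6_1) (idx_ne' n6_2) (idx_ne' n6_3) (idx_ne' n6_4) (idx_ne' n6_5))
  have e6_1 : g6 p1 = ptN 0 := by rw [f6 p1 (by rw [e5_1]; decide), e5_1]
  have e6_2 : g6 p2 = ptN 2 := by rw [f6 p2 (by rw [e5_2]; decide), e5_2]
  have e6_3 : g6 p3 = ptN 5 := by rw [f6 p3 (by rw [e5_3]; decide), e5_3]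
  have e6_4 : g6 p4 = ptN 6 := by rw [f6 p4 (by rw [e5_4]; decide), e5_4]
  have e6_5 : g6 p5 = ptN 9 := by rw [f6 p5 (by rw [e5_5]; decide), e5_5]
  exact ⟨g6, hg6, e6_1, e6_2, e6_3, e6_4, e6_5, e6_6⟩

theorem oB0_c1 : ∀ z : Fin 24, (3277413 : ℕ).testBit z.val = false →
    (13499802 : ℕ).testBit z.val = true := by decide

theorem oB0 (p1 : GolayPt)
    (h1 : (3277413 : ℕ).testBit (idx p1) = false) :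
    ∃ g ∈ stabD 3277413 0, g p1 = ptN 1 := by
  obtain ⟨g1, hg1, e1_1, -⟩ := step_transD lvB0 1 (stabD 3277413 0).one_mem p1
    (oB0_c1 ⟨_, idx_lt _⟩ h1)
  exact ⟨g1, hg1, e1_1⟩

theorem oB1_c1 : ∀ z : Fin 24, (3277413 : ℕ).testBit z.val = true →
    (3277413 : ℕ).testBit z.val = true := by decide

theorem oB1_c2 : ∀ z : Fin 24, (3277413 : ℕ).testBit z.val = false →
    (13499802 : ℕ).testBit z.val = true := by decide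

theorem oB1 (p1 p2 : GolayPt)
    (h1 : (3277413 : ℕ).testBit (idx p1) = true)
    (h2 : (3277413 : ℕ).testBit (idx p2) = false) :
    ∃ g ∈ stabD 3277413 0, g p1 = ptN 0 ∧ g p2 = ptN 1 := by
  obtain ⟨g1, hg1, e1_1, -⟩ := step_transD lvA1 1 (stabD 3277413 0).one_mem p1
    (oB1_c1 ⟨_, idx_lt _⟩ h1)
  obtain ⟨g2, hg2, e2_2, f2⟩ := step_transD lvB1 g1 hg1 p2
    (oB1_c2 ⟨_, idx_lt _⟩ (by rw [bitD hg1]; exact h2))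
  have e2_1 : g2 p1 = ptN 0 := by rw [f2 p1 (by rw [e1_1]; decide), e1_1]
  exact ⟨g2, hg2, e2_1, e2_2⟩

theorem oB2_c1 : ∀ z : Fin 24, (3277413 : ℕ).testBit z.val = true →
    (3277413 : ℕ).testBit z.val = true := by decide

theorem oB2_c2 : ∀ z : Fin 24, (3277413 : ℕ).testBit z.val = true → z.val ≠ 0 →
    (3277412 : ℕ).testBit z.val = true := by decide

theorem oB2_c3 : ∀ z : Fin 24, (3277413 : ℕ).testBit z.val = false →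
    (13499802 : ℕ).testBit z.val = true := by decide

theorem oB2 (p1 p2 p3 : GolayPt)
    (h1 : (3277413 : ℕ).testBit (idx p1) = true)
    (h2 : (3277413 : ℕ).testBit (idx p2) = true)
    (h3 : (3277413 : ℕ).testBit (idx p3) = false)
    (h1_2 : p1 ≠ p2) :
    ∃ g ∈ stabD 3277413 0, g p1 = ptN 0 ∧ g p2 = ptN 2 ∧ g p3 = ptN 1 := by
  obtain ⟨g1, hg1, e1_1, -⟩ := step_transD lvA1 1 (stabD 3277413 0).one_mem p1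
    (oB2_c1 ⟨_, idx_lt _⟩ h1)
  have n2_1 : g1 p2 ≠ ptN 0 := fun h => h1_2 (g1.injective (e1_1.trans h.symm))
  obtain ⟨g2, hg2, e2_2, f2⟩ := step_transD lvA2 g1 hg1 p2
    (oB2_c2 ⟨_, idx_lt _⟩ (by rw [bitD hg1]; exact h2) (idx_ne' n2_1))
  have e2_1 : g2 p1 = ptN 0 := by rw [f2 p1 (by rw [e1_1]; decide), e1_1]
  obtain ⟨g3, hg3, e3_3, f3⟩ := step_transD lvB5 g2 hg2 p3
    (oB2_c3 ⟨_, idx_lt _⟩ (by rw [bitD hg2]; exact h3))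
  have e3_1 : g3 p1 = ptN 0 := by rw [f3 p1 (by rw [e2_1]; decide), e2_1]
  have e3_2 : g3 p2 = ptN 2 := by rw [f3 p2 (by rw [e2_2]; decide), e2_2]
  exact ⟨g3, hg3, e3_1, e3_2, e3_3⟩

theorem oB3_c1 : ∀ z : Fin 24, (3277413 : ℕ).testBit z.val = true →
    (3277413 : ℕ).testBit z.val = true := by decide

theorem oB3_c2 : ∀ z : Fin 24, (3277413 : ℕ).testBit z.val = true → z.val ≠ 0 →
    (3277412 : ℕ).testBit z.val = true := by decide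

theorem oB3_c3 : ∀ z : Fin 24, (3277413 : ℕ).testBit z.val = true → z.val ≠ 0 → z.val ≠ 2 →
    (3277408 : ℕ).testBit z.val = true := by decide

theorem oB3_c4 : ∀ z : Fin 24, (3277413 : ℕ).testBit z.val = false →
    (13499802 : ℕ).testBit z.val = true := by decide

theorem oB3 (p1 p2 p3 p4 : GolayPt)
    (h1 : (3277413 : ℕ).testBit (idx p1) = true)
    (h2 : (3277413 : ℕ).testBit (idx p2) = true)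
    (h3 : (3277413 : ℕ).testBit (idx p3) = true)
    (h4 : (3277413 : ℕ).testBit (idx p4) = false)
    (h1_2 : p1 ≠ p2)
    (h1_3 : p1 ≠ p3)
    (h2_3 : p2 ≠ p3) :
    ∃ g ∈ stabD 3277413 0, g p1 = ptN 0 ∧ g p2 = ptN 2 ∧ g p3 = ptN 5 ∧ g p4 = ptN 1 := by
  obtain ⟨g1, hg1, e1_1, -⟩ := step_transD lvA1 1 (stabD 3277413 0).one_mem p1
    (oB3_c1 ⟨_, idx_lt _⟩ h1)
  have n2_1 : g1 p2 ≠ ptN 0 := fun h => h1_2 (g1.injective (e1_1.trans h.symm))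
  obtain ⟨g2, hg2, e2_2, f2⟩ := step_transD lvA2 g1 hg1 p2
    (oB3_c2 ⟨_, idx_lt _⟩ (by rw [bitD hg1]; exact h2) (idx_ne' n2_1))
  have e2_1 : g2 p1 = ptN 0 := by rw [f2 p1 (by rw [e1_1]; decide), e1_1]
  have n3_1 : g2 p3 ≠ ptN 0 := fun h => h1_3 (g2.injective (e2_1.trans h.symm))
  have n3_2 : g2 p3 ≠ ptN 2 := fun h => h2_3 (g2.injective (e2_2.trans h.symm))
  obtain ⟨g3, hg3, e3_3, f3⟩ := step_transD lvA3 g2 hg2 p3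
    (oB3_c3 ⟨_, idx_lt _⟩ (by rw [bitD hg2]; exact h3) (idx_ne' n3_1) (idx_ne' n3_2))
  have e3_1 : g3 p1 = ptN 0 := by rw [f3 p1 (by rw [e2_1]; decide), e2_1]
  have e3_2 : g3 p2 = ptN 2 := by rw [f3 p2 (by rw [e2_2]; decide), e2_2]
  obtain ⟨g4, hg4, e4_4, f4⟩ := step_transD lvB37 g3 hg3 p4
    (oB3_c4 ⟨_, idx_lt _⟩ (by rw [bitD hg3]; exact h4))
  have e4_1 : g4 p1 = ptN 0 := by rw [f4 p1 (by rw [e3_1]; decide), e3_1]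
  have e4_2 : g4 p2 = ptN 2 := by rw [f4 p2 (by rw [e3_2]; decide), e3_2]
  have e4_3 : g4 p3 = ptN 5 := by rw [f4 p3 (by rw [e3_3]; decide), e3_3]
  exact ⟨g4, hg4, e4_1, e4_2, e4_3, e4_4⟩

/-- indices of generators of the octad stabilizer -/
def sgen : List ℕ := [69, 72, 75, 78, 81, 84, 87, 90]

end Cfsg.Agent.Lib_lead_OctChain
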