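import Mathlib
import Cfsg.Prelude.Def_SporadicCombinatorics
import Cfsg.Agent.Lib_lead_ObjOrb3

/-! Orbit certificate for the quartets of the base dodecad: generators of the stabilizer of the
base quartet, and every quartet as the image of one of the orbit representatives under a word in
the generators. -/

set_option autoImplicit false

namespace Cfsg.Agent.Lib_lead_QuartetData

open Cfsg Cfsg.Agent.Lib_lead_Golay Cfsg.Agent.Lib_lead_GolayPerm Cfsg.Agent.Lib_lead_M24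
  Cfsg.Agent.Lib_lead_M24Chain Cfsg.Agent.Lib_lead_M24Orb Cfsg.Agent.Lib_lead_ObjOrb
  Cfsg.Agent.Lib_lead_ObjOrb3
open scoped Pointwise

/-- generators of the stabilizer of the base quartet -/
def gensT : List (List ℕ × List ℕ) :=
  [([18, 16, 6, 13, 8, 11, 12, 10, 2, 1, 7, 21, 9, 0, 14, 5, 4, 17, 3, 20, 15, 22, 23, 19], [13, 9, 8, 18, 16, 15, 2, 10, 4, 12, 7, 5, 6, 3, 14, 20, 1, 17, 0, 23, 19, 11, 21, 22]),
   ([13, 9, 8, 18, 16, 15, 2, 10, 4, 12, 7, 5, 6, 3, 14, 20, 1, 17, 0, 23, 19, 11, 21, 22], [18, 16, 6, 13, 8, 11, 12, 10, 2, 1, 7, 21, 9, 0, 14, 5, 4, 17, 3, 20, 15, 22, 23, 19]),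
   ([18, 6, 16, 4, 3, 21, 13, 17, 0, 2, 7, 5, 12, 1, 15, 23, 8, 10, 9, 19, 22, 14, 20, 11], [8, 13, 9, 4, 3, 11, 1, 10, 16, 18, 17, 23, 12, 6, 21, 14, 2, 7, 0, 19, 22, 5, 20, 15]),
   ([8, 13, 9, 4, 3, 11, 1, 10, 16, 18, 17, 23, 12, 6, 21, 14, 2, 7, 0, 19, 22, 5, 20, 15], [18, 6, 16, 4, 3, 21, 13, 17, 0, 2, 7, 5, 12, 1, 15, 23, 8, 10, 9, 19, 22, 14, 20, 11])]

/-- orbit representatives; the first one is the base quartet -/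
def rootsT : List (List ℕ) :=
  [[7, 4120, 8960, 327744],
   [7, 336, 70144, 270344],
   [11, 4116, 8512, 328192],
   [11, 4864, 65616, 270340],
   [11, 580, 77824, 262416]]

/-- orbit sizes -/
def sizeT (c : ℕ) : ℕ := ([1, 12, 27, 72, 108] : List ℕ).getD c 0

set_option maxRecDepth 1000000 in
/-- class and word of every quartet, sorted by key -/
def tabT : List (ℕ × List ℕ) :=
  [(3, [0,0,3,3]), (4, [1,2,1]), (2, [3]), (1, [1]), (3, [2,1]), (4, [3,3,1]),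
   (2, [2,1]), (4, [0,3,0,0]), (3, [0,3,3,1]), (4, [2,2]), (4, [2,0,0,3,3]), (4, [2,2,0,2]),
   (4, [0,2]), (3, [1,3]), (4, [1,3,1,3]), (2, [3,3,0]), (3, [0,3,1,3]), (2, [0,0,3]),
   (2, [3,0,0]), (3, [1,2,1,1]), (3, [0,3,1]), (3, [3,0,0]), (2, [1,3]), (3, [0,3,0,3]),
   (3, [2]), (3, [1,2]), (4, [1,3,3,1,3]), (4, [3,3,0]), (4, [0,2,1,1,2]), (4, [0,2,0]),
   (4, [0,3,1,3]), (3, [3,3]), (3, [0,3,0,2,2]), (3, [0,3,0,2]), (3, [1,2,0]), (3, [0,0,0,3]),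
   (3, [1,2,0,3]), (3, [3,0,3]), (1, [0,2,1]), (4, [1,2,1,1,2]), (4, [1,3,1]), (4, [0,3,0,2]),
   (4, [0,2,1,2,1]), (4, [1,2,2,2,1]), (4, [1,1,3]), (4, [0,3]), (4, [3]), (4, [0,3,1,2]),
   (3, [1,2,2]), (4, [1,2,0]), (4, [0,2,0,2,2,1]), (3, [2,0]), (4, [1,2,1,2]), (4, [0,2,0,0]),
   (3, [0,3,0,3,3]), (4, [1,3,3,0,0]), (3, [1,3,3]), (1, [1,2]), (3, [3,0,0,0]), (3, [3,1]),
   (3, [2,0,3]), (3, [3,3,1]), (4, [0,3,1]), (4, [1,3,3,1]), (4, [0,2,1,2,0]), (1, [0,2]),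
   (2, [0,0,2]), (4, [1,2,0,3]), (2, [2]), (2, [3,0]), (3, [1,2,2,2,1]), (4, [0,2,0,2,2]),
   (4, [1,3]), (4, [1,1,3,3]), (4, [1,2]), (4, [0,2,1,1]), (3, [2,0,3,3,1]), (4, [0,0]),
   (4, [2,0,3]), (4, [2,1,1]), (3, [3,0,3,0]), (4, [2,0,0,3]), (4, [1,1,2,0,2]), (4, [2,0,2,0]),
   (4, [2,1,3]), (4, [1,3,3,0,3]), (4, [0,0,2]), (4, [2,0,2,1]), (3, [0,0,0,2]), (3, [0,3,3]),
   (3, [1,2,2,2]), (4, [3,0,0]), (3, [1,2,1]), (4, [2]), (4, [1,2,2,2]), (3, [1,2,2,1,3]),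
   (4, [3,0,0,2]), (4, [1,2,1,1]), (4, [0,3,0,3]), (4, [0,2,1]), (4, [2,1,2,1]), (2, [0,0,0,0]),
   (1, [3,1]), (4, [1,1]), (4, [0,2,1,2]), (4, [3,3,0,2]), (2, [0,0]), (2, [2,0,2]),
   (4, [2,1,2,2,2]), (3, [2,1,2,2]), (4, []), (4, [1,2,2,1]), (3, [0,3,3,0]), (4, [0,0,2,0]),
   (4, [1,2,0,2]), (4, [3,3,1,3]), (1, [3]), (2, [3,3]), (3, [0,3,1,2]), (2, [1,3,0]),
   (4, [1,3,0]), (2, [1,2]), (4, [1,1,1,2]), (4, [0,2,0,2]), (4, [1,3,3]), (4, [1,1,2]),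
   (3, [1,2,2,1]), (3, [0,3,0]), (4, [0,3,0]), (4, [3,0,3]), (4, [1,2,2]), (4, [2,0,0]),
   (4, [3,1,3]), (4, [2,2,0]), (3, [0,0,3,0]), (4, [0,0,0,0]), (4, [2,0,3,0]), (4, [0,0,3]),
   (3, [3,0]), (3, [0,2,2,0]), (3, [0,2,2]), (3, [1,3,0]), (1, [3,0]), (4, [2,1,3,0]),
   (4, [2,1,2,2]), (4, [3,1]), (4, [3,3]), (4, [3,0]), (4, [0,0,0,3]), (3, [0,2]),
   (3, []), (1, [0,0]), (4, [0,2,0,2,0]), (4, [3,0,3,1]), (4, [2,0,2]), (4, [1,1,1]),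
   (3, [0,2,1]), (4, [3,0,0,0]), (4, [2,0]), (4, [0,2,0,0,3]), (4, [0,2,1,1,3]), (2, [1,1,1]),
   (4, [0,0,0]), (3, [0,0,3,0,2]), (2, [0,0,0]), (3, [1]), (4, [1]), (2, [1]),
   (4, [1,1,2,0]), (4, [0,0,2,2]), (3, [0,0,0,0]), (3, [3,1,2]), (4, [1,1,1,3]), (1, []),
   (3, [0,0,0]), (3, [0,3]), (4, [2,1]), (3, [0,0]), (4, [0,0,0,2]), (4, [2,2,2]),
   (3, [3,0,3,1]), (3, [1,3,3,0]), (3, [2,0,3,3]), (3, [2,0,3,0]), (4, [2,0,3,0,3]), (2, [0,3]),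
   (3, [2,1,1]), (3, [2,0,2]), (2, [0,3,1]), (2, [0,2,1]), (2, [2,0]), (3, [0,0,3,1]),
   (3, [3,0,3,3]), (4, [0,0,3,1]), (2, [0,0,3,1]), (1, [0]), (1, [3,3]), (0, []),
   (4, [3,0,2]), (4, [1,3,3,0]), (4, [3,1,1]), (3, [3,1,2,1]), (3, [0,2,2,0,2]), (1, [1,3]),
   (3, [2,1,2]), (4, [2,1,2]), (2, [1,1]), (3, [1,3,3,0,3]), (3, [0,0,3]), (4, [2,1,3,3]),
   (2, []), (3, [0,3,0,3,0]), (2, [0,2]), (4, [1,2,1,3]), (3, [3]), (3, [2,2]),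
   (2, [0]), (4, [0]), (3, [0]), (3, [0,2,2,2])]

theorem hgenT : ∀ g ∈ gensT, genChkS (rootsT.getD 0 []) g = true := by decide +kernel

theorem hrootsT : ∀ r ∈ rootsT, (∀ x ∈ r, x < 2 ^ 24) ∧ r.Nodup := by decide +kernel

theorem hclsT : ∀ e ∈ tabT, e.1 < rootsT.length := by decide +kernel

theorem hincT : incChk (tabKeys gensT rootsT tabT) 0 = true := by decide +kernel

theorem hinvT : ∀ c < rootsT.length, ∀ c' < rootsT.length,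
    invLE 4 (rootsT.getD 0 []) (rootsT.getD c []) = invLE 4 (rootsT.getD 0 []) (rootsT.getD c' []) →
      c = c' := by decide +kernel

theorem hlenT : tabT.length = 220 := by decide +kernel

theorem hcountT : ∀ c < rootsT.length, (tabT.filter (fun e => e.1 == c)).length = sizeT c := by
  decide +kernel

end Cfsg.Agent.Lib_lead_QuartetData
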