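import Mathlib
import Cfsg.Prelude.Def_SporadicCombinatorics
import Cfsg.Agent.Lib_lead_ObjOrb2
import Cfsg.Agent.Lib_lead_Trio

/-! Orbit certificate for the trios: generators of the stabilizer of a base member, and every
member as the image of one of the orbit representatives under a word in the generators. -/

set_option autoImplicit false

namespace Cfsg.Agent.Lib_lead_TrioData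

open Cfsg Cfsg.Agent.Lib_lead_Golay Cfsg.Agent.Lib_lead_GolayPerm Cfsg.Agent.Lib_lead_M24
  Cfsg.Agent.Lib_lead_M24Chain Cfsg.Agent.Lib_lead_M24Orb Cfsg.Agent.Lib_lead_ObjOrb
  Cfsg.Agent.Lib_lead_ObjOrb2 Cfsg.Agent.Lib_lead_Trio
open scoped Pointwise

/-- generators of the stabilizer of the base member -/
def gensT : List (List ℕ × List ℕ) :=
  [([17, 4, 6, 13, 22, 2, 21, 18, 15, 5, 10, 11, 23, 14, 3, 16, 8, 0, 7, 1, 9, 20, 12, 19], [17, 19, 5, 14, 1, 9, 2, 18, 16, 20, 10, 11, 22, 3, 13, 8, 15, 0, 7, 23, 21, 6, 4, 12]),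
   ([17, 19, 5, 14, 1, 9, 2, 18, 16, 20, 10, 11, 22, 3, 13, 8, 15, 0, 7, 23, 21, 6, 4, 12], [17, 4, 6, 13, 22, 2, 21, 18, 15, 5, 10, 11, 23, 14, 3, 16, 8, 0, 7, 1, 9, 20, 12, 19]),
   ([12, 5, 23, 14, 0, 22, 4, 21, 13, 7, 8, 10, 6, 15, 3, 16, 11, 19, 9, 2, 18, 1, 17, 20], [4, 21, 19, 14, 6, 1, 12, 9, 10, 18, 11, 16, 0, 8, 3, 13, 15, 22, 20, 17, 23, 7, 5, 2]),
   ([4, 21, 19, 14, 6, 1, 12, 9, 10, 18, 11, 16, 0, 8, 3, 13, 15, 22, 20, 17, 23, 7, 5, 2], [12, 5, 23, 14, 0, 22, 4, 21, 13, 7, 8, 10, 6, 15, 3, 16, 11, 19, 9, 2, 18, 1, 17, 20]),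
   ([9, 3, 20, 23, 8, 2, 21, 16, 7, 6, 19, 1, 10, 22, 18, 12, 4, 5, 13, 15, 17, 0, 14, 11], [21, 11, 5, 1, 16, 17, 9, 8, 4, 0, 12, 23, 15, 18, 22, 19, 7, 20, 14, 10, 2, 6, 13, 3]),
   ([21, 11, 5, 1, 16, 17, 9, 8, 4, 0, 12, 23, 15, 18, 22, 19, 7, 20, 14, 10, 2, 6, 13, 3], [9, 3, 20, 23, 8, 2, 21, 16, 7, 6, 19, 1, 10, 22, 18, 12, 4, 5, 13, 15, 17, 0, 14, 11])]

/-- orbit representatives; the first one is the base member -/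
def rootsT : List (List ℕ) :=
  [[126216, 3277413, 13373586],
   [1302533, 2101096, 13373586],
   [1315526, 2313249, 13148440],
   [2491452, 4845570, 9440193],
   [252432, 6554826, 9969957]]

/-- orbit sizes -/
def sizeT (c : ℕ) : ℕ := ([1, 42, 56, 1008, 2688] : List ℕ).getD c 0

set_option maxRecDepth 1000000 in
/-- class and word of every member, sorted by key -/
def tabT : List (ℕ × List ℕ) :=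
  [(4, [1,4]), (4, [0,0,2,1,1,4,4]), (4, [1,2,5,2,2]), (4, [2,5,2,2,2]), (3, [5,1,3,4]), (3, [2,4,3,0]),
   (3, [5,3,4]), (3, [1,2,1,5]), (4, [3,5,3,0,4]), (3, [2,0,4,1]), (4, [3,0,0,0,3]), (4, [1,2,1,2,1]),
   (4, [0,3,1,1,4,2]), (4, [2,0,3,5]), (4, [0,0,0,3,0,3]), (4, [1,3,4,0]), (4, [3,1,4,3,1]), (4, [0,5,3,5,2]),
   (4, [0,4,1,2,2,2]), (3, [3,0,2,2,4]), (4, [0,3,1,3,0,0]), (4, [1,5,3,5,3,3]), (4, [4,0,4,3,5]), (3, [3,0,0,3]),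
   (3, [0,4,3,4]), (4, [0,2,0,4,3]), (3, [3,0,3,0]), (3, [1,4,0,2,4]), (4, [1,3,5,1]), (4, [2,4,0,4,3]),
   (3, [3,4,2,2]), (3, [1,4,2,1,2]), (3, [4,4,0,2,5]), (4, [0,5,2]), (4, [0,4,0,2,1,5]), (4, [2,5,0,5,3]),
   (4, [0,2,1,2,1]), (3, [0,0,3,0,2]), (4, [3,3,3]), (4, [0,3,4,4,2]), (4, [1,3,0,4,4,0]), (3, [5,0,3,4]),
   (3, [2,0,2]), (4, [3,0,5,1,3]), (4, [5,3,1,2,1]), (3, [5,1,1,3,4]), (4, [0,4]), (4, [0,0,2,1]),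
   (4, [1,3,3,1,1]), (4, [3,4,0,3]), (4, [0,0,4,3,4]), (3, [0,0,3,3,0]), (4, [2,1,2,1,3]), (4, [0,5,3,4,2,4]),
   (4, [0,4,3,5,3,5]), (3, [0,0,4,1]), (4, [0,2,0]), (4, [1,3,1,3,0,2]), (3, [3,3,4]), (3, [1,4,2]),
   (4, [4,3,1,2,0]), (4, [0,5,1,3,0,5]), (3, [1,2,2,1,1]), (4, [4,0,3,0,3]), (3, [1,3,0,0]), (4, [4,1,3,1,2]),
   (4, [0,3,1,5,2,4]), (4, [3,5,3]), (4, [0,0,4,2,2]), (4, [2,2,4,1,2]), (4, [5,0,4,0,2]), (4, [3,1,3,4,0]),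
   (4, [0,5,1,2,0,0]), (4, [0,0,2,4,3]), (3, [0,4,1,3]), (4, [3,3,1,3,5]), (4, [4,0,2,0,5]), (1, [2,4]),
   (4, [4,1,3,4,1]), (4, [5,1,5,3]), (4, [4,3,1,4]), (3, [4,0,3,1,2]), (4, [0,0,0,2,5]), (3, [5,3,5,0]),
   (4, [0,4,0,2,0,5]), (4, [0,2,0,4,0,5]), (3, [1,1,4,2]), (3, [0,3,3,3,3]), (4, [2,0,0,3]), (4, [4,2,0,5,2]),
   (3, [0,4,0,4]), (4, [0,2,1,5,1]), (2, [2,4,2]), (4, [3,0,4,4,2]), (4, [0,4,3,5,3,3]), (4, [0,0,3,5]),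
   (3, [1,3,3]), (4, [0,3,0,2]), (1, [3,1]), (4, [1,2,5,3,5]), (4, [5,0,3,5]), (4, [1,2,5,3,1]),
   (4, [5,2,1,1,4]), (4, [2,2,4,3,1]), (4, [3,4,2,5]), (4, [3,4,4]), (4, [4,0,5,0,5]), (4, [5,2,0,2]),
   (4, [1,1,2,4,4]), (4, [0,2,5,2,1]), (3, [4,3,3,4]), (4, [0,4,3,0,0]), (2, [3,5,2]), (3, [2,0,2,4]),
   (3, [1,4,0,2,2]), (4, [1,4,2,5,1,2]), (4, [4,1]), (4, [2,0,0,2,1]), (3, [1,3,3,3,3]), (4, [3,5,0,5]),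
   (4, [0,0,4,4,0]), (4, [0,2,2,4,4,2]), (3, [0,3,0,0,4]), (4, [2,2,5,3,5]), (4, [1,1,3]), (4, [0,3,5,3,5]),
   (4, [3,1,3,3,1]), (4, [1,4,4,1,5]), (4, [4,3,3,4,0]), (4, [1,5,1]), (4, [0,5,3,0]), (2, [4,4,1]),
   (3, [4,0,2,0]), (4, [0,0,4,1,2,5]), (4, [0,4,0,0,5]), (4, [2,1,2,4,2]), (4, [2,4,3,3,0]), (3, [2,2,5,0,4]),
   (4, [4,0,2,5]), (4, [1,1,2,1,3]), (2, [1,2,0,3]), (4, [0,5,3,3,0,3]), (4, [1,1,5,2]), (4, [1,3,1,3,1]),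
   (3, [0,4,4,1,4]), (4, [0,0,3,1,3]), (4, [0,0,0,3,1]), (4, [0,3,4,0,0]), (4, [5,1,4,3,0]), (4, [2,4,2,1]),
   (4, [0,2,5,0,3,5]), (3, [0]), (4, [0,3,3,0,0,3]), (4, [2,0,2,2,0,2]), (4, [2,4,2,2,2]), (4, [5,2,5,0]),
   (4, [1,3,3,4,1,5]), (3, [0,2,0,3]), (4, [1,4,4]), (4, [1,5,1,1,5,2]), (4, [2,0,3,0,0]), (3, [0,4,4,0,3]),
   (3, [3,0,2,4]), (4, [2,0,2,5,3]), (3, [0,0,0,5,1]), (3, [2,2,0]), (4, [1,5,1,1]), (3, [5,0,3,1]),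
   (3, [0,0,5,3]), (4, [0,4,2,1,4]), (3, [2,2,4,4,0]), (4, [1,2,2,2,0,4]), (4, [3,3,1,4,2]), (4, [4,4,2,5]),
   (1, [1,2]), (4, [5,3,4,4]), (4, [1,2,0,0,3]), (4, [0,0,3,1]), (3, [3,3,4,4]), (4, [4,0,5,2]),
   (3, [5,1,2]), (4, [4,0,3,0,0]), (4, [2,0,3,3,4,3]), (4, [1,2,5,0,4]), (3, [5,3,1]), (4, [0,2,1,2,1,1]),
   (3, [1,2,2,0,4]), (4, [4,0,2,1]), (3, [0,5,1,3]), (4, [1,4,2,5,1]), (4, [0,5,3,3,0]), (4, [4,4,2,0,5]),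
   (4, [1,1,4,4,0]), (4, [4,3,5,3,0]), (4, [0,4,2,1,3,0]), (4, [5,3,1,4]), (4, [0,0,5,2,4,2]), (4, [0,5,0,5,2,4]),
   (4, [4,2,5,3]), (4, [1,3,0,5,2,5]), (3, [2,1,3,3]), (3, [5,1,5]), (3, [2,1,2,2]), (4, [1,2,1,5,2,1]),
   (3, [4,4,2,1]), (4, [1,3,0,3,4,3]), (4, [3,4,2,2]), (4, [1,3,0,4,2]), (4, [1,4,3,4]), (4, [1,3,5,0,2]),
   (4, [2,5,0,4,4]), (3, [1,2,4,2,5]), (4, [0,4,1,5]), (4, [1,2,4,2,4]), (3, [0,2,1,5,0]), (4, [0,2,5,2,4,3]),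
   (4, [2,2,1,5,1]), (4, [3,1,1,5,3]), (4, [0,4,3,4,3]), (3, [3,0,4]), (4, [2,2,1,4,2]), (4, [2,5,2,2,4]),
   (4, [1,3,1,5,0]), (3, [5,1,3,1]), (3, [2,2,0,0]), (4, [0,0,0,4,0,5]), (4, [0,2,0,0,2,2]), (4, [0,0,3,0,0,0]),
   (4, [1,2,1,1,5]), (4, [2,5,1,4,0]), (4, [1,4,3,1,4,2]), (4, [0,0,4,4,3]), (1, [2,4,1]), (4, [0,3,3,0,0]),
   (4, [3,1,5,2,4]), (4, [1,2,4,3,4,3]), (4, [2,0,4,1,3]), (4, [1,4,0,2,0,4]), (4, [4,1,3,3,1]), (3, [0,3,1,5]),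
   (4, [4,3,1,5,2]), (4, [0,5,1,3,4]), (4, [0,3,4,2,0]), (4, [0,0,2,4,4,0]), (4, [1,5,3,3,5,0]), (3, [2,1,3,5,3]),
   (3, [2,4,2,0]), (3, [5,2,0,3]), (3, [0,2,1,2,2]), (4, [4,0,4,3]), (4, [4,4,1,2]), (4, [5,1,5,2,2]),
   (3, [0,5,0,5]), (3, [0,4,4,2]), (4, [0,2,1,4,0,2]), (3, [4,2,0,2]), (3, [0,4,1,2,5]), (4, [1,1,2,2]),
   (4, [1,1,3,5]), (4, [0,2,2,2,0]), (4, [1,3,4,1,2]), (3, [1,2,4]), (4, [4,0,2,2,5]), (4, [1,2,4,0,3]),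
   (3, [0,3,0,0,3]), (4, [5,0,5,0,4]), (4, [0,4,1,4]), (4, [1,4,4,2]), (4, [3,0,5]), (4, [4,4,3,0,4]),
   (3, [0,5,0,4]), (4, [0,2,2,2,4,2]), (4, [3,4,3,3,5]), (4, [5,1,4,0]), (4, [2,4,4,1]), (3, [3,4,4,2]),
   (4, [2,2,2,1,2]), (4, [0,3,3,1,2,0]), (4, [1,4,3,1,1]), (4, [3,4,0,2]), (4, [4,0,5,0,4]), (3, [4,0,5,3]),
   (4, [1,1]), (4, [1,2,2,4,4,1]), (4, [3,3,3,0]), (3, [0,2,0,2]), (4, [1,3,1,1,2]), (4, [3,0,2,1]),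
   (4, [1,5,0]), (3, [1,3,5]), (4, [3,0,2,4,3,0]), (4, [0,3,4,0,2,0]), (4, [1,5,3,4]), (3, [1,3,1,3,3]),
   (4, [3,1,1,5,2,5]), (4, [0,0,2,1,3,3]), (4, [0,3,4,0,2]), (4, [0,3,0,4,3]), (4, [1,2,0,3,0]), (4, [1,1,3,3,1]),
   (3, [0,4,1,3,1]), (4, [0,0,2,5,1,1]), (3, [5,2,4,3]), (4, [4,4,2,0,3]), (4, [4,3,5,2,4]), (3, [1,5,3]),
   (4, [2,4,0]), (4, [2,0,5,2,1]), (4, [1,4,3,4,0]), (4, [2,2,2,0,3]), (4, [0,3,3,3,4]), (4, [4,0,4,2,5]),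
   (4, [0,5,3,4,0]), (4, [4,3,5,0,2]), (3, [0,4,4,1,5]), (4, [1,1,4]), (4, [2,1,1,2,0,3]), (3, [1,4,0,5,2]),
   (4, [1,1,5,3,1]), (4, [1,2,1,1,4,3]), (4, [0,0,2,0,3,4]), (3, [0,3,0,3,1]), (3, [0,5,1,1]), (3, [1,1,5,1,3]),
   (3, [1,5,3,0]), (3, [5,2,2]), (3, [3,0,3,1]), (3, [5,2,0,4]), (4, [0,0,5,2]), (4, [2,0,5,1,5]),
   (4, [3,0,0,4,1]), (3, [5,0,3,1,4]), (4, [4,3,0,3,4]), (4, [0,3,0,3,1,5]), (1, [2,5]), (3, [4,0,2]),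
   (4, [0,0,2]), (4, [0,0,3,5,3,3]), (4, [0,3,3,3,3,4]), (4, [0,0,2,2,5]), (3, [2,4,3,1,3]), (4, [1,1,3,0,4,2]),
   (4, [0,0,4,1,5,1]), (3, [2,0,4,2,5]), (3, [1,4,3,5]), (4, [5,2,4,2,0]), (4, [0,0,5,3,1]), (4, [2,1,2,1,4,3]),
   (4, [0,2,2,1,2,5]), (3, [0,4,3,3,5]), (3, [0,2,0,4,1]), (3, [1,2,2,0]), (4, [5,2,2,5,1]), (4, [1,1,4,0,3]),
   (4, [5,2,0,4,0]), (1, [0,3]), (4, [0,2,2,2,4,1]), (4, [5,1,3,1]), (4, [2,5,0,4,0]), (4, [0,2,4,3,5,0]),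
   (4, [4,3,1,2]), (3, [3,4,0,3]), (4, [1,4,2,2,1,5]), (4, [0,4,0,2,2]), (4, [0,3,5,2,2]), (4, [1,4,2,2,5]),
   (3, [0,5,1,3,0]), (4, [2,4,0,0]), (3, [0,2,0,3,4]), (4, [0,5,3,3,4]), (4, [1,3,1,1,3]), (4, [1,1,3,1,1,4]),
   (4, [0,3,4,2]), (4, [1,5,2,0,4,1]), (4, [2,1,4,3,5]), (3, [0,0,4,0,2,1]), (4, [0,3,3]), (4, [3,1,1,3]),
   (4, [0,2,5,2,1,5]), (4, [4,0,3,5]), (3, [0,3,0,4,0]), (4, [5,3,1,5,0]), (4, [0,2,5,0,4]), (4, [0,0,3,5,0,5]),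
   (4, [2,0,2,1,4]), (3, [1,5,0,3,5]), (4, [3,0,2,0,4]), (3, [3,5,1,4]), (4, [1,2,1,5]), (4, [3,1,3,4,4]),
   (4, [3,1,1,2,0]), (4, [0,2,0,4,4,0]), (4, [3,4,3,5,0]), (3, [1,1,4,0,2]), (4, [1,3,3,3]), (4, [1,5,0,3,4]),
   (3, [2,1,5,1]), (3, [1,4,3,1,5]), (4, [1,1,2,1]), (4, [1,2,0]), (4, [0,3,1,2,4]), (3, [5,2,2,2]),
   (4, [5,3]), (4, [3]), (3, [0,2,1,1,3]), (3, [2,2,2,1]), (4, [1,5,1,3,3,4]), (3, [1,2,1,3]),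
   (4, [2,4,4,1,2]), (4, [3,5,3,3,1]), (4, [5,1,3,5]), (3, [0,2,1,3,1]), (4, [2,2,1,5]), (4, [2,4,1,3,4]),
   (4, [4,1,5,0,3]), (3, [3,5,3,5,1]), (4, [3,4,0,4]), (4, [5,2,0,4]), (4, [4,3,5,3,4]), (3, [4,3,3,4,2]),
   (3, [0,0,0,3]), (4, [1,5,0,2,0]), (4, [2,5,1]), (4, [2,0,2,4,2,5]), (4, [0,0,4,3,0,0]), (4, [0,0,5,2,4,1]),
   (3, [0,2,0,0,0]), (4, [2,5,3,1,1]), (4, [2,0,3,3,4,4]), (4, [1,1,5,1,2]), (4, [1,3,0,2]), (4, [3,3,0,2,4]),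
   (4, [3,5,3,4]), (3, [0,0,0,4]), (4, [1,2,5,1,5]), (4, [2,5,2,5,3]), (4, [0,0,3,0,0]), (4, [0,3,3,5,0]),
   (4, [0,2,1,2,0]), (4, [3,0,2,5]), (4, [0,2,2,1]), (4, [0,3,1,2]), (3, [0,0,4,2]), (4, [1,1,5,1,5,2]),
   (4, [2,0,3,1,4,3]), (4, [2,0,3,3]), (3, [3,1,3,4]), (4, [0,4,1,5,3,3]), (3, [5,3,4,4]), (4, [0,3,4,2,4,1]),
   (3, [5,0,5,2]), (4, [0,2,1,5,3]), (4, [3,1,4,0]), (1, [0,3,4]), (4, [1,3,3,5,2]), (4, [3,4,0,5]),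
   (3, [5,1,4,3]), (4, [5,3,4]), (2, [4,4,3]), (4, [0,5,0,3,5,2]), (4, [1,1,2,0,2,4]), (4, [4,3,0,0]),
   (4, [4,4,1,5,1]), (4, [1,2,4,4]), (3, [3,4,2,4]), (4, [0,0,4,0,3,4]), (3, [1,2,2,5,1]), (4, [4,1,3,3,4]),
   (4, [0,3,3,1]), (4, [4,4,1,2,0]), (4, [0,4,0,0,4]), (3, [2,0,4,3,4]), (4, [3,1,5]), (3, [3,4,4,1]),
   (3, [1,3,3,4]), (4, [3,4,3,1,3]), (4, [4,0,3,1,1]), (4, [0,4,1,2,0]), (3, [4,3,0,4,4]), (3, [0,0,4,0]),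
   (3, [5,3,5,1]), (4, [2,4,2,0,3]), (1, [2]), (2, [4,4,0]), (4, [0,2,2,5,2,5]), (3, [3,3,5,1,3]),
   (4, [2,0,4,0,2]), (3, [3]), (4, [2,0,3,1]), (4, [2,2,2,0,5]), (4, [1,5,3,3,0]), (4, [5,3,1,5]),
   (4, [5,0,5,1]), (4, [1,3,1,1]), (4, [1,3,5,3,4]), (4, [0,5,3,3,0,4]), (2, [4,0]), (4, [0,5,0,5,2]),
   (4, [2,1,2,4,4]), (3, [1,4,0]), (4, [5,3,3,1]), (3, [1,1,4]), (3, [1,4,2,2,1]), (4, [0,3,1,3,3,5]),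
   (4, [0,3,5,0]), (4, [0,4,2,5,1,1]), (4, [5,1,4,2]), (4, [2,4,3,5,0]), (4, [3,3,1]), (2, [5,3,0]),
   (4, [1,2,2,4,4]), (3, [1,5,3,5,3]), (4, [2,0,5,0,5]), (3, [5,1,4]), (4, [2,0]), (4, [0,3,1,5,3]),
   (4, [0,0,5,2,5]), (4, [2,2,5,1,2]), (3, [1,3,3,5]), (4, [1,1,4,4,0,4]), (4, [4,2,5,3,1]), (4, [1,2,1,4]),
   (4, [1,5,1,3]), (3, [1,4,3,1,4]), (3, [4,0,3,5,0]), (2, [4,2,0]), (4, [0,5,1,5,3]), (4, [4,0,2,5,1]),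
   (3, [0,5,3,3,0]), (3, [5,0,2,0]), (3, [2,0,0,4]), (4, [1,1,2,0,0]), (4, [2,2,1]), (3, [4,0,2,1]),
   (4, [1,3,1,1,4]), (4, [0,4,3,0]), (4, [0,3,5,2,0]), (4, [1,3,1,3]), (3, [3,5,1,5]), (4, [0,3,0,3,0,5]),
   (3, [4,4,0,2]), (4, [2,0,0,0,4]), (4, [3,4,1,4,3]), (4, [0,0,2,1,2,1]), (4, [1,2,0,2,1]), (4, [0,2]),
   (4, [1,2,5,0,2]), (3, [1,5,1]), (4, [0,3,4,3,5,2]), (4, [0,3,3,0,2,2]), (4, [0,2,0,2,4,3]), (3, [5,2,4,4]),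
   (4, [1,3,3,0]), (3, [3,3,5,1,2]), (3, [0,3,0,4,2]), (3, [1,1]), (4, [4,2,0,5]), (4, [3,1,2,0,5]),
   (4, [1,4,0,2]), (4, [0,0,4,0]), (4, [2,2,4,2,1]), (4, [0,4,2,0]), (4, [0,2,0,0,2]), (4, [3,3,1,4,2,4]),
   (4, [1,3,0,3]), (3, [0,0,3,0]), (4, [0,0,0,4]), (4, [0,4,2,5,2]), (4, [3,0,5,0,2]), (4, [2,0,0,2]),
   (4, [2,2,2]), (4, [1,4,4,2,4]), (4, [1,1,2,4,0,3]), (4, [0,3,0,2,5,0]), (4, [0,2,2,5,0,3]), (4, [3,1,4,2,4]),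
   (4, [1,1,3,0,4]), (2, [4,4,2]), (4, [2,2,0,5]), (3, [0,5,1,3,1]), (4, [0,0,0,3,3,1]), (4, [1,2,2,0,3]),
   (3, [0,2,1,2]), (4, [0,2,4,1]), (4, [1,2,2,0,5]), (3, [0,2,1,5,2]), (4, [3,5,2,5,1]), (4, [5,2,1,2]),
   (4, [3,5,0,4]), (3, [4,3,1]), (3, [4,2,0]), (4, [1,5,3,0,4]), (4, [2,1,4,3,5,3]), (4, [0,4,2,4]),
   (4, [1,5,2,0,2,1]), (4, [2,1,5,3]), (4, [0,2,2,2,2]), (3, [5,0,4,4,1]), (3, [1,4,0,4]), (4, [5,1,4,0,4]),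
   (3, [0,3]), (4, [3,4,3,5]), (4, [0,2,2,1,4]), (4, [2,1,4]), (2, [2,4]), (4, [5,2,2,4,1]),
   (3, [3,3,5,1]), (4, [4,2,0]), (4, [4,1,2,0]), (4, [0,3,4,3,4,1]), (4, [4,3,3,4,1]), (4, [0,4,4,0,4]),
   (4, [1,4,3,5]), (4, [1,1,3,3,0]), (3, [3,4,3,0,0]), (4, [0,3,0]), (4, [5,1,3]), (4, [2,2,2,4,0]),
   (4, [2,1,4,4,2]), (4, [5,3,0,5]), (3, [1,3,5,2,4]), (4, [5,2,4,1,4]), (3, [3,4,3,4,0]), (4, [4,1,3,1]),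
   (4, [1,1,4,3,0,4]), (2, [3,5]), (4, [5,3,0,2,4]), (4, [3,4,4,0,4]), (4, [0,0,0,4,0,4]), (4, [0,4,3,5,2]),
   (3, [2,2,4,1]), (4, [0,4,3]), (4, [1,5,2]), (4, [0,0,2,0,4]), (4, [5,2,5,1,3]), (4, [3,0,2,4,4]),
   (3, [0,4,3,1,1]), (4, [0,2,2,2,4]), (3, [0,5,0,4,0]), (4, [3,1,2,1]), (4, [4,1,3]), (4, [1,3,1,5,1,5]),
   (4, [4,2,5,3,4]), (4, [3,0,2,2,4]), (4, [0,4,0,0]), (3, [2,2,1]), (3, [5,0,4,0]), (4, [1,3,1,2,2]),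
   (4, [1,1,5,2,1,5]), (4, [3,5,3,0,5]), (4, [0,4,1]), (4, [2,1,4,3,1]), (4, [0,2,2,0,5]), (3, [0,4,4,3]),
   (4, [0,3,0,5,2]), (4, [1,5,0,3,3]), (4, [5,1,1,3,5]), (4, [2,4,0,0,3]), (4, [0,3,1,1,4]), (4, [1,5,1,5,3]),
   (4, [0,2,0,0]), (3, [2,0,4,0]), (4, [3,4,3,1,1,2]), (4, [1,2,5,1,3,0]), (3, [1,5,1,5,3]), (4, [5,3,1,2]),
   (4, [2,1,5,1,4]), (3, [0,0,2,0,0]), (4, [1,5,2,2,1]), (3, [2,1,2,0]), (3, [1,2,4,3,1]), (4, [3,5,2,4]),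
   (4, [0,3,3,0,4]), (4, [1,2,2,4,3]), (4, [4,4,2,2,2]), (4, [0,0,2,0,5]), (4, [5,1,3,5,0]), (3, [2,2,1,2,2]),
   (4, [0,3,4,1,4,0]), (4, [3,0,2,1,1]), (4, [0,4,4,3,0,4]), (4, [5,3,1,2,4]), (3, [0,4,0,5]), (4, [1,1,4,3,3]),
   (4, [1,1,3,0,5]), (3, [3,5,3,1]), (4, [0,0,2,5,2]), (4, [0,3,0,0,4,2]), (3, [0,5,0]), (4, [2,2,2,0]),
   (4, [3,1,4,2,5]), (4, [4,3,3,1]), (4, [0,0,4,3,0]), (4, [1,2,4,1,2]), (4, [0,0,2,2]), (4, [0,3,5,3,3]),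
   (4, [5,1,1,2]), (4, [3,1,5,2]), (4, [3,3,5,2]), (4, [4,4,1,5]), (4, [4,3,0,3,3]), (4, [3,4,4,0]),
   (4, [1,2,4]), (4, [1,4,2,5]), (4, [4,4,2,2]), (4, [5,0,2,4,1]), (4, [1,5,1,2,2]), (3, [2,4,2,4]),
   (4, [1,4,0,5]), (4, [1,3,5,3,3]), (4, [0,2,5,0,5]), (4, [1,1,5,1]), (4, [2,4,2,4,4]), (4, [1,1,2,2,1]),
   (4, [5,0,5,0]), (4, [1,3,1,3,4]), (4, [4,3,5,2]), (4, [0,2,1]), (4, [2,4,1,5,1]), (4, [3,4,3,5,1]),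
   (3, [4,4]), (4, [0,2,4,2,5,1]), (4, [0,2,4,4,3,5]), (4, [4,4,3,4,1]), (4, [1,1,4,3]), (4, [5,2,1,4,3]),
   (4, [0,3,5,3,1]), (3, [1,3,5,2,2]), (3, [1,5,1,4]), (4, [3,0,2,4,3]), (3, [0,2,2,5,0,5]), (4, [1,2,0,3,1]),
   (4, [1,1,3,4,2]), (3, []), (3, [1,5,0]), (4, [5,3,1,2,5]), (4, [0,3,0,3,3,0]), (4, [4,3,0,0,2]),
   (3, [0,4,3,3]), (3, [5,0,2,5]), (4, [1,2,5,2]), (4, [2,2,4,4,3]), (4, [1,2,1,1,5,1]), (4, [4,4,2,5,1]),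
   (3, [1,1,2,2,4]), (3, [0,2,0,2,5]), (4, [1,5,0,5,0,2]), (4, [0,2,0,2,4,1]), (4, [3,1,3,0]), (4, [2,4,4,1,2,1]),
   (4, [4,4,2,4,3]), (4, [3,3,5,1,3]), (4, [0,0,4,3,1]), (3, [0,3,5,2,0]), (4, [2,2,0,0,5]), (3, [1,2,4,1,2]),
   (4, [3,1,2,5]), (4, [1,5,1,3,0]), (4, [3,1,1,5]), (4, [1,2,2]), (4, [3,1,2,2,2]), (4, [0,4,3,0,0,5]),
   (4, [2,0,4,3,1]), (4, [0,3,3,5,3,1]), (4, [1,4,3,0,4,4]), (4, [3,0,4,0]), (4, [0,3,3,4,4,1]), (4, [4,2,1,4]),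
   (4, [3,1,2,4,0,0]), (4, [1,1,5,2,0]), (4, [5,1,5]), (4, [1,3,1,4,3,3]), (4, [2,1,1,3,3]), (4, [4,3,3,3,0]),
   (4, [0,3,3,1,3,3]), (3, [0,4,4,2,5]), (3, [3,0,2,2,2]), (3, [2,4,4,3,1]), (3, [2,2,5,1]), (4, [3,3,0,5,1]),
   (4, [1,2,2,0]), (4, [2,1,2,2,0,0]), (4, [3,0,4]), (3, [0,0,3,3]), (4, [0,5,3,5]), (4, [0,5,2,2,1]),
   (3, [1,3,1,1,4]), (4, [1,4,0,3,0]), (3, [2,1,5,2,0]), (4, [0,0,2,5,0]), (4, [0,0,2,4,3,3]), (4, [3,0,2,1,2]),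
   (4, [2,5,2,4,4]), (3, [5,0,3,3]), (3, [0,0,2,2]), (4, [1,2,0,2,5]), (4, [0,0,4,1,3,5]), (4, [0,2,4,2,4]),
   (3, [2,1,2,2,1]), (4, [5,0,3,5,2]), (3, [0,2,1,1,3,4]), (4, [2,5,3,5,0,4]), (4, [0,3,1,3,4,1]), (3, [4,4,0,4]),
   (4, [0,3,4,2,5]), (4, [0,2,4,4,0,0]), (4, [1,2,2,0,0]), (3, [2,1,5,0,2]), (4, [1,1,4,3,1]), (4, [2,1,5,1,5]),
   (4, [2,4,3,0,3]), (4, [0,5,1,1,5,1]), (4, [4,4,2,4,2]), (4, [4,0,3,1,5]), (3, [4,0,2,4]), (4, [5,3,4,0,2]),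
   (3, [5,1,2,5]), (4, [1,5,2,5,3,1]), (4, [4,4,2,0]), (3, [5,0,3,5,1]), (4, [3,4,3,3]), (4, [4,4,3,1,4]),
   (4, [0,0,3,4,0]), (4, [1,2,1,1]), (4, [0,2,0,2,2,5]), (4, [0,0,5,2,2]), (4, [0,0,0,3,3,4]), (3, [0,4,0,2,4]),
   (4, [2,5,0,4,3]), (4, [0,4,3,0,2]), (3, [5,2]), (4, [0,2,5,1,1]), (4, [1,2,1,2]), (3, [1,5,3,4,2]),
   (4, [1,2,0,0,3,1]), (4, [0,3,4,0,3]), (4, [1,1,5,2,1]), (3, [1,3,3,3]), (4, [1,4,2,1]), (4, [1,1,3,1,3]),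
   (3, [5,2,5]), (4, [1,4,2,2,5,0]), (3, [4,3,1,3]), (3, [2,1,3,0]), (4, [1,3,3,4,0]), (3, [1,4,0,2,0]),
   (4, [1,5,2,0,4]), (4, [5,0,2,1]), (4, [0,5,2,1,2]), (4, [5,2,0,3]), (4, [0,4,3,0,4]), (4, [4,0,2,2,2]),
   (4, [0,0,0,3,4,1]), (4, [0,2,2,2,0,0]), (4, [4,1,2,5]), (4, [2,0,4]), (3, [4,3,0,3]), (4, [0,0,4,4,3,4]),
   (4, [0,0,4,1,3,1]), (4, [2,0,5]), (4, [0,0,3,4]), (4, [2,1]), (4, [4,1,4,2,4]), (4, [5,2,2,5]),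
   (4, [0,0,4,0,4]), (4, [2,1,1,2,4]), (3, [3,4,1,2]), (4, [0,2,1,1,3]), (4, [3,5,1,3]), (4, [0,3,3,0,0,4]),
   (4, [3,4,1,2,2]), (3, [1,4,3,4,0]), (4, [0,4,4,1]), (3, [3,0,0,0]), (3, [2,4,3,3,3]), (4, [0,3,1,5,2,2]),
   (4, [3,4,0,3,4]), (4, [1,4,3,0,5]), (3, [2,5,3,5,0]), (4, [3,3,0,4]), (4, [0,4,2,2,1]), (3, [0,2,2,5]),
   (4, [3,3,1,2,2]), (4, [0,2,4,2,1]), (3, [5,0,3,0,2]), (4, [1,1,2,1,4,3]), (4, [3,3,5,2,1]), (4, [0,5,3]),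
   (4, [0,0,4,0,2]), (4, [4,1,3,4,3]), (3, [0,4,2,2,0]), (3, [4,2,4,4]), (4, [4,0,2,2,4]), (3, [0,0,0,5]),
   (4, [1,5,2,5]), (3, [2,4,3,3]), (4, [1,4,2,2]), (4, [2,1,1,4]), (4, [0,0,3,3,3,5]), (3, [0,2,2,5,0]),
   (4, [3,3,5]), (4, [0,4,4,0,2,4]), (4, [1,5,2,2]), (4, [1,2,0,0,5]), (4, [5,3,0]), (4, [0,4,4,3,1]),
   (4, [0,3,1,3,5]), (4, [0,2,1,1,5,2]), (4, [0,2,2,1,3,1]), (3, [0,2,4,0]), (3, [0,4,2,5,1]), (4, [4,0,5,0,2]),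
   (4, [5,0,4,1,2]), (4, [0,2,5,3,1,4]), (4, [4,3,4]), (4, [3,1,5,0]), (3, [4,3,5,1]), (3, [5,0,2]),
   (3, [1,3,5,3,1]), (4, [5,3,3,4,0]), (4, [2,2,4,3,5]), (4, [5,2,1,3,3]), (4, [2,5,3,5,1]), (4, [2,2,4,2]),
   (4, [1,2,1,2,2]), (4, [0,3,3,4,4]), (4, [3,4,4,2,5]), (3, [1,5,2,5,3]), (4, [1,2,0,0,0]), (3, [3,3,3,5]),
   (4, [1,3,5,2]), (4, [1,1,5,1,2,0]), (3, [0,5,0,2,4]), (3, [1,1,4,0]), (3, [2,0,4,0,2]), (4, [2,0,5,1,1]),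
   (4, [5,2,4,2]), (3, [0,4,2,4]), (4, [0,2,4]), (4, [4,2,4,1]), (4, [0,4,2,1,4,4]), (3, [1,5,2,1,2]),
   (4, [0,3,0,0,4,0]), (3, [0,2,1,3]), (4, [5,1,4,2,4]), (4, [3,0,3,3,4]), (3, [2,0,0,4,0]), (3, [4,3,3]),
   (3, [0,3,4,3]), (4, [0,3,0,3,1,2]), (4, [2,4,2,0,0]), (3, [0,4,2,4,1]), (4, [0,4,0,0,3]), (3, [5,3,5]),
   (4, [0,3,4,4]), (4, [3,0]), (4, [2,0,5,1]), (4, [0,0,4,0,4,4]), (4, [1,4,2,4,1,2]), (4, [1,3,5,0,4]),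
   (4, [2,4,4,0,3]), (3, [2,4,4,1]), (3, [3,4,0,3,0]), (3, [5,2,0,0]), (3, [3,1,1]), (4, [1,4,2,1,5,3]),
   (4, [0,5,3,1,5,1]), (4, [2,0,3,0]), (3, [0,2,2,1,4]), (4, [0,5,1,4,0,3]), (4, [2,1,5,0,4,3]), (4, [0,0,2,0,3]),
   (4, [4,0,0,2,2]), (3, [1,3,4,4,1]), (3, [0,0,2,1,2]), (3, [1,5,2,4]), (3, [0,3,5]), (4, [0,3,3,5,0,5]),
   (4, [1,3,1,3,0]), (4, [0,3,3,3,0]), (4, [0,0,3,5,0,3]), (4, [1,2,0,3,5]), (4, [0,4,0,2,1,2]), (4, [3,0,3,4]),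
   (4, [2,1,5,0]), (4, [0,0,4,1]), (3, [2,5,2,0]), (4, [2,0,0,3,0]), (4, [0,4,1,3,5,3]), (3, [1,1,2,0,2]),
   (4, [0,4,0,2,1,4]), (4, [4,2,4,3,3]), (4, [4,1,2,2,4]), (4, [0,0,5,2,2,5]), (4, [3,5,1,2,4]), (4, [0,0,3]),
   (4, [2,2,2,2,1]), (4, [3,1,3]), (3, [4,3,3,3]), (2, [1,4]), (3, [4,3,0]), (4, [4,3,4,2,4]),
   (4, [2,5,0,4,2]), (4, [2,5,0,5,2]), (3, [0,0,4,3,1]), (4, [0,4,3,4,4]), (4, [2,2,5,2,4]), (4, [3,0,3,5]),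
   (4, [0,4,0,2,0,3]), (4, [0,0,2,0,3,0]), (3, [2,2,5,1,1]), (4, [0,0,0,5,1]), (4, [0,2,1,5,3,0]), (4, [0,2,4,4,1]),
   (4, [5,2,4,3,3]), (4, [2,5,2,5,2]), (3, [5,1]), (4, [0,2,1,4,0,4]), (4, [1,4,2,4,2,0]), (4, [0,3,3,1,1]),
   (3, [3,0,2,5]), (4, [2,0,5,3,3]), (3, [3,1,2,2]), (4, [3,4,0,3,3,4]), (4, [0,2,1,4,2]), (4, [0,2,4,2]),
   (3, [0,0,0,5,3]), (3, [1,5,3,0,0]), (4, [3,1,3,1,3]), (4, [5,3,4,2,4]), (4, [0,3,3,4,4,0]), (4, [1,4,2,2,1]),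
   (4, [2,5,1,2,0]), (4, [1,2,2,1,5]), (4, [2,2,1,4]), (4, [1,5,0,4]), (4, [4,4,3,1]), (4, [5,1,3,1,4]),
   (4, [4,2,1]), (4, [1,1,5,2,4,3]), (4, [0,3,0,0,4]), (4, [0,2,2,0,5,2]), (2, [3,3]), (4, [0,3,5,2,1]),
   (3, [2,1,5,0,4]), (3, [5,2,2,4,3]), (4, [0,0,2,1,4]), (4, [0,3,1,1,2]), (3, [2,1,4,3,3]), (4, [0,2,4,0,0,5]),
   (4, [1,2,2,1,2,2]), (4, [0,0,2,1,1]), (4, [0,0,0,2,1]), (4, [1,2,1,1,4,4]), (3, [5,2,1]), (3, [5,1,4,4]),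
   (4, [1,3,4,4,3,3]), (4, [1,4,4,0,0]), (3, [1,4,0,4,3]), (4, [2,1,2,4,1]), (3, [1,5,1,4,3]), (3, [0,4,0,2,2]),
   (4, [1,3,5,1,5]), (4, [0,5,3,1,3]), (4, [2,4,4,3,4]), (4, [0,2,2,1,2,1]), (4, [1,2,1,4,4]), (3, [5,0,2,1]),
   (4, [0,2,5,3,1,5]), (4, [1,1,3,0,4,1]), (3, [1,4,3,4,2]), (3, [1,1,4,4]), (4, [3,5,3,4,2,5]), (4, [0,2,0,0,5]),
   (4, [1,5,1,4,4]), (4, [0,2,0,3,1,2]), (2, [5,0,3]), (4, [1,2,0,2,2]), (4, [2,4,1,4,3]), (4, [1,1,2,2,4]),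
   (4, [1,3,1,3,3,3]), (4, [3,4,2,2,5]), (4, [1,2,2,5]), (4, [0,2,0,4,1]), (3, [0,4,0,5,3]), (4, [1,4,0]),
   (4, [4,4,1]), (4, [4,3,1,2,2]), (4, [1,2,2,1,1,5]), (4, [2,4,4,0,4]), (4, [5,2,4,0]), (3, [0,3,0,5]),
   (3, [3,5,0,2]), (3, [0,4,0,2]), (4, [1,2,0,2,0]), (4, [3,3,3,1,2]), (4, [1,5,3,5,0]), (4, [0,3,4,4,1,3]),
   (4, [3,0,0,5,1]), (3, [0,3,5,3]), (2, [1,3,5]), (4, [0,2,4,4,2,1]), (2, [5,1]), (3, [5,0,3,0]),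
   (4, [5,2,2,1,3]), (4, [4,1,3,0]), (3, [4]), (3, [2,1,5,3]), (4, [2,5,3,0,0]), (3, [3,4,4]),
   (4, [0,3,4,3,1,1]), (4, [2,4,1,5,2]), (3, [1,2,1]), (4, [4,0,2,4,3]), (3, [0,2,4,2,0,0]), (4, [3,0,0,5]),
   (4, [3,4,2]), (4, [2,5,3,1,2]), (3, [3,5,3,5]), (4, [0,3,1,3,4,3]), (4, [5,3,0,5,2]), (3, [4,4,0,5,3]),
   (3, [1,1,5,3]), (2, [3,1,1]), (4, [1,1,3,5,0]), (4, [2,0,2,1]), (3, [4,2,4,1]), (3, [5,3,4,4,1]),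
   (4, [1,4,4,0,0,4]), (4, [1,5,1,3,4]), (3, [0,4,4,3,1]), (4, [4,3,3,1,1]), (3, [0,2,1,2,5]), (4, [2,2]),
   (3, [3,4,4,1,3]), (4, [1,3,1,1,5]), (4, [0,2,0,2]), (4, [1,2,4,1,4]), (3, [1,2,4,3,4]), (4, [3,3]),
   (4, [4,2,0,4,3]), (4, [1,1,5,2,0,5]), (4, [0,0,4,2,5]), (3, [1,2]), (3, [2,0,2,0,2]), (4, [1,2,5,1,3]),
   (4, [1,1,3,1,1,5]), (3, [4,3,4,4]), (4, [0,3,3,5,1]), (4, [3,4,4,3]), (4, [1,2,2,4]), (3, [0,3,4,0]),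
   (4, [3,0,2,5,2]), (4, [2,2,5,2,1]), (4, [0,5,2,4,2]), (3, [1,3,1,4,0]), (4, [5,3,1,5,3]), (4, [1,3,4,2,2]),
   (4, [0,4,3,4,4,3]), (3, [3,5,2,1]), (3, [0,3,4,0,5]), (4, [4,3,3,1,5]), (3, [2,2,2,4]), (4, [3,3,5,1]),
   (4, [0,2,5,2,4]), (3, [2,0,4]), (3, [0,5,0,3]), (4, [4,4,1,5,3]), (3, [2,4,2,4,0]), (3, [3,4,3,1]),
   (4, [1,3,4,2,0]), (4, [1,2,4,0,5]), (4, [5,3,3,4]), (4, [0,4,0,3]), (4, [1,1,3,3,1,3]), (3, [1,3,0,5]),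
   (4, [4,4,3,3]), (4, [1,3,4,0,5]), (4, [5,2,1,5,3]), (4, [2,0,0,4]), (4, [2,0,5,1,5,3]), (4, [0,4,1,5,1,2]),
   (3, [0,5,3,3,0,3]), (3, [0,5]), (3, [2,2,2,2]), (4, [0,0,4,4,0,5]), (4, [3,5,0,5,3]), (4, [1,4,2,1,5]),
   (4, [0,2,4,0,4]), (4, [5,3,0,0,5]), (3, [5,3,4,0]), (4, [0,4,4,0,5,2]), (3, [0,0,4,1,5]), (4, [1,4,3,1,4]),
   (4, [0,2,4,2,4,3]), (4, [0,3,1,2,5,2]), (4, [0,4,4,3,0]), (4, [3,4,1,4,4]), (4, [0,4,3,4,0,0]), (4, [2,1,4,0]),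
   (3, [1,3,3,4,1]), (3, [1,4,0,2]), (3, [5,1,2,0]), (4, [5,2,2]), (3, [3,0,5,3]), (3, [4,2,4,2]),
   (3, [0,4,0,5,2]), (4, [4,1,2,0,3]), (4, [2,1,2,4]), (4, [4,3,4,0]), (4, [0,0,3,3,5]), (2, [0,4]),
   (4, [0,3,1,2,5]), (4, [5,3,0,5,3]), (4, [0,3,3,3,3]), (4, [0,5,1,3,5]), (4, [0,0,2,2,0,0]), (4, [0,0,5,1,3]),
   (3, [0,0,2,2,5]), (4, [4,2,1,3,3]), (2, [1,3]), (4, [2,0,2,5]), (4, [2,1,2,4,1,4]), (4, [4,0,4,2,2]),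
   (4, [1,4,2,5,2]), (3, [0,2,1,2,4]), (3, [1,3,4,3]), (4, [2,0,3,3,5]), (4, [1,1,4,0,4]), (4, [5,3,1,1,2]),
   (4, [0,3,4,4,0]), (4, [4,2,1,3,1]), (4, [0,4,4,0]), (3, [4,3]), (3, [5,2,2,1]), (3, [0,5,2,1,3]),
   (4, [1,5,1,1,2,5]), (4, [1,2,4,4,3]), (4, [1,5,0,4,0]), (4, [2,2,5,3,4,3]), (4, [4,4,3,4]), (4, [1,5,3,5,3]),
   (4, [0,4,2,0,2]), (3, [0,2,2,4]), (4, [0,5,0,5,0]), (4, [5,0,4,0]), (3, [2,4,0,3]), (4, [0,2,4,2,0,4]),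
   (4, [5,3,4,0,3]), (4, [5,1,1,2,4]), (3, [2,2,2,2,2]), (3, [0,5,1,1,3]), (3, [1,2,4,4,0]), (3, [2,0,2,4,3]),
   (4, [1,5,2,4,2,0]), (4, [2,0,0,3,0,0]), (3, [5,2,0]), (3, [2,4,4,2]), (4, [3,5,2]), (3, [2,1,5,1,3]),
   (4, [1,5,1,5]), (4, [3,0,2,4,0]), (3, [1,1,2]), (3, [4,0,2,0,4]), (4, [2,0,2,2,2,5]), (3, [3,3,3]),
   (3, [3,4,0]), (4, [1,5,1,3,5]), (4, [0,4,3,0,0,3]), (4, [0,2,5,0,5,2]), (3, [2,0,5,2]), (3, [0,4,1,3,4]),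
   (3, [3,0,2,2]), (4, [0,2,5,1,4]), (4, [0,0,5]), (4, [0,3,0,0]), (3, [1,3,0,0,2]), (4, [0,0,2,2,1]),
   (3, [0,4,2,0,4]), (4, [0,0,0,2]), (3, [4,2,5]), (4, [1,4,2,2,2]), (4, [0,3,5,0,4]), (4, [5,2,1,4]),
   (3, [0,2,1]), (3, [0,0,4,2,2]), (4, [0,4,2,5]), (3, [2,0,2,5]), (4, [4,2,5,0,5]), (4, [1,3,1,1,3,3]),
   (4, [1,5,2,4,2]), (4, [3,3,3,3]), (3, [1,2,2]), (4, [4,1,2,5,1]), (3, [3,1,4,4]), (4, [0,3,1,3,3]),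
   (3, [0,4,3,1,5]), (4, [0,0,2,1,1,4]), (4, [0,0,0]), (4, [3,0,3,1,2]), (4, [1,1,3,3,5]), (4, [0,5,3,3]),
   (3, [0,0,2,1]), (4, [2,4,2,4,0]), (4, [5,2,4,2,2]), (4, [1,2,1,1,2]), (4, [4,3,1,1]), (4, [0,2,0,0,3]),
   (4, [3,0,3]), (3, [0,3,4,0,0]), (4, [2,5,3,5,0,2]), (4, [0,3,3,5,2]), (3, [3,4,3]), (4, [0,2,5,1,2,5]),
   (4, [3,0,4,1,3]), (4, [3,3,5,0,5]), (4, [4,1,4,2,0]), (4, [0,3,3,0,4,3]), (4, [0,0,3,3]), (3, [2,1,3,0,3]),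
   (4, [0,4,4,3,3]), (3, [3,0,4,1]), (4, [2,2,5,3,4]), (4, [1,3,4,0,2]), (4, [3,1,4,2]), (4, [2,2,5,0,3]),
   (3, [2,1,3,4,1]), (4, [3,1,4,3]), (4, [0,3,4,2,2]), (3, [5,2,2,5]), (4, [5,3,3,1,3]), (4, [3,0,0,3]),
   (4, [0,2,1,2,1,2]), (4, [0,4,0,2,2,4]), (4, [1,4,3,5,2]), (3, [3,1,5]), (3, [1,2,2,0,5]), (4, [5,2,5]),
   (4, [2,1,4,2,5]), (4, [2,2,0,4,4,1]), (4, [0,5,3,4,1,4]), (4, [3,4,3,3,4]), (4, [5,0,5,1,3]), (4, [4,3,5,0,5]),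
   (4, [1,2,0,0,2]), (4, [5,0,4,2]), (3, [2,0,3,5]), (4, [1,2,4,3]), (4, [2,0,2,2,5]), (4, [4,0,3,3,3]),
   (4, [0,4,3,0,4,4]), (4, [0,3,4,2,4]), (3, [4,0,5,1,4]), (4, [0,3,1,5]), (4, [4,4,2,1]), (4, [5,3,3,4,3]),
   (4, [0,5,1,5]), (3, [0,5,2,1,2]), (4, [0,2,2,2,1,5]), (4, [3,1,3,0,0]), (4, [3,0,4,4]), (4, [0,4,0,4,2]),
   (4, [4,3,5,1,5]), (4, [1,5,1,5,0]), (3, [5,0,4]), (4, [3,4,1,4,3,3]), (4, [0,5,1,1,5,3]), (4, [1,1,4,3,0]),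
   (4, [0,2,0,4,3,0]), (4, [2,0,0,0,5]), (4, [5,3,3,1,1]), (4, [1,5,0,5,3]), (3, [1,5]), (3, [0,4,4,0]),
   (3, [1,3,0,3]), (4, [0,3,0,0,4,4]), (4, [0,2,5,1]), (4, [2,2,0,4,3]), (4, [1,1,3,5,3]), (4, [0,3,4,1,2]),
   (4, [1,2,5,0]), (4, [0,5,3,4,0,4]), (4, [0,3,1,3,0,3]), (3, [0,0,3,5,1]), (4, [0,4,3,3]), (4, [0,3,4,0,4,1]),
   (4, [3,1,2,0,2]), (4, [0,2,1,3,4,2]), (3, [1,3,0,2]), (3, [1,1,5,1]), (4, [0,0,2,4,4,3]), (4, [3,1,4,4,2,4]),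
   (4, [4,3,4,2]), (4, [3,4,4,3,1]), (4, [0,2,0,2,5]), (4, [1,4,2,1,4]), (4, [5,1,3,0,2]), (4, [0,3,4,3,5]),
   (3, [3,5,0]), (4, [4,0,5,2,4]), (3, [0,2,0,3,5]), (3, [0,3,1,2,5]), (3, [1,4,2,2,0]), (4, [3,3,5,1,2]),
   (3, [0,3,3,1,1]), (4, [2,2,4,2,0]), (4, [1,3,0,4,2,2]), (3, [2,0,0,2]), (4, [0,3,4,3,5,1]), (4, [0,5,3,5,0]),
   (4, [4,0,5,0]), (4, [0,2,0,2,0,5]), (4, [3,0,0,4]), (3, [0,4,2,5]), (4, [5,3,0,2,5]), (4, [0,0,5,1]),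
   (4, [2,1,4,4]), (3, [0,2,1,3,4]), (4, [0,3,3,4,2,0]), (4, [5,1,1]), (4, [0,0,4,0,4,1]), (4, [0,0,4,4]),
   (4, [0,0,2,1,5,3]), (4, [0,0,0,4,4]), (4, [1,3,0,4]), (3, [2,1,2,4,1]), (4, [2,0,3,4]), (4, [1,5,2,4,0]),
   (4, [1,3,4,1]), (4, [1,1,4,2]), (4, [5,2,0,5]), (4, [4,3,3,0,2]), (4, [0,2,4,3,5]), (4, [1,5,2,0,0]),
   (4, [1,1,3,0,0]), (4, [0,0,2,4,2]), (4, [5,1,5,0]), (4, [1,4,3,4,3]), (4, [0,5,3,0,3]), (4, [0,4,0,2,0]),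
   (4, [2,4,4,0,2]), (4, [0,2,0,2,4,0]), (3, [3,1,3]), (3, [3,5,2]), (4, [5,3,0,2,1]), (4, [5,2,0]),
   (4, [1,2,2,0,5,3]), (4, [2,2,2,2,2]), (3, [1,2,4,1]), (4, [1,2,4,4,1]), (4, [0,0,2,1,1,5]), (3, [2,2,2,4,0]),
   (4, [0,5,3,0,0,0]), (4, [0,2,5,1,2,4]), (4, [2,2,0,3]), (4, [2,5,2,2,2,1]), (4, [1,5,1,2]), (4, [0,3,1,3,1,5]),
   (4, [0,3,0,4,4]), (4, [3,4,3,5,3]), (4, [1,2,1,2,4,0]), (4, [2,0,4,0,3]), (4, [0,4,2,2,4]), (4, [0,0,4,0,2,5]),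
   (4, [1,3,0,0,3,4]), (4, [3,0,5,0]), (4, [1,5,1,5,2,2]), (4, [3,1,2,0]), (4, [3,1,3,1]), (4, [1,1,4,2,4]),
   (4, [0,3,1,3,5,3]), (4, [1,4,2,1,2]), (4, [0,2,4,4,1,5]), (4, [2,5,0,4,2,4]), (4, [0,0,3,5,1]), (4, [1,2,0,2,5,2]),
   (4, [1,3,3,5]), (4, [3,1,1,4,0]), (3, [5,2,4,2]), (4, [1,2,1,2,4]), (4, [3,1,3,4,3,1]), (4, [1,5,1,5,2]),
   (4, [1,3,3,0,2,5]), (4, [0,0,4,2,2,4]), (4, [4,3,1,5]), (4, [2,0,0,0]), (4, [2,2,4,4]), (4, [4,4,3,0,2]),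
   (4, [1,4,2,2,1,1]), (4, [1,3]), (4, [2,4,3,5]), (4, [3,1,3,1,3,3]), (4, [2,2,2,2,4]), (4, [0,4,2,5,3,5]),
   (3, [5,2,2,4]), (4, [0,3,5,3,3,4]), (4, [0,0,4,3,4,2]), (3, [0,4,4]), (4, [2,0,3]), (4, [4,3,3,5]),
   (4, [0,4,0,2,5]), (4, [4,3,4,3]), (4, [1,5,0,2,0,3]), (4, [2,0,4,0]), (4, [0,4,3,0,5,2]), (4, [0,2,2,0,0]),
   (3, [3,3,5,1,5]), (4, [1,5,1,1,2]), (4, [3,1,5,3]), (3, [0,4,0,0]), (3, [2,0,3,4]), (4, [1,3,4,3]),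
   (4, [2,5,3,1,5]), (4, [0,4,2,5,1]), (3, [5,2,4]), (4, [3,1,1,4,2]), (4, [3,4,0,3,3,5]), (4, [0,2,0,3,4]),
   (3, [0,3,1,5,1]), (4, [0,3,3,1,2]), (4, [0,2,4,3,4]), (4, [0,5,2,2,1,3]), (4, [3,3,0,5]), (4, [2,0,4,1,2]),
   (3, [0,4,0,2,5]), (4, [0,0,4,2]), (4, [0,5,1,1,2,1]), (4, [4,4,2,0,0]), (3, [3,3]), (3, [1,4,0,5]),
   (4, [0,5,0,4]), (3, [4,0,3,0,3]), (4, [2,5,1,2]), (3, [3,1,2]), (4, [4,1,2]), (4, [0,0,3,4,4]),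
   (4, [0,5,0,5,1,2]), (4, [3,3,0,4,3]), (4, [1,1,3,0,2,4]), (4, [0,2,1,4,2,5]), (4, [0,0,2,1,3]), (4, [1,2,2,2,5]),
   (4, [3,3,0,0,2]), (4, [1,2,2,1,2]), (4, [1,5,3,3,3]), (4, [0,3,0,2,4]), (3, [2,1,5,3,0]), (4, [0,0,0,2,2]),
   (3, [0,3,0,0,2]), (4, [2,0,2,4,2]), (4, [1,1,4,2,0]), (4, [5,3,1,1]), (4, [0,4,1,2]), (3, [0,2,2]),
   (4, [2,2,0,3,1]), (4, [0,0,2,1,5]), (4, [5,1,3,4]), (4, [0,2,2,5,3,4]), (4, [1,4,3]), (4, [3,1,3,4,1]),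
   (4, [2,0,3,0,4]), (4, [0,3,0,2,2]), (4, [3,4,1,3]), (4, [3,3,3,1,3]), (3, [0,0,2,4,1]), (4, [0,4,1,2,0,3]),
   (4, [0,0,3,4,2,0]), (4, [0,0,3,5,3]), (4, [1,2,4,0,4,1]), (4, [0,3,5]), (3, [2,0,3]), (4, [1,1,4,3,4]),
   (3, [3,4,4,2,1]), (4, [0,4,2,0,2,1]), (4, [2,4,2,5]), (4, [0,4,0,0,2]), (4, [1,3,3,1,1,3]), (4, [4,3,3]),
   (4, [3,5,3,0,2]), (4, [1,4,2,4,2,2]), (4, [0,5,3,0,2]), (4, [3,0,5,3]), (4, [0,0,0,3,4,2]), (4, [4,0,4,2]),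
   (4, [5,3,5,1,5]), (4, [2,2,2,0,2]), (4, [0,4,4,3,5]), (4, [0,4,3,4,3,3]), (3, [1,1,3,5]), (4, [4,1,4,0,5]),
   (4, [0,0,5,3]), (4, [1,4,3,5,1,2]), (4, [0,0,2,4]), (3, [4,4,0]), (4, [5,1,4,4,0]), (3, [0,5,2,5,1]),
   (3, [1,3,3,1,1]), (4, [4,3,5,3,0,3]), (4, [0,4,1,5,0]), (3, [5,2,0,2]), (4, [3,0,2,0,3]), (3, [1,4,0,3]),
   (4, [0,0,5,3,5]), (3, [2,0,5]), (3, [1,3,4]), (4, [5,3,5,1,4]), (4, [4,2,1,4,0]), (4, [3,0,2,2,0,3]),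
   (4, [3,4,3]), (4, [0,5,0,5]), (4, [1,3,5]), (4, [1,4,0,2,1]), (4, [1,4,2,2,4]), (4, [4,3,1,4,2]),
   (4, [4,0,5,3,1]), (4, [0,4,1,4,3]), (3, [5]), (3, [0,2,2,1,5]), (4, [0,5,1,5,0,2]), (4, [0,4,3,1,5]),
   (3, [1,2,5]), (4, [1,3,3,1,3]), (4, [0,2,1,2,4,0]), (4, [0,2,5,0]), (4, [2,5,2,4]), (4, [2,5,2,2]),
   (4, [4,2,4]), (4, [3,5,1,3,1]), (4, [1,5,1,4]), (4, [2,5,3,3,0]), (3, [2,1,4,0]), (3, [3,0,5,1,3]),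
   (4, [3,1,1,2]), (4, [0,2,5,3,1]), (4, [0,3,3,0,2]), (4, [1,1,5,2,5]), (4, [5,0,4,2,5]), (4, [3,1,2,4,0]),
   (4, [3,0,5,0,2,5]), (4, [0,2,2,2]), (3, [1,3,1,4,2]), (3, [0,2,2,4,4]), (4, [2,1,4,3,0]), (3, [2,4,0,2]),
   (3, [1,1,4,2,2]), (2, [2,0]), (4, [0,5,0,3,5]), (4, [5,1,4,4,2]), (3, [0,3,4,2]), (4, [1,2,5,3,1,5]),
   (3, [2,2,4,4,1]), (4, [0,2,4,3]), (3, [1,5,2,4,1]), (4, [2,0,2,2]), (4, [3,1,4]), (4, [4,2,1,4,4]),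
   (4, [1,1,3,1,1,2]), (4, [3,5,1,4,4]), (4, [3,1,3,3]), (3, [1,5,3,1,5]), (4, [4,2,0,0]), (4, [1,2,0,0,4,2]),
   (4, [5,3,1,2,2]), (4, [0,3,4,4,2,1]), (4, [3,0,0]), (4, [0,2,4,4,0,2]), (4, [2,5,1,4,3]), (3, [1,1,3,4,3]),
   (3, [0,3,3,3]), (4, [1,1,5]), (4, [5,3,4,1]), (4, [1,3,4,0,3]), (4, [3,4,1,3,5]), (4, [4,4,2]),
   (4, [0,0,4,0,3,1]), (4, [2,4,4,1,3]), (4, [0,4,2,4,3,0]), (3, [3,0,0,4]), (4, [1,2,2,5,0]), (4, [0,4,4]),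
   (3, [2,5,1,3]), (3, [2,0,0,4,2]), (4, [0,0,2,2,5,1]), (4, [0,0,5,1,3,4]), (4, [1,3,4]), (3, [2,5,2]),
   (4, [2,0,3,3,1]), (4, [1,4,3,0,0]), (3, [0,0,0,2]), (4, [1,2,2,0,0,2]), (4, [1,4,4,0,5]), (3, [0,5,0,4,4]),
   (3, [0,2,2,2,5]), (3, [0,2,0,3,3]), (4, [5,0,4,0,3]), (4, [0,4,2,2,2]), (2, [1]), (4, [2,4,2,4,1,3]),
   (3, [0,3,5,2]), (4, [3,4,0,5,2]), (4, [4,1,2,0,2]), (3, [1,1,4,0,4]), (4, [2,0,2,4,0]), (4, [0,2,2,2,1]),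
   (4, [0,0,2,2,0]), (4, [0,0,2,0,4,3]), (3, [4,4,0,5]), (4, [0,3,5,2]), (4, [5,3,1,4,3]), (4, [3,5,1,1]),
   (4, [0,2,2,0,0,0]), (4, [0,2,5,1,5,0]), (4, [1,3,3,4,3]), (4, [0,2,2,0,4]), (4, [4,2,5,3,3]), (4, [4,3,4,4]),
   (4, [4,3,1]), (4, [5,0,3,1,3]), (3, [0,3,1,4]), (3, [1,2,2,5]), (4, [5,3,4,0]), (3, [1,2,5,2,0]),
   (4, [0,3,5,2,1,5]), (4, [0,5,0,4,0,5]), (3, [3,1,3,1]), (3, [0,2,1,1]), (4, [4,2,0,0,3]), (3, [3,0,5]),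
   (3, [4,2,5,0,2]), (4, [1,3,1,2,1]), (4, [0,4,2,4,3]), (3, [1,4,3,0]), (4, [0,0,4,4,1,4]), (3, [4,2,2]),
   (4, [0,2,2,1,5]), (4, [2,5,3,3,4]), (3, [1,3,5,2]), (4, [1,4,0,2,0]), (4, [0,0,3,1,1]), (4, [2,2,1,2,4]),
   (4, [0,4,2,5,3]), (3, [2,4,4,1,2]), (4, [2,2,5,3,0]), (4, [0,3,1,4,0]), (4, [4,4,2,5,0]), (4, [2,2,2,2,5]),
   (2, [0,2]), (3, [4,0,3,1,4]), (4, [3,1]), (3, [5,1,1]), (4, [5,2,1,5,2]), (1, [5]),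
   (4, [2,2,1,2]), (3, [1,3,3,3,1]), (4, [0,2,1,2,5]), (3, [3,0,4,2]), (4, [4,0,4,2,0]), (3, [3,3,4,1]),
   (4, [0,0,4]), (3, [1,4,3,5,1]), (3, [4,3,4,1]), (4, [2,0,2,4,1,3]), (4, [0,0,2,5,1,4]), (3, [2,5,0,4]),
   (4, [1,5,3,3,4,3]), (4, [4,1,2,2,0]), (3, [5,3,4,3]), (4, [0,2,0,4]), (3, [3,0,0,3,1]), (3, [3,3,4,0]),
   (4, [0,2,1,1,5,3]), (4, [3,4,3,3,3]), (4, [0,0,3,3,3,4]), (3, [2,5,3,3]), (4, [3,4,0,3,3]), (4, [0,5,3,0,4]),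
   (4, [2,0,5,3]), (3, [3,1,1,5]), (4, [0,3,1,3,4,0,3]), (3, [0,0,4,1,3]), (4, [2,4,0,4]), (4, [0,0,4,2,2,1]),
   (4, [0,0,4,3,5]), (4, [1,4,3,1,3,4]), (3, [2,5,0,3,5]), (4, [0,4,4,0,5]), (4, [4,0,0,2,5]), (4, [3,0,2,1,5,1]),
   (4, [5,0,4,2,4]), (4, [3,3,0,3,5]), (4, [3,0,3,1,5]), (4, [0,4,2,2]), (4, [2,1,5,0,5]), (4, [3,4,2,2,2]),
   (2, [2]), (4, [5,0]), (4, [0,0,3,0,5]), (4, [3,0,3,3,0]), (4, [0,2,0,0,3,3]), (4, [4,1,5,2]),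
   (3, [0,0,2,5]), (4, [0,0,4,3,3,4]), (3, [3,3,5,2,4]), (3, [4,0,3,0]), (4, [5,2,0,3,5]), (3, [1,2,1,3,4]),
   (4, [2,5,1,3]), (4, [2,0,2,0]), (4, [3,4,3,0,4]), (4, [2,0,4,3,0,4]), (4, [0,2,5,3]), (4, [1,2,2,0,4,2]),
   (4, [4,0,3,4]), (4, [4,1,2,1,5]), (3, [2,0,5,1,1]), (3, [0,3,1,1]), (4, [5,0,3]), (4, [4,1,5,0]),
   (4, [2,4,1]), (4, [5,3,5,1]), (4, [1,2,2,0,2]), (4, [0,4,0,3,0]), (4, [3,4,0,0]), (4, [1,1,5,3]),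
   (4, [2,1,1,5]), (2, [2,2]), (3, [1,5,2,2,0]), (3, [0,4,0,3]), (4, [4,1,4,0]), (4, [3,0,0,3,3]),
   (4, [5,2,2,5,0]), (4, [0,0,3,3,1,5]), (3, [0,3,4,3,4]), (4, [0,2,2,0,3,5]), (3, [0,4]), (4, [1,2,4,1,5]),
   (4, [1,3,5,0,2,1]), (3, [0,0,3,4]), (4, [5,0,4]), (3, [3,1,3,1,4]), (4, [2,5,2,0,0]), (4, [0,3,3,5]),
   (4, [2,2,0,5,0]), (4, [0,3,3,5,0,2]), (4, [2,0,2,2,2,1]), (4, [3,3,0,2]), (3, [0,4,4,1]), (4, [3,0,3,5,3,1]),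
   (4, [0,2,1,4,3,4]), (4, [1,3,3,5,2,4]), (4, [1,2,1,1,4]), (4, [5,3,3]), (4, [0,2,5,3,4,4]), (3, [3,5,2,1,2]),
   (3, [0,2,2,1,1]), (4, [2,5]), (2, [0]), (4, [0,0,2,2,4,1]), (4, [3,3,1,5,1]), (4, [0,5,3,1,4]),
   (4, [2,5,2,4,1]), (4, [0,5,3,1,1,4]), (3, [0,3,5,3,4]), (4, [3,1,3,4,3]), (4, [0,3,0,0,2,0]), (3, [4,0,3,3]),
   (1, [0,5]), (3, [2,2,5,0]), (4, [3,0,4,3,0]), (3, [3,0,3,0,5]), (4, [0,2,4,2,5]), (4, [0,3,4,0,2,2]),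
   (4, [0,3,5,3,4,1]), (4, [0,4,3,4,0]), (4, [2,4,4,3]), (4, [1,1,5,3,3]), (4, [0,2,4,3,0,2]), (4, [4,0,2,5,2]),
   (4, [0,3,1,4,2]), (4, [0,3,1,1]), (4, [5,2,0,2,5]), (4, [0,0,4,3]), (3, [0,2,2,2,4]), (3, [0,4,0]),
   (4, [1,2,2,0,4]), (3, [2,2,0,2]), (4, [0,2,0,2,0]), (4, [3,5,3,4,2]), (3, [0,4,0,2,0]), (4, [0,2,5,1,5]),
   (4, [0,0,3,5,1,5]), (3, [2,4,0,3,5]), (3, [2,1,4,2]), (3, [0,2,4,2,4]), (4, [0,3,1,2,1]), (4, [1,5,3,4,2]),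
   (4, [3,3,0,3]), (3, [0,4,3,3,0]), (4, [1,1,4,0,2]), (4, [4,1,5,2,5]), (3, [1,1,5,2,4]), (4, [0,3,5,0,4,3]),
   (4, [2,4,0,4,1]), (4, [1,3,1,2,1,4]), (3, [1,3,1,2,4]), (4, [3,3,1,4,4]), (4, [4,3,5,2,0]), (4, [5,2,4,2,4]),
   (4, [1,1,3,0,0,0]), (4, [0,3]), (3, [3,5,2,4]), (4, [2,5,3,5]), (4, [0,0,0,4,0,2]), (4, [5,1,1,5,3]),
   (4, [2,0,3,4,1]), (3, [2,4,4]), (4, [1,4,2,1,1]), (4, [0,3,1,4]), (4, [2,2,1,2,2]), (4, [1,1,2,5,3]),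
   (4, [0,3,3,1,3]), (4, [0,4,0,4]), (3, [2,4,3,1]), (3, [0,3,1,3]), (4, [0,2,5,3,4]), (4, [0,0,2,0,3,5]),
   (4, [1,2,4,0,5,1]), (4, [0,3,4,4,0,2]), (3, [0,4,3,4,1]), (4, [4,2,1,3,5]), (3, [0,0,5]), (4, [0,5,1,5,2]),
   (3, [0,4,3,5,0]), (4, [0,0,4,2,1]), (3, [0,0,3,0,5]), (4, [0,2,4,3,4,4]), (4, [0,4,0,3,4,4]), (4, [0,4,2,1,5]),
   (4, [0,5,1,1,5]), (3, [2,5]), (3, [5,0,3,5]), (4, [1,4,0,3]), (4, [2,2,5,3]), (4, [0,3,0,0,5]),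
   (4, [2,1,2,5]), (4, [3,4,1,5,0]), (3, [2,5,0]), (4, [4,3,5,3]), (4, [1,3,0,2,1]), (3, [0,5,1]),
   (4, [1,3,0,0,4]), (4, [5,2,4,4]), (4, [2,0,4,1]), (4, [1,3,1,4]), (4, [1,4,3,5,3]), (4, [3,3,5,0]),
   (4, [0,2,4,2,2,4]), (4, [0,2,2,5,1,3]), (3, [3,0,2]), (4, [0,2,1,4,0]), (4, [4,4,2,4]), (3, [0,4,0,0,4]),
   (4, [5,1,5,2,4]), (4, [3,1,5,3,3]), (4, [0,2,5,1,2,1]), (3, [3,1,2,2,5]), (4, [1,4,2,2,0]), (4, [1,3,0,5]),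
   (4, [0,4,3,1]), (3, [2,0,3,5,3]), (4, [0,4,4,2]), (4, [3,0,3,1]), (3, [0,2,4,2]), (3, [0,4,4,0,0]),
   (3, [2,4,3]), (4, [2,1,2]), (4, [5,0,2,4]), (4, [1,3,3,0,0]), (4, [1,4,2,4,1]), (4, [0,2,1,5]),
   (4, [5,0,5,1,5]), (4, [2,1,1,3,5]), (4, [0,5,3,0,5]), (4, [0,4,3,0,4,3]), (4, [3,1,5,0,4]), (4, [0,3,4,1,5]),
   (4, [0,4,2,4,1]), (4, [2,1,5,2]), (4, []), (4, [2,0,2,2,4]), (3, [4,0,3]), (4, [0,4,0,3,1]),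
   (4, [0,2,0,5,1]), (3, [1,3,1,3]), (4, [0,2,2,4]), (4, [2,5,0,2]), (3, [5,3,3,0]), (4, [4,3,0,0,0]),
   (4, [2,4,2,5,3]), (4, [0,2,1,3,4,0]), (3, [0,2,1,5,3,3]), (4, [3,0,0,0,3,0]), (4, [3,3,0,4,3,1]), (4, [2,4,2,1,2,0]),
   (4, [5,2,2,1]), (4, [1,1,3,3,4,0]), (4, [0,2,2,0,3,1]), (4, [0,5,0,3]), (4, [2,0,4,3,4]), (3, [0,3,1,4,3]),
   (4, [1,4,0,3,3]), (3, [3,4,3,0]), (3, [2,2,0,2,5]), (3, [0,0,4,2,2,4]), (4, [0,5,3,0,5,3]), (3, [1,5,1,4,2]),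
   (4, [1]), (4, [3,1,4,4,2]), (4, [4,3,0,3,1]), (4, [1,4,4,1,2]), (4, [4,0,3,1]), (4, [0,3,0,3]),
   (3, [0,0,2,0]), (3, [0,2,2,2,1]), (4, [4,1,2,4]), (3, [3,1,3,5]), (4, [2,1,4,0,4]), (4, [0,3,4,0,5]),
   (3, [0,2,0,0,4,2]), (4, [2,5,3,0,5]), (4, [0,2,1,2,4]), (4, [0,0,4,3,0,4]), (4, [1,2,2,1]), (4, [2,2,1,2,5]),
   (2, [0,5,3]), (4, [2,1,2,4,3]), (1, [4,2,1]), (4, [3,1,4,4]), (4, [2,5,3,1]), (3, [0,0,5,2,1]),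
   (3, [0,2]), (3, [0,3,0,3,3]), (3, [2,0,5,1]), (4, [0,4,4,2,0]), (4, [2,0,4,4,2]), (4, [2,4,2,1,3]),
   (2, [4,3,1]), (4, [4,4,3,0]), (4, [3,4,3,0,2]), (4, [1,4,4,0,4,1]), (3, [0,0,3,5]), (4, [3,0,5,3,4]),
   (4, [1,2,0,0,4]), (4, [2,0,0,2,0]), (4, [0,3,5,3,0]), (4, [0,4,1,2,0,5]), (3, [3,4,2,1]), (3, [1,4,3,5,0]),
   (4, [5,2,1]), (3, [3,4,1]), (4, [1,5,0,2,5]), (4, [1,1,2,1,5]), (3, [3,4,1,4]), (3, [0,2,4,0,2]),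
   (3, [3,3,5]), (4, [4,1,3,3]), (4, [3,1,3,4,2]), (4, [1,2]), (4, [1,5,0,3,0]), (4, [4,1,5,3,5]),
   (4, [2,4,2,4,1,5]), (3, [0,3,0,4,3]), (4, [0,3,3,4,0]), (4, [1,3,1,2]), (4, [3,0,5,2,2]), (4, [2,4,2,4]),
   (4, [1,5,2,0,2,4]), (4, [0,0,2,2,4]), (4, [1,4,3,1,2,0]), (4, [1,3,4,2,1]), (4, [0,3,3,1,2,5]), (3, [2,1,4]),
   (4, [4,0,0,4,3]), (4, [2,0,3,4,0]), (3, [3,1,4]), (4, [2,0,3,0,4,0]), (4, [1,2,2,2,2]), (4, [0,3,4,3,1]),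
   (3, [3,5,1]), (4, [2,0,5,3,0]), (4, [5,1,4,0,2]), (4, [5,2,1,5]), (3, [5,0,2,4]), (4, [2,1,4,3,4]),
   (3, [0,0,2,4]), (4, [1,2,4,0,0]), (4, [0,0,5,3,1,5]), (3, [0,0,0,2,1]), (3, [4,0,4,2]), (4, [1,3,0]),
   (4, [0,2,0,5,3,4]), (4, [0,5,0,4,1]), (4, [4,4,3,0,5]), (4, [3,4,4,0,0]), (4, [1,5,0,2,4]), (4, [2,1,5,1,5,2]),
   (3, [3,0,5,1]), (4, [5,1,4,0,3]), (4, [5,3,1,2,0]), (4, [0,4,4,2,2]), (3, [1,3,0,4,3]), (4, [4,0,5]),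
   (4, [1,3,4,4,3]), (4, [2,0,0,3,4,1]), (3, [1,1,5]), (3, [0,4,4,1,2]), (4, [5,1,3,5,1]), (4, [3,5,2,4,0]),
   (4, [0,2,2,1,4,0]), (4, [3,0,2,2,0]), (4, [0,0,3,0,5,2]), (4, [3,0,4,0,3]), (4, [2,1,2,5,2]), (4, [3,1,1,3,3]),
   (4, [2,0,3,5,3]), (3, [5,3,3,4]), (4, [0,0,3,5,1,4]), (4, [2,2,0,4,0]), (4, [2,5,2,4,2]), (4, [3,1,5,1]),
   (4, [2,1,1,3,4]), (4, [3,4,4,2,2]), (1, [5,3]), (3, [0,0,3,1]), (3, [0,2,2,4,3]), (4, [0,4,2,4,2]),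
   (4, [4,3,5]), (4, [3,5,1]), (4, [4,0,3,5,2]), (3, [1,4,0,3,0]), (4, [4,4,3,1,5]), (4, [1,1,4,2,1,1]),
   (4, [0,3,0,2,1]), (4, [2,0,2,2,0]), (3, [4,2,4]), (4, [2,5,2,0,0,4]), (4, [0,0,2,4,4]), (4, [1,5,0,3]),
   (4, [1,2,1,4,3]), (4, [1,2,4,4,0,5]), (4, [3,1,5,0,5]), (4, [0,5,1,4]), (4, [2,1,5,3,3]), (3, [0,0,3,4,3]),
   (4, [1,3,4,4,1,2]), (4, [4,0,2,4,2]), (4, [3,0,4,3,3]), (3, [5,0]), (4, [0,4,0,3,4,0]), (4, [0,2,5,2]),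
   (4, [3,4,1]), (4, [5,1,4,3,5]), (4, [0,4,1,5,0,5]), (4, [0,5,2,1,3]), (4, [1,4,4,0,3]), (3, [4,0,3,5,2]),
   (4, [4,2,0,3,0]), (4, [5,2,4,1,3]), (4, [4,1,2,1,1]), (4, [2,0,4,3,0]), (4, [0,3,0,5]), (3, [1,3,4,2,4]),
   (4, [5,2,0,3,1]), (4, [2,4,0,2]), (4, [4,1,3,5]), (4, [3,1,3,5,1]), (4, [1,4,2,4]), (4, [1,3,5,0,3]),
   (4, [2,5,1,3,4]), (4, [2,4,2,5,3,1]), (4, [3,1,1,2,1]), (3, [2,0,4,3]), (4, [4,2,5,0]), (3, [2,0,3,3]),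
   (3, [0,4,0,2,1]), (4, [0,5,1,5,0]), (4, [2,2,5,2]), (3, [1,2,1,1,3]), (4, [0,3,4,0,4]), (4, [0,4,2,1,2,1]),
   (3, [2,1,5,0]), (4, [1,3,0,2,2]), (4, [0,5,2,1]), (4, [0,5,2,2]), (3, [4,3,4,2]), (4, [2,2,5,2,0]),
   (4, [3,0,5,1,4]), (4, [4,1,2,1]), (4, [0,2,1,1,3,4]), (4, [0,0,4,0,0,5]), (3, [0,5,3,0,0]), (4, [5,2,4,1,2]),
   (4, [0,5]), (4, [2,1,1,2]), (3, [2,1]), (3, [4,2,0,0]), (3, [3,3,3,0,4]), (4, [0,3,4,3]),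
   (3, [0,3,3,4,0]), (4, [1,5,3,5]), (4, [2,5,0]), (4, [2,4,1,5]), (4, [0,0,0,2,0,4]), (4, [1,2,4,4,1,3]),
   (4, [2,0,4,2]), (4, [0,0,0,3,1,1]), (4, [3,1,2,4,2]), (4, [0,3,0,3,0]), (4, [0,4,0,3,5]), (4, [1,2,1]),
   (3, [0,2,2,5,2]), (4, [0,2,5,1,2]), (4, [2,0,4,2,5]), (4, [0,4,3,5]), (3, [1,2,1,1,2]), (4, [0,2,5,3,4,0]),
   (3, [2,0,5,3,5]), (4, [0,2,2,0,5,3]), (4, [1,1,2,0,4]), (3, [1,4,2,4,2]), (4, [2,4,0,3]), (3, [1,3,1,1]),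
   (4, [0,3,4,2,5,1]), (4, [1,5]), (4, [0,2,2,0,0,5]), (4, [0,2,0,3,3,4]), (4, [1,3,4,2]), (4, [0,4,2,1,2]),
   (4, [0,2,4,0,2]), (4, [5,1,5,0,2]), (4, [0,3,1,3,1]), (4, [1,3,3,0,3]), (4, [0,0,3,4,2]), (4, [0,2,2,5,3]),
   (4, [5,2,1,3,1]), (4, [1,3,5,0,2,4]), (4, [1,5,2,2,5]), (3, [0,0,4,0,2]), (4, [1,1,3,1,1]), (3, [2,2,1,2]),
   (4, [0,5,0,5,1]), (4, [4,0,3,1,3]), (4, [4,1,4,4]), (4, [5,0,4,3,1]), (4, [2,0,0]), (4, [1,1,3,4,4]),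
   (4, [5,0,2]), (3, [4,0,5]), (4, [0,2,0,2,5,1]), (4, [1,1,4,2,1]), (4, [0,2,1,1,4]), (4, [0,0,2,1,1,3]),
   (4, [0,4,1,5,3]), (4, [1,5,1,5,3,0]), (4, [1,5,1,3,0,2]), (4, [5,3,1]), (4, [3,3,1,5]), (3, [1,1,3,1]),
   (4, [3,3,3,0,5]), (4, [1,1,2,4]), (4, [0,0,3,0,2,0]), (4, [0,5,0]), (3, [1,5,0,3,4]), (4, [0,4,4,3,1,2]),
   (4, [0,2,1,3,3,4]), (3, [1,5,2,0]), (3, [3,5,0,3]), (4, [4,1,2,5,2]), (4, [3,0,5,3,0]), (4, [1,1,2,4,2]),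
   (4, [4,1,3,0,5]), (3, [0,3,3,3,4]), (4, [2,4,1,3]), (4, [0,2,4,0,3,3]), (4, [0,5,3,1,5]), (4, [0,2,0,4,2,5]),
   (4, [4,0,0]), (4, [3,0,5,2,2,5]), (3, [5,2,0,2,2]), (3, [5,3,1,5]), (4, [2,5,0,2,0]), (4, [2,0,3,5,3,0]),
   (3, [1,3,4,0,5]), (4, [0,2,1,2,5,2]), (4, [0,4,3,0,0,0]), (1, [0,4]), (4, [2,2,4,1]), (4, [4,2]),
   (4, [2,4,0,2,0]), (3, [4,4,2]), (4, [1,3,4,2,4]), (4, [0,5,3,1,4,4]), (4, [3,1,2,1,1]), (3, [0,4,1,3,5]),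
   (4, [1,3,1,4,4]), (3, [5,1,5,2]), (4, [1,1,3,3]), (4, [3,0,4,4,0]), (4, [1,1,3,3,3]), (4, [0,4,3,0,5]),
   (4, [3,4,2,5,3]), (4, [3,4,2,4]), (4, [3,1,2]), (4, [2,5,2,0,4,0]), (4, [0,2,1,3,3,1]), (4, [0,2,1,1]),
   (4, [0,0,4,1,4,3]), (4, [4,3,5,1]), (4, [4,1,2,4,3]), (4, [1,5,1,3,1]), (4, [4,1,5]), (4, [4,1,4,2]),
   (4, [5,2,0,5,0]), (4, [3,3,3,1,5]), (3, [2,4,0,3,3]), (3, [3,4,2,2,1]), (3, [0,4,2,2]), (4, [4,1,2,0,5]),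
   (3, [2,5,0,3,1]), (4, [2,4,3,3]), (4, [0,5,0,5,1,1]), (4, [0,4,2,1,4,2]), (3, [0,4,0,3,0]), (3, [1,2,4,3,3]),
   (4, [4,3,1,5,0]), (4, [4,4,2,1,2]), (4, [1,1,5,2,5,1]), (3, [2,1,5,2]), (4, [4,4,1,3,3]), (4, [1,1,2,4,0]),
   (3, [0,3,0,3,4]), (4, [0,3,3,3,5]), (4, [0,2,4,3,3,4]), (4, [2,1,1,5,3]), (4, [4,1,2,2,1]), (3, [4,0,4,2,5]),
   (4, [3,4,4,1,4]), (4, [3,4,2,1,3]), (4, [2,2,4,3,0]), (4, [0,5,3,1,3,0]), (4, [4]), (4, [0,2,2,0,3,3]),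
   (3, [0,0,2,1,1]), (4, [1,2,2,1,1,4]), (3, [1,3,1]), (4, [2,4]), (4, [4,0,3,3]), (3, [3,4,0,2,1]),
   (4, [3,0,3,1,4]), (4, [2,2,2,0,0]), (4, [2,2,5,2,2]), (4, [0,0,4,3,5,3]), (3, [0,4,1,2,4]), (3, [3,5,2,0]),
   (4, [3,5,1,2,0]), (4, [1,2,4,4,0,4]), (4, [4,3,4,0,0]), (1, [4]), (3, [1,4,2,2]), (4, [0,3,4,1,5,3]),
   (4, [0,2,2,5,3,5]), (4, [5,3,0,0,4]), (4, [1,3,3,1]), (4, [3,0,0,4,3]), (4, [5,1]), (4, [0,0,2,0,0,0]),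
   (4, [0,0,4,2,2,0]), (3, [0,5,2,0,5]), (4, [0,0,5,2,0]), (4, [0,3,5,3]), (4, [2,0,3,3,0]), (4, [2,2,5,2,5]),
   (3, [1,3,5,0,3]), (3, [3,5,1,2]), (3, [0,0,3]), (4, [1,2,0,3,1,2]), (3, [4,2,5,0]), (4, [2,4,1,3,4,0]),
   (3, [2,0,5,1,5]), (4, [1,5,3,0,2]), (4, [4,4,2,1,3,4]), (4, [2,1,4,2]), (3, [5,0,5,1]), (4, [0,4,2]),
   (4, [0,0,3,3,1]), (4, [2,0,2,2,5,0]), (3, [5,2,2,0]), (4, [0,0,5,1,5]), (4, [0,2,2,0,0,4]), (4, [0,4,0,4,2,5]),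
   (4, [4,3,0,0,4]), (4, [0,4,1,2,4,0]), (3, [0,2,0,4,3]), (4, [2,5,0,5]), (4, [2,1,1,3,0]), (4, [0,0,4,2,2,2]),
   (3, [0,3,1,1,2,1]), (4, [1,4,0,3,3,4]), (4, [0,2,1,1,3,3]), (4, [0,4,2,1,3]), (4, [0,4,2,1,1]), (4, [3,1,2,1,3]),
   (4, [2,1,4,0,2]), (4, [1,3,4,0,4,2]), (4, [2,2,4,1,4]), (4, [2,0,3,5,2]), (3, [0,3,3,4,1]), (4, [2,0,3,3,4]),
   (3, [0,4,3,5,1]), (4, [2,2,0,4]), (4, [2,2,4,3]), (3, [3,0,4,3,3]), (3, [1,3,0,5,0]), (3, [0,4,0,3,4]),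
   (4, [5,3,4,4,2]), (3, [3,1]), (3, [0,2,4,2,0]), (4, [1,2,2,2,0]), (3, [0,4,4,0,2]), (4, [0,5,1]),
   (4, [0,3,0,0,3]), (4, [1,3,5,3]), (4, [2,5,2,1,4]), (3, [2,5,1,4]), (4, [0,2,1,2]), (3, [1,1,2,2]),
   (4, [3,5,1,5,0]), (4, [3,1,3,3,3]), (4, [3,1,1,3,0]), (3, [2,2,2,5]), (4, [0,3,1,1,5]), (4, [0,4,3,4]),
   (4, [1,3,0,4,4]), (4, [4,0,2]), (4, [0,2,2,1,1,4]), (4, [2,1,1,2,5]), (4, [2,1,2,1]), (4, [1,5,3,3,4]),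
   (4, [0,2,2,1,2]), (4, [0,2,2,2,2,2]), (4, [3,5,0,4,1]), (4, [1,4,4,2,0]), (4, [3,0,4,4,2,5]), (4, [0,2,0,3,4,0]),
   (4, [0,0,4,1,5]), (4, [0,4,1,3]), (4, [1,1,2,4,2,5]), (4, [0,5,3,0,0]), (4, [4,3,4,4,3]), (4, [2,4,2,1,2]),
   (3, [4,4,3,5]), (3, [2,0,2,0,0]), (4, [2,5,2,0,5]), (4, [2,5,1,4,2]), (4, [0,5,2,1,2,1]), (3, [0,0,0]),
   (4, [3,3,0,0]), (4, [2,2,5,0,3,3]), (4, [0,4,0,3,3,1]), (4, [3,1,3,1,5]), (4, [5,1,4,4]), (4, [2,0,0,4,2]),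
   (4, [2,1,1,2,0]), (3, [0,2,1,5,3]), (4, [4,3,0]), (4, [3,1,4,3,3]), (3, [1,5,1,5]), (3, [2,4]),
   (4, [5,1,1,2,2]), (4, [0,4,4,1,3]), (3, [0,4,1]), (4, [1,5,2,5,3]), (4, [2,4,3,3,5]), (4, [5,0,3,5,0]),
   (4, [3,1,1,4]), (4, [1,2,1,2,1,2]), (4, [0,0,2,0,3,3]), (4, [2,1,4,3]), (3, [1,4,2,1,3]), (3, [1,4,3,3,0]),
   (4, [5,1,3,0,0]), (4, [2,2,2,1]), (3, [0,2,0,0,2]), (4, [0,4,4,3]), (4, [5,0,4,1]), (4, [2,5,2,5]),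
   (4, [0,2,2,0,5,0]), (2, [0,5]), (4, [3,5,0,5,1]), (4, [2,4,0,5,1]), (4, [2,1,5,3,1]), (4, [3,4,4,1]),
   (4, [4,2,0,3]), (4, [1,5,0,4,2]), (3, [2,1,3,5,1]), (4, [0,3,0,3,3,5]), (2, [5,0,4]), (4, [0,3,0,2,0]),
   (4, [0,5,0,4,2,0]), (4, [0,0,2,1,4,2]), (4, [5,3,0,0,0]), (3, [0,0,2,0,2]), (4, [4,4,2,2,0]), (4, [0,2,0,2,4]),
   (3, [5,3,4,2,4]), (4, [0,4,0,2]), (4, [1,2,1,5,2]), (1, [4,2]), (3, [0,5,3,3]), (4, [0,5,1,2,1]),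
   (4, [1,2,2,4,4,2]), (4, [0,3,1,4,4]), (4, [3,3,1,4,3]), (4, [4,1,5,2,0]), (3, [1,2,4,2]), (4, [3,3,0,0,2,1]),
   (4, [0,4,0]), (3, [1,5,0,4]), (4, [2,1,4,4,1]), (4, [0,2,5,1,4,2]), (3, [1,1,2,2,5]), (4, [2,2,5,2,5,2]),
   (4, [4,3,4,0,2]), (4, [2,5,1,1,2]), (4, [1,1,4,0]), (4, [5,0,2,2,2]), (4, [5,2,5,0,4]), (4, [2,0,2,4]),
   (4, [1,3,1,4,0,5]), (4, [1,2,0,2]), (4, [2,4,2,5,3,5]), (4, [0,0,4,1,2]), (4, [2,0,2,4,4]), (3, [3,3,5,2,2]),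
   (4, [3,1,5,2,5]), (4, [1,2,4,3,5]), (4, [2,4,4]), (4, [3,1,1,3,5]), (4, [2,2,5,1]), (4, [0,2,1,3,3,5]),
   (4, [2,2,2,0,4]), (4, [0,2,2,1,3]), (3, [2,2,4,0]), (4, [0,3,1,3,4]), (4, [0,0,3,3,0]), (3, [4,0,5,1]),
   (3, [0,3,1,5,2]), (4, [3,0,2,1,4,4]), (4, [4,1,4,0,2]), (3, [1,1,2,2,2]), (4, [1,1,4,2,4,3]), (4, [5,2,2,2,5]),
   (4, [1,5,1,5,3,1]), (3, [1,2,1,2]), (4, [0,0,0,3,1,5]), (3, [1,2,1,2,5]), (3, [1,5,1,5,2]), (4, [1,2,2,2,0,2]),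
   (4, [0,2,2,5,1,4]), (4, [0,2,0,4,1,2]), (4, [2,4,4,2]), (4, [0,2,2,1,1]), (3, [1,2,2,1,3]), (4, [1,2,5,0,2,4]),
   (4, [3,0,2,1,4]), (4, [2,4,1,5,0]), (4, [0,2,2,4,4]), (4, [2,4,1,3,1]), (4, [0,4,0,3,5,0]), (3, [4,2,0,3]),
   (4, [5,1,5,3,1]), (4, [3,3,0,5,0]), (4, [4,3,5,0]), (4, [1,5,2,0,2]), (3, [1,1,3,1,3]), (4, [1,5,1,2,5]),
   (4, [4,3,5,2,5]), (4, [0,2,2,5,1,5]), (4, [4,1,5,3]), (4, [0,2,0,0,3,0]), (4, [1,1,2,4,3]), (3, [0,4,0,4,2]),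
   (3, [5,1,2,2]), (4, [0,2,1,5,0]), (4, [1,1,3,1]), (4, [0,2,4,0]), (4, [4,1,3,3,0]), (4, [4,0,2,1,3]),
   (3, [2,4,4,0]), (4, [1,3,4,2,4,0]), (4, [0,2,1,3,3]), (4, [4,0,5,3]), (4, [3,1,3,5]), (3, [1,2,4,1,5]),
   (4, [2,5,3,5,0]), (3, [2,0,0,2,5]), (3, [1,1,3,1,1]), (4, [0,3,3,3]), (4, [2,5,1,3,5]), (3, [0,2,2,1]),
   (4, [3,4,4,2]), (4, [5,2,2,2,4]), (4, [5,3,5]), (4, [1,2,5]), (3, [1,2,1,4]), (3, [0,4,0,4,4]),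
   (3, [0,4,3,5]), (4, [1,2,2,1,1]), (4, [0,3,0,4]), (4, [0,0,3,0,0,2]), (3, [0,0,3,5,0]), (4, [1,2,0,0,0,3]),
   (3, [5,2,1,1]), (4, [0,4,3,1,1]), (3, [0,2,2,5,3]), (4, [3,0,3,3]), (3, [1,3,1,5]), (4, [0,0,3,3,3]),
   (3, [3,4]), (4, [5,1,5,0,5]), (4, [0,5,1,3,3]), (4, [1,3,4,4,2]), (4, [0,5,1,1,2]), (3, [5,1,3,5]),
   (3, [4,3,5,0]), (3, [0,0,2,1,4]), (4, [3,0,0,0,2]), (4, [3,0,3,1,3,1]), (4, [4,3,1,2,4]), (4, [1,4,4,1]),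
   (3, [0,5,2]), (4, [3,1,2,0,0]), (4, [2,2,0,0]), (3, [3,0,4,0]), (4, [5,0,5,2]), (3, [1,3,5,0]),
   (4, [2,0,3,3,0,2]), (3, [0,4,0,0,5]), (4, [3,0,4,1,2]), (4, [2,0,2,1,2]), (3, [5,0,5]), (4, [0,2,1,4,3]),
   (4, [2,5,0,5,1]), (3, [4,4,0,4,3]), (4, [0,3,4]), (4, [0,5,3,4,2]), (4, [3,5,0]), (4, [5,2,5,0,3]),
   (4, [2,0,4,0,0]), (4, [2,5,0,4,1]), (4, [0,2,5,0,5,1]), (4, [0,0,4,3,3]), (4, [2,5,3,5,3]), (3, [1,3,1,2]),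
   (4, [3,5,3,0]), (3, [1,5,0,3]), (4, [0,3,0,3,1]), (4, [4,4,3,1,1]), (3, [3,0,3,4]), (3, [4,0,3,1]),
   (3, [2,1,2]), (3, [1,1,2,2,0]), (4, [2,0,3,1,3]), (4, [1,1,3,4]), (4, [4,3,5,3,5]), (3, [1,1,4,0,3]),
   (4, [0,4,2,1]), (4, [2,4,3]), (3, [0,2,0,0,2,0]), (3, [3,1,3,0]), (4, [0,5,0,5,3]), (4, [5,3,0,5,0]),
   (3, [0,0,3,1,2]), (4, [2,1,4,4,0]), (4, [3,1,3,0,3]), (3, [5,2,1,4]), (4, [4,3,0,3,1,4]), (3, [1,5,1,3]),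
   (4, [1,2,4,4,0,2]), (4, [0,2,4,0,2,0]), (4, [1,2,4,0]), (4, [3,5,1,3,4]), (3, [0,3,0,3]), (3, [2,2,5]),
   (3, [3,0,5,0]), (4, [2,5,3]), (3, [1,5,2,2]), (4, [0,5,0,4,4]), (3, [2,4,2,1]), (4, [2,4,1,5,3]),
   (3, [0,3,1,5,0]), (3, [0,5,2,0]), (4, [4,0,2,2]), (4, [2,2,4]), (3, [0,0,4]), (3, [1,3,4,0]),
   (4, [0,5,1,5,3,4]), (4, [2,2,5]), (4, [2,2,2,1,1]), (3, [2,0,3,3,5]), (2, [5,0]), (4, [1,1,3,4,1]),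
   (3, [1,2,4,0]), (3, [1,4]), (4, [1,1,3,0,2]), (3, [2,0,3,0,3]), (4, [1,2,2,1,4]), (3, [2,0,5,1,3]),
   (3, [1,5,0,5]), (3, [4,2,5,2]), (4, [0,4,0,4,3]), (4, [3,0,2,2,2]), (3, [1,3,4,2,0]), (4, [2,1,1]),
   (4, [0,2,2,4,1,2]), (4, [5,3,4,1,2]), (3, [1,2,4,2,4]), (3, [2,4,0,2,2]), (3, [3,4,0,3,4]), (4, [4,4,2,2,4]),
   (3, [0,5,3]), (3, [1,1,3,4]), (3, [2,1,4,3]), (3, [4,0,3,3,3]), (3, [4,2,2,2]), (4, [0,2,0,3,3]),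
   (4, [0,0,4,0,3]), (4, [2,0,2,5,1]), (4, [4,0,5,1]), (4, [2,0,4,4]), (2, [5,3]), (3, [5,1,1,3]),
   (4, [0,2,1,3,4,1]), (4, [5,2,4,1]), (4, [0,3,0,5,3]), (4, [2,5,1,3,5,0]), (4, [0,4,4,0,2]), (4, [3,0,0,0,5]),
   (2, [3]), (2, [4,2]), (4, [0,2,2,1,4,2]), (3, [2,5,1]), (4, [4,1,2,0,4]), (4, [3,0,3,4,4]),
   (4, [0,0,5,3,1,1]), (4, [0,0,5,1,3,3]), (4, [5,2,0,0]), (4, [0,5,2,2,2]), (1, [5,0,3]), (3, [1,5,1,2]),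
   (4, [2,5,1,1,2,2]), (4, [1,3,5,3,3,4]), (3, [1,5,3,3]), (4, [5,0,2,0,0]), (3, [5,3,5,2]), (4, [2,0,2,5,0]),
   (3, [0,0,5,3,3]), (3, [1,3,4,3,5]), (4, [0,2,2,1,2,4]), (4, [0,4,3,5,3]), (4, [0,5,0,3,3]), (4, [0,0,4,2,1,5]),
   (4, [0,0,3,3,4,4]), (3, [0,5,0,2,5]), (4, [0,0,2,0]), (4, [1,3,0,5,2]), (4, [1,4,3,5,0]), (4, [4,0,3,4,0]),
   (3, [1,4,2,1,4]), (4, [0,4,0,2,1]), (4, [0,2,4,4,2]), (4, [0,0,0,2,0]), (4, [2,4,3,0]), (4, [4,1,2,1,3]),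
   (4, [0,3,3,3,3,5]), (4, [0,3,3,3,0,0]), (4, [3,1,4,2,0]), (4, [2,2,4,4,2]), (1, [2,1]), (4, [5,3,3,5,1]),
   (4, [1,5,0,5]), (4, [0,5,3,3,4,3]), (4, [0,2,0,4,0]), (4, [0,0,0,3,1,3]), (3, [1,3,0,4]), (3, [1,4,2,1]),
   (3, [0,3,4]), (4, [0,2,0,2,0,2]), (4, [1,1,2,1,3,4]), (4, [0,3,4,0]), (3, [2,0,2,2]), (2, [4]),
   (4, [3,3,3,4,2]), (4, [4,0,3,0]), (3, [3,4,2,0]), (4, [2,5,2,1]), (4, [0,3,4,1,5,0]), (4, [0,4,0,3,0,3]),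
   (3, [3,4,2,5]), (4, [1,2,4,1]), (3, [1,1,4,3]), (1, [0,3,0]), (4, [1,1,3,3,4]), (3, [0,4,2]),
   (4, [4,0,3,3,5]), (3, [2,0,0]), (4, [1,5,1,3,3]), (4, [4,0,3,0,5]), (3, [0,5,1,3,3]), (2, [0,4,0]),
   (4, [3,3,0]), (4, [2,5,2]), (4, [0,3,1]), (4, [2,1,4,2,2]), (4, [3,5]), (4, [0,2,2,4,1,3]),
   (4, [0]), (3, [1,2,2,1]), (4, [0,2,2,5,0]), (4, [0,5,2,2,5,1]), (4, [2,0,0,2,1,4]), (4, [2,0,3,3,1,4]),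
   (3, [4,0]), (4, [3,3,1,4]), (4, [0,0,2,1,5,0]), (4, [1,2,5,2,0]), (3, [3,4,0,5,1]), (4, [4,2,1,4,3]),
   (4, [1,4,0,4]), (4, [1,5,1,1,5]), (4, [3,0,3,4,2]), (4, [3,0,2,5,3]), (3, [0,0,0,4,0]), (4, [0,5,1,3,5,0]),
   (4, [0,2,1,2,0,5]), (3, [3,1,2,1,3]), (4, [0,0,3,3,1,1]), (4, [1,3,1,2,5]), (4, [3,0,3,1,1]), (4, [3,3,1,3,4]),
   (3, [0,0,2,2,5,0]), (4, [0,5,1,4,0]), (3, [2,5,3,5]), (4, [3,0,2,1,5]), (4, [0,3,0,4,2]), (4, [1,5,0,5,0]),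
   (3, [1,1,5,2]), (4, [0,0,4,4,1]), (4, [1,2,5,3,3]), (3, [5,0,3]), (4, [0,2,2,0]), (3, [2,1,3]),
   (4, [2,1,1,5,2]), (4, [1,5,2,0,4,3]), (4, [4,1,3,1,4]), (3, [1,1,3,3,1]), (4, [3,4,1,5]), (4, [4,2,0,3,4]),
   (3, [0,0,2,0,2,1]), (3, [0,3,3,0]), (3, [0,3,1,1,2]), (4, [3,4,4,2,0]), (4, [3,1,5,3,0]), (4, [1,1,5,1,3]),
   (4, [1,2,5,0,5,2]), (2, [1,3,3,0]), (4, [0,5,3,1,2]), (4, [3,0,2,0]), (4, [1,1,4,0,5]), (3, [5,0,4,4,2]),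
   (4, [2,0,0,5,1]), (4, [0,0,2,2,4,0]), (3, [0,0,2,2,1]), (4, [0,4,1,2,4]), (4, [0,3,1,3,4,0]), (4, [3,1,5,1,2,0]),
   (4, [0,3,4,3,1,5]), (4, [0,2,0,3]), (4, [5,3,4,0,4]), (3, [2,4,4,2,1]), (4, [4,2,0,4,2]), (4, [2,5,2,0]),
   (4, [1,4,4,2,5]), (4, [0,2,1,5,3,4]), (3, [3,0,2,2,5]), (3, [3,4,0,4]), (3, [2,4,4,0,2]), (4, [1,3,0,4,3,3]),
   (4, [3,0,5,0,5]), (4, [0,3,1,2,0,4]), (4, [4,0,0,4]), (4, [4,2,0,5,3]), (4, [1,3,4,0,4]), (4, [2,2,4,3,3]),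
   (3, [1,3,0,3,0]), (4, [3,0,2,2,1]), (3, [2,2,2,2,1]), (4, [1,4,3,1,3]), (4, [0,3,0,5,0]), (3, [4,2,2,0]),
   (4, [1,5,3,3,5]), (4, [4,4]), (3, [0,2,2,2,0]), (4, [1,2,0,3]), (4, [1,2,4,2]), (4, [3,0,4,3,1]),
   (2, [0,5,2,0]), (4, [1,4,3,4,1]), (4, [2,0,2,4,1]), (4, [1,3,0,5,1]), (4, [2,1,2,2,0]), (3, [3,5,2,2]),
   (4, [2,2,1,4,3]), (3, [0,3,3,4,4]), (3, [1,4,3,1,3]), (1, [1,4]), (3, [0,4,3,1,2]), (3, [5,3,3]),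
   (4, [2,2,4,2,2]), (4, [1,4,0,3,1]), (4, [5,1,5,0,4]), (3, [4,2,2,4]), (2, [1,2,0]), (3, [3,5]),
   (3, [0,3,3,0,2]), (4, [0,2,5,1,1,2]), (4, [4,4,2,2,1]), (4, [0,2,1,5,0,2]), (4, [1,2,4,2,5]), (4, [2,4,1,3,5]),
   (4, [3,3,3,3,5]), (4, [2,1,4,2,4]), (4, [4,3,0,3]), (4, [0,4,4,1,3,0]), (4, [0,4,4,0,3]), (4, [2,5,1,4]),
   (4, [4,3,4,3,1]), (4, [0,0,5,2,2,2]), (4, [2,5,1,3,3]), (3, [3,1,2,5,3]), (4, [0,5,3,5,3]), (4, [5,2,4,3,4]),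
   (3, [3,1,2,5]), (4, [2,4,4,0,0]), (4, [0,5,0,4,2]), (3, [1,1,3,3,5]), (4, [1,3,1,2,1,1]), (4, [0,2,4,0,0]),
   (4, [0,3,5,0,3]), (4, [0,3,1,2,4,0]), (3, [2,1,3,5]), (3, [1,4,3,3,4]), (4, [1,5,2,5,1]), (2, [4,3]),
   (3, [3,0,0,0,5]), (2, [0,5,3,3]), (3, [3,1,2,0]), (3, [3,4,4,1,2]), (4, [2,2,2,4,2]), (4, [3,3,3,1]),
   (3, [0,4,0,3,1]), (4, [4,0,4]), (4, [2,5,3,4]), (3, [0,3,3,1]), (3, [2,1,4,0,4]), (4, [5,3,1,1,3]),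
   (4, [3,4,1,2,1]), (3, [2,5,0,3]), (4, [1,3,3,4]), (3, [3,0,2,5,2]), (4, [0,0,5,1,4]), (1, [0,2,0]),
   (4, [3,0,0,4,3,1]), (2, [5,2]), (4, [1,3,4,4]), (3, [1,1,3,0]), (4, [4,2,1,5]), (4, [3,1,2,2]),
   (4, [3,4,0,0,5]), (4, [3,1,2,4]), (4, [1,2,2,0,4,0]), (4, [0,4,1,2,2]), (3, [0,5,3,3,3]), (4, [2,2,1,4,2,1]),
   (3, [1,1,3,3,0]), (3, [2,1,4,4]), (3, [0,4,3]), (4, [0,2,4,4,3,4]), (4, [1,5,2,0,0,2]), (3, [3,1,3,1,3]),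
   (4, [5,3,1,2,4,3]), (4, [1,2,4,3,4]), (4, [2,1,5,0,4,0]), (4, [0,2,2,0,3]), (4, [0,2,4,3,0]), (3, [5,0,2,4,0]),
   (4, [0,5,1,3]), (3, [0,4,0,3,3]), (4, [0,3,5,3,4]), (3, [0,3,3,5]), (4, [1,1,2,0,2]), (4, [5,2,1,3]),
   (4, [5,3,0,2]), (4, [1,3,4,4,1]), (1, [0,2]), (3, [3,4,3,4]), (4, [1,4,4,0]), (3, [2,0,3,0]),
   (4, [0,5,3,5,2,0]), (4, [0,0,4,0,0]), (4, [0,2,0,4,4]), (4, [0,0,0,3]), (3, [4,4,0,3]), (4, [1,2,4,3,0]),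
   (4, [1,2,4,0,4]), (4, [2,4,2,4,1]), (4, [0,5,1,4,4]), (4, [2,1,2,5,0]), (4, [2,2,0,4,1]), (4, [4,1,4,2,1]),
   (4, [5,3,4,2]), (3, [3,0]), (4, [1,4,3,0,3]), (4, [0,2,1,3,4,3]), (4, [0,3,3,4,0,5]), (4, [0,0,4,1,4,2]),
   (4, [0,5,3,5,1]), (4, [1,2,0,2,0,2]), (4, [2,4,1,4]), (3, [1,3,3,4,2]), (3, [2,0,2,2,0]), (3, [0,3,4,4]),
   (3, [3,4,0,5,3]), (3, [2,4,3,4]), (4, [4,4,1,3,5]), (4, [0,4,4,0,3,0]), (4, [3,1,2,0,4]), (3, [3,4,0,5]),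
   (4, [1,3,1,1,3,4]), (4, [0,0,0,2,1,2]), (4, [1,2,5,0,4,1]), (3, [0,3,0,0]), (4, [1,1,2,1,4]), (4, [2,1,2,2,1]),
   (4, [0,2,2,4,1]), (3, [5,3,3,4,0]), (3, [1,2,1,2,1]), (4, [4,3,3,4,3]), (3, [0,3,1,2]), (4, [0,2,5,3,5]),
   (4, [0,3,4,1,2,0]), (4, [0,4,0,3,4]), (4, [2,0,5,2]), (4, [3,3,0,3,3,4]), (4, [1,5,0,5,1]), (3, [0,0,4,3,0]),
   (3, [5,0,4,4]), (4, [0,4,4,3,5,1]), (4, [5,0,3,0]), (2, []), (4, [4,3,5,3,1]), (4, [0,2,0,4,2]),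
   (3, [1,2,4,4,2]), (4, [1,4,3,1]), (3, [1,3,0,2,0]), (3, [3,1,2,1]), (4, [1,3,0,3,4]), (4, [3,0,2,0,5]),
   (2, [1,4,3]), (4, [0,2,4,4,0]), (4, [4,2,5]), (3, [0,0]), (4, [0,3,3,0,5]), (3, [4,4,3,3]),
   (3, [1,1,5,1,5]), (3, [2,0,2,0]), (4, [2,0,2]), (4, [0,4,4,2,5]), (2, [0,3]), (4, [1,1,3,5,3,4]),
   (3, [5,3,3,3]), (3, [0,3,3,4]), (3, [0,5,2,0,3]), (3, [2,2]), (4, [0,2,2,0,5,1]), (3, [1,3,0,3,5]),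
   (2, [0,2,2]), (3, [1,3,3,1]), (3, [3,4,0,4,2]), (4, [0,2,0,2,4,2]), (3, [0,4,1,2]), (4, [3,0,3,3,3]),
   (4, [0,2,4,2,2]), (4, [1,2,1,4,2]), (4, [0,3,0,0,4,1]), (4, [5,3,4,4,0]), (4, [0,3,3,0]), (4, [0,0,2,0,0]),
   (3, [2,1,2,2,0]), (3, [2,5,2,0,5]), (3, [3,3,3,0]), (4, [1,2,5,0,5]), (4, [0,2,0,5,3]), (4, [0,3,3,1,1,5]),
   (4, [0,3,0,3,5]), (3, [2,2,1,3]), (3, [0,5,3,0]), (3, [1,5,0,5,3]), (4, [4,0,3,4,4]), (4, [1,2,2,4,3,5]),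
   (4, [1,3,3,0,2]), (4, [1,1,3,0]), (3, [1,4,3,1,1]), (4, [0,3,4,1,4]), (3, [4,3,3,0]), (4, [0,3,0,4,3,5]),
   (3, [2,1,3,4]), (4, [1,1,2,0,4,3]), (4, [2,1,4,3,5,1]), (4, [5,0,4,3]), (4, [2,4,0,2,2]), (4, [1,1,3,3,1,2]),
   (3, [2,5,3,4]), (4, [0,4,1,5,0,2]), (4, [2,5,0,2,5]), (4, [1,3,5,3,3,3]), (4, [0,5,1,5,3,0]), (4, [5,1,1,5]),
   (4, [5,0,2,0,4]), (3, [1,3,1,2,2]), (4, [3,5,1,5]), (4, [3,3,1,3,1]), (4, [0,2,1,4]), (1, [3]),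
   (4, [2,2,2,2]), (4, [5,0,5]), (4, [1,2,5,0,3]), (3, [5,1,5,0]), (4, [0,2,0,5,1,4]), (4, [1,3,0,0,3]),
   (3, [2]), (3, [0,3,0]), (4, [5,3,3,4,4]), (4, [1,3,3]), (4, [1,2,2,2]), (3, [0,4,4,0,5]),
   (4, [3,5,1,2]), (4, [1,5,3,5,1]), (3, [2,4,4,3]), (4, [1,3,4,1,4]), (3, [1,1,3,3,3]), (4, [3,0,2,2]),
   (1, [2,4,0]), (4, [0,3,3,5,3]), (4, [0,4,0,0,4,0]), (4, [1,1,5,2,0,4]), (1, []), (3, [1,5,2,1]),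
   (3, [1,2,2,1,5]), (1, [0,2,2]), (4, [1,2,5,3,5,0]), (3, [3,0,3]), (1, [0,4,4]), (3, [2,2,4,4,2]),
   (3, [2,1,2,4]), (4, [3,5,1,3,3]), (4, [2,0,4,3]), (1, [4,2,4]), (4, [0,4,1,4,0]), (1, [2,4,2]),
   (4, [4,1,2,0,0]), (4, [5,2]), (1, [1]), (4, [3,3,5,2,4]), (1, [0,3,4,2]), (1, [0,3,3]),
   (3, [0,3,1,3,1]), (3, [1]), (3, [4,0,4]), (4, [0,5,1,1]), (4, [2,5,3,5,0,3]), (4, [3,1,1]),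
   (4, [2,2,0,4,4]), (4, [3,3,1,2,0]), (3, [0,0,5,3,0]), (3, [0,0,3,3,0,0]), (4, [0,0,3,1,3,5]), (4, [0,3,4,0,0,3]),
   (3, [5,1,5,3]), (3, [4,4,3]), (3, [0,4,0,5,2,1]), (4, [1,5,3,3]), (4, [1,2,1,5,3]), (4, [0,4,3,4,1]),
   (4, [4,3,5,0,4]), (4, [0,5,3,4,0,5]), (4, [0,0,4,0,4,2]), (3, [2,2,4,4,3]), (4, [3,0,3,5,1]), (3, [0,4,3,1]),
   (4, [1,2,4,4,0]), (4, [2,1,1,3]), (4, [4,3,5,2,2]), (4, [0,2,1,3]), (4, [2,4,4,2,2]), (4, [0,5,3,4]),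
   (4, [1,2,1,5,1]), (3, [5,0,4,2]), (4, [1,1,4,2,0,3]), (4, [0,3,4,2,4,0]), (4, [2,0,4,2,2]), (1, [1,2,2]),
   (1, [0]), (4, [4,3,3,0,4]), (4, [4,3,3,5,2]), (1, [2,5,2]), (1, [3,3]), (0, []),
   (4, [1,3,0,0,2]), (3, [3,1,3,0,2]), (1, [2,1,3]), (1, [2,1,2]), (4, [2,5,0,2,1]), (4, [0,4,1,3,5]),
   (4, [4,3]), (4, [3,1,5,2,0]), (4, [0,0,2,1,3,0]), (4, [2,5,2,2,5]), (4, [3,5,3,3,4]), (4, [4,3,5,1,4]),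
   (4, [2,2,0,0,2]), (3, [0,4,2,2,2]), (4, [3,3,5,0,2]), (3, [1,3,0]), (3, [3,4,1,2,4]), (4, [1,2,0,0]),
   (3, [2,2,5,2]), (3, [1,1,2,0]), (3, [3,3,5,2,0]), (4, [5,3,0,0]), (4, [4,0,5,1,3]), (3, [4,3,5,1,4]),
   (4, [3,0,0,0]), (4, [1,5,2,0]), (4, [2,0,4,1,3,1]), (4, [4,1,5,3,3]), (4, [1,3,0,2,4]), (4, [0,3,0,3,5,1]),
   (4, [1,2,1,1,3]), (4, [0,3,4,4,1]), (4, [3,4,2,2,0]), (4, [1,3,3,3,1]), (4, [0,5,3,4,4]), (4, [0,5,3,4,1]),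
   (4, [5,1,3,0]), (3, [0,4,3,4,2]), (4, [1,1,3,3,0,2]), (4, [5,3,3,4,2]), (4, [0,2,4,0,3]), (4, [3,0,5,1]),
   (4, [2,0,2,5,2]), (4, [0,0,4,1,3,3]), (3, [2,5,1,5]), (4, [4,4,3,5]), (4, [2,2,4,2,5]), (3, [1,5,3,4]),
   (4, [5,0,3,3]), (4, [5,0,3,1]), (3, [0,3,3,3,0]), (4, [0,0,0,4,0]), (4, [0,0,0,3,4]), (4, [1,3,1,5,3]),
   (4, [3,1,5,3,1,3]), (4, [1,4,2,5,0]), (4, [1,4,2]), (4, [3,1,1,5,2]), (4, [0,3,0,0,5,1]), (4, [1,1,2,0,5]),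
   (4, [2,0,3,1,4]), (4, [0,2,0,5,1,2]), (4, [3,5,3,3,0]), (4, [0,3,1,1,2,0]), (3, [1,2,1,5,2]), (4, [1,3,1,3,0,5]),
   (4, [2,2,0]), (4, [2,2,5,1,3]), (4, [0,4,3,5,3,0]), (4, [0,0,4,1,4]), (4, [0,4,2,5,1,3]), (4, [0,0,2,1,2]),
   (3, [2,2,1,3,1]), (4, [3,4,3,0]), (3, [0,5,0,3,4]), (3, [3,3,5,2]), (3, [3,0,0]), (4, [3,3,1,2]),
   (4, [1,5,0,2]), (3, [2,0,4,2]), (4, [4,4,2,1,3]), (4, [2,1,5,0,4]), (4, [1,4,2,4,2]), (4, [3,0,5,1,1]),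
   (4, [1,2,5,3]), (4, [0,4,2,2,4,0]), (3, [1,4,3,3]), (4, [0,3,4,3,4]), (4, [0,2,2,0,2]), (4, [0,2,4,2,0,5]),
   (4, [1,5,3,4,4]), (4, [3,4,0,0,3]), (4, [3,0,3,4,3]), (4, [3,0,4,1]), (4, [0,2,1,1,5]), (4, [3,0,3,1,3]),
   (3, [0,3,4,4,2]), (4, [2,1,5,1,3]), (4, [3,3,1,3]), (4, [0,2,1,3,4]), (3, [0,4,3,0]), (4, [5,3,5,3]),
   (4, [0,0,3,3,4,3]), (3, [0,5,0,3,5]), (4, [1,5,1,2,4]), (4, [5,1,4,3,3]), (4, [1,3,1,5,2]), (3, [1,3,3,5,3]),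
   (4, [2,5,3,1,3]), (3, [0,3,1]), (3, [2,2,4]), (4, [1,4,3,0,4]), (4, [1,3,1,5,1,3]), (4, [5,0,5,2,5]),
   (4, [0,3,1,2,0]), (4, [2,0,4,4,0]), (4, [4,3,0,2,2]), (4, [0,0,4,0,0,3]), (3, [1,5,0,3,3]), (4, [0,0,0,3,0]),
   (4, [0,3,1,3,0,2]), (4, [0,2,2,0,4,1]), (4, [3,4,2,1]), (4, [0,5,3,3,4,0]), (4, [3,5,0,4,0]), (4, [0,4,1,2,5,1]),
   (4, [4,2,5,2]), (3, [1,1,3,3]), (4, [2,5,2,2,1]), (4, [1,1,2,2,2]), (4, [3,1,3,3,5]), (4, [1,2,1,5,0]),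
   (4, [0,5,1,3,0]), (4, [3,0,3,5,0]), (3, [3,0,4,3]), (4, [0,2,2,5,2]), (3, [0,2,1,5]), (4, [1,1,2,0,0,3]),
   (4, [1,1,2,1,4,2]), (3, [2,4,2]), (3, [0,2,1,3,0]), (3, [1,3,5,3]), (4, [5,2,2,4]), (4, [1,3,0,4,3]),
   (4, [5,1,1,3,3]), (2, [2,4,3]), (3, [4,3,1,5]), (4, [0,0]), (3, [2,0]), (3, [1,2,4,3]),
   (2, [0,5,2]), (4, [0,0,3,5,0]), (4, [3,5,3,3]), (4, [5,2,0,2,0]), (4, [4,2,4,3,1]), (4, [0,4,0,4,1]),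
   (3, [2,1,3,0,2]), (3, [0,3,3,0,2,0]), (4, [1,1,4,4]), (3, [3,0,2,2,0]), (4, [3,0,3,4,1]), (4, [1,2,2,4,2]),
   (4, [5,1,4]), (4, [2,2,4,3,4]), (4, [5,0,3,0,2]), (4, [3,0,3,5,3]), (4, [2]), (4, [3,1,5,1,4]),
   (4, [1,4,3,1,2]), (4, [0,4,3,5,2,0]), (3, [2,5,0,5]), (3, [0,2,0,4]), (3, [4,3,0,4]), (3, [4,3,0,5]),
   (4, [3,1,4,3,5]), (3, [0,3,4,0,4]), (3, [3,4,1,3]), (4, [0,5,3,3,1]), (1, [4,3]), (4, [3,0,2]),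
   (3, [5,2,0,4,1]), (3, [0,0,2,4,3]), (3, [4,2]), (4, [0,2,5]), (4, [4,1,3,4]), (4, [0,0,2,5,1]),
   (4, [5,0,3,1,4]), (4, [4,0,2,4]), (4, [0,4,1,3,1]), (4, [0,5,2,4,2,1]), (4, [3,3,0,3,4]), (4, [0,4,2,0,0]),
   (3, [1,4,3,4]), (3, [0,3,4,3,3]), (3, [2,2,5,2,5]), (3, [5,0,3,1,5]), (4, [1,5,1,2,1]), (3, [0,0,3,1,4]),
   (2, [0,5,0]), (4, [2,2,0,5,1]), (2, [3,1,4]), (3, [1,5,3,1]), (3, [1,5,3,5]), (4, [2,4,2,0]),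
   (4, [3,4,0]), (4, [3,5,2,5,0]), (3, [0,2,1,5,3,0]), (3, [3,4,0,2]), (4, [4,0,3,1,5,2]), (3, [2,2,4,2,4]),
   (3, [2,4,0]), (3, [0,2,4,0,5]), (4, [2,1,5]), (1, [0,5,2]), (3, [1,3,0,5,1]), (4, [1,5,3,0]),
   (3, [5,3,3,0,3]), (4, [0,0,3,3,1,3]), (3, [1,3,1,4]), (4, [1,4,2,2,2,2]), (4, [1,1,4,2,5]), (4, [3,0,5,2]),
   (3, [0,4,0,0,2]), (4, [2,0,0,4,1]), (4, [4,3,0,2,5]), (4, [3,0,0,3,1]), (4, [1,4,4,0,4]), (4, [0,2,0,4,3,3]),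
   (4, [2,4,3,1,5]), (3, [0,2,0]), (3, [1,3]), (4, [5,2,5,1]), (4, [5,0,2,0]), (4, [0,2,0,2,2]),
   (4, [5]), (4, [0,3,1,3]), (4, [0,0,4,4,1,3]), (4, [0,5,0,4,0]), (4, [5,2,2,4,2]), (4, [0,3,3,1,2,4]),
   (4, [4,3,3,0]), (4, [0,5,3,1,1]), (4, [5,1,1,3]), (3, [1,1,3]), (3, [2,2,4,2]), (4, [1,1,5,2,1,4]),
   (4, [4,2,5,2,2]), (4, [0,4,3,1,5,0]), (4, [3,0,0,3,4]), (4, [1,3,1,5,1]), (4, [0,4,2,0,3]), (3, [2,5,0,4,0]),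
   (4, [1,4,3,0]), (3, [0,3,0,0,0]), (4, [0,0,3,0,5,1]), (3, [2,5,2,4]), (4, [4,2,0,4]), (4, [0,3,1,3,0]),
   (4, [0,0,0,4,4,1]), (4, [0,4,4,3,4]), (4, [1,1,4,4,3]), (3, [2,1,4,4,2]), (4, [5,2,4,3]), (4, [0,3,1,4,3]),
   (4, [1,3,3,0,0,0]), (4, [0,4,3,4,2]), (3, [0,5,0,2,2]), (4, [0,2,4,2,5,3]), (4, [1,3,1,5]), (4, [3,4,3,1]),
   (4, [2,4,2]), (3, [3,3,5,3]), (4, [0,5,2,4]), (4, [0,2,2,5]), (3, [2,1,2,4,2]), (4, [0,4,2,2,4,1]),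
   (4, [1,1,3,4,3]), (4, [2,1,4,3,3]), (3, [0,2,0,0]), (4, [0,5,1,2,0]), (4, [3,0,2,4]), (3, [0,3,5,2,5]),
   (3, [5,1,3]), (4, [4,0,3,5,0]), (4, [3,3,0,2,0]), (4, [0,3,0,3,1,3]), (4, [3,5,2,5]), (3, [5,3]),
   (4, [2,1,5,1]), (4, [0,4,1,2,5]), (4, [2,4,3,1,2]), (3, [0,4,3,0,3]), (4, [0,4,4,3,0,2]), (4, [2,5,1,1]),
   (4, [4,4,3]), (4, [2,5,2,0,4]), (4, [0,0,3,0,2]), (4, [0,0,4,1,3]), (4, [1,5,1,2,1,1]), (4, [5,3,5,3,3]),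
   (4, [3,4]), (4, [4,3,0,2]), (4, [0,3,1,2,4,4]), (4, [0,3,3,4]), (4, [5,0,2,2]), (4, [4,2,4,3,5]),
   (4, [0,0,3,0,2,4]), (4, [0,0,4,0,5]), (4, [5,2,1,1]), (4, [4,3,4,3,4]), (4, [4,4,1,3]), (4, [3,0,4,0,5]),
   (4, [1,5,3]), (4, [0,2,4,4]), (4, [4,0]), (3, [0,0,4,3,3]), (3, [1,4,3]), (4, [5,2,2,4,4]),
   (4, [0,5,3,1,5,0]), (4, [2,0,0,3,4]), (4, [1,3,0,2,5]), (4, [2,1,2,2]), (3, [1,3,4,3,4]), (4, [0,2,0,5]),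
   (4, [5,1,4,3]), (4, [0,0,2,2,4,4]), (4, [3,0,4,4,3]), (3, [0,2,2,2,2]), (3, [0,2,1,3,4,3]), (3, [0,0,0,3,1]),
   (4, [0,4,0,2,4]), (4, [0,0,3,3,4]), (3, [0,2,4,2,5]), (4, [0,2,0,3,5]), (4, [2,4,0,5]), (4, [0,2,4,3,3]),
   (4, [1,4,3,5,1]), (3, [1,2,4,4]), (4, [3,4,1,5,1]), (4, [5,3,5,3,4]), (4, [0,2,5,1,4,3]), (4, [3,1,5,3,1]),
   (4, [0,2,2,5,2,2]), (4, [0,4,0,3,3]), (3, [2,2,4,4]), (4, [0,2,4,4,3]), (4, [0,2,5,0,3]), (4, [3,1,2,4,4]),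
   (4, [0,0,3,4,4,3]), (4, [0,2,0,3,1]), (4, [1,3,5,2,5]), (4, [1,5,2,4]), (4, [4,1,2,2,5]), (3, [0,5,2,1]),
   (4, [0,3,4,1]), (4, [0,0,3,1,3,1]), (4, [1,4,2,4,4]), (4, [3,1,2,0,3]), (4, [2,4,4,3,3]), (4, [0,3,4,3,4,0]),
   (3, [0,4,3,5,3]), (3, [0,0,4,2,5]), (4, [3,4,3,1,1]), (4, [0,5,3,1]), (4, [4,0,3]), (3, [2,5,3,1]),
   (4, [0,0,4,1,5,0]), (4, [0,2,4,4,3,3]), (4, [3,4,1,4]), (4, [3,4,0,4,4]), (4, [0,0,3,3,5,2]), (4, [2,5,3,3]),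
   (4, [3,5,1,4]), (4, [2,0,2,2,2]), (4, [0,0,2,5]), (3, [4,4,2,5]), (4, [3,3,0,4,2]), (3, [2,0,5,3]),
   (4, [0,4,0,0,2,1]), (4, [2,0,4,2,4]), (4, [4,0,4,1]), (3, [0,2,0,0,4,1]), (4, [0,3,5,2,0,2]), (4, [3,1,2,1,4]),
   (4, [0,0,3,0,0,2,1]), (3, [0,2,2,4,2]), (4, [1,3,1,3,3]), (4, [0,2,1,5,2]), (4, [1,3,5,0]), (4, [1,1,2,5]),
   (4, [1,2,5,1]), (3, [1,2,2,2]), (4, [0,0,5,2,4]), (4, [2,4,2,2]), (4, [1,4,2,5,3]), (4, [0,2,0,4,2,2]),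
   (3, [1,4,3,1]), (4, [1,1,5,1,5]), (4, [0,4,3,3,1]), (3, [0,0,2]), (4, [0,5,1,2]), (4, [1,2,5,2,5]),
   (4, [2,4,4,0]), (4, [1,5,3,5,2]), (4, [0,3,0,0,2]), (3, [0,0,5,2,0]), (3, [1,2,1,1]), (4, [4,1,2,4,2]),
   (4, [4,1,4]), (4, [1,1,2,0]), (4, [3,3,1,1]), (4, [3,1,5,3,5]), (4, [3,3,0,3,3]), (4, [1,3,0,0]),
   (4, [4,0,2,0]), (4, [1,1,2,2,4,1]), (4, [3,5,1,4,2]), (3, [1,2,5,2]), (2, [1,2]), (3, [2,5,2,2]),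
   (3, [1,3,4,2]), (3, [4,3,5]), (3, [2,2,2,4,3]), (2, [1,3,3]), (3, [1,1,2,4]), (1, [5,2]),
   (3, [4,3,5,1,1]), (3, [4,3,4]), (3, [2,5,3]), (3, [0,2,0,0,4]), (3, [0,2,1,1,5]), (3, [0,2,4]),
   (4, [2,0,5,0]), (4, [4,0,2,2,1]), (4, [5,1,3,4,4]), (3, [2,4,2,0,5]), (4, [2,0,0,3,3]), (4, [2,2,4,4,0]),
   (4, [0,3,3,4,2]), (3, [1,3,4,4]), (4, [2,2,2,4]), (4, [0,2,2,1,2,2]), (4, [0,0,0,5]), (3, [3,0,4,4]),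
   (4, [3,3,3,4]), (4, [1,5,2,2,1,4]), (4, [0,0,4,4,0,4]), (4, [3,4,1,2]), (3, [1,5,1,3,0]), (4, [3,0,4,3]),
   (4, [2,2,5,0]), (4, [5,2,4]), (4, [3,1,4,4,1]), (4, [5,3,3,5]), (3, [0,4,2,0]), (4, [0,5,2,2,5]),
   (3, [1,3,0,4,4]), (4, [2,0,0,5]), (4, [0,4,0,4,3,0]), (4, [2,5,3,0]), (4, [2,2,5,0,5]), (4, [0,2,5,1,3]),
   (3, [5,0,4,2,5]), (3, [5,3,4,2]), (2, [4,4]), (3, [0,3,0,4]), (3, [3,4,0,3,1]), (2, [4,0,2]),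
   (3, [2,1,5,2,1]), (3, [0,0,5,2,5]), (1, [5,0]), (3, [1,1,3,0,4]), (3, [1,5,2,5]), (3, [4,0,3,5]),
   (3, [1,4,2,4]), (3, [0,4,2,5,1,2]), (3, [2,1,5]), (4, [5,2,2,2]), (4, [3,1,3,4]), (4, [1,3,3,4,1]),
   (4, [4,2,1,3]), (4, [3,1,5,1,2]), (4, [1,1,5,2,4]), (4, [0,2,1,4,2,2]), (4, [0,3,0,0,4,3]), (3, [2,2,2]),
   (3, [0,0,4,3]), (4, [1,4,3,0,2]), (4, [4,3,3,4]), (4, [0,4,1,5,1]), (4, [1,5,2,0,5]), (3, [0,4,1,3,0]),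
   (4, [3,0,3,0]), (4, [5,3,3,1,2]), (4, [2,2,4,0]), (3, [5,3,3,1]), (4, [2,0,2,2,1]), (4, [0,4,2,2,1,5]),
   (3, [1,5,2,2,5]), (4, [4,3,0,2,4]), (4, [4,2,4,3]), (4, [1,5,2,4,1]), (3, [4,0,2,2]), (4, [0,0,0,3,5]),
   (4, [1,3,1]), (4, [0,2,2]), (4, [0,3,1,3,0,4]), (4, [1,1,2]), (3, [0,3,3]), (4, [0,5,1,3,3,1]),
   (4, [1,4,4,2,2]), (3, [5,3,1,2]), (4, [5,1,5,2]), (4, [0,0,2,5,0,2]), (4, [0,5,3,3,0,2]), (4, [0,3,0,3,3]),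
   (4, [0,0,0,2,2,1]), (3, [5,0,3,1,2]), (4, [4,1,3,3,3]), (4, [3,0,5,0,4]), (4, [2,1,2,1,4]), (4, [0,0,3,5,0,4]),
   (3, [3,5,2,2,2]), (3, [2,5,1,1]), (3, [0,4,2,5,0]), (3, [2,4,4,1,5]), (3, [3,4,2]), (3, [1,2,4,0,2]),
   (3, [0,4,3,4,3]), (3, [4,4,2,4]), (1, [1,4,2]), (3, [0,5,2,5]), (2, [3,1]), (3, [0,4,3,5,2]),
   (3, [3,5,3]), (2, [5]), (3, [0,0,2,1,4,2]), (4, [0,3,1,5,2]), (4, [0,0,3,0]), (3, [0,5,0,2]),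
   (4, [0,2,0,0,0]), (3, [2,2,4,2,0]), (4, [1,3,1,4,3]), (4, [5,3,5,0]), (4, [0,0,0,3,3]), (4, [5,3,1,5,1]),
   (3, [1,5,2]), (4, [0,2,4,2,0]), (4, [5,0,3,4]), (4, [0,2,4,2,4,2]), (4, [2,5,0,4]), (4, [0,3,0,2,5]),
   (4, [2,4,3,1]), (3, [4,4,3,3,3]), (3, [0,2,2,2]), (4, [0,2,1,4,4]), (4, [2,4,2,5,1]), (4, [4,1,2,2]),
   (4, [1,3,0,0,4,3]), (4, [1,3,1,4,0]), (4, [4,0,0,2]), (4, [4,3,3,3]), (4, [3,4,3,3,1]), (4, [4,0,4,2,4]),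
   (3, [0,0,5,2]), (4, [3,3,3,1,3,5]), (4, [0,2,2,5,1])]

theorem hgenT : ∀ g ∈ gensT, genChkS (rootsT.getD 0 []) g = true := by decide +kernel

theorem hrootsT : ∀ r ∈ rootsT, (∀ x ∈ r, x < 2 ^ 24) ∧ r.Nodup := by decide +kernel

theorem hclsT : ∀ e ∈ tabT, e.1 < rootsT.length := by decide +kernel

theorem hincT : incChk (tabKeys gensT rootsT tabT) 0 = true := by decide +kernel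

theorem hinvT : ∀ c < rootsT.length, ∀ c' < rootsT.length,
    invL (rootsT.getD 0 []) (rootsT.getD c []) = invL (rootsT.getD 0 []) (rootsT.getD c' []) →
      c = c' := by decide +kernel

theorem hlenT : tabT.length = 3795 := by decide +kernel

theorem hcountT : ∀ c < rootsT.length, (tabT.filter (fun e => e.1 == c)).length = sizeT c := by
  decide +kernel

end Cfsg.Agent.Lib_lead_TrioData
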