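import Cfsg.Statements.S0042
import Cfsg.Agent.Lib_helper1_ThompsonFpf
import Cfsg.Agent.Lib_helper5_FrobKer

set_option autoImplicit false
open Cfsg

namespace Cfsg.Agent.S0042

open scoped Pointwise in
/-- In a finite Frobenius group, the Frobenius kernel is (the carrier of) a normal subgroup which is nilpotent. -/
theorem result {G : Type*} [Group G] [Finite G] (H : Subgroup G) (hH : Cfsg.IsFrobeniusComplement H) :
    ∃ N : Subgroup G, (N : Set G) = Cfsg.frobeniusKernel H ∧ N.Normal ∧ Group.IsNilpotent N := by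
  obtain ⟨N, hNset, hNn, hNc⟩ := Cfsg.Agent.Lib_helper5_FrobKer.frobenius_kernel H hH
  refine ⟨N, hNset, hNn, ?_⟩
  haveI := hNn
  obtain ⟨hHne, hHtop, hHfrob⟩ := hH
  have hcardH : Nat.card ↥H ≠ 1 := fun h1 => hHne (Subgroup.card_eq_one.mp h1)
  obtain ⟨r, hr, hrd⟩ := Nat.exists_prime_and_dvd hcardH
  haveI : Fact r.Prime := ⟨hr⟩
  obtain ⟨h₀, hh₀⟩ := exists_prime_orderOf_dvd_card' r hrd
  obtain ⟨h, hhe⟩ : ∃ h : G, h = (h₀ : G) := ⟨_, rfl⟩
  have hhH : h ∈ H := hhe ▸ h₀.2
  have hho : orderOf h = r := by rw [hhe, Subgroup.orderOf_coe]; exact hh₀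
  have hh1 : h ≠ 1 := by
    intro h1
    rw [h1, orderOf_one] at hho
    exact hr.one_lt.ne hho
  apply Cfsg.Agent.H1Thompson.thompson_aux r hr _ ↥N rfl (MulAut.conjNormal h : ↥N ≃* ↥N)
  · intro n hn
    have h1 : h * (n : G) * h⁻¹ = (n : G) := by
      have := congrArg Subtype.val hn
      rwa [MulAut.conjNormal_apply] at this
    by_contra hn1
    have hnN : (n : G) ∈ Cfsg.frobeniusKernel H := by rw [← hNset]; exact n.2
    have hn1' : (n : G) ≠ 1 := fun h => hn1 (Subtype.ext h)
    rcases hnN with h2 | h2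
    · exact hn1' h2
    · have hnH : (n : G) ∉ H := by
        intro hmem
        have := h2 1
        rw [map_one, one_smul] at this
        exact this hmem
      have h3 := hHfrob (n : G) hnH
      have h4 : h ∈ H ⊓ (MulAut.conj (n : G) • H) := by
        refine Subgroup.mem_inf.mpr ⟨hhH, ?_⟩
        rw [Subgroup.mem_pointwise_smul_iff_inv_smul_mem]
        have e : (MulAut.conj (n : G))⁻¹ • h = h := by
          rw [← map_inv, MulAut.smul_def, MulAut.conj_apply, inv_inv]
          calc (n : G)⁻¹ * h * (n : G) = (n : G)⁻¹ * (h * (n : G) * h⁻¹) * h := by group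
            _ = h := by rw [h1]; group
        rw [e]; exact hhH
      rw [h3, Subgroup.mem_bot] at h4
      exact hh1 h4
  · intro n
    have e : ((MulAut.conjNormal h : ↥N ≃* ↥N) ^ r) = MulAut.conjNormal (h ^ r) :=
      (map_pow _ _ _).symm
    rw [e, ← hho, pow_orderOf_eq_one, map_one]; rfl

end Cfsg.Agent.S0042
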