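import Cfsg.Statements.S0214
import Cfsg.Agent.Lib_helper2_SE
import Cfsg.Agent.Lib_helper2_Isolated
import Cfsg.Agent.Lib_helper2_Inv
import Cfsg.Agent.Lib_helper2_Dihedral

set_option autoImplicit false
open Cfsg

namespace Cfsg.Agent.S0214

open Cfsg.Agent.Lib_helper2_SE
open Cfsg.Agent.Lib_helper2_Isolated
open Cfsg.Agent.Lib_helper2_Inv
open Cfsg.Agent.Lib_helper2_Dihedral

/-- Let H be a proper subgroup of the finite group G and P a nontrivial Sylow 2-subgroup of H. Then H is strongly embedded in G if and only if N_G(X) ≤ H for every nontrivial subgroup X of P. -/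
theorem result {G : Type*} [Group G] [Finite G] (H : Subgroup G) (hH : H ≠ ⊤) (P : Sylow 2 ↥H) (hP : (P : Subgroup ↥H) ≠ ⊥) : Cfsg.IsStronglyEmbedded H ↔ (∀ X : Subgroup ↥H, X ≤ (P : Subgroup ↥H) → X ≠ ⊥ → Subgroup.normalizer ((X.map H.subtype : Subgroup G) : Set G) ≤ H) := by
  haveI : Fact (Nat.Prime 2) := ⟨Nat.prime_two⟩
  constructor
  · intro hse
    obtain ⟨_, _, h3⟩ := (se_iff H).mp hse
    intro X hXP hX1 g hg
    have hX2 : IsPGroup 2 X := P.2.to_le hXP
    obtain ⟨k, hk⟩ := hX2.exists_card_eq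
    have hk0 : k ≠ 0 := by
      rintro rfl
      rw [pow_zero] at hk
      exact hX1 (Subgroup.card_eq_one.mp hk)
    have heven : Even (Nat.card X) := by
      rw [hk]; exact (Nat.even_pow.mpr ⟨even_two, hk0⟩)
    obtain ⟨s, hsX, hs2⟩ := exists_involution_of_even_card heven
    have hs2' : orderOf (s : G) = 2 := by rw [Subgroup.orderOf_coe]; exact hs2
    have hsm : (s : G) ∈ X.map H.subtype := ⟨s, hsX, rfl⟩
    have hginv : g⁻¹ ∈ Subgroup.normalizer ((X.map H.subtype : Subgroup G) : Set G) := inv_mem hg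
    rw [Subgroup.mem_normalizer_iff] at hginv
    have h4 := (hginv (s : G)).mp hsm
    rw [inv_inv] at h4
    obtain ⟨y, _, hy⟩ := h4
    apply h3 g (s : G) s.2 hs2'
    rw [← hy]; exact y.2
  · intro hN
    rw [se_iff]
    have hP2 : IsPGroup 2 (P : Subgroup H) := P.2
    obtain ⟨k, hk⟩ := hP2.exists_card_eq
    have hk0 : k ≠ 0 := by
      rintro rfl
      rw [pow_zero] at hk
      exact hP (Subgroup.card_eq_one.mp hk)
    have hevenP : Even (Nat.card (P : Subgroup H)) := by
      rw [hk]; exact (Nat.even_pow.mpr ⟨even_two, hk0⟩)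
    obtain ⟨s0, hs0P, hs02⟩ := exists_involution_of_even_card hevenP
    have hs02' : orderOf (s0 : G) = 2 := by rw [Subgroup.orderOf_coe]; exact hs02
    refine ⟨hH, even_card_of_involution_mem hs02' s0.2, ?_⟩
    intro g s hs hs2 hgs
    have ht2 : orderOf (g⁻¹ * s * g) = 2 := by
      have := orderOf_conj_two (g := g⁻¹) hs2
      rwa [inv_inv] at this
    have hp1 : IsPGroup 2 (Subgroup.zpowers s) :=
      IsPGroup.of_card (n := 1) (by rw [Nat.card_zpowers, hs2, pow_one])
    have hp2 : IsPGroup 2 (Subgroup.zpowers (g⁻¹ * s * g)) :=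
      IsPGroup.of_card (n := 1) (by rw [Nat.card_zpowers, ht2, pow_one])
    obtain ⟨a, haH, ha⟩ := exists_conj_le_sylow_of_le P hp1
      ((Subgroup.zpowers_le).mpr hs)
    obtain ⟨b, hbH, hb⟩ := exists_conj_le_sylow_of_le P hp2
      ((Subgroup.zpowers_le).mpr hgs)
    have ha' := ha s (Subgroup.mem_zpowers s)
    have hb' := hb _ (Subgroup.mem_zpowers (g⁻¹ * s * g))
    have hU : Subgroup.zpowers (b * (g⁻¹ * s * g) * b⁻¹) ≤ (P : Subgroup H).map H.subtype :=
      (Subgroup.zpowers_le).mpr hb'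
    have hU1 : Subgroup.zpowers (b * (g⁻¹ * s * g) * b⁻¹) ≠ ⊥ := by
      intro h
      rw [Subgroup.zpowers_eq_bot] at h
      have h5 : g⁻¹ * s * g = 1 := by
        have : g⁻¹ * s * g = b⁻¹ * (b * (g⁻¹ * s * g) * b⁻¹) * b := by group
        rw [this, h]; group
      rw [h5, orderOf_one] at ht2
      omega
    have hx : (Subgroup.zpowers (b * (g⁻¹ * s * g) * b⁻¹)).map
        (MulAut.conj (a * g * b⁻¹)).toMonoidHom ≤ (P : Subgroup H).map H.subtype := by
      rw [Subgroup.map_le_iff_le_comap, Subgroup.zpowers_le, Subgroup.mem_comap]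
      simp only [MulEquiv.toMonoidHom_eq_coe, MonoidHom.coe_coe, MulAut.conj_apply]
      have e : a * g * b⁻¹ * (b * (g⁻¹ * s * g) * b⁻¹) * (a * g * b⁻¹)⁻¹ = a * s * a⁻¹ := by group
      rw [e]; exact ha'
    have hxH := control_of_normalizers P hN _ _ hU hU1 rfl (a * g * b⁻¹) hx
    have : g = a⁻¹ * (a * g * b⁻¹) * b := by group
    rw [this]; exact mul_mem (mul_mem (inv_mem haH) hxH) hbH

end Cfsg.Agent.S0214
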