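import Cfsg.Statements.S0223
import Cfsg.Agent.Lib_helper2_SE
import Cfsg.Agent.Lib_helper2_Isolated
import Cfsg.Agent.Lib_helper2_Inv
import Cfsg.Agent.Lib_helper2_Dihedral

set_option autoImplicit false
open Cfsg

namespace Cfsg.Agent.S0223

open Cfsg.Agent.Lib_helper2_SE
open Cfsg.Agent.Lib_helper2_Isolated
open Cfsg.Agent.Lib_helper2_Inv
open Cfsg.Agent.Lib_helper2_Dihedral

/-- Let H be a proper subgroup of even order of the finite group G. Then H is strongly embedded if and only if (i) C_G(t) ≤ H for every involution t of H and (ii) H controls fusion of its involutions: involutions of H conjugate in G are conjugate in H. -/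
theorem result {G : Type*} [Group G] [Finite G] (H : Subgroup G) (hH : H ≠ ⊤) (heven : Even (Nat.card H)) : Cfsg.IsStronglyEmbedded H ↔ ((∀ t ∈ H, orderOf t = 2 → Subgroup.centralizer ({t} : Set G) ≤ H) ∧ (∀ t ∈ H, ∀ s ∈ H, orderOf t = 2 → orderOf s = 2 → IsConj t s → ∃ h ∈ H, h * t * h⁻¹ = s)) := by
  rw [se_iff]
  constructor
  · rintro ⟨_, _, h3⟩
    constructor
    · intro t ht ht2 c hc
      rw [Subgroup.mem_centralizer_iff] at hc
      have h1 := hc t (Set.mem_singleton t)
      apply h3 c t ht ht2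
      have : c⁻¹ * t * c = t := by
        calc c⁻¹ * t * c = c⁻¹ * (t * c) := by group
          _ = c⁻¹ * (c * t) := by rw [h1]
          _ = t := by group
      rw [this]; exact ht
    · intro t ht s hs ht2 hs2 hconj
      obtain ⟨g, hg⟩ := isConj_iff.mp hconj
      refine ⟨g, ?_, hg⟩
      apply h3 g s hs hs2
      have : g⁻¹ * s * g = t := by rw [← hg]; group
      rw [this]; exact ht
  · rintro ⟨h1, h2⟩
    refine ⟨hH, heven, ?_⟩
    intro g s hs hs2 hgs
    have ht2 : orderOf (g⁻¹ * s * g) = 2 := by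
      have := orderOf_conj_two (g := g⁻¹) hs2
      rwa [inv_inv] at this
    have hconj : IsConj (g⁻¹ * s * g) s := isConj_iff.mpr ⟨g, by group⟩
    obtain ⟨h, hh, hhs⟩ := h2 _ hgs s hs ht2 hs2 hconj
    have hc : h⁻¹ * g ∈ Subgroup.centralizer ({g⁻¹ * s * g} : Set G) := by
      rw [Subgroup.mem_centralizer_iff]
      intro y hy
      rw [Set.mem_singleton_iff] at hy
      subst hy
      calc g⁻¹ * s * g * (h⁻¹ * g) = g⁻¹ * s * g * h⁻¹ * g := by group
        _ = h⁻¹ * (h * (g⁻¹ * s * g) * h⁻¹) * g := by group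
        _ = h⁻¹ * s * g := by rw [hhs]
        _ = h⁻¹ * g * (g⁻¹ * s * g) := by group
    have h3 := h1 _ hgs ht2 hc
    have : g = h * (h⁻¹ * g) := by group
    rw [this]; exact mul_mem hh h3

end Cfsg.Agent.S0223
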