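import Cfsg.Statements.S0224
import Cfsg.Agent.Lib_helper2_SE
import Cfsg.Agent.Lib_helper2_Isolated
import Cfsg.Agent.Lib_helper2_Inv
import Cfsg.Agent.Lib_helper2_Dihedral

set_option autoImplicit false
open Cfsg

namespace Cfsg.Agent.S0224

open Cfsg.Agent.Lib_helper2_SE
open Cfsg.Agent.Lib_helper2_Isolated
open Cfsg.Agent.Lib_helper2_Inv
open Cfsg.Agent.Lib_helper2_Dihedral

/-- Let H be a proper subgroup of even order of the finite group G. Then H is strongly embedded if and only if each involution of H fixes exactly one point (namely the coset H) in the action of G on the cosets of H. -/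
theorem result {G : Type*} [Group G] [Finite G] (H : Subgroup G) (hH : H ≠ ⊤) (heven : Even (Nat.card H)) : Cfsg.IsStronglyEmbedded H ↔ ∀ t ∈ H, orderOf t = 2 → Nat.card {c : G ⧸ H // t • c = c} = 1 := by
  rw [se_iff]
  have hfix : ∀ (t g : G), orderOf t = 2 →
      (t • (QuotientGroup.mk g : G ⧸ H) = QuotientGroup.mk g ↔ g⁻¹ * t * g ∈ H) := by
    intro t g ht
    have ht' := inv_eq_self_of_orderOf_two ht
    rw [MulAction.Quotient.smul_mk, smul_eq_mul, QuotientGroup.eq]
    have : (t * g)⁻¹ * g = g⁻¹ * t * g := by rw [mul_inv_rev, ht']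
    rw [this]
  have hone : ∀ g : G, ((QuotientGroup.mk g : G ⧸ H) = QuotientGroup.mk 1 ↔ g ∈ H) := by
    intro g
    rw [QuotientGroup.eq, mul_one, inv_mem_iff]
  constructor
  · rintro ⟨_, _, h3⟩ t ht ht2
    rw [Nat.card_eq_one_iff_unique]
    have key : ∀ c : G ⧸ H, t • c = c → c = QuotientGroup.mk 1 := by
      intro c hc
      obtain ⟨g, rfl⟩ := QuotientGroup.mk_surjective c
      rw [hone]
      exact h3 g t ht ht2 ((hfix t g ht2).mp hc)
    constructor
    · constructor
      rintro ⟨c₁, h1⟩ ⟨c₂, h2⟩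
      exact Subtype.ext ((key c₁ h1).trans (key c₂ h2).symm)
    · refine ⟨⟨QuotientGroup.mk 1, ?_⟩⟩
      rw [hfix t 1 ht2]
      simpa using ht
  · intro h
    refine ⟨hH, heven, ?_⟩
    intro g s hs hs2 hgs
    have h1 := h s hs hs2
    rw [Nat.card_eq_one_iff_unique] at h1
    obtain ⟨hsub, _⟩ := h1
    have f1 : s • (QuotientGroup.mk g : G ⧸ H) = QuotientGroup.mk g := (hfix s g hs2).mpr hgs
    have f2 : s • (QuotientGroup.mk 1 : G ⧸ H) = QuotientGroup.mk 1 := by
      rw [hfix s 1 hs2]; simpa using hs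
    have := hsub.elim (⟨_, f1⟩ : {c : G ⧸ H // s • c = c}) ⟨_, f2⟩
    exact (hone g).mp (congrArg Subtype.val this)

end Cfsg.Agent.S0224
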