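import Cfsg.Statements.S2530
-- import your own Cfsg.Agent.* helpers here

set_option autoImplicit false
open Cfsg

namespace Cfsg.Agent.S2530

section Aux

theorem A_apply (n : ℕ) (i j : Fin n) : (CoxeterMatrix.A n) i j =
    if i = j then 1 else (if (j : ℕ) + 1 = i ∨ (i : ℕ) + 1 = j then 3 else 2) := rfl

theorem base : Finite (CoxeterMatrix.A 0).Group ∧ Nat.card (CoxeterMatrix.A 0).Group ≤ 1 := by
  have hsub : ∀ w : (CoxeterMatrix.A 0).Group, w = 1 := by
    intro w
    exact (CoxeterMatrix.A 0).toCoxeterSystem.simple_induction (p := fun w => w = 1) w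
      (fun i => i.elim0) rfl (fun w w' h h' => by rw [h, h', one_mul])
  have hss : Subsingleton (CoxeterMatrix.A 0).Group := ⟨fun a b => by rw [hsub a, hsub b]⟩
  have hfin : Finite (CoxeterMatrix.A 0).Group := inferInstance
  exact ⟨hfin, Finite.card_le_one_iff_subsingleton.2 hss⟩

theorem step (n : ℕ) (hfin : Finite (CoxeterMatrix.A n).Group)
    (hcard : Nat.card (CoxeterMatrix.A n).Group ≤ (n + 1).factorial) :
    Finite (CoxeterMatrix.A (n + 1)).Group ∧
      Nat.card (CoxeterMatrix.A (n + 1)).Group ≤ (n + 2).factorial := by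
  classical
  obtain ⟨cs, hcs⟩ : ∃ cs : CoxeterSystem (CoxeterMatrix.A (n + 1)) (CoxeterMatrix.A (n + 1)).Group,
      cs = (CoxeterMatrix.A (n + 1)).toCoxeterSystem := ⟨_, rfl⟩
  obtain ⟨cs0, hcs0⟩ : ∃ cs0 : CoxeterSystem (CoxeterMatrix.A n) (CoxeterMatrix.A n).Group,
      cs0 = (CoxeterMatrix.A n).toCoxeterSystem := ⟨_, rfl⟩
  have hlift : (CoxeterMatrix.A n).IsLiftable (fun i : Fin n => cs.simple i.castSucc) := by
    intro i i'
    have h := cs.simple_mul_simple_pow i.castSucc i'.castSucc
    have hA : (CoxeterMatrix.A (n + 1)) i.castSucc i'.castSucc = (CoxeterMatrix.A n) i i' := by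
      rw [A_apply, A_apply]
      simp only [Fin.castSucc_inj, Fin.val_castSucc]
    rw [hA] at h
    exact h
  let ι : (CoxeterMatrix.A n).Group →* (CoxeterMatrix.A (n + 1)).Group := cs0.lift ⟨_, hlift⟩
  have hι : ∀ i : Fin n, ι (cs0.simple i) = cs.simple i.castSucc :=
    fun i => cs0.lift_apply_simple hlift i
  let T : ℕ → (CoxeterMatrix.A (n + 1)).Group :=
    fun i => if h : i < n + 1 then cs.simple ⟨n - i, by omega⟩ else 1
  have hTpos : ∀ i (h : i < n + 1), T i = cs.simple ⟨n - i, by omega⟩ := by
    intro i h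
    simp only [T, dif_pos h]
  have hTneg : ∀ i, ¬ i < n + 1 → T i = 1 := by
    intro i h
    simp only [T, dif_neg h]
  have hT1 : ∀ i, T i * T i = 1 := by
    intro i
    by_cases h : i < n + 1
    · rw [hTpos i h]
      exact cs.simple_mul_simple_self _
    · rw [hTneg i h, one_mul]
  have hT2 : ∀ i j, i + 2 ≤ j → T i * T j = T j * T i := by
    intro i j hij
    by_cases hj : j < n + 1
    · have hi : i < n + 1 := by omega
      have h := cs.simple_mul_simple_pow ⟨n - i, by omega⟩ ⟨n - j, by omega⟩
      have hA : (CoxeterMatrix.A (n + 1)) ⟨n - i, by omega⟩ ⟨n - j, by omega⟩ = 2 := by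
        rw [A_apply, if_neg (by rw [Fin.ext_iff]; show ¬ (n - i = n - j); omega),
          if_neg (by show ¬ ((n - j) + 1 = n - i ∨ (n - i) + 1 = n - j); omega)]
      rw [hA, pow_two, ← hTpos i hi, ← hTpos j hj] at h
      have ha := hT1 i
      have hb := hT1 j
      calc T i * T j = T j * (T j * (T i * T j)) := by rw [← mul_assoc, hb, one_mul]
        _ = T j * (T i * (T i * (T j * (T i * T j)))) := by
            rw [← mul_assoc (T i) (T i), ha, one_mul]
        _ = T j * (T i * (T i * T j * (T i * T j))) := by simp only [mul_assoc]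
        _ = T j * T i := by rw [h, mul_one]
    · rw [hTneg j hj, mul_one, one_mul]
  have hT3 : ∀ i, i + 1 < n + 1 → T i * T (i + 1) * T i = T (i + 1) * T i * T (i + 1) := by
    intro i hi
    have hi' : i < n + 1 := by omega
    have h := cs.simple_mul_simple_pow ⟨n - i, by omega⟩ ⟨n - (i + 1), by omega⟩
    have hA : (CoxeterMatrix.A (n + 1)) ⟨n - i, by omega⟩ ⟨n - (i + 1), by omega⟩ = 3 := by
      rw [A_apply, if_neg (by rw [Fin.ext_iff]; show ¬ (n - i = n - (i + 1)); omega),
        if_pos (by show (n - (i + 1)) + 1 = n - i ∨ (n - i) + 1 = n - (i + 1); omega)]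
    rw [hA, ← hTpos i hi', ← hTpos (i + 1) hi] at h
    have ha := hT1 i
    have hb := hT1 (i + 1)
    have ha' : ∀ z, T i * (T i * z) = z := fun z => by rw [← mul_assoc, ha, one_mul]
    have hb' : ∀ z, T (i + 1) * (T (i + 1) * z) = z := fun z => by rw [← mul_assoc, hb, one_mul]
    have h3 : T i * (T (i + 1) * (T i * (T (i + 1) * (T i * T (i + 1))))) = 1 := by
      rw [← h, pow_succ, pow_succ, pow_one]
      simp only [mul_assoc]
    calc T i * T (i + 1) * T i
        = T i * T (i + 1) * T i * (T (i + 1) * T i * T (i + 1) * (T (i + 1) * T i * T (i + 1))) := by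
          simp only [mul_assoc, ha', hb', hb, mul_one]
      _ = T i * (T (i + 1) * (T i * (T (i + 1) * (T i * T (i + 1))))) *
            (T (i + 1) * T i * T (i + 1)) := by simp only [mul_assoc]
      _ = T (i + 1) * T i * T (i + 1) := by rw [h3, one_mul]
  have hTι : ∀ i, 1 ≤ i → i < n + 1 → ∃ x, ι x = T i := by
    intro i h1 h2
    refine ⟨cs0.simple ⟨n - i, by omega⟩, ?_⟩
    rw [hι, hTpos i h2]
    rfl
  let cc : ℕ → (CoxeterMatrix.A (n + 1)).Group := fun d => Nat.rec 1 (fun d acc => acc * T d) d
  have hcc0 : cc 0 = 1 := rfl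
  have hccS : ∀ d, cc (d + 1) = cc d * T d := fun d => rfl
  have c1 : ∀ d i, d < i → cc d * T i = T i * cc d := by
    intro d
    induction d with
    | zero =>
      intro i _
      rw [hcc0, one_mul, mul_one]
    | succ d ih =>
      intro i hi
      rw [hccS, mul_assoc, hT2 d i (by omega), ← mul_assoc, ih i (by omega), mul_assoc]
  have c3 : ∀ d, cc (d + 1) * T d = cc d := fun d => by rw [hccS, mul_assoc, hT1, mul_one]
  have c4 : ∀ d i, i + 2 ≤ d → d ≤ n + 1 → cc d * T i = T (i + 1) * cc d := by
    intro d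
    induction d with
    | zero =>
      intro i hi
      omega
    | succ d ih =>
      intro i hi hd
      by_cases hlt : i + 2 ≤ d
      · rw [hccS, mul_assoc, ← hT2 i d hlt, ← mul_assoc, ih i hlt (by omega), mul_assoc]
      · have hd' : d = i + 1 := by omega
        subst hd'
        rw [hccS (i + 1), hccS i]
        calc cc i * T i * T (i + 1) * T i = cc i * (T i * T (i + 1) * T i) := by
              simp only [mul_assoc]
          _ = cc i * (T (i + 1) * T i * T (i + 1)) := by rw [hT3 i (by omega)]
          _ = (cc i * T (i + 1)) * T i * T (i + 1) := by simp only [mul_assoc]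
          _ = T (i + 1) * cc i * T i * T (i + 1) := by rw [c1 i (i + 1) (by omega)]
          _ = T (i + 1) * (cc i * T i * T (i + 1)) := by simp only [mul_assoc]
  have hX : ∀ w : (CoxeterMatrix.A (n + 1)).Group,
      ∃ x : (CoxeterMatrix.A n).Group, ∃ d, d ≤ n + 1 ∧ w = ι x * cc d := by
    intro w
    refine cs.simple_induction_right
      (p := fun w => ∃ x : (CoxeterMatrix.A n).Group, ∃ d, d ≤ n + 1 ∧ w = ι x * cc d) w
      ⟨1, 0, by omega, by rw [map_one, hcc0, mul_one]⟩ ?_
    rintro w j ⟨x, d, hd, rfl⟩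
    have hjn : n - j.val < n + 1 := by omega
    have hj : cs.simple j = T (n - j.val) := by
      rw [hTpos _ hjn]
      congr 1
      apply Fin.ext
      show j.val = n - (n - j.val)
      have := j.2
      omega
    rw [hj]
    rcases lt_trichotomy d (n - j.val) with h | h | h
    · obtain ⟨y, hy⟩ := hTι (n - j.val) (by omega) hjn
      exact ⟨x * y, d, hd, by rw [map_mul, hy, mul_assoc, c1 d _ h, mul_assoc]⟩
    · exact ⟨x, d + 1, by omega, by rw [hccS, h, mul_assoc]⟩
    · by_cases h' : d = (n - j.val) + 1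
      · exact ⟨x, n - j.val, by omega, by rw [h', mul_assoc, c3]⟩
      · obtain ⟨y, hy⟩ := hTι ((n - j.val) + 1) (by omega) (by omega)
        exact ⟨x * y, d, hd, by
          rw [map_mul, hy, mul_assoc, c4 d _ (by omega) hd, mul_assoc]⟩
  let g : (CoxeterMatrix.A n).Group × Fin (n + 2) → (CoxeterMatrix.A (n + 1)).Group :=
    fun p => ι p.1 * cc p.2.val
  have hg : Function.Surjective g := by
    intro w
    obtain ⟨x, d, hd, rfl⟩ := hX w
    exact ⟨(x, ⟨d, by omega⟩), rfl⟩
  have hfinW : Finite (CoxeterMatrix.A (n + 1)).Group := Finite.of_surjective g hg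
  refine ⟨hfinW, ?_⟩
  calc Nat.card (CoxeterMatrix.A (n + 1)).Group
      ≤ Nat.card ((CoxeterMatrix.A n).Group × Fin (n + 2)) := Nat.card_le_card_of_surjective g hg
    _ = Nat.card (CoxeterMatrix.A n).Group * (n + 2) := by rw [Nat.card_prod, Nat.card_fin]
    _ ≤ (n + 1).factorial * (n + 2) := Nat.mul_le_mul_right _ hcard
    _ = (n + 2).factorial := by
        rw [Nat.factorial_succ (n + 1)]
        ring

theorem all (n : ℕ) : Finite (CoxeterMatrix.A n).Group ∧
    Nat.card (CoxeterMatrix.A n).Group ≤ (n + 1).factorial := by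
  induction n with
  | zero => exact base
  | succ n ih => exact step n ih.1 ih.2

theorem swap_liftable (n : ℕ) :
    (CoxeterMatrix.A n).IsLiftable (fun i : Fin n => Equiv.swap i.castSucc i.succ) := by
  intro i i'
  show (Equiv.swap i.castSucc i.succ * Equiv.swap i'.castSucc i'.succ) ^
    (CoxeterMatrix.A n) i i' = 1
  rw [A_apply]
  by_cases h : i = i'
  · subst h
    rw [if_pos rfl, pow_one, Equiv.swap_mul_self]
  · rw [if_neg h]
    have hv : i.val ≠ i'.val := fun hh => h (Fin.ext hh)
    by_cases h2 : (i' : ℕ) + 1 = i ∨ (i : ℕ) + 1 = i'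
    · rw [if_pos h2]
      rcases h2 with h2 | h2
      · have e : i.castSucc = i'.succ := Fin.ext (by simp only [Fin.val_castSucc, Fin.val_succ]; omega)
        rw [e, Equiv.swap_comm i'.castSucc i'.succ]
        have h3 : Equiv.Perm.IsThreeCycle
            (Equiv.swap i'.succ i.succ * Equiv.swap i'.succ i'.castSucc) :=
          Equiv.Perm.isThreeCycle_swap_mul_swap_same
            (by rw [Ne, Fin.ext_iff]; simp only [Fin.val_succ]; omega)
            (by rw [Ne, Fin.ext_iff]; simp only [Fin.val_succ, Fin.val_castSucc]; omega)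
            (by rw [Ne, Fin.ext_iff]; simp only [Fin.val_succ, Fin.val_castSucc]; omega)
        rw [← h3.orderOf]
        exact pow_orderOf_eq_one _
      · have e : i'.castSucc = i.succ := Fin.ext (by simp only [Fin.val_castSucc, Fin.val_succ]; omega)
        rw [e, Equiv.swap_comm i.castSucc i.succ]
        have h3 : Equiv.Perm.IsThreeCycle
            (Equiv.swap i.succ i.castSucc * Equiv.swap i.succ i'.succ) :=
          Equiv.Perm.isThreeCycle_swap_mul_swap_same
            (by rw [Ne, Fin.ext_iff]; simp only [Fin.val_succ, Fin.val_castSucc]; omega)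
            (by rw [Ne, Fin.ext_iff]; simp only [Fin.val_succ]; omega)
            (by rw [Ne, Fin.ext_iff]; simp only [Fin.val_succ, Fin.val_castSucc]; omega)
        rw [← h3.orderOf]
        exact pow_orderOf_eq_one _
    · rw [if_neg h2]
      have hd : Equiv.Perm.Disjoint (Equiv.swap i.castSucc i.succ)
          (Equiv.swap i'.castSucc i'.succ) := by
        apply Equiv.Perm.disjoint_swap_swap
        simp only [List.nodup_cons, List.mem_cons, List.not_mem_nil, or_false, not_or,
          List.nodup_nil, and_true, Fin.ext_iff, Fin.val_castSucc, Fin.val_succ]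
        refine ⟨⟨?_, ?_, ?_⟩, ⟨?_, ?_⟩, ?_, not_false⟩ <;> omega
      rw [pow_two, hd.commute.symm.mul_mul_mul_comm, Equiv.swap_mul_self, Equiv.swap_mul_self, one_mul]

theorem main (n : ℕ) :
    ∃ cs : CoxeterSystem (CoxeterMatrix.A n) (Equiv.Perm (Fin (n + 1))),
      ∀ i : Fin n, cs.simple i = Equiv.swap i.castSucc i.succ := by
  classical
  obtain ⟨hfin, hcard⟩ := all n
  let φ : (CoxeterMatrix.A n).Group →* Equiv.Perm (Fin (n + 1)) :=
    (CoxeterMatrix.A n).toCoxeterSystem.lift ⟨_, swap_liftable n⟩
  have hφ : ∀ i : Fin n, φ ((CoxeterMatrix.A n).toCoxeterSystem.simple i) =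
      Equiv.swap i.castSucc i.succ :=
    fun i => (CoxeterMatrix.A n).toCoxeterSystem.lift_apply_simple (swap_liftable n) i
  have hsurj : Function.Surjective φ := by
    rw [← MonoidHom.mrange_eq_top, eq_top_iff, ← Equiv.Perm.mclosure_swap_castSucc_succ n,
      Submonoid.closure_le]
    rintro _ ⟨i, rfl⟩
    exact ⟨_, hφ i⟩
  have hbij : Function.Bijective φ := by
    apply hsurj.bijective_of_nat_card_le
    rw [Nat.card_eq_fintype_card (α := Equiv.Perm (Fin (n + 1))), Fintype.card_perm,
      Fintype.card_fin]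
    exact hcard
  refine ⟨⟨(MulEquiv.ofBijective φ hbij).symm⟩, ?_⟩
  intro i
  exact hφ i

end Aux

/-- The Coxeter presentation of the symmetric group: for every n, the symmetric group on n+1 letters is the Coxeter group of type A_n with the adjacent transpositions (i, i+1) as simple reflections; that is, it is presented by generators r_1, …, r_n subject to r_i² = 1, (r_i r_j)² = 1 for |i − j| > 1 and (r_i r_{i+1})³ = 1, with r_i mapping to (i, i+1). -/
theorem result (n : ℕ) :
    ∃ cs : CoxeterSystem (CoxeterMatrix.A n) (Equiv.Perm (Fin (n + 1))), ∀ i : Fin n, cs.simple i = Equiv.swap i.castSucc i.succ := by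
  exact main n

end Cfsg.Agent.S2530
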