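import Cfsg.Statements.S3335
import Mathlib
import Cfsg.Agent.S2530
import Cfsg.Agent.Lib_helper4_PSL2

set_option autoImplicit false
open Cfsg

namespace Cfsg.Agent.S3335

/-! ### General group lemmas -/

theorem swap_pow {H : Type*} [Group H] (a b : H) (n : ℕ) (h : (a * b) ^ n = 1) :
    (b * a) ^ n = 1 := by
  have e : b * a = a⁻¹ * (a * b) * a⁻¹⁻¹ := by group
  rw [e, conj_pow, h]
  group

theorem inv_left_pow {H : Type*} [Group H] (a b : H) (n : ℕ) (hb : b * b = 1)
    (h : (a * b) ^ n = 1) : (a⁻¹ * b) ^ n = 1 := by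
  have hb' : b⁻¹ = b := inv_eq_of_mul_eq_one_right hb
  have e : a⁻¹ * b = b * (a * b)⁻¹ * b⁻¹ := by
    rw [mul_inv_rev, hb', ← mul_assoc, hb, one_mul]
  rw [e, conj_pow, inv_pow, h, inv_one, mul_one, mul_inv_cancel]

theorem comm_of_sq {H : Type*} [Group H] (a b : H) (ha : a * a = 1) (hb : b * b = 1)
    (h : (a * b) ^ 2 = 1) : a * b = b * a := by
  have h1 : a * b * (a * b) = 1 := by rw [← pow_two]; exact h
  have h2 : a * b = (a * b)⁻¹ := (inv_eq_of_mul_eq_one_right h1).symm
  rw [mul_inv_rev, inv_eq_of_mul_eq_one_right ha, inv_eq_of_mul_eq_one_right hb] at h2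
  exact h2

theorem conj_form {H : Type*} [Group H] (a u v : H) (ha : a * a = 1) (hc : a * v = v * a)
    (n : ℕ) (h : (u * v) ^ n = 1) : (a * u * (a * v)) ^ n = 1 := by
  have ha' : a⁻¹ = a := inv_eq_of_mul_eq_one_right ha
  have e : a * u * (a * v) = a * (u * v) * a⁻¹ := by
    rw [hc, ha']; group
  rw [e, conj_pow, h, mul_one, mul_inv_cancel]

theorem mem_zpowers_sq {G : Type*} [Group G] (g c : G) (hg : g * g = 1)
    (hc : c ∈ Subgroup.zpowers g) : c = 1 ∨ c = g := by
  let K : Subgroup G :=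
    { carrier := {x | x = 1 ∨ x = g}
      one_mem' := Or.inl rfl
      mul_mem' := by
        rintro a b (rfl | rfl) (rfl | rfl)
        · exact Or.inl (mul_one 1)
        · exact Or.inr (one_mul _)
        · exact Or.inr (mul_one _)
        · exact Or.inl hg
      inv_mem' := by
        rintro a (rfl | rfl)
        · exact Or.inl inv_one
        · exact Or.inr (inv_eq_of_mul_eq_one_right hg) }
  have hle : Subgroup.zpowers g ≤ K := (Subgroup.zpowers_le).mpr (Or.inr rfl)
  exact hle hc

/-! ### The presented group -/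

/-- The relators, on `m + 1` generators. -/
abbrev RR (m : ℕ) : Set (FreeGroup (Fin (m + 1))) :=
  {g : FreeGroup (Fin (m + 1)) | ∃ i : Fin (m + 1), i.val = 0 ∧ g = FreeGroup.of i ^ 3} ∪
   {g | ∃ i : Fin (m + 1), 1 ≤ i.val ∧ g = FreeGroup.of i ^ 2} ∪
   {g | ∃ i j : Fin (m + 1), j.val = i.val + 1 ∧ g = (FreeGroup.of i * FreeGroup.of j) ^ 3} ∪
   {g | ∃ i j : Fin (m + 1), i.val + 1 < j.val ∧ g = (FreeGroup.of i * FreeGroup.of j) ^ 2}

/-- The presented group. -/
abbrev GG (m : ℕ) : Type := PresentedGroup (RR m)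

/-- The generators. -/
def gx {m : ℕ} (i : Fin (m + 1)) : GG m := PresentedGroup.of i

theorem rel1 {m : ℕ} (i : Fin (m + 1)) (hi : i.val = 0) : gx i ^ 3 = 1 := by
  have h : PresentedGroup.mk (RR m) (FreeGroup.of i ^ 3) = 1 :=
    PresentedGroup.one_of_mem (Or.inl (Or.inl (Or.inl ⟨i, hi, rfl⟩)))
  rw [map_pow] at h
  exact h

theorem rel2 {m : ℕ} (i : Fin (m + 1)) (hi : 1 ≤ i.val) : gx i ^ 2 = 1 := by
  have h : PresentedGroup.mk (RR m) (FreeGroup.of i ^ 2) = 1 :=
    PresentedGroup.one_of_mem (Or.inl (Or.inl (Or.inr ⟨i, hi, rfl⟩)))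
  rw [map_pow] at h
  exact h

theorem rel2' {m : ℕ} (i : Fin (m + 1)) (hi : 1 ≤ i.val) : gx i * gx i = 1 := by
  rw [← pow_two]; exact rel2 i hi

theorem rel3 {m : ℕ} (i j : Fin (m + 1)) (hij : j.val = i.val + 1) :
    (gx i * gx j) ^ 3 = 1 := by
  have h : PresentedGroup.mk (RR m) ((FreeGroup.of i * FreeGroup.of j) ^ 3) = 1 :=
    PresentedGroup.one_of_mem (Or.inl (Or.inr ⟨i, j, hij, rfl⟩))
  rw [map_pow, map_mul] at h
  exact h

theorem rel4 {m : ℕ} (i j : Fin (m + 1)) (hij : i.val + 1 < j.val) :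
    (gx i * gx j) ^ 2 = 1 := by
  have h : PresentedGroup.mk (RR m) ((FreeGroup.of i * FreeGroup.of j) ^ 2) = 1 :=
    PresentedGroup.one_of_mem (Or.inr ⟨i, j, hij, rfl⟩)
  rw [map_pow, map_mul] at h
  exact h

theorem rels_ok {m : ℕ} {H : Type*} [Group H] (f : Fin (m + 1) → H)
    (h1 : ∀ i : Fin (m + 1), i.val = 0 → f i ^ 3 = 1)
    (h2 : ∀ i : Fin (m + 1), 1 ≤ i.val → f i ^ 2 = 1)
    (h3 : ∀ i j : Fin (m + 1), j.val = i.val + 1 → (f i * f j) ^ 3 = 1)
    (h4 : ∀ i j : Fin (m + 1), i.val + 1 < j.val → (f i * f j) ^ 2 = 1) :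
    ∀ r ∈ RR m, FreeGroup.lift f r = 1 := by
  intro r hr
  rcases hr with ((⟨i, hi, rfl⟩ | ⟨i, hi, rfl⟩) | ⟨i, j, hij, rfl⟩) | ⟨i, j, hij, rfl⟩
  · simpa using h1 i hi
  · simpa using h2 i hi
  · simpa using h3 i j hij
  · simpa using h4 i j hij

/-- The homomorphism out of the presented group given by images of the generators. -/
noncomputable def toG {m : ℕ} {H : Type*} [Group H] (f : Fin (m + 1) → H)
    (h1 : ∀ i : Fin (m + 1), i.val = 0 → f i ^ 3 = 1)
    (h2 : ∀ i : Fin (m + 1), 1 ≤ i.val → f i ^ 2 = 1)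
    (h3 : ∀ i j : Fin (m + 1), j.val = i.val + 1 → (f i * f j) ^ 3 = 1)
    (h4 : ∀ i j : Fin (m + 1), i.val + 1 < j.val → (f i * f j) ^ 2 = 1) : GG m →* H :=
  PresentedGroup.toGroup (rels_ok f h1 h2 h3 h4)

theorem toG_x {m : ℕ} {H : Type*} [Group H] (f : Fin (m + 1) → H)
    (h1 : ∀ i : Fin (m + 1), i.val = 0 → f i ^ 3 = 1)
    (h2 : ∀ i : Fin (m + 1), 1 ≤ i.val → f i ^ 2 = 1)
    (h3 : ∀ i j : Fin (m + 1), j.val = i.val + 1 → (f i * f j) ^ 3 = 1)
    (h4 : ∀ i j : Fin (m + 1), i.val + 1 < j.val → (f i * f j) ^ 2 = 1) (i : Fin (m + 1)) :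
    toG f h1 h2 h3 h4 (gx i) = f i :=
  PresentedGroup.toGroup.of _

/-! ### The inverting automorphism -/

/-- Images of the generators under the automorphism inverting the first generator. -/
noncomputable def tauf {m : ℕ} (i : Fin (m + 1)) : GG m := if i.val = 0 then (gx i)⁻¹ else gx i

theorem tauf_zero {m : ℕ} (i : Fin (m + 1)) (h : i.val = 0) : tauf i = (gx i)⁻¹ := if_pos h
theorem tauf_pos {m : ℕ} (i : Fin (m + 1)) (h : 1 ≤ i.val) : tauf i = gx i :=
  if_neg (by omega)

theorem tauf_h1 {m : ℕ} (i : Fin (m + 1)) (h : i.val = 0) : (tauf i) ^ 3 = 1 := by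
  rw [tauf_zero i h, inv_pow, rel1 i h, inv_one]

theorem tauf_h2 {m : ℕ} (i : Fin (m + 1)) (h : 1 ≤ i.val) : (tauf i) ^ 2 = 1 := by
  rw [tauf_pos i h]; exact rel2 i h

theorem tauf_h3 {m : ℕ} (i j : Fin (m + 1)) (h : j.val = i.val + 1) :
    (tauf i * tauf j) ^ 3 = 1 := by
  rw [tauf_pos j (by omega)]
  by_cases hi : i.val = 0
  · rw [tauf_zero i hi]
    exact inv_left_pow _ _ 3 (rel2' j (by omega)) (rel3 i j h)
  · rw [tauf_pos i (by omega)]
    exact rel3 i j h

theorem tauf_h4 {m : ℕ} (i j : Fin (m + 1)) (h : i.val + 1 < j.val) :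
    (tauf i * tauf j) ^ 2 = 1 := by
  rw [tauf_pos j (by omega)]
  by_cases hi : i.val = 0
  · rw [tauf_zero i hi]
    exact inv_left_pow _ _ 2 (rel2' j (by omega)) (rel4 i j h)
  · rw [tauf_pos i (by omega)]
    exact rel4 i j h

/-- The endomorphism inverting the first generator. -/
noncomputable def tau0 (m : ℕ) : GG m →* GG m := toG tauf tauf_h1 tauf_h2 tauf_h3 tauf_h4

theorem tau0_x {m : ℕ} (i : Fin (m + 1)) : tau0 m (gx i) = tauf i := toG_x _ _ _ _ _ i

theorem tau_tau (m : ℕ) : (tau0 m).comp (tau0 m) = MonoidHom.id (GG m) := by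
  apply PresentedGroup.ext
  intro i
  show tau0 m (tau0 m (gx i)) = gx i
  rw [tau0_x]
  by_cases h : i.val = 0
  · rw [tauf_zero i h, map_inv, tau0_x, tauf_zero i h, inv_inv]
  · rw [tauf_pos i (by omega), tau0_x, tauf_pos i (by omega)]

/-- The inverting automorphism. -/
noncomputable def tau (m : ℕ) : MulAut (GG m) :=
  MonoidHom.toMulEquiv (tau0 m) (tau0 m) (tau_tau m) (tau_tau m)

theorem tau_x {m : ℕ} (i : Fin (m + 1)) : tau m (gx i) = tauf i := tau0_x i

theorem tau_sq (m : ℕ) : tau m * tau m = 1 := by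
  apply MulEquiv.ext
  intro g
  show tau0 m (tau0 m g) = g
  exact DFunLike.congr_fun (tau_tau m) g

/-! ### The Coxeter system on the symmetric group -/

/-- The Coxeter system of type `A` on the symmetric group. -/
noncomputable def csN (m : ℕ) :
    CoxeterSystem (CoxeterMatrix.A (m + 2)) (Equiv.Perm (Fin (m + 2 + 1))) :=
  Classical.choose (Cfsg.Agent.S2530.result (m + 2))

theorem csN_simple (m : ℕ) (i : Fin (m + 2)) :
    (csN m).simple i = Equiv.swap i.castSucc i.succ :=
  Classical.choose_spec (Cfsg.Agent.S2530.result (m + 2)) i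

theorem A_adj (n : ℕ) (i j : Fin n) (h : (i : ℕ) + 1 = j) : CoxeterMatrix.A n i j = 3 := by
  rw [Cfsg.Agent.S2530.A_apply, if_neg (by intro e; rw [e] at h; omega), if_pos (Or.inr h)]

theorem A_far (n : ℕ) (i j : Fin n) (h : (i : ℕ) + 1 < j) : CoxeterMatrix.A n i j = 2 := by
  rw [Cfsg.Agent.S2530.A_apply, if_neg (by intro e; rw [e] at h; omega), if_neg (by omega)]

theorem A_adj' (n : ℕ) (i j : Fin n) (h : (j : ℕ) + 1 = i) : CoxeterMatrix.A n i j = 3 := by
  rw [CoxeterMatrix.symmetric]; exact A_adj n j i h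

theorem A_far' (n : ℕ) (i j : Fin n) (h : (j : ℕ) + 1 < i) : CoxeterMatrix.A n i j = 2 := by
  rw [CoxeterMatrix.symmetric]; exact A_far n j i h

theorem s_sq (m : ℕ) (i : Fin (m + 2)) : (csN m).simple i * (csN m).simple i = 1 :=
  (csN m).simple_mul_simple_self i

theorem s_adj (m : ℕ) (i j : Fin (m + 2)) (h : (i : ℕ) + 1 = j) :
    ((csN m).simple i * (csN m).simple j) ^ 3 = 1 := by
  have := (csN m).simple_mul_simple_pow i j
  rw [A_adj _ i j h] at this
  exact this

theorem s_far (m : ℕ) (i j : Fin (m + 2)) (h : (i : ℕ) + 1 < j) :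
    ((csN m).simple i * (csN m).simple j) ^ 2 = 1 := by
  have := (csN m).simple_mul_simple_pow i j
  rw [A_far _ i j h] at this
  exact this

theorem s_comm (m : ℕ) (i j : Fin (m + 2)) (h : (i : ℕ) + 1 < j) :
    (csN m).simple i * (csN m).simple j = (csN m).simple j * (csN m).simple i :=
  comm_of_sq _ _ (s_sq m i) (s_sq m j) (s_far m i j h)

/-- Images of the generators in the symmetric group. -/
noncomputable def pf (m : ℕ) (k : Fin (m + 1)) : Equiv.Perm (Fin (m + 2 + 1)) :=
  (csN m).simple 0 * (csN m).simple k.succ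

theorem pf_h1 (m : ℕ) (i : Fin (m + 1)) (h : i.val = 0) : (pf m i) ^ 3 = 1 :=
  s_adj m 0 i.succ (by rw [Fin.val_succ, h]; rfl)

theorem pf_h2 (m : ℕ) (i : Fin (m + 1)) (h : 1 ≤ i.val) : (pf m i) ^ 2 = 1 :=
  s_far m 0 i.succ (by rw [Fin.val_succ]; show 0 + 1 < i.val + 1; omega)

theorem pf_h3 (m : ℕ) (i j : Fin (m + 1)) (h : j.val = i.val + 1) :
    (pf m i * pf m j) ^ 3 = 1 := by
  unfold pf
  apply conj_form _ _ _ (s_sq m 0)
    (s_comm m 0 j.succ (by rw [Fin.val_succ]; show 0 + 1 < j.val + 1; omega))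
  exact s_adj m i.succ j.succ (by rw [Fin.val_succ, Fin.val_succ]; omega)

theorem pf_h4 (m : ℕ) (i j : Fin (m + 1)) (h : i.val + 1 < j.val) :
    (pf m i * pf m j) ^ 2 = 1 := by
  unfold pf
  apply conj_form _ _ _ (s_sq m 0)
    (s_comm m 0 j.succ (by rw [Fin.val_succ]; show 0 + 1 < j.val + 1; omega))
  exact s_far m i.succ j.succ (by rw [Fin.val_succ, Fin.val_succ]; omega)

/-- The map to the symmetric group. -/
noncomputable def piS (m : ℕ) : GG m →* Equiv.Perm (Fin (m + 2 + 1)) :=
  toG (pf m) (pf_h1 m) (pf_h2 m) (pf_h3 m) (pf_h4 m)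

theorem piS_x (m : ℕ) (i : Fin (m + 1)) : piS m (gx i) = pf m i := toG_x _ _ _ _ _ i

theorem s01_ne (m : ℕ) : (csN m).simple 0 ≠ (csN m).simple 1 := by
  intro h
  rw [csN_simple, csN_simple] at h
  have h2 := congrArg (fun σ : Equiv.Perm (Fin (m + 2 + 1)) => (σ 0 : ℕ)) h
  have hlt : 2 % (m + 2 + 1) = 2 := Nat.mod_eq_of_lt (by omega)
  simp [Equiv.swap_apply_def, Fin.ext_iff, hlt] at h2

theorem tau_ne (m : ℕ) : tau m ≠ 1 := by
  intro h
  have h1 : tau m (gx (0 : Fin (m + 1))) = gx 0 := by rw [h]; rfl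
  rw [tau_x, tauf_zero 0 rfl] at h1
  have h2 := congrArg (piS m) h1
  rw [map_inv, piS_x] at h2
  -- (s0 s1)⁻¹ = s0 s1
  have h3 : pf m 0 = (csN m).simple 0 * (csN m).simple 1 := rfl
  rw [h3] at h2
  have e3 := s_adj m 0 1 rfl
  -- x⁻¹ = x and x^3 = 1 give x = 1
  have hx : (csN m).simple 0 * (csN m).simple 1 = 1 := by
    have hsq : ((csN m).simple 0 * (csN m).simple 1) * ((csN m).simple 0 * (csN m).simple 1) = 1 := by
      have := mul_inv_cancel ((csN m).simple 0 * (csN m).simple 1)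
      rw [h2] at this
      exact this
    have : ((csN m).simple 0 * (csN m).simple 1) ^ 3
        = ((csN m).simple 0 * (csN m).simple 1) * ((csN m).simple 0 * (csN m).simple 1)
          * ((csN m).simple 0 * (csN m).simple 1) := by
      rw [pow_succ, pow_two]
    rw [this, hsq, one_mul] at e3
    exact e3
  apply s01_ne m
  have e := eq_inv_of_mul_eq_one_left hx
  rw [inv_eq_of_mul_eq_one_right (s_sq m 1)] at e
  exact e

/-- The group of order two generated by `tau`. -/
noncomputable abbrev Kt (m : ℕ) : Subgroup (MulAut (GG m)) := Subgroup.zpowers (tau m)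

/-- The generator of `Kt`. -/
noncomputable def tk (m : ℕ) : ↥(Kt m) := ⟨tau m, Subgroup.mem_zpowers (tau m)⟩

theorem tk_sq (m : ℕ) : tk m * tk m = 1 := Subtype.ext (tau_sq m)

theorem tk_inv (m : ℕ) : (tk m)⁻¹ = tk m := inv_eq_of_mul_eq_one_right (tk_sq m)

theorem tk_ne (m : ℕ) : tk m ≠ 1 := fun h => tau_ne m (congrArg Subtype.val h)

theorem cardKt (m : ℕ) : Nat.card ↥(Kt m) = 2 := by
  rw [Nat.card_zpowers]
  have h2 : tau m ^ 2 = 1 := by rw [pow_two]; exact tau_sq m
  exact orderOf_eq_prime h2 (tau_ne m)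

theorem Kt_mem (m : ℕ) (k : ↥(Kt m)) : k = 1 ∨ k = tk m := by
  rcases mem_zpowers_sq (tau m) k.1 (tau_sq m) k.2 with h | h
  · exact Or.inl (Subtype.ext h)
  · exact Or.inr (Subtype.ext h)

/-- The semidirect product of the presented group with the group of order two. -/
noncomputable abbrev GH (m : ℕ) : Type := SemidirectProduct (GG m) ↥(Kt m) (Kt m).subtype

theorem tk2 (m : ℕ) : (SemidirectProduct.inr (tk m) : GH m) * SemidirectProduct.inr (tk m) = 1 := by
  rw [← map_mul, tk_sq, map_one]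

theorem conj_tk (m : ℕ) (n : GG m) :
    (SemidirectProduct.inr (tk m) : GH m) * SemidirectProduct.inl n * SemidirectProduct.inr (tk m)
      = SemidirectProduct.inl (tau m n) := by
  have h := SemidirectProduct.inl_aut (φ := (Kt m).subtype) (tk m) n
  rw [tk_inv] at h
  exact h.symm

/-- The reflections in the semidirect product. -/
noncomputable def rr (m : ℕ) : Fin (m + 2) → GH m :=
  Fin.cons (SemidirectProduct.inr (tk m))
    (fun k : Fin (m + 1) => SemidirectProduct.inr (tk m) * SemidirectProduct.inl (gx k))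

theorem rr_zero (m : ℕ) : rr m 0 = SemidirectProduct.inr (tk m) := rfl
theorem rr_succ (m : ℕ) (k : Fin (m + 1)) :
    rr m k.succ = SemidirectProduct.inr (tk m) * SemidirectProduct.inl (gx k) := by
  unfold rr
  rw [Fin.cons_succ]

theorem rr_liftable (m : ℕ) : (CoxeterMatrix.A (m + 2)).IsLiftable (rr m) := by
  intro i j
  refine Fin.cases ?_ (fun k => ?_) i
  · refine Fin.cases ?_ (fun l => ?_) j
    · rw [rr_zero, tk2, one_pow]
    · have e : rr m 0 * rr m l.succ = SemidirectProduct.inl (gx l) := by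
        rw [rr_zero, rr_succ, ← mul_assoc, tk2, one_mul]
      rw [e, ← map_pow]
      by_cases hl : l.val = 0
      · rw [A_adj _ 0 l.succ (by rw [Fin.val_succ, hl]; rfl), rel1 l hl, map_one]
      · rw [A_far _ 0 l.succ (by rw [Fin.val_succ]; show 0 + 1 < l.val + 1; omega),
          rel2 l (by omega), map_one]
  · refine Fin.cases ?_ (fun l => ?_) j
    · have e : rr m k.succ * rr m 0 = SemidirectProduct.inl (tauf k) := by
        rw [rr_zero, rr_succ, conj_tk, tau_x]
      rw [e, ← map_pow]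
      by_cases hk : k.val = 0
      · rw [A_adj' _ k.succ 0 (by rw [Fin.val_succ, hk]; rfl), tauf_h1 k hk, map_one]
      · rw [A_far' _ k.succ 0 (by rw [Fin.val_succ]; show 0 + 1 < k.val + 1; omega),
          tauf_h2 k (by omega), map_one]
    · have e : rr m k.succ * rr m l.succ = SemidirectProduct.inl (tauf k * gx l) := by
        rw [rr_succ, rr_succ, ← mul_assoc, conj_tk, tau_x, ← map_mul]
      rw [e, ← map_pow]
      rcases Nat.lt_trichotomy k.val l.val with h | h | h
      · -- k < l, so l ≥ 1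
        have hl : gx l = tauf l := (tauf_pos l (by omega)).symm
        by_cases hadj : l.val = k.val + 1
        · rw [A_adj _ k.succ l.succ (by rw [Fin.val_succ, Fin.val_succ]; omega), hl,
            tauf_h3 k l hadj, map_one]
        · rw [A_far _ k.succ l.succ (by rw [Fin.val_succ, Fin.val_succ]; omega), hl,
            tauf_h4 k l (by omega), map_one]
      · -- k = l
        have hkl : k = l := Fin.ext h
        subst hkl
        rw [CoxeterMatrix.diagonal, pow_one]
        by_cases hk : k.val = 0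
        · rw [tauf_zero k hk, inv_mul_cancel, map_one]
        · rw [tauf_pos k (by omega), rel2' k (by omega), map_one]
      · -- l < k, so k ≥ 1
        rw [tauf_pos k (by omega)]
        by_cases hadj : k.val = l.val + 1
        · rw [A_adj' _ k.succ l.succ (by rw [Fin.val_succ, Fin.val_succ]; omega),
            swap_pow _ _ 3 (rel3 l k hadj), map_one]
        · rw [A_far' _ k.succ l.succ (by rw [Fin.val_succ, Fin.val_succ]; omega),
            swap_pow _ _ 2 (rel4 l k (by omega)), map_one]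

/-- The map from the symmetric group onto the semidirect product. -/
noncomputable def psiH (m : ℕ) : Equiv.Perm (Fin (m + 2 + 1)) →* GH m :=
  (csN m).lift ⟨rr m, rr_liftable m⟩

theorem psiH_simple (m : ℕ) (i : Fin (m + 2)) : psiH m ((csN m).simple i) = rr m i :=
  (csN m).lift_apply_simple (rr_liftable m) i

theorem psiH_surj (m : ℕ) : Function.Surjective (psiH m) := by
  rw [← MonoidHom.range_eq_top]
  have h0 : (SemidirectProduct.inr (tk m) : GH m) ∈ (psiH m).range :=
    ⟨_, psiH_simple m 0⟩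
  have hx : ∀ k : Fin (m + 1), (SemidirectProduct.inl (gx k) : GH m) ∈ (psiH m).range := by
    intro k
    have h1 : rr m k.succ ∈ (psiH m).range := ⟨_, psiH_simple m k.succ⟩
    have e : (SemidirectProduct.inl (gx k) : GH m)
        = SemidirectProduct.inr (tk m) * rr m k.succ := by
      rw [rr_succ, ← mul_assoc, tk2, one_mul]
    rw [e]
    exact (psiH m).range.mul_mem h0 h1
  have hl : ∀ n : GG m, (SemidirectProduct.inl n : GH m) ∈ (psiH m).range := by
    intro n
    have := PresentedGroup.generated_by (RR m) ((psiH m).range.comap SemidirectProduct.inl)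
      (fun j => Subgroup.mem_comap.mpr (hx j)) n
    exact Subgroup.mem_comap.mp this
  have hr : ∀ k : ↥(Kt m), (SemidirectProduct.inr k : GH m) ∈ (psiH m).range := by
    intro k
    rcases Kt_mem m k with h | h
    · rw [h, map_one]; exact (psiH m).range.one_mem
    · rw [h]; exact h0
  rw [Subgroup.eq_top_iff']
  intro g
  rw [← SemidirectProduct.inl_left_mul_inr_right g]
  exact (psiH m).range.mul_mem (hl _) (hr _)

/-! ### The left inverse -/

/-- The map from the group of order two to the symmetric group. -/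
noncomputable def f2 (m : ℕ) : ↥(Kt m) →* Equiv.Perm (Fin (m + 2 + 1)) := by
  classical
  exact
    { toFun := fun k => if k = 1 then 1 else (csN m).simple 0
      map_one' := if_pos rfl
      map_mul' := by
        intro a b
        rcases Kt_mem m a with ha | ha <;> rcases Kt_mem m b with hb | hb
        · rw [ha, hb]; simp
        · rw [ha, hb]; simp
        · rw [ha, hb]; simp
        · rw [ha, hb, tk_sq]; simp [tk_ne m, s_sq m 0] }

theorem f2_tk (m : ℕ) : f2 m (tk m) = (csN m).simple 0 := by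
  classical
  show (if tk m = 1 then 1 else (csN m).simple 0) = _
  rw [if_neg (tk_ne m)]

theorem f2_one (m : ℕ) : f2 m 1 = 1 := map_one _

theorem lift_cond (m : ℕ) : ∀ g : ↥(Kt m),
    (piS m).comp ((Kt m).subtype g).toMonoidHom
      = (MulAut.conj (f2 m g)).toMonoidHom.comp (piS m) := by
  intro g
  apply PresentedGroup.ext
  intro i
  rcases Kt_mem m g with h | h
  · rw [h]
    show piS m (gx i) = f2 m 1 * piS m (gx i) * (f2 m 1)⁻¹
    rw [f2_one, one_mul, inv_one, mul_one]
  · rw [h]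
    show piS m (tau m (gx i)) = f2 m (tk m) * piS m (gx i) * (f2 m (tk m))⁻¹
    rw [f2_tk, tau_x, piS_x, inv_eq_of_mul_eq_one_right (s_sq m 0)]
    have e : (csN m).simple 0 * pf m i * (csN m).simple 0
        = (csN m).simple i.succ * (csN m).simple 0 := by
      unfold pf
      rw [← mul_assoc, s_sq, one_mul]
    rw [e]
    by_cases hi : i.val = 0
    · rw [tauf_zero i hi, map_inv, piS_x]
      unfold pf
      rw [mul_inv_rev, inv_eq_of_mul_eq_one_right (s_sq m 0),
        inv_eq_of_mul_eq_one_right (s_sq m i.succ)]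
    · rw [tauf_pos i (by omega), piS_x]
      unfold pf
      exact s_comm m 0 i.succ (by rw [Fin.val_succ]; show 0 + 1 < i.val + 1; omega)

/-- The left inverse of `psiH`. -/
noncomputable def piH (m : ℕ) : GH m →* Equiv.Perm (Fin (m + 2 + 1)) :=
  SemidirectProduct.lift (piS m) (f2 m) (lift_cond m)

theorem piH_psiH (m : ℕ) : (piH m).comp (psiH m) = MonoidHom.id _ := by
  apply (csN m).ext_simple
  intro i
  show piH m (psiH m ((csN m).simple i)) = (csN m).simple i
  rw [psiH_simple]
  refine Fin.cases ?_ (fun k => ?_) i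
  · rw [rr_zero]
    unfold piH
    rw [SemidirectProduct.lift_inr, f2_tk]
  · rw [rr_succ, map_mul]
    unfold piH
    rw [SemidirectProduct.lift_inr, SemidirectProduct.lift_inl, f2_tk, piS_x]
    unfold pf
    rw [← mul_assoc, s_sq, one_mul]

theorem psiH_inj (m : ℕ) : Function.Injective (psiH m) := by
  intro a b hab
  have ha := DFunLike.congr_fun (piH_psiH m) a
  have hb := DFunLike.congr_fun (piH_psiH m) b
  have ha' : piH m (psiH m a) = a := ha
  have hb' : piH m (psiH m b) = b := hb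
  rw [← ha', ← hb', hab]

theorem main (m : ℕ) : Nonempty (GG m ≃* alternatingGroup (Fin (m + 2 + 1))) := by
  obtain ⟨B, hB⟩ : ∃ B : Subgroup (Equiv.Perm (Fin (m + 2 + 1))),
      B = ((SemidirectProduct.inl : GG m →* GH m).range).comap (psiH m) := ⟨_, rfl⟩
  have hidx : B.index = 2 := by
    rw [hB, Subgroup.index_comap_of_surjective _ (psiH_surj m),
      SemidirectProduct.range_inl_eq_ker_rightHom, Subgroup.index_ker,
      MonoidHom.range_eq_top.mpr SemidirectProduct.rightHom_surjective, Subgroup.card_top,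
      cardKt]
  have hle : alternatingGroup (Fin (m + 2 + 1)) ≤ B :=
    Cfsg.Agent.Lib_helper4_PSL2.alternatingGroup_le_of_index_two B hidx
  have hcard : Nat.card B ≤ Nat.card (alternatingGroup (Fin (m + 2 + 1))) := by
    have h1 := B.card_mul_index
    rw [hidx] at h1
    have h2 := two_mul_nat_card_alternatingGroup (α := Fin (m + 2 + 1))
    omega
  have hAB : alternatingGroup (Fin (m + 2 + 1)) = B := Subgroup.eq_of_le_of_card_ge hle hcard
  have hmap : B.map (psiH m) = (SemidirectProduct.inl : GG m →* GH m).range := by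
    rw [hB]
    exact Subgroup.map_comap_eq_self_of_surjective (psiH_surj m) _
  obtain ⟨e, he⟩ : ∃ e : Equiv.Perm (Fin (m + 2 + 1)) ≃* GH m, ∀ x, e x = psiH m x :=
    ⟨MulEquiv.ofBijective (psiH m) ⟨psiH_inj m, psiH_surj m⟩, fun x => rfl⟩
  have hmap' : B.map (e : Equiv.Perm (Fin (m + 2 + 1)) →* GH m)
      = (SemidirectProduct.inl : GG m →* GH m).range := by
    rw [← hmap]
    ext y
    constructor
    · rintro ⟨x, hx, rfl⟩
      exact ⟨x, hx, (he x).symm⟩
    · rintro ⟨x, hx, rfl⟩
      exact ⟨x, hx, he x⟩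
  have e1 : ↥(alternatingGroup (Fin (m + 2 + 1))) ≃* ↥B := MulEquiv.subgroupCongr hAB
  have e2 : ↥B ≃* ↥(B.map (e : Equiv.Perm (Fin (m + 2 + 1)) →* GH m)) := e.subgroupMap B
  have e3 : ↥(B.map (e : Equiv.Perm (Fin (m + 2 + 1)) →* GH m))
      ≃* ↥((SemidirectProduct.inl : GG m →* GH m).range) := MulEquiv.subgroupCongr hmap'
  have e4 : GG m ≃* ↥((SemidirectProduct.inl : GG m →* GH m).range) :=
    MonoidHom.ofInjective SemidirectProduct.inl_injective
  exact ⟨e4.trans (e3.symm.trans (e2.symm.trans e1.symm))⟩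

/-- A presentation of the alternating group of degree n ≥ 3 on generators x_1, …, x_{n−2} (indexed here by 0, …, n−3): the first generator cubes to 1, every other generator squares to 1, the product of two consecutive generators has order dividing 3, and the product of two generators at distance at least 2 has order dividing 2. The group so presented is isomorphic to the alternating group of degree n. -/
theorem result (n : ℕ) (hn : 3 ≤ n) :
    Nonempty (PresentedGroup
      ({g : FreeGroup (Fin (n - 2)) | ∃ i : Fin (n - 2), i.val = 0 ∧ g = FreeGroup.of i ^ 3} ∪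
       {g | ∃ i : Fin (n - 2), 1 ≤ i.val ∧ g = FreeGroup.of i ^ 2} ∪
       {g | ∃ i j : Fin (n - 2), j.val = i.val + 1 ∧ g = (FreeGroup.of i * FreeGroup.of j) ^ 3} ∪
       {g | ∃ i j : Fin (n - 2), i.val + 1 < j.val ∧ g = (FreeGroup.of i * FreeGroup.of j) ^ 2})
      ≃* alternatingGroup (Fin n)) := by
  obtain ⟨m, rfl⟩ : ∃ m, n = m + 3 := ⟨n - 3, by omega⟩
  exact main m

end Cfsg.Agent.S3335
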