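import Cfsg.Statements.S0254
import Mathlib
import Cfsg.Agent.S3335
import Cfsg.Agent.Lib_helper4_PSL2

set_option autoImplicit false
open Cfsg

namespace Cfsg.Agent.S0254


theorem mat_eq {F : Type*} [Field F] (a b c d a' b' c' d' : F) (h1 : a = a') (h2 : b = b')
    (h3 : c = c') (h4 : d = d') :
    (!![a, b; c, d] : Matrix (Fin 2) (Fin 2) F) = !![a', b'; c', d'] := by
  subst h1 h2 h3 h4; rfl

theorem exists_gens {F : Type*} [Field F] (w : F) (hw : w ^ 2 + 1 = 0) (h3 : (3 : F) = 0) :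
    ∃ u0 u1 u2 u3 : Matrix.ProjectiveSpecialLinearGroup (Fin 2) F,
      u0 ^ 3 = 1 ∧ u1 ^ 2 = 1 ∧ u2 ^ 2 = 1 ∧ u3 ^ 2 = 1 ∧ (u0 * u1) ^ 3 = 1 ∧
      (u1 * u2) ^ 3 = 1 ∧ (u2 * u3) ^ 3 = 1 ∧ (u0 * u2) ^ 2 = 1 ∧ (u0 * u3) ^ 2 = 1 ∧
      (u1 * u3) ^ 2 = 1 ∧ u0 ≠ 1 := by
  obtain ⟨X0, hX0⟩ : ∃ U : Matrix.SpecialLinearGroup (Fin 2) F,
      (U : Matrix (Fin 2) (Fin 2) F) = !![1, 1; 0, 1] :=
    ⟨⟨!![1, 1; 0, 1], by rw [Matrix.det_fin_two_of]; ring⟩, rfl⟩
  obtain ⟨X1, hX1⟩ : ∃ U : Matrix.SpecialLinearGroup (Fin 2) F,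
      (U : Matrix (Fin 2) (Fin 2) F) = !![0, 1; -1, 0] :=
    ⟨⟨!![0, 1; -1, 0], by rw [Matrix.det_fin_two_of]; ring⟩, rfl⟩
  obtain ⟨X2, hX2⟩ : ∃ U : Matrix.SpecialLinearGroup (Fin 2) F,
      (U : Matrix (Fin 2) (Fin 2) F) = !![w, 1; 0, -w] :=
    ⟨⟨!![w, 1; 0, -w], by rw [Matrix.det_fin_two_of]; linear_combination -hw⟩, rfl⟩
  obtain ⟨X3, hX3⟩ : ∃ U : Matrix.SpecialLinearGroup (Fin 2) F,
      (U : Matrix (Fin 2) (Fin 2) F) = !![w, 0; 0, -w] :=
    ⟨⟨!![w, 0; 0, -w], by rw [Matrix.det_fin_two_of]; linear_combination -hw⟩, rfl⟩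
  obtain ⟨T', hT'⟩ : ∃ T' : Matrix.SpecialLinearGroup (Fin 2) F,
      (T' : Matrix (Fin 2) (Fin 2) F) = !![1, 0; 1, 1] :=
    ⟨⟨!![1, 0; 1, 1], by rw [Matrix.det_fin_two_of]; ring⟩, rfl⟩
  obtain ⟨π, hπ⟩ : ∃ π : Matrix.SpecialLinearGroup (Fin 2) F →*
      Matrix.ProjectiveSpecialLinearGroup (Fin 2) F,
      ∀ x, π x = 1 ↔ x ∈ Subgroup.center (Matrix.SpecialLinearGroup (Fin 2) F) :=
    ⟨QuotientGroup.mk' (Subgroup.center (Matrix.SpecialLinearGroup (Fin 2) F)),
      fun x => QuotientGroup.eq_one_iff x⟩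
  have hm : (!![-1, 0; 0, -1] : Matrix (Fin 2) (Fin 2) F) = -1 := by
    ext i j; fin_cases i <;> fin_cases j <;> simp
  have hone : ∀ M : Matrix.SpecialLinearGroup (Fin 2) F,
      (M : Matrix (Fin 2) (Fin 2) F) = !![1, 0; 0, 1] → π M = 1 := by
    intro M h
    rw [hπ, Subgroup.mem_center_iff]
    intro g
    apply Subtype.ext
    rw [Matrix.SpecialLinearGroup.coe_mul, Matrix.SpecialLinearGroup.coe_mul, h,
      ← Matrix.one_fin_two]
    simp
  have hneg : ∀ M : Matrix.SpecialLinearGroup (Fin 2) F,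
      (M : Matrix (Fin 2) (Fin 2) F) = !![-1, 0; 0, -1] → π M = 1 := by
    intro M h
    rw [hπ, Subgroup.mem_center_iff]
    intro g
    apply Subtype.ext
    rw [Matrix.SpecialLinearGroup.coe_mul, Matrix.SpecialLinearGroup.coe_mul, h, hm]
    simp
  have r0 : π (X0 * X0 * X0) = 1 := by
    apply hone
    simp only [Matrix.SpecialLinearGroup.coe_mul]
    rw [hX0]
    simp only [Matrix.mul_fin_two]
    exact mat_eq _ _ _ _ _ _ _ _
      (by linear_combination (0) * hw + ((0) + (0) * w) * h3)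
      (by linear_combination (0) * hw + ((1) + (0) * w) * h3)
      (by linear_combination (0) * hw + ((0) + (0) * w) * h3)
      (by linear_combination (0) * hw + ((0) + (0) * w) * h3)
  have r1 : π (X1 * X1) = 1 := by
    apply hneg
    simp only [Matrix.SpecialLinearGroup.coe_mul]
    rw [hX1]
    simp only [Matrix.mul_fin_two]
    exact mat_eq _ _ _ _ _ _ _ _
      (by linear_combination (0) * hw + ((0) + (0) * w) * h3)
      (by linear_combination (0) * hw + ((0) + (0) * w) * h3)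
      (by linear_combination (0) * hw + ((0) + (0) * w) * h3)
      (by linear_combination (0) * hw + ((0) + (0) * w) * h3)
  have r2 : π (X2 * X2) = 1 := by
    apply hneg
    simp only [Matrix.SpecialLinearGroup.coe_mul]
    rw [hX2]
    simp only [Matrix.mul_fin_two]
    exact mat_eq _ _ _ _ _ _ _ _
      (by linear_combination ((1)) * hw + ((0) + (0) * w) * h3)
      (by linear_combination (0) * hw + ((0) + (0) * w) * h3)
      (by linear_combination (0) * hw + ((0) + (0) * w) * h3)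
      (by linear_combination ((1)) * hw + ((0) + (0) * w) * h3)
  have r3 : π (X3 * X3) = 1 := by
    apply hneg
    simp only [Matrix.SpecialLinearGroup.coe_mul]
    rw [hX3]
    simp only [Matrix.mul_fin_two]
    exact mat_eq _ _ _ _ _ _ _ _
      (by linear_combination ((1)) * hw + ((0) + (0) * w) * h3)
      (by linear_combination (0) * hw + ((0) + (0) * w) * h3)
      (by linear_combination (0) * hw + ((0) + (0) * w) * h3)
      (by linear_combination ((1)) * hw + ((0) + (0) * w) * h3)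
  have r01 : π ((X0 * X1) * (X0 * X1) * (X0 * X1)) = 1 := by
    apply hone
    simp only [Matrix.SpecialLinearGroup.coe_mul]
    rw [hX0, hX1]
    simp only [Matrix.mul_fin_two]
    exact mat_eq _ _ _ _ _ _ _ _
      (by linear_combination (0) * hw + ((0) + (0) * w) * h3)
      (by linear_combination (0) * hw + ((0) + (0) * w) * h3)
      (by linear_combination (0) * hw + ((0) + (0) * w) * h3)
      (by linear_combination (0) * hw + ((0) + (0) * w) * h3)
  have r12 : π ((X1 * X2) * (X1 * X2) * (X1 * X2)) = 1 := by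
    apply hone
    simp only [Matrix.SpecialLinearGroup.coe_mul]
    rw [hX1, hX2]
    simp only [Matrix.mul_fin_two]
    exact mat_eq _ _ _ _ _ _ _ _
      (by linear_combination ((-1)) * hw + ((0) + (0) * w) * h3)
      (by linear_combination ((-1) * w) * hw + ((0) + (0) * w) * h3)
      (by linear_combination ((-1) * w) * hw + ((0) + (0) * w) * h3)
      (by linear_combination ((-2)) * hw + ((0) + (0) * w) * h3)
  have r23 : π ((X2 * X3) * (X2 * X3) * (X2 * X3)) = 1 := by
    apply hneg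
    simp only [Matrix.SpecialLinearGroup.coe_mul]
    rw [hX2, hX3]
    simp only [Matrix.mul_fin_two]
    exact mat_eq _ _ _ _ _ _ _ _
      (by linear_combination ((1) + (-1) * w ^ 2 + (1) * w ^ 4) * hw + ((0) + (0) * w) * h3)
      (by linear_combination ((3) * w + (-3) * w ^ 3) * hw + ((0) + (-1) * w) * h3)
      (by linear_combination (0) * hw + ((0) + (0) * w) * h3)
      (by linear_combination ((1) + (-1) * w ^ 2 + (1) * w ^ 4) * hw + ((0) + (0) * w) * h3)
  have r02 : π ((X0 * X2) * (X0 * X2)) = 1 := by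
    apply hneg
    simp only [Matrix.SpecialLinearGroup.coe_mul]
    rw [hX0, hX2]
    simp only [Matrix.mul_fin_two]
    exact mat_eq _ _ _ _ _ _ _ _
      (by linear_combination ((1)) * hw + ((0) + (0) * w) * h3)
      (by linear_combination (0) * hw + ((0) + (0) * w) * h3)
      (by linear_combination (0) * hw + ((0) + (0) * w) * h3)
      (by linear_combination ((1)) * hw + ((0) + (0) * w) * h3)
  have r03 : π ((X0 * X3) * (X0 * X3)) = 1 := by
    apply hneg
    simp only [Matrix.SpecialLinearGroup.coe_mul]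
    rw [hX0, hX3]
    simp only [Matrix.mul_fin_two]
    exact mat_eq _ _ _ _ _ _ _ _
      (by linear_combination ((1)) * hw + ((0) + (0) * w) * h3)
      (by linear_combination (0) * hw + ((0) + (0) * w) * h3)
      (by linear_combination (0) * hw + ((0) + (0) * w) * h3)
      (by linear_combination ((1)) * hw + ((0) + (0) * w) * h3)
  have r13 : π ((X1 * X3) * (X1 * X3)) = 1 := by
    apply hneg
    simp only [Matrix.SpecialLinearGroup.coe_mul]
    rw [hX1, hX3]
    simp only [Matrix.mul_fin_two]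
    exact mat_eq _ _ _ _ _ _ _ _
      (by linear_combination ((1)) * hw + ((0) + (0) * w) * h3)
      (by linear_combination (0) * hw + ((0) + (0) * w) * h3)
      (by linear_combination (0) * hw + ((0) + (0) * w) * h3)
      (by linear_combination ((1)) * hw + ((0) + (0) * w) * h3)
  refine ⟨π X0, π X1, π X2, π X3, ?_, ?_, ?_, ?_, ?_, ?_, ?_, ?_, ?_, ?_, ?_⟩
  · rw [pow_succ, pow_two, ← map_mul, ← map_mul]; exact r0
  · rw [pow_two, ← map_mul]; exact r1
  · rw [pow_two, ← map_mul]; exact r2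
  · rw [pow_two, ← map_mul]; exact r3
  · rw [← map_mul, pow_succ, pow_two, ← map_mul, ← map_mul]; exact r01
  · rw [← map_mul, pow_succ, pow_two, ← map_mul, ← map_mul]; exact r12
  · rw [← map_mul, pow_succ, pow_two, ← map_mul, ← map_mul]; exact r23
  · rw [← map_mul, pow_two, ← map_mul]; exact r02
  · rw [← map_mul, pow_two, ← map_mul]; exact r03
  · rw [← map_mul, pow_two, ← map_mul]; exact r13
  · intro h
    have hc := Subgroup.mem_center_iff.mp ((hπ X0).mp h)
    have h1 : ((T' : Matrix (Fin 2) (Fin 2) F) * (X0 : Matrix (Fin 2) (Fin 2) F)) 0 0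
        = ((X0 : Matrix (Fin 2) (Fin 2) F) * (T' : Matrix (Fin 2) (Fin 2) F)) 0 0 := by
      rw [← Matrix.SpecialLinearGroup.coe_mul, ← Matrix.SpecialLinearGroup.coe_mul, hc T']
    rw [hT', hX0, Matrix.mul_fin_two, Matrix.mul_fin_two] at h1
    have h1' : (1 : F) * 1 + 0 * 0 = 1 * 1 + 1 * 1 := h1
    exact one_ne_zero (α := F) (by linear_combination -h1')

theorem cardA6 : Nat.card ↥(alternatingGroup (Fin 6)) = 360 := by
  rw [nat_card_alternatingGroup, Nat.card_eq_fintype_card, Fintype.card_fin]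
  rfl

/-- PSL_2(9) is isomorphic to A_6. -/
theorem result {F : Type*} [Field F] [Fintype F] (hF : Fintype.card F = 9) : Nonempty (Matrix.ProjectiveSpecialLinearGroup (Fin 2) F ≃* alternatingGroup (Fin 6)) := by
  have h9 : ((9 : ℕ) : F) = 0 := by rw [← hF]; exact Nat.cast_card_eq_zero F
  have h3 : (3 : F) = 0 := by
    have h : (3 : F) * 3 = 0 := by
      have e : ((9 : ℕ) : F) = 3 * 3 := by norm_num
      rw [← e]; exact h9
    exact mul_self_eq_zero.mp h
  obtain ⟨w, hw⟩ : IsSquare (-1 : F) := by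
    rw [FiniteField.isSquare_neg_one_iff, hF]
    decide
  have hw' : w ^ 2 + 1 = 0 := by linear_combination -hw
  obtain ⟨u0, u1, u2, u3, a0, a1, a2, a3, a01, a12, a23, a02, a03, a13, hne⟩ :=
    exists_gens w hw' h3
  have hmain : Nonempty (Cfsg.Agent.S3335.GG 3 ≃* alternatingGroup (Fin 6)) :=
    Cfsg.Agent.S3335.main 3
  obtain ⟨e⟩ := hmain
  have H1 : ∀ i : Fin (3 + 1), i.val = 0 → (![u0, u1, u2, u3] i) ^ 3 = 1 := by
    intro i hi
    fin_cases i <;> first | exact a0 | (exfalso; revert hi; decide)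
  have H2 : ∀ i : Fin (3 + 1), 1 ≤ i.val → (![u0, u1, u2, u3] i) ^ 2 = 1 := by
    intro i hi
    fin_cases i <;> first | exact a1 | exact a2 | exact a3 | (exfalso; revert hi; decide)
  have H3 : ∀ i j : Fin (3 + 1), j.val = i.val + 1 →
      (![u0, u1, u2, u3] i * ![u0, u1, u2, u3] j) ^ 3 = 1 := by
    intro i j hij
    fin_cases i <;> fin_cases j <;>
      first | exact a01 | exact a12 | exact a23 | (exfalso; revert hij; decide)
  have H4 : ∀ i j : Fin (3 + 1), i.val + 1 < j.val →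
      (![u0, u1, u2, u3] i * ![u0, u1, u2, u3] j) ^ 2 = 1 := by
    intro i j hij
    fin_cases i <;> fin_cases j <;>
      first | exact a02 | exact a03 | exact a13 | (exfalso; revert hij; decide)
  obtain ⟨f, hf⟩ : ∃ f : Cfsg.Agent.S3335.GG 3 →* Matrix.ProjectiveSpecialLinearGroup (Fin 2) F,
      f (Cfsg.Agent.S3335.gx 0) = u0 :=
    ⟨Cfsg.Agent.S3335.toG _ H1 H2 H3 H4, Cfsg.Agent.S3335.toG_x _ H1 H2 H3 H4 0⟩
  obtain ⟨φ, hφ⟩ : ∃ φ : alternatingGroup (Fin 6) →* Matrix.ProjectiveSpecialLinearGroup (Fin 2) F,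
      ∀ x, φ x = f (e.symm x) :=
    ⟨f.comp e.symm.toMonoidHom, fun x => rfl⟩
  have hsimp : IsSimpleGroup (alternatingGroup (Fin 6)) :=
    alternatingGroup.isSimpleGroup (by simp)
  have hker : φ.ker = ⊥ := by
    rcases (MonoidHom.normal_ker φ).eq_bot_or_eq_top with h | h
    · exact h
    · exfalso
      have h1 : φ (e (Cfsg.Agent.S3335.gx 0)) = u0 := by
        rw [hφ, MulEquiv.symm_apply_apply, hf]
      have h2 : e (Cfsg.Agent.S3335.gx 0) ∈ φ.ker := by rw [h]; exact Subgroup.mem_top _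
      rw [MonoidHom.mem_ker, h1] at h2
      exact hne h2
  have hinj : Function.Injective φ := (MonoidHom.ker_eq_bot_iff φ).mp hker
  have hcardP : Nat.card (Matrix.ProjectiveSpecialLinearGroup (Fin 2) F) = 360 := by
    have h := Cfsg.Agent.Lib_helper4_PSL2.card_PSL2 hF
    have hg : Nat.gcd 2 (9 - 1) = 2 := by decide
    rw [hg] at h
    norm_num at h
    omega
  have hfin : Finite (Matrix.ProjectiveSpecialLinearGroup (Fin 2) F) :=
    Nat.finite_of_card_ne_zero (by rw [hcardP]; norm_num)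
  have hbij : Function.Bijective φ := by
    apply hinj.bijective_of_nat_card_le
    rw [hcardP, cardA6]
  exact ⟨(MulEquiv.ofBijective φ hbij).symm⟩

end Cfsg.Agent.S0254
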