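import Cfsg.Statements.S0647
import Cfsg.Agent.Lib_helper1_Basic

set_option autoImplicit false
open Cfsg

namespace Cfsg.Agent.S0647

/-- For a nonempty family of maximal abelian subgroups of a finite group, the intersection of the family is the centre of the subgroup it generates, which is also the full centralizer of that subgroup. -/
theorem result {S : Type*} [Group S] [Finite S] (𝒜 : Set (Subgroup S)) (hne : 𝒜.Nonempty) (hab : ∀ A ∈ 𝒜, IsMulCommutative A) (hmax : ∀ A ∈ 𝒜, ∀ B : Subgroup S, IsMulCommutative B → A ≤ B → B = A) : sInf 𝒜 = sSup 𝒜 ⊓ Subgroup.centralizer ((sSup 𝒜 : Subgroup S) : Set S) ∧ sInf 𝒜 = Subgroup.centralizer ((sSup 𝒜 : Subgroup S) : Set S) := by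
  have h1 : Subgroup.centralizer ((sSup 𝒜 : Subgroup S) : Set S) ≤ sInf 𝒜 := by
    intro x hx
    rw [Subgroup.mem_sInf]
    intro A hA
    have hxA : ∀ a ∈ A, a * x = x * a := fun a ha =>
      hx a ((le_sSup hA : A ≤ sSup 𝒜) ha)
    haveI := hab A hA
    have hcomm : IsMulCommutative (Subgroup.closure ((A : Set S) ∪ {x})) := by
      apply Subgroup.isMulCommutative_closure
      rintro a (ha | ha) b (hb | hb)
      · exact setLike_mul_comm ha hb
      · rw [Set.mem_singleton_iff] at hb; subst hb; exact hxA a ha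
      · rw [Set.mem_singleton_iff] at ha; subst ha; exact (hxA b hb).symm
      · rw [Set.mem_singleton_iff] at ha hb; rw [ha, hb]
    have hle : A ≤ Subgroup.closure ((A : Set S) ∪ {x}) := by
      intro a ha; exact Subgroup.subset_closure (Or.inl ha)
    have := hmax A hA _ hcomm hle
    rw [← this]
    exact Subgroup.subset_closure (Or.inr rfl)
  have h2 : sInf 𝒜 ≤ Subgroup.centralizer ((sSup 𝒜 : Subgroup S) : Set S) := by
    intro x hx
    rw [Subgroup.mem_sInf] at hx
    have : sSup 𝒜 ≤ Subgroup.centralizer ({x} : Set S) := by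
      apply sSup_le
      intro A hA a ha
      rw [Subgroup.mem_centralizer_iff]
      intro y hy
      rw [Set.mem_singleton_iff] at hy; subst hy
      haveI := hab A hA
      exact setLike_mul_comm (hx A hA) ha
    rw [Subgroup.mem_centralizer_iff]
    intro j hj
    have := this hj
    rw [Subgroup.mem_centralizer_iff] at this
    exact (this x rfl).symm
  have h3 : sInf 𝒜 ≤ sSup 𝒜 := by
    obtain ⟨A, hA⟩ := hne
    exact (sInf_le hA).trans (le_sSup hA)
  have h4 : sInf 𝒜 = Subgroup.centralizer ((sSup 𝒜 : Subgroup S) : Set S) := le_antisymm h2 h1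
  refine ⟨?_, h4⟩
  rw [← h4]
  exact (inf_eq_right.mpr h3).symm

end Cfsg.Agent.S0647
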