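import Cfsg.Statements.S0648
import Cfsg.Agent.Lib_helper1_CommCalc

set_option autoImplicit false
open Cfsg

namespace Cfsg.Agent.S0648

/-- If A acts on B centralizing [B, B], then [B, A] has derived subgroup central in B, and for abelian A and b ∈ B with [[b, A], A, A] = 1 the derived subgroup of the subgroup [b, A] generated by the commutators of b with A has exponent dividing 2. -/
theorem result {G : Type*} [Group G] [Finite G] (A B : Subgroup G) (hAB : A ≤ Subgroup.normalizer (B : Set G)) (hc : ⁅⁅B, B⁆, A⁆ = ⊥) : ⁅⁅B, A⁆, ⁅B, A⁆⁆ ≤ B ⊓ Subgroup.centralizer (B : Set G) ∧ (IsMulCommutative A → ∀ b ∈ B, ⁅⁅(Subgroup.closure {g : G | ∃ a ∈ A, g = b⁻¹ * a * b * a⁻¹}), A⁆, A⁆ = ⊥ → ∀ w ∈ ⁅(Subgroup.closure {g : G | ∃ a ∈ A, g = b⁻¹ * a * b * a⁻¹}), (Subgroup.closure {g : G | ∃ a ∈ A, g = b⁻¹ * a * b * a⁻¹})⁆, w ^ 2 = 1) := by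
  obtain ⟨hCB, hB'B, hCB', hCCB⟩ := Cfsg.Agent.Lib_helper1_CommCalc.part1 A B hAB hc
  refine ⟨le_inf ((Subgroup.commutator_mono hCB hCB).trans hB'B)
    (Subgroup.commutator_eq_bot_iff_le_centralizer.mp hCCB), ?_⟩
  intro hA b hb hD w hw
  haveI := hA
  exact Cfsg.Agent.Lib_helper1_CommCalc.part2 A B hAB hc
    (fun x hx y hy => congrArg Subtype.val (mul_comm' (⟨x, hx⟩ : A) ⟨y, hy⟩)) b hb hD w hw

end Cfsg.Agent.S0648
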