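import Cfsg.Statements.S0649


set_option autoImplicit false
open Cfsg

namespace Cfsg.Agent.S0649

/-- In the Glauberman replacement situation, if B does not normalize A then some element of B normalizes N_S(A) without normalizing A. -/
theorem result {S : Type*} [Group S] [Finite S] {p : ℕ} [Fact p.Prime] (hS : IsPGroup p S) (B : Subgroup S) [B.Normal] (hB2 : p = 2 → IsMulCommutative B) (A : Subgroup S) (hA : IsMulCommutative A) (hBA : ⁅B, B⁆ ≤ A) (hnot : ¬ B ≤ Subgroup.normalizer (A : Set S)) : ∃ b ∈ B, b ∈ Subgroup.normalizer ((Subgroup.normalizer (A : Set S)) : Set S) ∧ b ∉ Subgroup.normalizer (A : Set S) := by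
  classical
  haveI : Group.IsNilpotent S := hS.isNilpotent
  haveI : Group.IsNilpotent ↥(Subgroup.normalizer (A : Set S) ⊔ B) := inferInstance
  have hlt : (Subgroup.normalizer (A : Set S)).subgroupOf (Subgroup.normalizer (A : Set S) ⊔ B) < ⊤ := by
    rw [lt_top_iff_ne_top]
    intro h
    rw [Subgroup.subgroupOf_eq_top] at h
    exact hnot (le_sup_right.trans h)
  have h2 := normalizerCondition_of_isNilpotent
    (G := ↥(Subgroup.normalizer (A : Set S) ⊔ B)) _ hlt
  obtain ⟨x, hxn, hxN⟩ := SetLike.exists_of_lt h2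
  have hxH : (x : S) ∈ Subgroup.normalizer (A : Set S) ⊔ B := x.2
  rw [Subgroup.mem_sup_of_normal_right] at hxH
  obtain ⟨n, hn, b, hb, hnb⟩ := hxH
  have hxn' : ∀ h : S, h ∈ Subgroup.normalizer (A : Set S) ⊔ B →
      (h ∈ Subgroup.normalizer (A : Set S) ↔
        (x : S) * h * (x : S)⁻¹ ∈ Subgroup.normalizer (A : Set S)) := by
    intro h hh
    have := (Subgroup.mem_normalizer_iff.mp hxn) ⟨h, hh⟩
    simpa [Subgroup.mem_subgroupOf] using this
  have hbx : b = n⁻¹ * (x : S) := by rw [← hnb]; group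
  refine ⟨b, hb, ?_, ?_⟩
  · rw [Subgroup.mem_normalizer_iff]
    intro s
    have e : b * s * b⁻¹ = n⁻¹ * ((x : S) * s * (x : S)⁻¹) * n := by rw [hbx]; group
    constructor
    · intro hs
      have := (hxn' s (le_sup_left (a := Subgroup.normalizer (A : Set S)) hs)).mp hs
      rw [e]
      exact mul_mem (mul_mem (inv_mem hn) this) hn
    · intro hs
      have h3 : (x : S) * s * (x : S)⁻¹ ∈ Subgroup.normalizer (A : Set S) := by
        have e' : (x : S) * s * (x : S)⁻¹ = n * (b * s * b⁻¹) * n⁻¹ := by rw [hbx]; group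
        rw [e']
        exact mul_mem (mul_mem hn hs) (inv_mem hn)
      have hsH : s ∈ Subgroup.normalizer (A : Set S) ⊔ B := by
        have e'' : s = (x : S)⁻¹ * ((x : S) * s * (x : S)⁻¹) * (x : S) := by group
        rw [e'']
        exact mul_mem (mul_mem (inv_mem x.2) (le_sup_left (a := Subgroup.normalizer (A : Set S)) h3)) x.2
      exact (hxn' s hsH).mpr h3
  · intro hbN
    apply hxN
    rw [Subgroup.mem_subgroupOf, ← hnb]
    exact mul_mem hn hbN

end Cfsg.Agent.S0649
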