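import Cfsg.Statements.S0651
import Cfsg.Agent.Lib_helper1_GlaubFam

set_option autoImplicit false
open Cfsg

namespace Cfsg.Agent.S0651

/-- For odd p and D normal in the p-group S, the abelian subgroups of D of largest order satisfy the replacement property: a class-2 normal subgroup B of S with a member containing [B, B] but not B normalizes some such member. -/
theorem result {S : Type*} [Group S] [Finite S] {p : ℕ} [Fact p.Prime] (hS : IsPGroup p S) (hp : p ≠ 2) (D : Subgroup S) [D.Normal] : ∀ (B : Subgroup S) [B.Normal], ⁅⁅B, B⁆, B⁆ = ⊥ → (∃ U ∈ (Set.image (fun A : Subgroup ↥D => A.map D.subtype) (Cfsg.maxAbelianSubgroups ↥D)), ⁅B, B⁆ ≤ U ∧ ¬ B ≤ U) → ∃ A ∈ (Set.image (fun A : Subgroup ↥D => A.map D.subtype) (Cfsg.maxAbelianSubgroups ↥D)), ⁅B, B⁆ ≤ A ∧ ¬ B ≤ A ∧ B ≤ Subgroup.normalizer (A : Set S) := by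
  intro B _ _ hU
  apply Cfsg.Agent.H1GlaubFam.replacement_family hS hp _ ?_ ?_ B hU
  · rintro _ ⟨A₀, hA₀, rfl⟩
    exact Cfsg.Agent.H1GlaubFam.map_subtype_comm D A₀ hA₀.1
  · rintro _ ⟨A₀, hA₀, rfl⟩ b P hPe hcard hcomm hexp
    have hPD : P ≤ D := hPe ▸ Cfsg.Agent.H1GlaubFam.star_le D _ (Subgroup.map_subtype_le A₀) b
    refine ⟨P.subgroupOf D, ⟨Cfsg.Agent.H1GlaubFam.subgroupOf_comm P D hcomm, ?_⟩,
      Subgroup.map_subgroupOf_eq_of_le hPD⟩
    intro B₀ hB₀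
    rw [Cfsg.Agent.Lib_helper1_Hall.card_subgroupOf_of_le hPD, hcard,
      Subgroup.card_map_of_injective D.subtype_injective]
    exact hA₀.2 B₀ hB₀

end Cfsg.Agent.S0651
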