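import Cfsg.Statements.S0655
import Cfsg.Agent.Lib_helper1_Thompson

set_option autoImplicit false
open Cfsg

namespace Cfsg.Agent.S0655

/-- In a p-group the intersection of all elementary abelian subgroups of largest order is the subgroup generated by the elements of order dividing p in the centre (equivalently the centralizer) of the elementary-version Thompson subgroup. -/
theorem result {S : Type*} [Group S] [Finite S] {p : ℕ} [Fact p.Prime] (hS : IsPGroup p S) : sInf (Cfsg.maxElementaryAbelianSubgroups p S) = Cfsg.omegaCenterThompson p S ∧ Cfsg.omegaCenterThompson p S = Cfsg.omegaOne p (Subgroup.centralizer (Cfsg.thompsonSubgroup p S : Set S)) := by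
  have key : ∀ x : S, x ∈ Subgroup.centralizer (Cfsg.thompsonSubgroup p S : Set S) → x ^ p = 1 →
      ∀ A ∈ Cfsg.maxElementaryAbelianSubgroups p S, x ∈ A := by
    intro x hx hxp A hA
    exact Cfsg.Agent.Lib_helper1_Thompson.mem_of_maxEA_of_centralizes hA x
      (Subgroup.centralizer_le (Cfsg.Agent.Lib_helper1_Thompson.maxEA_le_thompson hA) hx) hxp
  obtain ⟨A₀, hA₀⟩ := Cfsg.Agent.Lib_helper1_Thompson.exists_maxEA (G := S) p
  constructor
  · apply le_antisymm
    · intro x hx
      rw [Subgroup.mem_sInf] at hx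
      apply Subgroup.subset_closure
      refine ⟨⟨Cfsg.Agent.Lib_helper1_Thompson.maxEA_le_thompson hA₀ (hx A₀ hA₀), ?_⟩,
        hA₀.1.2 x (hx A₀ hA₀)⟩
      have hle : Cfsg.thompsonSubgroup p S ≤ Subgroup.centralizer ({x} : Set S) := by
        apply sSup_le
        intro A hA a ha
        rw [Subgroup.mem_centralizer_singleton_iff]
        haveI := hA.1.1
        exact setLike_mul_comm ha (hx A hA)
      show x ∈ Subgroup.centralizer (Cfsg.thompsonSubgroup p S : Set S)
      rw [Subgroup.mem_centralizer_iff]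
      intro h hh
      exact (Subgroup.mem_centralizer_singleton_iff.mp (hle hh))
    · unfold Cfsg.omegaCenterThompson Cfsg.omegaOne
      rw [Subgroup.closure_le]
      rintro x ⟨⟨-, hxc⟩, hxp⟩
      rw [SetLike.mem_coe, Subgroup.mem_sInf]
      exact key x hxc hxp
  · unfold Cfsg.omegaCenterThompson Cfsg.omegaOne
    congr 1
    ext x
    constructor
    · rintro ⟨⟨-, hxc⟩, hxp⟩; exact ⟨hxc, hxp⟩
    · rintro ⟨hxc, hxp⟩
      exact ⟨⟨Cfsg.Agent.Lib_helper1_Thompson.maxEA_le_thompson hA₀ (key x hxc hxp A₀ hA₀), hxc⟩, hxp⟩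

end Cfsg.Agent.S0655
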