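import Cfsg.Statements.S1249
import Cfsg.Agent.Lib_helper2_Isolated
import Cfsg.Agent.Lib_helper2_Inv
import Cfsg.Agent.Lib_helper2_Dihedral

set_option autoImplicit false
open Cfsg

namespace Cfsg.Agent.S1249

open Cfsg.Agent.Lib_helper2_Isolated
open Cfsg.Agent.Lib_helper2_Inv
open Cfsg.Agent.Lib_helper2_Dihedral

/-- Let P and Q be Sylow p-subgroups of the finite group G both containing the subgroup A. If A is strongly closed in P, then A is strongly closed in Q. -/
theorem result {G : Type*} [Group G] [Finite G] {p : ℕ} [Fact p.Prime] (P Q : Sylow p G) (A : Subgroup G) (hAQ : A ≤ Q) (hA : Cfsg.IsStronglyClosed A (P : Subgroup G)) : Cfsg.IsStronglyClosed A (Q : Subgroup G) := by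
  obtain ⟨hAP, hsc⟩ := hA
  refine ⟨hAQ, ?_⟩
  obtain ⟨h, hh⟩ := MulAction.exists_smul_eq G Q P
  -- conjugation by h maps A into A
  have hmap : ∀ a ∈ A, h * a * h⁻¹ ∈ A := by
    intro a ha
    exact hsc a ha h (conj_mem_of_smul_eq hh (hAQ ha))
  -- hence onto
  let φ : A → A := fun a => ⟨h * a.1 * h⁻¹, hmap a.1 a.2⟩
  have hinj : Function.Injective φ := by
    intro a b hab
    have : h * a.1 * h⁻¹ = h * b.1 * h⁻¹ := congrArg Subtype.val hab
    exact Subtype.ext (mul_left_cancel (mul_right_cancel this))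
  have hsurj : Function.Surjective φ := Finite.injective_iff_surjective.mp hinj
  intro x hx g hg
  have h1 : h * (g * x * g⁻¹) * h⁻¹ ∈ P := conj_mem_of_smul_eq hh hg
  have e : h * (g * x * g⁻¹) * h⁻¹ = (h * g) * x * (h * g)⁻¹ := by group
  rw [e] at h1
  have h2 := hsc x hx (h * g) h1
  rw [← e] at h2
  obtain ⟨a, ha⟩ := hsurj ⟨_, h2⟩
  have h3 : h * a.1 * h⁻¹ = h * (g * x * g⁻¹) * h⁻¹ := congrArg Subtype.val ha
  have h4 : a.1 = g * x * g⁻¹ := mul_left_cancel (mul_right_cancel h3)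
  rw [← h4]; exact a.2

end Cfsg.Agent.S1249
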