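import Cfsg.Statements.S1250
import Cfsg.Agent.Lib_helper2_Isolated
import Cfsg.Agent.Lib_helper2_Inv
import Cfsg.Agent.Lib_helper2_Dihedral

set_option autoImplicit false
open Cfsg

namespace Cfsg.Agent.S1250

open Cfsg.Agent.Lib_helper2_Isolated
open Cfsg.Agent.Lib_helper2_Inv
open Cfsg.Agent.Lib_helper2_Dihedral

/-- Let S be a Sylow p-subgroup of the finite group G, A ≤ S strongly closed in S, and N a normal subgroup. Then the image of A in G ⧸ N is strongly closed in the image of S (which is a Sylow p-subgroup of G ⧸ N). -/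
theorem result {G : Type*} [Group G] [Finite G] {p : ℕ} [Fact p.Prime] (S : Sylow p G) (A : Subgroup G) (hA : Cfsg.IsStronglyClosed A (S : Subgroup G)) (N : Subgroup G) [N.Normal] : Cfsg.IsStronglyClosed (A.map (QuotientGroup.mk' N)) ((S : Subgroup G).map (QuotientGroup.mk' N)) := by
  obtain ⟨hAS, hsc⟩ := hA
  refine ⟨Subgroup.map_mono hAS, ?_⟩
  rintro _ ⟨a, ha, rfl⟩ q hq
  obtain ⟨g, rfl⟩ := QuotientGroup.mk_surjective q
  obtain ⟨s, hs, hs'⟩ := hq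
  have hs'' : (QuotientGroup.mk s : G ⧸ N) = QuotientGroup.mk (g * a * g⁻¹) := by
    rw [QuotientGroup.mk_mul, QuotientGroup.mk_mul, QuotientGroup.mk_inv]; exact hs'
  have hn : s⁻¹ * (g * a * g⁻¹) ∈ N := QuotientGroup.eq.mp hs''
  -- y = g a g⁻¹ ∈ S ⊔ N
  have hyK : g * a * g⁻¹ ∈ (S : Subgroup G) ⊔ N := by
    have : g * a * g⁻¹ = s * (s⁻¹ * (g * a * g⁻¹)) := by group
    rw [this]
    exact mul_mem (Subgroup.mem_sup_left hs) (Subgroup.mem_sup_right hn)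
  -- y is a p-element
  obtain ⟨k, hk⟩ := (IsPGroup.iff_orderOf.mp S.2) ⟨a, hAS ha⟩
  rw [Subgroup.orderOf_mk] at hk
  have hyo : orderOf (g * a * g⁻¹) = p ^ k := by rw [orderOf_conj_eq]; exact hk
  have hp : IsPGroup p (Subgroup.zpowers (⟨g * a * g⁻¹, hyK⟩ : ((S : Subgroup G) ⊔ N : Subgroup G))) := by
    apply IsPGroup.of_card (n := k)
    rw [Nat.card_zpowers, Subgroup.orderOf_mk, hyo]
  obtain ⟨Q, hQ⟩ := hp.exists_le_sylow
  obtain ⟨m, hm⟩ := MulAction.exists_smul_eq ((S : Subgroup G) ⊔ N : Subgroup G) Q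
    (S.subtype (le_sup_left : (S : Subgroup G) ≤ (S : Subgroup G) ⊔ N))
  have h1 := conj_mem_of_smul_eq hm (hQ (Subgroup.mem_zpowers _))
  have h1' : (m : G) * (g * a * g⁻¹) * (m : G)⁻¹ ∈ S := by
    have h2 : m * ⟨g * a * g⁻¹, hyK⟩ * m⁻¹ ∈
        ((S.subtype (le_sup_left : (S : Subgroup G) ≤ (S : Subgroup G) ⊔ N) :
          Sylow p ((S : Subgroup G) ⊔ N : Subgroup G)) : Subgroup ((S : Subgroup G) ⊔ N : Subgroup G)) := h1
    rw [Sylow.coe_subtype, Subgroup.mem_subgroupOf] at h2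
    exact h2
  -- decompose m
  have hmK : (m : G) ∈ ((↑((S : Subgroup G) ⊔ N) : Set G)) := m.2
  rw [Subgroup.mul_normal] at hmK
  obtain ⟨s', hs'S, n', hn'N, hsn⟩ := hmK
  have hs'S' : s' ∈ (S : Subgroup G) := hs'S
  have hn'N' : n' ∈ N := hn'N
  have hsn' : s' * n' = (m : G) := hsn
  have h3 : n' * (g * a * g⁻¹) * n'⁻¹ ∈ (S : Subgroup G) := by
    have : n' * (g * a * g⁻¹) * n'⁻¹ = s'⁻¹ * ((m : G) * (g * a * g⁻¹) * (m : G)⁻¹) * s' := by
      rw [← hsn']; group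
    rw [this]
    exact mul_mem (mul_mem (inv_mem hs'S') h1') hs'S'
  have e : n' * (g * a * g⁻¹) * n'⁻¹ = (n' * g) * a * (n' * g)⁻¹ := by group
  have h4 : n' * (g * a * g⁻¹) * n'⁻¹ ∈ A := by
    rw [e]; rw [e] at h3
    exact hsc a ha (n' * g) h3
  refine ⟨n' * (g * a * g⁻¹) * n'⁻¹, h4, ?_⟩
  show (QuotientGroup.mk (n' * (g * a * g⁻¹) * n'⁻¹) : G ⧸ N) = _
  have hn1 : (QuotientGroup.mk n' : G ⧸ N) = 1 := (QuotientGroup.eq_one_iff n').mpr hn'N'
  simp only [QuotientGroup.mk_mul, QuotientGroup.mk_inv, hn1, one_mul, inv_one, mul_one]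
  rfl

end Cfsg.Agent.S1250
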