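import Cfsg.Statements.S1611
import Mathlib
import Cfsg.Agent.S0827

set_option autoImplicit false
open Cfsg

namespace Cfsg.Agent.S1611

open Cfsg.Agent.S0827

/-- The concrete field with four elements. -/
abbrev K : Type := Cfsg.Agent.S0827.K4

/-- The generator matrix over `K`. -/
def G (u : K) : Fin 3 → Fin 6 → K :=
  ![![u, u ^ 2, u ^ 2, u, u ^ 2, u], ![u ^ 2, u, u, u ^ 2, u ^ 2, u],
    ![u ^ 2, u, u ^ 2, u, u, u ^ 2]]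

/-- Combinations of the generators. -/
def comb (u : K) (t : Fin 3 → K) : Fin 6 → K := fun i => ∑ m, t m * G u m i

/-- Membership by parity checks. -/
def inH (u : K) (y : Fin 6 → K) : Prop := ∀ m : Fin 3, ∑ i, y i * (G u m i) ^ 2 = 0

instance instDecInH (u : K) (y : Fin 6 → K) : Decidable (inH u y) := by
  unfold inH; infer_instance

/-- The scalars attached to exponents. -/
def cK (k : Fin 6 → Fin 3) (i : Fin 6) : K := K4.w ^ (k i : ℕ)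

/-- The monomial map over `K`. -/
def monoK (σ : Equiv.Perm (Fin 6)) (k : Fin 6 → Fin 3) (y : Fin 6 → K) : Fin 6 → K :=
  fun i => cK k i * y (σ.symm i)

/-- Validity of a monomial map over `K`. -/
def validK (u : K) (σ : Equiv.Perm (Fin 6)) (k : Fin 6 → Fin 3) : Prop :=
  ∀ m : Fin 3, inH u (monoK σ k (G u m))

instance instDecValidK (u : K) (σ : Equiv.Perm (Fin 6)) (k : Fin 6 → Fin 3) :
    Decidable (validK u σ k) := by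
  unfold validK; infer_instance

/-- The decoder. -/
def dec (u : K) (y0 y1 y2 : K) : Fin 3 → K :=
  ![u * y0 + u ^ 2 * y1, u ^ 2 * y0 + u ^ 2 * y1 + y2, y1 + y2]

/-- Witness table for `ω = w`. -/
def tblW : Fin 6 → Fin 6 → Fin 6 → Fin 6 → Fin 3 :=
  ![![![![0, 0, 0, 0, 0, 0], ![0, 0, 0, 0, 0, 0], ![0, 0, 0, 0, 0, 0], ![0, 0, 0, 0, 0, 0], ![0,
    0, 0, 0, 0, 0], ![0, 0, 0, 0, 0, 0]], ![![0, 0, 0, 0, 0, 0], ![0, 0, 0, 0, 0, 0], ![0, 0, 0,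
    0, 1, 2], ![0, 0, 0, 0, 2, 1], ![0, 0, 1, 2, 0, 0], ![0, 0, 2, 1, 0, 0]], ![![0, 0, 0, 0, 0,
    0], ![0, 0, 0, 0, 2, 1], ![0, 0, 0, 0, 0, 0], ![0, 0, 0, 0, 1, 2], ![0, 2, 2, 1, 1, 0], ![0,
    1, 1, 2, 0, 2]], ![![0, 0, 0, 0, 0, 0], ![0, 0, 0, 0, 1, 2], ![0, 0, 0, 0, 2, 1], ![0, 0, 0,
    0, 0, 0], ![0, 1, 2, 1, 2, 0], ![0, 2, 1, 2, 0, 1]], ![![0, 0, 0, 0, 0, 0], ![0, 0, 2, 1, 0,
    0], ![0, 2, 1, 0, 2, 1], ![0, 1, 0, 2, 1, 2], ![0, 0, 0, 0, 0, 0], ![0, 0, 1, 2, 0, 0]],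
    ![![0, 0, 0, 0, 0, 0], ![0, 0, 1, 2, 0, 0], ![0, 1, 2, 0, 2, 1], ![0, 2, 0, 1, 1, 2], ![0,
    0, 2, 1, 0, 0], ![0, 0, 0, 0, 0, 0]]], ![![![0, 0, 0, 0, 0, 0], ![0, 0, 0, 0, 0, 0], ![0, 0,
    0, 0, 2, 1], ![0, 0, 0, 0, 1, 2], ![0, 0, 2, 1, 0, 0], ![0, 0, 1, 2, 0, 0]], ![![0, 0, 0, 0,
    0, 0], ![0, 0, 0, 0, 0, 0], ![0, 0, 0, 0, 0, 0], ![0, 0, 0, 0, 0, 0], ![0, 0, 0, 0, 0, 0],
    ![0, 0, 0, 0, 0, 0]], ![![0, 0, 0, 0, 1, 2], ![0, 0, 0, 0, 0, 0], ![0, 0, 0, 0, 0, 0], ![0,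
    0, 0, 0, 2, 1], ![0, 2, 0, 1, 1, 2], ![0, 1, 0, 2, 1, 2]], ![![0, 0, 0, 0, 2, 1], ![0, 0, 0,
    0, 0, 0], ![0, 0, 0, 0, 1, 2], ![0, 0, 0, 0, 0, 0], ![0, 1, 2, 0, 2, 1], ![0, 2, 1, 0, 2,
    1]], ![![0, 0, 1, 2, 0, 0], ![0, 0, 0, 0, 0, 0], ![0, 2, 1, 2, 0, 1], ![0, 1, 1, 2, 0, 2],
    ![0, 0, 0, 0, 0, 0], ![0, 0, 2, 1, 0, 0]], ![![0, 0, 2, 1, 0, 0], ![0, 0, 0, 0, 0, 0], ![0,
    1, 2, 1, 2, 0], ![0, 2, 2, 1, 1, 0], ![0, 0, 1, 2, 0, 0], ![0, 0, 0, 0, 0, 0]]], ![![![0, 0,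
    0, 0, 0, 0], ![0, 0, 0, 0, 1, 2], ![0, 0, 0, 0, 0, 0], ![0, 0, 0, 0, 2, 1], ![0, 2, 1, 0, 2,
    1], ![0, 1, 2, 0, 2, 1]], ![![0, 0, 0, 0, 2, 1], ![0, 0, 0, 0, 0, 0], ![0, 0, 0, 0, 0, 0],
    ![0, 0, 0, 0, 1, 2], ![0, 2, 1, 2, 0, 1], ![0, 1, 2, 1, 2, 0]], ![![0, 0, 0, 0, 0, 0], ![0,
    0, 0, 0, 0, 0], ![0, 0, 0, 0, 0, 0], ![0, 0, 0, 0, 0, 0], ![0, 0, 0, 0, 0, 0], ![0, 0, 0, 0,
    0, 0]], ![![0, 0, 0, 0, 1, 2], ![0, 0, 0, 0, 2, 1], ![0, 0, 0, 0, 0, 0], ![0, 0, 0, 0, 0,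
    0], ![0, 1, 2, 2, 2, 2], ![0, 2, 1, 1, 1, 1]], ![![0, 2, 2, 1, 1, 0], ![0, 2, 0, 1, 1, 2],
    ![0, 0, 0, 0, 0, 0], ![0, 2, 1, 1, 1, 1], ![0, 0, 0, 0, 0, 0], ![0, 1, 2, 2, 2, 2]], ![![0,
    1, 1, 2, 0, 2], ![0, 1, 0, 2, 1, 2], ![0, 0, 0, 0, 0, 0], ![0, 1, 2, 2, 2, 2], ![0, 2, 1, 1,
    1, 1], ![0, 0, 0, 0, 0, 0]]], ![![![0, 0, 0, 0, 0, 0], ![0, 0, 0, 0, 2, 1], ![0, 0, 0, 0, 1,
    2], ![0, 0, 0, 0, 0, 0], ![0, 1, 0, 2, 1, 2], ![0, 2, 0, 1, 1, 2]], ![![0, 0, 0, 0, 1, 2],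
    ![0, 0, 0, 0, 0, 0], ![0, 0, 0, 0, 2, 1], ![0, 0, 0, 0, 0, 0], ![0, 1, 1, 2, 0, 2], ![0, 2,
    2, 1, 1, 0]], ![![0, 0, 0, 0, 2, 1], ![0, 0, 0, 0, 1, 2], ![0, 0, 0, 0, 0, 0], ![0, 0, 0, 0,
    0, 0], ![0, 2, 1, 1, 1, 1], ![0, 1, 2, 2, 2, 2]], ![![0, 0, 0, 0, 0, 0], ![0, 0, 0, 0, 0,
    0], ![0, 0, 0, 0, 0, 0], ![0, 0, 0, 0, 0, 0], ![0, 0, 0, 0, 0, 0], ![0, 0, 0, 0, 0, 0]],
    ![![0, 1, 2, 1, 2, 0], ![0, 1, 2, 0, 2, 1], ![0, 1, 2, 2, 2, 2], ![0, 0, 0, 0, 0, 0], ![0,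
    0, 0, 0, 0, 0], ![0, 2, 1, 1, 1, 1]], ![![0, 2, 1, 2, 0, 1], ![0, 2, 1, 0, 2, 1], ![0, 2, 1,
    1, 1, 1], ![0, 0, 0, 0, 0, 0], ![0, 1, 2, 2, 2, 2], ![0, 0, 0, 0, 0, 0]]], ![![![0, 0, 0, 0,
    0, 0], ![0, 0, 1, 2, 0, 0], ![0, 2, 2, 1, 1, 0], ![0, 1, 2, 1, 2, 0], ![0, 0, 0, 0, 0, 0],
    ![0, 0, 2, 1, 0, 0]], ![![0, 0, 2, 1, 0, 0], ![0, 0, 0, 0, 0, 0], ![0, 2, 0, 1, 1, 2], ![0,
    1, 2, 0, 2, 1], ![0, 0, 0, 0, 0, 0], ![0, 0, 1, 2, 0, 0]], ![![0, 2, 1, 0, 2, 1], ![0, 2, 1,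
    2, 0, 1], ![0, 0, 0, 0, 0, 0], ![0, 1, 2, 2, 2, 2], ![0, 0, 0, 0, 0, 0], ![0, 2, 1, 1, 1,
    1]], ![![0, 1, 0, 2, 1, 2], ![0, 1, 1, 2, 0, 2], ![0, 2, 1, 1, 1, 1], ![0, 0, 0, 0, 0, 0],
    ![0, 0, 0, 0, 0, 0], ![0, 1, 2, 2, 2, 2]], ![![0, 0, 0, 0, 0, 0], ![0, 0, 0, 0, 0, 0], ![0,
    0, 0, 0, 0, 0], ![0, 0, 0, 0, 0, 0], ![0, 0, 0, 0, 0, 0], ![0, 0, 0, 0, 0, 0]], ![![0, 0, 1,
    2, 0, 0], ![0, 0, 2, 1, 0, 0], ![0, 1, 2, 2, 2, 2], ![0, 2, 1, 1, 1, 1], ![0, 0, 0, 0, 0,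
    0], ![0, 0, 0, 0, 0, 0]]], ![![![0, 0, 0, 0, 0, 0], ![0, 0, 2, 1, 0, 0], ![0, 1, 1, 2, 0,
    2], ![0, 2, 1, 2, 0, 1], ![0, 0, 1, 2, 0, 0], ![0, 0, 0, 0, 0, 0]], ![![0, 0, 1, 2, 0, 0],
    ![0, 0, 0, 0, 0, 0], ![0, 1, 0, 2, 1, 2], ![0, 2, 1, 0, 2, 1], ![0, 0, 2, 1, 0, 0], ![0, 0,
    0, 0, 0, 0]], ![![0, 1, 2, 0, 2, 1], ![0, 1, 2, 1, 2, 0], ![0, 0, 0, 0, 0, 0], ![0, 2, 1, 1,
    1, 1], ![0, 1, 2, 2, 2, 2], ![0, 0, 0, 0, 0, 0]], ![![0, 2, 0, 1, 1, 2], ![0, 2, 2, 1, 1,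
    0], ![0, 1, 2, 2, 2, 2], ![0, 0, 0, 0, 0, 0], ![0, 2, 1, 1, 1, 1], ![0, 0, 0, 0, 0, 0]],
    ![![0, 0, 2, 1, 0, 0], ![0, 0, 1, 2, 0, 0], ![0, 2, 1, 1, 1, 1], ![0, 1, 2, 2, 2, 2], ![0,
    0, 0, 0, 0, 0], ![0, 0, 0, 0, 0, 0]], ![![0, 0, 0, 0, 0, 0], ![0, 0, 0, 0, 0, 0], ![0, 0, 0,
    0, 0, 0], ![0, 0, 0, 0, 0, 0], ![0, 0, 0, 0, 0, 0], ![0, 0, 0, 0, 0, 0]]]]

/-- Witness table for `ω = v`. -/
def tblV : Fin 6 → Fin 6 → Fin 6 → Fin 6 → Fin 3 :=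
  ![![![![0, 0, 0, 0, 0, 0], ![0, 0, 0, 0, 0, 0], ![0, 0, 0, 0, 0, 0], ![0, 0, 0, 0, 0, 0], ![0,
    0, 0, 0, 0, 0], ![0, 0, 0, 0, 0, 0]], ![![0, 0, 0, 0, 0, 0], ![0, 0, 0, 0, 0, 0], ![0, 0, 0,
    0, 2, 1], ![0, 0, 0, 0, 1, 2], ![0, 0, 2, 1, 0, 0], ![0, 0, 1, 2, 0, 0]], ![![0, 0, 0, 0, 0,
    0], ![0, 0, 0, 0, 1, 2], ![0, 0, 0, 0, 0, 0], ![0, 0, 0, 0, 2, 1], ![0, 1, 1, 2, 2, 0], ![0,
    2, 2, 1, 0, 1]], ![![0, 0, 0, 0, 0, 0], ![0, 0, 0, 0, 2, 1], ![0, 0, 0, 0, 1, 2], ![0, 0, 0,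
    0, 0, 0], ![0, 2, 1, 2, 1, 0], ![0, 1, 2, 1, 0, 2]], ![![0, 0, 0, 0, 0, 0], ![0, 0, 1, 2, 0,
    0], ![0, 1, 2, 0, 1, 2], ![0, 2, 0, 1, 2, 1], ![0, 0, 0, 0, 0, 0], ![0, 0, 2, 1, 0, 0]],
    ![![0, 0, 0, 0, 0, 0], ![0, 0, 2, 1, 0, 0], ![0, 2, 1, 0, 1, 2], ![0, 1, 0, 2, 2, 1], ![0,
    0, 1, 2, 0, 0], ![0, 0, 0, 0, 0, 0]]], ![![![0, 0, 0, 0, 0, 0], ![0, 0, 0, 0, 0, 0], ![0, 0,
    0, 0, 1, 2], ![0, 0, 0, 0, 2, 1], ![0, 0, 1, 2, 0, 0], ![0, 0, 2, 1, 0, 0]], ![![0, 0, 0, 0,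
    0, 0], ![0, 0, 0, 0, 0, 0], ![0, 0, 0, 0, 0, 0], ![0, 0, 0, 0, 0, 0], ![0, 0, 0, 0, 0, 0],
    ![0, 0, 0, 0, 0, 0]], ![![0, 0, 0, 0, 2, 1], ![0, 0, 0, 0, 0, 0], ![0, 0, 0, 0, 0, 0], ![0,
    0, 0, 0, 1, 2], ![0, 1, 0, 2, 2, 1], ![0, 2, 0, 1, 2, 1]], ![![0, 0, 0, 0, 1, 2], ![0, 0, 0,
    0, 0, 0], ![0, 0, 0, 0, 2, 1], ![0, 0, 0, 0, 0, 0], ![0, 2, 1, 0, 1, 2], ![0, 1, 2, 0, 1,
    2]], ![![0, 0, 2, 1, 0, 0], ![0, 0, 0, 0, 0, 0], ![0, 1, 2, 1, 0, 2], ![0, 2, 2, 1, 0, 1],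
    ![0, 0, 0, 0, 0, 0], ![0, 0, 1, 2, 0, 0]], ![![0, 0, 1, 2, 0, 0], ![0, 0, 0, 0, 0, 0], ![0,
    2, 1, 2, 1, 0], ![0, 1, 1, 2, 2, 0], ![0, 0, 2, 1, 0, 0], ![0, 0, 0, 0, 0, 0]]], ![![![0, 0,
    0, 0, 0, 0], ![0, 0, 0, 0, 2, 1], ![0, 0, 0, 0, 0, 0], ![0, 0, 0, 0, 1, 2], ![0, 1, 2, 0, 1,
    2], ![0, 2, 1, 0, 1, 2]], ![![0, 0, 0, 0, 1, 2], ![0, 0, 0, 0, 0, 0], ![0, 0, 0, 0, 0, 0],
    ![0, 0, 0, 0, 2, 1], ![0, 1, 2, 1, 0, 2], ![0, 2, 1, 2, 1, 0]], ![![0, 0, 0, 0, 0, 0], ![0,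
    0, 0, 0, 0, 0], ![0, 0, 0, 0, 0, 0], ![0, 0, 0, 0, 0, 0], ![0, 0, 0, 0, 0, 0], ![0, 0, 0, 0,
    0, 0]], ![![0, 0, 0, 0, 2, 1], ![0, 0, 0, 0, 1, 2], ![0, 0, 0, 0, 0, 0], ![0, 0, 0, 0, 0,
    0], ![0, 2, 1, 1, 1, 1], ![0, 1, 2, 2, 2, 2]], ![![0, 1, 1, 2, 2, 0], ![0, 1, 0, 2, 2, 1],
    ![0, 0, 0, 0, 0, 0], ![0, 1, 2, 2, 2, 2], ![0, 0, 0, 0, 0, 0], ![0, 2, 1, 1, 1, 1]], ![![0,
    2, 2, 1, 0, 1], ![0, 2, 0, 1, 2, 1], ![0, 0, 0, 0, 0, 0], ![0, 2, 1, 1, 1, 1], ![0, 1, 2, 2,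
    2, 2], ![0, 0, 0, 0, 0, 0]]], ![![![0, 0, 0, 0, 0, 0], ![0, 0, 0, 0, 1, 2], ![0, 0, 0, 0, 2,
    1], ![0, 0, 0, 0, 0, 0], ![0, 2, 0, 1, 2, 1], ![0, 1, 0, 2, 2, 1]], ![![0, 0, 0, 0, 2, 1],
    ![0, 0, 0, 0, 0, 0], ![0, 0, 0, 0, 1, 2], ![0, 0, 0, 0, 0, 0], ![0, 2, 2, 1, 0, 1], ![0, 1,
    1, 2, 2, 0]], ![![0, 0, 0, 0, 1, 2], ![0, 0, 0, 0, 2, 1], ![0, 0, 0, 0, 0, 0], ![0, 0, 0, 0,
    0, 0], ![0, 1, 2, 2, 2, 2], ![0, 2, 1, 1, 1, 1]], ![![0, 0, 0, 0, 0, 0], ![0, 0, 0, 0, 0,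
    0], ![0, 0, 0, 0, 0, 0], ![0, 0, 0, 0, 0, 0], ![0, 0, 0, 0, 0, 0], ![0, 0, 0, 0, 0, 0]],
    ![![0, 2, 1, 2, 1, 0], ![0, 2, 1, 0, 1, 2], ![0, 2, 1, 1, 1, 1], ![0, 0, 0, 0, 0, 0], ![0,
    0, 0, 0, 0, 0], ![0, 1, 2, 2, 2, 2]], ![![0, 1, 2, 1, 0, 2], ![0, 1, 2, 0, 1, 2], ![0, 1, 2,
    2, 2, 2], ![0, 0, 0, 0, 0, 0], ![0, 2, 1, 1, 1, 1], ![0, 0, 0, 0, 0, 0]]], ![![![0, 0, 0, 0,
    0, 0], ![0, 0, 2, 1, 0, 0], ![0, 1, 1, 2, 2, 0], ![0, 2, 1, 2, 1, 0], ![0, 0, 0, 0, 0, 0],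
    ![0, 0, 1, 2, 0, 0]], ![![0, 0, 1, 2, 0, 0], ![0, 0, 0, 0, 0, 0], ![0, 1, 0, 2, 2, 1], ![0,
    2, 1, 0, 1, 2], ![0, 0, 0, 0, 0, 0], ![0, 0, 2, 1, 0, 0]], ![![0, 1, 2, 0, 1, 2], ![0, 1, 2,
    1, 0, 2], ![0, 0, 0, 0, 0, 0], ![0, 2, 1, 1, 1, 1], ![0, 0, 0, 0, 0, 0], ![0, 1, 2, 2, 2,
    2]], ![![0, 2, 0, 1, 2, 1], ![0, 2, 2, 1, 0, 1], ![0, 1, 2, 2, 2, 2], ![0, 0, 0, 0, 0, 0],
    ![0, 0, 0, 0, 0, 0], ![0, 2, 1, 1, 1, 1]], ![![0, 0, 0, 0, 0, 0], ![0, 0, 0, 0, 0, 0], ![0,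
    0, 0, 0, 0, 0], ![0, 0, 0, 0, 0, 0], ![0, 0, 0, 0, 0, 0], ![0, 0, 0, 0, 0, 0]], ![![0, 0, 2,
    1, 0, 0], ![0, 0, 1, 2, 0, 0], ![0, 2, 1, 1, 1, 1], ![0, 1, 2, 2, 2, 2], ![0, 0, 0, 0, 0,
    0], ![0, 0, 0, 0, 0, 0]]], ![![![0, 0, 0, 0, 0, 0], ![0, 0, 1, 2, 0, 0], ![0, 2, 2, 1, 0,
    1], ![0, 1, 2, 1, 0, 2], ![0, 0, 2, 1, 0, 0], ![0, 0, 0, 0, 0, 0]], ![![0, 0, 2, 1, 0, 0],
    ![0, 0, 0, 0, 0, 0], ![0, 2, 0, 1, 2, 1], ![0, 1, 2, 0, 1, 2], ![0, 0, 1, 2, 0, 0], ![0, 0,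
    0, 0, 0, 0]], ![![0, 2, 1, 0, 1, 2], ![0, 2, 1, 2, 1, 0], ![0, 0, 0, 0, 0, 0], ![0, 1, 2, 2,
    2, 2], ![0, 2, 1, 1, 1, 1], ![0, 0, 0, 0, 0, 0]], ![![0, 1, 0, 2, 2, 1], ![0, 1, 1, 2, 2,
    0], ![0, 2, 1, 1, 1, 1], ![0, 0, 0, 0, 0, 0], ![0, 1, 2, 2, 2, 2], ![0, 0, 0, 0, 0, 0]],
    ![![0, 0, 1, 2, 0, 0], ![0, 0, 2, 1, 0, 0], ![0, 1, 2, 2, 2, 2], ![0, 2, 1, 1, 1, 1], ![0,
    0, 0, 0, 0, 0], ![0, 0, 0, 0, 0, 0]], ![![0, 0, 0, 0, 0, 0], ![0, 0, 0, 0, 0, 0], ![0, 0, 0,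
    0, 0, 0], ![0, 0, 0, 0, 0, 0], ![0, 0, 0, 0, 0, 0], ![0, 0, 0, 0, 0, 0]]]]

/-- Witness table. -/
def tbl (u : K) : Fin 6 → Fin 6 → Fin 6 → Fin 6 → Fin 3 := if u = K4.w then tblW else tblV

theorem d1 : ∀ u : K, u ^ 2 + u + 1 = 0 → ∀ m : Fin 3, inH u (G u m) := by decide +kernel

theorem d2 : ∀ u : K, u ^ 2 + u + 1 = 0 → ∀ y0 y1 y2 y3 y4 y5 : K,
    inH u ![y0, y1, y2, y3, y4, y5] → comb u (dec u y0 y1 y2) = ![y0, y1, y2, y3, y4, y5] := by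
  decide +kernel

theorem d3 : ∀ u : K, u ^ 2 + u + 1 = 0 → ∀ k0 k1 k2 k3 k4 k5 : Fin 3,
    validK u 1 ![k0, k1, k2, k3, k4, k5] →
      k0 = k1 ∧ k0 = k2 ∧ k0 = k3 ∧ k0 = k4 ∧ k0 = k5 := by
  decide +kernel

theorem d4 : ∀ u : K, u ^ 2 + u + 1 = 0 → ∀ k0 k1 k2 k3 k4 k5 : Fin 3,
    ¬ validK u (Equiv.swap 0 1) ![k0, k1, k2, k3, k4, k5] := by
  decide +kernel

theorem d5 : ∀ u : K, u ^ 2 + u + 1 = 0 → ∀ a b c : Fin 6, a ≠ b → a ≠ c → b ≠ c →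
    validK u (Equiv.swap a b * Equiv.swap a c) (tbl u a b c) := by
  decide +kernel

theorem d6 : ∀ y : K, y ≠ 0 → ∃ j : Fin 3, y = K4.w ^ (j : ℕ) := by decide +kernel

theorem d7 : ∀ j : Fin 3, K4.w ^ (j : ℕ) ≠ 0 := by decide +kernel



theorem eta6 {α : Type*} (y : Fin 6 → α) : y = ![y 0, y 1, y 2, y 3, y 4, y 5] := by
  funext i
  fin_cases i <;> rfl

theorem inH_lin (u : K) (z : Fin 3 → Fin 6 → K) (hz : ∀ m', inH u (z m')) (t : Fin 3 → K) :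
    inH u (fun i => ∑ m', t m' * z m' i) := by
  intro m
  calc ∑ i, (∑ m', t m' * z m' i) * G u m i ^ 2
      = ∑ i, ∑ m', t m' * (z m' i * G u m i ^ 2) := by
        refine Finset.sum_congr rfl fun i _ => ?_
        rw [Finset.sum_mul]
        refine Finset.sum_congr rfl fun m' _ => ?_
        ring
    _ = ∑ m', ∑ i, t m' * (z m' i * G u m i ^ 2) := Finset.sum_comm
    _ = ∑ m', t m' * ∑ i, z m' i * G u m i ^ 2 := by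
        refine Finset.sum_congr rfl fun m' _ => ?_
        rw [Finset.mul_sum]
    _ = 0 := by
        refine Finset.sum_eq_zero fun m' _ => ?_
        rw [hz m' m, mul_zero]

theorem inH_comb (u : K) (hu : u ^ 2 + u + 1 = 0) (t : Fin 3 → K) : inH u (comb u t) :=
  inH_lin u (G u) (d1 u hu) t

theorem monoK_comb (σ : Equiv.Perm (Fin 6)) (k : Fin 6 → Fin 3) (u : K) (t : Fin 3 → K) :
    monoK σ k (comb u t) = fun i => ∑ m', t m' * monoK σ k (G u m') i := by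
  funext i
  simp only [monoK, comb]
  rw [Finset.mul_sum]
  refine Finset.sum_congr rfl fun m' _ => ?_
  ring

theorem memK_iff (u : K) (hu : u ^ 2 + u + 1 = 0) (y : Fin 6 → K) :
    inH u y ↔ ∃ t : Fin 3 → K, comb u t = y := by
  constructor
  · intro h
    rw [eta6 y] at h
    have h2 := d2 u hu _ _ _ _ _ _ h
    exact ⟨_, h2.trans (eta6 y).symm⟩
  · rintro ⟨t, rfl⟩
    exact inH_comb u hu t

section Transport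
variable {F : Type*} [Field F]

/-- Transport of vectors. -/
def E (e : K →+* F) (y : Fin 6 → K) : Fin 6 → F := fun i => e (y i)

theorem E_inj (e : K →+* F) : Function.Injective (E e) := by
  intro y z h
  funext i
  exact e.injective (congrFun h i)

theorem E_comb (e : K →+* F) (u : K) (t : Fin 3 → K) :
    E e (comb u t) = e (t 0) • ![e u, e u ^ 2, e u ^ 2, e u, e u ^ 2, e u]
      + e (t 1) • ![e u ^ 2, e u, e u, e u ^ 2, e u ^ 2, e u]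
      + e (t 2) • ![e u ^ 2, e u, e u ^ 2, e u, e u, e u ^ 2] := by
  funext i
  fin_cases i <;> simp [E, comb, G, Fin.sum_univ_three, map_add, map_mul, map_pow]

theorem hex_iff (e : K →+* F) (he : Function.Surjective e) (u : K) (x : Fin 6 → F) :
    x ∈ Cfsg.hexacode F (e u) ↔ ∃ t : Fin 3 → K, E e (comb u t) = x := by
  unfold Cfsg.hexacode
  rw [Submodule.mem_span_triple]
  constructor
  · rintro ⟨a, b, c, rfl⟩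
    obtain ⟨a0, rfl⟩ := he a
    obtain ⟨b0, rfl⟩ := he b
    obtain ⟨c0, rfl⟩ := he c
    exact ⟨![a0, b0, c0], E_comb e u ![a0, b0, c0]⟩
  · rintro ⟨t, rfl⟩
    exact ⟨e (t 0), e (t 1), e (t 2), (E_comb e u t).symm⟩

theorem memF (e : K →+* F) (he : Function.Surjective e) (u : K) (hu : u ^ 2 + u + 1 = 0)
    (x : Fin 6 → F) : x ∈ Cfsg.hexacode F (e u) ↔ ∃ y, inH u y ∧ E e y = x := by
  rw [hex_iff e he u x]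
  constructor
  · rintro ⟨t, rfl⟩
    exact ⟨comb u t, inH_comb u hu t, rfl⟩
  · rintro ⟨y, hy, rfl⟩
    obtain ⟨t, rfl⟩ := (memK_iff u hu y).mp hy
    exact ⟨t, rfl⟩

theorem exists_k (e : K →+* F) (he : Function.Surjective e) (c : Fin 6 → Fˣ) :
    ∃ k : Fin 6 → Fin 3, ∀ i, (c i : F) = e (cK k i) := by
  have h : ∀ i, ∃ j : Fin 3, (c i : F) = e (K4.w ^ (j : ℕ)) := by
    intro i
    obtain ⟨y, hy⟩ := he (c i : F)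
    have hy0 : y ≠ 0 := by
      rintro rfl
      rw [map_zero] at hy
      exact (c i).ne_zero hy.symm
    obtain ⟨j, rfl⟩ := d6 y hy0
    exact ⟨j, hy.symm⟩
  choose k hk using h
  exact ⟨k, hk⟩

/-- Units from exponents. -/
def cF (e : K →+* F) (k : Fin 6 → Fin 3) (i : Fin 6) : Fˣ :=
  Units.mk0 (e (cK k i)) (by
    rw [Ne, map_eq_zero]
    exact d7 (k i))

theorem mono_E (e : K →+* F) (σ : Equiv.Perm (Fin 6)) (c : Fin 6 → Fˣ) (k : Fin 6 → Fin 3)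
    (hk : ∀ i, (c i : F) = e (cK k i)) (y : Fin 6 → K) :
    Cfsg.monomialMap σ c (E e y) = E e (monoK σ k y) := by
  funext i
  simp only [Cfsg.monomialMap, E, monoK, hk i, map_mul]

/-- Validity over `F`. -/
def V (e : K →+* F) (u : K) (σ : Equiv.Perm (Fin 6)) (c : Fin 6 → Fˣ) : Prop :=
  ∀ x ∈ Cfsg.hexacode F (e u), Cfsg.monomialMap σ c x ∈ Cfsg.hexacode F (e u)

theorem V_iff (e : K →+* F) (he : Function.Surjective e) (u : K) (hu : u ^ 2 + u + 1 = 0)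
    (σ : Equiv.Perm (Fin 6)) (c : Fin 6 → Fˣ) (k : Fin 6 → Fin 3)
    (hk : ∀ i, (c i : F) = e (cK k i)) : V e u σ c ↔ validK u σ k := by
  constructor
  · intro hV m
    have h1 : E e (G u m) ∈ Cfsg.hexacode F (e u) :=
      (memF e he u hu _).mpr ⟨G u m, d1 u hu m, rfl⟩
    have h2 := hV _ h1
    rw [mono_E e σ c k hk] at h2
    obtain ⟨y', hy', hEy⟩ := (memF e he u hu _).mp h2
    rw [E_inj e hEy] at hy'
    exact hy'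
  · intro hv x hx
    obtain ⟨y, hy, rfl⟩ := (memF e he u hu x).mp hx
    obtain ⟨t, rfl⟩ := (memK_iff u hu y).mp hy
    rw [mono_E e σ c k hk]
    refine (memF e he u hu _).mpr ⟨_, ?_, rfl⟩
    rw [monoK_comb]
    exact inH_lin u _ hv t

theorem V_one (e : K →+* F) (u : K) : V e u 1 1 := by
  intro x hx
  have h : Cfsg.monomialMap (1 : Equiv.Perm (Fin 6)) (1 : Fin 6 → Fˣ) x = x := by
    funext i
    have h0 : (1 : Equiv.Perm (Fin 6)).symm i = i := rfl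
    simp only [Cfsg.monomialMap, h0, Pi.one_apply, Units.val_one, one_mul]
  rw [h]
  exact hx

theorem mono_mul (σ τ : Equiv.Perm (Fin 6)) (c c' : Fin 6 → Fˣ) (x : Fin 6 → F) :
    Cfsg.monomialMap (σ * τ) (fun i => c i * c' (σ.symm i)) x
      = Cfsg.monomialMap σ c (Cfsg.monomialMap τ c' x) := by
  funext i
  simp only [Cfsg.monomialMap, Units.val_mul]
  rw [mul_assoc]
  rfl

theorem V_mul (e : K →+* F) (u : K) {σ τ : Equiv.Perm (Fin 6)} {c c' : Fin 6 → Fˣ}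
    (h1 : V e u σ c) (h2 : V e u τ c') : V e u (σ * τ) (fun i => c i * c' (σ.symm i)) := by
  intro x hx
  rw [mono_mul]
  exact h1 _ (h2 x hx)

theorem V_smul (e : K →+* F) (u : K) {σ : Equiv.Perm (Fin 6)} {c : Fin 6 → Fˣ} (l : Fˣ)
    (h : V e u σ c) : V e u σ (fun i => l * c i) := by
  intro x hx
  have h1 : Cfsg.monomialMap σ (fun i => l * c i) x = (l : F) • Cfsg.monomialMap σ c x := by
    funext i
    simp only [Cfsg.monomialMap, Units.val_mul, Pi.smul_apply, smul_eq_mul, mul_assoc]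
  rw [h1]
  exact Submodule.smul_mem _ _ (h x hx)

theorem V_inv [Finite F] (e : K →+* F) (u : K) {σ : Equiv.Perm (Fin 6)} {c : Fin 6 → Fˣ}
    (h : V e u σ c) : V e u σ⁻¹ (fun i => (c (σ i))⁻¹) := by
  have hleft : ∀ x : Fin 6 → F,
      Cfsg.monomialMap σ⁻¹ (fun i => (c (σ i))⁻¹) (Cfsg.monomialMap σ c x) = x := by
    intro x
    funext i
    simp only [Cfsg.monomialMap]
    have h1 : (σ⁻¹).symm i = σ i := rfl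
    rw [h1, Equiv.symm_apply_apply, ← mul_assoc, ← Units.val_mul, inv_mul_cancel, Units.val_one,
      one_mul]
  have hf : Function.Injective (fun x : ↥(Cfsg.hexacode F (e u)) =>
      (⟨Cfsg.monomialMap σ c x.1, h x.1 x.2⟩ : ↥(Cfsg.hexacode F (e u)))) := by
    intro x y hxy
    apply Subtype.ext
    have h2 : Cfsg.monomialMap σ c x.1 = Cfsg.monomialMap σ c y.1 := congrArg Subtype.val hxy
    have h3 := congrArg (Cfsg.monomialMap σ⁻¹ (fun i => (c (σ i))⁻¹)) h2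
    rw [hleft, hleft] at h3
    exact h3
  have hs := Finite.surjective_of_injective hf
  intro y hy
  obtain ⟨x, hx⟩ := hs ⟨y, hy⟩
  have h4 : Cfsg.monomialMap σ c x.1 = y := congrArg Subtype.val hx
  rw [← h4, hleft]
  exact x.2

end Transport



section Grp
variable {F : Type*} [Field F]

/-- The permutation parts. -/
def T (e : K →+* F) (u : K) : Set (Equiv.Perm (Fin 6)) := {σ | ∃ c, V e u σ c}

theorem T_one (e : K →+* F) (u : K) : (1 : Equiv.Perm (Fin 6)) ∈ T e u := ⟨1, V_one e u⟩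

theorem T_mul (e : K →+* F) (u : K) {σ τ : Equiv.Perm (Fin 6)} (hσ : σ ∈ T e u)
    (hτ : τ ∈ T e u) : σ * τ ∈ T e u := by
  obtain ⟨c, hc⟩ := hσ
  obtain ⟨c', hc'⟩ := hτ
  exact ⟨_, V_mul e u hc hc'⟩

theorem T_swap_same (e : K →+* F) (he : Function.Surjective e) (u : K)
    (hu : u ^ 2 + u + 1 = 0) (a b c : Fin 6) (ab : a ≠ b) (ac : a ≠ c) :
    Equiv.swap a b * Equiv.swap a c ∈ T e u := by
  by_cases bc : b = c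
  · subst bc
    rw [Equiv.swap_mul_self]
    exact T_one e u
  · exact ⟨cF e (tbl u a b c),
      (V_iff e he u hu _ _ (tbl u a b c) (fun i => rfl)).mpr (d5 u hu a b c ab ac bc)⟩

theorem T_isSwap (e : K →+* F) (he : Function.Surjective e) (u : K)
    (hu : u ^ 2 + u + 1 = 0) {σ τ : Equiv.Perm (Fin 6)} (hσ : σ.IsSwap) (hτ : τ.IsSwap) :
    σ * τ ∈ T e u := by
  obtain ⟨a, b, ab, rfl⟩ := hσ
  obtain ⟨c, d, cd, rfl⟩ := hτ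
  by_cases ac : a = c
  · subst ac
    exact T_swap_same e he u hu a b d ab cd
  have h' : Equiv.swap a b * Equiv.swap c d
      = Equiv.swap a b * Equiv.swap a c * (Equiv.swap c a * Equiv.swap c d) := by
    simp [Equiv.swap_comm c a, mul_assoc]
  rw [h']
  exact T_mul e u (T_swap_same e he u hu a b c ab ac)
    (T_swap_same e he u hu c a d (Ne.symm ac) cd)

theorem alt_le_T (e : K →+* F) (he : Function.Surjective e) (u : K)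
    (hu : u ^ 2 + u + 1 = 0) (σ : Equiv.Perm (Fin 6)) (hσ : σ ∈ alternatingGroup (Fin 6)) :
    σ ∈ T e u := by
  suffices hind : ∀ (n : ℕ) (l : List (Equiv.Perm (Fin 6))) (_ : ∀ g, g ∈ l → g.IsSwap)
      (_ : l.length = 2 * n), l.prod ∈ T e u by
    obtain ⟨l, rfl, hl⟩ := Equiv.Perm.truncSwapFactors σ
    obtain ⟨n, hn⟩ := (Equiv.Perm.prod_list_swap_mem_alternatingGroup_iff_even_length hl).1 hσ
    rw [← two_mul] at hn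
    exact hind n l hl hn
  intro n
  induction n with
  | zero =>
    intro l hl hn
    rw [List.length_eq_zero_iff.1 hn, List.prod_nil]
    exact T_one e u
  | succ n ih =>
    intro l hl hn
    rw [Nat.mul_succ] at hn
    obtain ⟨a, l, rfl⟩ := l.exists_of_length_succ hn
    rw [List.length_cons, Nat.succ_inj] at hn
    obtain ⟨b, l, rfl⟩ := l.exists_of_length_succ hn
    rw [List.prod_cons, List.prod_cons, ← mul_assoc]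
    rw [List.length_cons, Nat.succ_inj] at hn
    exact T_mul e u
      (T_isSwap e he u hu (hl a List.mem_cons_self)
        (hl b (List.mem_cons_of_mem a List.mem_cons_self)))
      (ih _ (fun g hg => hl g (List.mem_cons_of_mem _ (List.mem_cons_of_mem _ hg))) hn)

theorem T_le_alt (e : K →+* F) (he : Function.Surjective e) (u : K)
    (hu : u ^ 2 + u + 1 = 0) (σ : Equiv.Perm (Fin 6)) (hσ : σ ∈ T e u) :
    σ ∈ alternatingGroup (Fin 6) := by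
  by_contra hodd
  have hs : Equiv.Perm.sign σ = -1 := by
    rcases Int.units_eq_one_or (Equiv.Perm.sign σ) with h | h
    · exact absurd (Equiv.Perm.mem_alternatingGroup.mpr h) hodd
    · exact h
  have h1 : Equiv.swap (0 : Fin 6) 1 * σ⁻¹ ∈ alternatingGroup (Fin 6) := by
    rw [Equiv.Perm.mem_alternatingGroup, map_mul, map_inv, hs,
      Equiv.Perm.sign_swap (by decide)]
    decide
  have h2 : Equiv.swap (0 : Fin 6) 1 ∈ T e u := by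
    have h3 := T_mul e u (alt_le_T e he u hu _ h1) hσ
    rwa [inv_mul_cancel_right] at h3
  obtain ⟨c, hc⟩ := h2
  obtain ⟨k, hk⟩ := exists_k e he c
  have hv := (V_iff e he u hu _ c k hk).mp hc
  rw [eta6 k] at hv
  exact d4 u hu _ _ _ _ _ _ hv

theorem diag_const (e : K →+* F) (he : Function.Surjective e) (u : K)
    (hu : u ^ 2 + u + 1 = 0) (c : Fin 6 → Fˣ) (hc : V e u 1 c) : ∀ i j, c i = c j := by
  obtain ⟨k, hk⟩ := exists_k e he c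
  have hv := (V_iff e he u hu _ c k hk).mp hc
  rw [eta6 k] at hv
  obtain ⟨h1, h2, h3, h4, h5⟩ := d3 u hu _ _ _ _ _ _ hv
  have hconst : ∀ i, k i = k 0 := by
    intro i
    fin_cases i
    · rfl
    · exact h1.symm
    · exact h2.symm
    · exact h3.symm
    · exact h4.symm
    · exact h5.symm
  intro i j
  apply Units.ext
  rw [hk i, hk j]
  unfold cK
  rw [hconst i, hconst j]

theorem count [Fintype F] (hF : Fintype.card F = 4) (e : K →+* F) (he : Function.Surjective e)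
    (u : K) (hu : u ^ 2 + u + 1 = 0) :
    Nat.card {f : Equiv.Perm (Fin 6) × (Fin 6 → Fˣ) // V e u f.1 f.2} = 1080 := by
  classical
  have hex : ∀ σ : alternatingGroup (Fin 6), ∃ c, V e u σ.1 c :=
    fun σ => alt_le_T e he u hu σ.1 σ.2
  choose c0 hc0 using hex
  have hinj : Function.Injective (fun p : alternatingGroup (Fin 6) × Fˣ =>
      (⟨(p.1.1, fun i => p.2 * c0 p.1 i), V_smul e u p.2 (hc0 p.1)⟩ :
        {f : Equiv.Perm (Fin 6) × (Fin 6 → Fˣ) // V e u f.1 f.2})) := by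
    rintro ⟨σ, l⟩ ⟨σ', l'⟩ h
    have h1 := congrArg Subtype.val h
    have h2 : σ.1 = σ'.1 := congrArg Prod.fst h1
    have h3 : σ = σ' := Subtype.ext h2
    subst h3
    have h4 : (fun i => l * c0 σ i) = (fun i => l' * c0 σ i) := congrArg Prod.snd h1
    have h5 : l * c0 σ 0 = l' * c0 σ 0 := congrFun h4 0
    have h6 : l = l' := mul_right_cancel h5
    rw [h6]
  have hsurj : Function.Surjective (fun p : alternatingGroup (Fin 6) × Fˣ =>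
      (⟨(p.1.1, fun i => p.2 * c0 p.1 i), V_smul e u p.2 (hc0 p.1)⟩ :
        {f : Equiv.Perm (Fin 6) × (Fin 6 → Fˣ) // V e u f.1 f.2})) := by
    rintro ⟨⟨σ, c⟩, hV⟩
    have hσ : σ ∈ alternatingGroup (Fin 6) := T_le_alt e he u hu σ ⟨c, hV⟩
    have h1 := V_inv e u (hc0 ⟨σ, hσ⟩)
    have h2 := V_mul e u hV h1
    have h3 : V e u 1 (fun i => c i * (c0 ⟨σ, hσ⟩ i)⁻¹) := by
      have h : (fun i => c i * (c0 ⟨σ, hσ⟩ (σ (σ.symm i)))⁻¹)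
          = (fun i => c i * (c0 ⟨σ, hσ⟩ i)⁻¹) := by
        funext i
        rw [Equiv.apply_symm_apply]
      rw [mul_inv_cancel] at h2
      rw [← h]
      exact h2
    have h4 := diag_const e he u hu _ h3
    refine ⟨(⟨σ, hσ⟩, c 0 * (c0 ⟨σ, hσ⟩ 0)⁻¹), ?_⟩
    apply Subtype.ext
    apply Prod.ext
    · rfl
    · funext i
      show c 0 * (c0 ⟨σ, hσ⟩ 0)⁻¹ * c0 ⟨σ, hσ⟩ i = c i
      have h5 : c 0 * (c0 ⟨σ, hσ⟩ 0)⁻¹ = c i * (c0 ⟨σ, hσ⟩ i)⁻¹ := h4 0 i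
      rw [h5, inv_mul_cancel_right]
  rw [← Nat.card_congr (Equiv.ofBijective _ ⟨hinj, hsurj⟩), Nat.card_prod,
    nat_card_alternatingGroup, Nat.card_units, Nat.card_eq_fintype_card (α := F), hF,
    Nat.card_eq_fintype_card, Fintype.card_fin]
  decide

end Grp

theorem main (F : Type*) [Field F] [Fintype F] [DecidableEq F] (hF : Fintype.card F = 4) (ω : F)
    (hω : ω ^ 2 + ω + 1 = 0) :
    Nat.card {f : Equiv.Perm (Fin 6) × (Fin 6 → Fˣ) //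
        (∀ x ∈ Cfsg.hexacode F ω, Cfsg.monomialMap f.1 f.2 x ∈ Cfsg.hexacode F ω)} = 1080 ∧
      (∀ c : Fin 6 → Fˣ, (∀ x ∈ Cfsg.hexacode F ω, Cfsg.monomialMap 1 c x ∈ Cfsg.hexacode F ω) →
        ∀ i j, c i = c j) ∧
      {σ : Equiv.Perm (Fin 6) | ∃ c : Fin 6 → Fˣ,
        (∀ x ∈ Cfsg.hexacode F ω, Cfsg.monomialMap σ c x ∈ Cfsg.hexacode F ω)}
        = (alternatingGroup (Fin 6) : Set (Equiv.Perm (Fin 6))) := by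
  obtain ⟨e0⟩ : Nonempty (K ≃+* F) :=
    ⟨FiniteField.ringEquivOfCardEq (by rw [hF]; rfl)⟩
  obtain ⟨e, hinj, hsurj⟩ : ∃ e : K →+* F, Function.Injective e ∧ Function.Surjective e :=
    ⟨e0.toRingHom, e0.injective, e0.surjective⟩
  obtain ⟨u, rfl⟩ := hsurj ω
  have hroot : u ^ 2 + u + 1 = 0 := by
    apply hinj
    rw [map_add, map_add, map_pow, map_one, map_zero, hω]
  refine ⟨count hF e hsurj u hroot, fun c hc => diag_const e hsurj u hroot c hc, ?_⟩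
  ext σ
  constructor
  · intro h
    exact T_le_alt e hsurj u hroot σ h
  · intro h
    exact alt_le_T e hsurj u hroot σ h



/-- The monomial automorphism group of the hexacode has order 1080: its diagonal part is the scalars and its permutation parts form the alternating group of degree 6. -/
theorem result (F : Type*) [Field F] [Fintype F] [DecidableEq F] (hF : Fintype.card F = 4) (ω : F) (hω : ω ^ 2 + ω + 1 = 0) : Nat.card {f : Equiv.Perm (Fin 6) × (Fin 6 → Fˣ) // (∀ x ∈ Cfsg.hexacode F ω, Cfsg.monomialMap f.1 f.2 x ∈ Cfsg.hexacode F ω)} = 1080 ∧ (∀ c : Fin 6 → Fˣ, (∀ x ∈ Cfsg.hexacode F ω, Cfsg.monomialMap 1 c x ∈ Cfsg.hexacode F ω) → ∀ i j, c i = c j) ∧ {σ : Equiv.Perm (Fin 6) | ∃ c : Fin 6 → Fˣ, (∀ x ∈ Cfsg.hexacode F ω, Cfsg.monomialMap σ c x ∈ Cfsg.hexacode F ω)} = (alternatingGroup (Fin 6) : Set (Equiv.Perm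 (Fin 6))) := by
  exact main F hF ω hω

end Cfsg.Agent.S1611
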