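import Cfsg.Statements.S2164
import Mathlib
import Cfsg.Agent.Lib_helper8_HermWitt
import Cfsg.Agent.Lib_helper4_SU
import Cfsg.Agent.Lib_helper4_Transv
import Cfsg.Agent.Lib_helper8_Transv
import Cfsg.Agent.S2677

set_option autoImplicit false
open Cfsg

namespace Cfsg.Agent.S2164

section Aux
open Matrix Cfsg.Agent.Lib_helper4_Herm Cfsg.Agent.Lib_helper4_GU Cfsg.Agent.Lib_helper4_SUCenter
  Cfsg.Agent.Lib_helper8_HermWitt

variable {K : Type*} [Field K] [Fintype K] {q n : ℕ}

/-- `a` is the involution attached to the dual system `w, u`. -/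
def NF (q : ℕ) (a : Matrix (Fin n) (Fin n) K) (k : ℕ) (w u : Fin k → Fin n → K) : Prop :=
  (∀ i j, Cfsg.hermForm n K q (w i) (w j) = 0) ∧
  (∀ i j, Cfsg.hermForm n K q (w i) (u j) = if i = j then 1 else 0) ∧
  (∀ x, a *ᵥ x = x + ∑ i, Cfsg.hermForm n K q x (w i) • w i)

omit [Fintype K] in
theorem li_of_dual {k : ℕ} (w u : Fin k → Fin n → K)
    (hwu : ∀ i j, Cfsg.hermForm n K q (w i) (u j) = if i = j then 1 else 0) :
    LinearIndependent K w := by
  rw [Fintype.linearIndependent_iff]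
  intro g hg j
  have h1 : Cfsg.hermForm n K q (∑ i, g i • w i) (u j) = g j := by
    rw [herm_sum_left]
    simp only [herm_smul_left, hwu]
    simp
  rw [hg, herm_zero_left] at h1
  exact h1.symm

/-- The form `β(x, y) = h(N x, y)`. -/
def bet (q : ℕ) (N : Matrix (Fin n) (Fin n) K) (x y : Fin n → K) : K :=
  Cfsg.hermForm n K q (N *ᵥ x) y

omit [Fintype K] in
theorem bet_add_left (N : Matrix (Fin n) (Fin n) K) (x x' y : Fin n → K) :
    bet q N (x + x') y = bet q N x y + bet q N x' y := by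
  unfold bet; rw [mulVec_add, herm_add_left]

omit [Fintype K] in
theorem bet_smul_left (N : Matrix (Fin n) (Fin n) K) (c : K) (x y : Fin n → K) :
    bet q N (c • x) y = c * bet q N x y := by
  unfold bet; rw [mulVec_smul, herm_smul_left]

omit [Fintype K] in
theorem bet_sub_left (N : Matrix (Fin n) (Fin n) K) (x x' y : Fin n → K) :
    bet q N (x - x') y = bet q N x y - bet q N x' y := by
  unfold bet; rw [mulVec_sub, herm_sub_left]

omit [Fintype K] in
theorem bet_sum_left (N : Matrix (Fin n) (Fin n) K) {ι : Type*} (s : Finset ι)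
    (f : ι → Fin n → K) (y : Fin n → K) :
    bet q N (∑ i ∈ s, f i) y = ∑ i ∈ s, bet q N (f i) y := by
  unfold bet; rw [mulVec_sum, herm_sum_left]

theorem bet_add_right (hK : Fintype.card K = q ^ 2) (N : Matrix (Fin n) (Fin n) K)
    (x y y' : Fin n → K) : bet q N x (y + y') = bet q N x y + bet q N x y' := by
  unfold bet; rw [herm_add_right hK]

omit [Fintype K] in
theorem bet_smul_right (N : Matrix (Fin n) (Fin n) K) (c : K) (x y : Fin n → K) :
    bet q N x (c • y) = c ^ q * bet q N x y := by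
  unfold bet; rw [herm_smul_right]

theorem bet_conj (hK : Fintype.card K = q ^ 2) (N : Matrix (Fin n) (Fin n) K)
    (hN : ∀ u v, Cfsg.hermForm n K q (N *ᵥ u) v = Cfsg.hermForm n K q u (N *ᵥ v))
    (x y : Fin n → K) : (bet q N x y) ^ q = bet q N y x := by
  unfold bet; rw [herm_conj hK, hN]

/-- A unit vector in the span of two vectors with non-zero pairing. -/
theorem exists_unit_comb (hK : Fintype.card K = q ^ 2) (N : Matrix (Fin n) (Fin n) K)
    (hN : ∀ u v, Cfsg.hermForm n K q (N *ᵥ u) v = Cfsg.hermForm n K q u (N *ᵥ v))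
    (y z : Fin n → K) (hyz : bet q N y z ≠ 0) :
    ∃ c d : K, bet q N (c • y + d • z) (c • y + d • z) = 1 := by
  have hunit : ∀ v : Fin n → K, bet q N v v ≠ 0 → ∃ μ : K, bet q N (μ • v) (μ • v) = 1 := by
    intro v hv
    have hfix : ((bet q N v v)⁻¹) ^ q = (bet q N v v)⁻¹ := by rw [inv_pow, bet_conj hK N hN]
    obtain ⟨μ, hμ⟩ := Cfsg.Agent.S2677.norm_surj hK _ (inv_ne_zero hv) hfix
    refine ⟨μ, ?_⟩
    rw [bet_smul_left, bet_smul_right, ← mul_assoc, ← pow_succ', hμ, inv_mul_cancel₀ hv]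
  by_cases hy : bet q N y y = 0
  · by_cases hz : bet q N z z = 0
    · have hzy : bet q N z y ≠ 0 := by
        rw [← bet_conj hK N hN y z]; exact pow_ne_zero _ hyz
      obtain ⟨c, hc⟩ := Cfsg.Agent.S2644.trace_surj' hK _ hzy 1 (one_pow q)
      refine ⟨1, c, ?_⟩
      rw [one_smul, bet_add_left, bet_add_right hK, bet_add_right hK, bet_smul_left, bet_smul_left,
        bet_smul_right, bet_smul_right, hy, hz]
      have h3 : (c * bet q N z y) ^ q = c ^ q * bet q N y z := by
        rw [mul_pow, bet_conj hK N hN]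
      rw [h3] at hc
      linear_combination hc
    · obtain ⟨μ, hμ⟩ := hunit z hz
      exact ⟨0, μ, by rw [zero_smul, zero_add]; exact hμ⟩
  · obtain ⟨μ, hμ⟩ := hunit y hy
    exact ⟨μ, 0, by rw [zero_smul, add_zero]; exact hμ⟩

/-- Extending a non-complete orthonormal family. -/
theorem ext_step (hK : Fintype.card K = q ^ 2) (N : Matrix (Fin n) (Fin n) K)
    (hN : ∀ u v, Cfsg.hermForm n K q (N *ᵥ u) v = Cfsg.hermForm n K q u (N *ᵥ v))
    {k : ℕ} (u : Fin k → Fin n → K)
    (hu : ∀ i j, bet q N (u i) (u j) = if i = j then 1 else 0)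
    (x : Fin n → K) (hx : ∀ i, bet q N x (u i) = 0) (hNx : N *ᵥ x ≠ 0) :
    ∃ u' : Fin (k + 1) → Fin n → K, ∀ i j, bet q N (u' i) (u' j) = if i = j then 1 else 0 := by
  have hq : q ≠ 0 := Nat.pos_iff_ne_zero.mp (q_pos hK)
  obtain ⟨i0, hi0⟩ : ∃ i, (N *ᵥ x) i ≠ 0 := by
    by_contra hne
    push Not at hne
    exact hNx (funext hne)
  set z : Fin n → K := Pi.single i0 1 with hz
  have hxz : bet q N x z ≠ 0 := by
    unfold bet; rw [hz, herm_single_right hq]; exact hi0
  set z' : Fin n → K := z - ∑ i, bet q N z (u i) • u i with hz'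
  have hz'u : ∀ j, bet q N z' (u j) = 0 := by
    intro j
    rw [hz', bet_sub_left, bet_sum_left]
    simp only [bet_smul_left, hu]
    simp
  have hxz' : bet q N x z' ≠ 0 := by
    have h1 : bet q N x z' = bet q N x z := by
      unfold bet
      rw [hz', herm_sub_right hK, herm_sum_right hK]
      have h2 : ∀ i ∈ Finset.univ, Cfsg.hermForm n K q (N *ᵥ x) (bet q N z (u i) • u i) = 0 := by
        intro i _
        rw [herm_smul_right]
        have := hx i
        unfold bet at this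
        rw [this, mul_zero]
      rw [Finset.sum_eq_zero h2, sub_zero]
    rw [h1]; exact hxz
  obtain ⟨c, d, hcd⟩ := exists_unit_comb hK N hN x z' hxz'
  set v : Fin n → K := c • x + d • z' with hv
  have hvu : ∀ j, bet q N v (u j) = 0 := by
    intro j
    rw [hv, bet_add_left, bet_smul_left, bet_smul_left, hx, hz'u, mul_zero, mul_zero, add_zero]
  have huv : ∀ j, bet q N (u j) v = 0 := by
    intro j
    rw [← bet_conj hK N hN v (u j), hvu, zero_pow hq]
  refine ⟨Fin.cons v u, ?_⟩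
  intro i j
  refine Fin.cases ?_ (fun i' => ?_) i
  · refine Fin.cases ?_ (fun j' => ?_) j
    · rw [Fin.cons_zero, if_pos rfl]; exact hcd
    · rw [Fin.cons_zero, Fin.cons_succ, if_neg (Fin.succ_ne_zero j').symm]; exact hvu j'
  · refine Fin.cases ?_ (fun j' => ?_) j
    · rw [Fin.cons_zero, Fin.cons_succ, if_neg (Fin.succ_ne_zero i')]; exact huv i'
    · rw [Fin.cons_succ, Fin.cons_succ, hu]
      by_cases hij : i' = j'
      · rw [if_pos hij, if_pos (by rw [hij])]
      · rw [if_neg hij, if_neg (fun h => hij (Fin.succ_inj.mp h))]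

theorem exists_complete (hK : Fintype.card K = q ^ 2) (N : Matrix (Fin n) (Fin n) K)
    (hN : ∀ u v, Cfsg.hermForm n K q (N *ᵥ u) v = Cfsg.hermForm n K q u (N *ᵥ v)) :
    ∃ (k : ℕ) (u : Fin k → Fin n → K), (∀ i j, bet q N (u i) (u j) = if i = j then 1 else 0) ∧
      ∀ x, (∀ i, bet q N x (u i) = 0) → N *ᵥ x = 0 := by
  have hbound : ∀ (k : ℕ) (u : Fin k → Fin n → K),
      (∀ i j, bet q N (u i) (u j) = if i = j then 1 else 0) → k ≤ n := by
    intro k u hu
    have hli : LinearIndependent K (fun i => N *ᵥ u i) := li_of_dual (q := q) _ u hu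
    have := hli.fintype_card_le_finrank
    rw [Fintype.card_fin, Module.finrank_fin_fun] at this
    exact this
  have key : ∀ (d k : ℕ) (u : Fin k → Fin n → K),
      (∀ i j, bet q N (u i) (u j) = if i = j then 1 else 0) → n - k ≤ d →
      ∃ (k' : ℕ) (u' : Fin k' → Fin n → K),
        (∀ i j, bet q N (u' i) (u' j) = if i = j then 1 else 0) ∧
        ∀ x, (∀ i, bet q N x (u' i) = 0) → N *ᵥ x = 0 := by
    intro d
    induction d with
    | zero =>
      intro k u hu hd
      by_cases hc : ∀ x, (∀ i, bet q N x (u i) = 0) → N *ᵥ x = 0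
      · exact ⟨k, u, hu, hc⟩
      · push Not at hc
        obtain ⟨x, hx, hNx⟩ := hc
        obtain ⟨u', hu'⟩ := ext_step hK N hN u hu x hx hNx
        have := hbound _ u' hu'
        omega
    | succ d ih =>
      intro k u hu hd
      by_cases hc : ∀ x, (∀ i, bet q N x (u i) = 0) → N *ᵥ x = 0
      · exact ⟨k, u, hu, hc⟩
      · push Not at hc
        obtain ⟨x, hx, hNx⟩ := hc
        obtain ⟨u', hu'⟩ := ext_step hK N hN u hu x hx hNx
        have := hbound _ u' hu'
        exact ih (k + 1) u' hu' (by omega)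
  exact key n 0 (fun i => i.elim0) (fun i => i.elim0) (by omega)

theorem exists_nf (hK : Fintype.card K = q ^ 2) [CharP K 2] (a : Matrix (Fin n) (Fin n) K)
    (ha2 : a * a = 1) (hp : Cfsg.Agent.S2644.Pres q a) :
    ∃ (k : ℕ) (w u : Fin k → Fin n → K), NF q a k w u := by
  have h2 : (2 : K) = 0 := by exact_mod_cast CharP.cast_eq_zero K 2
  set N : Matrix (Fin n) (Fin n) K := a - 1 with hNdef
  have hN2 : N * N = 0 := by
    have e : N * N = a * a - (2 : K) • a + 1 := by
      rw [hNdef, Matrix.sub_mul, Matrix.mul_sub, Matrix.mul_sub, Matrix.mul_one, Matrix.one_mul,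
        Matrix.mul_one, two_smul]
      abel
    rw [e, ha2, h2, zero_smul, sub_zero]
    have e2 : (1 : Matrix (Fin n) (Fin n) K) + 1 = (2 : K) • (1 : Matrix (Fin n) (Fin n) K) := by
      rw [two_smul]
    rw [e2, h2, zero_smul]
  have haN : ∀ x, a *ᵥ x = x + N *ᵥ x := by
    intro x
    rw [hNdef, sub_mulVec, one_mulVec]; abel
  have F2 : ∀ u v, Cfsg.hermForm n K q (N *ᵥ u) v + Cfsg.hermForm n K q u (N *ᵥ v)
      + Cfsg.hermForm n K q (N *ᵥ u) (N *ᵥ v) = 0 := by
    intro u v
    have h := hp u v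
    rw [haN, haN, herm_add_left, herm_add_right hK, herm_add_right hK] at h
    linear_combination h
  have F3 : ∀ u v, Cfsg.hermForm n K q (N *ᵥ u) (N *ᵥ v) = 0 := by
    intro u v
    have h := F2 u (N *ᵥ v)
    rw [mulVec_mulVec, hN2, zero_mulVec, herm_zero_right hK, herm_zero_right hK, add_zero,
      add_zero] at h
    exact h
  have F4 : ∀ u v, Cfsg.hermForm n K q (N *ᵥ u) v = Cfsg.hermForm n K q u (N *ᵥ v) := by
    intro u v
    linear_combination (F2 u v) - (F3 u v) - (Cfsg.hermForm n K q u (N *ᵥ v)) * h2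
  obtain ⟨k, u, hu, hcomp⟩ := exists_complete hK N F4
  refine ⟨k, fun i => N *ᵥ u i, u, fun i j => F3 _ _, hu, ?_⟩
  intro x
  rw [haN]
  congr 1
  have h1 : N *ᵥ (x - ∑ i, bet q N x (u i) • u i) = 0 := by
    apply hcomp
    intro j
    rw [bet_sub_left, bet_sum_left]
    simp only [bet_smul_left, hu]
    simp
  rw [mulVec_sub, sub_eq_zero, mulVec_sum] at h1
  rw [h1]
  refine Finset.sum_congr rfl fun i _ => ?_
  rw [mulVec_smul]
  congr 1
  exact F4 x (u i)

theorem rank_of_nf (hK : Fintype.card K = q ^ 2) {a : Matrix (Fin n) (Fin n) K} {k : ℕ}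
    {w u : Fin k → Fin n → K} (h : NF q a k w u) : (a - 1).rank = k := by
  have hq : q ≠ 0 := Nat.pos_iff_ne_zero.mp (q_pos hK)
  have hli := li_of_dual w u h.2.1
  have hN : ∀ x, (a - 1) *ᵥ x = ∑ i, Cfsg.hermForm n K q x (w i) • w i := by
    intro x
    rw [sub_mulVec, one_mulVec, h.2.2 x, add_sub_cancel_left]
  have hr : LinearMap.range (a - 1).mulVecLin = Submodule.span K (Set.range w) := by
    apply le_antisymm
    · rintro _ ⟨x, rfl⟩
      rw [Matrix.mulVecLin_apply, hN]
      exact Submodule.sum_mem _ (fun i _ => Submodule.smul_mem _ _ (Submodule.subset_span ⟨i, rfl⟩))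
    · rw [Submodule.span_le]
      rintro _ ⟨i, rfl⟩
      refine ⟨u i, ?_⟩
      rw [Matrix.mulVecLin_apply, hN, Finset.sum_eq_single i]
      · rw [← herm_conj hK (w i) (u i), h.2.1, if_pos rfl, one_pow, one_smul]
      · intro j _ hji
        rw [← herm_conj hK (w j) (u i), h.2.1, if_neg hji, zero_pow hq, zero_smul]
      · intro hi
        exact absurd (Finset.mem_univ i) hi
  show Module.finrank K (LinearMap.range (a - 1).mulVecLin) = k
  rw [hr, finrank_span_eq_card hli, Fintype.card_fin]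

omit [Fintype K] in
theorem conj_of_nf {a b : Matrix (Fin n) (Fin n) K} {k : ℕ}
    {w u w' u' : Fin k → Fin n → K} (ha : NF q a k w u) (hb : NF q b k w' u')
    (M : Matrix (Fin n) (Fin n) K) (hM : Cfsg.Agent.S2644.Pres q M) (hMw : ∀ i, M *ᵥ w i = w' i) :
    M * a = b * M := by
  apply Matrix.ext_of_mulVec_single
  intro j
  have hL : (M * a) *ᵥ Pi.single j 1 = M *ᵥ (a *ᵥ Pi.single j 1) := (mulVec_mulVec _ _ _).symm
  have hR : (b * M) *ᵥ Pi.single j 1 = b *ᵥ (M *ᵥ Pi.single j 1) := (mulVec_mulVec _ _ _).symm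
  rw [hL, hR, ha.2.2, hb.2.2, mulVec_add, mulVec_sum]
  congr 1
  refine Finset.sum_congr rfl fun i _ => ?_
  rw [mulVec_smul, hMw, ← hMw i, hM, hMw]

theorem exists_adjust (hK : Fintype.card K = q ^ 2) [CharP K 2] {b : Matrix (Fin n) (Fin n) K}
    {k : ℕ} {w u : Fin k → Fin n → K} (hb : NF q b k w u) (hk : 0 < k) (δ : K)
    (hδ : δ ^ (q + 1) = 1) :
    ∃ k0 : Matrix (Fin n) (Fin n) K, Cfsg.Agent.S2644.Pres q k0 ∧ k0.det = δ ∧ k0 * b = b * k0 := by
  have hq : q ≠ 0 := Nat.pos_iff_ne_zero.mp (q_pos hK)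
  have hqe : 2 ∣ q := by
    obtain ⟨m, -, hm⟩ := FiniteField.card K 2
    have h1 : 2 ∣ q ^ 2 := by rw [← hK, hm]; exact dvd_pow_self 2 m.pos.ne'
    exact (Nat.prime_two).dvd_of_dvd_pow h1
  obtain ⟨r, hr⟩ := hqe
  set lam := δ ^ (r + 1) with hlam
  have hl2 : lam * lam = δ := by
    rw [hlam, ← pow_add, show r + 1 + (r + 1) = q + 1 + 1 by omega, pow_succ, hδ, one_mul]
  have hln : lam ^ q * lam = 1 := by
    rw [← pow_succ, hlam, ← pow_mul, mul_comm, pow_mul, hδ, one_pow]
  set i0 : Fin k := ⟨0, hk⟩ with hi0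
  have hww : Cfsg.hermForm n K q (w i0) (w i0) = 0 := hb.1 _ _
  have hwu : Cfsg.hermForm n K q (w i0) (u i0) = 1 := by rw [hb.2.1, if_pos rfl]
  have huw : Cfsg.hermForm n K q (u i0) (w i0) = 1 := by
    rw [← herm_conj hK (w i0) (u i0), hwu, one_pow]
  have ht : (-(Cfsg.hermForm n K q (u i0) (u i0))) ^ q = -(Cfsg.hermForm n K q (u i0) (u i0)) := by
    rw [frob_neg hK, herm_conj hK]
  obtain ⟨c, hc⟩ := Cfsg.Agent.S2644.trace_surj' hK 1 one_ne_zero _ ht
  rw [mul_one] at hc
  set ut : Fin n → K := u i0 + c • w i0 with hut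
  have hutut : Cfsg.hermForm n K q ut ut = 0 := by
    rw [hut, herm_add_left, herm_add_right hK, herm_add_right hK, herm_smul_left, herm_smul_left,
      herm_smul_right, herm_smul_right, hww, hwu, huw]
    linear_combination hc
  have hwut : ∀ i, Cfsg.hermForm n K q (w i) ut = if i = i0 then 1 else 0 := by
    intro i
    rw [hut, herm_add_right hK, herm_smul_right, hb.1, mul_zero, add_zero, hb.2.1]
  have hutw : ∀ i, Cfsg.hermForm n K q ut (w i) = if i = i0 then 1 else 0 := by
    intro i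
    rw [← herm_conj hK (w i) ut, hwut]
    by_cases hi : i = i0
    · rw [if_pos hi, one_pow]
    · rw [if_neg hi, zero_pow hq]
  have hdot : ∀ v x : Fin n → K, (fun j => v j ^ q) ⬝ᵥ x = Cfsg.hermForm n K q x v := by
    intro v x
    unfold Cfsg.hermForm dotProduct
    refine Finset.sum_congr rfl fun i _ => ?_
    rw [mul_comm]
  set A1 : Matrix (Fin n) (Fin n) K := 1 + vecMulVec ((lam - 1) • w i0) (fun j => ut j ^ q) with hA1
  set A2 : Matrix (Fin n) (Fin n) K := 1 + vecMulVec ((lam - 1) • ut) (fun j => w i0 j ^ q) with hA2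
  have hA1x : ∀ x, A1 *ᵥ x = x + ((lam - 1) * Cfsg.hermForm n K q x ut) • w i0 := by
    intro x
    rw [hA1, Cfsg.Agent.Lib_helper4_Transv.one_add_vecMulVec_mulVec, hdot, smul_smul, mul_comm]
  have hA2x : ∀ x, A2 *ᵥ x = x + ((lam - 1) * Cfsg.hermForm n K q x (w i0)) • ut := by
    intro x
    rw [hA2, Cfsg.Agent.Lib_helper4_Transv.one_add_vecMulVec_mulVec, hdot, smul_smul, mul_comm]
  have hkx : ∀ x, (A1 * A2) *ᵥ x = x + ((lam - 1) * Cfsg.hermForm n K q x (w i0)) • ut
      + ((lam - 1) * Cfsg.hermForm n K q x ut) • w i0 := by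
    intro x
    rw [← mulVec_mulVec, hA2x, hA1x, herm_add_left, herm_smul_left, hutut, mul_zero, add_zero]
  refine ⟨A1 * A2, ?_, ?_, ?_⟩
  · intro x y
    rw [hkx, hkx]
    simp only [herm_add_left, herm_add_right hK, herm_smul_left, herm_smul_right, hww, hutut,
      hwut i0, hutw i0, if_pos, mul_pow, frob_sub hK, one_pow, herm_conj hK]
    linear_combination (Cfsg.hermForm n K q x ut * Cfsg.hermForm n K q (w i0) y
      + Cfsg.hermForm n K q x (w i0) * Cfsg.hermForm n K q ut y) * hln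
  · rw [Matrix.det_mul, hA1, hA2, Cfsg.Agent.Lib_helper4_Transv.det_one_add_vecMulVec,
      Cfsg.Agent.Lib_helper4_Transv.det_one_add_vecMulVec, hdot, hdot, herm_smul_left,
      herm_smul_left, hwut i0, hutw i0, if_pos rfl, mul_one]
    rw [show (1 : K) + (lam - 1) = lam by ring, hl2]
  · apply Matrix.ext_of_mulVec_single
    intro j
    have hL : ((A1 * A2) * b) *ᵥ Pi.single j 1 = (A1 * A2) *ᵥ (b *ᵥ Pi.single j 1) :=
      (mulVec_mulVec _ _ _).symm
    have hR : (b * (A1 * A2)) *ᵥ Pi.single j 1 = b *ᵥ ((A1 * A2) *ᵥ Pi.single j 1) :=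
      (mulVec_mulVec _ _ _).symm
    rw [hL, hR, hb.2.2, hb.2.2, hkx, hkx]
    generalize (Pi.single j 1 : Fin n → K) = x
    have hS1 : Cfsg.hermForm n K q (∑ i, Cfsg.hermForm n K q x (w i) • w i) (w i0) = 0 := by
      rw [herm_sum_left]
      apply Finset.sum_eq_zero
      intro i _
      rw [herm_smul_left, hb.1, mul_zero]
    have hS2 : Cfsg.hermForm n K q (∑ i, Cfsg.hermForm n K q x (w i) • w i) ut
        = Cfsg.hermForm n K q x (w i0) := by
      rw [herm_sum_left]
      simp only [herm_smul_left, hwut]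
      simp
    have hS3 : ∑ i, Cfsg.hermForm n K q (x + ((lam - 1) * Cfsg.hermForm n K q x (w i0)) • ut
        + ((lam - 1) * Cfsg.hermForm n K q x ut) • w i0) (w i) • w i
        = ∑ i, Cfsg.hermForm n K q x (w i) • w i
          + ((lam - 1) * Cfsg.hermForm n K q x (w i0)) • w i0 := by
      have h1 : ∀ i ∈ Finset.univ, Cfsg.hermForm n K q (x + ((lam - 1) * Cfsg.hermForm n K q x (w i0)) • ut
          + ((lam - 1) * Cfsg.hermForm n K q x ut) • w i0) (w i) • w i
          = Cfsg.hermForm n K q x (w i) • w i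
            + (if i = i0 then ((lam - 1) * Cfsg.hermForm n K q x (w i0)) • w i0 else 0) := by
        intro i _
        rw [herm_add_left, herm_add_left, herm_smul_left, herm_smul_left, hb.1, mul_zero, add_zero,
          hutw, add_smul]
        by_cases hi : i = i0
        · rw [if_pos hi, if_pos hi, mul_one, hi]
        · rw [if_neg hi, if_neg hi, mul_zero, zero_smul]
      rw [Finset.sum_congr rfl h1, Finset.sum_add_distrib, Finset.sum_ite_eq' Finset.univ i0]
      rw [if_pos (Finset.mem_univ i0)]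
    rw [hS3, herm_add_left, herm_add_left, hS1, hS2, add_zero, mul_add, add_smul]
    abel

theorem main (hK : Fintype.card K = q ^ 2) [CharP K 2] (a b : ↥(Cfsg.SU n K q))
    (ha : orderOf a = 2) (hb : orderOf b = 2)
    (hr : ((a.1 : Matrix (Fin n) (Fin n) K) - 1).rank = ((b.1 : Matrix (Fin n) (Fin n) K) - 1).rank) :
    IsConj a b := by
  have hsq : ∀ g : ↥(Cfsg.SU n K q), orderOf g = 2 →
      (g.1 : Matrix (Fin n) (Fin n) K) * (g.1 : Matrix (Fin n) (Fin n) K) = 1 ∧
      (g.1 : Matrix (Fin n) (Fin n) K) - 1 ≠ 0 := by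
    intro g hg
    constructor
    · have h1 : g ^ 2 = 1 := by rw [← hg]; exact pow_orderOf_eq_one g
      rw [pow_two] at h1
      have h2 := congrArg (fun z : ↥(Cfsg.SU n K q) =>
        ((z.1 : Matrix.SpecialLinearGroup (Fin n) K) : Matrix (Fin n) (Fin n) K)) h1
      exact h2
    · intro h0
      have h1 : g = 1 := Subtype.ext (Subtype.ext (sub_eq_zero.mp h0))
      rw [h1, orderOf_one] at hg
      omega
  obtain ⟨hA2, hA0⟩ := hsq a ha
  obtain ⟨hB2, hB0⟩ := hsq b hb
  obtain ⟨k, w, u, hnfa⟩ := exists_nf hK _ hA2 ((mem_SU_iff _).mp a.2)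
  obtain ⟨k', w', u', hnfb⟩ := exists_nf hK _ hB2 ((mem_SU_iff _).mp b.2)
  have hka := rank_of_nf hK hnfa
  have hkb := rank_of_nf hK hnfb
  have hkk : k = k' := by rw [← hka, ← hkb]; exact hr
  subst hkk
  have hk : 0 < k := by
    rw [← hka]; exact Nat.pos_of_ne_zero (Cfsg.Agent.Lib_helper8_Transv.rank_ne_zero hA0)
  obtain ⟨M, hM1, hM2⟩ := witt_family hK w w' (li_of_dual w u hnfa.2.1)
    (li_of_dual w' u' hnfb.2.1) (fun i j => by rw [hnfb.1, hnfa.1])
  have hMab := conj_of_nf hnfa hnfb M hM1 hM2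
  have hdet0 : M.det ^ (q + 1) = 1 := Cfsg.Agent.Lib_helper4_SU.det_pow_of_preserves hK M hM1
  have hdetne : M.det ≠ 0 := by
    intro h0
    rw [h0, zero_pow (by omega)] at hdet0
    exact zero_ne_one hdet0
  obtain ⟨k0, hk1, hk2, hk3⟩ := exists_adjust hK hnfb hk (M.det)⁻¹ (by rw [inv_pow, hdet0, inv_one])
  have hdet : (k0 * M).det = 1 := by rw [Matrix.det_mul, hk2, inv_mul_cancel₀ hdetne]
  let g : ↥(Cfsg.SU n K q) := ⟨⟨k0 * M, hdet⟩, (mem_SU_iff _).mpr (hk1.mul hM1)⟩
  rw [isConj_iff]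
  refine ⟨g, ?_⟩
  rw [mul_inv_eq_iff_eq_mul]
  apply Subtype.ext
  apply Subtype.ext
  show (k0 * M) * (a.1 : Matrix (Fin n) (Fin n) K) = (b.1 : Matrix (Fin n) (Fin n) K) * (k0 * M)
  rw [Matrix.mul_assoc, hMab, ← Matrix.mul_assoc, hk3, Matrix.mul_assoc]

end Aux

/-- Conjugacy of involutions in the special unitary group SU_n(q), q even, n ≥ 3, realised over the field F with q² elements as the matrices of determinant 1 preserving the form Σ u_i v_i^q: for two elements of order 2 of SU_n(q) the following are equivalent — they are conjugate in SU_n(q); they are conjugate in SL_n(F); the matrices a − 1 and b − 1 have the same rank. -/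
theorem result {F : Type*} [Field F] [Fintype F] [CharP F 2] {n q : ℕ} (hF : Fintype.card F = q ^ 2) (hn : 3 ≤ n) (a b : ↥(Cfsg.SU n F q)) (ha : orderOf a = 2) (hb : orderOf b = 2) :
    (IsConj a b ↔ IsConj (a : Matrix.SpecialLinearGroup (Fin n) F) (b : Matrix.SpecialLinearGroup (Fin n) F)) ∧
    (IsConj a b ↔ (((a : Matrix.SpecialLinearGroup (Fin n) F) : Matrix (Fin n) (Fin n) F) - 1).rank = (((b : Matrix.SpecialLinearGroup (Fin n) F) : Matrix (Fin n) (Fin n) F) - 1).rank) := by
  have h12 : IsConj a b → IsConj (a : Matrix.SpecialLinearGroup (Fin n) F)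
      (b : Matrix.SpecialLinearGroup (Fin n) F) := by
    intro h
    exact (Cfsg.SU n F q).subtype.map_isConj h
  have h23 : IsConj (a : Matrix.SpecialLinearGroup (Fin n) F) (b : Matrix.SpecialLinearGroup (Fin n) F) →
      (((a : Matrix.SpecialLinearGroup (Fin n) F) : Matrix (Fin n) (Fin n) F) - 1).rank
        = (((b : Matrix.SpecialLinearGroup (Fin n) F) : Matrix (Fin n) (Fin n) F) - 1).rank := by
    intro h
    obtain ⟨c, hc⟩ := isConj_iff.mp h
    have hinv : (c : Matrix (Fin n) (Fin n) F) *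
        ((c⁻¹ : Matrix.SpecialLinearGroup (Fin n) F) : Matrix (Fin n) (Fin n) F) = 1 := by
      rw [← Matrix.SpecialLinearGroup.coe_mul, mul_inv_cancel, Matrix.SpecialLinearGroup.coe_one]
    have e : ((b : Matrix.SpecialLinearGroup (Fin n) F) : Matrix (Fin n) (Fin n) F) - 1
        = (c : Matrix (Fin n) (Fin n) F)
        * (((a : Matrix.SpecialLinearGroup (Fin n) F) : Matrix (Fin n) (Fin n) F) - 1)
        * ((c⁻¹ : Matrix.SpecialLinearGroup (Fin n) F) : Matrix (Fin n) (Fin n) F) := by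
      rw [← hc, Matrix.SpecialLinearGroup.coe_mul, Matrix.SpecialLinearGroup.coe_mul, Matrix.mul_sub,
        Matrix.sub_mul, Matrix.mul_one, hinv]
    rw [e, Matrix.rank_mul_eq_left_of_isUnit_det _ _
        (by rw [Matrix.SpecialLinearGroup.det_coe]; exact isUnit_one),
      Matrix.rank_mul_eq_right_of_isUnit_det _ _
        (by rw [Matrix.SpecialLinearGroup.det_coe]; exact isUnit_one)]
  have h31 := fun hr => main hF a b ha hb hr
  exact ⟨⟨h12, fun h => h31 (h23 h)⟩, ⟨fun h => h23 (h12 h), h31⟩⟩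

end Cfsg.Agent.S2164
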