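import Cfsg.Statements.S2277
-- import your own Cfsg.Agent.* helpers here

set_option autoImplicit false
open Cfsg

namespace Cfsg.Agent.S2277

section Aux
universe u

section Core
variable {V : Type*} [Group V]

def fixS (c : MulAut V) : Subgroup V where
  carrier := {v | c v = v}
  mul_mem' := by
    intro a b ha hb
    show c (a * b) = a * b
    rw [map_mul, show c a = a from ha, show c b = b from hb]
  one_mem' := map_one c
  inv_mem' := by
    intro a ha
    show c a⁻¹ = a⁻¹
    rw [map_inv, show c a = a from ha]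

theorem mem_fixS (c : MulAut V) (v : V) : v ∈ fixS c ↔ c v = v := Iff.rfl

end Core

section Core2
variable {V : Type*} [CommGroup V]

theorem direct [Finite V] (p : ℕ) (hV : (Nat.card V).Coprime p)
    (c z : MulAut V) (hcz : Commute c z) (hzp : z ^ p = 1)
    (hfpf : ∀ i j : ℕ, i < p → j < p → i ≠ j → ∀ v : V, (z ^ j * (z⁻¹) ^ i) v = v → v = 1)
    (u : ℕ → V) (hu : ∀ i < p, (c * z ^ i) (u i) = u i) (hprod : ∏ i ∈ Finset.range p, u i = 1) :
    ∀ j < p, u j = 1 := by
  have hc : ∀ i < p, c (u i) = ((z⁻¹) ^ i) (u i) := by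
    intro i hi
    have h1 := hu i hi
    have h2 : (z ^ i * c) (u i) = u i := by rw [← (hcz.pow_right i).eq]; exact h1
    have h3 : (z ^ i) (c (u i)) = u i := h2
    calc c (u i) = ((z⁻¹) ^ i) ((z ^ i) (c (u i))) := by
          rw [← MulAut.mul_apply, inv_pow, inv_mul_cancel, MulAut.one_apply]
      _ = _ := by rw [h3]
  have hcz' : Commute c z⁻¹ := hcz.inv_right
  have hck : ∀ k : ℕ, ∀ i < p, (c ^ k) (u i) = (((z⁻¹) ^ i) ^ k) (u i) := by
    intro k
    induction k with
    | zero => intro i _; simp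
    | succ k ih =>
      intro i hi
      rw [pow_succ, MulAut.mul_apply, hc i hi, ← MulAut.mul_apply, (hcz'.pow_pow k i).eq,
        MulAut.mul_apply, ih i hi, ← MulAut.mul_apply, ← pow_succ']
  have h1 : ∀ k : ℕ, ∏ i ∈ Finset.range p, ((((z⁻¹) ^ i) ^ k) (u i)) = 1 := by
    intro k
    have h := congrArg (c ^ k) hprod
    rw [map_prod, map_one] at h
    rw [← h]
    exact Finset.prod_congr rfl (fun i hi => (hck k i (Finset.mem_range.mp hi)).symm)
  intro j hj
  have hzz : Commute z z⁻¹ := (Commute.refl z).inv_right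
  have h2 : ∀ k : ℕ, ∏ i ∈ Finset.range p, (((z ^ j * (z⁻¹) ^ i) ^ k) (u i)) = 1 := by
    intro k
    have h := congrArg ((z ^ j) ^ k) (h1 k)
    rw [map_prod, map_one] at h
    rw [← h]
    refine Finset.prod_congr rfl (fun i _ => ?_)
    rw [← MulAut.mul_apply, (hzz.pow_pow j i).mul_pow]
  have h3 : ∏ i ∈ Finset.range p, ∏ k ∈ Finset.range p, (((z ^ j * (z⁻¹) ^ i) ^ k) (u i)) = 1 := by
    rw [Finset.prod_comm]
    exact Finset.prod_eq_one (fun k _ => h2 k)
  have h4 : ∀ i ∈ Finset.range p, i ≠ j →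
      ∏ k ∈ Finset.range p, (((z ^ j * (z⁻¹) ^ i) ^ k) (u i)) = 1 := by
    intro i hi hij
    apply hfpf i j (Finset.mem_range.mp hi) hj hij
    set a := z ^ j * (z⁻¹) ^ i with ha
    have hap : a ^ p = 1 := by
      rw [ha, (hzz.pow_pow j i).mul_pow, pow_right_comm z j p, pow_right_comm z⁻¹ i p, hzp,
        inv_pow, hzp]
      simp
    rw [map_prod]
    have e0 : ∀ k : ℕ, a ((a ^ k) (u i)) = (a ^ (k + 1)) (u i) := fun k => by
      rw [pow_succ']; rfl
    simp_rw [e0]
    have e1 := Finset.prod_range_succ (fun k => (a ^ k) (u i)) p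
    have e2 := Finset.prod_range_succ' (fun k => (a ^ k) (u i)) p
    rw [e1] at e2
    simp only [hap, pow_zero, MulAut.one_apply] at e2
    exact (mul_right_cancel e2).symm
  have h5 : ∏ k ∈ Finset.range p, (((z ^ j * (z⁻¹) ^ j) ^ k) (u j)) = (u j) ^ p := by
    rw [inv_pow, mul_inv_cancel]
    simp
  rw [Finset.prod_eq_single j (fun i hi hij => h4 i hi hij)
    (fun hj' => absurd (Finset.mem_range.mpr hj) hj'), h5] at h3
  have h6 : (powCoprime hV) (u j) = (powCoprime hV) 1 := by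
    simp only [powCoprime_apply, one_pow]
    exact h3
  exact (powCoprime hV).injective h6

theorem bound [Finite V] (p : ℕ) [Fact p.Prime] (hV : (Nat.card V).Coprime p)
    (Q : Subgroup (MulAut V))
    (hfpf : ∀ z ∈ Q, z ≠ 1 → (∀ g ∈ Q, g * z = z * g) → ∀ v : V, z v = v → v = 1)
    (c z g : MulAut V) (hc : c ∈ Q) (hz : z ∈ Q) (hg : g ∈ Q) (hz1 : z ≠ 1) (hzp : z ^ p = 1)
    (hzc : ∀ g ∈ Q, g * z = z * g) (hconj : g * c = c * z * g) :
    Nat.card (fixS c) ^ p ≤ Nat.card V := by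
  have hgi : ∀ i : ℕ, g ^ i * c = c * z ^ i * g ^ i := by
    intro i
    induction i with
    | zero => simp
    | succ i ih =>
      have hzg : g ^ i * z = z * g ^ i := hzc _ (pow_mem hg i)
      calc g ^ (i + 1) * c = g ^ i * (g * c) := by rw [pow_succ, mul_assoc]
        _ = g ^ i * (c * z * g) := by rw [hconj]
        _ = (g ^ i * c) * z * g := by simp only [mul_assoc]
        _ = c * z ^ i * (g ^ i * z) * g := by rw [ih]; simp only [mul_assoc]
        _ = c * z ^ i * (z * g ^ i) * g := by rw [hzg]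
        _ = c * z ^ (i + 1) * g ^ (i + 1) := by rw [pow_succ, pow_succ]; simp only [mul_assoc]
  let Φ : (Fin p → fixS c) → V := fun w => ∏ i : Fin p, (g ^ (i : ℕ)) (w i : V)
  have hΦ : Function.Injective Φ := by
    intro w w' hww
    let u : ℕ → V := fun i => if h : i < p then (g ^ i) ((w ⟨i, h⟩ : V) / (w' ⟨i, h⟩ : V)) else 1
    have hu : ∀ i < p, (c * z ^ i) (u i) = u i := by
      intro i hi
      simp only [u, dif_pos hi]
      rw [← MulAut.mul_apply, ← hgi i, MulAut.mul_apply]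
      congr 1
      rw [map_div]
      have h1 : c (w ⟨i, hi⟩ : V) = w ⟨i, hi⟩ := (w ⟨i, hi⟩).2
      have h2 : c (w' ⟨i, hi⟩ : V) = w' ⟨i, hi⟩ := (w' ⟨i, hi⟩).2
      rw [h1, h2]
    have hprod : ∏ i ∈ Finset.range p, u i = 1 := by
      rw [Finset.prod_range]
      have e : ∀ i : Fin p, u i = (g ^ (i : ℕ)) (w i : V) / (g ^ (i : ℕ)) (w' i : V) := by
        intro i
        simp only [u, dif_pos i.2, map_div]
      simp_rw [e]
      rw [Finset.prod_div_distrib]
      exact div_eq_one.mpr hww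
    have hall := direct p hV c z (hzc c hc) hzp ?_ u hu hprod
    · funext i
      have h0 := hall i i.2
      simp only [u, dif_pos i.2] at h0
      have h1 : (w i : V) / (w' i : V) = 1 := by
        have h2 : (g ^ (i : ℕ)) ((w i : V) / (w' i : V)) = (g ^ (i : ℕ)) 1 := by
          rw [map_one]; exact h0
        exact (g ^ (i : ℕ)).injective h2
      exact Subtype.ext (div_eq_one.mp h1)
    · intro i j hi hj hij v hv
      refine hfpf (z ^ j * (z⁻¹) ^ i) (mul_mem (pow_mem hz j) (pow_mem (inv_mem hz) i)) ?_ ?_ v hv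
      · intro h1
        have h2 : z ^ j = z ^ i := by
          have h3 := congrArg (· * z ^ i) h1
          simpa [mul_assoc, inv_pow] using h3
        have ho : orderOf z = p := orderOf_eq_prime hzp hz1
        exact hij (pow_injOn_Iio_orderOf (by rw [ho]; exact hi) (by rw [ho]; exact hj) h2.symm)
      · intro g' hg'
        have c1 : Commute g' z := hzc g' hg'
        exact ((c1.pow_right j).mul_right (c1.inv_right.pow_right i)).eq
  calc Nat.card (fixS c) ^ p = Nat.card (Fin p → fixS c) := by rw [Nat.card_fun, Nat.card_fin]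
    _ ≤ Nat.card V := Nat.card_le_card_of_injective Φ hΦ


theorem comm_pow_aux {G : Type*} [Group G] (c g z₀ : G) (hz₀ : c * g * c⁻¹ * g⁻¹ = z₀)
    (hcomm : ∀ k : ℕ, z₀ * (g ^ k)⁻¹ = (g ^ k)⁻¹ * z₀) (k : ℕ) :
    c * g ^ k * c⁻¹ * (g ^ k)⁻¹ = z₀ ^ k := by
  induction k with
  | zero => simp
  | succ k ih =>
    calc c * g ^ (k + 1) * c⁻¹ * (g ^ (k + 1))⁻¹
        = c * g ^ k * c⁻¹ * ((c * g * c⁻¹ * g⁻¹) * (g ^ k)⁻¹) := by
          rw [pow_succ, mul_inv_rev]; group
      _ = c * g ^ k * c⁻¹ * (z₀ * (g ^ k)⁻¹) := by rw [hz₀]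
      _ = (c * g ^ k * c⁻¹ * (g ^ k)⁻¹) * z₀ := by rw [hcomm k]; simp only [mul_assoc]
      _ = z₀ ^ (k + 1) := by rw [ih, pow_succ]

theorem core [Finite V] (p : ℕ) [Fact p.Prime] (hp3 : 3 ≤ p)
    (Q : Subgroup (MulAut V)) (hQ : IsPGroup p Q) (hV : (Nat.card V).Coprime p)
    (hfpf : ∀ z ∈ Q, z ≠ 1 → (∀ g ∈ Q, g * z = z * g) → ∀ v : V, z v = v → v = 1)
    (C D : Set (MulAut V)) (hC : Subgroup.closure C = Q) (hD : Subgroup.closure D = Q)
    (h : ∀ c ∈ C, ∀ d ∈ D, ∀ x : V, ∃ y : V, d y = y ∧ c (y⁻¹ * x) = y⁻¹ * x) : Q = ⊥ := by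
  by_contra hQ1
  haveI : Finite (MulAut V) :=
    Finite.of_injective (fun e : MulAut V => (e : V → V)) DFunLike.coe_injective
  have key : ∀ C : Set (MulAut V), Subgroup.closure C = Q →
      ∃ c ∈ C, Nat.card (fixS c) ^ p ≤ Nat.card V := by
    intro C hC
    by_cases hab : ∀ a ∈ Q, ∀ b ∈ Q, a * b = b * a
    · have hns : ¬ C ⊆ {1} := by
        intro hsub
        apply hQ1
        rw [← hC]
        exact (Subgroup.closure_eq_bot_iff).mpr hsub
      obtain ⟨c, hcC, hc1⟩ := Set.not_subset.mp hns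
      have hcQ : c ∈ Q := hC ▸ Subgroup.subset_closure hcC
      refine ⟨c, hcC, ?_⟩
      have hbot : fixS c = ⊥ := by
        rw [eq_bot_iff]
        intro v hv
        exact Subgroup.mem_bot.mpr
          (hfpf c hcQ (by simpa using hc1) (fun g hg => hab g hg c hcQ) v hv)
      rw [hbot, Subgroup.card_bot, one_pow]
      exact Nat.card_pos
    · push Not at hab
      obtain ⟨a₀, ha₀, b₀, hb₀, hab₀⟩ := hab
      have hZ : Subgroup.center Q ≠ ⊤ := by
        intro htop
        have h1 : (⟨b₀, hb₀⟩ : Q) ∈ Subgroup.center Q := by rw [htop]; trivial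
        have h2 := Subgroup.mem_center_iff.mp h1 ⟨a₀, ha₀⟩
        exact hab₀ (congrArg Subtype.val h2)
      haveI : Nontrivial (Q ⧸ Subgroup.center Q) := by
        by_contra hnt
        rw [not_nontrivial_iff_subsingleton] at hnt
        exact hZ (QuotientGroup.subgroup_eq_top_of_subsingleton _ hnt)
      have hQq : IsPGroup p (Q ⧸ Subgroup.center Q) := hQ.to_quotient _
      haveI := hQq.center_nontrivial
      obtain ⟨⟨gb, hgb⟩, hne⟩ := exists_ne (1 : Subgroup.center (Q ⧸ Subgroup.center Q))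
      obtain ⟨g₀, rfl⟩ := QuotientGroup.mk_surjective gb
      have hg₀Z : g₀ ∉ Subgroup.center Q := by
        intro hmem
        apply hne
        apply Subtype.ext
        exact (QuotientGroup.eq_one_iff g₀).mpr hmem
      have hcommZ : ∀ hh : Q, hh * g₀ * hh⁻¹ * g₀⁻¹ ∈ Subgroup.center Q := by
        intro hh
        rw [← QuotientGroup.eq_one_iff]
        have h1 := Subgroup.mem_center_iff.mp hgb (hh : Q ⧸ Subgroup.center Q)
        simp only [QuotientGroup.mk_mul, QuotientGroup.mk_inv]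
        rw [h1]
        group
      have hg₀Q : (g₀ : MulAut V) ∈ Q := g₀.2
      have hns : ¬ (∀ c ∈ C, c * (g₀ : MulAut V) = (g₀ : MulAut V) * c) := by
        intro hall
        apply hg₀Z
        rw [Subgroup.mem_center_iff]
        intro q
        have hle : Subgroup.closure C ≤ Subgroup.centralizer {(g₀ : MulAut V)} := by
          rw [Subgroup.closure_le]
          intro c hc
          rw [SetLike.mem_coe, Subgroup.mem_centralizer_iff]
          intro x hx
          rw [Set.mem_singleton_iff] at hx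
          rw [hx]; exact (hall c hc).symm
        have hq : (q : MulAut V) ∈ Subgroup.centralizer {(g₀ : MulAut V)} := hle (hC ▸ q.2)
        rw [Subgroup.mem_centralizer_iff] at hq
        apply Subtype.ext
        exact (hq _ rfl).symm
      push Not at hns
      obtain ⟨c, hcC, hcg⟩ := hns
      have hcQ : c ∈ Q := hC ▸ Subgroup.subset_closure hcC
      set gv : MulAut V := (g₀ : MulAut V) with hgv
      set z₀ : MulAut V := c * gv * c⁻¹ * gv⁻¹ with hz₀
      have hz₀Q : z₀ ∈ Q := mul_mem (mul_mem (mul_mem hcQ hg₀Q) (inv_mem hcQ)) (inv_mem hg₀Q)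
      have hz₀c : ∀ k ∈ Q, k * z₀ = z₀ * k := by
        intro k hk
        have h1 := Subgroup.mem_center_iff.mp (hcommZ ⟨c, hcQ⟩) ⟨k, hk⟩
        exact congrArg Subtype.val h1
      have hz₀1 : z₀ ≠ 1 := by
        intro h1
        apply hcg
        calc c * gv = (c * gv * c⁻¹ * gv⁻¹) * gv * c := by group
          _ = gv * c := by rw [← hz₀, h1, one_mul]
      obtain ⟨e, he⟩ := (IsPGroup.iff_orderOf.mp hQ) ⟨z₀, hz₀Q⟩
      have he' : orderOf z₀ = p ^ e := by
        rw [← he]; exact (Subgroup.orderOf_mk z₀ hz₀Q).symm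
      have he0 : e ≠ 0 := by
        intro h0
        rw [h0, pow_zero, orderOf_eq_one_iff] at he'
        exact hz₀1 he'
      obtain ⟨e', rfl⟩ := Nat.exists_eq_succ_of_ne_zero he0
      set k := p ^ e' with hk
      have hzp : (z₀ ^ k) ^ p = 1 := by
        rw [← pow_mul, hk, ← pow_succ, ← he']; exact pow_orderOf_eq_one z₀
      have hz1 : z₀ ^ k ≠ 1 := by
        intro h1
        have h2 : orderOf z₀ ∣ p ^ e' := orderOf_dvd_of_pow_eq_one h1
        have he'' : orderOf z₀ = p ^ (e' + 1) := he'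
        rw [he''] at h2
        have h3 := (Nat.pow_dvd_pow_iff_le_right (Fact.out : p.Prime).one_lt).mp h2
        omega
      have hzQ : z₀ ^ k ∈ Q := pow_mem hz₀Q k
      have hzc : ∀ g ∈ Q, g * z₀ ^ k = z₀ ^ k * g := by
        intro g hg
        have c1 : Commute g z₀ := hz₀c g hg
        exact (c1.pow_right k).eq
      have hg₁Q : gv ^ k ∈ Q := pow_mem hg₀Q k
      have hcomm1 : c * gv ^ k * c⁻¹ * (gv ^ k)⁻¹ = z₀ ^ k :=
        comm_pow_aux c gv z₀ hz₀.symm
          (fun j => (hz₀c _ (inv_mem (pow_mem hg₀Q j))).symm) k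
      have h_cg : c * gv ^ k = z₀ ^ k * gv ^ k * c := by
        calc c * gv ^ k = (c * gv ^ k * c⁻¹ * (gv ^ k)⁻¹) * gv ^ k * c := by group
          _ = z₀ ^ k * gv ^ k * c := by rw [hcomm1]
      have hzg : (gv ^ k)⁻¹ * z₀ ^ k = z₀ ^ k * (gv ^ k)⁻¹ := hzc _ (inv_mem hg₁Q)
      have hzc' : c * z₀ ^ k = z₀ ^ k * c := hzc c hcQ
      have hconj : (gv ^ k)⁻¹ * c = c * z₀ ^ k * (gv ^ k)⁻¹ := by
        calc (gv ^ k)⁻¹ * c = (gv ^ k)⁻¹ * (c * gv ^ k) * (gv ^ k)⁻¹ := by group
          _ = (gv ^ k)⁻¹ * (z₀ ^ k * gv ^ k * c) * (gv ^ k)⁻¹ := by rw [h_cg]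
          _ = ((gv ^ k)⁻¹ * z₀ ^ k) * gv ^ k * c * (gv ^ k)⁻¹ := by simp only [mul_assoc]
          _ = z₀ ^ k * c * (gv ^ k)⁻¹ := by rw [hzg]; group
          _ = c * z₀ ^ k * (gv ^ k)⁻¹ := by rw [hzc']
      exact ⟨c, hcC, bound p hV Q hfpf c (z₀ ^ k) (gv ^ k)⁻¹ hcQ hzQ (inv_mem hg₁Q) hz1 hzp hzc hconj⟩
  obtain ⟨c, hcC, hcb⟩ := key C hC
  obtain ⟨d, hdD, hdb⟩ := key D hD
  have hsurj : Nat.card V ≤ Nat.card (fixS d) * Nat.card (fixS c) := by
    rw [← Nat.card_prod]
    apply Nat.card_le_card_of_surjective (fun yw : fixS d × fixS c => (yw.1 : V) * (yw.2 : V))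
    intro x
    obtain ⟨y, hy1, hy2⟩ := h c hcC d hdD x
    exact ⟨(⟨y, hy1⟩, ⟨y⁻¹ * x, hy2⟩), by simp⟩
  have hn1 : 0 < Nat.card V := Nat.card_pos
  have hle : Nat.card V ≤ 1 := by
    by_contra hgt
    push Not at hgt
    set n := Nat.card V with hn
    set a := Nat.card (fixS c)
    set b := Nat.card (fixS d)
    have h1 : n ^ p ≤ (b * a) ^ p := Nat.pow_le_pow_left hsurj p
    have h2 : (b * a) ^ p ≤ n * n := by
      rw [mul_pow]; exact Nat.mul_le_mul hdb hcb
    have h3 : n ^ 3 ≤ n ^ p := Nat.pow_le_pow_right hn1 hp3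
    have h4 : n * n < n ^ 3 := by
      have : n ^ 3 = n * n * n := by ring
      rw [this]
      nlinarith
    omega
  have hsub : Subsingleton V := (Finite.card_le_one_iff_subsingleton).mp hle
  apply hQ1
  rw [eq_bot_iff]
  intro q _
  rw [Subgroup.mem_bot]
  ext v
  exact Subsingleton.elim _ _

end Core2

section Red
open scoped Pointwise

def restr {Q N : Type*} [Group Q] [Group N] (φ : Q →* MulAut N) (R : Subgroup N)
    (hR : ∀ q : Q, ∀ x ∈ R, φ q x ∈ R) : Q →* MulAut R where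
  toFun q :=
    { toFun := fun x => ⟨φ q x, hR q x x.2⟩
      invFun := fun x => ⟨φ q⁻¹ x, hR q⁻¹ x x.2⟩
      left_inv := fun x => by apply Subtype.ext; simp [map_inv]
      right_inv := fun x => by apply Subtype.ext; simp [map_inv]
      map_mul' := fun x y => by apply Subtype.ext; simp }
  map_one' := by ext x; simp
  map_mul' := fun a b => by ext x; simp

theorem restr_apply {Q N : Type*} [Group Q] [Group N] (φ : Q →* MulAut N) (R : Subgroup N)
    (hR : ∀ q : Q, ∀ x ∈ R, φ q x ∈ R) (q : Q) (x : R) :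
    ((restr φ R hR q x : R) : N) = φ q x := rfl

def quot {Q N : Type*} [Group Q] [Group N] (φ : Q →* MulAut N) (M : Subgroup N) [M.Normal]
    (hM : ∀ q : Q, ∀ x ∈ M, φ q x ∈ M) : Q →* MulAut (N ⧸ M) where
  toFun q :=
    { toFun := QuotientGroup.map M M (φ q).toMonoidHom (fun x hx => hM q x hx)
      invFun := QuotientGroup.map M M (φ q⁻¹).toMonoidHom (fun x hx => hM q⁻¹ x hx)
      left_inv := fun x => by
        induction x using QuotientGroup.induction_on with
        | H x => simp [map_inv]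
      right_inv := fun x => by
        induction x using QuotientGroup.induction_on with
        | H x => simp [map_inv]
      map_mul' := fun x y => map_mul _ x y }
  map_one' := by
    ext x
    induction x using QuotientGroup.induction_on with
    | H x => simp
  map_mul' := fun a b => by
    ext x
    induction x using QuotientGroup.induction_on with
    | H x => simp

theorem quot_apply {Q N : Type*} [Group Q] [Group N] (φ : Q →* MulAut N) (M : Subgroup N) [M.Normal]
    (hM : ∀ q : Q, ∀ x ∈ M, φ q x ∈ M) (q : Q) (x : N) :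
    quot φ M hM q (x : N ⧸ M) = ((φ q x : N) : N ⧸ M) := rfl

theorem stab_lemma {Q N : Type*} [Group Q] [Group N] [Finite N] (p : ℕ) [Fact p.Prime]
    (hQ : IsPGroup p Q) (hcop : (Nat.card N).Coprime p) (φ : Q →* MulAut N) (q : Q)
    (M : Subgroup N) (hM : ∀ m ∈ M, φ q m = m) (x : N) (hx : x⁻¹ * φ q x ∈ M) : φ q x = x := by
  obtain ⟨m, hm⟩ : ∃ m, m = x⁻¹ * φ q x := ⟨_, rfl⟩
  rw [← hm] at hx
  have h1 : φ q x = x * m := by rw [hm]; group
  have h2 : ∀ j : ℕ, φ (q ^ j) x = x * m ^ j := by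
    intro j
    induction j with
    | zero => simp
    | succ j ih =>
      rw [pow_succ', map_mul, MulAut.mul_apply, ih, map_mul, h1, map_pow, hM m hx, pow_succ',
        mul_assoc]
  obtain ⟨k, hk⟩ := hQ q
  have h3 := h2 (p ^ k)
  rw [hk, map_one, MulAut.one_apply] at h3
  have h4 : m ^ (p ^ k) = 1 := by
    have := h3.symm
    simpa using this
  have hcop' : (Nat.card N).Coprime (p ^ k) := hcop.pow_right k
  have h5 : (powCoprime hcop') m = (powCoprime hcop') 1 := by
    simp only [powCoprime_apply, one_pow]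
    exact h4
  have h6 : m = 1 := (powCoprime hcop').injective h5
  rw [h1, h6, mul_one]

theorem exists_inv_sylow {Q N : Type*} [Group Q] [Group N] [Finite N] (p : ℕ) [Fact p.Prime]
    (hQ : IsPGroup p Q) (hcop : (Nat.card N).Coprime p) (φ : Q →* MulAut N) (r : ℕ)
    [Fact r.Prime] :
    ∃ S : Sylow r N, ∀ q : Q, ∀ x ∈ (S : Subgroup N), φ q x ∈ (S : Subgroup N) := by
  letI : MulDistribMulAction Q N := MulDistribMulAction.compHom N φ
  have hnd : ¬ p ∣ Nat.card (Sylow r N) := by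
    intro hd
    obtain ⟨S⟩ : Nonempty (Sylow r N) := inferInstance
    have h1 : Nat.card (Sylow r N) ∣ Nat.card N :=
      (Sylow.card_dvd_index S).trans (Subgroup.index_dvd_card _)
    have h2 : p ∣ Nat.card N := hd.trans h1
    have h3 := Nat.Coprime.eq_one_of_dvd hcop.symm h2
    exact (Fact.out : p.Prime).one_lt.ne' h3
  obtain ⟨S, hS⟩ := hQ.nonempty_fixed_point_of_prime_not_dvd_card (Sylow r N) hnd
  refine ⟨S, fun q x hx => ?_⟩
  have h1 : q • S = S := hS q
  have h2 : q • x ∈ (q • (S : Subgroup N)) := Subgroup.smul_mem_pointwise_smul x q _ hx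
  rw [← Sylow.pointwise_smul_def, h1] at h2
  exact h2

theorem act_trivial (p : ℕ) [Fact p.Prime] (hp3 : 3 ≤ p) {Q : Type*} [Group Q] [Finite Q]
    (hQ : IsPGroup p Q) (C D : Set Q) (hC : Subgroup.closure C = ⊤) (hD : Subgroup.closure D = ⊤) :
    ∀ (n : ℕ) (N : Type u) [Group N] [Finite N] (φ : Q →* MulAut N), Nat.card N = n →
    (Nat.card N).Coprime p →
    (∀ R : Subgroup N, (∀ q : Q, ∀ x ∈ R, φ q x ∈ R) → ∀ c ∈ C, ∀ d ∈ D, ∀ x ∈ R,
      ∃ y ∈ R, φ d y = y ∧ φ c (y⁻¹ * x) = y⁻¹ * x) →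
    ∀ q x, φ q x = x := by
  intro n
  induction n using Nat.strong_induction_on with
  | _ n ih =>
  intro N _ _ φ hn hcop hstar
  by_contra hnt
  push Not at hnt
  have hA : ∀ R : Subgroup N, (∀ q : Q, ∀ x ∈ R, φ q x ∈ R) → R ≠ ⊤ →
      ∀ q, ∀ x ∈ R, φ q x = x := by
    intro R hR hRtop q x hx
    have hlt : Nat.card R < n := by
      rw [← hn]
      exact lt_of_le_of_ne (Subgroup.card_le_card_group R)
        (fun h => hRtop (Subgroup.eq_top_of_card_eq R h))
    have hcopR : (Nat.card R).Coprime p :=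
      Nat.Coprime.coprime_dvd_left (Subgroup.card_subgroup_dvd_card R) hcop
    have hstarR : ∀ R' : Subgroup R, (∀ q : Q, ∀ x ∈ R', restr φ R hR q x ∈ R') →
        ∀ c ∈ C, ∀ d ∈ D, ∀ x ∈ R',
        ∃ y ∈ R', restr φ R hR d y = y ∧ restr φ R hR c (y⁻¹ * x) = y⁻¹ * x := by
      intro R' hR' c hc d hd x hx
      have hinv : ∀ q : Q, ∀ x ∈ R'.map R.subtype, φ q x ∈ R'.map R.subtype := by
        rintro q _ ⟨x', hx', rfl⟩
        exact ⟨restr φ R hR q x', hR' q x' hx', rfl⟩
      obtain ⟨y, ⟨y', hy', rfl⟩, h1, h2⟩ := hstar (R'.map R.subtype) hinv c hc d hd x ⟨x, hx, rfl⟩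
      exact ⟨y', hy', Subtype.ext h1, Subtype.ext h2⟩
    have := ih (Nat.card R) hlt R (restr φ R hR) rfl hcopR hstarR q ⟨x, hx⟩
    exact congrArg Subtype.val this
  have hB : ∀ M : Subgroup N, M.Normal → (∀ q : Q, ∀ x ∈ M, φ q x ∈ M) → M ≠ ⊥ →
      ∀ q x, x⁻¹ * φ q x ∈ M := by
    intro M hMn hM hMbot q x
    have hlt : Nat.card (N ⧸ M) < n := by
      rw [← hn, Subgroup.card_eq_card_quotient_mul_card_subgroup M]
      have h1 : 1 < Nat.card M := (Subgroup.one_lt_card_iff_ne_bot M).mpr hMbot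
      have h2 : 0 < Nat.card (N ⧸ M) := Nat.card_pos
      nlinarith
    have hcopM : (Nat.card (N ⧸ M)).Coprime p :=
      Nat.Coprime.coprime_dvd_left (Subgroup.card_quotient_dvd_card M) hcop
    have hstarM : ∀ R' : Subgroup (N ⧸ M), (∀ q : Q, ∀ x ∈ R', quot φ M hM q x ∈ R') →
        ∀ c ∈ C, ∀ d ∈ D, ∀ x ∈ R',
        ∃ y ∈ R', quot φ M hM d y = y ∧ quot φ M hM c (y⁻¹ * x) = y⁻¹ * x := by
      intro R' hR' c hc d hd x hx
      obtain ⟨x, rfl⟩ := QuotientGroup.mk_surjective x
      have hinv : ∀ q : Q, ∀ x ∈ R'.comap (QuotientGroup.mk' M),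
          φ q x ∈ R'.comap (QuotientGroup.mk' M) := by
        intro q x hx
        exact hR' q _ hx
      obtain ⟨y, hy, h1, h2⟩ := hstar (R'.comap (QuotientGroup.mk' M)) hinv c hc d hd x hx
      refine ⟨(y : N ⧸ M), hy, ?_, ?_⟩
      · rw [quot_apply, h1]
      · rw [← QuotientGroup.mk_inv, ← QuotientGroup.mk_mul, quot_apply, h2]
    have := ih (Nat.card (N ⧸ M)) hlt (N ⧸ M) (quot φ M hM) rfl hcopM hstarM q (x : N ⧸ M)
    rw [quot_apply] at this
    exact QuotientGroup.eq.mp this.symm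
  -- N is an r-group
  have hr : ∃ r : ℕ, r.Prime ∧ IsPGroup r N := by
    by_contra hno
    push Not at hno
    let F : Subgroup N :=
      { carrier := {x | ∀ q, φ q x = x}
        mul_mem' := by
          intro a b ha hb q
          rw [map_mul, ha q, hb q]
        one_mem' := fun q => map_one _
        inv_mem' := by
          intro a ha q
          rw [map_inv, ha q] }
    have hF : F = ⊤ := by
      apply Subgroup.eq_top_of_card_eq
      apply Nat.dvd_antisymm (Subgroup.card_subgroup_dvd_card F)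
      rw [← Nat.factorization_le_iff_dvd Nat.card_pos.ne' Nat.card_pos.ne']
      intro r
      by_cases hrp : r.Prime
      · haveI := Fact.mk hrp
        obtain ⟨S, hS⟩ := exists_inv_sylow p hQ hcop φ r
        have hStop : (S : Subgroup N) ≠ ⊤ := by
          intro htop
          apply hno r hrp
          have h1 : IsPGroup r (⊤ : Subgroup N) := htop ▸ S.isPGroup'
          exact h1.of_equiv Subgroup.topEquiv
        have hSF : (S : Subgroup N) ≤ F := fun x hx q => hA S hS hStop q x hx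
        have h1 : Nat.card S ∣ Nat.card F := Subgroup.card_dvd_of_le hSF
        rw [Sylow.card_eq_multiplicity] at h1
        exact (hrp.pow_dvd_iff_le_factorization Nat.card_pos.ne').mp h1
      · simp [Nat.factorization_eq_zero_of_not_prime _ hrp]
    obtain ⟨q, x, hqx⟩ := hnt
    have hx : x ∈ F := by rw [hF]; trivial
    exact hqx (hx q)
  obtain ⟨r, hrp, hrN⟩ := hr
  haveI := Fact.mk hrp
  haveI : Nontrivial N := by
    by_contra hsub
    rw [not_nontrivial_iff_subsingleton] at hsub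
    obtain ⟨q, x, hqx⟩ := hnt
    exact hqx (Subsingleton.elim _ _)
  haveI : Group.IsNilpotent N := hrN.isNilpotent
  have hcomlt : commutator N < ⊤ := Group.IsSolvable.commutator_lt_top_of_nontrivial N
  have hcominv : ∀ q : Q, ∀ x ∈ commutator N, φ q x ∈ commutator N := by
    intro q x hx
    have h1 := (inferInstance : (commutator N).Characteristic).fixed (φ q)⁻¹
    rw [← h1]
    show (φ q)⁻¹ (φ q x) ∈ commutator N
    simpa using hx
  have hcomm : ∀ a b : N, a * b = b * a := by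
    by_cases hbot : commutator N = ⊥
    · intro a b
      have h1 : a * b * a⁻¹ * b⁻¹ ∈ commutator N :=
        Subgroup.commutator_mem_commutator (Subgroup.mem_top a) (Subgroup.mem_top b)
      rw [hbot, Subgroup.mem_bot] at h1
      calc a * b = (a * b * a⁻¹ * b⁻¹) * b * a := by group
        _ = b * a := by rw [h1, one_mul]
    · exfalso
      obtain ⟨q, x, hqx⟩ := hnt
      apply hqx
      exact stab_lemma p hQ hcop φ q (commutator N)
        (fun m hm => hA _ hcominv hcomlt.ne q m hm) x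
        (hB _ inferInstance hcominv hbot q x)
  letI : CommGroup N := { (inferInstance : Group N) with mul_comm := hcomm }
  have hcore := core (V := N) p hp3 φ.range (hQ.of_surjective φ.rangeRestrict φ.rangeRestrict_surjective)
    hcop ?_ (φ '' C) (φ '' D) ?_ ?_ ?_
  · obtain ⟨q, x, hqx⟩ := hnt
    apply hqx
    have h1 : φ q ∈ φ.range := ⟨q, rfl⟩
    rw [hcore, Subgroup.mem_bot] at h1
    rw [h1]; rfl
  · -- fpf
    rintro z ⟨q₀, rfl⟩ hz1 hzc v hv
    have hFinv : ∀ q : Q, ∀ x ∈ fixS (φ q₀), φ q x ∈ fixS (φ q₀) := by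
      intro q x hx
      show φ q₀ (φ q x) = φ q x
      have h1 := hzc (φ q) ⟨q, rfl⟩
      rw [← MulAut.mul_apply, ← h1, MulAut.mul_apply, show φ q₀ x = x from hx]
    have hFtop : fixS (φ q₀) ≠ ⊤ := by
      intro htop
      apply hz1
      ext w
      have : w ∈ fixS (φ q₀) := by rw [htop]; trivial
      exact this
    by_contra hv1
    have hFbot : fixS (φ q₀) ≠ ⊥ := by
      intro hbot
      have : v ∈ fixS (φ q₀) := hv
      rw [hbot, Subgroup.mem_bot] at this
      exact hv1 this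
    obtain ⟨q, x, hqx⟩ := hnt
    apply hqx
    exact stab_lemma p hQ hcop φ q (fixS (φ q₀))
      (fun m hm => hA _ hFinv hFtop q m hm) x
      (hB _ inferInstance hFinv hFbot q x)
  · rw [← MonoidHom.map_closure, hC, MonoidHom.range_eq_map]
  · rw [← MonoidHom.map_closure, hD, MonoidHom.range_eq_map]
  · rintro _ ⟨c, hc, rfl⟩ _ ⟨d, hd, rfl⟩ x
    obtain ⟨y, -, h1, h2⟩ := hstar ⊤ (fun _ _ _ => trivial) c hc d hd x trivial
    exact ⟨y, h1, h2⟩

end Red

section Top
open scoped Pointwise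

theorem main {G : Type u} [Group G] [Finite G] (p : ℕ) [Fact p.Prime] (hp3 : 3 ≤ p) (P : Sylow p G)
    (N : Subgroup G) [N.Normal] (hN : (Nat.card N).Coprime p)
    (C D : Set G) (hC : Subgroup.closure C = (P : Subgroup G))
    (hD : Subgroup.closure D = (P : Subgroup G))
    (h : ∀ x ∈ N, ∀ c ∈ C, ∀ d ∈ D,
      IsPGroup p ↥(Subgroup.closure ({x * c * x⁻¹, d} : Set G))) :
    ⁅(P : Subgroup G), N⁆ = ⊥ := by
  let φ : (P : Subgroup G) →* MulAut N :=
    (MulAut.conjNormal (H := N)).comp (P : Subgroup G).subtype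
  have hφ : ∀ (q : (P : Subgroup G)) (x : N), ((φ q x : N) : G) = q * x * (q : G)⁻¹ :=
    fun q x => rfl
  have hgen : ∀ C : Set G, Subgroup.closure C = (P : Subgroup G) →
      Subgroup.closure ((Subtype.val : ↥(P : Subgroup G) → G) ⁻¹' C) = ⊤ := by
    intro C hC
    have hCP : C ⊆ (P : Subgroup G) := by rw [← hC]; exact Subgroup.subset_closure
    apply Subgroup.map_injective (P : Subgroup G).subtype_injective
    rw [MonoidHom.map_closure, ← MonoidHom.range_eq_map, Subgroup.range_subtype]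
    have e : (P : Subgroup G).subtype '' ((Subtype.val : ↥(P : Subgroup G) → G) ⁻¹' C) = C := by
      ext g
      constructor
      · rintro ⟨⟨g, hg⟩, hgC, rfl⟩; exact hgC
      · intro hg; exact ⟨⟨g, hCP hg⟩, hg, rfl⟩
    rw [e, hC]
  have hdisj : ∀ g : G, g ∈ N → g ∈ (P : Subgroup G) → g = 1 := by
    intro g hgN hgP
    obtain ⟨k, hk⟩ := P.isPGroup' ⟨g, hgP⟩
    have h1 : g ^ p ^ k = 1 := congrArg Subtype.val hk
    have h2 : g ^ Nat.card N = 1 := by
      have := pow_card_eq_one' (G := N) (x := ⟨g, hgN⟩)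
      exact congrArg Subtype.val this
    have h3 := pow_gcd_eq_one.mpr ⟨h2, h1⟩
    rw [Nat.Coprime.gcd_eq_one (hN.pow_right k), pow_one] at h3
    exact h3
  have key := act_trivial p hp3 (Q := (P : Subgroup G)) P.isPGroup' _ _ (hgen C hC) (hgen D hD)
    (Nat.card N) N φ rfl hN ?_
  · rw [Subgroup.commutator_eq_bot_iff_le_centralizer]
    intro q hq
    rw [Subgroup.mem_centralizer_iff]
    intro x hx
    have h1 := key ⟨q, hq⟩ ⟨x, hx⟩
    have h2 : q * x * q⁻¹ = x := congrArg Subtype.val h1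
    calc x * q = (q * x * q⁻¹) * q := by rw [h2]
      _ = q * x := by group
  · intro R hR c hc d hd x hx
    have hnorm : (P : Subgroup G) ≤ Subgroup.normalizer ((R.map N.subtype : Subgroup G) : Set G) := by
      intro q hq
      rw [Subgroup.mem_normalizer_iff]
      intro g
      constructor
      · rintro ⟨g', hg', rfl⟩
        exact ⟨φ ⟨q, hq⟩ g', hR ⟨q, hq⟩ g' hg', rfl⟩
      · rintro ⟨g', hg', hgg⟩
        refine ⟨φ ⟨q, hq⟩⁻¹ g', hR _ g' hg', ?_⟩
        show ((φ ⟨q, hq⟩⁻¹ g' : N) : G) = g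
        rw [hφ]
        have : (g' : G) = q * g * q⁻¹ := hgg
        rw [this]
        simp only [Subgroup.coe_inv]
        group
    have hH : IsPGroup p ↥(Subgroup.closure ({(x : G) * (c : G) * (x : G)⁻¹, (d : G)} : Set G)) :=
      h x x.2 c hc d hd
    set H := Subgroup.closure ({(x : G) * (c : G) * (x : G)⁻¹, (d : G)} : Set G) with hHdef
    set L := R.map N.subtype ⊔ (P : Subgroup G) with hLdef
    have hxL : (x : G) ∈ L := (le_sup_left : R.map N.subtype ≤ L) ⟨x, hx, rfl⟩
    have hPL : (P : Subgroup G) ≤ L := le_sup_right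
    have hHL : H ≤ L := by
      rw [hHdef, Subgroup.closure_le]
      intro g hg
      rcases hg with rfl | rfl
      · exact mul_mem (mul_mem hxL (hPL c.2)) (inv_mem hxL)
      · exact hPL d.2
    obtain ⟨S, hS⟩ := (hH.comap_subtype (K := L)).exists_le_sylow
    obtain ⟨l, hl⟩ := MulAction.exists_smul_eq L (P.subtype hPL) S
    have hconj : ∀ g : G, g ∈ H → (l : G)⁻¹ * g * l ∈ (P : Subgroup G) := by
      intro g hg
      have h1 : (⟨g, hHL hg⟩ : L) ∈ (S : Subgroup L) := hS (Subgroup.mem_subgroupOf.mpr hg)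
      rw [← hl, Sylow.coe_subgroup_smul, Subgroup.mem_pointwise_smul_iff_inv_smul_mem] at h1
      have h2 : (l⁻¹ * ⟨g, hHL hg⟩ * l : L) ∈ ((P.subtype hPL : Sylow p L) : Subgroup L) := by
        simpa [MulAut.smul_def] using h1
      rw [Sylow.coe_subtype, Subgroup.mem_subgroupOf] at h2
      simpa using h2
    have hl' : (l : G) ∈ ((R.map N.subtype ⊔ (P : Subgroup G) : Subgroup G) : Set G) := l.2
    rw [Subgroup.coe_mul_of_right_le_normalizer_left (R.map N.subtype) (P : Subgroup G) hnorm] at hl'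
    obtain ⟨r, hr, q, hq, hrq⟩ := hl'
    obtain ⟨r', hr', rfl⟩ := hr
    have hconj2 : ∀ g ∈ H, (r' : G)⁻¹ * g * r' ∈ (P : Subgroup G) := by
      intro g hg
      have h0 := hconj g hg
      have hrq' : (l : G) = (r' : G) * q := hrq.symm
      rw [hrq'] at h0
      have h3 : (r' : G)⁻¹ * g * r' = q * (((r' : G) * q)⁻¹ * g * ((r' : G) * q)) * q⁻¹ := by group
      rw [h3]
      exact mul_mem (mul_mem hq h0) (inv_mem hq)
    refine ⟨r', hr', ?_, ?_⟩
    · apply Subtype.ext
      rw [hφ]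
      have hd1 := hconj2 (d : G) (Subgroup.subset_closure (by simp))
      have e := hdisj ((r' : G)⁻¹ * (d : G) * r' * (d : G)⁻¹) (by
        have e1 : (r' : G)⁻¹ * (d : G) * r' * (d : G)⁻¹ = (r' : G)⁻¹ * ((d : G) * r' * (d : G)⁻¹) := by
          group
        rw [e1]
        exact mul_mem (inv_mem r'.2) (Subgroup.Normal.conj_mem inferInstance _ r'.2 _))
        (mul_mem hd1 (inv_mem d.2))
      calc (d : G) * r' * (d : G)⁻¹ = r' * ((r' : G)⁻¹ * (d : G) * r' * (d : G)⁻¹) := by group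
        _ = r' := by rw [e, mul_one]
    · apply Subtype.ext
      rw [hφ]
      obtain ⟨w, hw⟩ : ∃ w : G, w = ((r'⁻¹ * x : N) : G) := ⟨_, rfl⟩
      rw [← hw]
      have hw' : w = (r' : G)⁻¹ * (x : G) := by rw [hw]; simp
      have hwN : w ∈ N := by rw [hw]; exact (r'⁻¹ * x).2
      have hc1 := hconj2 ((x : G) * (c : G) * (x : G)⁻¹) (Subgroup.subset_closure (by simp))
      have hwc : w * (c : G) * w⁻¹ ∈ (P : Subgroup G) := by
        have e1 : w * (c : G) * w⁻¹ = (r' : G)⁻¹ * ((x : G) * (c : G) * (x : G)⁻¹) * r' := by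
          rw [hw']; group
        rw [e1]; exact hc1
      have e := hdisj (w * (c : G) * w⁻¹ * (c : G)⁻¹) (by
        have e1 : w * (c : G) * w⁻¹ * (c : G)⁻¹ = w * ((c : G) * w⁻¹ * (c : G)⁻¹) := by group
        rw [e1]
        exact mul_mem hwN (Subgroup.Normal.conj_mem inferInstance _ (inv_mem hwN) _))
        (mul_mem hwc (inv_mem c.2))
      calc (c : G) * w * (c : G)⁻¹ = (w * (c : G) * w⁻¹ * (c : G)⁻¹)⁻¹ * w := by group
        _ = w := by rw [e, inv_one, one_mul]

end Top

end Aux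

/-- Let p ≥ 3 be prime and G a finite group with a Sylow p-subgroup P and a normal p-complement N (N normal, of order prime to p, with NP = G). Suppose P is generated by a subset C and also by a subset D, and that ⟨x c x⁻¹, d⟩ is a p-group for all x ∈ N, c ∈ C, d ∈ D. Then P centralizes N, so that G = N × P. -/
theorem result {G : Type*} [Group G] [Finite G] (p : ℕ) [Fact p.Prime] (hp3 : 3 ≤ p) (P : Sylow p G)
    (N : Subgroup G) [N.Normal] (hN : (Nat.card N).Coprime p) (hNP : N ⊔ (P : Subgroup G) = ⊤)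
    (C D : Set G) (hC : Subgroup.closure C = (P : Subgroup G)) (hD : Subgroup.closure D = (P : Subgroup G))
    (h : ∀ x ∈ N, ∀ c ∈ C, ∀ d ∈ D, IsPGroup p ↥(Subgroup.closure ({x * c * x⁻¹, d} : Set G))) :
    ⁅(P : Subgroup G), N⁆ = ⊥ := by
  exact main p hp3 P N hN C D hC hD h

end Cfsg.Agent.S2277
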