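import Cfsg.Statements.S2322
import Mathlib
import Cfsg.Agent.Lib_helper8_SL2Vals

set_option autoImplicit false
open Cfsg

namespace Cfsg.Agent.S2322

/-- Over a finite field F with q elements, q odd: every irreducible complex character of SL₂ of degree q − 1 or (q − 1)/2 vanishes at every diagonal matrix whose diagonal entry a has a² ≠ 1, and every irreducible complex character of degree q + 1 or (q + 1)/2 vanishes at every element with no eigenvector in F². -/
theorem result {F : Type*} [Field F] [Fintype F] (hodd : Odd (Fintype.card F)) (χ : Matrix.SpecialLinearGroup (Fin 2) F → ℂ) (hχ : Cfsg.IsIrrCharacter (Matrix.SpecialLinearGroup (Fin 2) F) χ) (g : Matrix.SpecialLinearGroup (Fin 2) F) :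
    ((χ 1 = (Fintype.card F : ℂ) - 1 ∨ χ 1 = (((Fintype.card F - 1) / 2 : ℕ) : ℂ)) →
      (g : Matrix (Fin 2) (Fin 2) F) 0 1 = 0 → (g : Matrix (Fin 2) (Fin 2) F) 1 0 = 0 → (g : Matrix (Fin 2) (Fin 2) F) 0 0 ^ 2 ≠ 1 → χ g = 0) ∧
    ((χ 1 = (Fintype.card F : ℂ) + 1 ∨ χ 1 = (((Fintype.card F + 1) / 2 : ℕ) : ℂ)) →
      (∀ (c : F) (v : Fin 2 → F), v ≠ 0 → (g : Matrix (Fin 2) (Fin 2) F).mulVec v ≠ c • v) → χ g = 0) := by
  classical
  haveI : Fintype (Matrix.GeneralLinearGroup (Fin 2) F) := Fintype.ofFinite _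
  haveI : Fintype (Matrix.SpecialLinearGroup (Fin 2) F) := Fintype.ofFinite _
  haveI : Fintype (MulChar F ℂ) := Fintype.ofFinite _
  haveI : Finite (Cfsg.IrrCharacter (Matrix.GeneralLinearGroup (Fin 2) F)) :=
    Cfsg.Agent.Lib_helper3_CharBasic.irr_finite
  haveI : Fintype (Cfsg.IrrCharacter (Matrix.GeneralLinearGroup (Fin 2) F)) := Fintype.ofFinite _
  have hodd' := hodd
  have h2 : (2 : F) ≠ 0 := Cfsg.Agent.Lib_helper8_SL2Odd.two_ne_of_odd hodd
  obtain ⟨m, hm⟩ := hodd
  have hq2' : 2 ≤ Fintype.card F := Fintype.one_lt_card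
  have hm1 : 1 ≤ m := by omega
  have e1 : (Fintype.card F + 1) / 2 = m + 1 := by omega
  have e2 : (Fintype.card F - 1) / 2 = m := by omega
  have hq1 : (Fintype.card F : ℂ) + 1 = ((2 * m + 2 : ℕ) : ℂ) := by
    rw [hm]
    push_cast
    ring
  have hq2 : (Fintype.card F : ℂ) - 1 = ((2 * m : ℕ) : ℂ) := by
    rw [hm]
    push_cast
    ring
  rw [e1, e2, hq1, hq2]
  have hcls := Cfsg.Agent.Lib_helper8_SL2Vals.cls_deg hodd' m hm hχ
  have hcf := Cfsg.Agent.Lib_helper3_CharBasic.isClassFunction_of_irr hχ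
  have hdet := Cfsg.Agent.Lib_helper8_SL2Conj.det_entries g
  refine ⟨?_, ?_⟩
  · intro hdeg h01 h10 hsq
    have h00 : (g : Matrix (Fin 2) (Fin 2) F) 0 0 ≠ 0 := by
      intro h
      rw [h, h01] at hdet
      simp at hdet
    by_cases hm2 : m = 1
    · exfalso
      have h5 := FiniteField.pow_card_sub_one_eq_one _ h00
      have h6 : Fintype.card F - 1 = 2 := by omega
      rw [h6] at h5
      exact hsq h5
    · have hm2' : 2 ≤ m := by omega
      have htr : (g : Matrix (Fin 2) (Fin 2) F).trace ^ 2 ≠ 4 := by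
        intro h4
        rw [Matrix.trace_fin_two] at h4
        apply hsq
        have h7 : ((g : Matrix (Fin 2) (Fin 2) F) 0 0 - (g : Matrix (Fin 2) (Fin 2) F) 1 1) ^ 2 = 0 := by
          linear_combination h4 - 4 * hdet - 4 * (g : Matrix (Fin 2) (Fin 2) F) 1 0 * h01
        have h8 : (g : Matrix (Fin 2) (Fin 2) F) 0 0 = (g : Matrix (Fin 2) (Fin 2) F) 1 1 :=
          sub_eq_zero.mp (pow_eq_zero_iff (two_ne_zero) |>.mp h7)
        linear_combination hdet + (g : Matrix (Fin 2) (Fin 2) F) 0 0 * h8 +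
          (g : Matrix (Fin 2) (Fin 2) F) 1 0 * h01
      obtain ⟨a, b, ha, hb, hgab⟩ := Cfsg.Agent.Lib_helper8_GL2Irr.split_form
        (Matrix.SpecialLinearGroup.toGL g) h01 h10
      have hab : a ≠ b := by
        intro h
        apply hsq
        have h8 : (g : Matrix (Fin 2) (Fin 2) F) 0 0 = (g : Matrix (Fin 2) (Fin 2) F) 1 1 := by
          have h9 : (a : F) = (b : F) := by rw [h]
          rw [ha, hb] at h9
          exact h9
        linear_combination hdet + (g : Matrix (Fin 2) (Fin 2) F) 0 0 * h8 +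
          (g : Matrix (Fin 2) (Fin 2) F) 1 0 * h01
      have hcusp : ∀ θ : Matrix.GeneralLinearGroup (Fin 2) F → ℂ,
          Cfsg.Agent.Lib_helper8_SL2Odd.IsCusp θ → θ (Matrix.SpecialLinearGroup.toGL g) = 0 := by
        intro θ hθ
        rw [hgab]
        exact Cfsg.Agent.Lib_helper8_GL2Irr.cusp_split
          (Cfsg.Agent.Lib_helper3_CharBasic.isClassFunction_of_irr hθ.1) hθ.2.1 a b hab
      rcases hdeg with hd | hd
      · rcases hcls with ⟨h, -⟩ | ⟨h, -⟩ | ⟨h, -⟩ | ⟨h, θ, hθ, hres⟩ | ⟨h, -⟩ | ⟨h, -⟩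
        · have := Nat.cast_injective (hd.symm.trans h)
          omega
        · have := Nat.cast_injective (hd.symm.trans h)
          omega
        · have := Nat.cast_injective (hd.symm.trans h)
          omega
        · rw [← hres g]
          exact hcusp θ hθ
        · have := Nat.cast_injective (hd.symm.trans h)
          omega
        · have := Nat.cast_injective (hd.symm.trans h)
          omega
      · rcases hcls with ⟨h, -⟩ | ⟨h, -⟩ | ⟨h, -⟩ | ⟨h, -⟩ | ⟨h, -⟩ |
          ⟨h, θ, χ', y, hθ, hχ', hne, hy, hsum⟩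
        · have := Nat.cast_injective (hd.symm.trans h)
          omega
        · have := Nat.cast_injective (hd.symm.trans h)
          omega
        · have := Nat.cast_injective (hd.symm.trans h)
          omega
        · have := Nat.cast_injective (hd.symm.trans h)
          omega
        · have := Nat.cast_injective (hd.symm.trans h)
          omega
        · have h5 := hsum g
          rw [hcusp θ hθ, Cfsg.Agent.Lib_helper8_SL2Vals.conjRel_ss h2 hcf hy g htr] at h5
          have h6 : (2 : ℂ) * χ g = 0 := by linear_combination -h5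
          rcases mul_eq_zero.mp h6 with h7 | h7
          · norm_num at h7
          · exact h7
  · intro hdeg hno
    have htr := Cfsg.Agent.Lib_helper8_SL2Vals.ell_trace h2 g hno
    obtain ⟨h10, hroot⟩ := Cfsg.Agent.Lib_helper8_GL2Irr.ell_cond
      (Matrix.SpecialLinearGroup.toGL g) hno
    have hps : ∀ γ : MulChar F ℂ, Cfsg.Agent.Lib_helper8_GL2Irr.psR γ 1
        (Matrix.SpecialLinearGroup.toGL g) = 0 :=
      fun γ => Cfsg.Agent.Lib_helper8_GL2Irr.psR_ell γ 1 _ h10 hroot
    have hT5 : ∀ (γ : MulChar F ℂ) (χ' : Matrix.SpecialLinearGroup (Fin 2) F → ℂ)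
        (y : Matrix.GeneralLinearGroup (Fin 2) F),
        Cfsg.Agent.Lib_helper8_SL2Odd.ConjRel χ χ' y →
        (∀ s, Cfsg.Agent.Lib_helper8_GL2Irr.psR γ 1 (Matrix.SpecialLinearGroup.toGL s) =
          χ s + χ' s) → χ g = 0 := by
      intro γ χ' y hy hsum
      have h5 := hsum g
      rw [hps γ, Cfsg.Agent.Lib_helper8_SL2Vals.conjRel_ss h2 hcf hy g htr] at h5
      have h6 : (2 : ℂ) * χ g = 0 := by linear_combination -h5
      rcases mul_eq_zero.mp h6 with h7 | h7
      · norm_num at h7
      · exact h7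
    rcases hdeg with hd | hd
    · rcases hcls with ⟨h, -⟩ | ⟨h, -⟩ | ⟨h, γ, hγ, hχeq⟩ | ⟨h, -⟩ | ⟨h, -⟩ | ⟨h, -⟩
      · have := Nat.cast_injective (hd.symm.trans h)
        omega
      · have := Nat.cast_injective (hd.symm.trans h)
        omega
      · rw [hχeq]
        exact hps γ
      · have := Nat.cast_injective (hd.symm.trans h)
        omega
      · have := Nat.cast_injective (hd.symm.trans h)
        omega
      · have := Nat.cast_injective (hd.symm.trans h)
        omega
    · rcases hcls with ⟨h, -⟩ | ⟨h, -⟩ | ⟨h, -⟩ | ⟨h, θ, hθ, hres⟩ |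
        ⟨h, γ, χ', y, hγ1, hγ2, hχ', hne, hy, hsum⟩ | ⟨h, -⟩
      · have := Nat.cast_injective (hd.symm.trans h)
        omega
      · have := Nat.cast_injective (hd.symm.trans h)
        omega
      · have := Nat.cast_injective (hd.symm.trans h)
        omega
      · have hmm := Nat.cast_injective (hd.symm.trans h)
        have hm1' : m = 1 := by omega
        have hχeq : (fun s : Matrix.SpecialLinearGroup (Fin 2) F =>
            θ (Matrix.SpecialLinearGroup.toGL s)) = χ := funext hres
        have hirr : Cfsg.IsIrrCharacter (Matrix.SpecialLinearGroup (Fin 2) F)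
            (fun s : Matrix.SpecialLinearGroup (Fin 2) F =>
              θ (Matrix.SpecialLinearGroup.toGL s)) := by
          rw [hχeq]
          exact hχ
        have h5 := Cfsg.Agent.Lib_helper8_SL2Vals.cusp_rest hodd' hθ hirr
        have hq3 : (Fintype.card F : ℝ) = 3 := by
          rw [hm, hm1']
          norm_num
        rw [hq3] at h5
        have h6 : (3 : ℝ) * (3 - 1) * (3 - 3) = 0 := by norm_num
        rw [h6] at h5
        have h7 := (Finset.sum_eq_zero_iff_of_nonneg (fun s _ => sq_nonneg _)).mp h5 g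
          (Finset.mem_filter.mpr ⟨Finset.mem_univ _, htr⟩)
        rw [← hres g]
        have h8 : ‖θ (Matrix.SpecialLinearGroup.toGL g)‖ = 0 := by
          exact pow_eq_zero_iff (two_ne_zero) |>.mp h7
        exact norm_eq_zero.mp h8
      · exact hT5 γ χ' y hy hsum
      · have := Nat.cast_injective (hd.symm.trans h)
        omega

end Cfsg.Agent.S2322
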