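import Cfsg.Statements.S2356
import Mathlib
import Cfsg.Agent.S2360
import Cfsg.Agent.S2164
import Cfsg.Agent.Lib_helper4_HermCount
import Cfsg.Agent.S0285
import Cfsg.Agent.Lib_helper8_HermWitt
import Cfsg.Agent.S2677

set_option autoImplicit false
open Cfsg

namespace Cfsg.Agent.S2356

section Aux
open Matrix Cfsg.Agent.Lib_helper4_Herm Cfsg.Agent.Lib_helper4_GU Cfsg.Agent.Lib_helper4_SUCenter
  Cfsg.Agent.Lib_helper8_HermWitt Cfsg.Agent.S2360 Cfsg.Agent.Lib_helper4_HermCount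

variable {K : Type*} [Field K] [Fintype K] {q : ℕ}

omit [Fintype K] in
theorem neg_one_norm (hq : Odd q) : (-1 : K) ^ (q + 1) = 1 := by
  obtain ⟨r, hr⟩ := hq
  rw [hr, show 2 * r + 1 + 1 = 2 * (r + 1) by ring, pow_mul]
  norm_num

theorem commute_of_orth (hK : Fintype.card K = q ^ 2) (hq : Odd q) (v w : Fin 3 → K)
    (hv : Cfsg.hermForm 3 K q v v = 1) (hw : Cfsg.hermForm 3 K q w w = 1)
    (hvw : Cfsg.hermForm 3 K q v w = 0) : Commute (rS hK v hv) (rS hK w hw) := by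
  show rS hK v hv * rS hK w hw = rS hK w hw * rS hK v hv
  apply Subtype.ext; apply Subtype.ext
  show R q v * R q w = R q w * R q v
  have h3 := R_conj (R q w) (R_pres hK w hw) v
  have h4 : R q w *ᵥ v = (-1 : K) • v := by
    rw [R_mulVec, hvw, mul_zero, zero_smul, zero_sub, neg_one_smul]
  rw [h4, R_smul v (-1) (neg_one_norm hq)] at h3
  exact h3.symm

theorem ne_of_orth (hK : Fintype.card K = q ^ 2) (h2 : (2 : K) ≠ 0) (v w : Fin 3 → K)
    (hv : Cfsg.hermForm 3 K q v v = 1) (hw : Cfsg.hermForm 3 K q w w = 1)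
    (hvw : Cfsg.hermForm 3 K q v w = 0) : rS hK v hv ≠ rS hK w hw := by
  have hq0 : q ≠ 0 := Nat.pos_iff_ne_zero.mp (q_pos hK)
  intro h
  have h1 : R q v = R q w := congrArg (fun z : ↥(Cfsg.SU 3 K q) =>
    ((z.1 : Matrix.SpecialLinearGroup (Fin 3) K) : Matrix (Fin 3) (Fin 3) K)) h
  obtain ⟨c, hc, hwc⟩ := R_eq hK h2 v w hv hw h1
  rw [hwc, herm_smul_right, hv, mul_one] at hvw
  have hc0 : c = 0 := (pow_eq_zero_iff hq0).mp hvw
  rw [hc0, zero_pow (by omega)] at hc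
  exact zero_ne_one hc

theorem c1_iff (hK : Fintype.card K = q ^ 2) (hq : Odd q) (h2 : (2 : K) ≠ 0) (v w : Fin 3 → K)
    (hv : Cfsg.hermForm 3 K q v v = 1) (hw : Cfsg.hermForm 3 K q w w = 1) :
    (rS hK w hw ≠ rS hK v hv ∧ Commute (rS hK v hv) (rS hK w hw)) ↔
      Cfsg.hermForm 3 K q w v = 0 := by
  have hq0 : q ≠ 0 := Nat.pos_iff_ne_zero.mp (q_pos hK)
  constructor
  · rintro ⟨hne, hc⟩
    have h1 := orth_of_commute hK h2 v w hv hw (Ne.symm hne) hc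
    rw [← herm_conj hK v w, h1, zero_pow hq0]
  · intro h
    have hvw : Cfsg.hermForm 3 K q v w = 0 := by rw [← herm_conj hK w v, h, zero_pow hq0]
    exact ⟨(ne_of_orth hK h2 v w hv hw hvw).symm, commute_of_orth hK hq v w hv hw hvw⟩

theorem exists_third (hK : Fintype.card K = q ^ 2) (v z : Fin 3 → K)
    (hv : Cfsg.hermForm 3 K q v v = 1) (hz : Cfsg.hermForm 3 K q z z = 1)
    (hvz : Cfsg.hermForm 3 K q v z = 0) :
    ∃ z2 : Fin 3 → K, Cfsg.hermForm 3 K q z2 z2 = 1 ∧ Cfsg.hermForm 3 K q v z2 = 0 ∧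
      Cfsg.hermForm 3 K q z z2 = 0 := by
  have hq0 : q ≠ 0 := Nat.pos_iff_ne_zero.mp (q_pos hK)
  have hzv : Cfsg.hermForm 3 K q z v = 0 := by rw [← herm_conj hK v z, hvz, zero_pow hq0]
  set e : Fin 2 → Fin 3 → K := ![Pi.single 0 1, Pi.single 1 1] with he
  set f : Fin 2 → Fin 3 → K := ![v, z] with hf
  have hee : ∀ i j, Cfsg.hermForm 3 K q (e i) (e j) = if i = j then 1 else 0 := by
    intro i j
    fin_cases i <;> fin_cases j <;> simp [he, herm_single_right hq0]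
  have hff : ∀ i j, Cfsg.hermForm 3 K q (f i) (f j) = if i = j then 1 else 0 := by
    intro i j
    fin_cases i <;> fin_cases j <;> simp [hf, hv, hz, hvz, hzv]
  obtain ⟨M, hM, hMe⟩ := witt_family hK e f (Cfsg.Agent.S2164.li_of_dual e e hee)
    (Cfsg.Agent.S2164.li_of_dual f f hff) (fun i j => by rw [hff, hee])
  have h0 : v = M *ᵥ (Pi.single 0 1) := (hMe 0).symm
  have h1 : z = M *ᵥ (Pi.single 1 1) := (hMe 1).symm
  refine ⟨M *ᵥ Pi.single 2 1, ?_, ?_, ?_⟩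
  · rw [hM, herm_single_right hq0, Pi.single_eq_same]
  · rw [h0, hM, herm_single_right hq0]
    simp
  · rw [h1, hM, herm_single_right hq0]
    simp

theorem expand (hK : Fintype.card K = q ^ 2) (h2 : (2 : K) ≠ 0) (u1 u2 v x : Fin 3 → K)
    (hu1 : Cfsg.hermForm 3 K q u1 u1 = 1) (hu2 : Cfsg.hermForm 3 K q u2 u2 = 1)
    (hv : Cfsg.hermForm 3 K q v v = 1) (h12 : Cfsg.hermForm 3 K q u1 u2 = 0)
    (h1v : Cfsg.hermForm 3 K q u1 v = 0) (h2v : Cfsg.hermForm 3 K q u2 v = 0)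
    (hxv : Cfsg.hermForm 3 K q x v = 0) :
    x = Cfsg.hermForm 3 K q x u1 • u1 + Cfsg.hermForm 3 K q x u2 • u2 := by
  have hq0 : q ≠ 0 := Nat.pos_iff_ne_zero.mp (q_pos hK)
  have h21 : Cfsg.hermForm 3 K q u2 u1 = 0 := by rw [← herm_conj hK u1 u2, h12, zero_pow hq0]
  have hR := R_mul_of_orthonormal hK u1 u2 v hu1 hu2 hv h12 h1v h2v
  have h1 : R q u1 *ᵥ (R q u2 *ᵥ x) = R q v *ᵥ x := by rw [mulVec_mulVec, hR]
  rw [R_mulVec, R_mulVec, R_mulVec, hxv, herm_sub_left, herm_smul_left, h21] at h1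
  ext i
  have h3 := congrFun h1 i
  simp only [Pi.sub_apply, Pi.smul_apply, smul_eq_mul, Pi.add_apply] at h3 ⊢
  apply mul_left_cancel₀ h2
  linear_combination h3

theorem w1_props (hK : Fintype.card K = q ^ 2) (v w : Fin 3 → K)
    (hv : Cfsg.hermForm 3 K q v v = 1) (hw : Cfsg.hermForm 3 K q w w = 1) :
    Cfsg.hermForm 3 K q (w - Cfsg.hermForm 3 K q w v • v) v = 0 ∧
    Cfsg.hermForm 3 K q (w - Cfsg.hermForm 3 K q w v • v) (w - Cfsg.hermForm 3 K q w v • v)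
      = 1 - (Cfsg.hermForm 3 K q w v) ^ (q + 1) := by
  constructor
  · rw [herm_sub_left, herm_smul_left, hv, mul_one, sub_self]
  · rw [herm_sub_left, herm_sub_right hK, herm_sub_right hK, herm_smul_left, herm_smul_left,
      herm_smul_right, herm_smul_right, hw, hv, ← herm_conj hK w v]
    ring

theorem herm_symm_zero (hK : Fintype.card K = q ^ 2) (x y : Fin 3 → K)
    (h : Cfsg.hermForm 3 K q x y = 0) : Cfsg.hermForm 3 K q y x = 0 := by
  have hq0 : q ≠ 0 := Nat.pos_iff_ne_zero.mp (q_pos hK)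
  rw [← herm_conj hK x y, h, zero_pow hq0]

theorem rS_smul (hK : Fintype.card K = q ^ 2) (v : Fin 3 → K)
    (hv : Cfsg.hermForm 3 K q v v = 1) (c : K) (hc : c ^ (q + 1) = 1)
    (hcv : Cfsg.hermForm 3 K q (c • v) (c • v) = 1) : rS hK (c • v) hcv = rS hK v hv := by
  apply Subtype.ext; apply Subtype.ext
  exact R_smul v c hc

theorem c2_mp (hK : Fintype.card K = q ^ 2) (hq : Odd q) (h2 : (2 : K) ≠ 0) (v w : Fin 3 → K)
    (hv : Cfsg.hermForm 3 K q v v = 1) (hw : Cfsg.hermForm 3 K q w w = 1)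
    (hnc : ¬ Commute (rS hK v hv) (rS hK w hw))
    (hy : ∃ y : ↥(Cfsg.SU 3 K q), y ≠ 1 ∧ y * y = 1 ∧ Commute (rS hK v hv) y ∧
      Commute y (rS hK w hw)) :
    Cfsg.hermForm 3 K q w v ≠ 0 ∧ Cfsg.hermForm 3 K q w v ^ (q + 1) ≠ 1 := by
  have hq0 : q ≠ 0 := Nat.pos_iff_ne_zero.mp (q_pos hK)
  constructor
  · intro h0
    exact hnc ((c1_iff hK hq h2 v w hv hw).mpr h0).2
  · intro hN
    obtain ⟨y, hy1, hy2, hty, hyx⟩ := hy
    obtain ⟨z, hz, rfl⟩ := exists_rS hK h2 y hy1 hy2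
    have hzv : Cfsg.hermForm 3 K q z v = 0 := by
      apply (c1_iff hK hq h2 v z hv hz).mp
      refine ⟨?_, hty⟩
      intro h
      rw [h] at hyx
      exact hnc hyx
    have hwz : Cfsg.hermForm 3 K q w z = 0 := by
      apply (c1_iff hK hq h2 z w hz hw).mp
      refine ⟨?_, hyx⟩
      intro h
      rw [← h] at hty
      exact hnc hty
    have hvz := herm_symm_zero hK z v hzv
    obtain ⟨z2, hz2, hvz2, hzz2⟩ := exists_third hK v z hv hz hvz
    obtain ⟨hw1v, hw1⟩ := w1_props hK v w hv hw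
    set a := Cfsg.hermForm 3 K q w v with ha
    set w1 := w - a • v with hw1def
    have hz2v := herm_symm_zero hK v z2 hvz2
    have hex := expand hK h2 z z2 v w1 hz hz2 hv hzz2 hzv hz2v hw1v
    have hw1z : Cfsg.hermForm 3 K q w1 z = 0 := by
      rw [hw1def, herm_sub_left, herm_smul_left, hwz, hvz, mul_zero, sub_zero]
    rw [hw1z, zero_smul, zero_add] at hex
    rw [hN, sub_self, hex, herm_smul_left, herm_smul_right, hz2, mul_one, ← pow_succ'] at hw1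
    have hb : Cfsg.hermForm 3 K q w1 z2 = 0 := by
      have := (pow_eq_zero_iff (by omega : q + 1 ≠ 0)).mp hw1
      exact this
    rw [hb, zero_smul] at hex
    have hwa : w = a • v := sub_eq_zero.mp hex
    apply hnc
    have hcv : Cfsg.hermForm 3 K q (a • v) (a • v) = 1 := by rw [← hwa]; exact hw
    have : rS hK w hw = rS hK v hv := by
      have h1 : rS hK w hw = rS hK (a • v) hcv := by
        congr 1
      rw [h1]
      exact rS_smul hK v hv a hN hcv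
    rw [this]

theorem c2_mpr (hK : Fintype.card K = q ^ 2) (hq : Odd q) (h2 : (2 : K) ≠ 0) (v w : Fin 3 → K)
    (hv : Cfsg.hermForm 3 K q v v = 1) (hw : Cfsg.hermForm 3 K q w w = 1)
    (ha0 : Cfsg.hermForm 3 K q w v ≠ 0) (haN : Cfsg.hermForm 3 K q w v ^ (q + 1) ≠ 1) :
    ∃ y : ↥(Cfsg.SU 3 K q), y ≠ 1 ∧ y * y = 1 ∧ Commute (rS hK v hv) y ∧
      Commute y (rS hK w hw) := by
  have hq0 : q ≠ 0 := Nat.pos_iff_ne_zero.mp (q_pos hK)
  obtain ⟨hw1v, hw1⟩ := w1_props hK v w hv hw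
  set a := Cfsg.hermForm 3 K q w v with ha
  set w1 := w - a • v with hw1def
  have hμ0 : (1 : K) - a ^ (q + 1) ≠ 0 := by
    intro h
    exact haN (sub_eq_zero.mp h).symm
  have hμq : ((1 : K) - a ^ (q + 1)) ^ q = 1 - a ^ (q + 1) := by
    rw [frob_sub hK, one_pow, norm_frob hK]
  obtain ⟨ν, hν⟩ := Cfsg.Agent.S2677.norm_surj hK _ hμ0 hμq
  have hν0 : ν ≠ 0 := by
    rintro rfl
    rw [zero_pow (by omega)] at hν
    exact hμ0 hν.symm
  have hu1 : Cfsg.hermForm 3 K q (ν⁻¹ • w1) (ν⁻¹ • w1) = 1 := by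
    rw [herm_smul_left, herm_smul_right, hw1, ← hν, ← mul_assoc, ← pow_succ', ← mul_pow,
      inv_mul_cancel₀ hν0, one_pow]
  have hu1v : Cfsg.hermForm 3 K q (ν⁻¹ • w1) v = 0 := by
    rw [herm_smul_left, hw1v, mul_zero]
  have hvu1 := herm_symm_zero hK _ _ hu1v
  obtain ⟨z, hz, hvz, hu1z⟩ := exists_third hK v (ν⁻¹ • w1) hv hu1 hvu1
  have hw1z : Cfsg.hermForm 3 K q w1 z = 0 := by
    rw [herm_smul_left] at hu1z
    exact (mul_eq_zero.mp hu1z).resolve_left (inv_ne_zero hν0)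
  have hwz : Cfsg.hermForm 3 K q w z = 0 := by
    have : w = w1 + a • v := by rw [hw1def]; abel
    rw [this, herm_add_left, herm_smul_left, hw1z, hvz, mul_zero, add_zero]
  have hzw := herm_symm_zero hK _ _ hwz
  exact ⟨rS hK z hz, rS_ne_one hK h2 z hz, rS_sq hK z hz, commute_of_orth hK hq v z hv hz hvz,
    commute_of_orth hK hq z w hz hw hzw⟩

theorem not_commute_of (hK : Fintype.card K = q ^ 2) (hq : Odd q) (h2 : (2 : K) ≠ 0)
    (v w : Fin 3 → K)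
    (hv : Cfsg.hermForm 3 K q v v = 1) (hw : Cfsg.hermForm 3 K q w w = 1)
    (ha0 : Cfsg.hermForm 3 K q w v ≠ 0) (haN : Cfsg.hermForm 3 K q w v ^ (q + 1) ≠ 1) :
    ¬ Commute (rS hK v hv) (rS hK w hw) := by
  intro hc
  by_cases he : rS hK w hw = rS hK v hv
  · have h1 : R q v = R q w := (congrArg (fun z : ↥(Cfsg.SU 3 K q) =>
      ((z.1 : Matrix.SpecialLinearGroup (Fin 3) K) : Matrix (Fin 3) (Fin 3) K)) he).symm
    obtain ⟨c, hc1, hwc⟩ := R_eq hK h2 v w hv hw h1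
    rw [hwc, herm_smul_left, hv, mul_one] at haN
    exact haN hc1
  · exact ha0 ((c1_iff hK hq h2 v w hv hw).mp ⟨he, hc⟩)

theorem card_invol_pred (hK : Fintype.card K = q ^ 2) (h2 : (2 : K) ≠ 0)
    (Q : ↥(Cfsg.SU 3 K q) → Prop) (P : (Fin 3 → K) → Prop)
    (hQP : ∀ w (hw : Cfsg.hermForm 3 K q w w = 1), Q (rS hK w hw) ↔ P w) :
    Nat.card {x : ↥(Cfsg.SU 3 K q) // x ≠ 1 ∧ x * x = 1 ∧ Q x} * (q + 1) =
      Nat.card {w : Fin 3 → K // Cfsg.hermForm 3 K q w w = 1 ∧ P w} := by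
  classical
  let f : {w : Fin 3 → K // Cfsg.hermForm 3 K q w w = 1 ∧ P w} →
      {x : ↥(Cfsg.SU 3 K q) // x ≠ 1 ∧ x * x = 1 ∧ Q x} :=
    fun v => ⟨rS hK v.1 v.2.1, rS_ne_one hK h2 v.1 v.2.1, rS_sq hK v.1 v.2.1,
      (hQP v.1 v.2.1).mpr v.2.2⟩
  have hfib : ∀ x, Nat.card {v // f v = x} = q + 1 := by
    intro x
    obtain ⟨v0, hv0, hx⟩ := exists_rS hK h2 x.1 x.2.1 x.2.2.1
    have hC := Cfsg.Agent.S0754.result hK (1 : K) one_ne_zero (one_pow q)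
    rw [← hC]
    have hmem : ∀ c : {c : K // c ^ (q + 1) = 1},
        Cfsg.hermForm 3 K q (c.1 • v0) (c.1 • v0) = 1 := by
      intro c
      rw [herm_smul_left, herm_smul_right, ← mul_assoc, ← pow_succ', c.2, one_mul, hv0]
    have hrs : ∀ c : {c : K // c ^ (q + 1) = 1}, rS hK (c.1 • v0) (hmem c) = x.1 := by
      intro c
      rw [hx]
      exact rS_smul hK v0 hv0 c.1 c.2 (hmem c)
    have hP : ∀ c : {c : K // c ^ (q + 1) = 1}, P (c.1 • v0) := by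
      intro c
      rw [← hQP _ (hmem c), hrs c]
      exact x.2.2.2
    have hfc : ∀ c : {c : K // c ^ (q + 1) = 1}, f ⟨c.1 • v0, hmem c, hP c⟩ = x := by
      intro c
      apply Subtype.ext
      exact hrs c
    refine (Nat.card_congr (Equiv.ofBijective
      (fun c : {c : K // c ^ (q + 1) = 1} =>
        (⟨⟨c.1 • v0, hmem c, hP c⟩, hfc c⟩ : {v // f v = x}))
      ⟨?_, ?_⟩)).symm
    · intro c c' hcc
      have h1 : c.1 • v0 = c'.1 • v0 :=
        congrArg (fun z : {v // f v = x} => (z.1.1 : Fin 3 → K)) hcc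
      apply Subtype.ext
      have h3 : (c.1 - c'.1) • v0 = 0 := by rw [sub_smul, h1, sub_self]
      exact sub_eq_zero.mp ((smul_eq_zero.mp h3).resolve_right (unit_ne_zero v0 hv0))
    · rintro ⟨⟨v, hv, hPv⟩, hvx⟩
      have h1 : R q v0 = R q v := by
        have h3 := congrArg (fun z : {x : ↥(Cfsg.SU 3 K q) // x ≠ 1 ∧ x * x = 1 ∧ Q x} =>
          ((z.1.1 : Matrix.SpecialLinearGroup (Fin 3) K) : Matrix (Fin 3) (Fin 3) K)) hvx
        have h4 := congrArg (fun z : ↥(Cfsg.SU 3 K q) =>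
          ((z.1 : Matrix.SpecialLinearGroup (Fin 3) K) : Matrix (Fin 3) (Fin 3) K)) hx
        exact (h3.trans h4).symm
      obtain ⟨c, hc, hvc⟩ := R_eq hK h2 v0 v hv0 hv h1
      refine ⟨⟨c, hc⟩, ?_⟩
      apply Subtype.ext; apply Subtype.ext
      exact hvc.symm
  haveI : Finite ↥(Cfsg.SU 3 K q) := Finite.of_injective
    (fun z : ↥(Cfsg.SU 3 K q) =>
      ((z.1 : Matrix.SpecialLinearGroup (Fin 3) K) : Matrix (Fin 3) (Fin 3) K))
    (fun a b hab => Subtype.ext (Subtype.ext hab))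
  haveI : Fintype {x : ↥(Cfsg.SU 3 K q) // x ≠ 1 ∧ x * x = 1 ∧ Q x} := Fintype.ofFinite _
  rw [Nat.card_congr (Equiv.sigmaFiberEquiv f).symm, Nat.card_sigma,
    Finset.sum_congr rfl (fun x _ => hfib x), Finset.sum_const, Finset.card_univ, smul_eq_mul,
    ← Nat.card_eq_fintype_card]

theorem card_vec (hK : Fintype.card K = q ^ 2) (v : Fin 3 → K)
    (hv : Cfsg.hermForm 3 K q v v = 1) (P : K → Prop) :
    Nat.card {w : Fin 3 → K // Cfsg.hermForm 3 K q w w = 1 ∧ P (Cfsg.hermForm 3 K q w v)} =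
      Nat.card {w : Fin 3 → K // Cfsg.hermForm 3 K q w w = 1 ∧ P (w 0)} := by
  have hq0 : q ≠ 0 := Nat.pos_iff_ne_zero.mp (q_pos hK)
  have hli : ∀ z : Fin 3 → K, z ≠ 0 → LinearIndependent K (fun _ : Fin 1 => z) := by
    intro z hz
    rw [Fintype.linearIndependent_iff]
    intro g hg i
    rw [Fin.sum_univ_one] at hg
    have h0 : g 0 = 0 := (smul_eq_zero.mp hg).resolve_right hz
    rw [Fin.fin_one_eq_zero i]; exact h0
  have he : Cfsg.hermForm 3 K q (Pi.single 0 1 : Fin 3 → K) (Pi.single 0 1) = 1 := by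
    rw [herm_single_right hq0, Pi.single_eq_same]
  obtain ⟨M, hM, hMv⟩ := witt_family hK (fun _ : Fin 1 => v) (fun _ => (Pi.single 0 1 : Fin 3 → K))
    (hli v (unit_ne_zero v hv)) (hli _ (unit_ne_zero _ he)) (fun _ _ => by rw [he, hv])
  have hMv' : M *ᵥ v = Pi.single 0 1 := hMv 0
  obtain ⟨A, hA⟩ := exists_GU_of_preserves hK M hM
  set M' : Matrix (Fin 3) (Fin 3) K := (((A : GL (Fin 3) K)⁻¹ : GL (Fin 3) K) :
    Matrix (Fin 3) (Fin 3) K) with hM'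
  have h1 : M' * M = 1 := by
    rw [hM', ← hA]
    exact Units.inv_mul _
  have h2 : M * M' = 1 := by
    rw [hM', ← hA]
    exact Units.mul_inv _
  have hMM' : ∀ x : Fin 3 → K, M *ᵥ (M' *ᵥ x) = x := by
    intro x
    rw [mulVec_mulVec, h2, one_mulVec]
  have hM'M : ∀ x : Fin 3 → K, M' *ᵥ (M *ᵥ x) = x := by
    intro x
    rw [mulVec_mulVec, h1, one_mulVec]
  have hM'p : ∀ x y, Cfsg.hermForm 3 K q (M' *ᵥ x) (M' *ᵥ y) = Cfsg.hermForm 3 K q x y := by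
    intro x y
    rw [← hM, hMM', hMM']
  have hc1 : ∀ w : Fin 3 → K, (M *ᵥ w) 0 = Cfsg.hermForm 3 K q w v := by
    intro w
    rw [← herm_single_right hq0 (M *ᵥ w) 0, ← hMv', hM]
  have hc2 : ∀ w : Fin 3 → K, Cfsg.hermForm 3 K q (M' *ᵥ w) v = w 0 := by
    intro w
    rw [← hM, hMM', hMv', herm_single_right hq0]
  refine Nat.card_congr ⟨fun w => ⟨M *ᵥ w.1, ?_, ?_⟩, fun w => ⟨M' *ᵥ w.1, ?_, ?_⟩, ?_, ?_⟩
  · rw [hM]; exact w.2.1
  · rw [hc1]; exact w.2.2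
  · rw [hM'p]; exact w.2.1
  · rw [hc2]; exact w.2.2
  · intro w
    apply Subtype.ext
    exact hM'M w.1
  · intro w
    apply Subtype.ext
    exact hMM' w.1

theorem card_coord (P : K → Prop) [Fintype {x : K // P x}] :
    Nat.card {w : Fin 3 → K // Cfsg.hermForm 3 K q w w = 1 ∧ P (w 0)} =
      ∑ x : {x : K // P x}, N K q 2 (1 - x.1 ^ (q + 1)) := by
  classical
  let g : {w : Fin 3 → K // Cfsg.hermForm 3 K q w w = 1 ∧ P (w 0)} → {x : K // P x} :=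
    fun w => ⟨w.1 0, w.2.2⟩
  rw [Nat.card_congr (Equiv.sigmaFiberEquiv g).symm, Nat.card_sigma]
  apply Finset.sum_congr rfl
  intro x _
  unfold N
  have hx0 : ∀ w : {w // g w = x}, w.1.1 0 = x.1 := fun w => congrArg Subtype.val w.2
  have hs : ∀ w : Fin 3 → K, Cfsg.hermForm 3 K q w w
      = w 0 ^ (q + 1) + Cfsg.hermForm 2 K q (Fin.tail w) (Fin.tail w) := fun w =>
    herm_self_succ 2 w
  have hcons : ∀ w' : {w' : Fin 2 → K // Cfsg.hermForm 2 K q w' w' = 1 - x.1 ^ (q + 1)},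
      Cfsg.hermForm 3 K q (Fin.cons x.1 w'.1 : Fin 3 → K) (Fin.cons x.1 w'.1) = 1 := by
    intro w'
    rw [hs, Fin.tail_cons, Fin.cons_zero, w'.2]
    ring
  refine Nat.card_congr ⟨fun w => ⟨Fin.tail w.1.1, ?_⟩,
    fun w' => ⟨⟨Fin.cons x.1 w'.1, hcons w', ?_⟩, ?_⟩, ?_, ?_⟩
  · have h1 := hs w.1.1
    rw [w.1.2.1, hx0 w] at h1
    linear_combination -h1
  · rw [Fin.cons_zero]; exact x.2
  · apply Subtype.ext
    show (Fin.cons x.1 w'.1 : Fin 3 → K) 0 = x.1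
    rw [Fin.cons_zero]
  · intro w
    apply Subtype.ext; apply Subtype.ext
    show (Fin.cons x.1 (Fin.tail w.1.1) : Fin 3 → K) = w.1.1
    rw [← hx0 w]
    exact Fin.cons_self_tail w.1.1
  · intro w'
    apply Subtype.ext
    show Fin.tail (Fin.cons x.1 w'.1 : Fin 3 → K) = w'.1
    exact Fin.tail_cons _ _

theorem card_split {α : Type*} [Finite α] (p r : α → Prop) :
    Nat.card {x // p x} = Nat.card {x // p x ∧ r x} + Nat.card {x // p x ∧ ¬ r x} := by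
  classical
  rw [← Nat.card_congr (Equiv.subtypeSubtypeEquivSubtypeInter p r),
    ← Nat.card_congr (Equiv.subtypeSubtypeEquivSubtypeInter p (fun x => ¬ r x)),
    ← Nat.card_sum]
  exact Nat.card_congr (Equiv.sumCompl (fun x : {x // p x} => r x.1)).symm

theorem N21 (hK : Fintype.card K = q ^ 2) : N K q 2 1 = q * (q ^ 2 - 1) := by
  have h := Cfsg.Agent.S0284.result hK 2
  rw [if_pos (by decide)] at h
  unfold N
  rw [h]
  norm_num

theorem finSU : Finite ↥(Cfsg.SU 3 K q) := Finite.of_injective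
    (fun z : ↥(Cfsg.SU 3 K q) =>
      ((z.1 : Matrix.SpecialLinearGroup (Fin 3) K) : Matrix (Fin 3) (Fin 3) K))
    (fun a b hab => Subtype.ext (Subtype.ext hab))

theorem card_c1 (hK : Fintype.card K = q ^ 2) (hq : Odd q) (h2 : (2 : K) ≠ 0) (v : Fin 3 → K)
    (hv : Cfsg.hermForm 3 K q v v = 1) :
    Nat.card {x : ↥(Cfsg.SU 3 K q) // x ≠ 1 ∧ x * x = 1 ∧ x ≠ rS hK v hv ∧
      Commute (rS hK v hv) x} = q * (q - 1) := by
  classical
  have hq1 := q_pos hK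
  have h1 := card_invol_pred hK h2 (fun x => x ≠ rS hK v hv ∧ Commute (rS hK v hv) x)
    (fun w => Cfsg.hermForm 3 K q w v = 0) (fun w hw => c1_iff hK hq h2 v w hv hw)
  rw [card_vec hK v hv (fun a => a = 0), card_coord (fun a => a = 0)] at h1
  have h3 : ∀ x : {x : K // x = 0}, N K q 2 (1 - x.1 ^ (q + 1)) = N K q 2 1 := by
    intro x; rw [x.2, zero_pow (by omega), sub_zero]
  rw [Finset.sum_congr rfl (fun x _ => h3 x), Finset.sum_const, Finset.card_univ,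
    ← Nat.card_eq_fintype_card, Nat.card_unique (α := {x : K // x = 0}), one_smul, N21 hK] at h1
  have h4 : q * (q ^ 2 - 1) = q * (q - 1) * (q + 1) := by
    have hle : 1 ≤ q ^ 2 := Nat.one_le_pow _ _ hq1
    zify [hle, hq1]
    ring
  rw [h4] at h1
  exact Nat.eq_of_mul_eq_mul_right (by omega) h1

theorem card_norm_ne (hK : Fintype.card K = q ^ 2) :
    Nat.card {x : K // x ≠ 0 ∧ x ^ (q + 1) ≠ 1} + (q + 2) = q ^ 2 := by
  have hC := Cfsg.Agent.S0754.result hK (1 : K) one_ne_zero (one_pow q)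
  have h1 : Nat.card {x : K // x ≠ 0} = Nat.card {x : K // x ≠ 0 ∧ x ^ (q + 1) = 1} +
      Nat.card {x : K // x ≠ 0 ∧ x ^ (q + 1) ≠ 1} :=
    card_split (fun x : K => x ≠ 0) (fun x => x ^ (q + 1) = 1)
  have h2 : Nat.card {x : K // True} = Nat.card {x : K // True ∧ x = 0} +
      Nat.card {x : K // True ∧ ¬ x = 0} := card_split (fun _ : K => True) (fun x => x = 0)
  have e1 : Nat.card {x : K // True} = q ^ 2 := by
    rw [Nat.card_congr (Equiv.subtypeUnivEquiv (fun _ => trivial)), Nat.card_eq_fintype_card, hK]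
  have e2 : Nat.card {x : K // True ∧ x = 0} = 1 := by
    rw [Nat.card_congr (Equiv.subtypeEquivRight (q := fun x => x = 0) (by simp))]
    simp
  have e3 : Nat.card {x : K // True ∧ ¬ x = 0} = Nat.card {x : K // x ≠ 0} :=
    Nat.card_congr (Equiv.subtypeEquivRight (by simp))
  have e4 : Nat.card {x : K // x ≠ 0 ∧ x ^ (q + 1) = 1} = q + 1 := by
    refine (Nat.card_congr (Equiv.subtypeEquivRight
      (fun x => ⟨fun h => h.2, fun h => ⟨?_, h⟩⟩))).trans hC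
    rintro rfl
    rw [zero_pow (by omega)] at h
    exact zero_ne_one h
  omega

theorem card_c2 (hK : Fintype.card K = q ^ 2) (hq : Odd q) (h2 : (2 : K) ≠ 0) (v : Fin 3 → K)
    (hv : Cfsg.hermForm 3 K q v v = 1) :
    Nat.card {x : ↥(Cfsg.SU 3 K q) // x ≠ 1 ∧ x * x = 1 ∧ ¬ Commute (rS hK v hv) x ∧
        ∃ y : ↥(Cfsg.SU 3 K q), y ≠ 1 ∧ y * y = 1 ∧ Commute (rS hK v hv) y ∧ Commute y x}
      = q * (q - 2) * (q ^ 2 - 1) := by
  classical
  have hq2 := two_le_q hK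
  have h1 := card_invol_pred hK h2 (fun x => ¬ Commute (rS hK v hv) x ∧
      ∃ y : ↥(Cfsg.SU 3 K q), y ≠ 1 ∧ y * y = 1 ∧ Commute (rS hK v hv) y ∧ Commute y x)
    (fun w => Cfsg.hermForm 3 K q w v ≠ 0 ∧ Cfsg.hermForm 3 K q w v ^ (q + 1) ≠ 1)
    (fun w hw => ⟨fun h => c2_mp hK hq h2 v w hv hw h.1 h.2,
      fun h => ⟨not_commute_of hK hq h2 v w hv hw h.1 h.2,
        c2_mpr hK hq h2 v w hv hw h.1 h.2⟩⟩)
  rw [card_vec hK v hv (fun a => a ≠ 0 ∧ a ^ (q + 1) ≠ 1),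
    card_coord (fun a => a ≠ 0 ∧ a ^ (q + 1) ≠ 1)] at h1
  have h3 : ∀ x : {x : K // x ≠ 0 ∧ x ^ (q + 1) ≠ 1},
      N K q 2 (1 - x.1 ^ (q + 1)) = N K q 2 1 := by
    intro x
    apply N_scale hK
    · intro h; exact x.2.2 (sub_eq_zero.mp h).symm
    · rw [frob_sub hK, one_pow, norm_frob hK]
  rw [Finset.sum_congr rfl (fun x _ => h3 x), Finset.sum_const, Finset.card_univ, smul_eq_mul,
    N21 hK, ← Nat.card_eq_fintype_card] at h1
  have h4 := card_norm_ne hK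
  have h5 : Nat.card {x : K // x ≠ 0 ∧ x ^ (q + 1) ≠ 1} = (q - 2) * (q + 1) := by
    obtain ⟨r, rfl⟩ := Nat.exists_eq_add_of_le' hq2
    have h6 : r + 2 - 2 = r := by omega
    rw [h6]
    have h7 : (r + 2) ^ 2 = r * (r + 2 + 1) + (r + 2 + 2) := by ring
    omega
  rw [h5] at h1
  apply Nat.eq_of_mul_eq_mul_right (by omega : 0 < q + 1)
  rw [h1]
  ring

theorem card_c3 (hK : Fintype.card K = q ^ 2) (hq : Odd q) (h2 : (2 : K) ≠ 0) (v : Fin 3 → K)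
    (hv : Cfsg.hermForm 3 K q v v = 1) :
    Nat.card {x : ↥(Cfsg.SU 3 K q) // x ≠ 1 ∧ x * x = 1 ∧ ¬ Commute (rS hK v hv) x ∧
        ∀ y : ↥(Cfsg.SU 3 K q), y ≠ 1 → y * y = 1 → ¬ (Commute (rS hK v hv) y ∧ Commute y x)}
      = (q + 1) * (q ^ 2 - 1) := by
  classical
  have hq2 := two_le_q hK
  haveI : Finite ↥(Cfsg.SU 3 K q) := finSU
  have hT := card_invol hK h2
  have hc1 := card_c1 hK hq h2 v hv
  have hc2 := card_c2 hK hq h2 v hv
  set t := rS hK v hv with ht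
  have ht1 : t ≠ 1 := rS_ne_one hK h2 v hv
  have ht2 : t * t = 1 := rS_sq hK v hv
  have s1 := card_split (fun x : ↥(Cfsg.SU 3 K q) => x ≠ 1 ∧ x * x = 1) (fun x => Commute t x)
  have s2 := card_split (fun x : ↥(Cfsg.SU 3 K q) => (x ≠ 1 ∧ x * x = 1) ∧ Commute t x)
    (fun x => x = t)
  have s3 := card_split (fun x : ↥(Cfsg.SU 3 K q) => (x ≠ 1 ∧ x * x = 1) ∧ ¬ Commute t x)
    (fun x => ∃ y : ↥(Cfsg.SU 3 K q), y ≠ 1 ∧ y * y = 1 ∧ Commute t y ∧ Commute y x)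
  have e1 : Nat.card {x : ↥(Cfsg.SU 3 K q) // ((x ≠ 1 ∧ x * x = 1) ∧ Commute t x) ∧ x = t}
      = 1 := by
    rw [Nat.card_congr (Equiv.subtypeEquivRight (q := fun x => x = t) (fun x =>
      ⟨fun h => h.2, fun h => ⟨⟨⟨h ▸ ht1, h ▸ ht2⟩, h ▸ Commute.refl t⟩, h⟩⟩))]
    simp
  have e2 : Nat.card {x : ↥(Cfsg.SU 3 K q) // ((x ≠ 1 ∧ x * x = 1) ∧ Commute t x) ∧ ¬ x = t}
      = q * (q - 1) := by
    rw [← hc1]
    exact Nat.card_congr (Equiv.subtypeEquivRight (fun x =>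
      ⟨fun h => ⟨h.1.1.1, h.1.1.2, h.2, h.1.2⟩, fun h => ⟨⟨⟨h.1, h.2.1⟩, h.2.2.2⟩, h.2.2.1⟩⟩))
  have e3 : Nat.card {x : ↥(Cfsg.SU 3 K q) // ((x ≠ 1 ∧ x * x = 1) ∧ ¬ Commute t x) ∧
      ∃ y : ↥(Cfsg.SU 3 K q), y ≠ 1 ∧ y * y = 1 ∧ Commute t y ∧ Commute y x}
      = q * (q - 2) * (q ^ 2 - 1) := by
    rw [← hc2]
    exact Nat.card_congr (Equiv.subtypeEquivRight (fun x =>
      ⟨fun h => ⟨h.1.1.1, h.1.1.2, h.1.2, h.2⟩, fun h => ⟨⟨⟨h.1, h.2.1⟩, h.2.2.1⟩, h.2.2.2⟩⟩))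
  have e4 : Nat.card {x : ↥(Cfsg.SU 3 K q) // ((x ≠ 1 ∧ x * x = 1) ∧ ¬ Commute t x) ∧
      ¬ ∃ y : ↥(Cfsg.SU 3 K q), y ≠ 1 ∧ y * y = 1 ∧ Commute t y ∧ Commute y x}
      = Nat.card {x : ↥(Cfsg.SU 3 K q) // x ≠ 1 ∧ x * x = 1 ∧ ¬ Commute t x ∧
        ∀ y : ↥(Cfsg.SU 3 K q), y ≠ 1 → y * y = 1 → ¬ (Commute t y ∧ Commute y x)} := by
    refine Nat.card_congr (Equiv.subtypeEquivRight (fun x =>
      ⟨fun h => ⟨h.1.1.1, h.1.1.2, h.1.2, fun y hy1 hy2 hyc => h.2 ⟨y, hy1, hy2, hyc.1, hyc.2⟩⟩,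
        fun h => ⟨⟨⟨h.1, h.2.1⟩, h.2.2.1⟩, ?_⟩⟩))
    rintro ⟨y, hy1, hy2, hyc1, hyc2⟩
    exact h.2.2.2 y hy1 hy2 ⟨hyc1, hyc2⟩
  rw [← e4]
  have hfin : Nat.card {x : ↥(Cfsg.SU 3 K q) // ((x ≠ 1 ∧ x * x = 1) ∧ ¬ Commute t x) ∧
      ¬ ∃ y : ↥(Cfsg.SU 3 K q), y ≠ 1 ∧ y * y = 1 ∧ Commute t y ∧ Commute y x} + 1 + q * (q - 1)
      + q * (q - 2) * (q ^ 2 - 1) = q ^ 2 * (q ^ 2 - q + 1) := by
    rw [← hT, s1, s2, s3, e1, e2, e3]
    ring
  have harith : (q + 1) * (q ^ 2 - 1) + 1 + q * (q - 1)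
      + q * (q - 2) * (q ^ 2 - 1) = q ^ 2 * (q ^ 2 - q + 1) := by
    obtain ⟨r, rfl⟩ := Nat.exists_eq_add_of_le' hq2
    have h6 : r + 2 - 2 = r := by omega
    have h7 : r + 2 - 1 = r + 1 := by omega
    have h8 : (r + 2) ^ 2 - 1 = r ^ 2 + 4 * r + 3 := by
      have : (r + 2) ^ 2 = r ^ 2 + 4 * r + 3 + 1 := by ring
      omega
    have h9 : (r + 2) ^ 2 - (r + 2) + 1 = r ^ 2 + 3 * r + 3 := by
      have : (r + 2) ^ 2 = r ^ 2 + 3 * r + 2 + (r + 2) := by ring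
      omega
    rw [h6, h7, h8, h9]
    ring
  omega

theorem commute_of_w1_zero (hK : Fintype.card K = q ^ 2) (v w : Fin 3 → K)
    (hv : Cfsg.hermForm 3 K q v v = 1) (hw : Cfsg.hermForm 3 K q w w = 1)
    (hN : Cfsg.hermForm 3 K q w v ^ (q + 1) = 1)
    (h0 : w - Cfsg.hermForm 3 K q w v • v = 0) : Commute (rS hK v hv) (rS hK w hw) := by
  have hwa : w = Cfsg.hermForm 3 K q w v • v := sub_eq_zero.mp h0
  have hcv : Cfsg.hermForm 3 K q (Cfsg.hermForm 3 K q w v • v) (Cfsg.hermForm 3 K q w v • v)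
      = 1 := by rw [← hwa]; exact hw
  have : rS hK w hw = rS hK v hv := by
    have h1 : rS hK w hw = rS hK (Cfsg.hermForm 3 K q w v • v) hcv := by
      congr 1
    rw [h1]
    exact rS_smul hK v hv _ hN hcv
  rw [this]

theorem step3 (hK : Fintype.card K = q ^ 2) (hq : Odd q) (h2 : (2 : K) ≠ 0) (v w u : Fin 3 → K)
    (hv : Cfsg.hermForm 3 K q v v = 1) (hw : Cfsg.hermForm 3 K q w w = 1)
    (hu : Cfsg.hermForm 3 K q u u = 1) (hvu : Cfsg.hermForm 3 K q v u = 0)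
    (hb0 : Cfsg.hermForm 3 K q (w - Cfsg.hermForm 3 K q w v • v) u ≠ 0)
    (hbN : Cfsg.hermForm 3 K q (w - Cfsg.hermForm 3 K q w v • v) u ^ (q + 1) ≠ 1) :
    ∃ y z : ↥(Cfsg.SU 3 K q), y ≠ 1 ∧ y * y = 1 ∧ z ≠ 1 ∧ z * z = 1 ∧
        Commute (rS hK v hv) y ∧ Commute y z ∧ Commute z (rS hK w hw) := by
  have hwu : Cfsg.hermForm 3 K q (w - Cfsg.hermForm 3 K q w v • v) u
      = Cfsg.hermForm 3 K q w u := by
    rw [herm_sub_left, herm_smul_left, hvu, mul_zero, sub_zero]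
  rw [hwu] at hb0 hbN
  obtain ⟨z, hz1, hz2, huz, hzw⟩ := c2_mpr hK hq h2 u w hu hw hb0 hbN
  exact ⟨rS hK u hu, z, rS_ne_one hK h2 u hu, rS_sq hK u hu, hz1, hz2,
    commute_of_orth hK hq v u hv hu hvu, huz, hzw⟩

theorem part4' (hK : Fintype.card K = q ^ 2) (hq : Odd q) (h2 : (2 : K) ≠ 0) (v w : Fin 3 → K)
    (hv : Cfsg.hermForm 3 K q v v = 1) (hw : Cfsg.hermForm 3 K q w w = 1) :
    ∃ y z : ↥(Cfsg.SU 3 K q), y ≠ 1 ∧ y * y = 1 ∧ z ≠ 1 ∧ z * z = 1 ∧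
        Commute (rS hK v hv) y ∧ Commute y z ∧ Commute z (rS hK w hw) := by
  have hq0 : q ≠ 0 := Nat.pos_iff_ne_zero.mp (q_pos hK)
  by_cases hc : Commute (rS hK v hv) (rS hK w hw)
  · exact ⟨rS hK v hv, rS hK v hv, rS_ne_one hK h2 v hv, rS_sq hK v hv, rS_ne_one hK h2 v hv,
      rS_sq hK v hv, Commute.refl _, Commute.refl _, hc⟩
  have ha0 : Cfsg.hermForm 3 K q w v ≠ 0 := fun h0 => hc ((c1_iff hK hq h2 v w hv hw).mpr h0).2
  by_cases hN : Cfsg.hermForm 3 K q w v ^ (q + 1) = 1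
  · obtain ⟨hw1v, hw1⟩ := w1_props hK v w hv hw
    have hw1ne : w - Cfsg.hermForm 3 K q w v • v ≠ 0 := fun h0 =>
      hc (commute_of_w1_zero hK v w hv hw hN h0)
    obtain ⟨u1, hu1v, hu1⟩ := Cfsg.Agent.S2644.exists_perp_unit hK (le_refl 3) v
      (unit_ne_zero v hv)
    have hvu1 := herm_symm_zero hK _ _ hu1v
    obtain ⟨u2, hu2, hvu2, hu12⟩ := exists_third hK v u1 hv hu1 hvu1
    have hu2v := herm_symm_zero hK _ _ hvu2
    have hex := expand hK h2 u1 u2 v _ hu1 hu2 hv hu12 hu1v hu2v hw1v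
    have h5 : Cfsg.hermForm 3 K q (w - Cfsg.hermForm 3 K q w v • v)
        (w - Cfsg.hermForm 3 K q w v • v) = 0 := by rw [hw1, hN, sub_self]
    set w1 := w - Cfsg.hermForm 3 K q w v • v with hw1def
    set b1 := Cfsg.hermForm 3 K q w1 u1 with hb1
    set b2 := Cfsg.hermForm 3 K q w1 u2 with hb2
    have hnorm : b1 ^ (q + 1) + b2 ^ (q + 1) = 0 := by
      have h6 : Cfsg.hermForm 3 K q w1 w1 = Cfsg.hermForm 3 K q (b1 • u1 + b2 • u2) w1 :=
        congrArg (fun z => Cfsg.hermForm 3 K q z w1) hex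
      rw [h5, herm_add_left, herm_smul_left, herm_smul_left, ← herm_conj hK w1 u1,
        ← herm_conj hK w1 u2] at h6
      rw [pow_succ', pow_succ']
      exact h6.symm
    by_cases hb10 : b1 = 0
    · exfalso
      rw [hb10, zero_pow (by omega), zero_add] at hnorm
      have hb20 : b2 = 0 := (pow_eq_zero_iff (by omega : q + 1 ≠ 0)).mp hnorm
      rw [hb10, hb20, zero_smul, zero_smul, add_zero] at hex
      exact hw1ne hex
    by_cases hN1 : b1 ^ (q + 1) = 1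
    · rw [hN1] at hnorm
      have hb2N : b2 ^ (q + 1) = -1 := by linear_combination hnorm
      refine step3 hK hq h2 v w u2 hv hw hu2 hvu2 ?_ ?_
      · intro h
        have h7 : b2 = 0 := h
        rw [h7, zero_pow (by omega)] at hb2N
        exact one_ne_zero (neg_eq_zero.mp hb2N.symm)
      · intro h
        have h7 : b2 ^ (q + 1) = 1 := h
        rw [hb2N] at h7
        apply h2
        linear_combination -h7
    · exact step3 hK hq h2 v w u1 hv hw hu1 hvu1 hb10 hN1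
  · obtain ⟨y, hy1, hy2, hty, hyx⟩ := c2_mpr hK hq h2 v w hv hw ha0 hN
    exact ⟨y, y, hy1, hy2, hy1, hy2, hty, Commute.refl y, hyx⟩

theorem main (hq : Odd q) (hK : Fintype.card K = q ^ 2) (t : ↥(Cfsg.SU 3 K q)) (ht : t ≠ 1)
    (ht2 : t * t = 1) :
    Nat.card {x : ↥(Cfsg.SU 3 K q) // x ≠ 1 ∧ x * x = 1 ∧ x ≠ t ∧ Commute t x} = q * (q - 1) ∧
    Nat.card {x : ↥(Cfsg.SU 3 K q) // x ≠ 1 ∧ x * x = 1 ∧ ¬ Commute t x ∧
        ∃ y : ↥(Cfsg.SU 3 K q), y ≠ 1 ∧ y * y = 1 ∧ Commute t y ∧ Commute y x}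
          = q * (q - 2) * (q ^ 2 - 1) ∧
    Nat.card {x : ↥(Cfsg.SU 3 K q) // x ≠ 1 ∧ x * x = 1 ∧ ¬ Commute t x ∧
        ∀ y : ↥(Cfsg.SU 3 K q), y ≠ 1 → y * y = 1 → ¬ (Commute t y ∧ Commute y x)}
          = (q + 1) * (q ^ 2 - 1) ∧
    ∀ x : ↥(Cfsg.SU 3 K q), x ≠ 1 → x * x = 1 →
      ∃ y z : ↥(Cfsg.SU 3 K q), y ≠ 1 ∧ y * y = 1 ∧ z ≠ 1 ∧ z * z = 1 ∧
        Commute t y ∧ Commute y z ∧ Commute z x := by
  have hchar : ringChar K ≠ 2 := by
    intro h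
    have h1 := FiniteField.even_card_iff_char_two.mp h
    rw [hK] at h1
    have h3 : Odd (q ^ 2) := hq.pow
    rw [Nat.odd_iff] at h3
    omega
  have h2 : (2 : K) ≠ 0 := Ring.two_ne_zero hchar
  obtain ⟨v, hv, rfl⟩ := exists_rS hK h2 t ht ht2
  refine ⟨card_c1 hK hq h2 v hv, card_c2 hK hq h2 v hv, card_c3 hK hq h2 v hv, ?_⟩
  intro x hx hx2
  obtain ⟨w, hw, rfl⟩ := exists_rS hK h2 x hx hx2
  exact part4' hK hq h2 v w hv hw

end Aux

/-- Let q be odd, F the field with q² elements, S = SU_3(F) (determinant-one isometries of the standard Hermitian form) and t an involution of S. Then: exactly q(q−1) involutions other than t commute with t; exactly q(q−2)(q²−1) involutions do not commute with t but commute with some involution commuting with t; exactly (q+1)(q²−1) involutions x do not commute with t and admit no involution commuting with both t and x; and every involution can be reached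 from t in at most three steps, each step going to an involution that commutes with the previous one (the commuting involution graph is connected of diameter 3). -/
theorem result {F : Type*} [Field F] [Fintype F] {q : ℕ} (hq : Odd q)
    (hF : Fintype.card F = q ^ 2) (t : ↥(Cfsg.SU 3 F q)) (ht : t ≠ 1) (ht2 : t * t = 1) :
    Nat.card {x : ↥(Cfsg.SU 3 F q) // x ≠ 1 ∧ x * x = 1 ∧ x ≠ t ∧ Commute t x} = q * (q - 1) ∧
    Nat.card {x : ↥(Cfsg.SU 3 F q) // x ≠ 1 ∧ x * x = 1 ∧ ¬ Commute t x ∧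
        ∃ y : ↥(Cfsg.SU 3 F q), y ≠ 1 ∧ y * y = 1 ∧ Commute t y ∧ Commute y x} = q * (q - 2) * (q ^ 2 - 1) ∧
    Nat.card {x : ↥(Cfsg.SU 3 F q) // x ≠ 1 ∧ x * x = 1 ∧ ¬ Commute t x ∧
        ∀ y : ↥(Cfsg.SU 3 F q), y ≠ 1 → y * y = 1 → ¬ (Commute t y ∧ Commute y x)} = (q + 1) * (q ^ 2 - 1) ∧
    ∀ x : ↥(Cfsg.SU 3 F q), x ≠ 1 → x * x = 1 →
      ∃ y z : ↥(Cfsg.SU 3 F q), y ≠ 1 ∧ y * y = 1 ∧ z ≠ 1 ∧ z * z = 1 ∧
        Commute t y ∧ Commute y z ∧ Commute z x := by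
  exact main hq hF t ht ht2

end Cfsg.Agent.S2356
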