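import Cfsg.Statements.S2430
import Mathlib
import Cfsg.Agent.Lib_helper8_GL2
import Cfsg.Agent.Lib_helper4_SL2Cyc
import Cfsg.Agent.S2507
import Cfsg.Agent.S2508
import Cfsg.Agent.S2475
import Cfsg.Agent.S2450
import Cfsg.Agent.S2455

set_option autoImplicit false
open Cfsg

namespace Cfsg.Agent.S2430

section Aux
open Matrix Cfsg.Agent.S2508

variable {F : Type*} [Field F] [Fintype F]

local notation "SL2" => SpecialLinearGroup (Fin 2) F

omit [Fintype F] in
theorem adj_eq (M : Matrix (Fin 2) (Fin 2) F) :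
    M.adjugate = M.trace • (1 : Matrix (Fin 2) (Fin 2) F) - M := by
  obtain ⟨a, b, c, d, rfl⟩ : ∃ a b c d : F, M = !![a, b; c, d] :=
    ⟨_, _, _, _, Matrix.eta_fin_two _⟩
  rw [Matrix.adjugate_fin_two_of, Matrix.trace_fin_two_of]
  ext i j
  fin_cases i <;> fin_cases j <;> simp

omit [Fintype F] in
theorem same_trace (h2 : (2 : F) ≠ 0) (z w : SL2)
    (hz : Cfsg.Agent.Lib_helper8_GL2.NonScalar (z : Matrix (Fin 2) (Fin 2) F))
    (ht4 : (z : Matrix (Fin 2) (Fin 2) F).trace ^ 2 ≠ 4) (hc : w * z = z * w)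
    (ht : (w : Matrix (Fin 2) (Fin 2) F).trace = (z : Matrix (Fin 2) (Fin 2) F).trace) :
    w = z ∨ w = z⁻¹ := by
  obtain ⟨a, b, hab⟩ := Cfsg.Agent.S2507.commutant _ _ hz (congrArg Subtype.val hc)
  obtain ⟨t, htdef⟩ : ∃ t : F, t = (z : Matrix (Fin 2) (Fin 2) F).trace := ⟨_, rfl⟩
  rw [← htdef] at ht4 ht
  have htr : 2 * a + b * t = t := by
    rw [hab, Matrix.trace_add, Matrix.trace_smul, Matrix.trace_smul, Matrix.trace_one,
      Fintype.card_fin, ← htdef] at ht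
    simp only [smul_eq_mul] at ht
    push_cast at ht
    linear_combination ht
  have hdet : a ^ 2 + a * b * t + b ^ 2 = 1 := by
    have := w.2
    rw [hab, Cfsg.Agent.Lib_helper4_SL2Cyc.det_D, z.2, mul_one, ← htdef] at this
    exact this
  have key : (1 - b) * (1 + b) = 0 := by
    have : (1 - b) * (1 + b) * (t ^ 2 - 4) = 0 := by
      linear_combination 4 * hdet - (2 * a + t + b * t) * htr
    exact (mul_eq_zero.mp this).resolve_right (sub_ne_zero.mpr ht4)
  rcases mul_eq_zero.mp key with hb | hb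
  · left
    have hb1 : b = 1 := by linear_combination -hb
    have ha : a = 0 := by
      have : 2 * a = 0 := by rw [hb1] at htr; linear_combination htr
      exact (mul_eq_zero.mp this).resolve_left h2
    apply Subtype.ext
    rw [hab, ha, hb1]; simp
  · right
    have hb1 : b = -1 := by linear_combination hb
    have ha : a = t := by
      have : 2 * a = 2 * t := by rw [hb1] at htr; linear_combination htr
      exact mul_left_cancel₀ h2 this
    apply Subtype.ext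
    rw [hab, ha, hb1, Matrix.SpecialLinearGroup.coe_inv, adj_eq, ← htdef]
    simp [sub_eq_add_neg]

omit [Fintype F] in
theorem inv_of_conj (z R h : SL2)
    (hz : Cfsg.Agent.Lib_helper8_GL2.NonScalar (z : Matrix (Fin 2) (Fin 2) F))
    (hR : R * z * R⁻¹ = z⁻¹) (hc : h * z = z * h) : R * h * R⁻¹ = h⁻¹ := by
  obtain ⟨a, b, hab⟩ := Cfsg.Agent.S2507.commutant _ _ hz (congrArg Subtype.val hc)
  apply Subtype.ext
  have hRv : (R : Matrix (Fin 2) (Fin 2) F) * (z : Matrix (Fin 2) (Fin 2) F)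
      * ((R⁻¹ : SL2) : Matrix (Fin 2) (Fin 2) F) = ((z⁻¹ : SL2) : Matrix (Fin 2) (Fin 2) F) :=
    congrArg Subtype.val hR
  have e1 : (R : Matrix (Fin 2) (Fin 2) F) * ((R⁻¹ : SL2) : Matrix (Fin 2) (Fin 2) F) = 1 := by
    rw [← Matrix.SpecialLinearGroup.coe_mul, mul_inv_cancel, Matrix.SpecialLinearGroup.coe_one]
  show (R : Matrix (Fin 2) (Fin 2) F) * (h : Matrix (Fin 2) (Fin 2) F)
      * ((R⁻¹ : SL2) : Matrix (Fin 2) (Fin 2) F) = ((h⁻¹ : SL2) : Matrix (Fin 2) (Fin 2) F)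
  rw [Matrix.SpecialLinearGroup.coe_inv h, adj_eq, hab, Matrix.mul_add, Matrix.add_mul,
    Matrix.mul_smul, Matrix.smul_mul, Matrix.mul_one, e1, Matrix.mul_smul, Matrix.smul_mul, hRv,
    Matrix.SpecialLinearGroup.coe_inv z, adj_eq, Matrix.trace_add, Matrix.trace_smul,
    Matrix.trace_smul, Matrix.trace_one, Fintype.card_fin]
  obtain ⟨p, q, r, s, hZ⟩ : ∃ a b c d : F, (z : Matrix (Fin 2) (Fin 2) F) = !![a, b; c, d] :=
    ⟨_, _, _, _, Matrix.eta_fin_two _⟩
  rw [hZ, Matrix.trace_fin_two_of]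
  ext i j
  fin_cases i <;> fin_cases j <;> simp <;> ring

theorem cyclic_split (h2 : (2 : F) ≠ 0) (z : SL2) (ρ : F)
    (hρ : ρ ^ 2 - (z : Matrix (Fin 2) (Fin 2) F).trace * ρ + 1 = 0) (hρ1 : ρ ^ 2 ≠ 1) :
    IsCyclic (Subgroup.centralizer ({z} : Set SL2)) := by
  obtain ⟨hρ0, hsum⟩ := root_sum _ ρ hρ
  have hρσ : ρ * ρ⁻¹ = 1 := mul_inv_cancel₀ hρ0
  have hd : ρ - ρ⁻¹ ≠ 0 := by
    intro h
    apply hρ1
    have h1 : ρ = ρ⁻¹ := sub_eq_zero.mp h
    rw [sq]
    nth_rewrite 2 [h1]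
    exact hρσ
  have hdetD : (!![ρ, 0; 0, ρ⁻¹] : Matrix (Fin 2) (Fin 2) F).det = 1 := by
    rw [Matrix.det_fin_two_of]; linear_combination hρσ
  let D : SL2 := ⟨_, hdetD⟩
  have hDtr : (D : Matrix (Fin 2) (Fin 2) F).trace = ρ + ρ⁻¹ := by
    show (!![ρ, 0; 0, ρ⁻¹] : Matrix (Fin 2) (Fin 2) F).trace = ρ + ρ⁻¹
    rw [Matrix.trace_fin_two_of]
  have ht4 : (z : Matrix (Fin 2) (Fin 2) F).trace ^ 2 ≠ 4 := by
    rw [← hsum]
    intro h
    apply hd
    have : (ρ - ρ⁻¹) ^ 2 = 0 := by linear_combination h - 4 * hρσ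
    exact (pow_eq_zero_iff (by norm_num)).mp this
  obtain ⟨R, hR⟩ := Cfsg.Agent.S2455.sl_conj h2 z D (by rw [hDtr, hsum]) ht4
  have hdiag : ∀ B : SL2, B * z = z * B →
      ((R * B * R⁻¹ : SL2) : Matrix (Fin 2) (Fin 2) F) 0 1 = 0 ∧
      ((R * B * R⁻¹ : SL2) : Matrix (Fin 2) (Fin 2) F) 1 0 = 0 := by
    intro B hB
    have hc : (R * B * R⁻¹) * D = D * (R * B * R⁻¹) := by
      rw [← hR]
      calc R * B * R⁻¹ * (R * z * R⁻¹) = R * (B * z) * R⁻¹ := by group
        _ = R * (z * B) * R⁻¹ := by rw [hB]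
        _ = R * z * R⁻¹ * (R * B * R⁻¹) := by group
    obtain ⟨X, hX⟩ : ∃ X : SL2, X = R * B * R⁻¹ := ⟨_, rfl⟩
    rw [← hX] at hc ⊢
    have hc' : (X : Matrix (Fin 2) (Fin 2) F) * !![ρ, 0; 0, ρ⁻¹]
        = !![ρ, 0; 0, ρ⁻¹] * (X : Matrix (Fin 2) (Fin 2) F) := congrArg Subtype.val hc
    have h01 := congrFun (congrFun hc' 0) 1
    have h10 := congrFun (congrFun hc' 1) 0
    simp only [Matrix.mul_apply, Fin.sum_univ_two, Matrix.of_apply, Matrix.cons_val_zero,
      Matrix.cons_val_one, Matrix.cons_val', Matrix.cons_val_fin_one] at h01 h10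
    constructor
    · have : (ρ - ρ⁻¹) * (X : Matrix (Fin 2) (Fin 2) F) 0 1 = 0 := by linear_combination -h01
      exact (mul_eq_zero.mp this).resolve_left hd
    · have : (ρ - ρ⁻¹) * (X : Matrix (Fin 2) (Fin 2) F) 1 0 = 0 := by linear_combination h10
      exact (mul_eq_zero.mp this).resolve_left hd
  let f : (Subgroup.centralizer ({z} : Set SL2)) →* F :=
    { toFun := fun B => ((R * (B : SL2) * R⁻¹ : SL2) : Matrix (Fin 2) (Fin 2) F) 0 0
      map_one' := by simp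
      map_mul' := by
        intro B B'
        have hB := Subgroup.mem_centralizer_singleton_iff.mp B.2
        have e : R * ((B : SL2) * (B' : SL2)) * R⁻¹
            = (R * (B : SL2) * R⁻¹) * (R * (B' : SL2) * R⁻¹) := by group
        show ((R * ((B : SL2) * (B' : SL2)) * R⁻¹ : SL2) : Matrix (Fin 2) (Fin 2) F) 0 0 = _
        rw [e, Matrix.SpecialLinearGroup.coe_mul, Matrix.mul_apply, Fin.sum_univ_two,
          (hdiag B hB).1, zero_mul, add_zero] }
  apply isCyclic_of_injective_ringHom f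
  intro B B' hBB
  have hB := Subgroup.mem_centralizer_singleton_iff.mp B.2
  have hB' := Subgroup.mem_centralizer_singleton_iff.mp B'.2
  have hBB' : ((R * (B : SL2) * R⁻¹ : SL2) : Matrix (Fin 2) (Fin 2) F) 0 0
      = ((R * (B' : SL2) * R⁻¹ : SL2) : Matrix (Fin 2) (Fin 2) F) 0 0 := hBB
  obtain ⟨h01, h10⟩ := hdiag B hB
  obtain ⟨h01', h10'⟩ := hdiag B' hB'
  obtain ⟨X, hX⟩ : ∃ X : SL2, X = R * (B : SL2) * R⁻¹ := ⟨_, rfl⟩
  obtain ⟨X', hX'⟩ : ∃ X : SL2, X = R * (B' : SL2) * R⁻¹ := ⟨_, rfl⟩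
  rw [← hX] at h01 h10 hBB'
  rw [← hX'] at h01' h10' hBB'
  have hdX := X.2
  have hdX' := X'.2
  rw [Matrix.det_fin_two, h01, zero_mul, sub_zero] at hdX
  rw [Matrix.det_fin_two, h01', zero_mul, sub_zero] at hdX'
  have h00 : (X : Matrix (Fin 2) (Fin 2) F) 0 0 ≠ 0 := by
    intro h
    rw [h, zero_mul] at hdX
    exact zero_ne_one hdX
  have h11 : (X : Matrix (Fin 2) (Fin 2) F) 1 1 = (X' : Matrix (Fin 2) (Fin 2) F) 1 1 := by
    apply mul_left_cancel₀ h00
    rw [hdX]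
    nth_rewrite 1 [hBB']
    exact hdX'.symm
  have hXX : X = X' := by
    apply Subtype.ext
    ext i j
    fin_cases i <;> fin_cases j
    · exact hBB'
    · exact h01.trans h01'.symm
    · exact h10.trans h10'.symm
    · exact h11
  rw [hX, hX'] at hXX
  exact Subtype.ext (mul_left_cancel (mul_right_cancel hXX))

theorem tri (h2 : (2 : F) ≠ 0) (z : SL2)
    (hzns : Cfsg.Agent.Lib_helper8_GL2.NonScalar (z : Matrix (Fin 2) (Fin 2) F)) (ℓ : ℕ)
    (hℓq : ¬ ℓ ∣ 2 * Fintype.card F)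
    (hdvd : ℓ ∣ Nat.card (Subgroup.centralizer ({z} : Set SL2))) :
    (z : Matrix (Fin 2) (Fin 2) F).trace ^ 2 ≠ 4 ∧
    ((∃ ρ : F, ρ ^ 2 - (z : Matrix (Fin 2) (Fin 2) F).trace * ρ + 1 = 0 ∧ ρ ^ 2 ≠ 1 ∧
        Nat.card (Subgroup.centralizer ({z} : Set SL2)) = Fintype.card F - 1) ∨
     ((∀ ρ : F, ρ ^ 2 - (z : Matrix (Fin 2) (Fin 2) F).trace * ρ + 1 ≠ 0) ∧
        Nat.card (Subgroup.centralizer ({z} : Set SL2)) = Fintype.card F + 1)) := by
  have e : Nat.card ↥(Subgroup.centralizer ({z} : Set SL2))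
      = Nat.card {B : SL2 // B * z = z * B} :=
    Nat.card_congr (Equiv.subtypeEquivRight (fun B => Subgroup.mem_centralizer_singleton_iff))
  rw [e, card_comm z hzns] at hdvd ⊢
  have h4 : (4 : F) ≠ 0 := by
    have : (4 : F) = 2 * 2 := by norm_num
    rw [this]; exact mul_ne_zero h2 h2
  by_cases hr : ∃ ρ : F, ρ ^ 2 - (z : Matrix (Fin 2) (Fin 2) F).trace * ρ + 1 = 0
  · obtain ⟨ρ, hρ⟩ := hr
    by_cases hρ1 : ρ ^ 2 = 1
    · rw [card_S_unip h2 _ ρ hρ hρ1] at hdvd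
      exact absurd hdvd hℓq
    · obtain ⟨hρ0, hsum⟩ := root_sum _ ρ hρ
      have hρσ : ρ * ρ⁻¹ = 1 := mul_inv_cancel₀ hρ0
      refine ⟨?_, Or.inl ⟨ρ, hρ, hρ1, card_S_split _ ρ hρ hρ1⟩⟩
      rw [← hsum]
      intro h
      apply hρ1
      have h5 : (ρ - ρ⁻¹) ^ 2 = 0 := by linear_combination h - 4 * hρσ
      have h6 : ρ = ρ⁻¹ := sub_eq_zero.mp ((pow_eq_zero_iff (by norm_num)).mp h5)
      rw [sq]
      nth_rewrite 2 [h6]
      exact hρσ
  · push Not at hr
    refine ⟨?_, Or.inr ⟨hr, card_S_nonsplit _ hr⟩⟩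
    intro h
    apply hr ((z : Matrix (Fin 2) (Fin 2) F).trace / 2)
    field_simp
    linear_combination -h

theorem core (hodd : Odd (Fintype.card F)) (ℓ : ℕ) [Fact ℓ.Prime] (hℓ : ℓ ≠ 2)
    (P : Sylow ℓ SL2) (n : ℕ)
    (hn : n = Fintype.card F - 1 ∨ n = Fintype.card F + 1) (hdvd : ℓ ∣ n) :
    Nat.card (Subgroup.centralizer ((P : Subgroup SL2) : Set SL2)) = n ∧
    IsCyclic (Subgroup.centralizer ((P : Subgroup SL2) : Set SL2)) ∧
    Nat.card (Subgroup.normalizer ((P : Subgroup SL2) : Set SL2)) = 2 * n := by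
  classical
  have hℓp : ℓ.Prime := Fact.out
  obtain ⟨q, hq⟩ : ∃ q : ℕ, q = Fintype.card F := ⟨_, rfl⟩
  rw [← hq] at hn
  have hq1 : 1 < q := hq ▸ Fintype.one_lt_card
  have h2 : (2 : F) ≠ 0 :=
    two_ne (fun h => (Nat.not_even_iff_odd.mpr hodd) (even_iff_two_dvd.mpr h))
  have hℓ2 : ¬ ℓ ∣ 2 := fun h => hℓ ((Nat.prime_dvd_prime_iff_eq hℓp Nat.prime_two).mp h)
  have hex : ¬ (ℓ ∣ q - 1 ∧ ℓ ∣ q + 1) := by
    rintro ⟨h1, h3⟩
    have h4 : ℓ ∣ (q + 1) - (q - 1) := Nat.dvd_sub h3 h1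
    have h5 : (q + 1) - (q - 1) = 2 := by omega
    rw [h5] at h4
    exact hℓ2 h4
  have hℓq : ¬ ℓ ∣ 2 * Fintype.card F := by
    rw [← hq]
    intro h
    rcases (Nat.Prime.dvd_mul hℓp).mp h with h | h
    · exact hℓ2 h
    · have h1 : ℓ ∣ 1 := by
        rcases hn with hn | hn
        · have := Nat.dvd_sub h (hn ▸ hdvd)
          rwa [show q - (q - 1) = 1 by omega] at this
        · have := Nat.dvd_sub (hn ▸ hdvd) h
          rwa [show q + 1 - q = 1 by omega] at this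
      exact hℓp.one_lt.ne' (Nat.dvd_one.mp h1)
  have hcardG : ℓ ∣ Nat.card SL2 := by
    rw [Cfsg.Agent.Lib_helper4_SL2Cyc.card_SL2, ← hq]
    rcases hn with hn | hn
    · exact Dvd.dvd.mul_left (Dvd.dvd.mul_right (hn ▸ hdvd) _) _
    · exact Dvd.dvd.mul_left (Dvd.dvd.mul_left (hn ▸ hdvd) _) _
  have hcardP : ℓ ∣ Nat.card (P : Subgroup SL2) := P.dvd_card_of_dvd_card hcardG
  haveI : Nontrivial (P : Subgroup SL2) := by
    apply (Finite.one_lt_card_iff_nontrivial).mp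
    exact lt_of_lt_of_le hℓp.one_lt (Nat.le_of_dvd Nat.card_pos hcardP)
  haveI := IsPGroup.center_nontrivial (P.isPGroup')
  obtain ⟨z', hz'⟩ := exists_ne (1 : Subgroup.center (P : Subgroup SL2))
  obtain ⟨z, hzdef⟩ : ∃ z : SL2, z = ((z' : (P : Subgroup SL2)) : SL2) := ⟨_, rfl⟩
  have hzP : z ∈ (P : Subgroup SL2) := by rw [hzdef]; exact (z' : (P : Subgroup SL2)).2
  have hz1 : z ≠ 1 := by
    intro h
    apply hz'
    apply Subtype.ext; apply Subtype.ext
    rw [← hzdef, h]; rfl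
  have hzc : ∀ h ∈ (P : Subgroup SL2), h * z = z * h := by
    intro h hh
    have := Subgroup.mem_center_iff.mp z'.2 ⟨h, hh⟩
    rw [hzdef]
    exact congrArg Subtype.val this
  obtain ⟨k, hk⟩ := (P.isPGroup') ⟨z, hzP⟩
  have hk' : z ^ ℓ ^ k = 1 := by
    have := congrArg Subtype.val hk
    simpa using this
  have hord : ℓ ∣ orderOf z := by
    obtain ⟨j, hj, hj2⟩ := (Nat.dvd_prime_pow hℓp).mp (orderOf_dvd_of_pow_eq_one hk')
    rcases Nat.eq_zero_or_pos j with h0 | h0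
    · rw [h0, pow_zero] at hj2
      exact absurd (orderOf_eq_one_iff.mp hj2) hz1
    · rw [hj2]; exact dvd_pow_self ℓ h0.ne'
  have hsq : z ^ 2 ≠ 1 := by
    intro h1
    exact hℓ2 (hord.trans (orderOf_dvd_of_pow_eq_one h1))
  have hzz : z ≠ zeta := by
    intro h
    apply hsq
    rw [h, sq, zeta_sq]
  have hzns : Cfsg.Agent.Lib_helper8_GL2.NonScalar (z : Matrix (Fin 2) (Fin 2) F) := by
    apply Cfsg.Agent.S2450.ns_of_ne_one
    intro h
    rcases center_cases z ((QuotientGroup.eq_one_iff z).mp h) with h | h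
    · exact hz1 h
    · exact hzz h
  have hCeq : Subgroup.centralizer ((P : Subgroup SL2) : Set SL2)
      = Subgroup.centralizer ({z} : Set SL2) := by
    ext g
    rw [Subgroup.mem_centralizer_iff, Subgroup.mem_centralizer_singleton_iff]
    constructor
    · intro h; exact (h z hzP).symm
    · intro hg h hh
      have hhz := hzc h hh
      obtain ⟨a, b, hab⟩ := Cfsg.Agent.S2507.commutant _ _ hzns (congrArg Subtype.val hg)
      apply Subtype.ext
      show (h : Matrix (Fin 2) (Fin 2) F) * (g : Matrix (Fin 2) (Fin 2) F)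
        = (g : Matrix (Fin 2) (Fin 2) F) * (h : Matrix (Fin 2) (Fin 2) F)
      have hhz' : (h : Matrix (Fin 2) (Fin 2) F) * (z : Matrix (Fin 2) (Fin 2) F)
          = (z : Matrix (Fin 2) (Fin 2) F) * (h : Matrix (Fin 2) (Fin 2) F) :=
        congrArg Subtype.val hhz
      rw [hab, Matrix.mul_add, Matrix.add_mul, Matrix.mul_smul, Matrix.smul_mul, Matrix.mul_smul,
        Matrix.smul_mul, Matrix.mul_one, Matrix.one_mul, hhz']
  have hdvdC : ℓ ∣ Nat.card (Subgroup.centralizer ({z} : Set SL2)) := by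
    have e : Nat.card ↥(Subgroup.centralizer ({z} : Set SL2))
        = Nat.card {B : SL2 // B * z = z * B} :=
      Nat.card_congr (Equiv.subtypeEquivRight (fun B => Subgroup.mem_centralizer_singleton_iff))
    rw [e]
    exact hord.trans (orderOf_dvd_of_pow_eq_one (Cfsg.Agent.S2475.pow_card_comm z))
  obtain ⟨ht4, htype⟩ := tri h2 z hzns ℓ hℓq hdvdC
  rw [← hq] at htype
  have hCcard : Nat.card (Subgroup.centralizer ({z} : Set SL2)) = n := by
    rcases htype with ⟨ρ, hρ, hρ1, hc⟩ | ⟨hr, hc⟩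
    · rw [hc]
      rcases hn with hn | hn
      · exact hn.symm
      · exfalso
        rw [hc] at hdvdC
        exact hex ⟨hdvdC, hn ▸ hdvd⟩
    · rw [hc]
      rcases hn with hn | hn
      · exfalso
        rw [hc] at hdvdC
        exact hex ⟨hn ▸ hdvd, hdvdC⟩
      · exact hn.symm
  have hCcyc : IsCyclic (Subgroup.centralizer ({z} : Set SL2)) := by
    rcases htype with ⟨ρ, hρ, hρ1, hc⟩ | ⟨hr, hc⟩
    · exact cyclic_split h2 z ρ hρ hρ1
    · have hNE : ∀ l : F, l ^ 2 - (z : Matrix (Fin 2) (Fin 2) F).trace * l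
          + (z : Matrix (Fin 2) (Fin 2) F).det ≠ 0 := by
        intro l
        rw [z.2]
        exact hr l
      have hmem : ∀ g ∈ Subgroup.centralizer ({z} : Set SL2),
          (g : Matrix (Fin 2) (Fin 2) F)
            ∈ Cfsg.Agent.Lib_helper4_SL2Cyc.D (z : Matrix (Fin 2) (Fin 2) F) := by
        intro g hg
        have hg' : g * z = z * g := Subgroup.mem_centralizer_singleton_iff.mp hg
        rw [Cfsg.Agent.Lib_helper4_SL2Cyc.mem_D]
        exact Cfsg.Agent.S2507.commutant _ _ hzns (congrArg Subtype.val hg')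
      exact Cfsg.Agent.Lib_helper4_SL2Cyc.cyclic_of_subalgebra
        (Subgroup.centralizer ({z} : Set SL2)) (z : Matrix (Fin 2) (Fin 2) F) hNE hmem
  refine ⟨by rw [hCeq]; exact hCcard, by rw [hCeq]; exact hCcyc, ?_⟩
  -- the normaliser
  have htrinv : ((z⁻¹ : SL2) : Matrix (Fin 2) (Fin 2) F).trace
      = (z : Matrix (Fin 2) (Fin 2) F).trace := by
    obtain ⟨a, b, c, d, hZ⟩ : ∃ a b c d : F, (z : Matrix (Fin 2) (Fin 2) F) = !![a, b; c, d] :=
      ⟨_, _, _, _, Matrix.eta_fin_two _⟩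
    rw [Matrix.SpecialLinearGroup.coe_inv, hZ, Matrix.adjugate_fin_two_of,
      Matrix.trace_fin_two_of, Matrix.trace_fin_two_of]
    ring
  obtain ⟨R, hR⟩ := Cfsg.Agent.S2455.sl_conj h2 z z⁻¹ htrinv.symm ht4
  have hzinv : z ≠ z⁻¹ := by
    intro h
    apply hsq
    rw [sq]
    nth_rewrite 2 [h]
    exact mul_inv_cancel z
  have hRN : R ∈ Subgroup.normalizer ((P : Subgroup SL2) : Set SL2) := by
    apply Subgroup.mem_normalizer_fintype
    intro h hh
    rw [inv_of_conj z R h hzns hR (hzc h hh)]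
    exact inv_mem hh
  have hCN := Subgroup.centralizer_le_normalizer ((P : Subgroup SL2) : Set SL2)
  have hrel : (Subgroup.centralizer ((P : Subgroup SL2) : Set SL2)).relIndex
      (Subgroup.normalizer ((P : Subgroup SL2) : Set SL2)) = 2 := by
    rw [Subgroup.relIndex_eq_two_iff]
    refine ⟨R, hRN, ?_⟩
    intro b hb
    have hbz : b * z * b⁻¹ ∈ (P : Subgroup SL2) := (Subgroup.mem_normalizer_iff.mp hb z).mp hzP
    have hcases := same_trace h2 z (b * z * b⁻¹) hzns ht4 (hzc _ hbz)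
      (Cfsg.Agent.S2450.trace_conj b z)
    rw [hCeq, Subgroup.mem_centralizer_singleton_iff, Subgroup.mem_centralizer_singleton_iff]
    rcases hcases with h | h
    · right
      have e1 : b * z = z * b := by
        calc b * z = b * z * b⁻¹ * b := by group
          _ = z * b := by rw [h]
      refine ⟨e1, ?_⟩
      intro e2
      apply hzinv
      have h3 : b * (R * z * R⁻¹) * b⁻¹ = z := by
        calc b * (R * z * R⁻¹) * b⁻¹ = (b * R * z) * R⁻¹ * b⁻¹ := by group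
          _ = z * (b * R) * R⁻¹ * b⁻¹ := by rw [e2]
          _ = z := by group
      rw [hR] at h3
      have h' : b * z⁻¹ * b⁻¹ = z⁻¹ := by
        calc b * z⁻¹ * b⁻¹ = (b * z * b⁻¹)⁻¹ := by group
          _ = z⁻¹ := by rw [h]
      rw [h'] at h3
      exact h3.symm
    · left
      have h' : b * z⁻¹ * b⁻¹ = z := by
        calc b * z⁻¹ * b⁻¹ = (b * z * b⁻¹)⁻¹ := by group
          _ = z := by rw [h, inv_inv]
      constructor
      · calc b * R * z = b * (R * z * R⁻¹) * b⁻¹ * (b * R) := by group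
          _ = b * z⁻¹ * b⁻¹ * (b * R) := by rw [hR]
          _ = z * (b * R) := by rw [h']
      · intro e1
        apply hzinv
        rw [← h]
        calc z = z * b * b⁻¹ := by group
          _ = b * z * b⁻¹ := by rw [← e1]
  have hmul := Subgroup.relIndex_mul_relIndex ⊥
    (Subgroup.centralizer ((P : Subgroup SL2) : Set SL2))
    (Subgroup.normalizer ((P : Subgroup SL2) : Set SL2)) bot_le hCN
  rw [Subgroup.relIndex_bot_left, Subgroup.relIndex_bot_left, hrel, hCeq, hCcard] at hmul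
  rw [← hmul, mul_comm]

end Aux

/-- Let F be a finite field with q elements, q odd, ℓ an odd prime, and P a Sylow ℓ-subgroup of SL₂ over F. If ℓ divides q − 1, the centraliser of P is cyclic of order q − 1 (a split torus) and the normaliser of P has order 2(q − 1); if ℓ divides q + 1, the centraliser of P is cyclic of order q + 1 (a non-split torus) and the normaliser of P has order 2(q + 1). -/
theorem result {F : Type*} [Field F] [Fintype F] (hodd : Odd (Fintype.card F)) (ℓ : ℕ) [Fact ℓ.Prime] (hℓ : ℓ ≠ 2)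
    (P : Sylow ℓ (Matrix.SpecialLinearGroup (Fin 2) F)) :
    (ℓ ∣ Fintype.card F - 1 →
      Nat.card (Subgroup.centralizer ((P : Subgroup (Matrix.SpecialLinearGroup (Fin 2) F)) : Set (Matrix.SpecialLinearGroup (Fin 2) F))) = Fintype.card F - 1 ∧
      IsCyclic (Subgroup.centralizer ((P : Subgroup (Matrix.SpecialLinearGroup (Fin 2) F)) : Set (Matrix.SpecialLinearGroup (Fin 2) F))) ∧
      Nat.card (Subgroup.normalizer ((P : Subgroup (Matrix.SpecialLinearGroup (Fin 2) F)) : Set (Matrix.SpecialLinearGroup (Fin 2) F))) = 2 * (Fintype.card F - 1)) ∧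
    (ℓ ∣ Fintype.card F + 1 →
      Nat.card (Subgroup.centralizer ((P : Subgroup (Matrix.SpecialLinearGroup (Fin 2) F)) : Set (Matrix.SpecialLinearGroup (Fin 2) F))) = Fintype.card F + 1 ∧
      IsCyclic (Subgroup.centralizer ((P : Subgroup (Matrix.SpecialLinearGroup (Fin 2) F)) : Set (Matrix.SpecialLinearGroup (Fin 2) F))) ∧
      Nat.card (Subgroup.normalizer ((P : Subgroup (Matrix.SpecialLinearGroup (Fin 2) F)) : Set (Matrix.SpecialLinearGroup (Fin 2) F))) = 2 * (Fintype.card F + 1)) := by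
  exact ⟨fun h => core hodd ℓ hℓ P _ (Or.inl rfl) h, fun h => core hodd ℓ hℓ P _ (Or.inr rfl) h⟩

end Cfsg.Agent.S2430
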