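import Cfsg.Statements.S2428
import Mathlib
import Cfsg.Agent.Lib_helper8_GL2
import Cfsg.Agent.Lib_helper4_SL2Cyc
import Cfsg.Agent.Lib_helper4_SL2b
import Cfsg.Agent.Lib_helper8_InvIdx2
import Cfsg.Agent.S2507
import Cfsg.Agent.S2508
import Cfsg.Agent.S2475
import Cfsg.Agent.S2450
import Cfsg.Agent.S2455
import Cfsg.Agent.S2430

set_option autoImplicit false
open Cfsg

namespace Cfsg.Agent.S2428

section Aux
open Matrix Cfsg.Agent.S2508

variable {F : Type*} [Field F] [Fintype F]

local notation "SL2" => SpecialLinearGroup (Fin 2) F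

/-- The normaliser of the centraliser `T'` of a regular semisimple element `z` of `SL₂`
(odd characteristic): order `2|T'|`, class number `(|T'| + 6)/2`, squares outside `T'`. -/
theorem torus_norm (h2 : (2 : F) ≠ 0) (z : SL2)
    (hzns : Cfsg.Agent.Lib_helper8_GL2.NonScalar (z : Matrix (Fin 2) (Fin 2) F))
    (ht4 : (z : Matrix (Fin 2) (Fin 2) F).trace ^ 2 ≠ 4) :
    Nat.card (Subgroup.normalizer
        ((Subgroup.centralizer ({z} : Set SL2) : Subgroup SL2) : Set SL2))
      = 2 * Nat.card (Subgroup.centralizer ({z} : Set SL2)) ∧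
    2 * Nat.card (ConjClasses (Subgroup.normalizer
        ((Subgroup.centralizer ({z} : Set SL2) : Subgroup SL2) : Set SL2)))
      = Nat.card (Subgroup.centralizer ({z} : Set SL2)) + 6 ∧
    ∀ g : SL2, g ∈ Subgroup.normalizer
        ((Subgroup.centralizer ({z} : Set SL2) : Subgroup SL2) : Set SL2) →
      g ∉ Subgroup.centralizer ({z} : Set SL2) →
      ((g * g : SL2) : Matrix (Fin 2) (Fin 2) F) = -1 := by
  classical
  obtain ⟨T', hT'⟩ : ∃ T' : Subgroup SL2, T' = Subgroup.centralizer ({z} : Set SL2) := ⟨_, rfl⟩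
  rw [← hT']
  have hmemT : ∀ g : SL2, g ∈ T' ↔ g * z = z * g := by
    intro g
    rw [hT']
    exact Subgroup.mem_centralizer_singleton_iff
  have hzT : z ∈ T' := (hmemT z).mpr rfl
  have hTcomm : ∀ g ∈ T', ∀ h ∈ T', g * h = h * g := by
    intro g hg h hh
    rw [hmemT] at hg hh
    obtain ⟨a, b, hab⟩ := Cfsg.Agent.S2507.commutant _ _ hzns (congrArg Subtype.val hg)
    apply Subtype.ext
    show (g : Matrix (Fin 2) (Fin 2) F) * (h : Matrix (Fin 2) (Fin 2) F)
      = (h : Matrix (Fin 2) (Fin 2) F) * (g : Matrix (Fin 2) (Fin 2) F)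
    have hhz' : (h : Matrix (Fin 2) (Fin 2) F) * (z : Matrix (Fin 2) (Fin 2) F)
        = (z : Matrix (Fin 2) (Fin 2) F) * (h : Matrix (Fin 2) (Fin 2) F) :=
      congrArg Subtype.val hh
    rw [hab, Matrix.mul_add, Matrix.add_mul, Matrix.mul_smul, Matrix.smul_mul, Matrix.mul_smul,
      Matrix.smul_mul, Matrix.mul_one, Matrix.one_mul, hhz']
  have hzetaT : zeta ∈ T' := (hmemT zeta).mpr (zeta_comm z).symm
  have hsq1 : ∀ g : SL2, g * g = 1 → g = 1 ∨ g = zeta := by
    intro g hg
    have hg' : (g : Matrix (Fin 2) (Fin 2) F) * (g : Matrix (Fin 2) (Fin 2) F) = 1 := by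
      rw [← Matrix.SpecialLinearGroup.coe_mul, hg, Matrix.SpecialLinearGroup.coe_one]
    rcases Cfsg.Agent.Lib_helper4_SL2b.eq_one_or_neg_one _ g.2 hg' h2 with h | h
    · left; exact Subtype.ext h
    · right; exact Subtype.ext h
  have hzsq : z * z ≠ 1 := by
    intro h
    rcases hsq1 z h with h | h
    · exact (Cfsg.Agent.Lib_helper8_GL2.nonScalar_iff _).mp hzns ⟨1, by rw [h]; simp⟩
    · refine (Cfsg.Agent.Lib_helper8_GL2.nonScalar_iff _).mp hzns ⟨-1, ?_⟩
      rw [h]
      show (-1 : Matrix (Fin 2) (Fin 2) F) = (-1 : F) • (1 : Matrix (Fin 2) (Fin 2) F)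
      simp
  have hzinv : z ≠ z⁻¹ := by
    intro h
    apply hzsq
    nth_rewrite 2 [h]
    exact mul_inv_cancel z
  have hTN : T' ≤ Subgroup.normalizer (T' : Set SL2) := Subgroup.le_normalizer
  -- the normaliser
  have htrinv : ((z⁻¹ : SL2) : Matrix (Fin 2) (Fin 2) F).trace
      = (z : Matrix (Fin 2) (Fin 2) F).trace := by
    obtain ⟨a, b, c, d, hZ⟩ : ∃ a b c d : F, (z : Matrix (Fin 2) (Fin 2) F) = !![a, b; c, d] :=
      ⟨_, _, _, _, Matrix.eta_fin_two _⟩
    rw [Matrix.SpecialLinearGroup.coe_inv, hZ, Matrix.adjugate_fin_two_of,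
      Matrix.trace_fin_two_of, Matrix.trace_fin_two_of]
    ring
  obtain ⟨R, hR⟩ := Cfsg.Agent.S2455.sl_conj h2 z z⁻¹ htrinv.symm ht4
  have hRN : R ∈ Subgroup.normalizer (T' : Set SL2) := by
    apply Subgroup.mem_normalizer_fintype
    intro h hh
    rw [Cfsg.Agent.S2430.inv_of_conj z R h hzns hR ((hmemT h).mp hh)]
    exact inv_mem hh
  have hNz : ∀ g ∈ Subgroup.normalizer (T' : Set SL2), g ∉ T' → g * z * g⁻¹ = z⁻¹ := by
    intro g hg hgT
    have hbz : g * z * g⁻¹ ∈ T' := (Subgroup.mem_normalizer_iff.mp hg z).mp hzT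
    rcases Cfsg.Agent.S2430.same_trace h2 z (g * z * g⁻¹) hzns ht4 ((hmemT _).mp hbz)
      (Cfsg.Agent.S2450.trace_conj g z) with h | h
    · exfalso
      apply hgT
      rw [hmemT]
      calc g * z = g * z * g⁻¹ * g := by group
        _ = z * g := by rw [h]
    · exact h
  have hrel : T'.relIndex (Subgroup.normalizer (T' : Set SL2)) = 2 := by
    rw [Subgroup.relIndex_eq_two_iff]
    refine ⟨R, hRN, ?_⟩
    intro b hb
    by_cases hbT : b ∈ T'
    · right
      refine ⟨hbT, ?_⟩
      intro hbR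
      have hRT : R ∈ T' := by
        have := T'.mul_mem (T'.inv_mem hbT) hbR
        simpa using this
      apply hzinv
      rw [← hR]
      have := (hmemT R).mp hRT
      calc z = z * R * R⁻¹ := by group
        _ = R * z * R⁻¹ := by rw [← this]
    · left
      refine ⟨?_, hbT⟩
      rw [hmemT]
      have h' := hNz b hb hbT
      have h'' : b * z⁻¹ * b⁻¹ = z := by
        calc b * z⁻¹ * b⁻¹ = (b * z * b⁻¹)⁻¹ := by group
          _ = z := by rw [h', inv_inv]
      calc b * R * z = b * (R * z * R⁻¹) * b⁻¹ * (b * R) := by group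
        _ = b * z⁻¹ * b⁻¹ * (b * R) := by rw [hR]
        _ = z * (b * R) := by rw [h'']
  have hN : Nat.card (Subgroup.normalizer (T' : Set SL2)) = 2 * Nat.card T' := by
    have hmul := Subgroup.relIndex_mul_relIndex ⊥ T' (Subgroup.normalizer (T' : Set SL2))
      bot_le hTN
    rw [Subgroup.relIndex_bot_left, Subgroup.relIndex_bot_left, hrel] at hmul
    rw [← hmul, mul_comm]
  -- conjugacy classes of the normaliser
  have hcl : 2 * Nat.card (ConjClasses (Subgroup.normalizer (T' : Set SL2)))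
      = Nat.card T' + 6 := by
    have key := Cfsg.Agent.Lib_helper8_InvIdx2.card_conjClasses
      (N := ↥(Subgroup.normalizer (T' : Set SL2)))
      (T'.subgroupOf (Subgroup.normalizer (T' : Set SL2))) ?_ hrel ?_ ?_
    · rw [Nat.card_congr (Subgroup.subgroupOfEquivOfLe hTN).toEquiv] at key
      exact key
    · intro a ha b hb
      rw [Subgroup.mem_subgroupOf] at ha hb
      exact Subtype.ext (hTcomm _ ha _ hb)
    · intro g hg h hh
      rw [Subgroup.mem_subgroupOf] at hg hh
      apply Subtype.ext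
      show (g : SL2) * (h : SL2) * (g : SL2)⁻¹ = (h : SL2)⁻¹
      exact Cfsg.Agent.S2430.inv_of_conj z _ _ hzns (hNz g.1 g.2 hg) ((hmemT _).mp hh)
    · rw [Nat.card_eq_two_iff]
      have hz1 : (⟨zeta, hTN hzetaT⟩ : ↥(Subgroup.normalizer (T' : Set SL2)))
          ∈ T'.subgroupOf (Subgroup.normalizer (T' : Set SL2)) :=
        Subgroup.mem_subgroupOf.mpr hzetaT
      have hz2 : (⟨zeta, hTN hzetaT⟩ : ↥(Subgroup.normalizer (T' : Set SL2)))
          * ⟨zeta, hTN hzetaT⟩ = 1 := Subtype.ext zeta_sq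
      refine ⟨⟨1, Subgroup.one_mem _, one_mul 1⟩, ⟨_, hz1, hz2⟩, ?_, ?_⟩
      · intro h
        have h' := congrArg
          (fun w : {h : ↥(Subgroup.normalizer (T' : Set SL2)) //
            h ∈ T'.subgroupOf (Subgroup.normalizer (T' : Set SL2)) ∧ h * h = 1} =>
              ((w.1 : ↥(Subgroup.normalizer (T' : Set SL2))) : SL2)) h
        exact zeta_ne_one h2 h'.symm
      · apply Set.eq_univ_of_forall
        rintro ⟨w, hw1, hw2⟩
        have hw3 : (w : SL2) * (w : SL2) = 1 := congrArg Subtype.val hw2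
        rw [Set.mem_insert_iff, Set.mem_singleton_iff]
        rcases hsq1 _ hw3 with h | h
        · left; apply Subtype.ext; apply Subtype.ext; exact h
        · right; apply Subtype.ext; apply Subtype.ext; exact h
  -- squares outside the torus
  have h8 : ∀ g : SL2, g ∈ Subgroup.normalizer (T' : Set SL2) → g ∉ T' →
      ((g * g : SL2) : Matrix (Fin 2) (Fin 2) F) = -1 := by
    intro g hg hgT
    have h' := hNz g hg hgT
    have h'' : g * z⁻¹ * g⁻¹ = z := by
      calc g * z⁻¹ * g⁻¹ = (g * z * g⁻¹)⁻¹ := by group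
        _ = z := by rw [h', inv_inv]
    have hgg : (g * g) * z = z * (g * g) := by
      calc g * g * z = g * (g * z * g⁻¹) * g⁻¹ * (g * g) := by group
        _ = g * z⁻¹ * g⁻¹ * (g * g) := by rw [h']
        _ = z * (g * g) := by rw [h'']
    have hinv := Cfsg.Agent.S2430.inv_of_conj z g (g * g) hzns h' hgg
    have h4' : (g * g) * (g * g) = 1 := by
      have e : g * (g * g) * g⁻¹ = g * g := by group
      rw [e] at hinv
      nth_rewrite 2 [hinv]
      exact mul_inv_cancel _
    rcases hsq1 _ h4' with h | h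
    · exfalso
      rcases hsq1 g h with h1 | h1
      · exact hgT (h1 ▸ Subgroup.one_mem _)
      · exact hgT (h1 ▸ hzetaT)
    · rw [h]; rfl
  exact ⟨hN, hcl, h8⟩

theorem main (hodd : Odd (Fintype.card F))
    (d : SL2) (hd01 : (d : Matrix (Fin 2) (Fin 2) F) 0 1 = 0)
    (hd10 : (d : Matrix (Fin 2) (Fin 2) F) 1 0 = 0)
    (hda : (d : Matrix (Fin 2) (Fin 2) F) 0 0 ^ 2 ≠ 1) :
    (∀ g : SL2, g ∈ Subgroup.centralizer ({d} : Set SL2) ↔
      ((g : Matrix (Fin 2) (Fin 2) F) 0 1 = 0 ∧ (g : Matrix (Fin 2) (Fin 2) F) 1 0 = 0)) ∧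
    Nat.card (Subgroup.normalizer
      ((Subgroup.centralizer ({d} : Set SL2) : Subgroup SL2) : Set SL2))
        = 2 * (Fintype.card F - 1) ∧
    Nat.card (ConjClasses (Subgroup.normalizer
      ((Subgroup.centralizer ({d} : Set SL2) : Subgroup SL2) : Set SL2)))
        = (Fintype.card F + 5) / 2 ∧
    ∀ g : SL2, g ∈ Subgroup.normalizer
        ((Subgroup.centralizer ({d} : Set SL2) : Subgroup SL2) : Set SL2) →
      g ∉ Subgroup.centralizer ({d} : Set SL2) →
      ((g * g : SL2) : Matrix (Fin 2) (Fin 2) F) = -1 := by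
  classical
  have h2 : (2 : F) ≠ 0 :=
    two_ne (fun h => (Nat.not_even_iff_odd.mpr hodd) (even_iff_two_dvd.mpr h))
  have hq1 : 1 < Fintype.card F := Fintype.one_lt_card
  obtain ⟨a, ha⟩ : ∃ a : F, a = (d : Matrix (Fin 2) (Fin 2) F) 0 0 := ⟨_, rfl⟩
  obtain ⟨e, he⟩ : ∃ e : F, e = (d : Matrix (Fin 2) (Fin 2) F) 1 1 := ⟨_, rfl⟩
  rw [← ha] at hda
  have hdet : a * e = 1 := by
    have := d.2
    rw [Matrix.det_fin_two, hd01, zero_mul, sub_zero, ← ha, ← he] at this
    exact this
  have hae : a ≠ e := by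
    intro h
    apply hda
    rw [sq]
    nth_rewrite 2 [h]
    exact hdet
  have hdns : Cfsg.Agent.Lib_helper8_GL2.NonScalar (d : Matrix (Fin 2) (Fin 2) F) := by
    right; right
    rw [← ha, ← he]; exact hae
  have hdtr : (d : Matrix (Fin 2) (Fin 2) F).trace = a + e := by
    rw [Matrix.trace_fin_two, ← ha, ← he]
  have hroot : a ^ 2 - (d : Matrix (Fin 2) (Fin 2) F).trace * a + 1 = 0 := by
    rw [hdtr]; linear_combination -hdet
  have ht4 : (d : Matrix (Fin 2) (Fin 2) F).trace ^ 2 ≠ 4 := by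
    rw [hdtr]
    intro h
    apply hae
    have h5 : (a - e) ^ 2 = 0 := by linear_combination h - 4 * hdet
    exact sub_eq_zero.mp ((pow_eq_zero_iff (by norm_num)).mp h5)
  have hcard : Nat.card (Subgroup.centralizer ({d} : Set SL2)) = Fintype.card F - 1 := by
    have e' : Nat.card ↥(Subgroup.centralizer ({d} : Set SL2))
        = Nat.card {B : SL2 // B * d = d * B} :=
      Nat.card_congr (Equiv.subtypeEquivRight (fun B => Subgroup.mem_centralizer_singleton_iff))
    rw [e', card_comm d hdns]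
    exact card_S_split _ a hroot hda
  have hD : (d : Matrix (Fin 2) (Fin 2) F) = !![a, 0; 0, e] := by
    rw [Matrix.eta_fin_two (d : Matrix (Fin 2) (Fin 2) F), hd01, hd10, ← ha, ← he]
  obtain ⟨hN, hcl, h8⟩ := torus_norm h2 d hdns ht4
  rw [hcard] at hN hcl
  refine ⟨?_, hN, by omega, h8⟩
  intro g
  rw [Subgroup.mem_centralizer_singleton_iff]
  constructor
  · intro hg
    have hc' : (g : Matrix (Fin 2) (Fin 2) F) * (d : Matrix (Fin 2) (Fin 2) F)
        = (d : Matrix (Fin 2) (Fin 2) F) * (g : Matrix (Fin 2) (Fin 2) F) :=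
      congrArg Subtype.val hg
    rw [hD] at hc'
    have h01 := congrFun (congrFun hc' 0) 1
    have h10 := congrFun (congrFun hc' 1) 0
    simp only [Matrix.mul_apply, Fin.sum_univ_two, Matrix.of_apply, Matrix.cons_val_zero,
      Matrix.cons_val_one, Matrix.cons_val', Matrix.cons_val_fin_one] at h01 h10
    constructor
    · have : (a - e) * (g : Matrix (Fin 2) (Fin 2) F) 0 1 = 0 := by linear_combination -h01
      exact (mul_eq_zero.mp this).resolve_left (sub_ne_zero.mpr hae)
    · have : (a - e) * (g : Matrix (Fin 2) (Fin 2) F) 1 0 = 0 := by linear_combination h10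
      exact (mul_eq_zero.mp this).resolve_left (sub_ne_zero.mpr hae)
  · rintro ⟨h01, h10⟩
    apply Subtype.ext
    show (g : Matrix (Fin 2) (Fin 2) F) * (d : Matrix (Fin 2) (Fin 2) F)
        = (d : Matrix (Fin 2) (Fin 2) F) * (g : Matrix (Fin 2) (Fin 2) F)
    rw [hD, Matrix.eta_fin_two (g : Matrix (Fin 2) (Fin 2) F), h01, h10, Matrix.mul_fin_two,
      Matrix.mul_fin_two]
    simp [mul_comm]

end Aux

/-- Let F be a finite field with q elements, q odd, and let d be a diagonal element of SL₂ over F whose diagonal entry a has a² ≠ 1 (such d exist exactly when q > 3). Then the centraliser of d is precisely the diagonal subgroup T; the normaliser of T has order 2(q − 1) and exactly (q + 5)/2 conjugacy classes; and every element of that normaliser outside T has square equal to −1. -/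
theorem result {F : Type*} [Field F] [Fintype F] (hodd : Odd (Fintype.card F))
    (d : Matrix.SpecialLinearGroup (Fin 2) F) (hd01 : (d : Matrix (Fin 2) (Fin 2) F) 0 1 = 0) (hd10 : (d : Matrix (Fin 2) (Fin 2) F) 1 0 = 0) (hda : (d : Matrix (Fin 2) (Fin 2) F) 0 0 ^ 2 ≠ 1) :
    (∀ g : Matrix.SpecialLinearGroup (Fin 2) F, g ∈ Subgroup.centralizer ({d} : Set (Matrix.SpecialLinearGroup (Fin 2) F)) ↔ ((g : Matrix (Fin 2) (Fin 2) F) 0 1 = 0 ∧ (g : Matrix (Fin 2) (Fin 2) F) 1 0 = 0)) ∧
    Nat.card (Subgroup.normalizer ((Subgroup.centralizer ({d} : Set (Matrix.SpecialLinearGroup (Fin 2) F))) : Set (Matrix.SpecialLinearGroup (Fin 2) F))) = 2 * (Fintype.card F - 1) ∧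
    Nat.card (ConjClasses (Subgroup.normalizer ((Subgroup.centralizer ({d} : Set (Matrix.SpecialLinearGroup (Fin 2) F))) : Set (Matrix.SpecialLinearGroup (Fin 2) F)))) = (Fintype.card F + 5) / 2 ∧
    ∀ g : Matrix.SpecialLinearGroup (Fin 2) F, g ∈ Subgroup.normalizer ((Subgroup.centralizer ({d} : Set (Matrix.SpecialLinearGroup (Fin 2) F))) : Set (Matrix.SpecialLinearGroup (Fin 2) F)) →
      g ∉ Subgroup.centralizer ({d} : Set (Matrix.SpecialLinearGroup (Fin 2) F)) → ((g * g) : Matrix (Fin 2) (Fin 2) F) = -1 := by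
  exact main hodd d hd01 hd10 hda

end Cfsg.Agent.S2428
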