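import Cfsg.Statements.S2429
import Mathlib
import Cfsg.Agent.Lib_helper8_GL2
import Cfsg.Agent.Lib_helper4_SL2Cyc
import Cfsg.Agent.Lib_helper4_SL2b
import Cfsg.Agent.Lib_helper8_InvIdx2
import Cfsg.Agent.S2507
import Cfsg.Agent.S2508
import Cfsg.Agent.S2475
import Cfsg.Agent.S2450
import Cfsg.Agent.S2455
import Cfsg.Agent.S2430

set_option autoImplicit false
open Cfsg

namespace Cfsg.Agent.S2429

section Aux
open Matrix Cfsg.Agent.S2508

variable {F : Type*} [Field F] [Fintype F]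

local notation "SL2" => SpecialLinearGroup (Fin 2) F

omit [Fintype F] in
theorem not_sq_of_nonsplit (h2 : (2 : F) ≠ 0) (t : F) (hr : ∀ ρ : F, ρ ^ 2 - t * ρ + 1 ≠ 0) :
    ¬ IsSquare (t ^ 2 - 4) := by
  rintro ⟨s, hs⟩
  apply hr ((t + s) / 2)
  field_simp
  linear_combination -hs

theorem prod_sq (a b : F) (ha : ¬ IsSquare a) (hb : ¬ IsSquare b) :
    ∃ s : F, a * b = s * s := by
  classical
  have ha' := quadraticChar_neg_one_iff_not_isSquare.mpr ha
  have hb' := quadraticChar_neg_one_iff_not_isSquare.mpr hb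
  have hab : quadraticChar F (a * b) = 1 := by rw [map_mul, ha', hb']; norm_num
  have hab0 : a * b ≠ 0 := by
    intro h
    rw [h, quadraticChar_zero] at hab
    exact zero_ne_one hab
  exact (quadraticChar_one_iff_isSquare hab0).mp hab

theorem main (hodd : Odd (Fintype.card F)) :
    ∃ T' : Subgroup SL2, IsCyclic T' ∧ Nat.card T' = Fintype.card F + 1 ∧
      Subgroup.centralizer ((T' : Set SL2)) = T' ∧
      (∀ g : SL2, g ∈ T' → (g : Matrix (Fin 2) (Fin 2) F) ≠ 1 →
        (g : Matrix (Fin 2) (Fin 2) F) ≠ -1 → Subgroup.centralizer ({g} : Set SL2) = T') ∧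
      (∀ g : SL2, (∀ (c : F) (v : Fin 2 → F), v ≠ 0 →
        (g : Matrix (Fin 2) (Fin 2) F).mulVec v ≠ c • v) → ∃ h : SL2, h * g * h⁻¹ ∈ T') ∧
      Nat.card (Subgroup.normalizer (T' : Set SL2)) = 2 * (Fintype.card F + 1) ∧
      Nat.card (ConjClasses (Subgroup.normalizer (T' : Set SL2))) = (Fintype.card F + 7) / 2 ∧
      ∀ g : SL2, g ∈ Subgroup.normalizer (T' : Set SL2) → g ∉ T' →
        ((g * g : SL2) : Matrix (Fin 2) (Fin 2) F) = -1 := by
  classical
  have h2 : (2 : F) ≠ 0 :=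
    two_ne (fun h => (Nat.not_even_iff_odd.mpr hodd) (even_iff_two_dvd.mpr h))
  have h4 : (4 : F) ≠ 0 := by
    have : (4 : F) = 2 * 2 := by norm_num
    rw [this]; exact mul_ne_zero h2 h2
  obtain ⟨t₀, ht₀⟩ := Cfsg.Agent.S2507.exists_t0 (F := F)
  have hnr : ∀ ρ : F, ρ ^ 2 - t₀ * ρ + 1 ≠ 0 := by
    intro ρ hρ
    obtain ⟨hρ0, hsum⟩ := root_sum t₀ ρ hρ
    exact ht₀ ρ hρ0 hsum
  obtain ⟨z, hz⟩ : ∃ z : SL2, z = comp t₀ := ⟨_, rfl⟩
  have hztr : (z : Matrix (Fin 2) (Fin 2) F).trace = t₀ := by rw [hz]; exact comp_trace t₀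
  have hzns : Cfsg.Agent.Lib_helper8_GL2.NonScalar (z : Matrix (Fin 2) (Fin 2) F) := by
    rw [hz]; exact comp_ns t₀
  have hnsq : ∀ t : F, (∀ ρ : F, ρ ^ 2 - t * ρ + 1 ≠ 0) → t ^ 2 ≠ 4 := by
    intro t hr h
    apply hr (t / 2)
    field_simp
    linear_combination -h
  have ht4 : (z : Matrix (Fin 2) (Fin 2) F).trace ^ 2 ≠ 4 := by rw [hztr]; exact hnsq t₀ hnr
  -- cyclic and cardinality
  have hcyc : IsCyclic (Subgroup.centralizer ({z} : Set SL2)) := by
    have hNE : ∀ l : F, l ^ 2 - (z : Matrix (Fin 2) (Fin 2) F).trace * l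
        + (z : Matrix (Fin 2) (Fin 2) F).det ≠ 0 := by
      intro l
      rw [z.2, hztr]
      exact hnr l
    have hmem : ∀ g ∈ Subgroup.centralizer ({z} : Set SL2),
        (g : Matrix (Fin 2) (Fin 2) F)
          ∈ Cfsg.Agent.Lib_helper4_SL2Cyc.D (z : Matrix (Fin 2) (Fin 2) F) := by
      intro g hg
      have hg' : g * z = z * g := Subgroup.mem_centralizer_singleton_iff.mp hg
      rw [Cfsg.Agent.Lib_helper4_SL2Cyc.mem_D]
      exact Cfsg.Agent.S2507.commutant _ _ hzns (congrArg Subtype.val hg')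
    exact Cfsg.Agent.Lib_helper4_SL2Cyc.cyclic_of_subalgebra
      (Subgroup.centralizer ({z} : Set SL2)) (z : Matrix (Fin 2) (Fin 2) F) hNE hmem
  have hcard : Nat.card (Subgroup.centralizer ({z} : Set SL2)) = Fintype.card F + 1 := by
    have e : Nat.card ↥(Subgroup.centralizer ({z} : Set SL2))
        = Nat.card {B : SL2 // B * z = z * B} :=
      Nat.card_congr (Equiv.subtypeEquivRight (fun B => Subgroup.mem_centralizer_singleton_iff))
    rw [e, card_comm z hzns, hztr]
    exact card_S_nonsplit t₀ hnr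
  obtain ⟨T', hT'⟩ : ∃ T' : Subgroup SL2, T' = Subgroup.centralizer ({z} : Set SL2) := ⟨_, rfl⟩
  rw [← hT'] at hcyc hcard
  have hmemT : ∀ g : SL2, g ∈ T' ↔ g * z = z * g := by
    intro g
    rw [hT']
    exact Subgroup.mem_centralizer_singleton_iff
  have hzT : z ∈ T' := (hmemT z).mpr rfl
  have hTcomm : ∀ g ∈ T', ∀ h ∈ T', g * h = h * g := by
    intro g hg h hh
    rw [hmemT] at hg hh
    obtain ⟨a, b, hab⟩ := Cfsg.Agent.S2507.commutant _ _ hzns (congrArg Subtype.val hg)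
    apply Subtype.ext
    show (g : Matrix (Fin 2) (Fin 2) F) * (h : Matrix (Fin 2) (Fin 2) F)
      = (h : Matrix (Fin 2) (Fin 2) F) * (g : Matrix (Fin 2) (Fin 2) F)
    have hhz' : (h : Matrix (Fin 2) (Fin 2) F) * (z : Matrix (Fin 2) (Fin 2) F)
        = (z : Matrix (Fin 2) (Fin 2) F) * (h : Matrix (Fin 2) (Fin 2) F) :=
      congrArg Subtype.val hh
    rw [hab, Matrix.mul_add, Matrix.add_mul, Matrix.mul_smul, Matrix.smul_mul, Matrix.mul_smul,
      Matrix.smul_mul, Matrix.mul_one, Matrix.one_mul, hhz']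
  have hzetaT : zeta ∈ T' := (hmemT zeta).mpr (zeta_comm z).symm
  have hsq1 : ∀ g : SL2, g * g = 1 → g = 1 ∨ g = zeta := by
    intro g hg
    have hg' : (g : Matrix (Fin 2) (Fin 2) F) * (g : Matrix (Fin 2) (Fin 2) F) = 1 := by
      rw [← Matrix.SpecialLinearGroup.coe_mul, hg, Matrix.SpecialLinearGroup.coe_one]
    rcases Cfsg.Agent.Lib_helper4_SL2b.eq_one_or_neg_one _ g.2 hg' h2 with h | h
    · left; exact Subtype.ext h
    · right; exact Subtype.ext h
  have hzsq : z * z ≠ 1 := by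
    intro h
    rcases hsq1 z h with h | h
    · exact (Cfsg.Agent.Lib_helper8_GL2.nonScalar_iff _).mp hzns ⟨1, by rw [h]; simp⟩
    · refine (Cfsg.Agent.Lib_helper8_GL2.nonScalar_iff _).mp hzns ⟨-1, ?_⟩
      rw [h]
      show (-1 : Matrix (Fin 2) (Fin 2) F) = (-1 : F) • (1 : Matrix (Fin 2) (Fin 2) F)
      simp
  have hzinv : z ≠ z⁻¹ := by
    intro h
    apply hzsq
    nth_rewrite 2 [h]
    exact mul_inv_cancel z
  have hTN : T' ≤ Subgroup.normalizer (T' : Set SL2) := Subgroup.le_normalizer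
  -- (3)
  have h3 : Subgroup.centralizer (T' : Set SL2) = T' := by
    ext g
    rw [Subgroup.mem_centralizer_iff]
    constructor
    · intro h; rw [hmemT]; exact (h z hzT).symm
    · intro hg h hh; exact hTcomm h hh g hg
  -- (4)
  have h4c : ∀ g : SL2, g ∈ T' → (g : Matrix (Fin 2) (Fin 2) F) ≠ 1 →
      (g : Matrix (Fin 2) (Fin 2) F) ≠ -1 → Subgroup.centralizer ({g} : Set SL2) = T' := by
    intro g hg hg1 hg2
    have hgns : Cfsg.Agent.Lib_helper8_GL2.NonScalar (g : Matrix (Fin 2) (Fin 2) F) := by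
      apply Cfsg.Agent.S2450.ns_of_ne_one
      intro h
      rcases center_cases g ((QuotientGroup.eq_one_iff g).mp h) with h | h
      · exact hg1 (by rw [h]; rfl)
      · exact hg2 (by rw [h]; rfl)
    obtain ⟨a, b, hab⟩ := Cfsg.Agent.S2507.commutant _ _ hzns
      (congrArg Subtype.val ((hmemT g).mp hg))
    have hb : b ≠ 0 := by
      rintro rfl
      rw [zero_smul, add_zero] at hab
      exact (Cfsg.Agent.Lib_helper8_GL2.nonScalar_iff _).mp hgns ⟨a, hab⟩
    ext h
    rw [Subgroup.mem_centralizer_singleton_iff, hmemT]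
    constructor
    · intro hhg
      have hv : (h : Matrix (Fin 2) (Fin 2) F) * (g : Matrix (Fin 2) (Fin 2) F)
          = (g : Matrix (Fin 2) (Fin 2) F) * (h : Matrix (Fin 2) (Fin 2) F) :=
        congrArg Subtype.val hhg
      rw [hab, Matrix.mul_add, Matrix.add_mul, Matrix.mul_smul, Matrix.smul_mul, Matrix.mul_smul,
        Matrix.smul_mul, Matrix.mul_one, Matrix.one_mul] at hv
      have hv' := add_left_cancel hv
      apply Subtype.ext
      exact smul_right_injective _ hb hv'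
    · intro hhz
      exact hTcomm h ((hmemT h).mpr hhz) g hg
  -- (5)
  have h5 : ∀ g : SL2, (∀ (c : F) (v : Fin 2 → F), v ≠ 0 →
      (g : Matrix (Fin 2) (Fin 2) F).mulVec v ≠ c • v) → ∃ h : SL2, h * g * h⁻¹ ∈ T' := by
    intro g hno
    obtain ⟨t, ht⟩ : ∃ t : F, t = (g : Matrix (Fin 2) (Fin 2) F).trace := ⟨_, rfl⟩
    have hgr : ∀ ρ : F, ρ ^ 2 - t * ρ + 1 ≠ 0 := by
      intro ρ hρ
      have hdet : ((-ρ) • (1 : Matrix (Fin 2) (Fin 2) F)
          + (1 : F) • (g : Matrix (Fin 2) (Fin 2) F)).det = 0 := by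
        rw [Cfsg.Agent.Lib_helper4_SL2Cyc.det_D, g.2, ← ht]
        linear_combination hρ
      obtain ⟨v, hv, hv0⟩ := Matrix.exists_mulVec_eq_zero_iff.mpr hdet
      apply hno ρ v hv
      rw [Matrix.add_mulVec, Matrix.smul_mulVec, Matrix.smul_mulVec, Matrix.one_mulVec, one_smul,
        neg_smul, neg_add_eq_zero] at hv0
      exact hv0.symm
    have hs1 := not_sq_of_nonsplit h2 t hgr
    have hs0 := not_sq_of_nonsplit h2 t₀ hnr
    obtain ⟨s, hs⟩ := prod_sq (t ^ 2 - 4) (t₀ ^ 2 - 4) hs1 hs0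
    have hd0 : t₀ ^ 2 - 4 ≠ 0 := sub_ne_zero.mpr (hnsq t₀ hnr)
    obtain ⟨b, hb⟩ : ∃ b : F, b * (t₀ ^ 2 - 4) = s := ⟨s / (t₀ ^ 2 - 4), by field_simp⟩
    obtain ⟨a, ha⟩ : ∃ a : F, 2 * a = t - b * t₀ := ⟨(t - b * t₀) / 2, by field_simp⟩
    have hb2 : b ^ 2 * (t₀ ^ 2 - 4) = t ^ 2 - 4 := by
      apply mul_right_cancel₀ hd0
      rw [hs, ← hb]; ring
    have hdet : (a • (1 : Matrix (Fin 2) (Fin 2) F)
        + b • (z : Matrix (Fin 2) (Fin 2) F)).det = 1 := by
      rw [Cfsg.Agent.Lib_helper4_SL2Cyc.det_D, z.2, hztr]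
      apply mul_left_cancel₀ h4
      linear_combination (2 * a + t + b * t₀) * ha - hb2
    let h₀ : SL2 := ⟨_, hdet⟩
    have hh₀T : h₀ ∈ T' := by
      rw [hmemT]
      apply Subtype.ext
      show (a • (1 : Matrix (Fin 2) (Fin 2) F) + b • (z : Matrix (Fin 2) (Fin 2) F))
          * (z : Matrix (Fin 2) (Fin 2) F)
        = (z : Matrix (Fin 2) (Fin 2) F)
          * (a • (1 : Matrix (Fin 2) (Fin 2) F) + b • (z : Matrix (Fin 2) (Fin 2) F))
      simp [Matrix.add_mul, Matrix.mul_add]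
    have hh₀tr : (h₀ : Matrix (Fin 2) (Fin 2) F).trace
        = (g : Matrix (Fin 2) (Fin 2) F).trace := by
      show (a • (1 : Matrix (Fin 2) (Fin 2) F) + b • (z : Matrix (Fin 2) (Fin 2) F)).trace = _
      rw [Matrix.trace_add, Matrix.trace_smul, Matrix.trace_smul, Matrix.trace_one,
        Fintype.card_fin, hztr, ← ht]
      simp only [smul_eq_mul]
      push_cast
      linear_combination ha
    obtain ⟨R, hR⟩ := Cfsg.Agent.S2455.sl_conj h2 g h₀ hh₀tr.symm (ht ▸ hnsq t hgr)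
    exact ⟨R, hR ▸ hh₀T⟩
  -- the normaliser
  have htrinv : ((z⁻¹ : SL2) : Matrix (Fin 2) (Fin 2) F).trace
      = (z : Matrix (Fin 2) (Fin 2) F).trace := by
    obtain ⟨a, b, c, d, hZ⟩ : ∃ a b c d : F, (z : Matrix (Fin 2) (Fin 2) F) = !![a, b; c, d] :=
      ⟨_, _, _, _, Matrix.eta_fin_two _⟩
    rw [Matrix.SpecialLinearGroup.coe_inv, hZ, Matrix.adjugate_fin_two_of,
      Matrix.trace_fin_two_of, Matrix.trace_fin_two_of]
    ring
  obtain ⟨R, hR⟩ := Cfsg.Agent.S2455.sl_conj h2 z z⁻¹ htrinv.symm ht4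
  have hRN : R ∈ Subgroup.normalizer (T' : Set SL2) := by
    apply Subgroup.mem_normalizer_fintype
    intro h hh
    rw [Cfsg.Agent.S2430.inv_of_conj z R h hzns hR ((hmemT h).mp hh)]
    exact inv_mem hh
  have hNz : ∀ g ∈ Subgroup.normalizer (T' : Set SL2), g ∉ T' → g * z * g⁻¹ = z⁻¹ := by
    intro g hg hgT
    have hbz : g * z * g⁻¹ ∈ T' := (Subgroup.mem_normalizer_iff.mp hg z).mp hzT
    rcases Cfsg.Agent.S2430.same_trace h2 z (g * z * g⁻¹) hzns ht4 ((hmemT _).mp hbz)
      (Cfsg.Agent.S2450.trace_conj g z) with h | h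
    · exfalso
      apply hgT
      rw [hmemT]
      calc g * z = g * z * g⁻¹ * g := by group
        _ = z * g := by rw [h]
    · exact h
  have hrel : T'.relIndex (Subgroup.normalizer (T' : Set SL2)) = 2 := by
    rw [Subgroup.relIndex_eq_two_iff]
    refine ⟨R, hRN, ?_⟩
    intro b hb
    by_cases hbT : b ∈ T'
    · right
      refine ⟨hbT, ?_⟩
      intro hbR
      have hRT : R ∈ T' := by
        have := T'.mul_mem (T'.inv_mem hbT) hbR
        simpa using this
      apply hzinv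
      rw [← hR]
      have := (hmemT R).mp hRT
      calc z = z * R * R⁻¹ := by group
        _ = R * z * R⁻¹ := by rw [← this]
    · left
      refine ⟨?_, hbT⟩
      rw [hmemT]
      have h' := hNz b hb hbT
      have h'' : b * z⁻¹ * b⁻¹ = z := by
        calc b * z⁻¹ * b⁻¹ = (b * z * b⁻¹)⁻¹ := by group
          _ = z := by rw [h', inv_inv]
      calc b * R * z = b * (R * z * R⁻¹) * b⁻¹ * (b * R) := by group
        _ = b * z⁻¹ * b⁻¹ * (b * R) := by rw [hR]
        _ = z * (b * R) := by rw [h'']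
  have hN : Nat.card (Subgroup.normalizer (T' : Set SL2)) = 2 * (Fintype.card F + 1) := by
    have hmul := Subgroup.relIndex_mul_relIndex ⊥ T' (Subgroup.normalizer (T' : Set SL2))
      bot_le hTN
    rw [Subgroup.relIndex_bot_left, Subgroup.relIndex_bot_left, hrel, hcard] at hmul
    rw [← hmul, mul_comm]
  -- conjugacy classes of the normaliser
  have hcl : Nat.card (ConjClasses (Subgroup.normalizer (T' : Set SL2)))
      = (Fintype.card F + 7) / 2 := by
    have key := Cfsg.Agent.Lib_helper8_InvIdx2.card_conjClasses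
      (N := ↥(Subgroup.normalizer (T' : Set SL2)))
      (T'.subgroupOf (Subgroup.normalizer (T' : Set SL2))) ?_ hrel ?_ ?_
    · rw [Nat.card_congr (Subgroup.subgroupOfEquivOfLe hTN).toEquiv, hcard] at key
      omega
    · intro a ha b hb
      rw [Subgroup.mem_subgroupOf] at ha hb
      exact Subtype.ext (hTcomm _ ha _ hb)
    · intro g hg h hh
      rw [Subgroup.mem_subgroupOf] at hg hh
      apply Subtype.ext
      show (g : SL2) * (h : SL2) * (g : SL2)⁻¹ = (h : SL2)⁻¹
      exact Cfsg.Agent.S2430.inv_of_conj z _ _ hzns (hNz g.1 g.2 hg) ((hmemT _).mp hh)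
    · rw [Nat.card_eq_two_iff]
      have hz1 : (⟨zeta, hTN hzetaT⟩ : ↥(Subgroup.normalizer (T' : Set SL2)))
          ∈ T'.subgroupOf (Subgroup.normalizer (T' : Set SL2)) :=
        Subgroup.mem_subgroupOf.mpr hzetaT
      have hz2 : (⟨zeta, hTN hzetaT⟩ : ↥(Subgroup.normalizer (T' : Set SL2)))
          * ⟨zeta, hTN hzetaT⟩ = 1 := Subtype.ext zeta_sq
      refine ⟨⟨1, Subgroup.one_mem _, one_mul 1⟩, ⟨_, hz1, hz2⟩, ?_, ?_⟩
      · intro h
        have h' := congrArg
          (fun w : {h : ↥(Subgroup.normalizer (T' : Set SL2)) //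
            h ∈ T'.subgroupOf (Subgroup.normalizer (T' : Set SL2)) ∧ h * h = 1} =>
              ((w.1 : ↥(Subgroup.normalizer (T' : Set SL2))) : SL2)) h
        exact zeta_ne_one h2 h'.symm
      · apply Set.eq_univ_of_forall
        rintro ⟨w, hw1, hw2⟩
        have hw3 : (w : SL2) * (w : SL2) = 1 := congrArg Subtype.val hw2
        rw [Set.mem_insert_iff, Set.mem_singleton_iff]
        rcases hsq1 _ hw3 with h | h
        · left; apply Subtype.ext; apply Subtype.ext; exact h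
        · right; apply Subtype.ext; apply Subtype.ext; exact h
  -- squares outside the torus
  have h8 : ∀ g : SL2, g ∈ Subgroup.normalizer (T' : Set SL2) → g ∉ T' →
      ((g * g : SL2) : Matrix (Fin 2) (Fin 2) F) = -1 := by
    intro g hg hgT
    have h' := hNz g hg hgT
    have h'' : g * z⁻¹ * g⁻¹ = z := by
      calc g * z⁻¹ * g⁻¹ = (g * z * g⁻¹)⁻¹ := by group
        _ = z := by rw [h', inv_inv]
    have hgg : (g * g) * z = z * (g * g) := by
      calc g * g * z = g * (g * z * g⁻¹) * g⁻¹ * (g * g) := by group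
        _ = g * z⁻¹ * g⁻¹ * (g * g) := by rw [h']
        _ = z * (g * g) := by rw [h'']
    have hinv := Cfsg.Agent.S2430.inv_of_conj z g (g * g) hzns h' hgg
    have h4' : (g * g) * (g * g) = 1 := by
      have e : g * (g * g) * g⁻¹ = g * g := by group
      rw [e] at hinv
      nth_rewrite 2 [hinv]
      exact mul_inv_cancel _
    rcases hsq1 _ h4' with h | h
    · exfalso
      rcases hsq1 g h with h1 | h1
      · exact hgT (h1 ▸ Subgroup.one_mem _)
      · exact hgT (h1 ▸ hzetaT)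
    · rw [h]; rfl
  exact ⟨T', hcyc, hcard, h3, h4c, h5, hN, hcl, h8⟩

end Aux

/-- Let F be a finite field with q elements, q odd. Then SL₂ over F contains a cyclic subgroup T′ of order q + 1 (a non-split torus) with the following properties: T′ is its own centraliser, and indeed the centraliser of each element of T′ other than 1 and −1 is exactly T′; every element of SL₂ having no eigenvector in F² is conjugate to an element of T′; the normaliser of T′ has order 2(q + 1) and exactly (q + 7)/2 conjugacy classes; and every element of that normaliser outside T′ has square −1. -/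
theorem result {F : Type*} [Field F] [Fintype F] (hodd : Odd (Fintype.card F)) :
    ∃ T' : Subgroup (Matrix.SpecialLinearGroup (Fin 2) F), IsCyclic T' ∧ Nat.card T' = Fintype.card F + 1 ∧
      Subgroup.centralizer ((T' : Set (Matrix.SpecialLinearGroup (Fin 2) F))) = T' ∧
      (∀ g : Matrix.SpecialLinearGroup (Fin 2) F, g ∈ T' → (g : Matrix (Fin 2) (Fin 2) F) ≠ 1 → (g : Matrix (Fin 2) (Fin 2) F) ≠ -1 → Subgroup.centralizer ({g} : Set (Matrix.SpecialLinearGroup (Fin 2) F)) = T') ∧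
      (∀ g : Matrix.SpecialLinearGroup (Fin 2) F, (∀ (c : F) (v : Fin 2 → F), v ≠ 0 → (g : Matrix (Fin 2) (Fin 2) F).mulVec v ≠ c • v) → ∃ h : Matrix.SpecialLinearGroup (Fin 2) F, h * g * h⁻¹ ∈ T') ∧
      Nat.card (Subgroup.normalizer (T' : Set (Matrix.SpecialLinearGroup (Fin 2) F))) = 2 * (Fintype.card F + 1) ∧
      Nat.card (ConjClasses (Subgroup.normalizer (T' : Set (Matrix.SpecialLinearGroup (Fin 2) F)))) = (Fintype.card F + 7) / 2 ∧
      ∀ g : Matrix.SpecialLinearGroup (Fin 2) F, g ∈ Subgroup.normalizer (T' : Set (Matrix.SpecialLinearGroup (Fin 2) F)) → g ∉ T' → ((g * g) : Matrix (Fin 2) (Fin 2) F) = -1 := by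
  exact main hodd

end Cfsg.Agent.S2429
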