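import Cfsg.Statements.S2431
import Mathlib
import Cfsg.Agent.Lib_helper8_GL2
import Cfsg.Agent.Lib_helper4_SL2Cyc
import Cfsg.Agent.Lib_helper4_SL2Quat
import Cfsg.Agent.S2507
import Cfsg.Agent.S2430

set_option autoImplicit false
open Cfsg

namespace Cfsg.Agent.S2431

section Aux
open Matrix

variable {F : Type*} [Field F] [Fintype F]

local notation "SL2" => SpecialLinearGroup (Fin 2) F
local notation "NS" => Cfsg.Agent.Lib_helper8_GL2.NonScalar
local notation "negOne" => Cfsg.Agent.Lib_helper4_SL2Quat.negOne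

omit [Fintype F] in
theorem frame (S : Subgroup SL2) (n : ℕ) [NeZero n] (e : S ≃* QuaternionGroup n) :
    ∃ x y : SL2, x ∈ S ∧ y ∈ S ∧
      (∀ s ∈ S, (∃ i : ℕ, s = x ^ i) ∨ (∃ i : ℕ, s = y * x ^ i)) ∧
      y * x * y⁻¹ = x⁻¹ ∧ orderOf x = 2 * n ∧ (∀ i : ℕ, orderOf (y * x ^ i) = 4) ∧
      Nat.card S = 4 * n := by
  refine ⟨(e.symm (QuaternionGroup.a 1) : S), (e.symm (QuaternionGroup.xa 0) : S),
    (e.symm _).2, (e.symm _).2, ?_, ?_, ?_, ?_, ?_⟩
  · intro s hs
    rcases h : e ⟨s, hs⟩ with i | i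
    · left
      refine ⟨i.val, ?_⟩
      have h1 : (QuaternionGroup.a i : QuaternionGroup n) = QuaternionGroup.a 1 ^ i.val := by
        rw [QuaternionGroup.a_one_pow, ZMod.natCast_zmod_val]
      have h2 : (⟨s, hs⟩ : S) = e.symm (QuaternionGroup.a 1) ^ i.val := by
        rw [← map_pow, ← h1, ← h, e.symm_apply_apply]
      have h3 := congrArg Subtype.val h2
      simpa using h3
    · right
      refine ⟨i.val, ?_⟩
      have h1 : (QuaternionGroup.xa i : QuaternionGroup n) =
          QuaternionGroup.xa 0 * QuaternionGroup.a 1 ^ i.val := by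
        rw [QuaternionGroup.a_one_pow, ZMod.natCast_zmod_val, QuaternionGroup.xa_mul_a, zero_add]
      have h2 : (⟨s, hs⟩ : S) =
          e.symm (QuaternionGroup.xa 0) * e.symm (QuaternionGroup.a 1) ^ i.val := by
        rw [← map_pow, ← map_mul, ← h1, ← h, e.symm_apply_apply]
      have h3 := congrArg Subtype.val h2
      simpa using h3
  · apply Cfsg.Agent.Lib_helper4_SL2Quat.conj_of_mul
    have h1 : (QuaternionGroup.a 1 : QuaternionGroup n) * QuaternionGroup.xa 0 * QuaternionGroup.a 1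
        = QuaternionGroup.xa 0 := by
      rw [QuaternionGroup.a_mul_xa, QuaternionGroup.xa_mul_a]
      congr 1
      ring
    have h2 : e.symm (QuaternionGroup.a 1) * e.symm (QuaternionGroup.xa 0) *
        e.symm (QuaternionGroup.a 1) = e.symm (QuaternionGroup.xa 0) := by
      rw [← map_mul, ← map_mul, h1]
    exact congrArg Subtype.val h2
  · rw [Subgroup.orderOf_coe, MulEquiv.orderOf_eq, QuaternionGroup.orderOf_a_one]
  · intro i
    have h1 : ((e.symm (QuaternionGroup.xa 0) : S) : SL2) *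
        ((e.symm (QuaternionGroup.a 1) : S) : SL2) ^ i =
        ((e.symm (QuaternionGroup.xa 0 * QuaternionGroup.a 1 ^ i) : S) : SL2) := by
      rw [map_mul, map_pow]
      rfl
    rw [h1, Subgroup.orderOf_coe, MulEquiv.orderOf_eq, QuaternionGroup.a_one_pow,
      QuaternionGroup.xa_mul_a, QuaternionGroup.orderOf_xa]
  · rw [Nat.card_congr e.toEquiv, Nat.card_eq_fintype_card, QuaternionGroup.card]

omit [Fintype F] in
theorem not_comm (n : ℕ) (hn : 2 ≤ n) (x y : SL2) (hyx : y * x * y⁻¹ = x⁻¹)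
    (hord : orderOf x = 2 * n) : x * y ≠ y * x := by
  intro h
  have h1 : y * x * y⁻¹ = x := by rw [← h]; group
  have h3 : x * x = 1 := by
    have : x⁻¹ = x := by rw [← hyx, h1]
    calc x * x = x⁻¹ * x := by rw [this]
      _ = 1 := inv_mul_cancel x
  have h4 : orderOf x ∣ 2 := orderOf_dvd_of_pow_eq_one (by rw [pow_two]; exact h3)
  rw [hord] at h4
  have := Nat.le_of_dvd (by norm_num) h4
  omega

omit [Fintype F] in
theorem x_ns (x y : SL2) (hnc : x * y ≠ y * x) : NS (x : Matrix (Fin 2) (Fin 2) F) := by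
  rw [Cfsg.Agent.Lib_helper8_GL2.nonScalar_iff]
  rintro ⟨c, hc⟩
  apply hnc
  apply Subtype.ext
  show (x : Matrix (Fin 2) (Fin 2) F) * (y : Matrix (Fin 2) (Fin 2) F) =
    (y : Matrix (Fin 2) (Fin 2) F) * (x : Matrix (Fin 2) (Fin 2) F)
  rw [hc]
  simp

omit [Fintype F] in
theorem cent_eq (S : Subgroup SL2) (x y : SL2) (hx : x ∈ S) (hy : y ∈ S) (hnc : x * y ≠ y * x) :
    Subgroup.centralizer (S : Set SL2) = Subgroup.center SL2 := by
  apply le_antisymm
  · intro g hg
    have hgx : x * g = g * x := hg x hx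
    have hgy : y * g = g * y := hg y hy
    obtain ⟨a, b, hab⟩ := Cfsg.Agent.S2507.commutant _ _ (x_ns x y hnc)
      (congrArg Subtype.val hgx.symm)
    have hb : b = 0 := by
      by_contra hb
      apply hnc
      apply Subtype.ext
      have h1 : (y : Matrix (Fin 2) (Fin 2) F) * (g : Matrix (Fin 2) (Fin 2) F) =
          (g : Matrix (Fin 2) (Fin 2) F) * (y : Matrix (Fin 2) (Fin 2) F) :=
        congrArg Subtype.val hgy
      rw [hab] at h1
      simp only [Matrix.mul_add, Matrix.add_mul, Matrix.mul_smul, Matrix.smul_mul, mul_one,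
        one_mul] at h1
      have h3 := add_left_cancel h1
      exact ((smul_right_inj hb).mp h3).symm
    rw [hb, zero_smul, add_zero] at hab
    rw [Subgroup.mem_center_iff]
    intro w
    apply Subtype.ext
    show (w : Matrix (Fin 2) (Fin 2) F) * (g : Matrix (Fin 2) (Fin 2) F) =
      (g : Matrix (Fin 2) (Fin 2) F) * (w : Matrix (Fin 2) (Fin 2) F)
    rw [hab]
    simp
  · exact Subgroup.center_le_centralizer _

theorem x_tr (h2 : (2 : F) ≠ 0) (hodd : Odd (Fintype.card F)) (n : ℕ) (hn : 2 ∣ n) (x : SL2)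
    (hxns : NS (x : Matrix (Fin 2) (Fin 2) F)) (hord : orderOf x = 2 * n) :
    (x : Matrix (Fin 2) (Fin 2) F).trace ^ 2 ≠ 4 := by
  have hmem : x ∈ Subgroup.centralizer ({x} : Set SL2) := by
    rw [Subgroup.mem_centralizer_singleton_iff]
  have h1 : orderOf (⟨x, hmem⟩ : Subgroup.centralizer ({x} : Set SL2)) ∣
      Nat.card (Subgroup.centralizer ({x} : Set SL2)) := orderOf_dvd_natCard _
  rw [Subgroup.orderOf_mk, hord] at h1
  have h4 : 4 ∣ Nat.card (Subgroup.centralizer ({x} : Set SL2)) := by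
    obtain ⟨j, rfl⟩ := hn
    exact Dvd.dvd.trans ⟨j, by ring⟩ h1
  have hq : ¬ 4 ∣ 2 * Fintype.card F := by
    obtain ⟨j, hj⟩ := hodd
    omega
  exact (Cfsg.Agent.S2430.tri h2 x hxns 4 hq h4).1

omit [Fintype F] in
theorem sq_mem (S : Subgroup SL2) (x y h : SL2) (hy : y ∈ S)
    (hxns : NS (x : Matrix (Fin 2) (Fin 2) F)) (hyx : y * x * y⁻¹ = x⁻¹)
    (hh : h ∈ Subgroup.normalizer (S : Set SL2)) (hc : h * x = x * h) : h * h ∈ S := by
  have h1 := Cfsg.Agent.S2430.inv_of_conj x y h hxns hyx hc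
  have h2 : h * y * h⁻¹ ∈ S := (Subgroup.mem_normalizer_iff.mp hh y).mp hy
  have h3 : h * h = (h * y * h⁻¹) * y⁻¹ := by
    calc h * h = h * (y * h * y⁻¹)⁻¹ := by rw [h1, inv_inv]
      _ = h * y * h⁻¹ * y⁻¹ := by group
  rw [h3]
  exact S.mul_mem h2 (S.inv_mem hy)

omit [Fintype F] in
theorem odd_triv (S : Subgroup SL2) (n : ℕ) (hn2 : ∃ k, 4 * n = 2 ^ k)
    (x y h : SL2) (hy : y ∈ S) (hxns : NS (x : Matrix (Fin 2) (Fin 2) F))
    (hyx : y * x * y⁻¹ = x⁻¹) (hcard : Nat.card S = 4 * n)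
    (hh : h ∈ Subgroup.normalizer (S : Set SL2)) (hodd : Odd (orderOf h))
    (hconj : h * x * h⁻¹ = x ∨ h * x * h⁻¹ = x⁻¹) : h = 1 := by
  have hc : h * x = x * h := by
    rcases hconj with h1 | h1
    · calc h * x = h * x * h⁻¹ * h := by group
        _ = x * h := by rw [h1]
    · have h2c : (h * h) * x = x * (h * h) := by
        have e1 : h * x = x⁻¹ * h := by
          calc h * x = h * x * h⁻¹ * h := by group
            _ = x⁻¹ * h := by rw [h1]
        have e2 : h * x⁻¹ = x * h := by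
          have : h * x⁻¹ * h⁻¹ = x := by
            calc h * x⁻¹ * h⁻¹ = (h * x * h⁻¹)⁻¹ := by group
              _ = x := by rw [h1, inv_inv]
          calc h * x⁻¹ = h * x⁻¹ * h⁻¹ * h := by group
            _ = x * h := by rw [this]
        calc h * h * x = h * (h * x) := by group
          _ = h * (x⁻¹ * h) := by rw [e1]
          _ = (h * x⁻¹) * h := by group
          _ = x * h * h := by rw [e2]
          _ = x * (h * h) := by group
      obtain ⟨j, hj⟩ := hodd
      have e3 : h = (h * h) ^ (j + 1) := by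
        rw [← pow_two, ← pow_mul]
        have : 2 * (j + 1) = orderOf h + 1 := by omega
        rw [this, pow_succ, pow_orderOf_eq_one, one_mul]
      have hcomm : Commute (h * h) x := h2c
      have h5 := hcomm.pow_left (j + 1)
      rw [← e3] at h5
      exact h5
  have hsq := sq_mem S x y h hy hxns hyx hh hc
  have h5 : (h * h) ^ (4 * n) = 1 := by
    have e := pow_card_eq_one' (G := S) (x := ⟨h * h, hsq⟩)
    have e' := congrArg Subtype.val e
    rw [hcard] at e'
    simpa using e'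
  have h6 : (h * h) ^ (orderOf h) = 1 := by
    rw [← pow_two, ← pow_mul, mul_comm, pow_mul, pow_orderOf_eq_one, one_pow]
  have h7 : orderOf (h * h) ∣ Nat.gcd (4 * n) (orderOf h) :=
    Nat.dvd_gcd (orderOf_dvd_of_pow_eq_one h5) (orderOf_dvd_of_pow_eq_one h6)
  have h8 : Nat.gcd (4 * n) (orderOf h) = 1 := by
    obtain ⟨k, hk⟩ := hn2
    rw [hk]
    exact Nat.Coprime.pow_left k (Nat.coprime_two_left.mpr hodd)
  rw [h8, Nat.dvd_one, orderOf_eq_one_iff] at h7
  have h9 : orderOf h ∣ 2 := orderOf_dvd_of_pow_eq_one (by rw [pow_two]; exact h7)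
  have h10 : orderOf h = 1 := by
    have := Nat.le_of_dvd (by norm_num) h9
    obtain ⟨j, hj⟩ := hodd
    omega
  exact orderOf_eq_one_iff.mp h10

omit [Fintype F] in
theorem trace_conj' (g x : SL2) :
    ((g * x * g⁻¹ : SL2) : Matrix (Fin 2) (Fin 2) F).trace =
      (x : Matrix (Fin 2) (Fin 2) F).trace := by
  show ((g : Matrix (Fin 2) (Fin 2) F) * (x : Matrix (Fin 2) (Fin 2) F) *
    ((g⁻¹ : SL2) : Matrix (Fin 2) (Fin 2) F)).trace = _
  rw [Matrix.trace_mul_comm, ← Matrix.mul_assoc]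
  have : ((g⁻¹ : SL2) : Matrix (Fin 2) (Fin 2) F) * (g : Matrix (Fin 2) (Fin 2) F) = 1 :=
    congrArg Subtype.val (inv_mul_cancel g)
  rw [this, one_mul]

theorem norm_eq (h2 : (2 : F) ≠ 0) (hodd : Odd (Fintype.card F)) (S : Sylow 2 SL2) (k : ℕ)
    (hk : 2 ≤ k) (x y : SL2) (hx : x ∈ (S : Subgroup SL2)) (hy : y ∈ (S : Subgroup SL2))
    (hS : ∀ s ∈ (S : Subgroup SL2), (∃ i : ℕ, s = x ^ i) ∨ (∃ i : ℕ, s = y * x ^ i))
    (hyx : y * x * y⁻¹ = x⁻¹) (hord : orderOf x = 2 * 2 ^ k)
    (hy4 : ∀ i : ℕ, orderOf (y * x ^ i) = 4)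
    (hcard : Nat.card (S : Subgroup SL2) = 4 * 2 ^ k) :
    Subgroup.normalizer ((S : Subgroup SL2) : Set SL2) = (S : Subgroup SL2) := by
  have h4k : 4 ≤ 2 ^ k := by
    calc 4 = 2 ^ 2 := by norm_num
      _ ≤ 2 ^ k := Nat.pow_le_pow_right (by norm_num) hk
  have hnc := not_comm (2 ^ k) (by omega) x y hyx hord
  have hxns := x_ns x y hnc
  have hev : 2 ∣ 2 ^ k := dvd_pow_self 2 (by omega)
  have ht4 := x_tr h2 hodd (2 ^ k) hev x hxns hord
  have hconj : ∀ g ∈ Subgroup.normalizer ((S : Subgroup SL2) : Set SL2),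
      g * x * g⁻¹ = x ∨ g * x * g⁻¹ = x⁻¹ := by
    intro g hg
    have hw : g * x * g⁻¹ ∈ (S : Subgroup SL2) := (Subgroup.mem_normalizer_iff.mp hg x).mp hx
    have hwo : orderOf (g * x * g⁻¹) = 2 * 2 ^ k := by
      have := MulEquiv.orderOf_eq (MulAut.conj g) x
      rw [MulAut.conj_apply] at this
      rw [this, hord]
    rcases hS _ hw with ⟨i, hi⟩ | ⟨i, hi⟩
    · have hc : g * x * g⁻¹ * x = x * (g * x * g⁻¹) := by
        rw [hi, ← pow_succ, ← pow_succ']
      exact Cfsg.Agent.S2430.same_trace h2 x _ hxns ht4 hc (trace_conj' g x)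
    · exfalso
      have h5 := hy4 i
      rw [← hi, hwo] at h5
      omega
  have hp : IsPGroup 2 (Subgroup.normalizer ((S : Subgroup SL2) : Set SL2)) := by
    rintro ⟨g, hg⟩
    have ho : orderOf g ≠ 0 := (orderOf_pos g).ne'
    obtain ⟨a, m, hm, ham⟩ := Nat.exists_eq_two_pow_mul_odd ho
    refine ⟨a, ?_⟩
    apply Subtype.ext
    show g ^ 2 ^ a = 1
    have hmem : g ^ 2 ^ a ∈ Subgroup.normalizer ((S : Subgroup SL2) : Set SL2) :=
      Subgroup.pow_mem _ hg _
    have hord' : Odd (orderOf (g ^ 2 ^ a)) := by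
      have h1 : (g ^ 2 ^ a) ^ m = 1 := by rw [← pow_mul, ← ham, pow_orderOf_eq_one]
      exact Odd.of_dvd_nat hm (orderOf_dvd_of_pow_eq_one h1)
    exact odd_triv (S : Subgroup SL2) (2 ^ k) ⟨k + 2, by ring⟩ x y _ hy hxns hyx hcard hmem
      hord' (hconj _ hmem)
  exact S.is_maximal' hp Subgroup.le_normalizer

omit [Fintype F] in
theorem sq_negOne (h2 : (2 : F) ≠ 0) (g : SL2) (h4 : orderOf g = 4) : g * g = negOne := by
  apply Cfsg.Agent.Lib_helper4_SL2Quat.eq_negOne_of_sq h2
  · calc g * g * (g * g) = g ^ 2 * g ^ 2 := by rw [pow_two]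
      _ = g ^ 4 := by rw [← pow_add]
      _ = 1 := by rw [← h4]; exact pow_orderOf_eq_one g
  · intro h
    have : orderOf g ∣ 2 := orderOf_dvd_of_pow_eq_one (by rw [pow_two]; exact h)
    rw [h4] at this
    norm_num at this

omit [Fintype F] in
theorem val_sq (g : SL2) (h : g * g = negOne) :
    (g : Matrix (Fin 2) (Fin 2) F) * (g : Matrix (Fin 2) (Fin 2) F) = -1 := by
  have h1 : ((g * g : SL2) : Matrix (Fin 2) (Fin 2) F) =
      ((negOne : SL2) : Matrix (Fin 2) (Fin 2) F) := congrArg Subtype.val h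
  have h2 : ((g * g : SL2) : Matrix (Fin 2) (Fin 2) F) =
      (g : Matrix (Fin 2) (Fin 2) F) * (g : Matrix (Fin 2) (Fin 2) F) := rfl
  rw [← h2, h1]
  ext i j
  fin_cases i <;> fin_cases j <;> simp [Cfsg.Agent.Lib_helper4_SL2Quat.negOne]

omit [Fintype F] in
theorem tr_zero (x : SL2)
    (hxx : (x : Matrix (Fin 2) (Fin 2) F) * (x : Matrix (Fin 2) (Fin 2) F) = -1) :
    (x : Matrix (Fin 2) (Fin 2) F).trace = 0 := by
  have hd := Cfsg.Agent.Lib_helper4_SL2Quat.det_eq x
  have e00 := congrFun (congrFun hxx 0) 0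
  have e11 := congrFun (congrFun hxx 1) 1
  simp [Matrix.mul_apply, Fin.sum_univ_two] at e00 e11
  rw [Matrix.trace_fin_two]
  have h : ((x : Matrix (Fin 2) (Fin 2) F) 0 0 + (x : Matrix (Fin 2) (Fin 2) F) 1 1) ^ 2 = 0 := by
    linear_combination e00 + e11 + 2 * hd
  exact pow_eq_zero_iff (by norm_num) |>.mp h

omit [Fintype F] in
theorem lin2 (X : Matrix (Fin 2) (Fin 2) F) (hX : NS X) (c d : F)
    (h : c • (1 : Matrix (Fin 2) (Fin 2) F) + d • X = 0) : c = 0 ∧ d = 0 := by
  have e00 : c + d * X 0 0 = 0 := by simpa using congrFun (congrFun h 0) 0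
  have e01 : d * X 0 1 = 0 := by simpa using congrFun (congrFun h 0) 1
  have e10 : d * X 1 0 = 0 := by simpa using congrFun (congrFun h 1) 0
  have e11 : c + d * X 1 1 = 0 := by simpa using congrFun (congrFun h 1) 1
  have hd : d = 0 := by
    rcases hX with h1 | h1 | h1
    · exact (mul_eq_zero.mp e10).resolve_right h1
    · exact (mul_eq_zero.mp e01).resolve_right h1
    · have : d * (X 0 0 - X 1 1) = 0 := by linear_combination e00 - e11
      exact (mul_eq_zero.mp this).resolve_right (sub_ne_zero.mpr h1)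
  refine ⟨?_, hd⟩
  rw [hd] at e00
  linear_combination e00

omit [Fintype F] in
theorem D_sub (h2 : (2 : F) ≠ 0) (hns2 : ¬ IsSquare (2 : F)) (S : Subgroup SL2) (x y t : SL2)
    (hy : y ∈ S)
    (hS : ∀ s ∈ S, (∃ i : ℕ, s = x ^ i) ∨ (∃ i : ℕ, s = y * x ^ i))
    (hyx : y * x * y⁻¹ = x⁻¹) (hord : orderOf x = 4) (hnc : x * y ≠ y * x)
    (ht : t ∈ Subgroup.normalizer (S : Set SL2)) (hc : t * x = x * t) :
    t = 1 ∨ t = negOne ∨ t = x ∨ t = x⁻¹ := by
  have hxns := x_ns x y hnc
  have hsq := sq_mem S x y t hy hxns hyx ht hc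
  have hxx := sq_negOne h2 x hord
  have hXX := val_sq x hxx
  have htr := tr_zero x hXX
  obtain ⟨a, b, hab⟩ := Cfsg.Agent.S2507.commutant (x : Matrix (Fin 2) (Fin 2) F)
    (t : Matrix (Fin 2) (Fin 2) F) hxns (congrArg Subtype.val hc)
  have hdet : a ^ 2 + b ^ 2 = 1 := by
    have h1 := t.2
    rw [hab, Cfsg.Agent.Lib_helper4_SL2Cyc.det_D, htr, x.2] at h1
    linear_combination h1
  have htt : ((t * t : SL2) : Matrix (Fin 2) (Fin 2) F) =
      (a ^ 2 - b ^ 2) • (1 : Matrix (Fin 2) (Fin 2) F) +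
        (2 * a * b) • (x : Matrix (Fin 2) (Fin 2) F) := by
    show (t : Matrix (Fin 2) (Fin 2) F) * (t : Matrix (Fin 2) (Fin 2) F) = _
    rw [hab]
    simp only [Matrix.mul_add, Matrix.add_mul, Matrix.mul_smul, Matrix.smul_mul, mul_one,
      one_mul, hXX]
    module
  rcases hS _ hsq with ⟨i, hi⟩ | ⟨i, hi⟩
  · have hi' : t * t = x ^ (i % 4) := by rw [hi, ← hord, pow_mod_orderOf]
    have hlt : i % 4 < 4 := Nat.mod_lt _ (by norm_num)
    rcases (by omega : i % 4 = 0 ∨ i % 4 = 1 ∨ i % 4 = 2 ∨ i % 4 = 3) with h0 | h0 | h0 | h0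
    · rw [h0, pow_zero] at hi'
      by_cases h1 : t = 1
      · left; exact h1
      · right; left
        exact Cfsg.Agent.Lib_helper4_SL2Quat.eq_negOne_of_sq h2 t hi' h1
    · exfalso
      rw [h0, pow_one] at hi'
      have e : (a ^ 2 - b ^ 2) • (1 : Matrix (Fin 2) (Fin 2) F) +
          (2 * a * b - 1) • (x : Matrix (Fin 2) (Fin 2) F) = 0 := by
        have := htt
        rw [hi'] at this
        calc (a ^ 2 - b ^ 2) • (1 : Matrix (Fin 2) (Fin 2) F) +
            (2 * a * b - 1) • (x : Matrix (Fin 2) (Fin 2) F)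
            = ((a ^ 2 - b ^ 2) • (1 : Matrix (Fin 2) (Fin 2) F) +
              (2 * a * b) • (x : Matrix (Fin 2) (Fin 2) F)) - (x : Matrix (Fin 2) (Fin 2) F) := by
              module
          _ = (x : Matrix (Fin 2) (Fin 2) F) - (x : Matrix (Fin 2) (Fin 2) F) := by rw [← this]
          _ = 0 := sub_self _
      obtain ⟨e1, e2⟩ := lin2 _ hxns _ _ e
      apply hns2
      exact ⟨2 * a, by linear_combination (-2 : F) * hdet - 2 * e1⟩
    · rw [h0] at hi'
      have hx2 : x ^ 2 = negOne := by rw [pow_two]; exact hxx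
      rw [hx2] at hi'
      have hval : ((t * t : SL2) : Matrix (Fin 2) (Fin 2) F) = -1 := by
        rw [hi', ← hxx]; exact hXX
      have e : (a ^ 2 - b ^ 2 + 1) • (1 : Matrix (Fin 2) (Fin 2) F) +
          (2 * a * b) • (x : Matrix (Fin 2) (Fin 2) F) = 0 := by
        rw [htt] at hval
        calc (a ^ 2 - b ^ 2 + 1) • (1 : Matrix (Fin 2) (Fin 2) F) +
            (2 * a * b) • (x : Matrix (Fin 2) (Fin 2) F)
            = ((a ^ 2 - b ^ 2) • (1 : Matrix (Fin 2) (Fin 2) F) +
              (2 * a * b) • (x : Matrix (Fin 2) (Fin 2) F)) + 1 := by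
              module
          _ = -1 + 1 := by rw [hval]
          _ = 0 := neg_add_cancel _
      obtain ⟨e1, e2⟩ := lin2 _ hxns _ _ e
      have ha : a = 0 := by
        have : a ^ 2 = 0 := by
          have h3 : (2 : F) * a ^ 2 = 0 := by linear_combination e1 + hdet
          exact (mul_eq_zero.mp h3).resolve_left h2
        exact pow_eq_zero_iff (by norm_num) |>.mp this
      have hb : (b - 1) * (b + 1) = 0 := by rw [ha] at hdet; linear_combination hdet
      rw [ha, zero_smul, zero_add] at hab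
      rcases mul_eq_zero.mp hb with hb1 | hb1
      · right; right; left
        apply Subtype.ext
        rw [hab, show b = 1 by linear_combination hb1, one_smul]
      · right; right; right
        apply eq_inv_of_mul_eq_one_left
        apply Subtype.ext
        show (t : Matrix (Fin 2) (Fin 2) F) * (x : Matrix (Fin 2) (Fin 2) F) = 1
        rw [hab, show b = -1 by linear_combination hb1, Matrix.smul_mul, hXX]
        simp
    · exfalso
      rw [h0] at hi'
      have hx3 : ((x ^ 3 : SL2) : Matrix (Fin 2) (Fin 2) F) = -(x : Matrix (Fin 2) (Fin 2) F) := by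
        have : x ^ 3 = x * x * x := by rw [pow_succ, pow_two]
        rw [this]
        show (x : Matrix (Fin 2) (Fin 2) F) * (x : Matrix (Fin 2) (Fin 2) F) *
          (x : Matrix (Fin 2) (Fin 2) F) = _
        rw [hXX]
        simp
      have e : (a ^ 2 - b ^ 2) • (1 : Matrix (Fin 2) (Fin 2) F) +
          (2 * a * b + 1) • (x : Matrix (Fin 2) (Fin 2) F) = 0 := by
        have := htt
        rw [hi', hx3] at this
        calc (a ^ 2 - b ^ 2) • (1 : Matrix (Fin 2) (Fin 2) F) +
            (2 * a * b + 1) • (x : Matrix (Fin 2) (Fin 2) F)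
            = ((a ^ 2 - b ^ 2) • (1 : Matrix (Fin 2) (Fin 2) F) +
              (2 * a * b) • (x : Matrix (Fin 2) (Fin 2) F)) + (x : Matrix (Fin 2) (Fin 2) F) := by
              module
          _ = -(x : Matrix (Fin 2) (Fin 2) F) + (x : Matrix (Fin 2) (Fin 2) F) := by rw [← this]
          _ = 0 := neg_add_cancel _
      obtain ⟨e1, e2⟩ := lin2 _ hxns _ _ e
      apply hns2
      exact ⟨2 * a, by linear_combination (-2 : F) * hdet - 2 * e1⟩
  · exfalso
    have hcc : (t * t) * x = x * (t * t) := by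
      calc t * t * x = t * (t * x) := by group
        _ = t * (x * t) := by rw [hc]
        _ = (t * x) * t := by group
        _ = x * t * t := by rw [hc]
        _ = x * (t * t) := by group
    rw [hi] at hcc
    have h5 : y * x = x * y := by
      have e : y * x * x ^ i = x * y * x ^ i := by
        calc y * x * x ^ i = y * x ^ i * x := by
              rw [mul_assoc, mul_assoc, ← pow_succ', ← pow_succ]
          _ = x * (y * x ^ i) := hcc
          _ = x * y * x ^ i := by group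
      exact mul_right_cancel e
    exact hnc h5.symm

theorem card_le (h2 : (2 : F) ≠ 0) (hns2 : ¬ IsSquare (2 : F)) (S : Subgroup SL2) (x y : SL2)
    (hx : x ∈ S) (hy : y ∈ S)
    (hS : ∀ s ∈ S, (∃ i : ℕ, s = x ^ i) ∨ (∃ i : ℕ, s = y * x ^ i))
    (hyx : y * x * y⁻¹ = x⁻¹) (hord : orderOf x = 4) (hcard : Nat.card S = 8)
    (hnc : x * y ≠ y * x) :
    Nat.card (Subgroup.normalizer (S : Set SL2)) ≤ 24 := by
  classical
  haveI : Fintype SL2 := Fintype.ofFinite _
  haveI : Fintype (Subgroup.normalizer (S : Set SL2)) := Fintype.ofFinite _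
  have hxx := sq_negOne h2 x hord
  have hx1 : x ≠ 1 := by
    intro h
    rw [h, orderOf_one] at hord
    norm_num at hord
  have hneg1 : (negOne : SL2) ≠ 1 := by
    intro h
    rw [h] at hxx
    have : orderOf x ∣ 2 := orderOf_dvd_of_pow_eq_one (by rw [pow_two]; exact hxx)
    rw [hord] at this
    norm_num at this
  let φ : Subgroup.normalizer (S : Set SL2) → SL2 := fun g => (g : SL2) * x * (g : SL2)⁻¹
  have h1 := Finset.card_le_mul_card_image (f := φ)
    (Finset.univ : Finset (Subgroup.normalizer (S : Set SL2))) 4 ?_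
  · have himg : (Finset.univ.image φ).card ≤ 6 := by
      let Sfin : Finset SL2 := Finset.univ.filter (· ∈ S)
      have hSfin : Sfin.card = 8 := by
        rw [← hcard, Nat.card_eq_fintype_card, Fintype.card_subtype]
      have hsub : Finset.univ.image φ ⊆ (Sfin.erase 1).erase negOne := by
        intro w hw
        obtain ⟨g, -, rfl⟩ := Finset.mem_image.mp hw
        have hwS : (g : SL2) * x * (g : SL2)⁻¹ ∈ S :=
          (Subgroup.mem_normalizer_iff.mp g.2 x).mp hx
        rw [Finset.mem_erase, Finset.mem_erase]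
        refine ⟨?_, ?_, Finset.mem_filter.mpr ⟨Finset.mem_univ _, hwS⟩⟩
        · intro h
          have h3 : orderOf ((g : SL2) * x * (g : SL2)⁻¹) = 4 := by
            have := MulEquiv.orderOf_eq (MulAut.conj (g : SL2)) x
            rw [MulAut.conj_apply] at this
            rw [this, hord]
          have h4 : φ g = negOne := h
          have h5 : (g : SL2) * x * (g : SL2)⁻¹ = x * x := by rw [hxx]; exact h4
          rw [h5] at h3
          have h6 : (x * x) ^ 2 = 1 := by
            rw [pow_two]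
            calc x * x * (x * x) = x ^ 2 * x ^ 2 := by rw [pow_two]
              _ = x ^ 4 := by rw [← pow_add]
              _ = 1 := by rw [← hord]; exact pow_orderOf_eq_one x
          have h7 := orderOf_dvd_of_pow_eq_one h6
          rw [h3] at h7
          norm_num at h7
        · intro h
          apply hx1
          have h3 : (g : SL2) * x * (g : SL2)⁻¹ = 1 := h
          calc x = (g : SL2)⁻¹ * ((g : SL2) * x * (g : SL2)⁻¹) * (g : SL2) := by group
            _ = 1 := by rw [h3]; group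
      calc (Finset.univ.image φ).card ≤ ((Sfin.erase 1).erase negOne).card :=
            Finset.card_le_card hsub
        _ ≤ 6 := by
          rw [Finset.card_erase_of_mem, Finset.card_erase_of_mem, hSfin]
          · exact Finset.mem_filter.mpr ⟨Finset.mem_univ _, S.one_mem⟩
          · rw [Finset.mem_erase]
            refine ⟨hneg1, Finset.mem_filter.mpr ⟨Finset.mem_univ _, ?_⟩⟩
            rw [← hxx]
            exact S.mul_mem hx hx
    rw [Nat.card_eq_fintype_card, ← Finset.card_univ]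
    calc _ ≤ 4 * (Finset.univ.image φ).card := h1
      _ ≤ 4 * 6 := Nat.mul_le_mul_left _ himg
  · intro b hb
    obtain ⟨g₀, -, rfl⟩ := Finset.mem_image.mp hb
    have h5 : (Finset.univ.filter fun g : Subgroup.normalizer (S : Set SL2) => φ g = φ g₀).card ≤
        ({1, negOne, x, x⁻¹} : Finset SL2).card := by
      apply Finset.card_le_card_of_injOn (fun g : Subgroup.normalizer (S : Set SL2) =>
        (g₀ : SL2)⁻¹ * (g : SL2))
      · intro g hg
        have hg' := Finset.mem_filter.mp (Finset.mem_coe.mp hg)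
        have hφ : (g : SL2) * x * (g : SL2)⁻¹ = (g₀ : SL2) * x * (g₀ : SL2)⁻¹ := hg'.2
        have hmem : (g₀ : SL2)⁻¹ * (g : SL2) ∈ Subgroup.normalizer (S : Set SL2) :=
          Subgroup.mul_mem _ (Subgroup.inv_mem _ g₀.2) g.2
        have hc : (g₀ : SL2)⁻¹ * (g : SL2) * x = x * ((g₀ : SL2)⁻¹ * (g : SL2)) := by
          calc (g₀ : SL2)⁻¹ * (g : SL2) * x
              = (g₀ : SL2)⁻¹ * ((g : SL2) * x * (g : SL2)⁻¹) * (g : SL2) := by group
            _ = (g₀ : SL2)⁻¹ * ((g₀ : SL2) * x * (g₀ : SL2)⁻¹) * (g : SL2) := by rw [hφ]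
            _ = x * ((g₀ : SL2)⁻¹ * (g : SL2)) := by group
        have h6 := D_sub h2 hns2 S x y _ hy hS hyx hord hnc hmem hc
        apply Finset.mem_coe.mpr
        simp only [Finset.mem_insert, Finset.mem_singleton]
        exact h6
      · intro g _ g' _ h
        exact Subtype.ext (mul_left_cancel h)
    exact h5.trans Finset.card_le_four

omit [Fintype F] in
theorem exists_norm (S : Subgroup SL2) [Finite S] (x y : SL2)
    (hx : x ∈ S) (hy : y ∈ S)
    (hS : ∀ s ∈ S, (∃ i : ℕ, s = x ^ i) ∨ (∃ i : ℕ, s = y * x ^ i))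
    (hyx : y * x * y⁻¹ = x⁻¹) (hxx : x * x = negOne) (hyy : y * y = negOne)
    (h2 : (2 : F) ≠ 0) (hnc : x * y ≠ y * x) :
    ∃ m : SL2, m ∈ Subgroup.normalizer (S : Set SL2) ∧ m ∉ S := by
  have hXX := val_sq x hxx
  have hYY := val_sq y hyy
  have htX := tr_zero x hXX
  have htY := tr_zero y hYY
  have hxyx : x * y * x = y := by
    have : y * x = x⁻¹ * y := by
      calc y * x = y * x * y⁻¹ * y := by group
        _ = x⁻¹ * y := by rw [hyx]
    calc x * y * x = x * (y * x) := by group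
      _ = x * (x⁻¹ * y) := by rw [this]
      _ = y := by group
  obtain ⟨X, hXdef⟩ : ∃ X : Matrix (Fin 2) (Fin 2) F, X = (x : Matrix (Fin 2) (Fin 2) F) := ⟨_, rfl⟩
  obtain ⟨Y, hYdef⟩ : ∃ Y : Matrix (Fin 2) (Fin 2) F, Y = (y : Matrix (Fin 2) (Fin 2) F) := ⟨_, rfl⟩
  rw [← hXdef] at hXX htX
  rw [← hYdef] at hYY htY
  have hXYX : X * Y * X = Y := by
    rw [hXdef, hYdef]; exact congrArg Subtype.val hxyx
  have hYX : Y * X = -(X * Y) := by
    have h1 : X * (X * Y * X) = X * Y := by rw [hXYX]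
    rw [← Matrix.mul_assoc, ← Matrix.mul_assoc, hXX] at h1
    rw [← h1]
    first | done | simp
  have hYXY : Y * X * Y = X := by
    rw [hYX, Matrix.neg_mul, Matrix.mul_assoc, hYY]
    simp
  have hdet1 : (1 + X).det = 2 := by
    have h1 := Cfsg.Agent.Lib_helper4_SL2Cyc.det_D X 1 1
    rw [one_smul, one_smul, htX, hXdef, x.2] at h1
    rw [hXdef, h1]
    ring
  have hdet2 : (1 + Y).det = 2 := by
    have h1 := Cfsg.Agent.Lib_helper4_SL2Cyc.det_D Y 1 1
    rw [one_smul, one_smul, htY, hYdef, y.2] at h1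
    rw [hYdef, h1]
    ring
  have hdetM : ((2 : F)⁻¹ • ((1 + X) * (1 + Y))).det = 1 := by
    rw [Matrix.det_smul, Matrix.det_mul, hdet1, hdet2, Fintype.card_fin]
    field_simp
  obtain ⟨m, hm⟩ : ∃ m : SL2, (m : Matrix (Fin 2) (Fin 2) F) = (2 : F)⁻¹ • ((1 + X) * (1 + Y)) :=
    ⟨⟨_, hdetM⟩, rfl⟩
  have hmx : m * x = y * m := by
    apply Subtype.ext
    show (m : Matrix (Fin 2) (Fin 2) F) * (x : Matrix (Fin 2) (Fin 2) F) =
      (y : Matrix (Fin 2) (Fin 2) F) * (m : Matrix (Fin 2) (Fin 2) F)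
    rw [hm, ← hXdef, ← hYdef, Matrix.smul_mul, Matrix.mul_smul]
    congr 1
    have e1 : (1 + X) * (1 + Y) * X = X - 1 - X * Y + Y := by
      calc (1 + X) * (1 + Y) * X = X + X * X + Y * X + X * Y * X := by noncomm_ring
        _ = X - 1 - X * Y + Y := by rw [hXX, hYX, hXYX]; abel
    have e2 : Y * ((1 + X) * (1 + Y)) = X - 1 - X * Y + Y := by
      calc Y * ((1 + X) * (1 + Y)) = Y + Y * X + Y * Y + Y * X * Y := by noncomm_ring
        _ = X - 1 - X * Y + Y := by rw [hYXY, hYY, hYX]; abel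
    rw [e1, e2]
  have hmy : m * y = x * y * m := by
    apply Subtype.ext
    show (m : Matrix (Fin 2) (Fin 2) F) * (y : Matrix (Fin 2) (Fin 2) F) =
      (x : Matrix (Fin 2) (Fin 2) F) * (y : Matrix (Fin 2) (Fin 2) F) *
        (m : Matrix (Fin 2) (Fin 2) F)
    rw [hm, ← hXdef, ← hYdef, Matrix.smul_mul, Matrix.mul_smul]
    congr 1
    have e1 : (1 + X) * (1 + Y) * Y = Y + X * Y - 1 - X := by
      calc (1 + X) * (1 + Y) * Y = Y + X * Y + Y * Y + X * (Y * Y) := by noncomm_ring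
        _ = Y + X * Y - 1 - X := by rw [hYY]; simp; abel
    have e2 : X * Y * ((1 + X) * (1 + Y)) = Y + X * Y - 1 - X := by
      calc X * Y * ((1 + X) * (1 + Y)) = X * Y + X * Y * X + X * (Y * Y) + X * Y * X * Y := by
            noncomm_ring
        _ = Y + X * Y - 1 - X := by rw [hXYX, hYY]; simp; abel
    rw [e1, e2]
  have hcx : m * x * m⁻¹ = y := mul_inv_eq_of_eq_mul hmx
  have hcy : m * y * m⁻¹ = x * y := mul_inv_eq_of_eq_mul hmy
  have hcpow : ∀ i : ℕ, m * x ^ i * m⁻¹ = y ^ i := by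
    intro i
    rw [← hcx, conj_pow]
  refine ⟨m, ?_, ?_⟩
  · apply Subgroup.mem_normalizer_fintype
    intro s hs
    rcases hS s hs with ⟨i, rfl⟩ | ⟨i, rfl⟩
    · rw [hcpow]
      exact S.pow_mem hy i
    · have : m * (y * x ^ i) * m⁻¹ = (m * y * m⁻¹) * (m * x ^ i * m⁻¹) := by group
      rw [this, hcy, hcpow]
      exact S.mul_mem (S.mul_mem hx hy) (S.pow_mem hy i)
  · intro hmS
    rcases hS m hmS with ⟨i, hi⟩ | ⟨i, hi⟩
    · have h1 : m * x * m⁻¹ = x := by
        rw [hi]
        group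
      rw [hcx] at h1
      apply hnc
      rw [h1]
    · have h1 : m * x * m⁻¹ = x⁻¹ := by
        rw [hi, ← hyx]
        group
      rw [hcx] at h1
      apply hnc
      rw [h1]
      group

theorem card_norm (h2 : (2 : F) ≠ 0) (hns2 : ¬ IsSquare (2 : F)) (S : Sylow 2 SL2)
    (x y : SL2) (hx : x ∈ (S : Subgroup SL2)) (hy : y ∈ (S : Subgroup SL2))
    (hS : ∀ s ∈ (S : Subgroup SL2), (∃ i : ℕ, s = x ^ i) ∨ (∃ i : ℕ, s = y * x ^ i))
    (hyx : y * x * y⁻¹ = x⁻¹) (hord : orderOf x = 4)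
    (hy4 : ∀ i : ℕ, orderOf (y * x ^ i) = 4)
    (hcard : Nat.card (S : Subgroup SL2) = 8) :
    Nat.card (Subgroup.normalizer ((S : Subgroup SL2) : Set SL2)) = 24 := by
  have hnc := not_comm 2 le_rfl x y hyx (by rw [hord])
  have hle := card_le h2 hns2 (S : Subgroup SL2) x y hx hy hS hyx hord hcard hnc
  have hdvd : Nat.card (S : Subgroup SL2) ∣
      Nat.card (Subgroup.normalizer ((S : Subgroup SL2) : Set SL2)) :=
    Subgroup.card_dvd_of_le Subgroup.le_normalizer
  rw [hcard] at hdvd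
  obtain ⟨c, hc⟩ := hdvd
  have hpos : 0 < Nat.card (Subgroup.normalizer ((S : Subgroup SL2) : Set SL2)) := Nat.card_pos
  have hc3 : c = 1 ∨ c = 2 ∨ c = 3 := by omega
  rcases hc3 with rfl | rfl | rfl
  · exfalso
    have hy4' : orderOf y = 4 := by simpa using hy4 0
    obtain ⟨m, hm, hmS⟩ := exists_norm (S : Subgroup SL2) x y hx hy hS hyx
      (sq_negOne h2 x hord) (sq_negOne h2 y hy4') h2 hnc
    have h3 : (S : Subgroup SL2) = Subgroup.normalizer ((S : Subgroup SL2) : Set SL2) :=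
      Subgroup.eq_of_le_of_card_ge Subgroup.le_normalizer (by rw [hc, hcard])
    rw [← h3] at hm
    exact hmS hm
  · exfalso
    have hp : IsPGroup 2 (Subgroup.normalizer ((S : Subgroup SL2) : Set SL2)) :=
      IsPGroup.of_card (n := 4) (by rw [hc]; norm_num)
    have h3 := S.is_maximal' hp Subgroup.le_normalizer
    rw [h3, hcard] at hc
    omega
  · rw [hc]

omit [Fintype F] in
theorem dvd16 (q : ℕ) (h : q % 8 = 1 ∨ q % 8 = 7) : 2 ^ 4 ∣ q * ((q - 1) * (q + 1)) := by
  rcases h with h | h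
  · obtain ⟨j, rfl⟩ : ∃ j, q = 8 * j + 1 := ⟨q / 8, by omega⟩
    refine Dvd.dvd.mul_left ?_ _
    refine ⟨j * (4 * j + 1), ?_⟩
    rw [Nat.add_sub_cancel]
    ring
  · obtain ⟨j, rfl⟩ : ∃ j, q = 8 * j + 7 := ⟨q / 8, by omega⟩
    refine Dvd.dvd.mul_left ?_ _
    refine ⟨(4 * j + 3) * (j + 1), ?_⟩
    have : 8 * j + 7 - 1 = 8 * j + 6 := by omega
    rw [this]
    ring

omit [Fintype F] in
theorem ndvd16 (q : ℕ) (h : q % 8 = 3 ∨ q % 8 = 5) : ¬ 2 ^ 4 ∣ q * ((q - 1) * (q + 1)) := by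
  have key : ∀ N : ℕ, Odd N → ¬ 2 ^ 4 ∣ 8 * N := by
    intro N hN hd
    have h16 : (2 : ℕ) ^ 4 = 8 * 2 := by norm_num
    rw [h16] at hd
    have h2 : 2 ∣ N := Nat.dvd_of_mul_dvd_mul_left (by norm_num) hd
    exact (Nat.not_even_iff_odd.mpr hN) (even_iff_two_dvd.mpr h2)
  rcases h with h | h
  · obtain ⟨j, rfl⟩ : ∃ j, q = 8 * j + 3 := ⟨q / 8, by omega⟩
    have e : (8 * j + 3) * ((8 * j + 3 - 1) * (8 * j + 3 + 1)) =
        8 * ((8 * j + 3) * ((4 * j + 1) * (2 * j + 1))) := by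
      have : 8 * j + 3 - 1 = 8 * j + 2 := by omega
      rw [this]
      ring
    rw [e]
    apply key
    apply Odd.mul
    · exact ⟨4 * j + 1, by ring⟩
    apply Odd.mul
    · exact ⟨2 * j, by ring⟩
    · exact ⟨j, by ring⟩
  · obtain ⟨j, rfl⟩ : ∃ j, q = 8 * j + 5 := ⟨q / 8, by omega⟩
    have e : (8 * j + 5) * ((8 * j + 5 - 1) * (8 * j + 5 + 1)) =
        8 * ((8 * j + 5) * ((2 * j + 1) * (4 * j + 3))) := by
      have : 8 * j + 5 - 1 = 8 * j + 4 := by omega
      rw [this]
      ring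
    rw [e]
    apply key
    apply Odd.mul
    · exact ⟨4 * j + 2, by ring⟩
    apply Odd.mul
    · exact ⟨j, by ring⟩
    · exact ⟨2 * j + 1, by ring⟩

theorem main (hodd : Odd (Fintype.card F)) (S : Sylow 2 SL2) :
    Subgroup.centralizer ((S : Subgroup SL2) : Set SL2) = Subgroup.center SL2 ∧
    ((Fintype.card F % 8 = 1 ∨ Fintype.card F % 8 = 7) →
      Subgroup.normalizer ((S : Subgroup SL2) : Set SL2) = (S : Subgroup SL2)) ∧
    ((Fintype.card F % 8 = 3 ∨ Fintype.card F % 8 = 5) →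
      Nat.card (Subgroup.normalizer ((S : Subgroup SL2) : Set SL2)) = 3 * Nat.card S) := by
  classical
  have h2 : (2 : F) ≠ 0 := by
    intro h
    have hch : ringChar F = 2 :=
      CharP.ringChar_of_prime_eq_zero Nat.prime_two (by exact_mod_cast h)
    have := FiniteField.even_card_of_char_two hch
    obtain ⟨j, hj⟩ := hodd
    omega
  obtain ⟨k, hk, ⟨e⟩⟩ := Cfsg.Agent.Lib_helper4_SL2Quat.sylow_quat hodd S
  haveI : NeZero (2 ^ k) := ⟨by positivity⟩
  obtain ⟨x, y, hx, hy, hS, hyx, hord, hy4, hcard⟩ := frame (S : Subgroup SL2) (2 ^ k) e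
  have hn : 2 ≤ 2 ^ k := by
    calc 2 = 2 ^ 1 := by norm_num
      _ ≤ 2 ^ k := Nat.pow_le_pow_right (by norm_num) hk
  have hnc := not_comm (2 ^ k) hn x y hyx hord
  have hG := Cfsg.Agent.Lib_helper4_SL2Cyc.card_SL2 (F := F)
  refine ⟨cent_eq _ x y hx hy hnc, ?_, ?_⟩
  · intro hq
    have h16 := dvd16 _ hq
    rw [← hG] at h16
    have h16' := S.pow_dvd_card_of_pow_dvd_card h16
    rw [hcard] at h16'
    have hk2 : 2 ≤ k := by
      by_contra hlt
      have hk1 : k = 1 := by omega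
      subst hk1
      norm_num at h16'
    exact norm_eq h2 hodd S k hk2 x y hx hy hS hyx hord hy4 hcard
  · intro hq
    have hk1 : k = 1 := by
      by_contra hne
      have hk2 : 2 ≤ k := by omega
      apply ndvd16 _ hq
      rw [← hG]
      have h1 : Nat.card (S : Subgroup SL2) ∣ Nat.card SL2 := Subgroup.card_subgroup_dvd_card _
      rw [hcard] at h1
      refine Dvd.dvd.trans ?_ h1
      obtain ⟨j, rfl⟩ : ∃ j, k = j + 2 := ⟨k - 2, by omega⟩
      exact ⟨2 ^ j, by ring⟩
    subst hk1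
    have hns2 : ¬ IsSquare (2 : F) := by
      rw [FiniteField.isSquare_two_iff]
      omega
    have hord' : orderOf x = 4 := by rw [hord]; norm_num
    have hcard' : Nat.card (S : Subgroup SL2) = 8 := by rw [hcard]; norm_num
    have h24 := card_norm h2 hns2 S x y hx hy hS hyx hord' hy4 hcard'
    rw [h24]
    change 24 = 3 * Nat.card (S : Subgroup SL2)
    rw [hcard']

end Aux

/-- Let F be a finite field with q elements, q odd, and S a Sylow 2-subgroup of SL₂ over F. The centraliser of S is the centre of SL₂ (of order 2); S is its own normaliser when q ≡ ±1 mod 8, and has index 3 in its normaliser when q ≡ ±3 mod 8. -/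
theorem result {F : Type*} [Field F] [Fintype F] (hodd : Odd (Fintype.card F)) (S : Sylow 2 (Matrix.SpecialLinearGroup (Fin 2) F)) :
    Subgroup.centralizer ((S : Subgroup (Matrix.SpecialLinearGroup (Fin 2) F)) : Set (Matrix.SpecialLinearGroup (Fin 2) F)) = Subgroup.center (Matrix.SpecialLinearGroup (Fin 2) F) ∧
    ((Fintype.card F % 8 = 1 ∨ Fintype.card F % 8 = 7) →
      Subgroup.normalizer ((S : Subgroup (Matrix.SpecialLinearGroup (Fin 2) F)) : Set (Matrix.SpecialLinearGroup (Fin 2) F)) = (S : Subgroup (Matrix.SpecialLinearGroup (Fin 2) F))) ∧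
    ((Fintype.card F % 8 = 3 ∨ Fintype.card F % 8 = 5) →
      Nat.card (Subgroup.normalizer ((S : Subgroup (Matrix.SpecialLinearGroup (Fin 2) F)) : Set (Matrix.SpecialLinearGroup (Fin 2) F))) = 3 * Nat.card S) := by
  exact main hodd S

end Cfsg.Agent.S2431
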