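import Cfsg.Statements.S2456
import Mathlib
import Cfsg.Agent.Lib_helper8_GL2
import Cfsg.Agent.S2507
import Cfsg.Agent.S2508
import Cfsg.Agent.S2475
import Cfsg.Agent.S2450

set_option autoImplicit false
open Cfsg

namespace Cfsg.Agent.S2456

section Aux
open Matrix Cfsg.Agent.S2508

variable {F : Type*} [Field F] [Fintype F]

theorem sl_conj (h2 : (2 : F) = 0) (A B : SpecialLinearGroup (Fin 2) F)
    (hA : Cfsg.Agent.Lib_helper8_GL2.NonScalar (A : Matrix (Fin 2) (Fin 2) F))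
    (hB : Cfsg.Agent.Lib_helper8_GL2.NonScalar (B : Matrix (Fin 2) (Fin 2) F))
    (ht : (A : Matrix (Fin 2) (Fin 2) F).trace = (B : Matrix (Fin 2) (Fin 2) F).trace) :
    ∃ R : SpecialLinearGroup (Fin 2) F, R * A * R⁻¹ = B := by
  obtain ⟨R₀, hR₀, hRA⟩ := Cfsg.Agent.Lib_helper8_GL2.exists_semiconj _ _ hA hB ht
    (A.2.trans B.2.symm)
  obtain ⟨c, hc⟩ := Cfsg.Agent.S2507.exists_sqrt h2 (R₀.det)⁻¹
  have hdet : (c • R₀).det = 1 := by
    rw [Matrix.det_smul, Fintype.card_fin, hc, inv_mul_cancel₀ hR₀]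
  let R : SpecialLinearGroup (Fin 2) F := ⟨c • R₀, hdet⟩
  refine ⟨R, ?_⟩
  rw [mul_inv_eq_iff_eq_mul]
  apply Subtype.ext
  show (c • R₀) * (A : Matrix (Fin 2) (Fin 2) F) = (B : Matrix (Fin 2) (Fin 2) F) * (c • R₀)
  rw [Matrix.smul_mul, Matrix.mul_smul, hRA]

theorem main [CharP F 2] (h4 : 4 ≤ Fintype.card F)
    (x : Matrix.ProjectiveSpecialLinearGroup (Fin 2) F) (hx2 : 2 < orderOf x)
    (hxq : ¬ orderOf x ∣ Fintype.card F + 1) :
    ∀ g : Matrix.ProjectiveSpecialLinearGroup (Fin 2) F, g ≠ 1 →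
      ∃ u v : Matrix.ProjectiveSpecialLinearGroup (Fin 2) F,
        g = (u * x * u⁻¹) * (v * x * v⁻¹) := by
  have h2 : (2 : F) = 0 := by
    have := CharP.cast_eq_zero F 2
    exact_mod_cast this
  haveI : Fact (Nat.Prime 2) := ⟨Nat.prime_two⟩
  obtain ⟨X, rfl⟩ := QuotientGroup.mk_surjective x
  have hXns : Cfsg.Agent.Lib_helper8_GL2.NonScalar (X : Matrix (Fin 2) (Fin 2) F) := by
    apply Cfsg.Agent.S2450.ns_of_ne_one
    intro h
    rw [h, orderOf_one] at hx2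
    omega
  -- `X` has an eigenvalue `ρ` with `ρ² ≠ 1`
  have hroot : ∃ ρ : F, ρ ^ 2 - (X : Matrix (Fin 2) (Fin 2) F).trace * ρ + 1 = 0 ∧ ρ ^ 2 ≠ 1 := by
    by_contra hcon
    push Not at hcon
    by_cases hr : ∃ ρ : F, ρ ^ 2 - (X : Matrix (Fin 2) (Fin 2) F).trace * ρ + 1 = 0
    · obtain ⟨ρ, hρ⟩ := hr
      have h5 := orderOf_dvd_of_pow_eq_one (Cfsg.Agent.S2475.unip_pow 2 X ρ hρ (hcon ρ hρ))
      have := Nat.le_of_dvd (by norm_num) h5
      omega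
    · push Not at hr
      have h5 := Cfsg.Agent.S2475.pow_card_comm X
      rw [card_comm X hXns, card_S_nonsplit _ hr] at h5
      have h6 := orderOf_dvd_of_pow_eq_one
        (Cfsg.Agent.S2475.pow_quot X _ Cfsg.Agent.S2475.dvd_plus h5)
      exact hxq (h6.trans (Nat.div_dvd_of_dvd Cfsg.Agent.S2475.dvd_plus))
  obtain ⟨ρ, hρ, hρ1⟩ := hroot
  obtain ⟨hρ0, hsum⟩ := root_sum _ ρ hρ
  have hρσ : ρ * ρ⁻¹ = 1 := mul_inv_cancel₀ hρ0
  have hd : ρ - ρ⁻¹ ≠ 0 := by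
    intro h
    apply hρ1
    have h1 : ρ = ρ⁻¹ := sub_eq_zero.mp h
    rw [sq]
    nth_rewrite 2 [h1]
    exact hρσ
  -- the diagonal form
  have hdetD : (!![ρ, 0; 0, ρ⁻¹] : Matrix (Fin 2) (Fin 2) F).det = 1 := by
    rw [Matrix.det_fin_two_of]; linear_combination hρσ
  let D : SpecialLinearGroup (Fin 2) F := ⟨_, hdetD⟩
  have hDns : Cfsg.Agent.Lib_helper8_GL2.NonScalar (D : Matrix (Fin 2) (Fin 2) F) := by
    right; right
    show ρ ≠ ρ⁻¹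
    exact sub_ne_zero.mp hd
  have hDtr : (D : Matrix (Fin 2) (Fin 2) F).trace = ρ + ρ⁻¹ := by
    show (!![ρ, 0; 0, ρ⁻¹] : Matrix (Fin 2) (Fin 2) F).trace = ρ + ρ⁻¹
    rw [Matrix.trace_fin_two_of]
  obtain ⟨S₁, hS₁⟩ := sl_conj h2 X D hXns hDns (by rw [hDtr, hsum])
  intro g hg
  obtain ⟨G, rfl⟩ := QuotientGroup.mk_surjective g
  have hGns := Cfsg.Agent.S2450.ns_of_ne_one G hg
  set τ := (G : Matrix (Fin 2) (Fin 2) F).trace with hτ
  set y₁ : F := (τ - ρ⁻¹ * (ρ + ρ⁻¹)) / (ρ - ρ⁻¹) with hy₁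
  set y₄ : F := (ρ + ρ⁻¹) - y₁ with hy₄
  have hy : ρ * y₁ + ρ⁻¹ * y₄ = τ := by
    have e : (ρ - ρ⁻¹) * y₁ = τ - ρ⁻¹ * (ρ + ρ⁻¹) := by
      rw [hy₁]; field_simp
    rw [hy₄]
    linear_combination e
  have hdetY : (!![y₁, 1; y₁ * y₄ - 1, y₄] : Matrix (Fin 2) (Fin 2) F).det = 1 := by
    rw [Matrix.det_fin_two_of]; ring
  let Y : SpecialLinearGroup (Fin 2) F := ⟨_, hdetY⟩
  have hYns : Cfsg.Agent.Lib_helper8_GL2.NonScalar (Y : Matrix (Fin 2) (Fin 2) F) := by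
    right; left
    show (!![y₁, 1; y₁ * y₄ - 1, y₄] : Matrix (Fin 2) (Fin 2) F) 0 1 ≠ 0
    simp
  have hYtr : (Y : Matrix (Fin 2) (Fin 2) F).trace = ρ + ρ⁻¹ := by
    show (!![y₁, 1; y₁ * y₄ - 1, y₄] : Matrix (Fin 2) (Fin 2) F).trace = ρ + ρ⁻¹
    rw [Matrix.trace_fin_two_of, hy₄]; ring
  obtain ⟨S₂, hS₂⟩ := sl_conj h2 D Y hDns hYns (by rw [hDtr, hYtr])
  have hDY : ((D * Y : SpecialLinearGroup (Fin 2) F) : Matrix (Fin 2) (Fin 2) F)
      = !![ρ * y₁, ρ; ρ⁻¹ * (y₁ * y₄ - 1), ρ⁻¹ * y₄] := by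
    show (!![ρ, 0; 0, ρ⁻¹] : Matrix (Fin 2) (Fin 2) F) * !![y₁, 1; y₁ * y₄ - 1, y₄] = _
    rw [Matrix.mul_fin_two]
    simp
  have hDYns : Cfsg.Agent.Lib_helper8_GL2.NonScalar
      ((D * Y : SpecialLinearGroup (Fin 2) F) : Matrix (Fin 2) (Fin 2) F) := by
    right; left
    rw [hDY]
    show ρ ≠ 0
    exact hρ0
  have hDYtr : ((D * Y : SpecialLinearGroup (Fin 2) F) : Matrix (Fin 2) (Fin 2) F).trace = τ := by
    rw [hDY, Matrix.trace_fin_two_of]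
    exact hy
  obtain ⟨R, hR⟩ := sl_conj h2 (D * Y) G hDYns hGns hDYtr
  refine ⟨QuotientGroup.mk (R * S₁), QuotientGroup.mk (R * S₂ * S₁), ?_⟩
  rw [← QuotientGroup.mk_inv, ← QuotientGroup.mk_inv, ← QuotientGroup.mk_mul,
    ← QuotientGroup.mk_mul, ← QuotientGroup.mk_mul, ← QuotientGroup.mk_mul,
    ← QuotientGroup.mk_mul]
  congr 1
  rw [← hR, ← hS₂, ← hS₁]
  group

end Aux

/-- A strong covering result in the direction of Thompson's conjecture (non-identity elements) for PSL(2,q), q even: let F be a finite field of characteristic 2 with q ≥ 4 elements and let x ∈ PSL(2,F) have order greater than 2 and not dividing q + 1. Then every non-identity element of PSL(2,F) is a product of two conjugates of x. -/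
theorem result {F : Type*} [Field F] [Fintype F] [CharP F 2] (h4 : 4 ≤ Fintype.card F)
    (x : Matrix.ProjectiveSpecialLinearGroup (Fin 2) F) (hx2 : 2 < orderOf x) (hxq : ¬ orderOf x ∣ Fintype.card F + 1) : ∀ g : Matrix.ProjectiveSpecialLinearGroup (Fin 2) F, g ≠ 1 → ∃ u v : Matrix.ProjectiveSpecialLinearGroup (Fin 2) F, g = (u * x * u⁻¹) * (v * x * v⁻¹) := by
  exact main h4 x hx2 hxq

end Cfsg.Agent.S2456
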