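import Cfsg.Statements.S2477
import Cfsg.Agent.Lib_helper8_AltSpec

set_option autoImplicit false
open Cfsg

namespace Cfsg.Agent.S2477

section Aux

theorem list_case : ∀ l : List ℕ, (∀ a ∈ l, 2 ≤ a) → l.sum ≤ 10 → (l.sum + l.length) % 2 = 0 →
    l.foldr Nat.lcm 1 ∈ ({1, 2, 3, 4, 5, 6, 7, 8, 9, 10, 12, 15, 21} : Finset ℕ) := by
  intro l hl hsum hev
  rcases l with _ | ⟨a, _ | ⟨b, _ | ⟨c, _ | ⟨d, _ | ⟨e, _ | ⟨f, l⟩⟩⟩⟩⟩⟩
  · decide
  · simp only [List.mem_cons, List.not_mem_nil, or_false, forall_eq] at hl
    simp only [List.sum_cons, List.sum_nil, List.length_cons, List.length_nil] at hsum hev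
    simp only [List.foldr_cons, List.foldr_nil]
    have ha : a ≤ 10 := by omega
    interval_cases a <;> first | omega | decide
  · simp only [List.mem_cons, List.not_mem_nil, or_false, forall_eq_or_imp, forall_eq] at hl
    simp only [List.sum_cons, List.sum_nil, List.length_cons, List.length_nil] at hsum hev
    simp only [List.foldr_cons, List.foldr_nil]
    obtain ⟨ha2, hb2⟩ := hl
    have ha : a ≤ 8 := by omega
    have hb : b ≤ 8 := by omega
    interval_cases a <;> interval_cases b <;> first | omega | decide
  · simp only [List.mem_cons, List.not_mem_nil, or_false, forall_eq_or_imp, forall_eq] at hl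
    simp only [List.sum_cons, List.sum_nil, List.length_cons, List.length_nil] at hsum hev
    simp only [List.foldr_cons, List.foldr_nil]
    obtain ⟨ha2, hb2, hc2⟩ := hl
    have ha : a ≤ 6 := by omega
    have hb : b ≤ 6 := by omega
    have hc : c ≤ 6 := by omega
    interval_cases a <;> interval_cases b <;> interval_cases c <;> first | omega | decide
  · simp only [List.mem_cons, List.not_mem_nil, or_false, forall_eq_or_imp, forall_eq] at hl
    simp only [List.sum_cons, List.sum_nil, List.length_cons, List.length_nil] at hsum hev
    simp only [List.foldr_cons, List.foldr_nil]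
    obtain ⟨ha2, hb2, hc2, hd2⟩ := hl
    have ha : a ≤ 4 := by omega
    have hb : b ≤ 4 := by omega
    have hc : c ≤ 4 := by omega
    have hd : d ≤ 4 := by omega
    interval_cases a <;> interval_cases b <;> interval_cases c <;> interval_cases d <;>
      first | omega | decide
  · simp only [List.mem_cons, List.not_mem_nil, or_false, forall_eq_or_imp, forall_eq] at hl
    simp only [List.sum_cons, List.sum_nil, List.length_cons, List.length_nil] at hsum hev
    simp only [List.foldr_cons, List.foldr_nil]
    obtain ⟨ha2, hb2, hc2, hd2, he2⟩ := hl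
    have ha : a = 2 := by omega
    have hb : b = 2 := by omega
    have hc : c = 2 := by omega
    have hd : d = 2 := by omega
    have he : e = 2 := by omega
    subst ha hb hc hd he
    omega
  · exfalso
    have ha := hl a (by simp)
    have hb := hl b (by simp)
    have hc := hl c (by simp)
    have hd := hl d (by simp)
    have he := hl e (by simp)
    have hf := hl f (by simp)
    simp only [List.sum_cons] at hsum
    omega

theorem lcm_coe (l : List ℕ) : (l : Multiset ℕ).lcm = l.foldr Nat.lcm 1 := by
  induction l with
  | nil => rfl
  | cons a l ih =>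
    rw [← Multiset.cons_coe, Multiset.lcm_cons, ih]
    rfl

theorem main : Set.range (orderOf : alternatingGroup (Fin 10) → ℕ)
    = {1, 2, 3, 4, 5, 6, 7, 8, 9, 10, 12, 15, 21} := by
  ext k
  rw [Cfsg.Agent.Lib_helper8_AltSpec.mem_range_iff]
  constructor
  · rintro ⟨m, hm2, hsum, hev, rfl⟩
    obtain ⟨l, rfl⟩ := Quot.exists_rep m
    have h1 := list_case l (fun a ha => hm2 a ha) (by simpa using hsum)
      (by
        rw [Nat.even_iff] at hev
        simpa using hev)
    have h2 : Multiset.lcm (Quot.mk _ l : Multiset ℕ) = l.foldr Nat.lcm 1 := lcm_coe l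
    rw [h2]
    simpa using h1
  · intro hk
    simp only [Set.mem_insert_iff, Set.mem_singleton_iff] at hk
    have key : ∀ l : List ℕ, (∀ a ∈ l, 2 ≤ a) → l.sum ≤ 10 → (l.sum + l.length) % 2 = 0 →
        l.foldr Nat.lcm 1 = k → ∃ m : Multiset ℕ, (∀ a ∈ m, 2 ≤ a) ∧ m.sum ≤ 10 ∧
          Even (m.sum + Multiset.card m) ∧ m.lcm = k := by
      intro l h1 h2 h3 h4
      refine ⟨(l : Multiset ℕ), fun a ha => h1 a (by simpa using ha), by simpa using h2, ?_, ?_⟩
      · rw [Nat.even_iff]
        simpa using h3
      · rw [lcm_coe, h4]
    rcases hk with rfl | rfl | rfl | rfl | rfl | rfl | rfl | rfl | rfl | rfl | rfl | rfl | rfl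
    · exact key [] (by decide) (by decide) (by decide) (by decide)
    · exact key [2, 2] (by decide) (by decide) (by decide) (by decide)
    · exact key [3] (by decide) (by decide) (by decide) (by decide)
    · exact key [4, 2] (by decide) (by decide) (by decide) (by decide)
    · exact key [5] (by decide) (by decide) (by decide) (by decide)
    · exact key [3, 2, 2] (by decide) (by decide) (by decide) (by decide)
    · exact key [7] (by decide) (by decide) (by decide) (by decide)
    · exact key [8, 2] (by decide) (by decide) (by decide) (by decide)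
    · exact key [9] (by decide) (by decide) (by decide) (by decide)
    · exact key [5, 2, 2] (by decide) (by decide) (by decide) (by decide)
    · exact key [4, 3, 2] (by decide) (by decide) (by decide) (by decide)
    · exact key [5, 3] (by decide) (by decide) (by decide) (by decide)
    · exact key [7, 3] (by decide) (by decide) (by decide) (by decide)

end Aux

/-- The set of element orders of the alternating group of degree 10 is {1, 2, 3, 4, 5, 6, 7, 8, 9, 10, 12, 15, 21}. -/
theorem result : Set.range (orderOf : alternatingGroup (Fin 10) → ℕ) = {1, 2, 3, 4, 5, 6, 7, 8, 9, 10, 12, 15, 21} := by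
  exact main

end Cfsg.Agent.S2477
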