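import Cfsg.Statements.S2485
import Mathlib
import Cfsg.Agent.Lib_helper8_GL2
import Cfsg.Agent.Lib_helper4_SL2Cyc
import Cfsg.Agent.S2507

set_option autoImplicit false
open scoped Pointwise
open Cfsg

namespace Cfsg.Agent.S2485

section Aux
open Matrix

variable {q : ℕ} [Fact q.Prime]

local notation "GL2" => GL (Fin 2) (ZMod q)
local notation "M2" => Matrix (Fin 2) (Fin 2) (ZMod q)
local notation "PG" => GL (Fin 2) (ZMod q) ⧸ Subgroup.center (GL (Fin 2) (ZMod q))

theorem nat_aux (q N : ℕ) (hq : 2 ≤ q) (h : N * (q - 1) = (q ^ 2 - 1) * (q ^ 2 - q)) :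
    N = q * (q - 1) * (q + 1) := by
  obtain ⟨r, rfl⟩ : ∃ r, q = r + 2 := ⟨q - 2, by omega⟩
  have e1 : (r + 2) ^ 2 - 1 = (r + 1) * (r + 3) := by
    have : (r + 2) ^ 2 = (r + 1) * (r + 3) + 1 := by ring
    omega
  have e2 : (r + 2) ^ 2 - (r + 2) = (r + 2) * (r + 1) := by
    have : (r + 2) ^ 2 = (r + 2) * (r + 1) + (r + 2) := by ring
    omega
  have e3 : r + 2 - 1 = r + 1 := by omega
  rw [e1, e2, e3] at h
  rw [e3]
  have : N * (r + 1) = ((r + 2) * (r + 1) * (r + 2 + 1)) * (r + 1) := by rw [h]; ring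
  exact Nat.eq_of_mul_eq_mul_right (by omega) this

theorem det_ne (g : GL2) : (g : M2).det ≠ 0 :=
  ((Matrix.isUnit_iff_isUnit_det _).mp g.isUnit).ne_zero

theorem mem_center_iff (g : GL2) :
    g ∈ Subgroup.center GL2 ↔ ∃ s : ZMod q, (g : M2) = s • (1 : M2) := by
  rw [Matrix.GeneralLinearGroup.mem_center_iff_val_mem_range_scalar]
  constructor
  · rintro ⟨s, hs⟩
    exact ⟨s, by rw [← hs, Matrix.smul_one_eq_diagonal]; rfl⟩
  · rintro ⟨s, hs⟩
    exact ⟨s, by rw [hs, Matrix.smul_one_eq_diagonal]; rfl⟩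

theorem mk_eq_one_iff (g : GL2) :
    (QuotientGroup.mk g : PG) = 1 ↔ ∃ s : ZMod q, (g : M2) = s • (1 : M2) := by
  rw [QuotientGroup.eq_one_iff, mem_center_iff]

theorem comm_cases (g A : GL2)
    (h : (QuotientGroup.mk g : PG) * QuotientGroup.mk A = QuotientGroup.mk A * QuotientGroup.mk g) :
    (g : M2) * (A : M2) = (A : M2) * (g : M2) ∨ (g : M2) * (A : M2) = -((A : M2) * (g : M2)) := by
  rw [← QuotientGroup.mk_mul, ← QuotientGroup.mk_mul, eq_comm, QuotientGroup.eq] at h
  obtain ⟨s, hs⟩ := (mem_center_iff _).mp h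
  have e : ((g * A : GL2) : M2) = ((A * g : GL2) : M2) * (s • (1 : M2)) := by
    rw [← hs, ← Units.val_mul, mul_inv_cancel_left]
  rw [Units.val_mul, Units.val_mul, Matrix.mul_smul, Matrix.mul_one] at e
  have hdet := congrArg Matrix.det e
  rw [Matrix.det_mul, Matrix.det_smul, Fintype.card_fin, Matrix.det_mul] at hdet
  have hg0 : (g : M2).det ≠ 0 := det_ne g
  have hA0 : (A : M2).det ≠ 0 := det_ne A
  have hs2 : s ^ 2 = 1 := by
    have : (s ^ 2 - 1) * ((A : M2).det * (g : M2).det) = 0 := by linear_combination -hdet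
    rcases mul_eq_zero.mp this with h1 | h1
    · linear_combination h1
    · exact absurd h1 (mul_ne_zero hA0 hg0)
  have : (s - 1) * (s + 1) = 0 := by linear_combination hs2
  rcases mul_eq_zero.mp this with h1 | h1
  · left; rw [e, sub_eq_zero.mp h1, one_smul]
  · right; rw [e, eq_neg_of_add_eq_zero_left h1, neg_smul, one_smul]

theorem sq_of_trace_zero (M : M2) (h : M.trace = 0) : M * M = (-M.det) • (1 : M2) := by
  rw [Cfsg.Agent.Lib_helper4_SL2Cyc.sq_eq, h, zero_smul, zero_sub, neg_smul]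

theorem trace_zero_of_anti (h2 : (2 : ZMod q) ≠ 0) (g : M2) (A : GL2)
    (h : g * (A : M2) = -((A : M2) * g)) : g.trace = 0 := by
  have e : g = -((A : M2) * g * ((A⁻¹ : GL2) : M2)) := by
    have : g * (A : M2) * ((A⁻¹ : GL2) : M2) = -((A : M2) * g) * ((A⁻¹ : GL2) : M2) := by rw [h]
    rw [Matrix.mul_assoc, ← Units.val_mul, mul_inv_cancel, Units.val_one, Matrix.mul_one,
      Matrix.neg_mul] at this
    exact this
  have ht : g.trace = -g.trace := by
    conv_lhs => rw [e]
    rw [Matrix.trace_neg, Matrix.trace_mul_comm, ← Matrix.mul_assoc, ← Units.val_mul,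
      inv_mul_cancel, Units.val_one, Matrix.one_mul]
  have : (2 : ZMod q) * g.trace = 0 := by linear_combination ht
  exact (mul_eq_zero.mp this).resolve_left h2

theorem ns_of_trace_zero (h2 : (2 : ZMod q) ≠ 0) (A : GL2) (htr : (A : M2).trace = 0) :
    Cfsg.Agent.Lib_helper8_GL2.NonScalar (A : M2) := by
  rw [Cfsg.Agent.Lib_helper8_GL2.nonScalar_iff]
  rintro ⟨s, hs⟩
  rw [hs, Matrix.trace_smul, Matrix.trace_one, Fintype.card_fin] at htr
  have hs0 : s = 0 := by
    have : (2 : ZMod q) * s = 0 := by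
      simp only [smul_eq_mul] at htr
      push_cast at htr
      linear_combination htr
    exact (mul_eq_zero.mp this).resolve_left h2
  have hd := det_ne A
  rw [hs, hs0, zero_smul, Matrix.det_zero] at hd
  exact hd rfl

theorem frob (hq2 : q % 2 = 1) (A : M2) (c : ZMod q) (hAA : A * A = c • (1 : M2))
    (a b : ZMod q) :
    (a • (1 : M2) + b • A) ^ q = a • (1 : M2) + (b * c ^ (q / 2)) • A := by
  have hcomm : Commute (a • (1 : M2)) (b • A) :=
    ((Commute.one_left A).smul_left a).smul_right b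
  rw [add_pow_char_of_commute (p := q) hcomm, smul_pow, one_pow, smul_pow, ZMod.pow_card,
    ZMod.pow_card]
  have hA : A ^ q = c ^ (q / 2) • A := by
    have hq : q = 2 * (q / 2) + 1 := by omega
    have e : A ^ q = A ^ (2 * (q / 2) + 1) := congrArg (fun n : ℕ => A ^ n) hq
    rw [e, pow_succ, pow_mul, sq, hAA, smul_pow, one_pow, Matrix.smul_mul, Matrix.one_mul]
  rw [hA, smul_smul]

theorem ell_pow (h2 : (2 : ZMod q) ≠ 0) (hq2 : q % 2 = 1) (A : GL2) (c : ZMod q)
    (htr : (A : M2).trace = 0) (hAA : (A : M2) * (A : M2) = c • (1 : M2)) (hc : ¬ IsSquare c)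
    (y : PG) (hy : y * QuotientGroup.mk A = QuotientGroup.mk A * y) : y ^ (q + 1) = 1 := by
  obtain ⟨g, rfl⟩ := QuotientGroup.mk_surjective y
  have hc0 : c ≠ 0 := by rintro rfl; exact hc ⟨0, by simp⟩
  have hAns := ns_of_trace_zero h2 A htr
  rw [← QuotientGroup.mk_pow, mk_eq_one_iff, Units.val_pow_eq_pow_val]
  rcases comm_cases g A hy with h | h
  · obtain ⟨a, b, hab⟩ := Cfsg.Agent.S2507.commutant _ _ hAns h
    have hcm : c ^ (q / 2) = -1 := by
      rcases ZMod.pow_div_two_eq_neg_one_or_one q hc0 with h1 | h1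
      · exact absurd ((ZMod.euler_criterion q hc0).mpr h1) hc
      · exact h1
    refine ⟨a ^ 2 - b ^ 2 * c, ?_⟩
    rw [pow_succ, hab, frob hq2 _ c hAA, hcm]
    simp only [Matrix.add_mul, Matrix.mul_add, Matrix.smul_mul, Matrix.mul_smul, Matrix.one_mul,
      Matrix.mul_one, hAA, smul_smul]
    module
  · have htg := trace_zero_of_anti h2 _ A h
    have hgg := sq_of_trace_zero _ htg
    refine ⟨(-(g : M2).det) ^ ((q + 1) / 2), ?_⟩
    have hq : q + 1 = 2 * ((q + 1) / 2) := by omega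
    have e : (g : M2) ^ (q + 1) = (g : M2) ^ (2 * ((q + 1) / 2)) :=
      congrArg (fun n : ℕ => (g : M2) ^ n) hq
    rw [e, pow_mul, sq, hgg, smul_pow, one_pow]

theorem hyp_comm (h2 : (2 : ZMod q) ≠ 0) (hq2 : q % 2 = 1) (hq4 : q % 4 = 3) (A : GL2)
    (c : ZMod q) (htr : (A : M2).trace = 0) (hAA : (A : M2) * (A : M2) = c • (1 : M2))
    (hc0 : c ≠ 0) (hc : IsSquare c) (g : GL2) (hg : (g : M2) * (A : M2) = (A : M2) * (g : M2))
    (j : ℕ) (hj : (QuotientGroup.mk g : PG) ^ (2 ^ j) = 1) :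
    (QuotientGroup.mk g : PG) = 1 ∨ (QuotientGroup.mk g : PG) = QuotientGroup.mk A := by
  have hAns := ns_of_trace_zero h2 A htr
  obtain ⟨a, b, hab⟩ := Cfsg.Agent.S2507.commutant _ _ hAns hg
  have hcm : c ^ (q / 2) = 1 := (ZMod.euler_criterion q hc0).mp hc
  have hgq : (g : M2) ^ q = (g : M2) := by rw [hab, frob hq2 _ c hAA, hcm, mul_one]
  have hgq' : g ^ (q - 1) = 1 := by
    have h3 : g ^ q = g := Units.ext (by rw [Units.val_pow_eq_pow_val]; exact hgq)
    have hq : q = (q - 1) + 1 := by omega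
    have e : g ^ q = g ^ (q - 1) * g := by
      rw [← pow_succ]
      exact congrArg (fun n : ℕ => g ^ n) hq
    rw [e] at h3
    exact mul_right_cancel (h3.trans (one_mul g).symm)
  have hy1 : (QuotientGroup.mk g : PG) ^ (q - 1) = 1 := by
    rw [← QuotientGroup.mk_pow, hgq']; rfl
  have hy2 : (QuotientGroup.mk g : PG) ^ 2 = 1 := by
    have hd : orderOf (QuotientGroup.mk g : PG) ∣ Nat.gcd (q - 1) (2 ^ j) :=
      Nat.dvd_gcd (orderOf_dvd_of_pow_eq_one hy1) (orderOf_dvd_of_pow_eq_one hj)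
    have hg2 : Nat.gcd (q - 1) (2 ^ j) ∣ 2 := by
      obtain ⟨m, hm⟩ : ∃ m, q - 1 = 2 * (2 * m + 1) := ⟨q / 4, by omega⟩
      rw [hm]
      have hcop : Nat.Coprime (2 * m + 1) (2 ^ j) := by
        apply Nat.Coprime.pow_right
        rw [Nat.coprime_comm, Nat.coprime_two_left]
        exact ⟨m, rfl⟩
      rw [Nat.Coprime.gcd_mul_right_cancel 2 hcop]
      exact Nat.gcd_dvd_left _ _
    exact orderOf_dvd_iff_pow_eq_one.mp (hd.trans hg2)
  rw [← QuotientGroup.mk_pow, mk_eq_one_iff, Units.val_pow_eq_pow_val] at hy2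
  obtain ⟨s, hs⟩ := hy2
  by_cases hb : b = 0
  · left
    rw [mk_eq_one_iff]
    exact ⟨a, by rw [hab, hb, zero_smul, add_zero]⟩
  · right
    have hab0 : a = 0 := by
      by_contra ha
      apply (Cfsg.Agent.Lib_helper8_GL2.nonScalar_iff _).mp hAns
      refine ⟨(s - a ^ 2 - b ^ 2 * c) / (2 * a * b), ?_⟩
      have e : (2 * a * b) • (A : M2) = (s - a ^ 2 - b ^ 2 * c) • (1 : M2) := by
        rw [hab, sq] at hs
        simp only [Matrix.add_mul, Matrix.mul_add, Matrix.smul_mul, Matrix.mul_smul,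
          Matrix.one_mul, Matrix.mul_one, hAA, smul_smul] at hs
        rw [sub_smul, sub_smul, ← hs]
        module
      have h2ab : 2 * a * b ≠ 0 := mul_ne_zero (mul_ne_zero h2 ha) hb
      rw [div_eq_inv_mul, ← smul_smul, ← e, smul_smul, inv_mul_cancel₀ h2ab, one_smul]
    rw [hab0, zero_smul, zero_add] at hab
    rw [QuotientGroup.eq, mem_center_iff]
    refine ⟨b⁻¹, ?_⟩
    have e : ((g⁻¹ * A : GL2) : M2) = b⁻¹ • (((g⁻¹ : GL2) : M2) * (g : M2)) := by
      rw [Units.val_mul, hab, Matrix.mul_smul, smul_smul, inv_mul_cancel₀ hb, one_smul]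
    rw [e, ← Units.val_mul, inv_mul_cancel, Units.val_one]

theorem hyp_card (h2 : (2 : ZMod q) ≠ 0) (hq2 : q % 2 = 1) (hq4 : q % 4 = 3) (A : GL2)
    (c : ZMod q) (htr : (A : M2).trace = 0) (hAA : (A : M2) * (A : M2) = c • (1 : M2))
    (hc0 : c ≠ 0) (hc : IsSquare c) (P : Subgroup PG) (hP : IsPGroup 2 P)
    (hPc : ∀ y ∈ P, y * QuotientGroup.mk A = QuotientGroup.mk A * y) : Nat.card P ≤ 4 := by
  classical
  have hpow : ∀ y ∈ P, ∃ j : ℕ, y ^ (2 ^ j) = 1 := by
    intro y hy
    obtain ⟨j, hj⟩ := hP ⟨y, hy⟩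
    exact ⟨j, by simpa using congrArg Subtype.val hj⟩
  obtain ⟨h₁, hh₁⟩ : ∃ h₁ : PG, ∀ y ∈ P, y = 1 ∨ y = QuotientGroup.mk A ∨ y = h₁ ∨
      y = h₁ * QuotientGroup.mk A := by
    by_cases hex : ∃ g₁ : GL2, (QuotientGroup.mk g₁ : PG) ∈ P ∧
        (g₁ : M2) * (A : M2) = -((A : M2) * (g₁ : M2))
    · obtain ⟨g₁, hg₁P, hg₁⟩ := hex
      refine ⟨QuotientGroup.mk g₁, ?_⟩
      intro y hy
      obtain ⟨g, rfl⟩ := QuotientGroup.mk_surjective y
      obtain ⟨j, hj⟩ := hpow _ hy
      rcases comm_cases g A (hPc _ hy) with h | h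
      · rcases hyp_comm h2 hq2 hq4 A c htr hAA hc0 hc g h j hj with h' | h'
        · left; exact h'
        · right; left; exact h'
      · have hG1 : (g₁ : M2) * ((g₁⁻¹ : GL2) : M2) = 1 := by
          rw [← Units.val_mul, mul_inv_cancel, Units.val_one]
        have hG1' : ((g₁⁻¹ : GL2) : M2) * (g₁ : M2) = 1 := by
          rw [← Units.val_mul, inv_mul_cancel, Units.val_one]
        have e1 : ((g₁⁻¹ : GL2) : M2) * (A : M2) = -((A : M2) * ((g₁⁻¹ : GL2) : M2)) := by
          have hA' : (A : M2) * (g₁ : M2) = -((g₁ : M2) * (A : M2)) := by rw [hg₁, neg_neg]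
          calc ((g₁⁻¹ : GL2) : M2) * (A : M2)
              = ((g₁⁻¹ : GL2) : M2) * ((A : M2) * (g₁ : M2)) * ((g₁⁻¹ : GL2) : M2) := by
                rw [Matrix.mul_assoc, Matrix.mul_assoc, hG1, Matrix.mul_one]
            _ = -(((g₁⁻¹ : GL2) : M2) * (g₁ : M2) * (A : M2) * ((g₁⁻¹ : GL2) : M2)) := by
                rw [hA']; simp [Matrix.mul_assoc]
            _ = -((A : M2) * ((g₁⁻¹ : GL2) : M2)) := by rw [hG1', Matrix.one_mul]
        have hcomm : ((g₁⁻¹ * g : GL2) : M2) * (A : M2) = (A : M2) * ((g₁⁻¹ * g : GL2) : M2) := by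
          rw [Units.val_mul, Matrix.mul_assoc, h, Matrix.mul_neg, ← Matrix.mul_assoc, e1,
            Matrix.neg_mul, neg_neg, Matrix.mul_assoc]
        have hmem : (QuotientGroup.mk (g₁⁻¹ * g) : PG) ∈ P := by
          rw [QuotientGroup.mk_mul, QuotientGroup.mk_inv]
          exact P.mul_mem (P.inv_mem hg₁P) hy
        obtain ⟨j', hj'⟩ := hpow _ hmem
        rcases hyp_comm h2 hq2 hq4 A c htr hAA hc0 hc (g₁⁻¹ * g) hcomm j' hj' with h' | h'
        · right; right; left
          rw [QuotientGroup.mk_mul, QuotientGroup.mk_inv, inv_mul_eq_one] at h'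
          exact h'.symm
        · right; right; right
          rw [QuotientGroup.mk_mul, QuotientGroup.mk_inv, inv_mul_eq_iff_eq_mul] at h'
          exact h'
    · refine ⟨1, ?_⟩
      intro y hy
      obtain ⟨g, rfl⟩ := QuotientGroup.mk_surjective y
      obtain ⟨j, hj⟩ := hpow _ hy
      rcases comm_cases g A (hPc _ hy) with h | h
      · rcases hyp_comm h2 hq2 hq4 A c htr hAA hc0 hc g h j hj with h' | h'
        · left; exact h'
        · right; left; exact h'
      · exact absurd ⟨g, hy, h⟩ hex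
  have hsub : (P : Set PG) ⊆ (({1, QuotientGroup.mk A, h₁, h₁ * QuotientGroup.mk A} :
      Finset PG) : Set PG) := by
    intro y hy
    simp only [Finset.coe_insert, Finset.coe_singleton, Set.mem_insert_iff,
      Set.mem_singleton_iff]
    exact hh₁ y hy
  calc Nat.card P = (P : Set PG).ncard := (Nat.card_coe_set_eq _)
    _ ≤ ((({1, QuotientGroup.mk A, h₁, h₁ * QuotientGroup.mk A} : Finset PG)) : Set PG).ncard :=
        Set.ncard_le_ncard hsub (Finset.finite_toSet _)
    _ = ({1, QuotientGroup.mk A, h₁, h₁ * QuotientGroup.mk A} : Finset PG).card :=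
        Set.ncard_coe_finset _
    _ ≤ 4 := Finset.card_le_four

theorem exists_common (h2 : (2 : ZMod q) ≠ 0) (A A' : GL2) (c : ZMod q)
    (htr : (A : M2).trace = 0) (htr' : (A' : M2).trace = 0)
    (hAA : (A : M2) * (A : M2) = c • (1 : M2)) (hAA' : (A' : M2) * (A' : M2) = c • (1 : M2))
    (hc : ¬ IsSquare c) (hne : (QuotientGroup.mk A' : PG) ≠ QuotientGroup.mk A) :
    ∃ w : PG, w ≠ 1 ∧ w * QuotientGroup.mk A = QuotientGroup.mk A * w ∧
      w * QuotientGroup.mk A' = QuotientGroup.mk A' * w := by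
  have hAns := ns_of_trace_zero h2 A htr
  obtain ⟨B, hB⟩ : ∃ B : M2, B = (A : M2) * (A' : M2) - (A' : M2) * (A : M2) := ⟨_, rfl⟩
  have hB0 : B ≠ 0 := by
    intro h0
    rw [h0] at hB
    have hcomm : (A' : M2) * (A : M2) = (A : M2) * (A' : M2) := (sub_eq_zero.mp hB.symm).symm
    obtain ⟨a, b, hab⟩ := Cfsg.Agent.S2507.commutant _ _ hAns hcomm
    have ha : a = 0 := by
      have ht := htr'
      rw [hab, Matrix.trace_add, Matrix.trace_smul, Matrix.trace_smul, Matrix.trace_one, htr,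
        Fintype.card_fin] at ht
      simp only [smul_eq_mul, mul_zero, add_zero] at ht
      have : (2 : ZMod q) * a = 0 := by push_cast at ht; linear_combination ht
      exact (mul_eq_zero.mp this).resolve_left h2
    rw [ha, zero_smul, zero_add] at hab
    apply hne
    rw [QuotientGroup.eq]
    have hb : b ≠ 0 := by
      rintro rfl
      rw [zero_smul] at hab
      have := det_ne A'
      rw [hab, Matrix.det_zero] at this
      exact this rfl
    rw [mem_center_iff]
    refine ⟨b⁻¹, ?_⟩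
    have hA : (A : M2) = b⁻¹ • (A' : M2) := by rw [hab, smul_smul, inv_mul_cancel₀ hb, one_smul]
    rw [Units.val_mul, hA, Matrix.mul_smul, ← Units.val_mul, inv_mul_cancel, Units.val_one]
  have hBA : B * (A : M2) = -((A : M2) * B) := by
    have e1 : B * (A : M2) + (A : M2) * B
        = ((A : M2) * (A : M2)) * (A' : M2) - (A' : M2) * ((A : M2) * (A : M2)) := by
      rw [hB]; noncomm_ring
    rw [hAA] at e1
    have e2 : B * (A : M2) + (A : M2) * B = 0 := by rw [e1]; simp
    exact eq_neg_of_add_eq_zero_left e2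
  have hBA' : B * (A' : M2) = -((A' : M2) * B) := by
    have e1 : B * (A' : M2) + (A' : M2) * B
        = (A : M2) * ((A' : M2) * (A' : M2)) - ((A' : M2) * (A' : M2)) * (A : M2) := by
      rw [hB]; noncomm_ring
    rw [hAA'] at e1
    have e2 : B * (A' : M2) + (A' : M2) * B = 0 := by rw [e1]; simp
    exact eq_neg_of_add_eq_zero_left e2
  have hBtr : B.trace = 0 := by rw [hB, Matrix.trace_sub, Matrix.trace_mul_comm, sub_self]
  have hBdet : B.det ≠ 0 := by
    intro hdet
    apply hc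
    obtain ⟨a, b, c', d, hAe⟩ : ∃ a b c d : ZMod q, (A : M2) = !![a, b; c, d] :=
      ⟨_, _, _, _, Matrix.eta_fin_two _⟩
    obtain ⟨p, r, s, t, hBe⟩ : ∃ a b c d : ZMod q, B = !![a, b; c, d] :=
      ⟨_, _, _, _, Matrix.eta_fin_two _⟩
    have hBtr' := hBtr
    rw [hBe, Matrix.trace_fin_two_of] at hBtr'
    rw [hBe, Matrix.det_fin_two_of] at hdet
    have hc00 : a * a + b * c' = c := by
      have := congrFun (congrFun hAA 0) 0
      rw [hAe, Matrix.mul_fin_two] at this
      simpa using this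
    have hanti : p * a + r * c' + (a * p + b * s) = 0 := by
      have := congrFun (congrFun hBA 0) 0
      rw [hAe, hBe, Matrix.mul_fin_two, Matrix.mul_fin_two] at this
      simp at this
      linear_combination this
    by_cases hr : r = 0
    · have hp : p = 0 := by
        have : p ^ 2 = 0 := by rw [hr] at hdet; linear_combination p * hBtr' - hdet
        exact (pow_eq_zero_iff (by norm_num)).mp this
      have ht0 : t = 0 := by rw [hp] at hBtr'; linear_combination hBtr'
      have hs0 : s ≠ 0 := by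
        rintro rfl
        apply hB0
        rw [hBe, hp, hr, ht0]
        ext i j
        fin_cases i <;> fin_cases j <;> rfl
      have hb0 : b = 0 := by
        rw [hp, hr] at hanti
        have : b * s = 0 := by linear_combination hanti
        exact (mul_eq_zero.mp this).resolve_right hs0
      exact ⟨a, by rw [← hc00, hb0]; ring⟩
    · refine ⟨(a * r - b * p) / r, ?_⟩
      have key : c * r ^ 2 = (a * r - b * p) ^ 2 := by
        linear_combination (-r ^ 2) * hc00 + b * r * hanti + b ^ 2 * hdet - b ^ 2 * p * hBtr'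
      field_simp
      linear_combination key
  obtain ⟨Bu, hBu⟩ : ∃ u : GL2, (u : M2) = B :=
    ⟨((Matrix.isUnit_iff_isUnit_det B).mpr (IsUnit.mk0 _ hBdet)).unit, rfl⟩
  have hneg : (QuotientGroup.mk (-1 : GL2) : PG) = 1 := by
    rw [mk_eq_one_iff]
    exact ⟨-1, by rw [Units.val_neg, Units.val_one, neg_smul, one_smul]⟩
  refine ⟨QuotientGroup.mk Bu, ?_, ?_, ?_⟩
  · rw [Ne, mk_eq_one_iff]
    rintro ⟨s, hs⟩
    rw [hBu] at hs
    have hs0 : s = 0 := by
      have hBtr' := hBtr
      rw [hs, Matrix.trace_smul, Matrix.trace_one, Fintype.card_fin] at hBtr'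
      have : (2 : ZMod q) * s = 0 := by
        simp only [smul_eq_mul] at hBtr'
        push_cast at hBtr'
        linear_combination hBtr'
      exact (mul_eq_zero.mp this).resolve_left h2
    apply hB0
    rw [hs, hs0, zero_smul]
  · have e : Bu * A = (-1 : GL2) * (A * Bu) := by
      apply Units.ext
      rw [Units.val_mul, Units.val_mul, Units.val_mul, Units.val_neg, Units.val_one, hBu, hBA,
        neg_one_mul]
    rw [← QuotientGroup.mk_mul, e, QuotientGroup.mk_mul, hneg, one_mul, QuotientGroup.mk_mul]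
  · have e : Bu * A' = (-1 : GL2) * (A' * Bu) := by
      apply Units.ext
      rw [Units.val_mul, Units.val_mul, Units.val_mul, Units.val_neg, Units.val_one, hBu, hBA',
        neg_one_mul]
    rw [← QuotientGroup.mk_mul, e, QuotientGroup.mk_mul, hneg, one_mul, QuotientGroup.mk_mul]

theorem main {k : ℕ} (hk : q + 1 = 2 ^ k) (hq : 7 ≤ q) (H : Sylow 2 PG) (x : PG) :
    (H : Subgroup PG) ⊓ MulAut.conj x • (H : Subgroup PG) ≠ ⊥ := by
  classical
  have hk3 : 3 ≤ k := by
    by_contra hcon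
    push Not at hcon
    have : 2 ^ k ≤ 2 ^ 2 := Nat.pow_le_pow_right (by norm_num) (by omega)
    omega
  obtain ⟨k', rfl⟩ : ∃ k', k = k' + 3 := ⟨k - 3, by omega⟩
  have h8 : 2 ^ 3 ∣ q + 1 := by rw [hk, pow_add]; exact Dvd.intro_left _ rfl
  have hq2 : q % 2 = 1 := by omega
  have hq4 : q % 4 = 3 := by omega
  have h2 : (2 : ZMod q) ≠ 0 := by
    intro h
    have h3 : ((2 : ℕ) : ZMod q) = 0 := by exact_mod_cast h
    rw [ZMod.natCast_eq_zero_iff] at h3
    have := Nat.le_of_dvd (by norm_num) h3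
    omega
  have hcardG : Nat.card PG = q * (q - 1) * (q + 1) := by
    apply nat_aux q _ (by omega)
    have h1 : Nat.card GL2 = (q ^ 2 - 1) * (q ^ 2 - q) := by
      rw [Matrix.card_GL_field, ZMod.card, Fin.prod_univ_two]
      simp
    have h2' : Nat.card (Subgroup.center GL2) = q - 1 := by
      rw [Matrix.GeneralLinearGroup.center_eq_range_scalar]
      have hinj : Function.Injective
          (Matrix.GeneralLinearGroup.scalar (Fin 2) : (ZMod q)ˣ →* GL2) := by
        intro a b h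
        have := congrArg (fun g : GL2 => (g : M2) 0 0) h
        simp [Matrix.GeneralLinearGroup.coe_scalar] at this
        exact Units.ext this
      rw [← Nat.card_congr (MonoidHom.ofInjective hinj).toEquiv, Nat.card_units, Nat.card_zmod]
    rw [← h1, ← h2']
    exact (Subgroup.card_eq_card_quotient_mul_card_subgroup _).symm
  have h8H : 2 ^ 3 ∣ Nat.card (H : Subgroup PG) := by
    apply H.pow_dvd_card_of_pow_dvd_card
    rw [hcardG]
    exact Dvd.dvd.mul_left h8 _
  have hHp : IsPGroup 2 (H : Subgroup PG) := H.isPGroup'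
  haveI : Nontrivial (H : Subgroup PG) := by
    apply (Finite.one_lt_card_iff_nontrivial).mp
    have := Nat.le_of_dvd Nat.card_pos h8H
    omega
  haveI := IsPGroup.center_nontrivial hHp
  have hcen2 : 2 ∣ Nat.card (Subgroup.center (H : Subgroup PG)) := by
    have hc : IsPGroup 2 (Subgroup.center (H : Subgroup PG)) := hHp.to_subgroup _
    rcases hc.card_eq_or_dvd with h | h
    · exact absurd h (Finite.one_lt_card).ne'
    · exact h
  obtain ⟨z', hz'⟩ := exists_prime_orderOf_dvd_card' 2 hcen2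
  obtain ⟨z, hzdef⟩ : ∃ z : PG, z = ((z' : (H : Subgroup PG)) : PG) := ⟨_, rfl⟩
  have hzH : z ∈ (H : Subgroup PG) := by rw [hzdef]; exact (z' : (H : Subgroup PG)).2
  have hz2 : z ^ 2 = 1 := by
    have h3 := pow_orderOf_eq_one z'
    rw [hz'] at h3
    rw [hzdef]
    have h4 := congrArg
      (fun w : Subgroup.center (H : Subgroup PG) => ((w : (H : Subgroup PG)) : PG)) h3
    simpa using h4
  have hz1 : z ≠ 1 := by
    intro h
    have h3 : z' = 1 := by
      apply Subtype.ext; apply Subtype.ext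
      rw [← hzdef, h]; rfl
    rw [h3, orderOf_one] at hz'
    omega
  have hzc : ∀ h ∈ (H : Subgroup PG), h * z = z * h := by
    intro h hh
    have := Subgroup.mem_center_iff.mp z'.2 ⟨h, hh⟩
    rw [hzdef]
    exact congrArg Subtype.val this
  obtain ⟨A, hA⟩ := QuotientGroup.mk_surjective z
  obtain ⟨c, hAA⟩ : ∃ c : ZMod q, (A : M2) * (A : M2) = c • (1 : M2) := by
    rw [← hA, ← QuotientGroup.mk_pow, mk_eq_one_iff, Units.val_pow_eq_pow_val, sq] at hz2
    exact hz2
  have hAns' : ¬ ∃ s : ZMod q, (A : M2) = s • (1 : M2) := by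
    rw [← mk_eq_one_iff, hA]; exact hz1
  have htr : (A : M2).trace = 0 := by
    by_contra ht
    apply hAns'
    refine ⟨(c + (A : M2).det) / (A : M2).trace, ?_⟩
    have e := Cfsg.Agent.Lib_helper4_SL2Cyc.sq_eq (A : M2)
    rw [hAA] at e
    have e' : (A : M2).trace • (A : M2) = (c + (A : M2).det) • (1 : M2) := by
      rw [add_smul, e]; abel
    rw [div_eq_inv_mul, ← smul_smul, ← e', smul_smul, inv_mul_cancel₀ ht, one_smul]
  have hc0 : c ≠ 0 := by
    rintro rfl
    rw [zero_smul] at hAA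
    have h3 := congrArg Matrix.det hAA
    rw [Matrix.det_mul, Matrix.det_zero] at h3
    exact det_ne A (mul_self_eq_zero.mp h3)
  have hPc : ∀ y ∈ (H : Subgroup PG), y * QuotientGroup.mk A = QuotientGroup.mk A * y := by
    intro y hy
    rw [hA]
    exact hzc y hy
  by_cases hc : IsSquare c
  · exfalso
    have h4 := hyp_card h2 hq2 hq4 A c htr hAA hc0 hc (H : Subgroup PG) hHp hPc
    have := Nat.le_of_dvd Nat.card_pos h8H
    omega
  · have hCp : IsPGroup 2 (Subgroup.centralizer ({z} : Set PG)) := by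
      rintro ⟨y, hy⟩
      refine ⟨k' + 3, ?_⟩
      apply Subtype.ext
      show y ^ 2 ^ (k' + 3) = 1
      rw [← hk]
      apply ell_pow h2 hq2 A c htr hAA hc y
      rw [hA]
      exact Subgroup.mem_centralizer_singleton_iff.mp hy
    have hHC : (H : Subgroup PG) ≤ Subgroup.centralizer ({z} : Set PG) := by
      intro h hh
      rw [Subgroup.mem_centralizer_singleton_iff]
      exact hzc h hh
    have hCeq : Subgroup.centralizer ({z} : Set PG) = (H : Subgroup PG) := H.is_maximal' hCp hHC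
    obtain ⟨X, rfl⟩ := QuotientGroup.mk_surjective x
    have hXX : (X : M2) * ((X⁻¹ : GL2) : M2) = 1 := by
      rw [← Units.val_mul, mul_inv_cancel, Units.val_one]
    have htr' : ((X * A * X⁻¹ : GL2) : M2).trace = 0 := by
      rw [Units.val_mul, Units.val_mul, Matrix.trace_mul_comm, ← Matrix.mul_assoc,
        ← Units.val_mul, inv_mul_cancel, Units.val_one, Matrix.one_mul, htr]
    have hAA' : ((X * A * X⁻¹ : GL2) : M2) * ((X * A * X⁻¹ : GL2) : M2) = c • (1 : M2) := by
      have e : (X * A * X⁻¹) * (X * A * X⁻¹) = X * (A * A) * X⁻¹ := by group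
      rw [← Units.val_mul, e, Units.val_mul, Units.val_mul, Units.val_mul, hAA, Matrix.mul_smul,
        Matrix.mul_one, Matrix.smul_mul, hXX]
    have hmk' : (QuotientGroup.mk (X * A * X⁻¹) : PG)
        = QuotientGroup.mk X * z * (QuotientGroup.mk X)⁻¹ := by
      rw [QuotientGroup.mk_mul, QuotientGroup.mk_mul, QuotientGroup.mk_inv, hA]
    obtain ⟨w, hw1, hwz, hwz'⟩ : ∃ w : PG, w ≠ 1 ∧ w * z = z * w ∧
        w * (QuotientGroup.mk X * z * (QuotientGroup.mk X)⁻¹)
          = (QuotientGroup.mk X * z * (QuotientGroup.mk X)⁻¹) * w := by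
      by_cases heq : (QuotientGroup.mk (X * A * X⁻¹) : PG) = QuotientGroup.mk A
      · refine ⟨z, hz1, rfl, ?_⟩
        rw [← hmk', heq, hA]
      · obtain ⟨w, hw1, hw2, hw3⟩ := exists_common h2 A (X * A * X⁻¹) c htr htr' hAA hAA' hc heq
        rw [hA] at hw2
        rw [hmk'] at hw3
        exact ⟨w, hw1, hw2, hw3⟩
    have hwH : w ∈ (H : Subgroup PG) := by
      rw [← hCeq, Subgroup.mem_centralizer_singleton_iff]
      exact hwz
    have hwK : w ∈ MulAut.conj (QuotientGroup.mk X : PG) • (H : Subgroup PG) := by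
      rw [Subgroup.mem_smul_pointwise_iff_exists]
      refine ⟨(QuotientGroup.mk X)⁻¹ * w * QuotientGroup.mk X, ?_, ?_⟩
      · rw [← hCeq, Subgroup.mem_centralizer_singleton_iff]
        calc (QuotientGroup.mk X : PG)⁻¹ * w * QuotientGroup.mk X * z
            = (QuotientGroup.mk X)⁻¹ * (w * (QuotientGroup.mk X * z * (QuotientGroup.mk X)⁻¹))
                * QuotientGroup.mk X := by group
          _ = (QuotientGroup.mk X)⁻¹ * ((QuotientGroup.mk X * z * (QuotientGroup.mk X)⁻¹) * w)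
                * QuotientGroup.mk X := by rw [hwz']
          _ = z * ((QuotientGroup.mk X)⁻¹ * w * QuotientGroup.mk X) := by group
      · rw [MulAut.smul_def, MulAut.conj_apply]
        group
    intro hbot
    have hmem : w ∈ (H : Subgroup PG) ⊓ MulAut.conj (QuotientGroup.mk X : PG) • (H : Subgroup PG) :=
      ⟨hwH, hwK⟩
    rw [hbot, Subgroup.mem_bot] at hmem
    exact hw1 hmem

end Aux

/-- Let q = 2^k − 1 ≥ 7 be a prime and let G = PGL(2,q), the general linear group of degree 2 over the field with q elements modulo its centre. Then any two Sylow 2-subgroups of G have a non-trivial intersection: for a Sylow 2-subgroup H and every x ∈ G, H ∩ H^x ≠ 1. -/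
theorem result {q k : ℕ} [Fact q.Prime] (hk : q + 1 = 2 ^ k) (hq : 7 ≤ q)
    (H : Sylow 2 (GL (Fin 2) (ZMod q) ⧸ Subgroup.center (GL (Fin 2) (ZMod q))))
    (x : GL (Fin 2) (ZMod q) ⧸ Subgroup.center (GL (Fin 2) (ZMod q))) :
    (H : Subgroup (GL (Fin 2) (ZMod q) ⧸ Subgroup.center (GL (Fin 2) (ZMod q)))) ⊓ MulAut.conj x • (H : Subgroup _) ≠ ⊥ := by
  exact main hk hq H x

end Cfsg.Agent.S2485
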