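import Cfsg.Statements.S2503
import Mathlib
import Cfsg.Agent.Lib_helper8_GL2
import Cfsg.Agent.Lib_helper4_SL2Cyc
import Cfsg.Agent.Lib_helper4_SL2Syl
import Cfsg.Agent.S2507
import Cfsg.Agent.S2508

set_option autoImplicit false
open Cfsg

namespace Cfsg.Agent.S2503

section Aux
open Matrix Cfsg.Agent.S2508 Cfsg.Agent.Lib_helper4_SL2Syl

variable {F : Type*} [Field F] [Fintype F]

local notation "SL2" => SpecialLinearGroup (Fin 2) F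

omit [Fintype F] in
theorem key_id (h2 : (2 : F) = 0) (t₀ g₀₀ g₀₁ g₁₀ g₁₁ α γ v₁ v₂ : F)
    (hdet : g₀₀ * g₁₁ - g₀₁ * g₁₀ = 1)
    (hα : α ^ 2 = 1 + (g₀₀ ^ 2 + t₀ * g₀₀ * g₁₀ + g₁₀ ^ 2))
    (hγ : γ ^ 2 = 1 + (g₀₁ ^ 2 + t₀ * g₀₁ * g₁₁ + g₁₁ ^ 2)) :
    (g₀₀ * v₁ + g₀₁ * v₂) ^ 2 + t₀ * (g₀₀ * v₁ + g₀₁ * v₂) * (g₁₀ * v₁ + g₁₁ * v₂)
        + (g₁₀ * v₁ + g₁₁ * v₂) ^ 2
      = (v₁ ^ 2 + t₀ * v₁ * v₂ + v₂ ^ 2) + (α * v₁ + γ * v₂) ^ 2 := by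
  linear_combination (-v₁ ^ 2) * hα - v₂ ^ 2 * hγ + t₀ * v₁ * v₂ * hdet
    + (-v₁ ^ 2 - v₂ ^ 2 + v₁ * v₂ * (g₀₀ * g₀₁ + g₁₀ * g₁₁ + t₀ * g₀₁ * g₁₀)
        - α * γ * v₁ * v₂) * h2

theorem exists_vec (h2 : (2 : F) = 0) (t₀ : F) (hnr : ∀ ρ : F, ρ ^ 2 - t₀ * ρ + 1 ≠ 0)
    (g : SL2) :
    ∃ v₁ v₂ : F, v₁ ^ 2 + t₀ * v₁ * v₂ + v₂ ^ 2 = 1 ∧
      ((g : Matrix (Fin 2) (Fin 2) F) 0 0 * v₁ + (g : Matrix (Fin 2) (Fin 2) F) 0 1 * v₂) ^ 2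
        + t₀ * ((g : Matrix (Fin 2) (Fin 2) F) 0 0 * v₁ + (g : Matrix (Fin 2) (Fin 2) F) 0 1 * v₂)
          * ((g : Matrix (Fin 2) (Fin 2) F) 1 0 * v₁ + (g : Matrix (Fin 2) (Fin 2) F) 1 1 * v₂)
        + ((g : Matrix (Fin 2) (Fin 2) F) 1 0 * v₁ + (g : Matrix (Fin 2) (Fin 2) F) 1 1 * v₂) ^ 2
        = 1 := by
  have haniso : ∀ x y : F, x ^ 2 + t₀ * x * y + y ^ 2 = 0 → x = 0 ∧ y = 0 := by
    intro x y h
    have hy : y = 0 := by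
      by_contra hy
      apply hnr (-x / y)
      field_simp
      linear_combination h
    subst hy
    refine ⟨?_, rfl⟩
    have : x ^ 2 = 0 := by linear_combination h
    exact (pow_eq_zero_iff (by norm_num)).mp this
  obtain ⟨g₀₀, hg₀₀⟩ : ∃ a : F, a = (g : Matrix (Fin 2) (Fin 2) F) 0 0 := ⟨_, rfl⟩
  obtain ⟨g₀₁, hg₀₁⟩ : ∃ a : F, a = (g : Matrix (Fin 2) (Fin 2) F) 0 1 := ⟨_, rfl⟩
  obtain ⟨g₁₀, hg₁₀⟩ : ∃ a : F, a = (g : Matrix (Fin 2) (Fin 2) F) 1 0 := ⟨_, rfl⟩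
  obtain ⟨g₁₁, hg₁₁⟩ : ∃ a : F, a = (g : Matrix (Fin 2) (Fin 2) F) 1 1 := ⟨_, rfl⟩
  have hdet := det_eq g
  rw [← hg₀₀, ← hg₀₁, ← hg₁₀, ← hg₁₁] at hdet ⊢
  obtain ⟨α, hα⟩ := Cfsg.Agent.S2507.exists_sqrt h2 (1 + (g₀₀ ^ 2 + t₀ * g₀₀ * g₁₀ + g₁₀ ^ 2))
  obtain ⟨γ, hγ⟩ := Cfsg.Agent.S2507.exists_sqrt h2 (1 + (g₀₁ ^ 2 + t₀ * g₀₁ * g₁₁ + g₁₁ ^ 2))
  obtain ⟨u₁, u₂, hu, hu0⟩ : ∃ u₁ u₂ : F, (u₁ ≠ 0 ∨ u₂ ≠ 0) ∧ α * u₁ + γ * u₂ = 0 := by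
    by_cases hαγ : α = 0 ∧ γ = 0
    · exact ⟨1, 0, Or.inl one_ne_zero, by rw [hαγ.1, hαγ.2]; ring⟩
    · refine ⟨γ, α, ?_, ?_⟩
      · by_contra hcon
        push Not at hcon
        exact hαγ ⟨hcon.2, hcon.1⟩
      · linear_combination (α * γ) * h2
  have hid := key_id h2 t₀ g₀₀ g₀₁ g₁₀ g₁₁ α γ u₁ u₂ hdet hα hγ
  rw [hu0] at hid
  obtain ⟨c, hc⟩ : ∃ c : F, c = u₁ ^ 2 + t₀ * u₁ * u₂ + u₂ ^ 2 := ⟨_, rfl⟩
  have hc0 : c ≠ 0 := by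
    intro h
    rw [h] at hc
    obtain ⟨h1, h3⟩ := haniso u₁ u₂ hc.symm
    rcases hu with h | h
    · exact h h1
    · exact h h3
  obtain ⟨s, hs⟩ := Cfsg.Agent.S2507.exists_sqrt h2 c⁻¹
  have hsc : s ^ 2 * c = 1 := by rw [hs]; exact inv_mul_cancel₀ hc0
  refine ⟨s * u₁, s * u₂, ?_, ?_⟩
  · linear_combination hsc - s ^ 2 * hc
  · linear_combination hsc - s ^ 2 * hc + s ^ 2 * hid

/-- The element of the torus with second column `(v₁, v₂)`. -/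
def tor (t₀ v₁ v₂ : F) (h : v₁ ^ 2 + t₀ * v₁ * v₂ + v₂ ^ 2 = 1) : SL2 :=
  ⟨!![v₂ + t₀ * v₁, v₁; -v₁, v₂], by rw [Matrix.det_fin_two_of]; linear_combination h⟩

omit [Fintype F] in
theorem tor_mem (t₀ v₁ v₂ : F) (h : v₁ ^ 2 + t₀ * v₁ * v₂ + v₂ ^ 2 = 1) :
    tor t₀ v₁ v₂ h ∈ Subgroup.centralizer ({comp t₀} : Set SL2) := by
  rw [Subgroup.mem_centralizer_singleton_iff]
  apply Subtype.ext
  show (!![v₂ + t₀ * v₁, v₁; -v₁, v₂] : Matrix (Fin 2) (Fin 2) F) * !![0, -1; 1, t₀]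
    = !![0, -1; 1, t₀] * !![v₂ + t₀ * v₁, v₁; -v₁, v₂]
  rw [Matrix.mul_fin_two, Matrix.mul_fin_two]
  ext i j
  fin_cases i <;> fin_cases j <;> simp <;> ring

omit [Fintype F] in
theorem tor_inv_val (t₀ v₁ v₂ : F) (h : v₁ ^ 2 + t₀ * v₁ * v₂ + v₂ ^ 2 = 1) :
    (((tor t₀ v₁ v₂ h)⁻¹ : SL2) : Matrix (Fin 2) (Fin 2) F)
      = !![v₂, -v₁; v₁, v₂ + t₀ * v₁] := by
  rw [Matrix.SpecialLinearGroup.coe_inv]
  show Matrix.adjugate (!![v₂ + t₀ * v₁, v₁; -v₁, v₂] : Matrix (Fin 2) (Fin 2) F) = _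
  rw [Matrix.adjugate_fin_two_of, neg_neg]

theorem main (h2' : 2 ∣ Fintype.card F) :
    ∃ A B : Subgroup (ProjectiveSpecialLinearGroup (Fin 2) F),
      IsCyclic A ∧ Nat.card A = Fintype.card F + 1 ∧ IsMulCommutative B ∧
        (∀ b ∈ B, b * b = 1) ∧ Nat.card B = Fintype.card F ∧
        ∀ g : ProjectiveSpecialLinearGroup (Fin 2) F,
          ∃ a ∈ A, ∃ b ∈ B, ∃ c ∈ A, g = a * b * c := by
  classical
  have h2 : (2 : F) = 0 := Cfsg.Agent.S2507.two_zero h2'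
  obtain ⟨t₀, ht₀⟩ := Cfsg.Agent.S2507.exists_t0 (F := F)
  have hnr : ∀ ρ : F, ρ ^ 2 - t₀ * ρ + 1 ≠ 0 := by
    intro ρ hρ
    obtain ⟨hρ0, hsum⟩ := root_sum t₀ ρ hρ
    exact ht₀ ρ hρ0 hsum
  have hztr : ((comp t₀ : SL2) : Matrix (Fin 2) (Fin 2) F).trace = t₀ := comp_trace t₀
  have hzns : Cfsg.Agent.Lib_helper8_GL2.NonScalar ((comp t₀ : SL2) : Matrix (Fin 2) (Fin 2) F) :=
    comp_ns t₀
  have hcyc : IsCyclic (Subgroup.centralizer ({comp t₀} : Set SL2)) := by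
    have hNE : ∀ l : F, l ^ 2 - ((comp t₀ : SL2) : Matrix (Fin 2) (Fin 2) F).trace * l
        + ((comp t₀ : SL2) : Matrix (Fin 2) (Fin 2) F).det ≠ 0 := by
      intro l
      rw [(comp t₀ : SL2).2, hztr]
      exact hnr l
    have hmem : ∀ g ∈ Subgroup.centralizer ({comp t₀} : Set SL2),
        (g : Matrix (Fin 2) (Fin 2) F)
          ∈ Cfsg.Agent.Lib_helper4_SL2Cyc.D ((comp t₀ : SL2) : Matrix (Fin 2) (Fin 2) F) := by
      intro g hg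
      have hg' : g * comp t₀ = comp t₀ * g := Subgroup.mem_centralizer_singleton_iff.mp hg
      rw [Cfsg.Agent.Lib_helper4_SL2Cyc.mem_D]
      exact Cfsg.Agent.S2507.commutant _ _ hzns (congrArg Subtype.val hg')
    exact Cfsg.Agent.Lib_helper4_SL2Cyc.cyclic_of_subalgebra
      (Subgroup.centralizer ({comp t₀} : Set SL2))
      ((comp t₀ : SL2) : Matrix (Fin 2) (Fin 2) F) hNE hmem
  have hcard : Nat.card (Subgroup.centralizer ({comp t₀} : Set SL2)) = Fintype.card F + 1 := by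
    have e : Nat.card ↥(Subgroup.centralizer ({comp t₀} : Set SL2))
        = Nat.card {B : SL2 // B * comp t₀ = comp t₀ * B} :=
      Nat.card_congr (Equiv.subtypeEquivRight (fun B => Subgroup.mem_centralizer_singleton_iff))
    rw [e, card_comm (comp t₀) hzns, hztr]
    exact card_S_nonsplit t₀ hnr
  have hinj : Function.Injective (QuotientGroup.mk' (Subgroup.center SL2)) := by
    rw [← MonoidHom.ker_eq_bot_iff, QuotientGroup.ker_mk', Cfsg.Agent.S2507.center_bot h2]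
  refine ⟨(Subgroup.centralizer ({comp t₀} : Set SL2)).map (QuotientGroup.mk' (Subgroup.center SL2)),
    (U : Subgroup SL2).map (QuotientGroup.mk' (Subgroup.center SL2)), ?_, ?_, ?_, ?_, ?_, ?_⟩
  · haveI := hcyc
    exact isCyclic_of_surjective ((QuotientGroup.mk' (Subgroup.center SL2)).subgroupMap _)
      (MonoidHom.subgroupMap_surjective _ _)
  · rw [Subgroup.card_map_of_injective hinj, hcard]
  · refine ⟨⟨?_⟩⟩
    rintro ⟨_, ⟨_, ⟨x, rfl⟩, rfl⟩⟩ ⟨_, ⟨_, ⟨y, rfl⟩, rfl⟩⟩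
    apply Subtype.ext
    show (QuotientGroup.mk' (Subgroup.center SL2) (um x))
        * (QuotientGroup.mk' (Subgroup.center SL2) (um y))
      = (QuotientGroup.mk' (Subgroup.center SL2) (um y))
        * (QuotientGroup.mk' (Subgroup.center SL2) (um x))
    rw [← map_mul, ← map_mul, um_add, um_add, add_comm]
  · rintro _ ⟨_, ⟨x, rfl⟩, rfl⟩
    rw [← map_mul, um_add]
    have : x + x = 0 := by linear_combination x * h2
    rw [this, um_zero, map_one]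
  · rw [Subgroup.card_map_of_injective hinj, card_U]
  · intro g
    obtain ⟨G, rfl⟩ := QuotientGroup.mk_surjective g
    obtain ⟨v₁, v₂, hv, hw⟩ := exists_vec h2 t₀ hnr G
    obtain ⟨w₁, hw₁⟩ : ∃ w : F, w = (G : Matrix (Fin 2) (Fin 2) F) 0 0 * v₁
        + (G : Matrix (Fin 2) (Fin 2) F) 0 1 * v₂ := ⟨_, rfl⟩
    obtain ⟨w₂, hw₂⟩ : ∃ w : F, w = (G : Matrix (Fin 2) (Fin 2) F) 1 0 * v₁
        + (G : Matrix (Fin 2) (Fin 2) F) 1 1 * v₂ := ⟨_, rfl⟩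
    rw [← hw₁, ← hw₂] at hw
    obtain ⟨b, hb⟩ : ∃ b : SL2, b = (tor t₀ w₁ w₂ hw)⁻¹ * (G * tor t₀ v₁ v₂ hv) := ⟨_, rfl⟩
    have hGa0 : ((G * tor t₀ v₁ v₂ hv : SL2) : Matrix (Fin 2) (Fin 2) F) 0 1 = w₁ := by
      rw [mul_entries, hw₁]; rfl
    have hGa1 : ((G * tor t₀ v₁ v₂ hv : SL2) : Matrix (Fin 2) (Fin 2) F) 1 1 = w₂ := by
      rw [mul_entries, hw₂]; rfl
    have hb01 : (b : Matrix (Fin 2) (Fin 2) F) 0 1 = 0 := by
      rw [hb, mul_entries, hGa0, hGa1, tor_inv_val]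
      show w₂ * w₁ + -w₁ * w₂ = 0
      ring
    have hb11 : (b : Matrix (Fin 2) (Fin 2) F) 1 1 = 1 := by
      rw [hb, mul_entries, hGa0, hGa1, tor_inv_val]
      show w₁ * w₁ + (w₂ + t₀ * w₁) * w₂ = 1
      linear_combination hw
    have hb00 : (b : Matrix (Fin 2) (Fin 2) F) 0 0 = 1 := by
      have := det_eq b
      rw [hb01, hb11, zero_mul, sub_zero, mul_one] at this
      exact this
    have hbU : b ∈ (U : Subgroup SL2) := by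
      refine ⟨(b : Matrix (Fin 2) (Fin 2) F) 1 0, ?_⟩
      apply ext2
      · rw [um_00, hb00]
      · rw [um_01, hb01]
      · rw [um_10]
      · rw [um_11, hb11]
    have hG : G = tor t₀ w₁ w₂ hw * b * (tor t₀ v₁ v₂ hv)⁻¹ := by
      rw [hb]; group
    refine ⟨QuotientGroup.mk' (Subgroup.center SL2) (tor t₀ w₁ w₂ hw),
      Subgroup.mem_map_of_mem _ (tor_mem t₀ w₁ w₂ hw),
      QuotientGroup.mk' (Subgroup.center SL2) b, Subgroup.mem_map_of_mem _ hbU,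
      QuotientGroup.mk' (Subgroup.center SL2) (tor t₀ v₁ v₂ hv)⁻¹,
      Subgroup.mem_map_of_mem _ (inv_mem (tor_mem t₀ v₁ v₂ hv)), ?_⟩
    rw [← map_mul, ← map_mul, ← hG]
    rfl

end Aux

/-- Let F be a finite field with q = 2^t ≥ 4 elements and L = PSL(2,F). Then L has a cyclic subgroup A of order q + 1 and an elementary abelian 2-subgroup B of order q such that L = ABA: every element of L is a product a·b·a' with a, a' ∈ A and b ∈ B. -/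
theorem result {F : Type*} [Field F] [Fintype F]
    (h2 : 2 ∣ Fintype.card F) (h4 : 4 ≤ Fintype.card F) :
    ∃ A B : Subgroup (Matrix.ProjectiveSpecialLinearGroup (Fin 2) F),
      IsCyclic A ∧ Nat.card A = Fintype.card F + 1 ∧ IsMulCommutative B ∧ (∀ b ∈ B, b * b = 1) ∧
        Nat.card B = Fintype.card F ∧
        ∀ g : Matrix.ProjectiveSpecialLinearGroup (Fin 2) F, ∃ a ∈ A, ∃ b ∈ B, ∃ c ∈ A, g = a * b * c := by
  exact main h2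

end Cfsg.Agent.S2503
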