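import Cfsg.Statements.S2809
import Cfsg.Agent.Lib_helper7_Stab

set_option autoImplicit false
open Cfsg

namespace Cfsg.Agent.S2809

/-- Let H be a finite group, p a prime, R a p-subgroup of H with C_H(R) ≤ R, and L a subgroup of N_H(R) acting nilpotently on R (some iterated commutator [R, L, …, L] is trivial). Then L is a p-group. -/
theorem result {H : Type*} [Group H] [Finite H] {p : ℕ} [Fact p.Prime] (R : Subgroup H) (hR : IsPGroup p ↥R) (hC : Subgroup.centralizer (R : Set H) ≤ R) (L : Subgroup H) (hL : L ≤ Subgroup.normalizer (R : Set H)) (hnil : ∃ n : ℕ, Cfsg.iterCommutator R L n = ⊥) : IsPGroup p ↥L := by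
  obtain ⟨n, hn⟩ := hnil
  have hp : p.Prime := Fact.out
  have hle : ∀ i, Cfsg.iterCommutator R L i ≤ R := by
    intro i
    induction i with
    | zero => exact le_rfl
    | succ j ih =>
      show ⁅Cfsg.iterCommutator R L j, L⁆ ≤ R
      rw [Subgroup.commutator_le]
      intro g₁ h₁ g₂ h₂
      have h3 := (Subgroup.mem_normalizer_iff.mp (hL h₂) g₁⁻¹).mp (R.inv_mem (ih h₁))
      have h4 := R.mul_mem (ih h₁) h3
      show g₁ * g₂ * g₁⁻¹ * g₂⁻¹ ∈ R
      simpa [mul_assoc] using h4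
  apply Cfsg.Agent.Lib_helper7_Stab.isPGroup_of_forall_mem_coprime_eq_one hp
  intro x hxL hx
  let A : ℕ → Subgroup H := fun i => Cfsg.iterCommutator R L (n - i)
  have hA0 : A 0 = ⊥ := by simp [A, hn]
  have hAn : A n = R := by simp [A, Cfsg.iterCommutator]
  have hcomm := Cfsg.Agent.Lib_helper7_Stab.commute_of_chain x hx n A hA0
    (by
      intro i _ u hu
      obtain ⟨k, hk⟩ := hR ⟨u, hle _ hu⟩
      exact ⟨k, by simpa using congrArg Subtype.val hk⟩)
    (by
      intro i hi u hu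
      have e : n - i = (n - (i + 1)) + 1 := by omega
      show x * u * x⁻¹ * u⁻¹ ∈ Cfsg.iterCommutator R L (n - i)
      rw [e]
      show x * u * x⁻¹ * u⁻¹ ∈ ⁅Cfsg.iterCommutator R L (n - (i + 1)), L⁆
      have h1 : u * x * u⁻¹ * x⁻¹ ∈ ⁅Cfsg.iterCommutator R L (n - (i + 1)), L⁆ :=
        Subgroup.commutator_mem_commutator hu hxL
      have h2 := Subgroup.inv_mem _ h1
      have e2 : (u * x * u⁻¹ * x⁻¹)⁻¹ = x * u * x⁻¹ * u⁻¹ := by group
      rwa [e2] at h2)
  have hxR : x ∈ R := hC (by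
    rw [Subgroup.mem_centralizer_iff]
    intro u hu
    exact (hcomm n le_rfl u (by rw [hAn]; exact hu)).symm)
  obtain ⟨k, hk⟩ := hR ⟨x, hxR⟩
  exact Cfsg.Agent.Lib_helper7_Stab.eq_one_of_isPGroup_of_coprime k (by simpa using congrArg Subtype.val hk) hx

end Cfsg.Agent.S2809
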