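import Cfsg.Statements.S2810
import Cfsg.Agent.Lib_helper7_Stab

set_option autoImplicit false
open Cfsg

namespace Cfsg.Agent.S2810

/-- Let H be a finite group of characteristic p and L a subgroup of H centralizing every factor of some H-invariant chain 1 = A₀ ≤ A₁ ≤ … ≤ Aₙ = O_p(H) of normal subgroups (that is, [A_{i+1}, L] ≤ Aᵢ for each i). Then L ≤ O_p(H). -/
theorem result {H : Type*} [Group H] [Finite H] {p : ℕ} [Fact p.Prime] (hchar : Subgroup.centralizer (Cfsg.pCore p H : Set H) ≤ Cfsg.pCore p H) (L : Subgroup H) (n : ℕ) (A : Fin (n + 1) → Subgroup H) (h0 : A 0 = ⊥) (hn : A (Fin.last n) = Cfsg.pCore p H) (hmono : Monotone A) (hnorm : ∀ i, (A i).Normal) (hcent : ∀ i : Fin n, ⁅A i.succ, L⁆ ≤ A i.castSucc) : L ≤ Cfsg.pCore p H := by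
  let D : Subgroup H :=
    { carrier := {g | ∀ i : Fin n, ∀ u ∈ A i.succ, g * u * g⁻¹ * u⁻¹ ∈ A i.castSucc}
      one_mem' := by
        intro i u hu
        simp
      mul_mem' := by
        intro g h hg hh i u hu
        have h1 := (hnorm i.castSucc).conj_mem _ (hh i u hu) g
        have h2 := hg i u hu
        have h3 := (A i.castSucc).mul_mem h1 h2
        have e : g * (h * u * h⁻¹ * u⁻¹) * g⁻¹ * (g * u * g⁻¹ * u⁻¹) = g * h * u * (g * h)⁻¹ * u⁻¹ := by
          group
        rwa [e] at h3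
      inv_mem' := by
        intro g hg i u hu
        have h1 := (A i.castSucc).inv_mem (hg i u hu)
        have h2 := (hnorm i.castSucc).conj_mem _ h1 g⁻¹
        have e : g⁻¹ * (g * u * g⁻¹ * u⁻¹)⁻¹ * g⁻¹⁻¹ = g⁻¹ * u * g⁻¹⁻¹ * u⁻¹ := by group
        rwa [e] at h2 }
  have hDn : D.Normal := by
    constructor
    intro g hg k i u hu
    have hu' : k⁻¹ * u * k ∈ A i.succ := by
      have := (hnorm i.succ).conj_mem u hu k⁻¹
      simpa using this
    have h1 := hg i _ hu'
    have h2 := (hnorm i.castSucc).conj_mem _ h1 k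
    have e : k * (g * (k⁻¹ * u * k) * g⁻¹ * (k⁻¹ * u * k)⁻¹) * k⁻¹ =
        k * g * k⁻¹ * u * (k * g * k⁻¹)⁻¹ * u⁻¹ := by group
    rwa [e] at h2
  have hLD : L ≤ D := by
    intro l hl i u hu
    have h1 : u * l * u⁻¹ * l⁻¹ ∈ ⁅A i.succ, L⁆ := Subgroup.commutator_mem_commutator hu hl
    have h2 := (A i.castSucc).inv_mem (hcent i h1)
    have e : (u * l * u⁻¹ * l⁻¹)⁻¹ = l * u * l⁻¹ * u⁻¹ := by group
    rwa [e] at h2
  have hDp : IsPGroup p D := by
    apply Cfsg.Agent.Lib_helper7_Stab.isPGroup_of_forall_mem_coprime_eq_one Fact.out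
    intro x hxD hx
    let A' : ℕ → Subgroup H := fun i => if h : i < n + 1 then A ⟨i, h⟩ else ⊥
    have hA'le : ∀ i, A' i ≤ Cfsg.pCore p H := by
      intro i
      by_cases h : i < n + 1
      · simp only [A', h, dif_pos]
        rw [← hn]
        exact hmono (Fin.le_last _)
      · simp only [A', h, dif_neg, not_false_eq_true]
        exact bot_le
    have hA'0 : A' 0 = ⊥ := by
      simp only [A', Nat.zero_lt_succ, dif_pos]
      exact h0
    have hA'n : A' n = Cfsg.pCore p H := by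
      simp only [A', Nat.lt_succ_self, dif_pos]
      exact hn
    have hcomm := Cfsg.Agent.Lib_helper7_Stab.commute_of_chain x hx n A' hA'0
      (by
        intro i _ u hu
        obtain ⟨k, hk⟩ := Cfsg.Agent.Lib_helper7_Stab.isPGroup_pCore (p := p) ⟨u, hA'le i hu⟩
        exact ⟨k, by simpa using congrArg Subtype.val hk⟩)
      (by
        intro i hi u hu
        have h1 : i + 1 < n + 1 := by omega
        have h2 : i < n + 1 := by omega
        simp only [A', h1, h2, dif_pos] at hu ⊢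
        exact hxD ⟨i, hi⟩ u hu)
    have hxC : x ∈ Cfsg.pCore p H := hchar (by
      rw [Subgroup.mem_centralizer_iff]
      intro u hu
      exact (hcomm n le_rfl u (by rw [hA'n]; exact hu)).symm)
    obtain ⟨k, hk⟩ := Cfsg.Agent.Lib_helper7_Stab.isPGroup_pCore (p := p) ⟨x, hxC⟩
    exact Cfsg.Agent.Lib_helper7_Stab.eq_one_of_isPGroup_of_coprime k (by simpa using congrArg Subtype.val hk) hx
  exact hLD.trans (Cfsg.Agent.Lib_helper7_Stab.le_pCore D hDn hDp)

end Cfsg.Agent.S2810
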