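import Cfsg.Statements.S2813
import Cfsg.Agent.Lib_helper7_Stab

set_option autoImplicit false
open Cfsg

namespace Cfsg.Agent.S2813

/-- Let K be a subgroup of the finite group H with O_p(K) = 1 and Y a p-subgroup of N_H(K) with [K, Y, Y] = 1. Then [K, Y] = 1. -/
theorem result {H : Type*} [Group H] [Finite H] {p : ℕ} [Fact p.Prime] (K : Subgroup H) (hO : Cfsg.pCore p ↥K = ⊥) (Y : Subgroup H) (hY : IsPGroup p ↥Y) (hYK : Y ≤ Subgroup.normalizer (K : Set H)) (hq : ⁅⁅K, Y⁆, Y⁆ = ⊥) : ⁅K, Y⁆ = ⊥ := by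
  have hXK : ⁅K, Y⁆ ≤ K := by
    rw [Subgroup.commutator_le]
    intro k hk y hy
    have h1 := (Subgroup.mem_normalizer_iff.mp (hYK hy) k⁻¹).mp (K.inv_mem hk)
    have h2 := K.mul_mem hk h1
    show k * y * k⁻¹ * y⁻¹ ∈ K
    simpa [mul_assoc] using h2
  have hKX : K ≤ Subgroup.normalizer ((⁅K, Y⁆ : Subgroup H) : Set H) := by
    have key : ∀ k' ∈ K, ⁅K, Y⁆ ≤ (⁅K, Y⁆).comap (MulAut.conj k').toMonoidHom := by
      intro k' hk'
      rw [Subgroup.commutator_le]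
      intro k hk y hy
      rw [Subgroup.mem_comap]
      have h1 : (k' * k) * y * (k' * k)⁻¹ * y⁻¹ ∈ ⁅K, Y⁆ :=
        Subgroup.commutator_mem_commutator (K.mul_mem hk' hk) hy
      have h2 : k' * y * k'⁻¹ * y⁻¹ ∈ ⁅K, Y⁆ := Subgroup.commutator_mem_commutator hk' hy
      have h3 := Subgroup.mul_mem _ h1 (Subgroup.inv_mem _ h2)
      have e : (k' * k) * y * (k' * k)⁻¹ * y⁻¹ * (k' * y * k'⁻¹ * y⁻¹)⁻¹ =
          k' * (k * y * k⁻¹ * y⁻¹) * k'⁻¹ := by group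
      rw [e] at h3
      exact h3
    intro k' hk'
    rw [Subgroup.mem_normalizer_iff]
    intro u
    constructor
    · intro hu
      exact key k' hk' hu
    · intro hu
      have := key k'⁻¹ (K.inv_mem hk') hu
      rw [Subgroup.mem_comap] at this
      simpa [mul_assoc] using this
  have hXY : ⁅⁅K, Y⁆, Y⁆ = ⊥ := hq
  have hXX : ⁅⁅K, Y⁆, ⁅K, Y⁆⁆ = ⊥ := by
    apply Subgroup.commutator_commutator_eq_bot_of_rotate
    · rw [Subgroup.commutator_comm Y ⁅K, Y⁆, hXY]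
      exact Subgroup.commutator_bot_left K
    · have h1 : ⁅⁅K, Y⁆, K⁆ ≤ ⁅K, Y⁆ := by
        rw [Subgroup.commutator_le]
        intro x hx k hk
        have h2 := (Subgroup.mem_normalizer_iff.mp (hKX hk) x⁻¹).mp (Subgroup.inv_mem _ hx)
        have h3 := Subgroup.mul_mem _ hx h2
        show x * k * x⁻¹ * k⁻¹ ∈ ⁅K, Y⁆
        simpa [mul_assoc] using h3
      rw [eq_bot_iff, ← hXY]
      exact Subgroup.commutator_mono h1 le_rfl
  have hab : ∀ a ∈ ⁅K, Y⁆, ∀ b ∈ ⁅K, Y⁆, a * b = b * a := by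
    intro a ha b hb
    have h1 := Subgroup.commutator_eq_bot_iff_le_centralizer.mp hXX
    have h2 := h1 ha
    rw [Subgroup.mem_centralizer_iff] at h2
    exact (h2 b hb).symm
  let N : Subgroup H :=
    { carrier := {x | x ∈ ⁅K, Y⁆ ∧ ∃ j : ℕ, x ^ (p ^ j) = 1}
      one_mem' := ⟨Subgroup.one_mem _, 0, by simp⟩
      mul_mem' := by
        rintro a b ⟨ha, j, hj⟩ ⟨hb, j', hj'⟩
        refine ⟨Subgroup.mul_mem _ ha hb, j + j', ?_⟩
        have hc : Commute a b := hab a ha b hb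
        rw [hc.mul_pow, pow_add, pow_mul, hj, one_pow, mul_comm (p ^ j) (p ^ j'), pow_mul, hj', one_pow,
          one_mul]
      inv_mem' := by
        rintro a ⟨ha, j, hj⟩
        exact ⟨Subgroup.inv_mem _ ha, j, by rw [inv_pow, hj, inv_one]⟩ }
  have hNK : N ≤ K := fun x hx => hXK hx.1
  have hNp : IsPGroup p N := by
    rintro ⟨x, hx, j, hj⟩
    exact ⟨j, Subtype.ext hj⟩
  have hKN : K ≤ Subgroup.normalizer (N : Set H) := by
    have key : ∀ k ∈ K, ∀ x ∈ N, k * x * k⁻¹ ∈ N := by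
      rintro k hk x ⟨hx, j, hj⟩
      refine ⟨(Subgroup.mem_normalizer_iff.mp (hKX hk) x).mp hx, j, ?_⟩
      rw [conj_pow, hj, mul_one, mul_inv_cancel]
    intro k hk
    rw [Subgroup.mem_normalizer_iff]
    intro u
    constructor
    · exact key k hk u
    · intro hu
      have := key k⁻¹ (K.inv_mem hk) _ hu
      simpa [mul_assoc] using this
  have hN : N = ⊥ := by
    have h1 := Cfsg.Agent.Lib_helper7_Stab.le_pCoreIn N K hNK hNp hKN
    rw [Cfsg.Agent.Lib_helper7_Stab.pCoreIn_eq_bot K hO] at h1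
    exact eq_bot_iff.mpr h1
  rw [eq_bot_iff, Subgroup.commutator_le]
  intro k hk y hy
  rw [Subgroup.mem_bot]
  have ha : y * k * y⁻¹ * k⁻¹ ∈ ⁅K, Y⁆ := by
    have h1 : k * y * k⁻¹ * y⁻¹ ∈ ⁅K, Y⁆ := Subgroup.commutator_mem_commutator hk hy
    have h2 := Subgroup.inv_mem _ h1
    have e : (k * y * k⁻¹ * y⁻¹)⁻¹ = y * k * y⁻¹ * k⁻¹ := by group
    rwa [e] at h2
  have hcomm : y * (y * k * y⁻¹ * k⁻¹) = (y * k * y⁻¹ * k⁻¹) * y := by
    have h1 := Subgroup.commutator_eq_bot_iff_le_centralizer.mp hXY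
    have h2 := h1 ha
    rw [Subgroup.mem_centralizer_iff] at h2
    exact h2 y hy
  obtain ⟨j, hj⟩ := hY ⟨y, hy⟩
  have hj' : y ^ (p ^ j) = 1 := by simpa using congrArg Subtype.val hj
  have h1 : y * k * y⁻¹ = (y * k * y⁻¹ * k⁻¹) * k := by group
  have h2 := Cfsg.Agent.Lib_helper7_Stab.conj_pow_eq y k (y * k * y⁻¹ * k⁻¹) h1 hcomm (p ^ j)
  rw [hj'] at h2
  have h3 : (y * k * y⁻¹ * k⁻¹) ^ (p ^ j) = 1 := by
    have : k = (y * k * y⁻¹ * k⁻¹) ^ (p ^ j) * k := by simpa using h2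
    exact mul_eq_right.mp this.symm
  have h4 : y * k * y⁻¹ * k⁻¹ ∈ N := ⟨ha, j, h3⟩
  rw [hN, Subgroup.mem_bot] at h4
  have h5 : y * k * y⁻¹ = k := by rw [h1, h4, one_mul]
  show k * y * k⁻¹ * y⁻¹ = 1
  calc k * y * k⁻¹ * y⁻¹ = k * (y * k * y⁻¹)⁻¹ := by group
    _ = 1 := by rw [h5, mul_inv_cancel]

end Cfsg.Agent.S2813
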