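import Cfsg.Statements.S2818
import Cfsg.Agent.Lib_helper1_PGroup

set_option autoImplicit false
open Cfsg

namespace Cfsg.Agent.S2818

/-- Let P be a finite p-subgroup of a group G and H a subgroup of N_G(P) with [P, H] ≤ Ω₁(Z(P)) (the elements of order dividing p in the centre of P). Then H centralizes the Frattini subgroup of P. -/
theorem result {G : Type*} [Group G] [Finite G] {p : ℕ} [Fact p.Prime] (P : Subgroup G) (hP : IsPGroup p ↥P) (H : Subgroup G) (hH : H ≤ Subgroup.normalizer (P : Set G)) (h : ⁅P, H⁆ ≤ Cfsg.omegaOne p (P ⊓ Subgroup.centralizer (P : Set G))) : ⁅(frattini ↥P).map P.subtype, H⁆ = ⊥ := by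
  have hΩle : Cfsg.omegaOne p (P ⊓ Subgroup.centralizer (P : Set G)) ≤ P ⊓ Subgroup.centralizer (P : Set G) := by
    unfold Cfsg.omegaOne
    rw [Subgroup.closure_le]
    intro x hx
    exact hx.1
  have hΩexp : ∀ w ∈ Cfsg.omegaOne p (P ⊓ Subgroup.centralizer (P : Set G)), w ^ p = 1 := by
    intro w hw
    have key : w ∈ P ⊓ Subgroup.centralizer (P : Set G) ∧ w ^ p = 1 := by
      unfold Cfsg.omegaOne at hw
      induction hw using Subgroup.closure_induction with
      | mem x hx => exact hx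
      | one => exact ⟨Subgroup.one_mem _, one_pow p⟩
      | mul a b _ _ ha hb =>
        refine ⟨Subgroup.mul_mem _ ha.1 hb.1, ?_⟩
        have hc : Commute a b := by
          have h1 := (Subgroup.mem_inf.mp hb.1).2
          rw [Subgroup.mem_centralizer_iff] at h1
          exact h1 a (Subgroup.mem_inf.mp ha.1).1
        rw [hc.mul_pow, ha.2, hb.2, one_mul]
      | inv a _ ha => exact ⟨Subgroup.inv_mem _ ha.1, by rw [inv_pow, ha.2, inv_one]⟩
    exact key.2
  have hΩcomm : ∀ a ∈ Cfsg.omegaOne p (P ⊓ Subgroup.centralizer (P : Set G)),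
      ∀ b ∈ P, a * b = b * a := by
    intro a ha b hb
    have h1 := (Subgroup.mem_inf.mp (hΩle ha)).2
    rw [Subgroup.mem_centralizer_iff] at h1
    exact (h1 b hb).symm
  rw [eq_bot_iff, Subgroup.commutator_le]
  intro x hx h' hh'
  obtain ⟨x', hx', rfl⟩ := hx
  rw [Subgroup.mem_bot]
  have hmem : ∀ y : P, (y : G) * h' * (y : G)⁻¹ * h'⁻¹ ∈
      Cfsg.omegaOne p (P ⊓ Subgroup.centralizer (P : Set G)) :=
    fun y => h (Subgroup.commutator_mem_commutator y.2 hh')
  let f : P →* Cfsg.omegaOne p (P ⊓ Subgroup.centralizer (P : Set G)) :=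
    MonoidHom.mk' (fun y => ⟨(y : G) * h' * (y : G)⁻¹ * h'⁻¹, hmem y⟩) (by
      intro a b
      apply Subtype.ext
      show ((a * b : P) : G) * h' * ((a * b : P) : G)⁻¹ * h'⁻¹ =
        ((a : G) * h' * (a : G)⁻¹ * h'⁻¹) * ((b : G) * h' * (b : G)⁻¹ * h'⁻¹)
      have hcb := hΩcomm _ (hmem b) (a : G) a.2
      have hcab := hΩcomm _ (hmem b) _ (hΩle (hmem a)).1
      rw [Subgroup.coe_mul]
      calc (a : G) * (b : G) * h' * ((a : G) * (b : G))⁻¹ * h'⁻¹
          = (a : G) * ((b : G) * h' * (b : G)⁻¹ * h'⁻¹) * h' * (a : G)⁻¹ * h'⁻¹ := by group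
        _ = ((b : G) * h' * (b : G)⁻¹ * h'⁻¹) * (a : G) * h' * (a : G)⁻¹ * h'⁻¹ := by rw [← hcb]
        _ = ((b : G) * h' * (b : G)⁻¹ * h'⁻¹) * ((a : G) * h' * (a : G)⁻¹ * h'⁻¹) := by group
        _ = ((a : G) * h' * (a : G)⁻¹ * h'⁻¹) * ((b : G) * h' * (b : G)⁻¹ * h'⁻¹) := hcab)
  have hfr : frattini ↥f.range = ⊥ := by
    apply Cfsg.Agent.Lib_helper1_PGroup.frattini_eq_bot_of_elementary (p := p)
    · intro a b
      apply Subtype.ext
      apply Subtype.ext
      exact hΩcomm _ a.1.2 _ (hΩle b.1.2).1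
    · intro y
      apply Subtype.ext
      apply Subtype.ext
      exact hΩexp _ y.1.2
  have hsurj : Function.Surjective f.rangeRestrict := f.rangeRestrict_surjective
  have h1 := frattini_le_comap_frattini_of_surjective hsurj
  rw [hfr] at h1
  have h2 := h1 hx'
  rw [Subgroup.mem_comap, Subgroup.mem_bot] at h2
  have h3 : f x' = 1 := by
    have := congrArg Subtype.val h2
    simpa using this
  have h4 := congrArg Subtype.val h3
  exact h4

end Cfsg.Agent.S2818
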