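import Cfsg.Statements.S2823
import Cfsg.Agent.Lib_helper7_Norm2
import Cfsg.Agent.Lib_helper7_PReduced3

set_option autoImplicit false
open Cfsg

namespace Cfsg.Agent.S2823

/-- Let H be a finite group, p a prime, T a Sylow p-subgroup and L a subgroup of characteristic p containing T; let Z_L be the subgroup generated by the Ω₁(Z(S)) over the Sylow p-subgroups S of L and O^p(L) the subgroup generated by the elements of L of order prime to p. Then Z_L = Ω₁(Z(L))·[Z_L, O^p(L)] and [Z_L, L] = [Z_L, O^p(L)]. -/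
theorem result {H : Type*} [Group H] [Finite H] {p : ℕ} [Fact p.Prime] (T : Sylow p H) (L : Subgroup H) (hTL : (T : Subgroup H) ≤ L) (hL : Subgroup.centralizer (Cfsg.pCore p ↥L : Set ↥L) ≤ Cfsg.pCore p ↥L) : Cfsg.sylowCenterClosure p L = (Cfsg.omegaOne p (L ⊓ Subgroup.centralizer ((L : Subgroup H) : Set H))) ⊔ ⁅Cfsg.sylowCenterClosure p L, (Cfsg.pResidual p ↥L).map L.subtype⁆ ∧ ⁅Cfsg.sylowCenterClosure p L, L⁆ = ⁅Cfsg.sylowCenterClosure p L, (Cfsg.pResidual p ↥L).map L.subtype⁆ := by
  have h := Cfsg.Agent.Lib_helper7_PReduced3.largestOf_sylow T L hTL hL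
  have hV : Cfsg.IsElementaryAbelian p (Cfsg.sylowCenterClosure p L) :=
    Cfsg.Agent.Lib_helper7_PReduced.elementaryAbelian_of_le h.2.2.2.2.1
      (Cfsg.Agent.Lib_helper7_PReduced.largestOf_dest (p := p) L).2.1
  exact Cfsg.Agent.Lib_helper7_Norm2.center_closure_structure T L hTL hV

end Cfsg.Agent.S2823
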