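import Cfsg.Statements.S2829
import Cfsg.Agent.Lib_helper7_PCore
import Cfsg.Agent.Lib_helper7_Sylow

set_option autoImplicit false
open Cfsg

namespace Cfsg.Agent.S2829

/-- Every strongly p-irreducible finite group is p-irreducible. -/
theorem result {H : Type*} [Group H] [Finite H] {p : ℕ} [Fact p.Prime] (hH : Cfsg.IsStronglyPIrreducible p H) : Cfsg.IsPIrreducible p H := by
  obtain ⟨h1, h2⟩ := hH
  refine ⟨h1, fun N hN hNc => h2 N hN ?_⟩
  intro hle
  apply hNc
  intro P
  constructor
  intro x hx n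
  have hc : (n * x * n⁻¹ * x⁻¹ : ↥N) ∈ (Cfsg.pCore p H).subgroupOf N := by
    rw [Subgroup.mem_subgroupOf]
    apply hle
    have : (n : H) * (x : H) * (n : H)⁻¹ * (x : H)⁻¹ ∈ ⁅N, (⊤ : Subgroup H)⁆ :=
      Subgroup.commutator_mem_commutator n.2 (Subgroup.mem_top _)
    exact this
  have hP : (Cfsg.pCore p H).subgroupOf N ≤ P := by
    haveI := Cfsg.Agent.Lib_helper7_PCore.pCore_normal (G := H) p
    haveI : ((Cfsg.pCore p H).subgroupOf N).Normal := Subgroup.Normal.subgroupOf inferInstance N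
    have hpg : IsPGroup p ((Cfsg.pCore p H).subgroupOf N) :=
      (Cfsg.Agent.Lib_helper7_PCore.pCore_isPGroup (G := H) p).comap_subtype
    exact hpg.le_sylow_of_normal P
  have := (P : Subgroup ↥N).mul_mem (hP hc) hx
  simpa using this

end Cfsg.Agent.S2829
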