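import Cfsg.Statements.S2830
import Cfsg.Agent.Lib_helper7_PIrr2

set_option autoImplicit false
open Cfsg

namespace Cfsg.Agent.S2830

/-- Let H act by conjugation on the elementary abelian p-subgroup V of a finite group G (H ≤ N(V)), with H p-irreducible and O^p(H) not centralizing V. Then C_H(V) is p-closed and C_T(V) ≤ O_p(H) for every p-subgroup T of H. If in addition O_p(H) centralizes V, then C_T(V) = T ∩ O_p(H) for every p-subgroup T of H, and V is p-reduced for H: O_p(H/C_H(V)) = 1. -/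
theorem result {G : Type*} [Group G] [Finite G] {p : ℕ} [Fact p.Prime] (V H : Subgroup G) (hV : Cfsg.IsElementaryAbelian p V) (hHV : H ≤ Subgroup.normalizer (V : Set G)) (hH : Cfsg.IsPIrreducible p ↥H) (hnc : ¬ (Cfsg.pResidual p ↥H).map H.subtype ≤ Subgroup.centralizer (V : Set G)) [hn : ((Subgroup.centralizer (V : Set G)).subgroupOf H).Normal] : Cfsg.IsPClosed p ↥(H ⊓ Subgroup.centralizer (V : Set G)) ∧ (∀ T : Subgroup G, T ≤ H → IsPGroup p ↥T → T ⊓ Subgroup.centralizer (V : Set G) ≤ Cfsg.pCoreOf p H) ∧ (Cfsg.pCoreOf p H ≤ Subgroup.centralizer (V : Set G) → (∀ T : Subgroup G, T ≤ H → IsPGroup p ↥T → T ⊓ Subgroup.centralizer (V : Set G) = T ⊓ Cfsg.pCoreOf p H) ∧ Cfsg.pCore p (↥H ⧸ (Subgroup.centralizer (V : Set G)).subgroupOf H) = ⊥) := by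
  have hnc' : ¬ Cfsg.pResidual p ↥H ≤ (Subgroup.centralizer (V : Set G)).subgroupOf H := by
    intro h; exact hnc (Subgroup.map_le_iff_le_comap.mpr h)
  have hcl := Cfsg.Agent.Lib_helper7_PIrr2.irreducible_isPClosed hH _ hnc'
  have hii : ∀ T : Subgroup G, T ≤ H → IsPGroup p ↥T →
      T ⊓ Subgroup.centralizer (V : Set G) ≤ Cfsg.pCoreOf p H := by
    intro T hTH hTp x hx
    obtain ⟨S, hS⟩ := (hTp.comap_subtype : IsPGroup p (T.subgroupOf H)).exists_le_sylow
    have h1 := Cfsg.Agent.Lib_helper7_PIrr.inf_le_pCore_of_isPClosed S _ hcl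
    have h2 : (⟨x, hTH hx.1⟩ : ↥H) ∈
        (S : Subgroup ↥H) ⊓ (Subgroup.centralizer (V : Set G)).subgroupOf H :=
      ⟨hS (Subgroup.mem_subgroupOf.mpr hx.1), Subgroup.mem_subgroupOf.mpr hx.2⟩
    exact ⟨⟨x, hTH hx.1⟩, h1 h2, rfl⟩
  refine ⟨?_, hii, ?_⟩
  · have hcl' : Cfsg.IsPClosed p ↥((H ⊓ Subgroup.centralizer (V : Set G)).subgroupOf H) := by
      rw [Subgroup.inf_subgroupOf_left]; exact hcl
    exact Cfsg.Agent.Lib_helper7_PIrr2.isPClosed_of_equiv
      (Subgroup.subgroupOfEquivOfLe inf_le_left) hcl'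
  · intro hO
    refine ⟨fun T hTH hTp => le_antisymm (le_inf inf_le_left (hii T hTH hTp))
      (le_inf inf_le_left (inf_le_right.trans hO)), ?_⟩
    apply Cfsg.Agent.Lib_helper7_PIrr2.irreducible_pCore_quotient hH _ hnc'
    exact Subgroup.map_le_iff_le_comap.mp hO

end Cfsg.Agent.S2830
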