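import Cfsg.Statements.S2833
import Cfsg.Agent.Lib_helper7_CommSup

set_option autoImplicit false
open Cfsg

namespace Cfsg.Agent.S2833

/-- Let V be a subgroup of a finite group G normalized by the subgroup L, let X ≤ L and g ∈ L with [V, X, X] = 1 and L generated by X and gXg⁻¹. Put W = [V, L]. Then W = [V, X]·[V, gXg⁻¹], C_W(X) = [V, X], and C_W(L) = [V, X] ∩ [V, gXg⁻¹]. -/
theorem result {G : Type*} [Group G] [Finite G] (V L : Subgroup G) (hLV : L ≤ Subgroup.normalizer (V : Set G)) (X : Subgroup G) (hX : X ≤ L) (g : G) (hg : g ∈ L) (hq : ⁅⁅V, X⁆, X⁆ = ⊥) (hgen : X ⊔ X.map (MulAut.conj g).toMonoidHom = L) (W : Subgroup G) (hW : W = ⁅V, L⁆) : ⁅V, X⁆ ⊔ ⁅V, X.map (MulAut.conj g).toMonoidHom⁆ = W ∧ W ⊓ Subgroup.centralizer (X : Set G) = ⁅V, X⁆ ∧ W ⊓ Subgroup.centralizer (L : Set G) = ⁅V, X⁆ ⊓ ⁅V, X.map (MulAut.conj g).toMonoidHom⁆ := by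
  subst hW
  have hXV : X ≤ Subgroup.normalizer (V : Set G) := hX.trans hLV
  have hXgL : X.map (MulAut.conj g).toMonoidHom ≤ L := by rw [← hgen]; exact le_sup_right
  have hXgV := hXgL.trans hLV
  have hVg : V.map (MulAut.conj g).toMonoidHom = V :=
    Cfsg.Agent.Lib_helper7_WellPlaced.map_conj_of_mem_normalizer V g (hLV hg)
  have hBmap : ⁅V, X.map (MulAut.conj g).toMonoidHom⁆
      = (⁅V, X⁆).map (MulAut.conj g).toMonoidHom := by
    rw [Subgroup.map_commutator, hVg]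
  have ha : ⁅V, X⁆ ⊔ ⁅V, X.map (MulAut.conj g).toMonoidHom⁆ = ⁅V, L⁆ := by
    rw [← hgen]
    exact (Cfsg.Agent.Lib_helper7_CommSup.commutator_sup_eq V X _ hXV hXgV).symm
  have hAC : ⁅V, X⁆ ≤ Subgroup.centralizer (X : Set G) :=
    Subgroup.commutator_eq_bot_iff_le_centralizer.mp hq
  have hBC : ⁅V, X.map (MulAut.conj g).toMonoidHom⁆
      ≤ Subgroup.centralizer ((X.map (MulAut.conj g).toMonoidHom : Subgroup G) : Set G) := by
    rw [← Subgroup.commutator_eq_bot_iff_le_centralizer, hBmap, ← Subgroup.map_commutator, hq,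
      Subgroup.map_bot]
  have hBA : ∀ b ∈ ⁅V, X.map (MulAut.conj g).toMonoidHom⁆, g * b = b * g → b ∈ ⁅V, X⁆ := by
    intro b hb hc
    rw [hBmap] at hb
    obtain ⟨a, ha', rfl⟩ := hb
    simp only [MulEquiv.coe_toMonoidHom, MulAut.conj_apply] at hc ⊢
    have h3 : g * (g * a * g⁻¹) = g * a := by rw [hc]; group
    rw [mul_left_cancel h3]
    exact ha'
  have hAB : ∀ a ∈ ⁅V, X⁆, g * a = a * g → a ∈ ⁅V, X.map (MulAut.conj g).toMonoidHom⁆ := by
    intro a ha' hc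
    rw [hBmap]
    refine ⟨a, ha', ?_⟩
    simp only [MulEquiv.coe_toMonoidHom, MulAut.conj_apply]
    rw [hc, mul_assoc, mul_inv_cancel, mul_one]
  have hb : ⁅V, L⁆ ⊓ Subgroup.centralizer (X : Set G) = ⁅V, X⁆ := by
    apply le_antisymm
    · rintro w ⟨hwW, hwC⟩
      have hwW' : w ∈ ⁅V, L⁆ := hwW
      rw [← ha] at hwW'
      have hnorm : ⁅V, X⁆ ≤ Subgroup.normalizer
          ((⁅V, X.map (MulAut.conj g).toMonoidHom⁆ : Subgroup G) : Set G) :=
        (Cfsg.Agent.Lib_helper7_CommSup.commutator_le_left_of_le_normalizer V X hXV).trans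
          (Subgroup.normalizer_commutator_ge_left V _)
      have hw' : w ∈ ((⁅V, X⁆ ⊔ ⁅V, X.map (MulAut.conj g).toMonoidHom⁆ : Subgroup G) : Set G) :=
        hwW'
      rw [Subgroup.coe_mul_of_left_le_normalizer_right _ _ hnorm] at hw'
      obtain ⟨a, ha', b, hb', rfl⟩ := Set.mem_mul.mp hw'
      have hbX : b ∈ Subgroup.centralizer (X : Set G) := by
        have e : b = a⁻¹ * (a * b) := by group
        rw [e]
        exact Subgroup.mul_mem _ (Subgroup.inv_mem _ (hAC ha')) hwC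
      have hbL : b ∈ Subgroup.centralizer (L : Set G) := by
        rw [← hgen]
        exact Cfsg.Agent.Lib_helper7_CommSup.mem_centralizer_sup X _ b hbX (hBC hb')
      have hbg : g * b = b * g := Subgroup.mem_centralizer_iff.mp hbL g hg
      exact Subgroup.mul_mem _ ha' (hBA b hb' hbg)
    · intro w hw
      refine ⟨?_, hAC hw⟩
      show w ∈ ⁅V, L⁆
      rw [← ha]
      exact Subgroup.mem_sup_left hw
  refine ⟨ha, hb, ?_⟩
  apply le_antisymm
  · rintro w ⟨hwW, hwC⟩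
    have hwX : w ∈ Subgroup.centralizer (X : Set G) :=
      Subgroup.centralizer_le (SetLike.coe_subset_coe.mpr hX) hwC
    have hwA : w ∈ ⁅V, X⁆ := by rw [← hb]; exact ⟨hwW, hwX⟩
    have hwg : g * w = w * g := Subgroup.mem_centralizer_iff.mp hwC g hg
    exact ⟨hwA, hAB w hwA hwg⟩
  · rintro w ⟨hwA, hwB⟩
    refine ⟨?_, ?_⟩
    · show w ∈ ⁅V, L⁆
      rw [← ha]
      exact Subgroup.mem_sup_left hwA
    · have := Cfsg.Agent.Lib_helper7_CommSup.mem_centralizer_sup X _ w (hAC hwA) (hBC hwB)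
      rw [hgen] at this
      exact this

end Cfsg.Agent.S2833
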