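import Cfsg.Statements.S2835
import Cfsg.Agent.Lib_helper7_PIrr

set_option autoImplicit false
open Cfsg

namespace Cfsg.Agent.S2835

/-- Let L be a finite group, L₀ a maximal subgroup, T a Sylow p-subgroup of L₀ and Y ≤ T, and suppose L is Y-minimal (generated by the conjugates of Y, with Y in exactly one maximal subgroup, necessarily L₀). Then N_L(T) ≤ L₀, O_p(L) ≤ L₀ and T is a Sylow p-subgroup of L; N_L(L₀) = L₀; L = ⟨Y, gYg⁻¹⟩ for each g ∈ L outside L₀; and if Y is abelian then Y ∩ gYg⁻¹ = C_Y(L) for each such g. -/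
theorem result {L : Type*} [Group L] [Finite L] {p : ℕ} [Fact p.Prime] (L₀ : Subgroup L) (hL₀ : IsCoatom L₀) (T : Sylow p ↥L₀) (Y : Subgroup L) (hYT : Y ≤ (T : Subgroup ↥L₀).map L₀.subtype) (hmin : Cfsg.IsMinimalOver Y) : Subgroup.normalizer (((T : Subgroup ↥L₀).map L₀.subtype : Subgroup L) : Set L) ≤ L₀ ∧ Cfsg.pCore p L ≤ L₀ ∧ (∃ P : Sylow p L, (P : Subgroup L) = (T : Subgroup ↥L₀).map L₀.subtype) ∧ Subgroup.normalizer (L₀ : Set L) = L₀ ∧ (∀ g : L, g ∉ L₀ → Y ⊔ Y.map (MulAut.conj g).toMonoidHom = ⊤) ∧ (IsMulCommutative ↥Y → ∀ g : L, g ∉ L₀ → Y ⊓ Y.map (MulAut.conj g).toMonoidHom = Y ⊓ Subgroup.center L) := by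
  obtain ⟨hgen, M, ⟨hM, hYM⟩, huniq⟩ := hmin
  have hTL : (T : Subgroup ↥L₀).map L₀.subtype ≤ L₀ := Subgroup.map_subtype_le _
  have hYL : Y ≤ L₀ := hYT.trans hTL
  have hML : L₀ = M := huniq L₀ ⟨hL₀, hYL⟩
  subst hML
  have key := Cfsg.Agent.Lib_helper7_PIrr.le_of_minimalOver hL₀ hYL huniq
  have hnn : ∀ X : Subgroup L, X.Normal → Y ≤ X → X = ⊤ := by
    intro X hX hYX
    haveI := hX
    rw [eq_top_iff, ← hgen]
    exact Subgroup.normalClosure_le_normal (SetLike.coe_subset_coe.mpr hYX)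
  have hTp : IsPGroup p ↥((T : Subgroup ↥L₀).map L₀.subtype) := T.isPGroup'.map _
  have h1 : Subgroup.normalizer (((T : Subgroup ↥L₀).map L₀.subtype : Subgroup L) : Set L) ≤ L₀ := by
    apply key _ (hYT.trans Subgroup.le_normalizer)
    intro htop
    have hn : ((T : Subgroup ↥L₀).map L₀.subtype).Normal := Subgroup.normalizer_eq_top_iff.mp htop
    have := hnn _ hn hYT
    exact hL₀.1 (top_le_iff.mp (this ▸ hTL))
  obtain ⟨P, hP⟩ := hTp.exists_le_sylow
  have hPeq : (P : Subgroup L) = (T : Subgroup ↥L₀).map L₀.subtype := by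
    by_contra hne
    have hlt : (T : Subgroup ↥L₀).map L₀.subtype < (P : Subgroup L) :=
      lt_of_le_of_ne hP (Ne.symm hne)
    obtain ⟨t, htP, htN, htT⟩ :=
      Cfsg.Agent.Lib_helper7_Sylow.exists_mem_normalizer_not_mem P.isPGroup' hlt
    have htL : t ∈ L₀ := h1 htN
    have hQ : IsPGroup p ↥(((P : Subgroup L) ⊓ L₀).subgroupOf L₀) :=
      (P.isPGroup'.to_le inf_le_left).comap_subtype
    have hTQ : (T : Subgroup ↥L₀) ≤ ((P : Subgroup L) ⊓ L₀).subgroupOf L₀ := by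
      intro x hx
      rw [Subgroup.mem_subgroupOf]
      exact ⟨hP ⟨x, hx, rfl⟩, x.2⟩
    have hEq := T.is_maximal' hQ hTQ
    have hmem : (⟨t, htL⟩ : ↥L₀) ∈ (T : Subgroup ↥L₀) := by
      rw [← hEq, Subgroup.mem_subgroupOf]; exact ⟨htP, htL⟩
    exact htT ⟨⟨t, htL⟩, hmem, rfl⟩
  have h4 : Subgroup.normalizer (L₀ : Set L) = L₀ := by
    rcases eq_or_ne (Subgroup.normalizer (L₀ : Set L)) ⊤ with htop | hne
    · exfalso
      have hn : L₀.Normal := Subgroup.normalizer_eq_top_iff.mp htop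
      exact hL₀.1 (hnn _ hn hYL)
    · exact le_antisymm (key _ (hYL.trans Subgroup.le_normalizer) hne) Subgroup.le_normalizer
  have h5 : ∀ g : L, g ∉ L₀ → Y ⊔ Y.map (MulAut.conj g).toMonoidHom = ⊤ := by
    intro g hg
    by_contra hne
    have hle := key _ le_sup_left hne
    have hYg : Y.map (MulAut.conj g).toMonoidHom ≤ L₀ := le_sup_right.trans hle
    have hco : IsCoatom (L₀.map (MulAut.conj g⁻¹).toMonoidHom) :=
      ((MulAut.conj g⁻¹).mapSubgroup.isCoatom_iff L₀).mpr hL₀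
    have hY2 : Y ≤ L₀.map (MulAut.conj g⁻¹).toMonoidHom := by
      intro y hy
      refine ⟨g * y * g⁻¹, hYg ⟨y, hy, rfl⟩, ?_⟩
      simp only [MulEquiv.coe_toMonoidHom, MulAut.conj_apply]
      group
    have h6 := huniq _ ⟨hco, hY2⟩
    have h7 : g⁻¹ ∈ Subgroup.normalizer (L₀ : Set L) := by
      apply Cfsg.Agent.Lib_helper7_Sylow.mem_normalizer_of_conj_le
      rw [h6]
    rw [h4] at h7
    exact hg (by simpa using L₀.inv_mem h7)
  refine ⟨h1, ?_, ⟨P, hPeq⟩, h4, h5, ?_⟩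
  · have := Cfsg.Agent.Lib_helper7_PCore.pCore_le_sylow P
    rw [hPeq] at this
    exact this.trans hTL
  · intro hab g hg
    have hYc : Y ≤ Subgroup.centralizer (Y : Set L) :=
      Subgroup.le_centralizer_iff_isMulCommutative.mpr hab
    apply le_antisymm
    · intro x hx
      refine ⟨hx.1, ?_⟩
      show x ∈ Subgroup.center L
      rw [Subgroup.mem_center_iff]
      have hc : Y ⊔ Y.map (MulAut.conj g).toMonoidHom ≤ Subgroup.centralizer ({x} : Set L) := by
        apply sup_le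
        · intro y hy
          rw [Subgroup.mem_centralizer_iff]
          rintro _ rfl
          exact Subgroup.mem_centralizer_iff.mp (hYc hy) _ hx.1
        · rintro _ ⟨y, hy, rfl⟩
          obtain ⟨x₀, hx₀, rfl⟩ := hx.2
          rw [Subgroup.mem_centralizer_iff]
          rintro _ rfl
          have hcomm : x₀ * y = y * x₀ := Subgroup.mem_centralizer_iff.mp (hYc hy) _ hx₀
          simp only [MulEquiv.coe_toMonoidHom, MulAut.conj_apply]
          calc g * x₀ * g⁻¹ * (g * y * g⁻¹) = g * (x₀ * y) * g⁻¹ := by group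
            _ = g * (y * x₀) * g⁻¹ := by rw [hcomm]
            _ = g * y * g⁻¹ * (g * x₀ * g⁻¹) := by group
      rw [h5 g hg] at hc
      intro h
      have := Subgroup.mem_centralizer_iff.mp (hc (Subgroup.mem_top h)) x rfl
      exact this.symm
    · rintro x ⟨hxY, hxZ⟩
      refine ⟨hxY, x, hxY, ?_⟩
      have hxZ : x ∈ Subgroup.center L := hxZ
      rw [Subgroup.mem_center_iff] at hxZ
      simp only [MulEquiv.coe_toMonoidHom, MulAut.conj_apply]
      rw [hxZ g, mul_assoc, mul_inv_cancel, mul_one]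

end Cfsg.Agent.S2835
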