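import Cfsg.Statements.S2872
import Cfsg.Agent.Lib_helper7_TransferInv
import Cfsg.Agent.Lib_helper1_PGroup
import Cfsg.Agent.Lib_helper7_Sylow

set_option autoImplicit false
open Cfsg

namespace Cfsg.Agent.S2872

/-- Let S be a Sylow 2-subgroup of the finite group G. Then G has a proper normal subgroup of 2-power index (O²(G) ≠ G), or Ω₁(Z(S)) is contained in the Frattini subgroup of S, or N_G(S) acts nontrivially on Ω₁(Z(S)) by conjugation. -/
theorem result {G : Type*} [Group G] [Finite G] (S : Sylow 2 G) : Cfsg.pResidual 2 G ≠ ⊤ ∨ Cfsg.omegaOne 2 ((S : Subgroup G) ⊓ Subgroup.centralizer ((S : Subgroup G) : Set G)) ≤ (frattini ↥(S : Subgroup G)).map (S : Subgroup G).subtype ∨ ∃ g ∈ Subgroup.normalizer ((S : Subgroup G) : Set G), ∃ z ∈ Cfsg.omegaOne 2 ((S : Subgroup G) ⊓ Subgroup.centralizer ((S : Subgroup G) : Set G)), g * z * g⁻¹ ≠ z := by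
  classical
  by_contra hcon
  push_neg at hcon
  obtain ⟨h1, h2, h3⟩ := hcon
  -- a generator outside the Frattini subgroup
  obtain ⟨z, ⟨hzS, hz2⟩, hzF⟩ : ∃ z : G, (z ∈ (S : Subgroup G) ⊓ Subgroup.centralizer ((S : Subgroup G) : Set G) ∧ z ^ 2 = 1) ∧
      z ∉ (frattini ↥(S : Subgroup G)).map (S : Subgroup G).subtype := by
    by_contra hc
    push_neg at hc
    apply h2
    unfold Cfsg.omegaOne
    rw [Subgroup.closure_le]
    intro x hx
    exact hc x hx
  have hzO : z ∈ Cfsg.omegaOne 2 ((S : Subgroup G) ⊓ Subgroup.centralizer ((S : Subgroup G) : Set G)) :=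
    Subgroup.subset_closure ⟨hzS, hz2⟩
  have hzS1 : z ∈ (S : Subgroup G) := hzS.1
  have hzC : ∀ s ∈ (S : Subgroup G), s * z = z * s := by
    have : z ∈ Subgroup.centralizer ((S : Subgroup G) : Set G) := hzS.2
    rw [Subgroup.mem_centralizer_iff] at this
    exact this
  have hz' : (⟨z, hzS1⟩ : ↥(S : Subgroup G)) ∉ frattini ↥(S : Subgroup G) := by
    intro h
    exact hzF ⟨⟨z, hzS1⟩, h, rfl⟩
  obtain ⟨M, hM, hzM⟩ : ∃ M : Subgroup ↥(S : Subgroup G), IsCoatom M ∧ (⟨z, hzS1⟩ : ↥(S : Subgroup G)) ∉ M := by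
    by_contra hc
    push_neg at hc
    apply hz'
    show _ ∈ Order.radical (Subgroup ↥(S : Subgroup G))
    simp only [Order.radical, Subgroup.mem_iInf]
    exact fun M hM => hc M hM
  have hSp : IsPGroup 2 ↥(S : Subgroup G) := S.isPGroup'
  haveI hMn : M.Normal := Cfsg.Agent.Lib_helper1_PGroup.coatom_normal hSp M hM
  have hMi : M.index = 2 := by
    rw [Subgroup.index_eq_card]
    exact Cfsg.Agent.Lib_helper1_PGroup.quotient_coatom_card hSp M hM
  -- the sign character of `S` with kernel `M`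
  let ϕ : ↥(S : Subgroup G) →* ℤˣ :=
    { toFun := fun s => if s ∈ M then 1 else -1
      map_one' := by simp [M.one_mem]
      map_mul' := fun a b => by
        have hab := Subgroup.mul_mem_iff_of_index_two hMi (a := a) (b := b)
        by_cases ha : a ∈ M <;> by_cases hb : b ∈ M <;> simp [ha, hb, hab] }
  have hϕz : ϕ ⟨z, hzS1⟩ = -1 := by
    show (if (⟨z, hzS1⟩ : ↥(S : Subgroup G)) ∈ M then (1 : ℤˣ) else -1) = -1
    rw [if_neg hzM]
  let V : G →* ℤˣ := MonoidHom.transfer ϕ
  haveI : Fintype (G ⧸ (S : Subgroup G)) := Fintype.ofFinite _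
  have hVz : V z = -1 := by
    show MonoidHom.transfer ϕ z = -1
    rw [Cfsg.Agent.Lib_helper7_TransferInv.transfer_involution ϕ z hz2]
    apply Cfsg.Agent.Lib_helper7_TransferInv.prod_invariant_eq (S := ↥(S : Subgroup G)) hSp
    · intro s q
      have hq : q = ((q.out : G) : G ⧸ (S : Subgroup G)) := (QuotientGroup.out_eq' q).symm
      have hsq : s • q = (((s : G) * q.out : G) : G ⧸ (S : Subgroup G)) := by
        conv_lhs => rw [hq]
        rfl
      rw [hsq, Cfsg.Agent.Lib_helper7_TransferInv.ext_conj_out]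
      have : ((s : G) * q.out)⁻¹ * z * ((s : G) * q.out) = q.out⁻¹ * z * q.out := by
        have h4 := hzC s s.2
        have : ((s : G) * q.out)⁻¹ * z * ((s : G) * q.out) = q.out⁻¹ * ((s : G)⁻¹ * (z * s)) * q.out := by
          group
        rw [this, ← h4, inv_mul_cancel_left]
      rw [this]
    · intro q hq
      have hq' : q = ((q.out : G) : G ⧸ (S : Subgroup G)) := (QuotientGroup.out_eq' q).symm
      set g := q.out with hg
      -- g⁻¹ normalizes S
      have hgN : g⁻¹ ∈ Subgroup.normalizer ((S : Subgroup G) : Set G) := by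
        apply Cfsg.Agent.Lib_helper7_Sylow.mem_normalizer_of_conj_le
        rintro _ ⟨s, hs, rfl⟩
        have h5 := hq ⟨s, hs⟩
        rw [hq'] at h5
        have h6 : (((s * g : G)) : G ⧸ (S : Subgroup G)) = ((g : G) : G ⧸ (S : Subgroup G)) := h5
        rw [QuotientGroup.eq] at h6
        have h7 := (S : Subgroup G).inv_mem h6
        simp only [MulEquiv.coe_toMonoidHom, MulAut.conj_apply, inv_inv]
        have : g⁻¹ * s * g = ((s * g)⁻¹ * g)⁻¹ := by group
        rw [this]
        exact h7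
      have h8 := h3 g⁻¹ hgN z hzO
      rw [inv_inv] at h8
      rw [h8, Cfsg.Agent.Lib_helper7_TransferInv.ext_of_mem ϕ hzS1]
      exact hϕz
    · rw [← Nat.card_eq_fintype_card, ← Subgroup.index_eq_card]
      have := S.not_dvd_index
      exact Nat.odd_iff.mpr (Nat.two_dvd_ne_zero.mp this)
  have hker : Cfsg.pResidual 2 G ≤ V.ker := by
    unfold Cfsg.pResidual
    rw [Subgroup.closure_le]
    intro g hg
    show V g = 1
    have hg' : Nat.Coprime (orderOf g) 2 := hg
    have h9 : V g ^ orderOf g = 1 := by rw [← map_pow, pow_orderOf_eq_one, map_one]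
    have h10 : V g ^ 2 = 1 := by
      rcases Int.units_eq_one_or (V g) with h | h <;> rw [h] <;> simp
    have h11 : orderOf (V g) ∣ Nat.gcd (orderOf g) 2 :=
      Nat.dvd_gcd (orderOf_dvd_of_pow_eq_one h9) (orderOf_dvd_of_pow_eq_one h10)
    rw [hg'.gcd_eq_one] at h11
    exact orderOf_eq_one_iff.mp (Nat.dvd_one.mp h11)
  rw [h1] at hker
  have h12 : V z = 1 := hker (Subgroup.mem_top z)
  rw [hVz] at h12
  exact absurd h12 (by decide)

end Cfsg.Agent.S2872
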