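import Cfsg.Statements.S2968
import Cfsg.Agent.Lib_helper7_Iso

set_option autoImplicit false
open Cfsg

namespace Cfsg.Agent.S2968

/-- Let G be a finite group, p a prime, P a Sylow p-subgroup of G and x ∈ P an element of p-power order which is isolated in G (the only conjugate of x commuting with x is x itself). Then x lies in the centre of P, and the subgroup generated by x is both strongly closed and weakly closed in P with respect to G. -/
theorem result {G : Type*} [Group G] [Finite G] {p : ℕ} [Fact p.Prime] (P : Sylow p G) (x : G) (hxP : x ∈ (P : Subgroup G)) (hx : ∃ k : ℕ, orderOf x = p ^ k) (hiso : Cfsg.IsIsolated x) : x ∈ (P : Subgroup G) ⊓ Subgroup.centralizer ((P : Subgroup G) : Set G) ∧ Cfsg.IsStronglyClosed (Subgroup.zpowers x) (P : Subgroup G) ∧ Cfsg.IsWeaklyClosed (Subgroup.zpowers x) (P : Subgroup G) := by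
  have hPp : IsPGroup p (P : Subgroup G) := P.isPGroup'
  have hcen := Cfsg.Agent.Lib_helper7_Iso.commute_of_mem hiso (P : Subgroup G) hPp hxP
  have hzP : Subgroup.zpowers x ≤ (P : Subgroup G) := by
    rw [Subgroup.zpowers_le]; exact hxP
  refine ⟨?_, ⟨hzP, ?_⟩, ⟨hzP, ?_⟩⟩
  · refine Subgroup.mem_inf.mpr ⟨hxP, ?_⟩
    rw [Subgroup.mem_centralizer_iff]
    exact hcen
  · intro y hy g hg
    obtain ⟨i, rfl⟩ := Subgroup.mem_zpowers_iff.mp hy
    have hxL : x ∈ Subgroup.centralizer ({g * x ^ i * g⁻¹} : Set G) := by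
      rw [Subgroup.mem_centralizer_iff]
      intro h hh
      rw [Set.mem_singleton_iff] at hh
      subst hh
      exact hcen _ hg
    have hgL : g * x * g⁻¹ ∈ Subgroup.centralizer ({g * x ^ i * g⁻¹} : Set G) := by
      rw [Subgroup.mem_centralizer_iff]
      intro h hh
      rw [Set.mem_singleton_iff] at hh
      subst hh
      have e1 : g * x ^ i * g⁻¹ * (g * x * g⁻¹) = g * (x ^ i * x) * g⁻¹ := by group
      have e2 : g * x * g⁻¹ * (g * x ^ i * g⁻¹) = g * (x * x ^ i) * g⁻¹ := by group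
      have e3 : x ^ i * x = x * x ^ i := by
        rw [← zpow_add_one, ← zpow_one_add]
        congr 1; ring
      rw [e1, e2, e3]
    obtain ⟨c, hc, hcx⟩ := Cfsg.Agent.Lib_helper7_Iso.exists_conj_eq hx hiso _ hxL g hgL
    have hcy : (g * x ^ i * g⁻¹) * c = c * (g * x ^ i * g⁻¹) :=
      Subgroup.mem_centralizer_iff.mp hc _ rfl
    have e4 : g * x ^ i * g⁻¹ = c * (g * x ^ i * g⁻¹) * c⁻¹ := by
      rw [← hcy]; group
    have e5 : c * (g * x ^ i * g⁻¹) * c⁻¹ = (c * (g * x * g⁻¹) * c⁻¹) ^ i := by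
      rw [conj_zpow, conj_zpow]
    rw [e4, e5, hcx]
    exact Subgroup.zpow_mem_zpowers x i
  · intro g hg
    have h1 : g * x * g⁻¹ ∈ (P : Subgroup G) := hg ⟨x, Subgroup.mem_zpowers x, rfl⟩
    have h2 := Cfsg.Agent.Lib_helper7_Iso.conj_eq_of_mem hiso (P : Subgroup G) hPp hxP g h1
    rw [MonoidHom.map_zpowers]
    have : (MulAut.conj g).toMonoidHom x = g * x * g⁻¹ := rfl
    rw [this, h2]

end Cfsg.Agent.S2968
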