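import Cfsg.Statements.S2969
import Cfsg.Agent.Lib_helper7_Iso

set_option autoImplicit false
open Cfsg

namespace Cfsg.Agent.S2969

/-- Let G be a finite group, p a prime and x ∈ G an element of p-power order which is isolated in G. If R is a p-subgroup of G containing x, then N_G(R) ≤ C_G(x); in particular x lies in the centre of R. Moreover, if x lies in a normal subgroup N of a subgroup H of G, then H = N·C_H(x). -/
theorem result {G : Type*} [Group G] [Finite G] {p : ℕ} [Fact p.Prime] (x : G) (hx : ∃ k : ℕ, orderOf x = p ^ k) (hiso : Cfsg.IsIsolated x) : (∀ R : Subgroup G, IsPGroup p ↥R → x ∈ R → Subgroup.normalizer (R : Set G) ≤ Subgroup.centralizer ({x} : Set G)) ∧ (∀ H N : Subgroup G, N ≤ H → H ≤ Subgroup.normalizer (N : Set G) → x ∈ N → N ⊔ (H ⊓ Subgroup.centralizer ({x} : Set G)) = H) := by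
  refine ⟨fun R hR hxR => Cfsg.Agent.Lib_helper7_Iso.normalizer_le_centralizer hiso R hR hxR, ?_⟩
  intro H N hNH hHN hxN
  apply le_antisymm (sup_le hNH inf_le_left)
  intro h hh
  have h1 : h * x * h⁻¹ ∈ N := (Subgroup.mem_normalizer_iff.mp (hHN hh) x).mp hxN
  obtain ⟨c, hc, hcx⟩ := Cfsg.Agent.Lib_helper7_Iso.exists_conj_eq hx hiso N hxN h h1
  have h2 : c * h ∈ H ⊓ Subgroup.centralizer ({x} : Set G) := by
    refine Subgroup.mem_inf.mpr ⟨H.mul_mem (hNH hc) hh, ?_⟩
    rw [Subgroup.mem_centralizer_iff]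
    intro y hy
    rw [Set.mem_singleton_iff] at hy
    subst hy
    have e : c * h * y * (c * h)⁻¹ = y := by
      calc c * h * y * (c * h)⁻¹ = c * (h * y * h⁻¹) * c⁻¹ := by group
        _ = y := hcx
    calc y * (c * h) = (c * h * y * (c * h)⁻¹) * (c * h) := by rw [e]
      _ = c * h * y := by group
  have h3 : h = c⁻¹ * (c * h) := by group
  rw [h3]
  exact Subgroup.mul_mem_sup (N.inv_mem hc) h2

end Cfsg.Agent.S2969
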