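import Cfsg.Statements.S3053
import Cfsg.Agent.S3183
import Cfsg.Agent.S0130
import Cfsg.Agent.Lib_helper1_PGroup

set_option autoImplicit false
open Cfsg

namespace Cfsg.Agent.S3053

open scoped Pointwise

theorem exists_conj_p {G : Type*} [Group G] [Finite G] {p : ℕ} [Fact p.Prime] (N : Subgroup G)
    (U : Sylow p G) (hU : (U : Subgroup G) ≤ N) (R : Subgroup G) (hR : IsPGroup p R)
    (hRN : R ≤ N) : ∃ n ∈ N, ∀ y ∈ R, n⁻¹ * y * n ∈ (U : Subgroup G) := by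
  obtain ⟨V, hV⟩ := (hR.comap_subtype (K := N)).exists_le_sylow
  obtain ⟨n, hn⟩ := MulAction.exists_smul_eq N (U.subtype hU) V
  refine ⟨n, n.2, fun y hy => ?_⟩
  have h1 : (⟨y, hRN hy⟩ : N) ∈ (V : Subgroup N) := hV (Subgroup.mem_comap.mpr hy)
  rw [← hn, Cfsg.Agent.Lib_helper1_Basic.mem_sylow_smul, Sylow.coe_subtype,
    Subgroup.mem_subgroupOf] at h1
  exact h1

theorem conj_pow' {G : Type*} [Group G] (k z : G) (m : ℕ) :
    (k⁻¹ * z * k) ^ m = k⁻¹ * z ^ m * k := by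
  induction m with
  | zero => simp
  | succ m ih => rw [pow_succ, ih, pow_succ]; group

theorem pow_conj_mul {G : Type*} [Group G] (x y c : G) (h1 : x * y * x⁻¹ = y * c)
    (h2 : x * c = c * x) (m : ℕ) : x ^ m * y * (x ^ m)⁻¹ = y * c ^ m := by
  induction m with
  | zero => simp
  | succ m ih =>
    have h3 : x * c ^ m * x⁻¹ = c ^ m := by
      have h4 : Commute x (c ^ m) := (show Commute x c from h2).pow_right m
      rw [h4.eq]; group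
    calc x ^ (m + 1) * y * (x ^ (m + 1))⁻¹ = x * (x ^ m * y * (x ^ m)⁻¹) * x⁻¹ := by
          rw [pow_succ']; group
      _ = x * (y * c ^ m) * x⁻¹ := by rw [ih]
      _ = (x * y * x⁻¹) * (x * c ^ m * x⁻¹) := by group
      _ = y * c * c ^ m := by rw [h1, h3]
      _ = y * c ^ (m + 1) := by rw [pow_succ', mul_assoc]

/-- the subgroup of elements of an abelian subgroup `E` inverted by `t` -/
def invSub {G : Type*} [Group G] (E : Subgroup G) (hE : ∀ e ∈ E, ∀ f ∈ E, e * f = f * e)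
    (t : G) : Subgroup G where
  carrier := {e | e ∈ E ∧ t * e * t⁻¹ = e⁻¹}
  mul_mem' := by
    rintro a b ⟨ha, ha'⟩ ⟨hb, hb'⟩
    refine ⟨E.mul_mem ha hb, ?_⟩
    have h1 : t * (a * b) * t⁻¹ = (t * a * t⁻¹) * (t * b * t⁻¹) := by group
    rw [h1, ha', hb', mul_inv_rev]
    exact hE _ (E.inv_mem ha) _ (E.inv_mem hb)
  one_mem' := ⟨E.one_mem, by simp⟩
  inv_mem' := by
    rintro a ⟨ha, ha'⟩
    refine ⟨E.inv_mem ha, ?_⟩
    have h1 : t * a⁻¹ * t⁻¹ = (t * a * t⁻¹)⁻¹ := by group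
    rw [h1, ha']

/-- elements acting on `E` like some element of `P` -/
def actSub {G : Type*} [Group G] (P E : Subgroup G)
    (hPE : ∀ u ∈ P, ∀ e ∈ E, u * e * u⁻¹ ∈ E) : Subgroup G where
  carrier := {m | ∃ u ∈ P, ∀ e ∈ E, m * e * m⁻¹ = u * e * u⁻¹}
  mul_mem' := by
    rintro a b ⟨u, hu, hua⟩ ⟨v, hv, hvb⟩
    refine ⟨u * v, P.mul_mem hu hv, fun e he => ?_⟩
    have h1 : a * b * e * (a * b)⁻¹ = a * (b * e * b⁻¹) * a⁻¹ := by group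
    rw [h1, hvb e he, hua _ (hPE v hv e he)]
    group
  one_mem' := ⟨1, P.one_mem, fun e he => rfl⟩
  inv_mem' := by
    rintro a ⟨u, hu, hua⟩
    refine ⟨u⁻¹, P.inv_mem hu, fun e he => ?_⟩
    have he' : u⁻¹ * e * u ∈ E := by
      have h0 := hPE u⁻¹ (P.inv_mem hu) e he
      rwa [inv_inv] at h0
    have h1 := hua _ he'
    have h2 : a * (u⁻¹ * e * u) * a⁻¹ = e := by rw [h1]; group
    calc a⁻¹ * e * a⁻¹⁻¹ = a⁻¹ * (a * (u⁻¹ * e * u) * a⁻¹) * a := by rw [h2, inv_inv]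
      _ = u⁻¹ * e * u⁻¹⁻¹ := by group

theorem struct {Q : Type*} [Group Q] [Finite Q] {p : ℕ} [Fact p.Prime] (hp : p ≠ 2)
    (hE : IsExtraspecial p Q) (hcard : Nat.card Q = p ^ 3)
    (hexp : Monoid.exponent Q = p ^ 2) :
    ∃ E₀ : Subgroup Q, (∀ a, a ∈ E₀ ↔ a ^ p = 1) ∧ Nat.card E₀ = p ^ 2 ∧
    (∀ a b : Q, a * b * a⁻¹ * b⁻¹ ∈ Subgroup.center Q) ∧
    (∀ z ∈ Subgroup.center Q, z ^ p = 1) ∧
    (∀ a : Q, a ^ p ∈ Subgroup.center Q) ∧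
    (∀ a b : Q, (a * b) ^ p = a ^ p * b ^ p) ∧
    (∃ a : Q, a ^ p ≠ 1) ∧
    (∀ e f : Q, e ^ p = 1 → f ^ p = 1 → e * f = f * e) ∧
    (∀ a e : Q, a ^ p ≠ 1 → e ^ p = 1 → a * e = e * a → e ∈ Subgroup.center Q) ∧
    (∀ z ∈ Subgroup.center Q, z ≠ 1 → ∀ z' ∈ Subgroup.center Q, ∃ m : ℕ, z' = z ^ m) := by
  have hp' : p.Prime := Fact.out
  obtain ⟨⟨hPG, hfrat, hcomm⟩, hZ⟩ := hE
  have h1 : ∀ a b : Q, a * b * a⁻¹ * b⁻¹ ∈ Subgroup.center Q := by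
    intro a b
    have h0 : a * b * a⁻¹ * b⁻¹ ∈ ⁅(⊤ : Subgroup Q), ⊤⁆ :=
      Subgroup.commutator_mem_commutator (Subgroup.mem_top a) (Subgroup.mem_top b)
    rw [← hcomm]; exact h0
  have h2 : ∀ z ∈ Subgroup.center Q, z ^ p = 1 := by
    intro z hz
    have h := pow_card_eq_one' (G := Subgroup.center Q) (x := ⟨z, hz⟩)
    rw [hZ] at h
    have h' : (((⟨z, hz⟩ : Subgroup.center Q) ^ p : Subgroup.center Q) : Q) = 1 := by
      rw [h]; rfl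
    rw [Subgroup.coe_pow] at h'
    exact h'
  have h3 : ∀ a : Q, a ^ p ∈ Subgroup.center Q := by
    intro a
    rw [← hfrat]
    exact Cfsg.Agent.Lib_helper1_PGroup.pow_p_mem_frattini hPG a
  have hch : p ∣ p.choose 2 := by
    have h0 := Cfsg.Agent.S0130.choose_dvd hp' 1 (by rw [pow_one]; exact hp)
    rwa [pow_one] at h0
  have h4 : ∀ a b : Q, (a * b) ^ p = a ^ p * b ^ p := by
    intro a b
    have he : b * a * b⁻¹ * a⁻¹ ∈ Subgroup.center Q := h1 b a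
    have hec := Subgroup.mem_center_iff.mp he
    have h5 := Cfsg.Agent.S0130.mul_pow_cl2 a b (b * a * b⁻¹ * a⁻¹) (by group)
      (hec a).symm (hec b).symm p
    obtain ⟨k, hk⟩ := hch
    rw [h5, hk, pow_mul, h2 _ he, one_pow, one_mul]
  have h5 : ∃ a : Q, a ^ p ≠ 1 := by
    by_contra hcon
    simp only [not_exists, not_not] at hcon
    have h6 : Monoid.exponent Q ∣ p := Monoid.exponent_dvd_iff_forall_pow_eq_one.mpr hcon
    rw [hexp] at h6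
    have h7 := Nat.le_of_dvd hp'.pos h6
    have h8 := hp'.one_lt
    nlinarith
  let φ : Q →* Q := { toFun := fun a => a ^ p, map_one' := one_pow p, map_mul' := h4 }
  have hφ : ∀ a, φ a = a ^ p := fun a => rfl
  have hker : ∀ a, a ∈ φ.ker ↔ a ^ p = 1 := fun a => by rw [MonoidHom.mem_ker, hφ]
  have hrange : φ.range ≤ Subgroup.center Q := by
    rintro _ ⟨a, rfl⟩
    exact h3 a
  have hrcard : Nat.card φ.range = p := by
    have h6 : Nat.card φ.range ∣ p := by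
      rw [← hZ]; exact Subgroup.card_dvd_of_le hrange
    rcases (Nat.dvd_prime hp').mp h6 with h7 | h7
    · exfalso
      obtain ⟨a, ha⟩ := h5
      have h8 : φ.range = ⊥ := Subgroup.eq_bot_of_card_eq _ h7
      have h9 : φ a ∈ φ.range := ⟨a, rfl⟩
      rw [h8, Subgroup.mem_bot] at h9
      exact ha h9
    · exact h7
  have hkcard : Nat.card φ.ker = p ^ 2 := by
    have h6 := Subgroup.card_mul_index φ.ker
    rw [Subgroup.index_ker, hrcard, hcard] at h6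
    have h7 : Nat.card φ.ker * p = p ^ 2 * p := by rw [h6]; ring
    exact Nat.eq_of_mul_eq_mul_right hp'.pos h7
  have hab : ∀ e f : Q, e ^ p = 1 → f ^ p = 1 → e * f = f * e := by
    intro e f he hf
    haveI := IsPGroup.isMulCommutative_of_card_eq_prime_sq hkcard
    have h6 := mul_comm' (⟨e, (hker e).mpr he⟩ : φ.ker) ⟨f, (hker f).mpr hf⟩
    have h7 : e * f = f * e := congrArg Subtype.val h6
    exact h7
  have hcent : ∀ a e : Q, a ^ p ≠ 1 → e ^ p = 1 → a * e = e * a → e ∈ Subgroup.center Q := by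
    intro a e ha he hae
    have h6 : φ.ker ≤ Subgroup.centralizer ({e} : Set Q) := by
      intro f hf
      rw [Subgroup.mem_centralizer_singleton_iff]
      exact hab f e ((hker f).mp hf) he
    have h7 : a ∈ Subgroup.centralizer ({e} : Set Q) :=
      Subgroup.mem_centralizer_singleton_iff.mpr hae
    have h8 : Nat.card (Subgroup.centralizer ({e} : Set Q)) = p ^ 3 := by
      have h9 : Nat.card (Subgroup.centralizer ({e} : Set Q)) ∣ p ^ 3 := by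
        rw [← hcard]; exact Subgroup.card_subgroup_dvd_card _
      obtain ⟨k, hk3, hk⟩ := (Nat.dvd_prime_pow hp').mp h9
      have h10 : p ^ 2 < Nat.card (Subgroup.centralizer ({e} : Set Q)) := by
        by_contra hle
        rw [not_lt] at hle
        have h11 := Subgroup.eq_of_le_of_card_ge h6 (by rw [hkcard]; exact hle)
        apply ha
        rw [← hker, h11]; exact h7
      rw [hk] at h10 ⊢
      have hk2 : 2 < k := (Nat.pow_lt_pow_iff_right hp'.one_lt).mp h10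
      have hk3' : k = 3 := by omega
      rw [hk3']
    have h9 : Subgroup.centralizer ({e} : Set Q) = ⊤ := by
      apply Subgroup.eq_top_of_card_eq
      rw [h8, hcard]
    rw [Subgroup.mem_center_iff]
    intro g
    have h10 : g ∈ Subgroup.centralizer ({e} : Set Q) := by rw [h9]; exact Subgroup.mem_top g
    exact Subgroup.mem_centralizer_singleton_iff.mp h10
  have hgen : ∀ z ∈ Subgroup.center Q, z ≠ 1 → ∀ z' ∈ Subgroup.center Q,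
      ∃ m : ℕ, z' = z ^ m := by
    intro z hz hz1 z' hz'
    have h6 : (⟨z', hz'⟩ : Subgroup.center Q) ∈ Submonoid.powers (⟨z, hz⟩ : Subgroup.center Q) :=
      mem_powers_of_prime_card hZ (by intro h; apply hz1; exact congrArg Subtype.val h)
    obtain ⟨m, hm⟩ := (Submonoid.mem_powers_iff _ _).mp h6
    refine ⟨m, ?_⟩
    have h7 : (((⟨z, hz⟩ : Subgroup.center Q) ^ m : Subgroup.center Q) : Q) = z' :=
      congrArg Subtype.val hm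
    rw [Subgroup.coe_pow] at h7
    exact h7.symm
  exact ⟨φ.ker, hker, hkcard, h1, h2, h3, h4, h5, hab, hcent, hgen⟩


/-- Let p be an odd prime and G a finite group with a Sylow p-subgroup P that is extraspecial of order p³ and exponent p². Then the centre of P is strongly closed in P with respect to G: a G-conjugate of an element of Z(P) that lies in P already lies in Z(P). In particular a nontrivial central element of P is conjugate in G to no noncentral element of P. -/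
theorem result {G : Type*} [Group G] [Finite G]
    {p : ℕ} [Fact p.Prime] (hp : p ≠ 2) (P : Sylow p G) (hE : Cfsg.IsExtraspecial p ↥P)
    (hcard : Nat.card P = p ^ 3) (hexp : Monoid.exponent ↥P = p ^ 2) :
    Cfsg.IsStronglyClosed ((Subgroup.center ↥P).map (P : Subgroup G).subtype) (P : Subgroup G) := by
  have hp' : p.Prime := Fact.out
  obtain ⟨E₀, hE₀, hE₀card, q1, q2, q3, q4, q5, q6, q7, q8⟩ := struct hp hE hcard hexp
  obtain ⟨Z, hZdef⟩ : ∃ Z : Subgroup G,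
      Z = (Subgroup.center ↥P).map (P : Subgroup G).subtype := ⟨_, rfl⟩
  obtain ⟨E, hEdef⟩ : ∃ E : Subgroup G, E = E₀.map (P : Subgroup G).subtype := ⟨_, rfl⟩
  rw [← hZdef]
  have mZ : ∀ x : G, x ∈ Z ↔ x ∈ (P : Subgroup G) ∧ ∀ u ∈ (P : Subgroup G), u * x = x * u := by
    intro x; rw [hZdef]; exact Cfsg.Agent.S3183.mem_center_map _ x
  have mE : ∀ a : G, a ∈ E ↔ a ∈ (P : Subgroup G) ∧ a ^ p = 1 := by
    intro a
    rw [hEdef]
    constructor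
    · rintro ⟨q, hq, rfl⟩
      refine ⟨q.2, ?_⟩
      have h := (hE₀ q).mp hq
      have h' : ((q ^ p : ↥P) : G) = ((1 : ↥P) : G) := congrArg Subtype.val h
      exact h'
    · rintro ⟨ha, hap⟩
      have hap' : (((⟨a, ha⟩ : ↥P) ^ p : ↥P) : G) = ((1 : ↥P) : G) := hap
      exact ⟨⟨a, ha⟩, (hE₀ _).mpr (Subtype.ext hap'), rfl⟩
  have H1 : ∀ a ∈ (P : Subgroup G), ∀ b ∈ (P : Subgroup G), a * b * a⁻¹ * b⁻¹ ∈ Z := by
    intro a ha b hb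
    rw [hZdef]
    exact ⟨_, q1 ⟨a, ha⟩ ⟨b, hb⟩, rfl⟩
  have H2 : ∀ a ∈ (P : Subgroup G), ∀ b ∈ (P : Subgroup G),
      (a * b) ^ p = a ^ p * b ^ p := by
    intro a ha b hb
    have h := q4 ⟨a, ha⟩ ⟨b, hb⟩
    have h' : (a * b) ^ p = a ^ p * b ^ p := congrArg Subtype.val h
    exact h'
  have H3 : ∀ a ∈ (P : Subgroup G), a ^ p ∈ Z := by
    intro a ha
    rw [hZdef]
    exact ⟨⟨a, ha⟩ ^ p, q3 ⟨a, ha⟩, rfl⟩
  have H4 : ∃ a ∈ (P : Subgroup G), a ^ p ≠ 1 := by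
    obtain ⟨a, ha⟩ := q5
    refine ⟨a, a.2, fun h => ha (Subtype.ext ?_)⟩
    have h' : ((a ^ p : ↥P) : G) = ((1 : ↥P) : G) := h
    exact h'
  have HZE : Z ≤ E := by
    rw [hZdef, hEdef]
    rintro _ ⟨q, hq, rfl⟩
    exact ⟨q, (hE₀ q).mpr (q2 q hq), rfl⟩
  have HEP : E ≤ (P : Subgroup G) := by rw [hEdef]; exact Subgroup.map_subtype_le _
  have HZP : Z ≤ (P : Subgroup G) := by rw [hZdef]; exact Subgroup.map_subtype_le _
  have H6 : ∀ e ∈ E, ∀ f ∈ E, e * f = f * e := by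
    rw [hEdef]
    rintro _ ⟨e, he, rfl⟩ _ ⟨f, hf, rfl⟩
    have h := q6 e f ((hE₀ e).mp he) ((hE₀ f).mp hf)
    have h' : ((e * f : ↥P) : G) = ((f * e : ↥P) : G) :=
      congrArg Subtype.val h
    exact h'
  have H7 : ∀ a ∈ (P : Subgroup G), a ∉ E → ∀ e ∈ E, a * e = e * a → e ∈ Z := by
    rw [hEdef, hZdef]
    intro a ha haE e he hae
    obtain ⟨e', he', rfl⟩ := he
    refine ⟨e', q7 ⟨a, ha⟩ e' ?_ ((hE₀ e').mp he') (Subtype.ext hae), rfl⟩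
    intro h
    apply haE
    exact ⟨⟨a, ha⟩, (hE₀ _).mpr h, rfl⟩
  have H10 : ∀ z ∈ Z, z ≠ 1 → ∀ z' ∈ Z, ∃ m : ℕ, z' = z ^ m := by
    rw [hZdef]
    rintro _ ⟨z, hz, rfl⟩ hz1 _ ⟨z', hz', rfl⟩
    obtain ⟨m, hm⟩ := q8 z hz (fun h => hz1 (by rw [h]; rfl)) z' hz'
    exact ⟨m, by rw [hm]; rfl⟩
  have HEcard : Nat.card E = p ^ 2 := by
    rw [hEdef, Subgroup.card_map_of_injective (P : Subgroup G).subtype_injective]
    exact hE₀card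
  have H9 : ∀ u ∈ (P : Subgroup G), ∀ e ∈ E, u * e * u⁻¹ ∈ E := by
    intro u hu e he
    rw [mE] at he ⊢
    refine ⟨Subgroup.mul_mem _ (Subgroup.mul_mem _ hu he.1) (Subgroup.inv_mem _ hu), ?_⟩
    rw [conj_pow, he.2, mul_one, mul_inv_cancel]
  refine ⟨HZP, ?_⟩
  intro z₀ hz₀ g hgP
  by_contra hy₀Z
  have hz₀1 : z₀ ≠ 1 := by
    rintro rfl
    apply hy₀Z
    rw [mul_one, mul_inv_cancel]; exact Z.one_mem
  have hz₀P := HZP hz₀
  have hz₀c := ((mZ z₀).mp hz₀).2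
  have hz₀E := HZE hz₀
  have hy₀E : g * z₀ * g⁻¹ ∈ E := by
    rw [mE]; refine ⟨hgP, ?_⟩
    rw [conj_pow, ((mE z₀).mp hz₀E).2, mul_one, mul_inv_cancel]
  obtain ⟨y₀, hy₀⟩ : ∃ y₀, y₀ = g * z₀ * g⁻¹ := ⟨_, rfl⟩
  rw [← hy₀] at hgP hy₀Z hy₀E
  have hK : ∃ k : G, k ∈ Subgroup.normalizer (E : Set G) ∧ k * z₀ * k⁻¹ = y₀ := by
    have h1 : ((g • P : Sylow p G) : Subgroup G) ≤ Subgroup.centralizer ({y₀} : Set G) := by
      intro v hv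
      rw [Cfsg.Agent.Lib_helper1_Basic.mem_sylow_smul] at hv
      rw [Subgroup.mem_centralizer_singleton_iff, hy₀]
      have h2 := hz₀c _ hv
      calc v * (g * z₀ * g⁻¹) = g * ((g⁻¹ * v * g) * z₀) * g⁻¹ := by group
        _ = g * (z₀ * (g⁻¹ * v * g)) * g⁻¹ := by rw [h2]
        _ = g * z₀ * g⁻¹ * v := by group
    have h3 : E ≤ Subgroup.centralizer ({y₀} : Set G) := by
      intro e he
      rw [Subgroup.mem_centralizer_singleton_iff]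
      exact H6 e he y₀ hy₀E
    obtain ⟨c, hc, hcE⟩ := exists_conj_p (Subgroup.centralizer ({y₀} : Set G)) (g • P) h1 E
      (P.isPGroup'.to_le HEP) h3
    refine ⟨c * g, ?_, ?_⟩
    · have h4 : (c * g)⁻¹ ∈ Subgroup.normalizer (E : Set G) := by
        apply Cfsg.Agent.Lib_helper1_Basic.mem_normalizer_of_conj_le
        intro e he
        have h5 := hcE e he
        rw [Cfsg.Agent.Lib_helper1_Basic.mem_sylow_smul] at h5
        rw [mE]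
        refine ⟨?_, ?_⟩
        · have e1 : (c * g)⁻¹ * e * (c * g)⁻¹⁻¹ = g⁻¹ * (c⁻¹ * e * c) * g := by group
          rw [e1]; exact h5
        · rw [conj_pow, ((mE e).mp he).2, mul_one, mul_inv_cancel]
      have h6 := Subgroup.inv_mem _ h4
      rwa [inv_inv] at h6
    · rw [Subgroup.mem_centralizer_singleton_iff] at hc
      calc c * g * z₀ * (c * g)⁻¹ = c * (g * z₀ * g⁻¹) * c⁻¹ := by group
        _ = c * y₀ * c⁻¹ := by rw [hy₀]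
        _ = y₀ := by rw [hc]; group
  obtain ⟨k, hkN, hky⟩ := hK
  have hkE : ∀ e ∈ E, k * e * k⁻¹ ∈ E := fun e he =>
    (Subgroup.mem_normalizer_iff.mp hkN e).mp he
  have hkE' : ∀ e ∈ E, k⁻¹ * e * k ∈ E := by
    intro e he
    have h := (Subgroup.mem_normalizer_iff.mp (Subgroup.inv_mem _ hkN) e).mp he
    rwa [inv_inv] at h
  obtain ⟨x, hxP, hxp⟩ := H4
  have hxE : x ∉ E := fun h => hxp ((mE x).mp h).2
  have he' : k⁻¹ * z₀ * k ∈ E := hkE' z₀ hz₀E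
  have hζ : x * (k⁻¹ * z₀ * k) * x⁻¹ * (k⁻¹ * z₀ * k)⁻¹ ∈ Z := H1 x hxP _ (HEP he')
  obtain ⟨ζ, hζdef⟩ : ∃ ζ, ζ = x * (k⁻¹ * z₀ * k) * x⁻¹ * (k⁻¹ * z₀ * k)⁻¹ := ⟨_, rfl⟩
  rw [← hζdef] at hζ
  have hζ1 : ζ ≠ 1 := by
    intro h
    have h1 : x * (k⁻¹ * z₀ * k) = (k⁻¹ * z₀ * k) * x := by
      rw [hζdef] at h
      have h2 := mul_inv_eq_one.mp h
      calc x * (k⁻¹ * z₀ * k) = (x * (k⁻¹ * z₀ * k) * x⁻¹) * x := by group
        _ = (k⁻¹ * z₀ * k) * x := by rw [h2]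
    have h3 : k⁻¹ * z₀ * k ∈ Z := H7 x hxP hxE _ he' h1
    have h4 : k⁻¹ * z₀ * k ≠ 1 := by
      intro h5
      apply hz₀1
      have h6 : z₀ = k * (k⁻¹ * z₀ * k) * k⁻¹ := by group
      rw [h6, h5]; group
    obtain ⟨m, hm⟩ := H10 _ h3 h4 z₀ hz₀
    apply hy₀Z
    have h6 : y₀ = z₀ ^ m := by
      rw [← hky]
      have h7 : k * z₀ * k⁻¹ = k * (k⁻¹ * z₀ * k) ^ m * k⁻¹ := by rw [← hm]
      rw [h7, conj_pow']; group
    rw [h6]; exact Z.pow_mem hz₀ m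
  obtain ⟨y, hydef⟩ : ∃ y, y = k * ζ⁻¹ * k⁻¹ := ⟨_, rfl⟩
  have hζE : ζ ∈ E := HZE hζ
  have hyE : y ∈ E := by rw [hydef]; exact hkE _ (E.inv_mem hζE)
  have hyP : y ∈ (P : Subgroup G) := HEP hyE
  have hζc := ((mZ ζ).mp hζ).2
  have hyZ : y ∉ Z := by
    intro hyZ'
    have hζi1 : ζ⁻¹ ≠ 1 := by simpa using hζ1
    obtain ⟨m, hm⟩ := H10 _ (Z.inv_mem hζ) hζi1 z₀ hz₀
    apply hy₀Z
    have h6 : y₀ = y ^ m := by
      rw [← hky, hm, hydef, conj_pow]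
    rw [h6]; exact Z.pow_mem hyZ' m
  have hsy : (k * x * k⁻¹) * y * (k * x * k⁻¹)⁻¹ = y := by
    rw [hydef]
    have h1 := hζc x hxP
    have h2 : x * ζ⁻¹ * x⁻¹ = ζ⁻¹ := by
      have h3 : x * ζ⁻¹ = ζ⁻¹ * x := by
        calc x * ζ⁻¹ = ζ⁻¹ * (ζ * x) * ζ⁻¹ := by group
          _ = ζ⁻¹ * (x * ζ) * ζ⁻¹ := by rw [h1]
          _ = ζ⁻¹ * x := by group
      rw [h3]; group
    calc (k * x * k⁻¹) * (k * ζ⁻¹ * k⁻¹) * (k * x * k⁻¹)⁻¹
        = k * (x * ζ⁻¹ * x⁻¹) * k⁻¹ := by group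
      _ = k * ζ⁻¹ * k⁻¹ := by rw [h2]
  have hsz : (k * x * k⁻¹) * z₀ * (k * x * k⁻¹)⁻¹ = z₀ * y⁻¹ := by
    have hyz : y⁻¹ * z₀ = z₀ * y⁻¹ := H6 _ (E.inv_mem hyE) _ hz₀E
    rw [← hyz, hydef]
    calc (k * x * k⁻¹) * z₀ * (k * x * k⁻¹)⁻¹
        = k * ((x * (k⁻¹ * z₀ * k) * x⁻¹ * (k⁻¹ * z₀ * k)⁻¹) * (k⁻¹ * z₀ * k)) * k⁻¹ := by
          group
      _ = k * (ζ * (k⁻¹ * z₀ * k)) * k⁻¹ := by rw [← hζdef]
      _ = (k * ζ⁻¹ * k⁻¹)⁻¹ * z₀ := by group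
  have hyz₀ : y * z₀ = z₀ * y := H6 y hyE z₀ hz₀E
  obtain ⟨z₂, hz₂def⟩ : ∃ z₂, z₂ = x * y * x⁻¹ * y⁻¹ := ⟨_, rfl⟩
  have hz₂Z : z₂ ∈ Z := by rw [hz₂def]; exact H1 x hxP y hyP
  have hz₂c := ((mZ z₂).mp hz₂Z).2
  have hz₂1 : z₂ ≠ 1 := by
    intro h
    apply hyZ
    apply H7 x hxP hxE y hyE
    rw [hz₂def] at h
    have h2 := mul_inv_eq_one.mp h
    calc x * y = (x * y * x⁻¹) * x := by group
      _ = y * x := by rw [h2]
  obtain ⟨m, hm⟩ := H10 z₂ hz₂Z hz₂1 z₀ hz₀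
  have hxy : x * y * x⁻¹ = y * z₂ := by
    rw [hz₂c y hyP, hz₂def]; group
  have hx₁y : x ^ m * y * (x ^ m)⁻¹ = y * z₀ := by
    rw [pow_conj_mul x y z₂ hxy (hz₂c x hxP) m, ← hm]
  have hx₁z : x ^ m * z₀ * (x ^ m)⁻¹ = z₀ := by
    rw [hz₀c _ (Subgroup.pow_mem _ hxP m)]; group
  obtain ⟨s, hsdef⟩ : ∃ s, s = k * x * k⁻¹ := ⟨_, rfl⟩
  rw [← hsdef] at hsy hsz
  obtain ⟨x₁, hx₁def⟩ : ∃ x₁, x₁ = x ^ m := ⟨_, rfl⟩
  rw [← hx₁def] at hx₁y hx₁z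
  have hwz : (x₁ * s * x₁) * z₀ * (x₁ * s * x₁)⁻¹ = y⁻¹ := by
    calc (x₁ * s * x₁) * z₀ * (x₁ * s * x₁)⁻¹
        = x₁ * (s * (x₁ * z₀ * x₁⁻¹) * s⁻¹) * x₁⁻¹ := by group
      _ = x₁ * (s * z₀ * s⁻¹) * x₁⁻¹ := by rw [hx₁z]
      _ = x₁ * (z₀ * y⁻¹) * x₁⁻¹ := by rw [hsz]
      _ = (x₁ * z₀ * x₁⁻¹) * (x₁ * y * x₁⁻¹)⁻¹ := by group
      _ = z₀ * (y * z₀)⁻¹ := by rw [hx₁z, hx₁y]
      _ = y⁻¹ := by group
  have hwy : (x₁ * s * x₁) * y * (x₁ * s * x₁)⁻¹ = z₀ := by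
    calc (x₁ * s * x₁) * y * (x₁ * s * x₁)⁻¹
        = x₁ * (s * (x₁ * y * x₁⁻¹) * s⁻¹) * x₁⁻¹ := by group
      _ = x₁ * (s * (y * z₀) * s⁻¹) * x₁⁻¹ := by rw [hx₁y]
      _ = x₁ * ((s * y * s⁻¹) * (s * z₀ * s⁻¹)) * x₁⁻¹ := by group
      _ = x₁ * (y * (z₀ * y⁻¹)) * x₁⁻¹ := by rw [hsy, hsz]
      _ = x₁ * ((y * z₀) * y⁻¹) * x₁⁻¹ := by group
      _ = x₁ * ((z₀ * y) * y⁻¹) * x₁⁻¹ := by rw [hyz₀]
      _ = x₁ * z₀ * x₁⁻¹ := by group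
      _ = z₀ := hx₁z
  obtain ⟨w, hwdef⟩ : ∃ w, w = x₁ * s * x₁ := ⟨_, rfl⟩
  rw [← hwdef] at hwz hwy
  have htz : (w * w) * z₀ * (w * w)⁻¹ = z₀⁻¹ := by
    calc (w * w) * z₀ * (w * w)⁻¹ = w * (w * z₀ * w⁻¹) * w⁻¹ := by group
      _ = w * y⁻¹ * w⁻¹ := by rw [hwz]
      _ = (w * y * w⁻¹)⁻¹ := by group
      _ = z₀⁻¹ := by rw [hwy]
  have hty : (w * w) * y * (w * w)⁻¹ = y⁻¹ := by
    calc (w * w) * y * (w * w)⁻¹ = w * (w * y * w⁻¹) * w⁻¹ := by group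
      _ = w * z₀ * w⁻¹ := by rw [hwy]
      _ = y⁻¹ := hwz
  obtain ⟨t, htdef⟩ : ∃ t, t = w * w := ⟨_, rfl⟩
  rw [← htdef] at htz hty
  have hIE : invSub E H6 t ≤ E := fun e he => he.1
  have hzI : z₀ ∈ invSub E H6 t := ⟨hz₀E, htz⟩
  have hyI : y ∈ invSub E H6 t := ⟨hyE, hty⟩
  have hIeq : invSub E H6 t = E := by
    apply Subgroup.eq_of_le_of_card_ge hIE
    rw [HEcard]
    have h1 : Subgroup.zpowers z₀ ≤ invSub E H6 t := by rw [Subgroup.zpowers_le]; exact hzI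
    have h2 : Nat.card (Subgroup.zpowers z₀) = p := by
      rw [Nat.card_zpowers]
      exact orderOf_eq_prime ((mE z₀).mp hz₀E).2 hz₀1
    have h3 : p < Nat.card (invSub E H6 t) := by
      by_contra hle
      rw [not_lt] at hle
      have h4 := Subgroup.eq_of_le_of_card_ge h1 (by rw [h2]; exact hle)
      apply hyZ
      have h5 : y ∈ Subgroup.zpowers z₀ := by rw [h4]; exact hyI
      exact (Subgroup.zpowers_le.mpr hz₀) h5
    have h6 : Nat.card (invSub E H6 t) ∣ p ^ 2 := by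
      rw [← HEcard]; exact Subgroup.card_dvd_of_le hIE
    obtain ⟨j, hj2, hj⟩ := (Nat.dvd_prime_pow hp').mp h6
    rw [hj] at h3 ⊢
    have hj1 : 1 < j := by
      by_contra hj1
      have hj1' : j ≤ 1 := by omega
      have h7 := Nat.pow_le_pow_right hp'.pos hj1'
      rw [pow_one] at h7
      omega
    have hj2' : j = 2 := by omega
    rw [hj2']
  have htE : ∀ e ∈ E, t * e * t⁻¹ = e⁻¹ := fun e he => (hIeq.ge he).2
  have hPK : (P : Subgroup G) ≤ actSub (P : Subgroup G) E H9 :=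
    fun u hu => ⟨u, hu, fun e he => rfl⟩
  have htinv : ∀ e ∈ E, t⁻¹ * e * t = e⁻¹ := by
    intro e he
    have h1 := htE e⁻¹ (E.inv_mem he)
    rw [inv_inv] at h1
    calc t⁻¹ * e * t = t⁻¹ * (t * e⁻¹ * t⁻¹) * t := by rw [h1]
      _ = e⁻¹ := by group
  have htPK : ((t • P : Sylow p G) : Subgroup G) ≤ actSub (P : Subgroup G) E H9 := by
    intro v hv
    rw [Cfsg.Agent.Lib_helper1_Basic.mem_sylow_smul] at hv
    refine ⟨t⁻¹ * v * t, hv, fun e he => ?_⟩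
    have h1 : (t⁻¹ * v * t) * e⁻¹ * (t⁻¹ * v * t)⁻¹ ∈ E := H9 _ hv _ (E.inv_mem he)
    have h2 := htE _ h1
    calc v * e * v⁻¹ = t * ((t⁻¹ * v * t) * (t⁻¹ * e * t) * (t⁻¹ * v * t)⁻¹) * t⁻¹ := by group
      _ = t * ((t⁻¹ * v * t) * e⁻¹ * (t⁻¹ * v * t)⁻¹) * t⁻¹ := by rw [htinv e he]
      _ = ((t⁻¹ * v * t) * e⁻¹ * (t⁻¹ * v * t)⁻¹)⁻¹ := h2
      _ = (t⁻¹ * v * t) * e * (t⁻¹ * v * t)⁻¹ := by group
  obtain ⟨h, hhK, hht⟩ := Cfsg.Agent.Lib_helper1_Basic.sylow_conj_in_subgroup P t _ hPK htPK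
  obtain ⟨u, hu, hue⟩ := hhK
  have hTN : u⁻¹ * (h * t) ∈ Subgroup.normalizer ((P : Subgroup G) : Set G) :=
    Subgroup.mul_mem _ (Subgroup.le_normalizer (Subgroup.inv_mem _ hu)) hht
  have hTE : ∀ e ∈ E, (u⁻¹ * (h * t)) * e * (u⁻¹ * (h * t))⁻¹ = e⁻¹ := by
    intro e he
    calc (u⁻¹ * (h * t)) * e * (u⁻¹ * (h * t))⁻¹
        = u⁻¹ * (h * (t * e * t⁻¹) * h⁻¹) * u := by group
      _ = u⁻¹ * (h * e⁻¹ * h⁻¹) * u := by rw [htE e he]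
      _ = u⁻¹ * (u * e⁻¹ * u⁻¹) * u := by rw [hue _ (E.inv_mem he)]
      _ = e⁻¹ := by group
  obtain ⟨T, hTdef⟩ : ∃ T, T = u⁻¹ * (h * t) := ⟨_, rfl⟩
  rw [← hTdef] at hTN hTE
  have hbP : T * x * T⁻¹ ∈ (P : Subgroup G) := (Subgroup.mem_normalizer_iff.mp hTN x).mp hxP
  have hxpZ : x ^ p ∈ Z := H3 x hxP
  have hbp : (T * x * T⁻¹) ^ p = (x ^ p)⁻¹ := by
    rw [conj_pow]; exact hTE _ (HZE hxpZ)
  have hbaE : T * x * T⁻¹ * x ∈ E := by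
    rw [mE]
    refine ⟨Subgroup.mul_mem _ hbP hxP, ?_⟩
    rw [H2 _ hbP _ hxP, hbp, inv_mul_cancel]
  have hTz₂ : T * z₂ * T⁻¹ = z₂⁻¹ := hTE _ (HZE hz₂Z)
  have hTy : T * y * T⁻¹ = y⁻¹ := hTE _ hyE
  have h1 : T * z₂ * T⁻¹
      = (T * x * T⁻¹) * (T * y * T⁻¹) * (T * x * T⁻¹)⁻¹ * (T * y * T⁻¹)⁻¹ := by
    rw [hz₂def]; group
  rw [hTy, inv_inv] at h1
  have h2 : (T * x * T⁻¹) * y⁻¹ * (T * x * T⁻¹)⁻¹ * y = x⁻¹ * y⁻¹ * x * y := by
    have h3 : x⁻¹ * y⁻¹ * x ∈ E := by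
      have h0 := H9 x⁻¹ (Subgroup.inv_mem _ hxP) y⁻¹ (E.inv_mem hyE)
      rwa [inv_inv] at h0
    have h4 := H6 _ hbaE _ h3
    calc (T * x * T⁻¹) * y⁻¹ * (T * x * T⁻¹)⁻¹ * y
        = ((T * x * T⁻¹ * x) * (x⁻¹ * y⁻¹ * x)) * (T * x * T⁻¹ * x)⁻¹ * y := by group
      _ = ((x⁻¹ * y⁻¹ * x) * (T * x * T⁻¹ * x)) * (T * x * T⁻¹ * x)⁻¹ * y := by rw [h4]
      _ = x⁻¹ * y⁻¹ * x * y := by group
  have h5 : x⁻¹ * y⁻¹ * x * y = z₂ := by
    have hc1 := hz₂c x hxP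
    have hc2 := hz₂c y hyP
    calc x⁻¹ * y⁻¹ * x * y = y⁻¹ * x⁻¹ * (x * y * x⁻¹ * y⁻¹) * x * y := by group
      _ = y⁻¹ * x⁻¹ * z₂ * x * y := by rw [← hz₂def]
      _ = y⁻¹ * x⁻¹ * (z₂ * x) * y := by group
      _ = y⁻¹ * x⁻¹ * (x * z₂) * y := by rw [hc1]
      _ = y⁻¹ * (z₂ * y) := by group
      _ = y⁻¹ * (y * z₂) := by rw [hc2]
      _ = z₂ := by group
  have h6 : z₂⁻¹ = z₂ := by rw [← hTz₂, h1, h2, h5]
  have h7 : z₂ ^ 2 = 1 := by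
    rw [pow_two]; nth_rewrite 1 [← h6]; exact inv_mul_cancel z₂
  have h8 : z₂ ^ p = 1 := ((mE z₂).mp (HZE hz₂Z)).2
  have h9 : orderOf z₂ ∣ Nat.gcd 2 p :=
    Nat.dvd_gcd (orderOf_dvd_of_pow_eq_one h7) (orderOf_dvd_of_pow_eq_one h8)
  have h10 : Nat.gcd 2 p = 1 := (Nat.coprime_primes Nat.prime_two hp').mpr (Ne.symm hp)
  rw [h10, Nat.dvd_one, orderOf_eq_one_iff] at h9
  exact hz₂1 h9

end Cfsg.Agent.S3053
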