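import Cfsg.Statements.S3209
import Mathlib
import Cfsg.Agent.Lib_helper8_PSL2Klein

set_option autoImplicit false
open Cfsg

namespace Cfsg.Agent.S3209

open Cfsg.Agent.Lib_helper4_SL2Quat Cfsg.Agent.Lib_helper8_SL2Odd Cfsg.Agent.Lib_helper8_SL2Four
  Cfsg.Agent.Lib_helper8_PSL2Klein in
/-- One factor `L ≅ SL_2(q)`, `q` odd, containing the involution `j`. -/
theorem sl_side {G : Type*} [Group G] {F : Type*} [Field F] [Fintype F]
    (hF : Odd (Fintype.card F)) (L : Subgroup G)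
    (e : ↥L ≃* Matrix.SpecialLinearGroup (Fin 2) F) (j : G) (hj : orderOf j = 2) (hjL : j ∈ L) :
    (∀ z ∈ L, z * z = 1 → z = 1 ∨ z = j) ∧
    (∃ a ∈ L, a * a = j ∧ ∀ x ∈ L, x * x = j → ∃ g ∈ L, g * a * g⁻¹ = x) := by
  classical
  haveI : Fintype (Matrix.SpecialLinearGroup (Fin 2) F) := Fintype.ofFinite _
  have h2 : (2 : F) ≠ 0 := two_ne_of_odd hF
  have hjj : j * j = 1 := by
    rw [← pow_two, ← hj]
    exact pow_orderOf_eq_one j
  have hjne : j ≠ 1 := by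
    intro h
    rw [h, orderOf_one] at hj
    omega
  have A : ∀ (z : G) (hz : z ∈ L), z * z = 1 → z ≠ 1 → e ⟨z, hz⟩ = negOne := by
    intro z hz hzz hz1
    have h1 : e ⟨z, hz⟩ * e ⟨z, hz⟩ = 1 := by
      rw [← map_mul]
      have h3 : (⟨z, hz⟩ : L) * ⟨z, hz⟩ = 1 := Subtype.ext hzz
      rw [h3, map_one]
    have hne : e ⟨z, hz⟩ ≠ 1 := by
      intro h
      have h3 := (MulEquiv.map_eq_one_iff e).mp h
      exact hz1 (congrArg Subtype.val h3)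
    exact eq_negOne_of_sq h2 _ h1 hne
  have hej : e ⟨j, hjL⟩ = negOne := A j hjL hjj hjne
  constructor
  · intro z hz hzz
    by_cases hz1 : z = 1
    · left
      exact hz1
    · right
      have h1 := A z hz hzz hz1
      rw [← hej] at h1
      exact congrArg Subtype.val (e.injective h1)
  · refine ⟨(e.symm J0 : L), (e.symm J0).2, ?_, ?_⟩
    · have h1 : e.symm J0 * e.symm J0 = ⟨j, hjL⟩ := by
        apply e.injective
        rw [map_mul, MulEquiv.apply_symm_apply, hej, J0_sq]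
      exact congrArg Subtype.val h1
    · intro x hx hxx
      have h1 : e ⟨x, hx⟩ * e ⟨x, hx⟩ = negOne := by
        rw [← map_mul, ← hej]
        congr 1
        exact Subtype.ext hxx
      obtain ⟨R, hR⟩ := conj_of_sq h2 J0 (e ⟨x, hx⟩) J0_sq h1
      refine ⟨(e.symm R : L), (e.symm R).2, ?_⟩
      have h3 : e.symm R * e.symm J0 * (e.symm R)⁻¹ = ⟨x, hx⟩ := by
        apply e.injective
        rw [map_mul, map_mul, map_inv, MulEquiv.apply_symm_apply, MulEquiv.apply_symm_apply, hR]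
      exact congrArg Subtype.val h3

/-- Let L₁ ≅ SL₂(q₁) and L₂ ≅ SL₂(q₂), q₁ and q₂ odd, be elementwise-commuting subgroups of a finite group meeting in ⟨j⟩ for an involution j. Then L₁L₂ has exactly two conjugacy classes of involutions: the central involution j, and one further class (there is an involution x ≠ j in L₁L₂, and every involution of L₁L₂ other than j is conjugate to x by an element of L₁L₂). -/
theorem result {G : Type*} [Group G] [Finite G]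
    {F₁ : Type*} [Field F₁] [Fintype F₁] {F₂ : Type*} [Field F₂] [Fintype F₂]
    (hF₁ : Odd (Fintype.card F₁)) (hF₂ : Odd (Fintype.card F₂)) (L₁ L₂ : Subgroup G)
    (e₁ : ↥L₁ ≃* Matrix.SpecialLinearGroup (Fin 2) F₁) (e₂ : ↥L₂ ≃* Matrix.SpecialLinearGroup (Fin 2) F₂)
    (hc : ∀ x ∈ L₁, ∀ y ∈ L₂, x * y = y * x) (j : G) (hj : orderOf j = 2) (hm : L₁ ⊓ L₂ = Subgroup.zpowers j) :
    ∃ x ∈ L₁ ⊔ L₂, orderOf x = 2 ∧ x ≠ j ∧
      ∀ y ∈ L₁ ⊔ L₂, orderOf y = 2 → y = j ∨ ∃ g ∈ L₁ ⊔ L₂, g * x * g⁻¹ = y := by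
  classical
  have hjm : j ∈ L₁ ⊓ L₂ := by
    rw [hm]
    exact Subgroup.mem_zpowers j
  have hj1 : j ∈ L₁ := (Subgroup.mem_inf.mp hjm).1
  have hj2 : j ∈ L₂ := (Subgroup.mem_inf.mp hjm).2
  have hjj : j * j = 1 := by
    rw [← pow_two, ← hj]
    exact pow_orderOf_eq_one j
  have hjne : j ≠ 1 := by
    intro h
    rw [h, orderOf_one] at hj
    omega
  have hint : ∀ z : G, z ∈ L₁ → z ∈ L₂ → z = 1 ∨ z = j := by
    intro z h1 h3
    have hz : z ∈ Subgroup.zpowers j := by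
      rw [← hm]
      exact Subgroup.mem_inf.mpr ⟨h1, h3⟩
    rw [mem_zpowers_iff_mem_range_orderOf, hj] at hz
    obtain ⟨k, hk, rfl⟩ := Finset.mem_image.mp hz
    rw [Finset.mem_range] at hk
    interval_cases k
    · left
      exact pow_zero j
    · right
      exact pow_one j
  obtain ⟨inv₁, a₁, ha₁L, ha₁, hconj₁⟩ := sl_side hF₁ L₁ e₁ j hj hj1
  obtain ⟨inv₂, a₂, ha₂L, ha₂, hconj₂⟩ := sl_side hF₂ L₂ e₂ j hj hj2
  have hprod : ∀ y ∈ L₁ ⊔ L₂, ∃ x₁ ∈ L₁, ∃ x₂ ∈ L₂, y = x₁ * x₂ := by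
    let M : Subgroup G :=
      { carrier := {z | ∃ x₁ ∈ L₁, ∃ x₂ ∈ L₂, z = x₁ * x₂}
        mul_mem' := by
          rintro _ _ ⟨x₁, h1, x₂, h3, rfl⟩ ⟨y₁, k1, y₂, k3, rfl⟩
          refine ⟨x₁ * y₁, mul_mem h1 k1, x₂ * y₂, mul_mem h3 k3, ?_⟩
          calc x₁ * x₂ * (y₁ * y₂) = x₁ * (x₂ * y₁) * y₂ := by simp only [mul_assoc]
            _ = x₁ * (y₁ * x₂) * y₂ := by rw [hc y₁ k1 x₂ h3]
            _ = x₁ * y₁ * (x₂ * y₂) := by simp only [mul_assoc]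
        one_mem' := ⟨1, one_mem _, 1, one_mem _, (mul_one 1).symm⟩
        inv_mem' := by
          rintro _ ⟨x₁, h1, x₂, h3, rfl⟩
          refine ⟨x₁⁻¹, inv_mem h1, x₂⁻¹, inv_mem h3, ?_⟩
          rw [mul_inv_rev, hc x₁⁻¹ (inv_mem h1) x₂⁻¹ (inv_mem h3)] }
    have hle : L₁ ⊔ L₂ ≤ M :=
      sup_le (fun x hx => ⟨x, hx, 1, one_mem _, (mul_one x).symm⟩)
        (fun x hx => ⟨1, one_mem _, x, hx, (one_mul x).symm⟩)
    intro y hy
    exact hle hy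
  have ha₁n : a₁ ∉ L₂ := by
    intro h
    rcases hint a₁ ha₁L h with r | r
    · rw [r, one_mul] at ha₁
      exact hjne ha₁.symm
    · rw [r, hjj] at ha₁
      exact hjne ha₁.symm
  have hxx : (a₁ * a₂) * (a₁ * a₂) = 1 := by
    calc (a₁ * a₂) * (a₁ * a₂) = a₁ * (a₂ * a₁) * a₂ := by simp only [mul_assoc]
      _ = a₁ * (a₁ * a₂) * a₂ := by rw [hc a₁ ha₁L a₂ ha₂L]
      _ = (a₁ * a₁) * (a₂ * a₂) := by simp only [mul_assoc]
      _ = 1 := by rw [ha₁, ha₂, hjj]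
  have hx1 : a₁ * a₂ ≠ 1 := by
    intro h
    apply ha₁n
    have h3 : a₁ = a₂⁻¹ := eq_inv_of_mul_eq_one_left h
    rw [h3]
    exact inv_mem ha₂L
  have hxj : a₁ * a₂ ≠ j := by
    intro h
    apply ha₁n
    have h3 : a₁ = j * a₂⁻¹ := by
      rw [← h, mul_inv_cancel_right]
    rw [h3]
    exact mul_mem hj2 (inv_mem ha₂L)
  refine ⟨a₁ * a₂, mul_mem (Subgroup.mem_sup_left ha₁L) (Subgroup.mem_sup_right ha₂L), ?_, hxj, ?_⟩
  · exact orderOf_eq_prime (by rw [pow_two]; exact hxx) hx1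
  · intro y hy hy2
    obtain ⟨x₁, h1, x₂, h3, rfl⟩ := hprod y hy
    have hyy : (x₁ * x₂) * (x₁ * x₂) = 1 := by
      rw [← pow_two, ← hy2]
      exact pow_orderOf_eq_one _
    have e : (x₁ * x₁) * (x₂ * x₂) = 1 := by
      calc (x₁ * x₁) * (x₂ * x₂) = x₁ * (x₁ * x₂) * x₂ := by simp only [mul_assoc]
        _ = x₁ * (x₂ * x₁) * x₂ := by rw [hc x₁ h1 x₂ h3]
        _ = (x₁ * x₂) * (x₁ * x₂) := by simp only [mul_assoc]
        _ = 1 := hyy
    have hmem : x₁ * x₁ ∈ L₂ := by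
      have h5 : x₁ * x₁ = (x₂ * x₂)⁻¹ := eq_inv_of_mul_eq_one_left e
      rw [h5]
      exact inv_mem (mul_mem h3 h3)
    rcases hint (x₁ * x₁) (mul_mem h1 h1) hmem with h | h
    · have h' : x₂ * x₂ = 1 := by
        rw [h, one_mul] at e
        exact e
      left
      rcases inv₁ x₁ h1 h with r1 | r1
      · rcases inv₂ x₂ h3 h' with r2 | r2
        · exfalso
          rw [r1, r2, one_mul, orderOf_one] at hy2
          omega
        · rw [r1, r2, one_mul]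
      · rcases inv₂ x₂ h3 h' with r2 | r2
        · rw [r1, r2, mul_one]
        · exfalso
          rw [r1, r2, hjj, orderOf_one] at hy2
          omega
    · have h' : x₂ * x₂ = j := by
        rw [h] at e
        have h5 : x₂ * x₂ = j⁻¹ := eq_inv_of_mul_eq_one_right e
        rw [h5]
        exact inv_eq_of_mul_eq_one_right hjj
      right
      obtain ⟨g₁, hg₁L, hg₁⟩ := hconj₁ x₁ h1 h
      obtain ⟨g₂, hg₂L, hg₂⟩ := hconj₂ x₂ h3 h'
      refine ⟨g₁ * g₂, mul_mem (Subgroup.mem_sup_left hg₁L) (Subgroup.mem_sup_right hg₂L), ?_⟩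
      have hw : g₂ * a₂ * g₂⁻¹ ∈ L₂ := mul_mem (mul_mem hg₂L ha₂L) (inv_mem hg₂L)
      have c1 := hc a₁ ha₁L g₂ hg₂L
      have c2 := hc g₁⁻¹ (inv_mem hg₁L) _ hw
      calc g₁ * g₂ * (a₁ * a₂) * (g₁ * g₂)⁻¹ = g₁ * (g₂ * a₁) * a₂ * g₂⁻¹ * g₁⁻¹ := by group
        _ = g₁ * (a₁ * g₂) * a₂ * g₂⁻¹ * g₁⁻¹ := by rw [c1]
        _ = g₁ * a₁ * ((g₂ * a₂ * g₂⁻¹) * g₁⁻¹) := by group
        _ = g₁ * a₁ * (g₁⁻¹ * (g₂ * a₂ * g₂⁻¹)) := by rw [c2]
        _ = g₁ * a₁ * g₁⁻¹ * (g₂ * a₂ * g₂⁻¹) := by group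
        _ = x₁ * x₂ := by rw [hg₁, hg₂]

end Cfsg.Agent.S3209
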