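import Cfsg.Statements.S3224
import Cfsg.Agent.Lib_helper1_CycMax2
import Cfsg.Agent.Lib_helper4_DihHom
import Cfsg.Agent.Lib_helper1_MaxClass3
import Cfsg.Agent.Lib_helper1_MaxClass
import Cfsg.Agent.S4023

set_option autoImplicit false
open Cfsg

namespace Cfsg.Agent.S3224



/-- A finite 2-group containing an involution whose centralizer has order 4 is dihedral, quasi-dihedral (semidihedral), or of order 4. -/
theorem result {S : Type*} [Group S] [Finite S] (hS : IsPGroup 2 S)
    (x : S) (hx : orderOf x = 2) (hC : Nat.card ↥(Subgroup.centralizer ({x} : Set S)) = 4) :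
    (∃ n : ℕ, Nonempty (S ≃* DihedralGroup n)) ∨ Cfsg.IsQuasiDihedral S ∨ Nat.card S = 4 := by
  haveI : Fact (Nat.Prime 2) := ⟨Nat.prime_two⟩
  obtain ⟨n, hn⟩ := IsPGroup.iff_card.mp hS
  have hx1 : x ≠ 1 := by
    intro h
    rw [h, orderOf_one] at hx
    omega
  have hx2 : x ^ 2 = 1 := by rw [← hx]; exact pow_orderOf_eq_one x
  have hn2 : 2 ≤ n := by
    have := Subgroup.card_le_card_group (Subgroup.centralizer ({x} : Set S))
    rw [hC, hn] at this
    have h3 : (2 : ℕ) ^ 2 ≤ 2 ^ n := by simpa using this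
    exact (Nat.pow_le_pow_iff_right (by norm_num : 1 < 2)).mp h3
  rcases Nat.lt_or_ge n 3 with hlt | hn3
  · right; right
    have : n = 2 := by omega
    rw [hn, this]; norm_num
  -- the centralizer is self-centralizing of order 4
  have hAcomm : IsMulCommutative ↥(Subgroup.centralizer ({x} : Set S)) :=
    Cfsg.Agent.S4023.comm_of_card_le_sq (p := 2) 2 le_rfl (by rw [hC]; norm_num)
  have hcent : Subgroup.centralizer ((Subgroup.centralizer ({x} : Set S) : Subgroup S) : Set S) =
      Subgroup.centralizer ({x} : Set S) := by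
    apply le_antisymm
    · apply Subgroup.centralizer_le
      intro y hy
      rw [Set.mem_singleton_iff] at hy
      rw [hy]
      exact Subgroup.mem_centralizer_singleton_iff.mpr rfl
    · haveI := hAcomm
      exact Subgroup.le_centralizer _
  have hc := Cfsg.Agent.Lib_helper1_MaxClass.aux 2 n S hn (Subgroup.centralizer ({x} : Set S))
    (by rw [hC]; norm_num) hcent
  obtain ⟨C, hCc, hCi⟩ := Cfsg.Agent.Lib_helper1_MaxClass3.exists_cyclic' n hn2 S hn hc
  obtain ⟨hcZ, -, -⟩ := Cfsg.Agent.Lib_helper1_MaxClass2.max_class_center 2 n hn3 hn hc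
  have hna' : ∃ x y : S, x * y ≠ y * x := by
    by_contra hcon
    push Not at hcon
    have hcen : Subgroup.center S = ⊤ := by
      rw [eq_top_iff]
      intro x _
      rw [Subgroup.mem_center_iff]
      intro g
      exact hcon g x
    rw [hcen, Subgroup.card_top, hn] at hcZ
    have h1 : (2 : ℕ) ^ 3 ≤ 2 ^ n := Nat.pow_le_pow_right (by norm_num) hn3
    omega
  obtain ⟨m, rfl⟩ : ∃ m, n = m + 2 := ⟨n - 2, by omega⟩
  have hm : 1 ≤ m := by omega
  obtain ⟨a, b, hao, hba, hCa, hcases⟩ :=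
    Cfsg.Agent.Lib_helper1_CycMax2.cyclic_max_two m hm hn C hCc hCi hna'
  have hbC : b ∉ C := by rw [hCa]; exact hba
  have hsurj : ∀ g : S, ∃ k : ℕ, g = a ^ k ∨ g = b * a ^ k := by
    intro g
    by_cases hg : g ∈ C
    · rw [hCa] at hg
      obtain ⟨k, hk⟩ := Cfsg.Agent.Lib_helper1_CyclicMax.exists_pow_of_mem_zpowers hg
      exact ⟨k, Or.inl hk.symm⟩
    · have h1 : b⁻¹ * g ∈ C := by
        rw [Subgroup.mul_mem_iff_of_index_two hCi]
        constructor
        · intro h; exact (hbC ((Subgroup.inv_mem_iff C).mp h)).elim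
        · intro h; exact (hg h).elim
      rw [hCa] at h1
      obtain ⟨k, hk⟩ := Cfsg.Agent.Lib_helper1_CyclicMax.exists_pow_of_mem_zpowers h1
      exact ⟨k, Or.inr (by rw [hk]; group)⟩
  have hyx : ∀ k : ℕ, b ≠ a ^ k := by
    intro k h
    apply hba
    rw [h]
    exact Subgroup.pow_mem _ (Subgroup.mem_zpowers a) k
  rcases hcases with ⟨hb2, hbab⟩ | ⟨hb2, hbab⟩ | ⟨hm2, hb2, hbab⟩ | ⟨hm2, hb2, hbab⟩
  · left
    refine ⟨2 ^ (m + 1), ?_⟩
    haveI : NeZero (2 ^ (m + 1)) := ⟨by positivity⟩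
    exact Cfsg.Agent.Lib_helper4_DihHom.dih_equiv (2 ^ (m + 1)) a b hao hbab
      (by rw [← pow_two]; exact hb2) hyx hsurj
  · exfalso
    -- generalized quaternion: the only involution is central
    have hz2 : (a ^ (2 ^ m)) ^ 2 = 1 := by
      rw [← pow_mul, ← pow_succ, ← hao]; exact pow_orderOf_eq_one a
    have hz1 : a ^ (2 ^ m) ≠ 1 := by
      intro h
      have := orderOf_dvd_of_pow_eq_one h
      rw [hao] at this
      have h5 := Nat.le_of_dvd (by positivity) this
      have h6 : 2 ^ m < 2 ^ (m + 1) := Nat.pow_lt_pow_right (by norm_num) (by omega)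
      omega
    have hbinv : ∀ k : ℕ, b * a ^ k * b⁻¹ = (a ^ k)⁻¹ := by
      intro k
      have h1 : b * a ^ k * b⁻¹ = (b * a * b⁻¹) ^ k := by
        have := map_pow (MulAut.conj b) a k
        simpa [MulAut.conj_apply] using this
      rw [h1, hbab, inv_pow]
    have hxz : x = a ^ (2 ^ m) := by
      obtain ⟨k, hk | hk⟩ := hsurj x
      · -- x = a ^ k with a^(2k) = 1
        rw [hk, ← pow_mul] at hx2
        have h1 := orderOf_dvd_of_pow_eq_one hx2
        rw [hao, pow_succ] at h1
        have h2 : 2 ^ m ∣ k := Nat.dvd_of_mul_dvd_mul_right (by norm_num) h1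
        obtain ⟨j, hj⟩ := h2
        rcases Nat.even_or_odd j with ⟨i, hi⟩ | ⟨i, hi⟩
        · exfalso
          apply hx1
          rw [hk, hj, hi, ← two_mul, ← mul_assoc, ← pow_succ, pow_mul, ← hao, pow_orderOf_eq_one,
            one_pow]
        · rw [hk, hj, hi, mul_add, mul_one, pow_add, ← mul_assoc, ← pow_succ, pow_mul, ← hao,
            pow_orderOf_eq_one, one_pow, one_mul]
      · exfalso
        have h1 : x ^ 2 = a ^ (2 ^ m) := by
          rw [hk, pow_two]
          calc b * a ^ k * (b * a ^ k) = (b * a ^ k * b⁻¹) * b ^ 2 * a ^ k := by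
                rw [pow_two]; group
            _ = (a ^ k)⁻¹ * a ^ (2 ^ m) * a ^ k := by rw [hbinv, hb2]
            _ = a ^ (2 ^ m) := by
                rw [mul_assoc, ← pow_add, add_comm, pow_add, ← mul_assoc, inv_mul_cancel, one_mul]
        rw [hx2] at h1
        exact hz1 h1.symm
    have hxcen : x ∈ Subgroup.center S := by
      rw [hxz, Subgroup.mem_center_iff]
      intro g
      have hbz : b * a ^ (2 ^ m) = a ^ (2 ^ m) * b := by
        have h1 := hbinv (2 ^ m)
        have h2 : (a ^ (2 ^ m))⁻¹ = a ^ (2 ^ m) := by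
          rw [inv_eq_iff_mul_eq_one, ← pow_two]; exact hz2
        rw [h2] at h1
        calc b * a ^ (2 ^ m) = (b * a ^ (2 ^ m) * b⁻¹) * b := by group
          _ = a ^ (2 ^ m) * b := by rw [h1]
      obtain ⟨j, hj | hj⟩ := hsurj g
      · rw [hj, ← pow_add, ← pow_add, add_comm]
      · rw [hj, mul_assoc, ← pow_add, add_comm j, pow_add, ← mul_assoc, hbz, mul_assoc]
    have htop : Subgroup.centralizer ({x} : Set S) = ⊤ := by
      rw [eq_top_iff]
      intro g _
      rw [Subgroup.mem_centralizer_singleton_iff]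
      exact Subgroup.mem_center_iff.mp hxcen g
    rw [htop, Subgroup.card_top, hn] at hC
    have h1 : (2 : ℕ) ^ 3 ≤ 2 ^ (m + 2) := Nat.pow_le_pow_right (by norm_num) (by omega)
    omega
  · exfalso
    have ha2b : b * a ^ 2 * b⁻¹ = a ^ 2 := by
      have h1 : b * a ^ 2 * b⁻¹ = (b * a * b⁻¹) ^ 2 := by
        rw [pow_two, pow_two]; group
      rw [h1, hbab, ← pow_mul]
      have h2 : (1 + 2 ^ m) * 2 = 2 + 2 ^ (m + 1) := by ring
      rw [h2, pow_add, ← hao, pow_orderOf_eq_one, mul_one]
    have hcen : a ^ 2 ∈ Subgroup.center S := by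
      rw [Subgroup.mem_center_iff]
      intro g
      have hab2 : b * a ^ 2 = a ^ 2 * b := by
        calc b * a ^ 2 = (b * a ^ 2 * b⁻¹) * b := by group
          _ = a ^ 2 * b := by rw [ha2b]
      obtain ⟨j, hj | hj⟩ := hsurj g
      · rw [hj, ← pow_add, ← pow_add, add_comm]
      · rw [hj, mul_assoc, ← pow_add, add_comm j 2, pow_add, ← mul_assoc, hab2, mul_assoc]
    have h1 : orderOf (a ^ 2) = 2 ^ m := by
      rw [orderOf_pow_of_dvd (by norm_num) (by rw [hao]; exact dvd_pow_self 2 (by omega)), hao,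
        pow_succ 2 m]
      simp
    have h3 : orderOf (a ^ 2) ≤ 2 := by
      have h5 : orderOf (⟨a ^ 2, hcen⟩ : Subgroup.center S) ∣ Nat.card (Subgroup.center S) :=
        orderOf_dvd_natCard _
      rw [Subgroup.orderOf_mk, hcZ] at h5
      exact Nat.le_of_dvd (by norm_num) h5
    rw [h1] at h3
    have h4 : (2 : ℕ) ^ 2 ≤ 2 ^ m := Nat.pow_le_pow_right (by norm_num) hm2
    omega
  · right; left
    refine ⟨m + 1, by omega, hn, a, b, hao, ?_, ?_⟩
    · apply orderOf_eq_prime hb2
      intro h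
      exact hyx 0 (by rw [h, pow_zero])
    · rw [hbab]
      congr 2

end Cfsg.Agent.S3224
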