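import Cfsg.Statements.S3374
import Mathlib
import Cfsg.Agent.Lib_helper4_FrobSemi

set_option autoImplicit false
open Cfsg

namespace Cfsg.Agent.S3374

open Matrix

abbrev G := Matrix.SpecialLinearGroup (Fin 2) (ZMod 5)

def tbl : Fin 5 → Fin 5 → Fin 5 → Fin 5 → Matrix (Fin 2) (Fin 2) (ZMod 11) :=
  ![![![![!![1, 0; 0, 1], !![1, 0; 0, 1], !![1, 0; 0, 1], !![1, 0; 0, 1], !![1, 0; 0, 1]],
      ![!![1, 0; 0, 1], !![1, 0; 0, 1], !![1, 0; 0, 1], !![1, 0; 0, 1], !![1, 0; 0, 1]],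
      ![!![1, 0; 0, 1], !![1, 0; 0, 1], !![1, 0; 0, 1], !![1, 0; 0, 1], !![1, 0; 0, 1]],
      ![!![1, 0; 0, 1], !![1, 0; 0, 1], !![1, 0; 0, 1], !![1, 0; 0, 1], !![1, 0; 0, 1]],
      ![!![1, 0; 0, 1], !![1, 0; 0, 1], !![1, 0; 0, 1], !![1, 0; 0, 1], !![1, 0; 0, 1]]],
    ![![!![1, 0; 0, 1], !![1, 0; 0, 1], !![1, 0; 0, 1], !![1, 0; 0, 1], !![1, 0; 0, 1]],
      ![!![1, 0; 0, 1], !![1, 0; 0, 1], !![1, 0; 0, 1], !![1, 0; 0, 1], !![1, 0; 0, 1]],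
      ![!![1, 0; 0, 1], !![1, 0; 0, 1], !![1, 0; 0, 1], !![1, 0; 0, 1], !![1, 0; 0, 1]],
      ![!![1, 0; 0, 1], !![1, 0; 0, 1], !![1, 0; 0, 1], !![1, 0; 0, 1], !![1, 0; 0, 1]],
      ![!![0, 10; 1, 0], !![4, 10; 2, 8], !![1, 9; 5, 2], !![10, 6; 2, 9], !![7, 9; 1, 3]]],
    ![![!![1, 0; 0, 1], !![1, 0; 0, 1], !![1, 0; 0, 1], !![1, 0; 0, 1], !![1, 0; 0, 1]],
      ![!![1, 0; 0, 1], !![1, 0; 0, 1], !![1, 0; 0, 1], !![1, 0; 0, 1], !![1, 0; 0, 1]],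
      ![!![8, 10; 10, 3], !![8, 3; 3, 4], !![4, 0; 0, 3], !![9, 8; 8, 6], !![4, 1; 1, 6]],
      ![!![1, 0; 0, 1], !![1, 0; 0, 1], !![1, 0; 0, 1], !![1, 0; 0, 1], !![1, 0; 0, 1]],
      ![!![1, 0; 0, 1], !![1, 0; 0, 1], !![1, 0; 0, 1], !![1, 0; 0, 1], !![1, 0; 0, 1]]],
    ![![!![1, 0; 0, 1], !![1, 0; 0, 1], !![1, 0; 0, 1], !![1, 0; 0, 1], !![1, 0; 0, 1]],
      ![!![1, 0; 0, 1], !![1, 0; 0, 1], !![1, 0; 0, 1], !![1, 0; 0, 1], !![1, 0; 0, 1]],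
      ![!![1, 0; 0, 1], !![1, 0; 0, 1], !![1, 0; 0, 1], !![1, 0; 0, 1], !![1, 0; 0, 1]],
      ![!![3, 1; 1, 8], !![7, 10; 10, 5], !![2, 3; 3, 5], !![7, 0; 0, 8], !![3, 8; 8, 7]],
      ![!![1, 0; 0, 1], !![1, 0; 0, 1], !![1, 0; 0, 1], !![1, 0; 0, 1], !![1, 0; 0, 1]]],
    ![![!![1, 0; 0, 1], !![1, 0; 0, 1], !![1, 0; 0, 1], !![1, 0; 0, 1], !![1, 0; 0, 1]],
      ![!![0, 1; 10, 0], !![4, 2; 10, 8], !![1, 5; 9, 2], !![10, 2; 6, 9], !![7, 1; 9, 3]],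
      ![!![1, 0; 0, 1], !![1, 0; 0, 1], !![1, 0; 0, 1], !![1, 0; 0, 1], !![1, 0; 0, 1]],
      ![!![1, 0; 0, 1], !![1, 0; 0, 1], !![1, 0; 0, 1], !![1, 0; 0, 1], !![1, 0; 0, 1]],
      ![!![1, 0; 0, 1], !![1, 0; 0, 1], !![1, 0; 0, 1], !![1, 0; 0, 1], !![1, 0; 0, 1]]]],
  ![![![!![1, 0; 0, 1], !![1, 0; 0, 1], !![1, 0; 0, 1], !![1, 0; 0, 1], !![1, 0; 0, 1]],
      ![!![1, 0; 0, 1], !![1, 4; 3, 2], !![1, 0; 0, 1], !![1, 0; 0, 1], !![1, 0; 0, 1]],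
      ![!![1, 0; 0, 1], !![2, 1; 9, 5], !![1, 0; 0, 1], !![1, 0; 0, 1], !![1, 0; 0, 1]],
      ![!![1, 0; 0, 1], !![5, 10; 2, 2], !![1, 0; 0, 1], !![1, 0; 0, 1], !![1, 0; 0, 1]],
      ![!![1, 0; 0, 1], !![2, 7; 8, 1], !![1, 0; 0, 1], !![1, 0; 0, 1], !![1, 0; 0, 1]]],
    ![![!![1, 0; 0, 1], !![1, 3; 4, 2], !![1, 0; 0, 1], !![1, 0; 0, 1], !![1, 0; 0, 1]],
      ![!![1, 0; 0, 1], !![1, 0; 0, 1], !![6, 0; 0, 2], !![1, 0; 0, 1], !![1, 0; 0, 1]],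
      ![!![1, 0; 0, 1], !![1, 0; 0, 1], !![1, 0; 0, 1], !![6, 8; 7, 4], !![1, 0; 0, 1]],
      ![!![1, 0; 0, 1], !![1, 0; 0, 1], !![1, 0; 0, 1], !![1, 0; 0, 1], !![1, 2; 10, 10]],
      ![!![8, 9; 1, 4], !![1, 0; 0, 1], !![1, 0; 0, 1], !![1, 0; 0, 1], !![1, 0; 0, 1]]],
    ![![!![1, 0; 0, 1], !![2, 9; 1, 5], !![1, 0; 0, 1], !![1, 0; 0, 1], !![1, 0; 0, 1]],
      ![!![1, 0; 0, 1], !![1, 0; 0, 1], !![1, 0; 0, 1], !![6, 7; 8, 4], !![1, 0; 0, 1]],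
      ![!![5, 1; 1, 7], !![1, 0; 0, 1], !![1, 0; 0, 1], !![1, 0; 0, 1], !![1, 0; 0, 1]],
      ![!![1, 0; 0, 1], !![1, 0; 0, 1], !![9, 7; 6, 6], !![1, 0; 0, 1], !![1, 0; 0, 1]],
      ![!![1, 0; 0, 1], !![1, 0; 0, 1], !![1, 0; 0, 1], !![1, 0; 0, 1], !![0, 9; 6, 0]]],
    ![![!![1, 0; 0, 1], !![5, 2; 10, 2], !![1, 0; 0, 1], !![1, 0; 0, 1], !![1, 0; 0, 1]],
      ![!![1, 0; 0, 1], !![1, 0; 0, 1], !![1, 0; 0, 1], !![1, 0; 0, 1], !![1, 10; 2, 10]],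
      ![!![1, 0; 0, 1], !![1, 0; 0, 1], !![9, 6; 7, 6], !![1, 0; 0, 1], !![1, 0; 0, 1]],
      ![!![4, 8; 8, 8], !![1, 0; 0, 1], !![1, 0; 0, 1], !![1, 0; 0, 1], !![1, 0; 0, 1]],
      ![!![1, 0; 0, 1], !![1, 0; 0, 1], !![1, 0; 0, 1], !![3, 7; 6, 7], !![1, 0; 0, 1]]],
    ![![!![1, 0; 0, 1], !![2, 8; 7, 1], !![1, 0; 0, 1], !![1, 0; 0, 1], !![1, 0; 0, 1]],
      ![!![8, 1; 9, 4], !![1, 0; 0, 1], !![1, 0; 0, 1], !![1, 0; 0, 1], !![1, 0; 0, 1]],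
      ![!![1, 0; 0, 1], !![1, 0; 0, 1], !![1, 0; 0, 1], !![1, 0; 0, 1], !![0, 6; 9, 0]],
      ![!![1, 0; 0, 1], !![1, 0; 0, 1], !![1, 0; 0, 1], !![3, 6; 7, 7], !![1, 0; 0, 1]],
      ![!![1, 0; 0, 1], !![1, 0; 0, 1], !![9, 1; 1, 10], !![1, 0; 0, 1], !![1, 0; 0, 1]]]],
  ![![![!![1, 0; 0, 1], !![1, 0; 0, 1], !![1, 0; 0, 1], !![1, 8; 8, 10], !![1, 0; 0, 1]],
      ![!![1, 0; 0, 1], !![1, 0; 0, 1], !![1, 0; 0, 1], !![8, 8; 7, 3], !![1, 0; 0, 1]],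
      ![!![1, 0; 0, 1], !![1, 0; 0, 1], !![1, 0; 0, 1], !![0, 4; 8, 0], !![1, 0; 0, 1]],
      ![!![1, 0; 0, 1], !![1, 0; 0, 1], !![1, 0; 0, 1], !![3, 9; 5, 8], !![1, 0; 0, 1]],
      ![!![1, 0; 0, 1], !![1, 0; 0, 1], !![1, 0; 0, 1], !![10, 4; 5, 1], !![1, 0; 0, 1]]],
    ![![!![1, 0; 0, 1], !![1, 0; 0, 1], !![1, 0; 0, 1], !![8, 7; 8, 3], !![1, 0; 0, 1]],
      ![!![1, 0; 0, 1], !![10, 10; 10, 9], !![1, 0; 0, 1], !![1, 0; 0, 1], !![1, 0; 0, 1]],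
      ![!![1, 0; 0, 1], !![1, 0; 0, 1], !![1, 0; 0, 1], !![1, 0; 0, 1], !![7, 8; 7, 5]],
      ![!![1, 0; 0, 1], !![1, 0; 0, 1], !![6, 2; 6, 4], !![1, 0; 0, 1], !![1, 0; 0, 1]],
      ![!![2, 6; 2, 1], !![1, 0; 0, 1], !![1, 0; 0, 1], !![1, 0; 0, 1], !![1, 0; 0, 1]]],
    ![![!![1, 0; 0, 1], !![1, 0; 0, 1], !![1, 0; 0, 1], !![0, 8; 4, 0], !![1, 0; 0, 1]],
      ![!![1, 0; 0, 1], !![1, 0; 0, 1], !![1, 0; 0, 1], !![1, 0; 0, 1], !![7, 7; 8, 5]],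
      ![!![5, 8; 8, 2], !![1, 0; 0, 1], !![1, 0; 0, 1], !![1, 0; 0, 1], !![1, 0; 0, 1]],
      ![!![1, 0; 0, 1], !![6, 5; 4, 9], !![1, 0; 0, 1], !![1, 0; 0, 1], !![1, 0; 0, 1]],
      ![!![1, 0; 0, 1], !![1, 0; 0, 1], !![4, 5; 9, 6], !![1, 0; 0, 1], !![1, 0; 0, 1]]],
    ![![!![1, 0; 0, 1], !![1, 0; 0, 1], !![1, 0; 0, 1], !![3, 5; 9, 8], !![1, 0; 0, 1]],
      ![!![1, 0; 0, 1], !![1, 0; 0, 1], !![6, 6; 2, 4], !![1, 0; 0, 1], !![1, 0; 0, 1]],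
      ![!![1, 0; 0, 1], !![6, 4; 5, 9], !![1, 0; 0, 1], !![1, 0; 0, 1], !![1, 0; 0, 1]],
      ![!![3, 0; 0, 4], !![1, 0; 0, 1], !![1, 0; 0, 1], !![1, 0; 0, 1], !![1, 0; 0, 1]],
      ![!![1, 0; 0, 1], !![1, 0; 0, 1], !![1, 0; 0, 1], !![1, 0; 0, 1], !![4, 7; 6, 8]]],
    ![![!![1, 0; 0, 1], !![1, 0; 0, 1], !![1, 0; 0, 1], !![10, 5; 4, 1], !![1, 0; 0, 1]],
      ![!![2, 2; 6, 1], !![1, 0; 0, 1], !![1, 0; 0, 1], !![1, 0; 0, 1], !![1, 0; 0, 1]],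
      ![!![1, 0; 0, 1], !![1, 0; 0, 1], !![4, 9; 5, 6], !![1, 0; 0, 1], !![1, 0; 0, 1]],
      ![!![1, 0; 0, 1], !![1, 0; 0, 1], !![1, 0; 0, 1], !![1, 0; 0, 1], !![4, 6; 7, 8]],
      ![!![1, 0; 0, 1], !![2, 0; 0, 6], !![1, 0; 0, 1], !![1, 0; 0, 1], !![1, 0; 0, 1]]]],
  ![![![!![1, 0; 0, 1], !![1, 0; 0, 1], !![10, 3; 3, 1], !![1, 0; 0, 1], !![1, 0; 0, 1]],
      ![!![1, 0; 0, 1], !![1, 0; 0, 1], !![1, 7; 6, 10], !![1, 0; 0, 1], !![1, 0; 0, 1]],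
      ![!![1, 0; 0, 1], !![1, 0; 0, 1], !![8, 2; 6, 3], !![1, 0; 0, 1], !![1, 0; 0, 1]],
      ![!![1, 0; 0, 1], !![1, 0; 0, 1], !![0, 7; 3, 0], !![1, 0; 0, 1], !![1, 0; 0, 1]],
      ![!![1, 0; 0, 1], !![1, 0; 0, 1], !![3, 3; 4, 8], !![1, 0; 0, 1], !![1, 0; 0, 1]]],
    ![![!![1, 0; 0, 1], !![1, 0; 0, 1], !![1, 6; 7, 10], !![1, 0; 0, 1], !![1, 0; 0, 1]],
      ![!![1, 0; 0, 1], !![1, 0; 0, 1], !![1, 0; 0, 1], !![1, 0; 0, 1], !![9, 0; 0, 5]],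
      ![!![1, 0; 0, 1], !![7, 5; 4, 3], !![1, 0; 0, 1], !![1, 0; 0, 1], !![1, 0; 0, 1]],
      ![!![1, 0; 0, 1], !![1, 0; 0, 1], !![1, 0; 0, 1], !![7, 2; 6, 5], !![1, 0; 0, 1]],
      ![!![9, 9; 5, 10], !![1, 0; 0, 1], !![1, 0; 0, 1], !![1, 0; 0, 1], !![1, 0; 0, 1]]],
    ![![!![1, 0; 0, 1], !![1, 0; 0, 1], !![8, 6; 2, 3], !![1, 0; 0, 1], !![1, 0; 0, 1]],
      ![!![1, 0; 0, 1], !![7, 4; 5, 3], !![1, 0; 0, 1], !![1, 0; 0, 1], !![1, 0; 0, 1]],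
      ![!![8, 0; 0, 7], !![1, 0; 0, 1], !![1, 0; 0, 1], !![1, 0; 0, 1], !![1, 0; 0, 1]],
      ![!![1, 0; 0, 1], !![1, 0; 0, 1], !![1, 0; 0, 1], !![1, 0; 0, 1], !![5, 7; 6, 2]],
      ![!![1, 0; 0, 1], !![1, 0; 0, 1], !![1, 0; 0, 1], !![5, 5; 9, 7], !![1, 0; 0, 1]]],
    ![![!![1, 0; 0, 1], !![1, 0; 0, 1], !![0, 3; 7, 0], !![1, 0; 0, 1], !![1, 0; 0, 1]],
      ![!![1, 0; 0, 1], !![1, 0; 0, 1], !![1, 0; 0, 1], !![7, 6; 2, 5], !![1, 0; 0, 1]],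
      ![!![1, 0; 0, 1], !![1, 0; 0, 1], !![1, 0; 0, 1], !![1, 0; 0, 1], !![5, 6; 7, 2]],
      ![!![6, 3; 3, 9], !![1, 0; 0, 1], !![1, 0; 0, 1], !![1, 0; 0, 1], !![1, 0; 0, 1]],
      ![!![1, 0; 0, 1], !![4, 4; 3, 6], !![1, 0; 0, 1], !![1, 0; 0, 1], !![1, 0; 0, 1]]],
    ![![!![1, 0; 0, 1], !![1, 0; 0, 1], !![3, 4; 3, 8], !![1, 0; 0, 1], !![1, 0; 0, 1]],
      ![!![9, 5; 9, 10], !![1, 0; 0, 1], !![1, 0; 0, 1], !![1, 0; 0, 1], !![1, 0; 0, 1]],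
      ![!![1, 0; 0, 1], !![1, 0; 0, 1], !![1, 0; 0, 1], !![5, 9; 5, 7], !![1, 0; 0, 1]],
      ![!![1, 0; 0, 1], !![4, 3; 4, 6], !![1, 0; 0, 1], !![1, 0; 0, 1], !![1, 0; 0, 1]],
      ![!![1, 0; 0, 1], !![1, 0; 0, 1], !![1, 0; 0, 1], !![1, 0; 0, 1], !![1, 1; 1, 2]]]],
  ![![![!![1, 0; 0, 1], !![1, 0; 0, 1], !![1, 0; 0, 1], !![1, 0; 0, 1], !![10, 0; 0, 10]],
      ![!![1, 0; 0, 1], !![1, 0; 0, 1], !![1, 0; 0, 1], !![1, 0; 0, 1], !![9, 4; 3, 10]],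
      ![!![1, 0; 0, 1], !![1, 0; 0, 1], !![1, 0; 0, 1], !![1, 0; 0, 1], !![6, 1; 9, 9]],
      ![!![1, 0; 0, 1], !![1, 0; 0, 1], !![1, 0; 0, 1], !![1, 0; 0, 1], !![9, 10; 2, 6]],
      ![!![1, 0; 0, 1], !![1, 0; 0, 1], !![1, 0; 0, 1], !![1, 0; 0, 1], !![10, 7; 8, 9]]],
    ![![!![1, 0; 0, 1], !![1, 0; 0, 1], !![1, 0; 0, 1], !![1, 0; 0, 1], !![9, 3; 4, 10]],
      ![!![1, 0; 0, 1], !![1, 0; 0, 1], !![1, 0; 0, 1], !![2, 10; 10, 1], !![1, 0; 0, 1]],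
      ![!![1, 0; 0, 1], !![1, 0; 0, 1], !![8, 5; 4, 4], !![1, 0; 0, 1], !![1, 0; 0, 1]],
      ![!![1, 0; 0, 1], !![0, 5; 2, 0], !![1, 0; 0, 1], !![1, 0; 0, 1], !![1, 0; 0, 1]],
      ![!![3, 10; 2, 7], !![1, 0; 0, 1], !![1, 0; 0, 1], !![1, 0; 0, 1], !![1, 0; 0, 1]]],
    ![![!![1, 0; 0, 1], !![1, 0; 0, 1], !![1, 0; 0, 1], !![1, 0; 0, 1], !![6, 9; 1, 9]],
      ![!![1, 0; 0, 1], !![1, 0; 0, 1], !![8, 4; 5, 4], !![1, 0; 0, 1], !![1, 0; 0, 1]],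
      ![!![7, 3; 3, 3], !![1, 0; 0, 1], !![1, 0; 0, 1], !![1, 0; 0, 1], !![1, 0; 0, 1]],
      ![!![1, 0; 0, 1], !![1, 0; 0, 1], !![1, 0; 0, 1], !![2, 5; 4, 5], !![1, 0; 0, 1]],
      ![!![1, 0; 0, 1], !![10, 1; 9, 1], !![1, 0; 0, 1], !![1, 0; 0, 1], !![1, 0; 0, 1]]],
    ![![!![1, 0; 0, 1], !![1, 0; 0, 1], !![1, 0; 0, 1], !![1, 0; 0, 1], !![9, 2; 10, 6]],
      ![!![1, 0; 0, 1], !![0, 2; 5, 0], !![1, 0; 0, 1], !![1, 0; 0, 1], !![1, 0; 0, 1]],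
      ![!![1, 0; 0, 1], !![1, 0; 0, 1], !![1, 0; 0, 1], !![2, 4; 5, 5], !![1, 0; 0, 1]],
      ![!![6, 10; 10, 4], !![1, 0; 0, 1], !![1, 0; 0, 1], !![1, 0; 0, 1], !![1, 0; 0, 1]],
      ![!![1, 0; 0, 1], !![1, 0; 0, 1], !![5, 4; 3, 7], !![1, 0; 0, 1], !![1, 0; 0, 1]]],
    ![![!![1, 0; 0, 1], !![1, 0; 0, 1], !![1, 0; 0, 1], !![1, 0; 0, 1], !![10, 8; 7, 9]],
      ![!![3, 2; 10, 7], !![1, 0; 0, 1], !![1, 0; 0, 1], !![1, 0; 0, 1], !![1, 0; 0, 1]],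
      ![!![1, 0; 0, 1], !![10, 9; 1, 1], !![1, 0; 0, 1], !![1, 0; 0, 1], !![1, 0; 0, 1]],
      ![!![1, 0; 0, 1], !![1, 0; 0, 1], !![5, 3; 4, 7], !![1, 0; 0, 1], !![1, 0; 0, 1]],
      ![!![1, 0; 0, 1], !![1, 0; 0, 1], !![1, 0; 0, 1], !![5, 0; 0, 9], !![1, 0; 0, 1]]]]]

def rho (g : G) : Matrix (Fin 2) (Fin 2) (ZMod 11) := tbl (g.1 0 0) (g.1 0 1) (g.1 1 0) (g.1 1 1)

set_option maxHeartbeats 40000000 in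
lemma rho_one : rho 1 = 1 := by decide +kernel

set_option maxHeartbeats 40000000 in
lemma rho_mul : ∀ g h : G, rho (g * h) = rho g * rho h := by decide +kernel

set_option maxHeartbeats 40000000 in
lemma rho_fpf : ∀ g : G, g ≠ 1 → (rho g - 1).det ≠ 0 := by decide +kernel

instance instFactP : Fact (Nat.Prime 11) := ⟨by norm_num⟩

def tt : G := ⟨!![1, 1; 0, 1], by decide⟩

instance instNontrivG : Nontrivial G := ⟨⟨(1 : G), tt, by decide +kernel⟩⟩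

/-- SL(2,5) occurs as a Frobenius complement: there is a finite group L with a subgroup H isomorphic to SL(2,5) which is a non-trivial proper subgroup meeting each conjugate gHg⁻¹ with g outside H trivially. -/
theorem result :
    ∃ (L : Type) (_ : Group L) (_ : Finite L) (H : Subgroup L),
      Cfsg.IsFrobeniusComplement H ∧ Nonempty (H ≃* Matrix.SpecialLinearGroup (Fin 2) (ZMod 5)) := by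
  exact Cfsg.Agent.Lib_helper4_FrobSemi.exists_frob (p := 11) rho rho_one rho_mul rho_fpf

end Cfsg.Agent.S3374
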