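import Cfsg.Statements.S3554
import Mathlib

set_option autoImplicit false
open Cfsg

namespace Cfsg.Agent.S3554

open MulAction

/-- Let G act faithfully and transitively on a finite set and suppose G has a non-trivial cyclic normal subgroup. Then some element of G of prime order fixes no point. -/
theorem result {G Ω : Type*} [Group G] [Finite G] [MulAction G Ω] [FaithfulSMul G Ω] [Finite Ω]
    (htrans : MulAction.IsPretransitive G Ω) (C : Subgroup G) (hC : C.Normal) (hC1 : C ≠ ⊥) (hcyc : IsCyclic ↥C) :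
    ∃ g : G, (orderOf g).Prime ∧ ∀ ω : Ω, g • ω ≠ ω := by
  obtain ⟨c, hc⟩ := hcyc.exists_generator
  have hc1 : (c : G) ≠ 1 := by
    intro h
    apply hC1
    rw [eq_bot_iff]
    intro x hx
    obtain ⟨j, hj⟩ := hc ⟨x, hx⟩
    have h2 := congrArg Subtype.val hj
    simp only [Subgroup.coe_zpow] at h2
    rw [h, one_zpow] at h2
    exact Subgroup.mem_bot.mpr h2.symm
  have hn : orderOf (c : G) ≠ 1 := fun h => hc1 (orderOf_eq_one_iff.mp h)
  have hn0 : 0 < orderOf (c : G) := orderOf_pos _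
  obtain ⟨p, hp, hpn⟩ := Nat.exists_prime_and_dvd hn
  obtain ⟨m, hm⟩ := hpn
  have hm0 : 0 < m := by
    rcases Nat.eq_zero_or_pos m with h | h
    · rw [h, mul_zero] at hm; omega
    · exact h
  haveI : Fact p.Prime := ⟨hp⟩
  have hgp : ((c : G) ^ m) ^ p = 1 := by
    rw [← pow_mul, mul_comm, ← hm, pow_orderOf_eq_one]
  have hg1 : (c : G) ^ m ≠ 1 := by
    intro h
    have h2 := orderOf_dvd_of_pow_eq_one h
    rw [hm] at h2
    have h3 := Nat.le_of_dvd hm0 h2
    have h4 := hp.two_le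
    nlinarith
  have hg : orderOf ((c : G) ^ m) = p := orderOf_eq_prime hgp hg1
  have hgC : (c : G) ^ m ∈ C := pow_mem c.2 m
  have hconj : ∀ k : G, ∃ t : ℤ, k * (c : G) ^ m * k⁻¹ = ((c : G) ^ m) ^ t := by
    intro k
    have h1 : k * (c : G) ^ m * k⁻¹ ∈ C := hC.conj_mem _ hgC k
    obtain ⟨j, hj⟩ := hc ⟨_, h1⟩
    have h2 := congrArg Subtype.val hj
    simp only [Subgroup.coe_zpow] at h2
    have h3 : ((c : G) ^ j) ^ p = 1 := by
      rw [h2, conj_pow, hgp]; simp
    rw [← zpow_natCast, ← zpow_mul, ← orderOf_dvd_iff_zpow_eq_one, hm] at h3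
    have h4 : (m : ℤ) ∣ j := by
      have h5 : ((p : ℤ) * m) ∣ j * p := by exact_mod_cast h3
      rw [mul_comm j] at h5
      exact (mul_dvd_mul_iff_left (by exact_mod_cast hp.ne_zero)).mp h5
    obtain ⟨t, rfl⟩ := h4
    refine ⟨t, ?_⟩
    rw [← h2, zpow_mul, zpow_natCast]
  refine ⟨(c : G) ^ m, by rw [hg]; exact hp, ?_⟩
  intro ω hω
  apply hg1
  apply FaithfulSMul.eq_of_smul_eq_smul (α := Ω)
  intro ω'
  rw [one_smul]
  obtain ⟨k, rfl⟩ := exists_smul_eq G ω ω'
  obtain ⟨t, ht⟩ := hconj k⁻¹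
  rw [inv_inv] at ht
  have h1 : ((c : G) ^ m) ^ t • ω = ω := by
    have h2 : (c : G) ^ m ∈ stabilizer G ω := hω
    exact zpow_mem h2 t
  have h3 : (c : G) ^ m * k = k * (k⁻¹ * (c : G) ^ m * k) := by group
  rw [← mul_smul, h3, ht, mul_smul, h1]

end Cfsg.Agent.S3554
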