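import Cfsg.Statements.S3741
import Cfsg.Agent.Lib_helper5_Fitting

set_option autoImplicit false
open Cfsg

namespace Cfsg.Agent.S3741

theorem card_eq_of_mem_iff {G : Type*} [Group G] [Fintype G] (H : Subgroup G) (s : Finset G)
    (h : ∀ x, x ∈ s ↔ x ∈ H) : s.card = Nat.card H := by
  have e : ↥H ≃ {x // x ∈ s} := Equiv.subtypeEquivRight (fun x => (h x).symm)
  rw [Nat.card_congr e, Nat.card_eq_fintype_card, Fintype.card_coe]

theorem relIndex_cent {G : Type*} [Group G] [Finite G] {p : ℕ} [Fact p.Prime]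
    (hG : IsPGroup p G) (B Z : Subgroup G) (hZ : Nat.card Z ≤ p) (a : G)
    (ha : ∀ b ∈ B, a * b * a⁻¹ * b⁻¹ ∈ Z) :
    (B ⊓ Subgroup.centralizer {a}).relIndex B = 1 ∨
      (B ⊓ Subgroup.centralizer {a}).relIndex B = p := by
  have hp : p.Prime := Fact.out
  have hle : (B ⊓ Subgroup.centralizer {a}).relIndex B ≤ p := by
    refine le_trans ?_ hZ
    let f : ↥B ⧸ (B ⊓ Subgroup.centralizer {a}).subgroupOf B → ↥Z :=
      fun q => Quotient.liftOn' q
        (fun b => (⟨a * (b : G) * a⁻¹ * (b : G)⁻¹, ha b b.2⟩ : ↥Z)) (by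
        intro b b' hbb'
        rw [QuotientGroup.leftRel_apply, Subgroup.mem_subgroupOf] at hbb'
        have hc : ((b⁻¹ * b' : ↥B) : G) ∈ Subgroup.centralizer {a} := hbb'.2
        rw [Subgroup.mem_centralizer_iff] at hc
        have hc' : a * ((b : G)⁻¹ * (b' : G)) = ((b : G)⁻¹ * (b' : G)) * a := hc a rfl
        apply Subtype.ext
        show a * (b : G) * a⁻¹ * (b : G)⁻¹ = a * (b' : G) * a⁻¹ * (b' : G)⁻¹
        have hka : ((b : G)⁻¹ * (b' : G)) * a⁻¹ * ((b : G)⁻¹ * (b' : G))⁻¹ = a⁻¹ := by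
          calc ((b : G)⁻¹ * (b' : G)) * a⁻¹ * ((b : G)⁻¹ * (b' : G))⁻¹
              = a⁻¹ * (a * ((b : G)⁻¹ * (b' : G))) * a⁻¹ * ((b : G)⁻¹ * (b' : G))⁻¹ := by group
            _ = a⁻¹ * (((b : G)⁻¹ * (b' : G)) * a) * a⁻¹ * ((b : G)⁻¹ * (b' : G))⁻¹ := by
              rw [hc']
            _ = a⁻¹ := by group
        calc a * (b : G) * a⁻¹ * (b : G)⁻¹ = a * (b : G) * (a⁻¹) * (b : G)⁻¹ := rfl
          _ = a * (b : G) * (((b : G)⁻¹ * (b' : G)) * a⁻¹ * ((b : G)⁻¹ * (b' : G))⁻¹) *
              (b : G)⁻¹ := by rw [hka]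
          _ = a * (b' : G) * a⁻¹ * (b' : G)⁻¹ := by group)
    have hf : Function.Injective f := by
      intro q q'
      induction q using Quotient.inductionOn' with
      | _ b =>
      induction q' using Quotient.inductionOn' with
      | _ b' =>
      intro h
      apply Quotient.sound'
      rw [QuotientGroup.leftRel_apply, Subgroup.mem_subgroupOf]
      have h' : a * (b : G) * a⁻¹ * (b : G)⁻¹ = a * (b' : G) * a⁻¹ * (b' : G)⁻¹ :=
        congrArg Subtype.val h
      have h1 : (b : G) * a⁻¹ * (b : G)⁻¹ = (b' : G) * a⁻¹ * (b' : G)⁻¹ := by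
        have h2 := congrArg (fun t => a⁻¹ * t) h'
        simpa [mul_assoc] using h2
      refine ⟨(b⁻¹ * b').2, ?_⟩
      show ((b⁻¹ * b' : ↥B) : G) ∈ Subgroup.centralizer {a}
      rw [Subgroup.mem_centralizer_iff]
      intro x hx
      rw [Set.mem_singleton_iff] at hx
      subst hx
      show x * ((b : G)⁻¹ * (b' : G)) = ((b : G)⁻¹ * (b' : G)) * x
      calc x * ((b : G)⁻¹ * (b' : G))
          = ((b : G)⁻¹ * ((b : G) * x⁻¹ * (b : G)⁻¹)⁻¹ * (b : G)) * ((b : G)⁻¹ * (b' : G)) := by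
            group
        _ = ((b : G)⁻¹ * ((b' : G) * x⁻¹ * (b' : G)⁻¹)⁻¹ * (b : G)) * ((b : G)⁻¹ * (b' : G)) := by
            rw [h1]
        _ = ((b : G)⁻¹ * (b' : G)) * x := by group
    exact Nat.card_le_card_of_injective f hf
  obtain ⟨n, hn⟩ := (hG.to_subgroup B).index ((B ⊓ Subgroup.centralizer {a}).subgroupOf B)
  have hn' : (B ⊓ Subgroup.centralizer {a}).relIndex B = p ^ n := hn
  rw [hn'] at hle ⊢
  rcases Nat.lt_or_ge n 2 with h | h
  · interval_cases n
    · left; simp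
    · right; simp
  · exfalso
    have h1 : p ^ 2 ≤ p ^ n := Nat.pow_le_pow_right hp.pos h
    have h2 : p < p ^ 2 := by
      rw [pow_two]
      exact lt_mul_self hp.one_lt
    omega

theorem count_side {G : Type*} [Group G] [Fintype G] {p : ℕ} [Fact p.Prime]
    (hG : IsPGroup p G) (A B Z : Subgroup G) (hZ : Nat.card Z ≤ p)
    (h : ∀ a ∈ A, ∀ b ∈ B, a * b * a⁻¹ * b⁻¹ ∈ Z) (Af Bf : Finset G)
    (hAf : ∀ x, x ∈ Af ↔ x ∈ A) (hBf : ∀ x, x ∈ Bf ↔ x ∈ B) [DecidableEq G] :
    ∃ c c' : ℕ, c + c' = Nat.card A ∧ c = Nat.card ↥(A ⊓ Subgroup.centralizer (B : Set G)) ∧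
      p * ∑ a ∈ Af, (Bf.filter (fun b => a * b = b * a)).card =
        p * c * Nat.card B + c' * Nat.card B := by
  classical
  have hcard : ∀ a : G, (Bf.filter (fun b => a * b = b * a)).card =
      Nat.card ↥(B ⊓ Subgroup.centralizer {a}) := by
    intro a
    apply card_eq_of_mem_iff
    intro x
    rw [Finset.mem_filter, hBf, Subgroup.mem_inf, Subgroup.mem_centralizer_iff]
    constructor
    · rintro ⟨hx, hc⟩
      refine ⟨hx, fun y hy => ?_⟩
      rw [Set.mem_singleton_iff] at hy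
      rw [hy]; exact hc
    · rintro ⟨hx, hc⟩
      exact ⟨hx, hc a rfl⟩
  refine ⟨(Af.filter (fun a => ∀ b ∈ B, a * b = b * a)).card,
    (Af.filter (fun a => ¬ ∀ b ∈ B, a * b = b * a)).card, ?_, ?_, ?_⟩
  · rw [Finset.card_filter_add_card_filter_not]
    exact card_eq_of_mem_iff A Af hAf
  · apply card_eq_of_mem_iff
    intro x
    rw [Finset.mem_filter, hAf, Subgroup.mem_inf, Subgroup.mem_centralizer_iff]
    constructor
    · rintro ⟨hx, hc⟩
      exact ⟨hx, fun y hy => (hc y hy).symm⟩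
    · rintro ⟨hx, hc⟩
      exact ⟨hx, fun y hy => (hc y hy).symm⟩
  · rw [← Finset.sum_filter_add_sum_filter_not Af (fun a => ∀ b ∈ B, a * b = b * a), mul_add]
    congr 1
    · have h1 : ∀ a ∈ Af.filter (fun a => ∀ b ∈ B, a * b = b * a),
          (Bf.filter (fun b => a * b = b * a)).card = Nat.card B := by
        intro a ha
        rw [Finset.mem_filter] at ha
        rw [hcard]
        have : B ⊓ Subgroup.centralizer {a} = B := by
          apply inf_eq_left.mpr
          intro b hb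
          rw [Subgroup.mem_centralizer_iff]
          intro y hy
          rw [Set.mem_singleton_iff] at hy
          rw [hy]; exact ha.2 b hb
        rw [this]
      rw [Finset.sum_congr rfl h1, Finset.sum_const, smul_eq_mul, mul_assoc]
    · rw [Finset.mul_sum]
      have h1 : ∀ a ∈ Af.filter (fun a => ¬ ∀ b ∈ B, a * b = b * a),
          p * (Bf.filter (fun b => a * b = b * a)).card = Nat.card B := by
        intro a ha
        rw [Finset.mem_filter, hAf] at ha
        rw [hcard]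
        have h2 := Cfsg.Agent.Lib_helper5_Fitting.relIndex_mul_card'
          (inf_le_left : B ⊓ Subgroup.centralizer {a} ≤ B)
        rcases relIndex_cent hG B Z hZ a (h a ha.1) with h3 | h3
        · exfalso
          apply ha.2
          intro b hb
          have h4 := (Subgroup.relIndex_eq_one.mp h3) hb
          have h5 : b ∈ Subgroup.centralizer {a} := h4.2
          rw [Subgroup.mem_centralizer_iff] at h5
          exact h5 a rfl
        · rw [h3] at h2
          exact h2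
      rw [Finset.sum_congr rfl h1, Finset.sum_const, smul_eq_mul]


/-- Let A and B be subgroups of a finite p-group with [A, B] ≤ A ∩ B and [A, B] of order at most p. Then |A : C_A(B)| = |B : C_B(A)|. -/
theorem result {G : Type*} [Group G] [Finite G] {p : ℕ} [Fact p.Prime] (hG : IsPGroup p G) (A B : Subgroup G) (hAB : ⁅A, B⁆ ≤ A ⊓ B) (hcard : Nat.card ↥⁅A, B⁆ ≤ p) : (A ⊓ Subgroup.centralizer (B : Set G)).relIndex A = (B ⊓ Subgroup.centralizer (A : Set G)).relIndex B := by
  classical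
  haveI := Fintype.ofFinite G
  have hp : p.Prime := Fact.out
  have hcm : ∀ a ∈ A, ∀ b ∈ B, a * b * a⁻¹ * b⁻¹ ∈ ⁅A, B⁆ := fun a ha b hb =>
    Subgroup.commutator_mem_commutator ha hb
  have hcm' : ∀ b ∈ B, ∀ a ∈ A, b * a * b⁻¹ * a⁻¹ ∈ ⁅A, B⁆ := by
    intro b hb a ha
    have e : b * a * b⁻¹ * a⁻¹ = (a * b * a⁻¹ * b⁻¹)⁻¹ := by group
    rw [e]
    exact Subgroup.inv_mem _ (hcm a ha b hb)
  obtain ⟨c, c', hcc, hc, hsA⟩ := count_side hG A B ⁅A, B⁆ hcard hcm
    (Finset.univ.filter (· ∈ A)) (Finset.univ.filter (· ∈ B)) (by simp) (by simp)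
  obtain ⟨d, d', hdd, hd, hsB⟩ := count_side hG B A ⁅A, B⁆ hcard hcm'
    (Finset.univ.filter (· ∈ B)) (Finset.univ.filter (· ∈ A)) (by simp) (by simp)
  have hdc := Finset.sum_card_bipartiteAbove_eq_sum_card_bipartiteBelow
    (s := Finset.univ.filter (· ∈ A)) (t := Finset.univ.filter (· ∈ B))
    (fun a b : G => a * b = b * a)
  have hdc' : ∑ a ∈ Finset.univ.filter (· ∈ A),
      ((Finset.univ.filter (· ∈ B)).filter (fun b => a * b = b * a)).card =
      ∑ b ∈ Finset.univ.filter (· ∈ B),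
        ((Finset.univ.filter (· ∈ A)).filter (fun a => b * a = a * b)).card := by
    rw [show (∑ a ∈ Finset.univ.filter (· ∈ A),
      ((Finset.univ.filter (· ∈ B)).filter (fun b => a * b = b * a)).card) =
      ∑ a ∈ Finset.univ.filter (· ∈ A),
        ((Finset.univ.filter (· ∈ B)).bipartiteAbove (fun a b : G => a * b = b * a) a).card
      from rfl, hdc]
    apply Finset.sum_congr rfl
    intro b _
    congr 1
    ext a
    simp only [Finset.mem_bipartiteBelow, Finset.mem_filter]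
    constructor
    · rintro ⟨h1, h2⟩; exact ⟨h1, h2.symm⟩
    · rintro ⟨h1, h2⟩; exact ⟨h1, h2.symm⟩
  rw [hdc'] at hsA
  rw [hsA] at hsB
  -- arithmetic
  obtain ⟨q, hq⟩ : ∃ q, p = q + 1 := ⟨p - 1, by have := hp.pos; omega⟩
  have hq0 : 0 < q := by have := hp.one_lt; omega
  rw [← hcc, ← hdd, hq] at hsB
  have h2 : q * (c * d') = q * (d * c') := by nlinarith [hsB]
  have h3 : c * d' = d * c' := Nat.eq_of_mul_eq_mul_left hq0 h2
  have h4 : c * Nat.card B = d * Nat.card A := by
    rw [← hcc, ← hdd]; nlinarith [h3]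
  have hrA := Cfsg.Agent.Lib_helper5_Fitting.relIndex_mul_card'
    (inf_le_left : A ⊓ Subgroup.centralizer (B : Set G) ≤ A)
  have hrB := Cfsg.Agent.Lib_helper5_Fitting.relIndex_mul_card'
    (inf_le_left : B ⊓ Subgroup.centralizer (A : Set G) ≤ B)
  rw [← hc] at hrA
  rw [← hd] at hrB
  have hcpos : 0 < c := by rw [hc]; exact Nat.card_pos
  have hbpos : 0 < Nat.card B := Nat.card_pos
  have h5 : (A ⊓ Subgroup.centralizer (B : Set G)).relIndex A * (c * Nat.card B) =
      (B ⊓ Subgroup.centralizer (A : Set G)).relIndex B * (c * Nat.card B) := by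
    calc (A ⊓ Subgroup.centralizer (B : Set G)).relIndex A * (c * Nat.card B)
        = ((A ⊓ Subgroup.centralizer (B : Set G)).relIndex A * c) * Nat.card B := by ring
      _ = Nat.card A * Nat.card B := by rw [hrA]
      _ = ((B ⊓ Subgroup.centralizer (A : Set G)).relIndex B * d) * Nat.card A := by
        rw [hrB]; ring
      _ = (B ⊓ Subgroup.centralizer (A : Set G)).relIndex B * (d * Nat.card A) := by ring
      _ = (B ⊓ Subgroup.centralizer (A : Set G)).relIndex B * (c * Nat.card B) := by rw [h4]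
  exact Nat.eq_of_mul_eq_mul_right (Nat.mul_pos hcpos hbpos) h5

end Cfsg.Agent.S3741
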