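import Cfsg.Statements.S3808
import Cfsg.Agent.Lib_helper1_Socle
import Cfsg.Agent.Lib_helper7_CD

set_option autoImplicit false
open Cfsg

namespace Cfsg.Agent.S3808

theorem zq_facts {S : Type*} [Group S] [Finite S] (p : ℕ) [Fact p.Prime] (hS : IsPGroup p S)
    (Q : Subgroup S) (hQ : Cfsg.IsExtraspecial p ↥Q) (hQi : Q.index = p) :
    Q.Normal ∧ (Subgroup.center ↥Q).map Q.subtype ≤ Subgroup.center S ∧
      Q ⊓ Subgroup.center S = (Subgroup.center ↥Q).map Q.subtype ∧
      Nat.card ((Subgroup.center ↥Q).map Q.subtype) = p := by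
  have hp : p.Prime := Fact.out
  obtain ⟨n, hn⟩ := IsPGroup.iff_card.mp hS
  have hn0 : n ≠ 0 := by
    rintro rfl
    have h1 := Subgroup.index_dvd_card Q
    rw [hQi, hn, pow_zero] at h1
    exact hp.one_lt.ne' (Nat.dvd_one.mp h1)
  haveI hQn : Q.Normal := by
    apply Subgroup.normal_of_index_eq_minFac_card
    rw [hQi, hn, Nat.Prime.pow_minFac hp hn0]
  haveI hZn : ((Subgroup.center ↥Q).map Q.subtype).Normal :=
    ConjAct.normal_of_characteristic_of_normal
  have hZcard : Nat.card ((Subgroup.center ↥Q).map Q.subtype) = p := by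
    rw [Subgroup.card_map_of_injective Q.subtype_injective]
    exact hQ.2
  haveI : Group.IsNilpotent S := hS.isNilpotent
  have hZle : (Subgroup.center ↥Q).map Q.subtype ≤ Subgroup.center S := by
    have hne : (Subgroup.center ↥Q).map Q.subtype ≠ ⊥ := by
      intro h
      rw [h, Subgroup.card_bot] at hZcard
      exact hp.one_lt.ne hZcard
    have h1 := Cfsg.Agent.Lib_helper1_Socle.normal_inf_center_ne_bot _ hne
    have h2 : Nat.card ↥((Subgroup.center ↥Q).map Q.subtype ⊓ Subgroup.center S) ∣ p := by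
      rw [← hZcard]
      exact Subgroup.card_dvd_of_le inf_le_left
    rcases (Nat.dvd_prime hp).mp h2 with h3 | h3
    · exact absurd (Subgroup.card_eq_one.mp h3) h1
    · have h4 : (Subgroup.center ↥Q).map Q.subtype ⊓ Subgroup.center S =
          (Subgroup.center ↥Q).map Q.subtype :=
        Subgroup.eq_of_le_of_card_ge inf_le_left (by rw [h3, hZcard])
      rw [← h4]
      exact inf_le_right
  refine ⟨hQn, hZle, ?_, hZcard⟩
  apply le_antisymm
  · rintro x ⟨hxQ, hxZ⟩
    refine ⟨⟨x, hxQ⟩, ?_, rfl⟩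
    show (⟨x, hxQ⟩ : ↥Q) ∈ Subgroup.center ↥Q
    rw [Subgroup.mem_center_iff]
    intro g
    apply Subtype.ext
    exact Subgroup.mem_center_iff.mp hxZ g
  · exact le_inf (Subgroup.map_subtype_le _) hZle

open scoped Pointwise in
theorem prod_formula {S : Type*} [Group S] [Finite S] (Q Z : Subgroup S) [Z.Normal]
    (htop : Q ⊔ Z = ⊤) : Nat.card S * Nat.card ↥(Q ⊓ Z) = Nat.card Q * Nat.card Z := by
  have h1 := Cfsg.Agent.Lib_helper7_CD.card_mul_inf Q Z
  have h2 : ((Q : Set S) * (Z : Set S) : Set S) = ((Q ⊔ Z : Subgroup S) : Set S) :=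
    (Subgroup.mul_normal Q Z).symm
  rw [h2, htop] at h1
  have h4 : Nat.card ((⊤ : Subgroup S) : Set S) = Nat.card S := by
    rw [Subgroup.coe_top]; exact Nat.card_congr (Equiv.Set.univ S)
  rw [h4] at h1
  exact h1


/-- Let S be a finite p-group with an extraspecial subgroup Q of index p. Then either Z(S) = Z(Q), or S = Q·Z(S) and Z(S) has order p². -/
theorem result {S : Type*} [Group S] [Finite S] (p : ℕ) [Fact p.Prime] (hS : IsPGroup p S) (Q : Subgroup S) (hQ : Cfsg.IsExtraspecial p ↥Q) (hQi : Q.index = p) :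
    Subgroup.center S = (Subgroup.center ↥Q).map Q.subtype ∨
      (Q ⊔ Subgroup.center S = ⊤ ∧ Nat.card (Subgroup.center S) = p ^ 2) := by
  have hp : p.Prime := Fact.out
  obtain ⟨hQn, hZle, hinf, hZcard⟩ := zq_facts p hS Q hQ hQi
  haveI := hQn
  by_cases h : Subgroup.center S ≤ Q
  · left
    apply le_antisymm
    · intro x hx
      rw [← hinf]
      exact ⟨h hx, hx⟩
    · exact hZle
  · right
    have hidx : (Q ⊔ Subgroup.center S).index = 1 := by
      have h1 : (Q ⊔ Subgroup.center S).index ∣ p := by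
        rw [← hQi]
        exact Subgroup.index_dvd_of_le le_sup_left
      rcases (Nat.dvd_prime hp).mp h1 with h2 | h2
      · exact h2
      · exfalso
        apply h
        have h3 := Subgroup.index_mul_card Q
        have h4 := Subgroup.index_mul_card (Q ⊔ Subgroup.center S)
        rw [hQi] at h3
        rw [h2, ← h3] at h4
        have h5 : Nat.card ↥(Q ⊔ Subgroup.center S) = Nat.card ↥Q :=
          Nat.eq_of_mul_eq_mul_left hp.pos h4
        have h6 : Q = Q ⊔ Subgroup.center S :=
          Subgroup.eq_of_le_of_card_ge le_sup_left (by rw [h5])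
        rw [h6]
        exact le_sup_right
    have htop : Q ⊔ Subgroup.center S = ⊤ := Subgroup.index_eq_one.mp hidx
    refine ⟨htop, ?_⟩
    have h1 := prod_formula Q (Subgroup.center S) htop
    rw [hinf, hZcard] at h1
    have h3 := Subgroup.index_mul_card Q
    rw [hQi] at h3
    rw [← h3] at h1
    have hQpos : 0 < Nat.card ↥Q := Nat.card_pos
    have h5 : Nat.card ↥Q * (p * p) = Nat.card ↥Q * Nat.card ↥(Subgroup.center S) := by
      rw [← h1]; ring
    rw [pow_two]
    exact (Nat.eq_of_mul_eq_mul_left hQpos h5).symm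

end Cfsg.Agent.S3808
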