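import Cfsg.Statements.S3810
import Cfsg.Agent.S3808
import Cfsg.Agent.S3741

set_option autoImplicit false
open Cfsg

namespace Cfsg.Agent.S3810

theorem not_comm {S : Type*} [Group S] (p : ℕ) [Fact p.Prime] (Q : Subgroup S)
    (hQ : Cfsg.IsExtraspecial p ↥Q) : ∃ a ∈ Q, ∃ b ∈ Q, a * b ≠ b * a := by
  have hp : p.Prime := Fact.out
  by_contra hcon
  push Not at hcon
  have h1 : Subgroup.center ↥Q = ⊤ := by
    rw [eq_top_iff]
    intro x _
    rw [Subgroup.mem_center_iff]
    intro g
    exact Subtype.ext (hcon g.1 g.2 x.1 x.2)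
  have h2 := (commutator_eq_bot_iff_center_eq_top _).mpr h1
  have h3 := hQ.1.2.2
  rw [h2] at h3
  have h4 := hQ.2
  rw [← h3, Subgroup.card_bot] at h4
  exact hp.one_lt.ne h4

theorem forward {S : Type*} [Group S] [Finite S] (p : ℕ) [Fact p.Prime] (hS : IsPGroup p S)
    (Q : Subgroup S) (hQ : Cfsg.IsExtraspecial p ↥Q) (hQi : Q.index = p) (A : Subgroup S)
    (hA : IsMulCommutative ↥A) (hAi : A.index = p) : Nat.card S = p ^ 4 := by
  have hp : p.Prime := Fact.out
  obtain ⟨hQn, hZle, hinf, hZcard⟩ := Cfsg.Agent.S3808.zq_facts p hS Q hQ hQi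
  obtain ⟨a₀, ha₀, b₀, hb₀, hab₀⟩ := not_comm p Q hQ
  obtain ⟨n, hn⟩ := IsPGroup.iff_card.mp hS
  have hn0 : n ≠ 0 := by
    rintro rfl
    have h1 := Subgroup.index_dvd_card Q
    rw [hQi, hn, pow_zero] at h1
    exact hp.one_lt.ne' (Nat.dvd_one.mp h1)
  haveI hAn : A.Normal := by
    apply Subgroup.normal_of_index_eq_minFac_card
    rw [hAi, hn, Nat.Prime.pow_minFac hp hn0]
  have hAcomm : ∀ x ∈ A, ∀ y ∈ A, x * y = y * x := fun x hx y hy =>
    congrArg Subtype.val (hA.is_comm.comm ⟨x, hx⟩ ⟨y, hy⟩)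
  have hrel : A.relIndex Q = p := by
    have h1 : A.relIndex Q ∣ p := by
      rw [← hAi]; exact Subgroup.relIndex_dvd_index_of_normal A Q
    rcases (Nat.dvd_prime hp).mp h1 with h2 | h2
    · exfalso
      have h3 := Subgroup.relIndex_eq_one.mp h2
      exact hab₀ (hAcomm a₀ (h3 ha₀) b₀ (h3 hb₀))
    · exact h2
  have hBcard : p * Nat.card ↥(A ⊓ Q) = Nat.card ↥Q := by
    have h1 := Cfsg.Agent.Lib_helper5_Fitting.relIndex_mul_card' (inf_le_right : A ⊓ Q ≤ Q)
    rw [Subgroup.inf_relIndex_right, hrel] at h1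
    exact h1
  obtain ⟨x, hxQ, hxA⟩ : ∃ x ∈ Q, x ∉ A := by
    by_contra hc
    push Not at hc
    have h1 : A.relIndex Q = 1 := Subgroup.relIndex_eq_one.mpr hc
    rw [hrel] at h1
    exact hp.one_lt.ne' h1
  have hcommQ : ∀ u ∈ Q, ∀ w ∈ Q, u * w * u⁻¹ * w⁻¹ ∈ (Subgroup.center ↥Q).map Q.subtype := by
    intro u hu w hw
    rw [← hQ.1.2.2]
    refine ⟨⟨u, hu⟩ * ⟨w, hw⟩ * ⟨u, hu⟩⁻¹ * ⟨w, hw⟩⁻¹, ?_, rfl⟩
    rw [commutator_def]
    exact Subgroup.commutator_mem_commutator (Subgroup.mem_top _) (Subgroup.mem_top _)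
  have hBC : (A ⊓ Q) ⊓ Subgroup.centralizer {x} ≤ (Subgroup.center ↥Q).map Q.subtype := by
    rintro c ⟨⟨hcA, hcQ⟩, hcx⟩
    have hcx' : c ∈ Subgroup.centralizer {x} := hcx
    rw [Subgroup.mem_centralizer_iff] at hcx'
    have hBD : A ⊓ Q ≤ Q ⊓ Subgroup.centralizer {c} := by
      rintro b ⟨hbA, hbQ⟩
      refine ⟨hbQ, ?_⟩
      show b ∈ Subgroup.centralizer {c}
      rw [Subgroup.mem_centralizer_iff]
      intro y hy
      rw [Set.mem_singleton_iff] at hy
      rw [hy]
      exact hAcomm c hcA b hbA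
    have hxD : x ∈ Q ⊓ Subgroup.centralizer {c} := by
      refine ⟨hxQ, ?_⟩
      show x ∈ Subgroup.centralizer {c}
      rw [Subgroup.mem_centralizer_iff]
      intro y hy
      rw [Set.mem_singleton_iff] at hy
      rw [hy]
      exact (hcx' x rfl).symm
    have hD : Q ⊓ Subgroup.centralizer {c} = Q := by
      have h1 : Nat.card ↥(A ⊓ Q) ∣ Nat.card ↥(Q ⊓ Subgroup.centralizer {c}) :=
        Subgroup.card_dvd_of_le hBD
      have h2 : Nat.card ↥(Q ⊓ Subgroup.centralizer {c}) ∣ Nat.card ↥Q :=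
        Subgroup.card_dvd_of_le inf_le_left
      obtain ⟨k, hk⟩ := h1
      rw [hk, ← hBcard] at h2
      have hBpos : 0 < Nat.card ↥(A ⊓ Q) := Nat.card_pos
      have h3 : k ∣ p := by
        rw [mul_comm p] at h2
        exact Nat.dvd_of_mul_dvd_mul_left hBpos h2
      rcases (Nat.dvd_prime hp).mp h3 with h4 | h4
      · exfalso
        rw [h4, mul_one] at hk
        have h5 : A ⊓ Q = Q ⊓ Subgroup.centralizer {c} :=
          Subgroup.eq_of_le_of_card_ge hBD (by rw [hk])
        rw [← h5] at hxD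
        exact hxA hxD.1
      · apply Subgroup.eq_of_le_of_card_ge inf_le_left
        rw [hk, h4, ← hBcard, mul_comm]
    refine ⟨⟨c, hcQ⟩, ?_, rfl⟩
    show (⟨c, hcQ⟩ : ↥Q) ∈ Subgroup.center ↥Q
    rw [Subgroup.mem_center_iff]
    intro g
    apply Subtype.ext
    have hg : (g : S) ∈ Q ⊓ Subgroup.centralizer {c} := by rw [hD]; exact g.2
    have hg' : (g : S) ∈ Subgroup.centralizer {c} := hg.2
    rw [Subgroup.mem_centralizer_iff] at hg'
    exact (hg' c rfl).symm
  have hri := Cfsg.Agent.S3741.relIndex_cent hS (A ⊓ Q) ((Subgroup.center ↥Q).map Q.subtype)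
    (by rw [hZcard]) x (fun b hb => hcommQ x hxQ b hb.2)
  have hle : Nat.card ↥(A ⊓ Q) ≤ p * p := by
    have h1 := Cfsg.Agent.Lib_helper5_Fitting.relIndex_mul_card'
      (inf_le_left : (A ⊓ Q) ⊓ Subgroup.centralizer {x} ≤ A ⊓ Q)
    have h2 : Nat.card ↥((A ⊓ Q) ⊓ Subgroup.centralizer {x}) ≤ p := by
      rw [← hZcard]; exact Subgroup.card_le_of_le hBC
    rcases hri with h3 | h3
    · rw [h3, one_mul] at h1
      rw [← h1]
      nlinarith [hp.pos]
    · rw [h3] at h1
      rw [← h1]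
      exact Nat.mul_le_mul_left p h2
  obtain ⟨k, hk⟩ := IsPGroup.iff_card.mp hQ.1.1
  have hk3 : 3 ≤ k := by
    by_contra hk3
    push Not at hk3
    have hcen := hQ.2
    interval_cases k
    · have h1 := Subgroup.card_le_card_group (Subgroup.center ↥Q)
      rw [hcen, hk, pow_zero] at h1
      have := hp.one_lt
      omega
    · have h1 : Subgroup.center ↥Q = ⊤ :=
        Subgroup.eq_top_of_card_eq _ (by rw [hcen, hk, pow_one])
      have h2 : (⟨b₀, hb₀⟩ : ↥Q) ∈ Subgroup.center ↥Q := by rw [h1]; trivial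
      exact hab₀ (congrArg Subtype.val (Subgroup.mem_center_iff.mp h2 ⟨a₀, ha₀⟩))
    · exact hab₀ (congrArg Subtype.val
        ((IsPGroup.isMulCommutative_of_card_eq_prime_sq hk).is_comm.comm ⟨a₀, ha₀⟩ ⟨b₀, hb₀⟩))
  have hQcard : Nat.card ↥Q = p ^ 3 := by
    have h1 : p ^ 3 ≤ p ^ k := Nat.pow_le_pow_right hp.pos hk3
    have h2 : p ^ k ≤ p ^ 3 := by
      rw [← hk, ← hBcard]
      calc p * Nat.card ↥(A ⊓ Q) ≤ p * (p * p) := Nat.mul_le_mul_left p hle
        _ = p ^ 3 := by ring
    rw [hk]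
    exact le_antisymm h2 h1
  have h1 := Subgroup.index_mul_card Q
  rw [hQi, hQcard] at h1
  rw [← h1]
  ring

theorem backward {S : Type*} [Group S] [Finite S] (p : ℕ) [Fact p.Prime] (hS : IsPGroup p S)
    (Q : Subgroup S) (hQ : Cfsg.IsExtraspecial p ↥Q) (hQi : Q.index = p)
    (hcard : Nat.card S = p ^ 4) : ∃ A : Subgroup S, IsMulCommutative ↥A ∧ A.index = p := by
  have hp : p.Prime := Fact.out
  obtain ⟨hQn, hZle, hinf, hZcard⟩ := Cfsg.Agent.S3808.zq_facts p hS Q hQ hQi
  obtain ⟨a₀, ha₀, b₀, hb₀, hab₀⟩ := not_comm p Q hQ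
  have hHp : IsPGroup p (S ⧸ Subgroup.center S) := hS.to_quotient _
  haveI : Nontrivial (S ⧸ Subgroup.center S) := by
    refine ⟨⟨(b₀ : S ⧸ Subgroup.center S), 1, ?_⟩⟩
    intro h
    rw [QuotientGroup.eq_one_iff] at h
    exact hab₀ (Subgroup.mem_center_iff.mp h a₀)
  haveI hcn := hHp.center_nontrivial
  obtain ⟨⟨z, hzc⟩, hz1⟩ := exists_ne (1 : Subgroup.center (S ⧸ Subgroup.center S))
  obtain ⟨v, rfl⟩ := QuotientGroup.mk_surjective z
  have hvZ : v ∉ Subgroup.center S := by
    intro h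
    apply hz1
    apply Subtype.ext
    show (v : S ⧸ Subgroup.center S) = 1
    rw [QuotientGroup.eq_one_iff]
    exact h
  rw [Subgroup.mem_center_iff] at hzc
  have hvc : ∀ s : S, v * s * v⁻¹ * s⁻¹ ∈ Subgroup.center S := by
    intro s
    have h1 := hzc (s : S ⧸ Subgroup.center S)
    rw [← QuotientGroup.mk_mul, ← QuotientGroup.mk_mul, QuotientGroup.eq] at h1
    have e : v * s * v⁻¹ * s⁻¹ = (s * v) * ((s * v)⁻¹ * (v * s)) * (s * v)⁻¹ := by group
    rw [e]
    exact (inferInstance : (Subgroup.center S).Normal).conj_mem _ h1 _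
  have hZA : Subgroup.center S ≤ Subgroup.centralizer {v} := by
    intro c hc
    rw [Subgroup.mem_centralizer_iff]
    intro y _
    exact Subgroup.mem_center_iff.mp hc y
  have hvA : v ∈ Subgroup.centralizer {v} := by
    rw [Subgroup.mem_centralizer_iff]
    intro y hy
    rw [Set.mem_singleton_iff] at hy
    rw [hy]
  have hZltA : Nat.card (Subgroup.center S) < Nat.card (Subgroup.centralizer {v}) := by
    by_contra hc
    push Not at hc
    have h1 := Subgroup.eq_of_le_of_card_ge hZA hc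
    exact hvZ (h1 ▸ hvA)
  have hAne : Subgroup.centralizer {v} ≠ ⊤ := by
    intro h
    apply hvZ
    rw [Subgroup.mem_center_iff]
    intro g
    have hg : g ∈ Subgroup.centralizer {v} := h ▸ Subgroup.mem_top g
    rw [Subgroup.mem_centralizer_iff] at hg
    exact (hg v rfl).symm
  obtain ⟨a, ha⟩ := IsPGroup.iff_card.mp (hS.to_subgroup (Subgroup.centralizer {v}))
  obtain ⟨j, hj⟩ := IsPGroup.iff_card.mp (hS.to_subgroup (Subgroup.center S))
  have hj1 : 1 ≤ j := by
    by_contra hc
    have hj0 : j = 0 := by omega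
    have h1 := Subgroup.card_le_of_le hZle
    rw [hZcard, hj, hj0, pow_zero] at h1
    have := hp.one_lt
    omega
  have hidx := Subgroup.index_mul_card (Subgroup.centralizer {v})
  have hja : j < a := by
    rw [hj, ha] at hZltA
    exact (Nat.pow_lt_pow_iff_right hp.one_lt).mp hZltA
  have ha4 : a < 4 := by
    by_contra hc
    push Not at hc
    apply hAne
    apply Subgroup.eq_top_of_le_card
    rw [ha, hcard]
    exact Nat.pow_le_pow_right hp.pos hc
  have ha3 : a = 3 := by
    rcases Nat.lt_or_ge j 2 with hj2 | hj2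
    · have hj' : j = 1 := by omega
      have hri := Cfsg.Agent.S3741.relIndex_cent hS ⊤ (Subgroup.center S)
        (by rw [hj, hj', pow_one]) v (fun b _ => hvc b)
      rw [top_inf_eq, Subgroup.relIndex_top_right] at hri
      rcases hri with h1 | h1
      · exact absurd (Subgroup.index_eq_one.mp h1) hAne
      · rw [h1, ha, hcard] at hidx
        have h2 : p ^ (a + 1) = p ^ 4 := by rw [pow_succ, mul_comm]; exact hidx
        have h3 := Nat.pow_right_injective hp.two_le h2
        omega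
    · omega
  have hAcard : Nat.card (Subgroup.centralizer {v}) = p ^ 3 := by rw [ha, ha3]
  have hAidx : (Subgroup.centralizer {v}).index = p := by
    rw [hAcard, hcard] at hidx
    have h1 : (Subgroup.centralizer {v}).index * p ^ 3 = p * p ^ 3 := by rw [hidx]; ring
    exact Nat.eq_of_mul_eq_mul_right (pow_pos hp.pos 3) h1
  have hcomm : IsMulCommutative ↥(Subgroup.centralizer {v}) := by
    have hC1 : Subgroup.center S ≤ (Subgroup.center ↥(Subgroup.centralizer {v})).map
        (Subgroup.centralizer {v}).subtype := by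
      intro c hc
      refine ⟨⟨c, hZA hc⟩, ?_, rfl⟩
      show (⟨c, hZA hc⟩ : ↥(Subgroup.centralizer {v})) ∈ Subgroup.center _
      rw [Subgroup.mem_center_iff]
      intro g
      apply Subtype.ext
      exact Subgroup.mem_center_iff.mp hc g
    have hC2 : v ∈ (Subgroup.center ↥(Subgroup.centralizer {v})).map
        (Subgroup.centralizer {v}).subtype := by
      refine ⟨⟨v, hvA⟩, ?_, rfl⟩
      show (⟨v, hvA⟩ : ↥(Subgroup.centralizer {v})) ∈ Subgroup.center _
      rw [Subgroup.mem_center_iff]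
      intro g
      apply Subtype.ext
      have hg := g.2
      rw [Subgroup.mem_centralizer_iff] at hg
      exact (hg v rfl).symm
    have hCcard : Nat.card (Subgroup.center S) <
        Nat.card (Subgroup.center ↥(Subgroup.centralizer {v})) := by
      rw [← Subgroup.card_map_of_injective (Subgroup.centralizer {v}).subtype_injective]
      by_contra hc
      push Not at hc
      have h1 := Subgroup.eq_of_le_of_card_ge hC1 hc
      exact hvZ (h1 ▸ hC2)
    obtain ⟨c, hc⟩ := IsPGroup.iff_card.mp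
      ((hS.to_subgroup (Subgroup.centralizer {v})).to_subgroup (Subgroup.center _))
    have hc2 : 2 ≤ c := by
      rw [hj, hc] at hCcard
      have h1 := (Nat.pow_lt_pow_iff_right hp.one_lt).mp hCcard
      omega
    have hqi := Subgroup.index_mul_card (Subgroup.center ↥(Subgroup.centralizer {v}))
    rw [hc, hAcard] at hqi
    haveI : IsCyclic (↥(Subgroup.centralizer {v}) ⧸
        Subgroup.center ↥(Subgroup.centralizer {v})) := by
      apply isCyclic_of_card_dvd_prime (p := p)
      show (Subgroup.center ↥(Subgroup.centralizer {v})).index ∣ p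
      have h1 : (Subgroup.center ↥(Subgroup.centralizer {v})).index * p ^ c ∣ p * p ^ c := by
        rw [hqi, ← pow_succ']
        exact pow_dvd_pow p (by omega)
      exact Nat.dvd_of_mul_dvd_mul_right (pow_pos hp.pos c) h1
    exact isMulCommutative_of_isCyclic_quotient_center_self _
  exact ⟨Subgroup.centralizer {v}, hcomm, hAidx⟩


/-- Let S be a finite p-group with an extraspecial subgroup of index p. Then S has an abelian subgroup of index p if and only if S has order p⁴. -/
theorem result {S : Type*} [Group S] [Finite S] (p : ℕ) [Fact p.Prime] (hS : IsPGroup p S) (Q : Subgroup S) (hQ : Cfsg.IsExtraspecial p ↥Q) (hQi : Q.index = p) :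
    (∃ A : Subgroup S, IsMulCommutative ↥A ∧ A.index = p) ↔ Nat.card S = p ^ 4 := by
  constructor
  · rintro ⟨A, hA, hAi⟩
    exact forward p hS Q hQ hQi A hA hAi
  · intro hcard
    exact backward p hS Q hQ hQi hcard

end Cfsg.Agent.S3810
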