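import Cfsg.Statements.S3824
import Cfsg.Agent.Lib_helper3_Burnside
import Cfsg.Agent.Lib_helper6_Index

set_option autoImplicit false
open Cfsg

namespace Cfsg.Agent.S3824

universe u

theorem aux : ∀ (n : ℕ) (G : Type u) [Group G] [Finite G], Nat.card G = n →
    ∀ (A : Subgroup G), IsMulCommutative A → (∃ k : ℕ, A.index = 2 ^ k) → Group.IsSolvable G := by
  intro n
  induction n using Nat.strong_induction_on with
  | _ n ih =>
  intro G _ _ hn A hA hidx
  obtain ⟨k, hk⟩ := hidx
  rcases subsingleton_or_nontrivial G with hsub | hnt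
  · infer_instance
  by_cases hsimple : ∀ N : Subgroup G, N.Normal → N = ⊥ ∨ N = ⊤
  · haveI : IsSimpleGroup G := ⟨hsimple⟩
    by_cases hAbot : A = ⊥
    · -- G is a 2-group
      rw [hAbot, Subgroup.index_bot] at hk
      haveI : Fact (Nat.Prime 2) := ⟨Nat.prime_two⟩
      have hp : IsPGroup 2 G := IsPGroup.of_card hk
      haveI := hp.isNilpotent
      infer_instance
    · obtain ⟨g, hgA, hg1⟩ : ∃ g, g ∈ A ∧ g ≠ 1 := by
        by_contra hc
        push Not at hc
        exact hAbot ((Subgroup.eq_bot_iff_forall A).mpr hc)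
      have hle : A ≤ Subgroup.centralizer ({g} : Set G) := by
        intro a ha
        rw [Subgroup.mem_centralizer_iff]
        intro h hh
        rw [Set.mem_singleton_iff] at hh
        subst hh
        have := hA.is_comm.comm (⟨h, hgA⟩ : A) ⟨a, ha⟩
        exact congrArg Subtype.val this
      have hdvd : (Subgroup.centralizer ({g} : Set G)).index ∣ 2 ^ k := by
        rw [← hk]; exact Subgroup.index_dvd_of_le hle
      obtain ⟨j, -, hj⟩ := (Nat.dvd_prime_pow Nat.prime_two).mp hdvd
      have hprime := Cfsg.Agent.Lib_helper3_Burnside.prime_card_of_prime_power_class 2 j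
        Nat.prime_two g hg1 hj
      haveI : Fact (Nat.card G).Prime := ⟨hprime⟩
      haveI := isCyclic_of_prime_card (α := G) (p := Nat.card G) rfl
      haveI : IsMulCommutative G := IsCyclic.isMulCommutative
      infer_instance
  · push Not at hsimple
    obtain ⟨N, hNn, hNbot, hNtop⟩ := hsimple
    haveI := hNn
    have hcN : Nat.card N < n := by
      rw [← hn]
      have h1 : Nat.card N ≤ Nat.card G := Subgroup.card_le_card_group N
      rcases h1.lt_or_eq with h2 | h2
      · exact h2
      · exact absurd (Subgroup.card_eq_iff_eq_top N |>.mp h2) hNtop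
    have hcQ : Nat.card (G ⧸ N) < n := by
      rw [← hn, ← Subgroup.index_eq_card, ← Subgroup.index_mul_card N]
      have h2 : 1 < Nat.card N := by
        rw [Subgroup.one_lt_card_iff_ne_bot]; exact hNbot
      have h3 : 0 < N.index := Nat.pos_of_ne_zero Subgroup.index_ne_zero_of_finite
      nlinarith
    -- N
    have hsN : Group.IsSolvable N := by
      refine ih _ hcN N rfl (A.subgroupOf N) ?_ ?_
      · exact ⟨⟨fun a b => by
          have := hA.is_comm.comm (⟨a.1.1, a.2⟩ : A) ⟨b.1.1, b.2⟩
          have h2 : (a.1.1 : G) * b.1.1 = b.1.1 * a.1.1 := congrArg Subtype.val this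
          apply Subtype.ext; apply Subtype.ext
          exact h2⟩⟩
      · have h1 : (A.subgroupOf N).index ∣ 2 ^ k := by
          rw [← hk]
          exact Cfsg.Agent.Lib_helper6_Index.relIndex_dvd_index_of_normal_right A N
        obtain ⟨j, -, hj⟩ := (Nat.dvd_prime_pow Nat.prime_two).mp h1
        exact ⟨j, hj⟩
    have hsQ : Group.IsSolvable (G ⧸ N) := by
      refine ih _ hcQ (G ⧸ N) rfl (A.map (QuotientGroup.mk' N)) ?_ ?_
      · refine ⟨⟨fun a b => ?_⟩⟩
        obtain ⟨a, ha⟩ := a
        obtain ⟨b, hb⟩ := b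
        obtain ⟨x, hx, rfl⟩ := ha
        obtain ⟨y, hy, rfl⟩ := hb
        apply Subtype.ext
        have := hA.is_comm.comm (⟨x, hx⟩ : A) ⟨y, hy⟩
        have h2 : x * y = y * x := congrArg Subtype.val this
        change QuotientGroup.mk' N x * QuotientGroup.mk' N y = QuotientGroup.mk' N y * QuotientGroup.mk' N x
        rw [← map_mul, ← map_mul, h2]
      · have h1 : (A.map (QuotientGroup.mk' N)).index ∣ 2 ^ k := by
          rw [← hk]
          exact Subgroup.index_map_dvd A (QuotientGroup.mk'_surjective N)
        obtain ⟨j, -, hj⟩ := (Nat.dvd_prime_pow Nat.prime_two).mp h1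
        exact ⟨j, hj⟩
    exact Group.isSolvable_of_ker_le_range N.subtype (QuotientGroup.mk' N) (by simp)

/-- Every finite group having an abelian subgroup whose index is a power of 2 is solvable. -/
theorem result {G : Type*} [Group G] [Finite G]
    (A : Subgroup G) (hA : IsMulCommutative A) (hidx : ∃ k : ℕ, A.index = 2 ^ k) : Group.IsSolvable G := by
  exact aux _ G rfl A hA hidx

end Cfsg.Agent.S3824
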