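import Cfsg.Statements.S4040
import Cfsg.Agent.Lib_helper1_GT
import Cfsg.Agent.Lib_helper1_ZJ2
import Cfsg.Agent.Lib_helper2_CN
import Cfsg.Agent.Lib_helper6_PEltCount
import Cfsg.Agent.Lib_helper1_Frobenius
import Cfsg.Agent.Lib_helper1_Coprime
import Cfsg.Agent.Lib_helper1_SZConj
import Cfsg.Agent.Lib_helper2_PCons

set_option autoImplicit false
open Cfsg

namespace Cfsg.Agent.S4040

open scoped Pointwise

universe u

theorem solv_of_normal_cyclic {G : Type*} [Group G] (K : Subgroup G) [K.Normal]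
    [Group.IsSolvable K] (g : G) (h : K ⊔ Subgroup.zpowers g = ⊤) :
    Group.IsSolvable G := by
  have hrep : ∀ u : G, ∃ i : ℤ, (QuotientGroup.mk' K) u = (QuotientGroup.mk' K) (g ^ i) := by
    intro u
    have hu : u ∈ K ⊔ Subgroup.zpowers g := by rw [h]; exact Subgroup.mem_top u
    rw [← SetLike.mem_coe, Subgroup.normal_mul] at hu
    obtain ⟨k, hk, z, hz, rfl⟩ := Set.mem_mul.mp hu
    obtain ⟨i, rfl⟩ := Subgroup.mem_zpowers_iff.mp hz
    refine ⟨i, ?_⟩
    rw [map_mul]
    have : (QuotientGroup.mk' K) k = 1 := (QuotientGroup.eq_one_iff k).mpr hk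
    rw [this, one_mul]
  haveI : Group.IsSolvable (G ⧸ K) := by
    apply Group.isSolvable_of_comm
    intro a b
    obtain ⟨u, rfl⟩ := QuotientGroup.mk'_surjective K a
    obtain ⟨v, rfl⟩ := QuotientGroup.mk'_surjective K b
    obtain ⟨i, hi⟩ := hrep u
    obtain ⟨j, hj⟩ := hrep v
    rw [hi, hj, ← map_mul, ← map_mul, ← zpow_add, ← zpow_add, add_comm]
  exact Group.isSolvable_of_ker_le_range K.subtype (QuotientGroup.mk' K) (by
    rw [QuotientGroup.ker_mk']
    intro x hx
    exact ⟨⟨x, hx⟩, rfl⟩)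

theorem npc_of_nilpotent {H : Type u} [Group H] [Finite H] [Group.IsNilpotent H] (p : ℕ)
    [Fact p.Prime] : Cfsg.Agent.Lib_helper1_Frobenius.NPC p H := by
  apply Cfsg.Agent.Lib_helper1_Frobenius.frobenius
  intro Q hQ g hg hgo
  rw [Subgroup.mem_centralizer_iff]
  intro q hq
  obtain ⟨k, hk⟩ := hQ ⟨q, hq⟩
  have hk' : q ^ p ^ k = 1 := congrArg Subtype.val hk
  have hqo : orderOf q ∣ p ^ k := orderOf_dvd_of_pow_eq_one hk'
  exact Cfsg.Agent.Lib_helper2_CN.nilpotent_coprime_comm H q g
    (Nat.Coprime.coprime_dvd_left hqo (Nat.Coprime.pow_left k hgo.symm))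

theorem sylow_of_max {G : Type u} [Group G] [Finite G] (M : Subgroup G) (hmax : IsCoatom M)
    (hnil : Group.IsNilpotent M) (hcore : M.normalCore = ⊥) (p : ℕ) [Fact p.Prime]
    (hp : p ∣ Nat.card M) :
    ∃ S : Sylow p G, (S : Subgroup G) ≤ M ∧
      Subgroup.normalizer ((S : Subgroup G) : Set G) = M := by
  haveI := hnil
  obtain ⟨P0⟩ : Nonempty (Sylow p M) := inferInstance
  haveI hP0n : (P0 : Subgroup M).Normal :=
    Sylow.normal_of_normalizerCondition Group.normalizerCondition_of_isNilpotent P0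
  obtain ⟨P, hPdef⟩ : ∃ P : Subgroup G, P = (P0 : Subgroup M).map M.subtype := ⟨_, rfl⟩
  have hPM : P ≤ M := by rw [hPdef]; exact Subgroup.map_subtype_le _
  have hPne : P ≠ ⊥ := by
    rw [hPdef]
    intro h
    rw [Subgroup.map_eq_bot_iff_of_injective _ M.subtype_injective] at h
    exact P0.ne_bot_of_dvd_card hp h
  have hPp : IsPGroup p P := by rw [hPdef]; exact P0.isPGroup'.map _
  have hMN : M ≤ Subgroup.normalizer (P : Set G) := by
    intro m hm
    rw [hPdef]
    apply Cfsg.Agent.H1GT.coe_mem_normalizer_map M (P0 : Subgroup M) ⟨m, hm⟩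
    rw [Subgroup.normalizer_eq_top]; exact Subgroup.mem_top _
  have hNM : Subgroup.normalizer (P : Set G) = M := by
    rcases hmax.le_iff.mp hMN with h | h
    · exfalso
      haveI : P.Normal := Subgroup.normalizer_eq_top_iff.mp h
      have h1 : P ≤ M.normalCore := (Subgroup.normal_le_normalCore).mpr hPM
      rw [hcore] at h1
      exact hPne (le_bot_iff.mp h1)
    · exact h
  have hmaxP : ∀ Q : Subgroup G, IsPGroup p Q → P ≤ Q → Q = P := by
    intro Q hQ hPQ
    by_contra hne
    obtain ⟨x, hxQ, hxN, hxP⟩ :=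
      Cfsg.Agent.Lib_helper6_PEltCount.exists_mem_normalizer_not_mem p Q P hQ hPQ (Ne.symm hne)
    have hxM : x ∈ M := hNM ▸ hxN
    apply hxP
    have hTp : IsPGroup p ((Subgroup.zpowers x ⊔ P : Subgroup G)) := by
      apply IsPGroup.to_sup_of_normal_right' (hQ.to_le (Subgroup.zpowers_le.mpr hxQ)) hPp
      exact Subgroup.zpowers_le.mpr hxN
    have hT : ((Subgroup.zpowers x ⊔ P : Subgroup G)).subgroupOf M = (P0 : Subgroup M) := by
      apply P0.is_maximal' hTp.comap_subtype
      intro y hy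
      show (y : G) ∈ Subgroup.zpowers x ⊔ P
      apply Subgroup.mem_sup_right
      rw [hPdef]
      exact Subgroup.mem_map_of_mem _ hy
    have h1 : (⟨x, hxM⟩ : M) ∈ (P0 : Subgroup M) := by
      rw [← hT, Subgroup.mem_subgroupOf]
      exact Subgroup.mem_sup_left (Subgroup.mem_zpowers x)
    rw [hPdef]
    exact ⟨⟨x, hxM⟩, h1, rfl⟩
  exact ⟨{ toSubgroup := P, isPGroup' := hPp, is_maximal' := fun {Q} hQ hle => hmaxP Q hQ hle },
    hPM, hNM⟩

theorem aux (n : ℕ) : ∀ (G : Type u) [Group G] [Finite G], Nat.card G = n →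
    ∀ M : Subgroup G, IsCoatom M → Group.IsNilpotent M → Odd (Nat.card M) →
    Group.IsSolvable G := by
  induction n using Nat.strong_induction_on with
  | _ n IH =>
  intro G _ _ hn M hmax hnil hodd
  haveI := hnil
  have hMsolv : Group.IsSolvable M := inferInstance
  obtain ⟨g0, hg0⟩ : ∃ g : G, g ∉ M := by
    by_contra h
    push Not at h
    exact hmax.1 ((Subgroup.eq_top_iff' M).mpr h)
  by_cases hn' : M.Normal
  · haveI := hn'
    apply solv_of_normal_cyclic M g0
    apply hmax.2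
    apply lt_of_le_of_ne le_sup_left
    intro h
    apply hg0
    rw [h]
    exact Subgroup.mem_sup_right (Subgroup.mem_zpowers g0)
  by_cases hcore : M.normalCore = ⊥
  swap
  · obtain ⟨C, hCdef⟩ : ∃ C : Subgroup G, C = M.normalCore := ⟨_, rfl⟩
    haveI hCn : C.Normal := by rw [hCdef]; exact Subgroup.normalCore_normal M
    have hCM : C ≤ M := by rw [hCdef]; exact Subgroup.normalCore_le M
    have hCne : C ≠ ⊥ := by rw [hCdef]; exact hcore
    have hlt : Nat.card (G ⧸ C) < n := by
      have h1 := Subgroup.card_eq_card_quotient_mul_card_subgroup C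
      have h2 := Cfsg.Agent.Lib_helper1_SZConj.two_le_card_of_ne_bot C hCne
      have h3 : 0 < Nat.card (G ⧸ C) := Nat.card_pos
      rw [← hn, h1]
      nlinarith
    obtain ⟨Mb, hMb⟩ : ∃ Mb : Subgroup (G ⧸ C), Mb = M.map (QuotientGroup.mk' C) := ⟨_, rfl⟩
    have hcomap : Mb.comap (QuotientGroup.mk' C) = M := by
      rw [hMb, Subgroup.comap_map_eq, QuotientGroup.ker_mk']
      exact sup_eq_left.mpr hCM
    have hMbco : IsCoatom Mb := by
      constructor
      · intro h
        apply hmax.1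
        rw [← hcomap, h, Subgroup.comap_top]
      · intro K' hK'
        have h1 : M ≤ K'.comap (QuotientGroup.mk' C) := by
          rw [← hcomap]; exact Subgroup.comap_mono hK'.le
        rcases hmax.le_iff.mp h1 with h2 | h2
        · rw [Subgroup.eq_top_iff']
          intro y
          obtain ⟨x, rfl⟩ := QuotientGroup.mk'_surjective C y
          have h3 : x ∈ K'.comap (QuotientGroup.mk' C) := by rw [h2]; exact Subgroup.mem_top x
          exact h3
        · exfalso
          apply hK'.ne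
          apply le_antisymm hK'.le
          intro y hy
          obtain ⟨x, rfl⟩ := QuotientGroup.mk'_surjective C y
          have hx : x ∈ M := by rw [← h2]; exact hy
          rw [hMb]
          exact Subgroup.mem_map_of_mem _ hx
    have hsurj : Function.Surjective ((QuotientGroup.mk' C).subgroupMap M) :=
      (QuotientGroup.mk' C).subgroupMap_surjective M
    have hMbnil : Group.IsNilpotent Mb := by
      rw [hMb]
      exact Group.nilpotent_of_surjective _ hsurj
    have hMbodd : Odd (Nat.card Mb) := by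
      rw [hMb]
      exact Odd.of_dvd_nat hodd (Subgroup.card_dvd_of_surjective _ hsurj)
    haveI : Group.IsSolvable (G ⧸ C) := IH _ hlt _ rfl Mb hMbco hMbnil hMbodd
    haveI : Group.IsSolvable C := Cfsg.Agent.Lib_helper1_SZConj.isSolvable_of_le hCM
    exact Group.isSolvable_of_ker_le_range C.subtype (QuotientGroup.mk' C) (by
      rw [QuotientGroup.ker_mk']
      intro x hx
      exact ⟨⟨x, hx⟩, rfl⟩)
  have hnpc : ∀ p : ℕ, p.Prime → p ∣ Nat.card M → ∃ S : Sylow p G, (S : Subgroup G) ≤ M ∧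
      Cfsg.Agent.Lib_helper1_Frobenius.NPC p G := by
    intro p hp hpd
    haveI : Fact p.Prime := ⟨hp⟩
    obtain ⟨S, hSM, hSN⟩ := sylow_of_max M hmax hnil hcore p hpd
    refine ⟨S, hSM, ?_⟩
    have hp2 : p ≠ 2 := by
      rintro rfl
      exact (Nat.not_even_iff_odd.mpr hodd) (even_iff_two_dvd.mpr hpd)
    have hSne : (S : Subgroup G) ≠ ⊥ := by
      intro h
      rw [h] at hSN
      apply hmax.1
      rw [← hSN]
      exact Subgroup.normalizer_eq_top_iff.mpr inferInstance
    obtain ⟨W, hWdef⟩ : ∃ W : Subgroup G, W = Cfsg.centerThompsonAOf (S : Subgroup G) :=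
      ⟨_, rfl⟩
    have hWne : W ≠ ⊥ := by
      rw [hWdef]; exact Cfsg.Agent.H1ZJ2.ctA_ne_bot _ S.isPGroup' hSne
    have hWS : W ≤ (S : Subgroup G) := by rw [hWdef]; exact Cfsg.Agent.H1ZJ2.ctA_le _
    have hMNW : M ≤ Subgroup.normalizer (W : Set G) := by
      rw [hWdef]
      have h1 := Cfsg.Agent.H1ZJ2.ctA_normalizer (S : Subgroup G)
      rw [hSN] at h1
      exact h1
    have hNW : Subgroup.normalizer (W : Set G) = M := by
      rcases hmax.le_iff.mp hMNW with h | h
      · exfalso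
        haveI : W.Normal := Subgroup.normalizer_eq_top_iff.mp h
        have h1 : W ≤ M.normalCore := (Subgroup.normal_le_normalCore).mpr (hWS.trans hSM)
        rw [hcore] at h1
        exact hWne (le_bot_iff.mp h1)
      · exact h
    apply Cfsg.Agent.Lib_helper1_Frobenius.npc_of_hasNormalPComplement
    apply Cfsg.Agent.H1GT.gt_final hp2 S
    rw [← hWdef, hNW]
    exact Cfsg.Agent.Lib_helper1_Frobenius.hasNormalPComplement_of_npc (npc_of_nilpotent p)
  obtain ⟨K, hKdef⟩ : ∃ K : Subgroup G, K = ⨅ N : {N : Subgroup G // N.Normal ∧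
      ∃ p : ℕ, p.Prime ∧ p ∣ Nat.card M ∧ ∃ k : ℕ, N.index = p ^ k}, (N : Subgroup G) :=
    ⟨_, rfl⟩
  haveI hKn : K.Normal := by
    rw [hKdef]
    exact Subgroup.normal_iInf_normal (fun N => N.2.1)
  have hKle : ∀ N : Subgroup G, N.Normal → ∀ p : ℕ, p.Prime → p ∣ Nat.card M → ∀ k : ℕ,
      N.index = p ^ k → K ≤ N := by
    intro N hN p hp hpd k hk
    rw [hKdef]
    exact iInf_le (fun N : {N : Subgroup G // N.Normal ∧
      ∃ p : ℕ, p.Prime ∧ p ∣ Nat.card M ∧ ∃ k : ℕ, N.index = p ^ k} => (N : Subgroup G))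
      ⟨N, hN, p, hp, hpd, k, hk⟩
  have hcop : (Nat.card M).Coprime (Nat.card K) := by
    by_contra hnc
    obtain ⟨p, hp, hpM, hpK⟩ := Nat.Prime.not_coprime_iff_dvd.mp hnc
    obtain ⟨S, hSM, N, hN, hc, k, hk⟩ := hnpc p hp hpM
    have h1 := hKle N hN p hp hpM k hk
    have h2 : Nat.card K ∣ Nat.card N := Subgroup.card_dvd_of_le h1
    exact (Nat.Prime.coprime_iff_not_dvd hp).mp hc.symm (hpK.trans h2)
  have hKne : K ≠ ⊥ := by
    have hidx : M.index ≠ 1 := fun h => hmax.1 (Subgroup.index_eq_one.mp h)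
    obtain ⟨q, hq, hqd⟩ := Nat.exists_prime_and_dvd hidx
    haveI : Fact q.Prime := ⟨hq⟩
    have hqM : ¬ q ∣ Nat.card M := by
      intro hqM
      obtain ⟨S, hSM, -⟩ := hnpc q hq hqM
      have h1 := S.not_dvd_index
      apply h1
      rw [← Subgroup.relIndex_mul_index hSM]
      exact Dvd.dvd.mul_left hqd _
    have hqG : q ∣ Nat.card G := hqd.trans (Subgroup.index_dvd_card M)
    obtain ⟨x, hx⟩ := exists_prime_orderOf_dvd_card' q hqG
    have hxK : x ∈ K := by
      rw [hKdef, Subgroup.mem_iInf]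
      rintro ⟨N, hN, p, hp, hpd, k, hk⟩
      haveI := hN
      apply Cfsg.Agent.Lib_helper1_Frobenius.mem_of_coprime_of_index N hk x
      rw [hx]
      exact (Nat.coprime_primes hq hp).mpr (by rintro rfl; exact hqM hpd)
    intro h
    rw [h, Subgroup.mem_bot] at hxK
    rw [hxK, orderOf_one] at hx
    exact hq.one_lt.ne hx
  have hKM : K ⊓ M = ⊥ := (Subgroup.disjoint_of_coprime_natCard hcop.symm).eq_bot
  have hK1 : Nat.card K ≠ 1 := fun h => hKne (Subgroup.card_eq_one.mp h)
  obtain ⟨q, hq, hqd⟩ := Nat.exists_prime_and_dvd hK1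
  haveI : Fact q.Prime := ⟨hq⟩
  obtain ⟨P, hP⟩ := Cfsg.Agent.Lib_helper1_Coprime.exists_invariant_sylow M K
    (by rw [Subgroup.normalizer_eq_top]; exact le_top) hcop (Or.inl hMsolv) q
  obtain ⟨Q, hQdef⟩ : ∃ Q : Subgroup G, Q = (P : Subgroup K).map K.subtype := ⟨_, rfl⟩
  rw [← hQdef] at hP
  have hQK : Q ≤ K := by rw [hQdef]; exact Subgroup.map_subtype_le _
  have hQne : Q ≠ ⊥ := by
    rw [hQdef]
    intro h
    rw [Subgroup.map_eq_bot_iff_of_injective _ K.subtype_injective] at h
    exact P.ne_bot_of_dvd_card hqd h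
  have hQs : Group.IsSolvable Q := by
    haveI : Group.IsNilpotent (P : Subgroup K) := P.isPGroup'.isNilpotent
    rw [hQdef]
    exact Cfsg.Agent.Lib_helper1_SZConj.isSolvable_map K.subtype (P : Subgroup K)
  have hS := (Cfsg.Agent.Lib_helper2_PCons.sup_solvable_card Q M hP).1 hQs hMsolv
  have htop : Q ⊔ M = ⊤ := by
    apply hmax.2
    apply lt_of_le_of_ne le_sup_right
    intro h
    apply hQne
    rw [eq_bot_iff, ← hKM]
    exact le_inf hQK (by rw [h]; exact le_sup_left)
  haveI := hS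
  exact Group.isSolvable_of_surjective (f := (Q ⊔ M).subtype) (by
    intro x
    exact ⟨⟨x, by rw [htop]; exact Subgroup.mem_top x⟩, rfl⟩)


/-- A finite group possessing a maximal subgroup that is nilpotent of odd order is solvable. -/
theorem result {G : Type*} [Group G] [Finite G]
    (M : Subgroup G) (hmax : IsCoatom M) (hnil : Group.IsNilpotent M) (hodd : Odd (Nat.card M)) :
    Group.IsSolvable G := by
  exact aux (Nat.card G) G rfl M hmax hnil hodd

end Cfsg.Agent.S4040
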