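import Cfsg.Statements.S4039
import Cfsg.Agent.S4040
import Cfsg.Agent.Lib_helper1_Basic

set_option autoImplicit false
open Cfsg

namespace Cfsg.Agent.S4039

open scoped Pointwise

universe u

theorem bezout_mem {G : Type*} [Group G] (H : Subgroup G) (m : G) (a b : ℕ)
    (hab : Nat.Coprime a b) (ha : m ^ a ∈ H) (hb : m ^ b ∈ H) : m ∈ H := by
  have h1 : (1 : ℤ) = (a : ℤ) * Nat.gcdA a b + (b : ℤ) * Nat.gcdB a b := by
    have h2 := Nat.gcd_eq_gcd_ab a b
    rw [Nat.Coprime.gcd_eq_one hab] at h2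
    exact_mod_cast h2
  have h3 : m = (m ^ a) ^ (Nat.gcdA a b) * (m ^ b) ^ (Nat.gcdB a b) := by
    rw [← zpow_natCast m a, ← zpow_natCast m b, ← zpow_mul, ← zpow_mul, ← zpow_add, ← h1,
      zpow_one]
  rw [h3]
  exact H.mul_mem (H.zpow_mem ha _) (H.zpow_mem hb _)

theorem npc_two {G : Type u} [Group G] [Finite G] (M : Subgroup G) (hmax : IsCoatom M)
    (hnil : Group.IsNilpotent M) (hcl : Group.nilpotencyClass ↥M ≤ 2)
    (hcore : M.normalCore = ⊥) (hNM : Subgroup.normalizer (M : Set G) = M)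
    (S : Sylow 2 G) (hSM : (S : Subgroup G) ≤ M)
    (hSN : Subgroup.normalizer ((S : Subgroup G) : Set G) = M)
    (hSne : (S : Subgroup G) ≠ ⊥) :
    Cfsg.Agent.Lib_helper1_Frobenius.NPC 2 G := by
  haveI : Fact (Nat.Prime 2) := ⟨Nat.prime_two⟩
  haveI := hnil
  have hcl2 : ∀ a b : G, a ∈ M → b ∈ M → ∀ m ∈ M,
      m * (a * b * a⁻¹ * b⁻¹) = (a * b * a⁻¹ * b⁻¹) * m := by
    intro a b ha hb m hm
    have h1 : Subgroup.upperCentralSeries (↥M) 2 = ⊤ := by
      rw [eq_top_iff, ← Subgroup.upperCentralSeries_nilpotencyClass (G := ↥M)]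
      exact Subgroup.upperCentralSeries_mono _ hcl
    have h2 : (⟨a, ha⟩ : M) ∈ Subgroup.upperCentralSeries (↥M) (1 + 1) := by
      rw [show (1 + 1 : ℕ) = 2 from rfl, h1]; exact Subgroup.mem_top _
    rw [Subgroup.mem_upperCentralSeries_succ_iff] at h2
    have h3 := h2 ⟨b, hb⟩
    rw [Subgroup.upperCentralSeries_one, Subgroup.mem_center_iff] at h3
    have h4 := h3 ⟨m, hm⟩
    exact congrArg Subtype.val h4
  obtain ⟨P, hPdef⟩ : ∃ P : Subgroup G, P = (S : Subgroup G) := ⟨_, rfl⟩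
  have hPM : P ≤ M := hPdef ▸ hSM
  have hP2 : IsPGroup 2 P := hPdef ▸ S.isPGroup'
  have hMnP : ∀ m ∈ M, ∀ s ∈ P, m * s * m⁻¹ ∈ P := by
    intro m hm s hs
    have h1 : m ∈ Subgroup.normalizer (P : Set G) := by rw [hPdef, hSN]; exact hm
    exact (Subgroup.mem_normalizer_iff.mp h1 s).mp hs
  have h2elt : ∀ x ∈ M, ∀ j : ℕ, x ^ 2 ^ j = 1 → x ∈ P := by
    intro x hx j hxj
    have hzp : IsPGroup 2 (Subgroup.zpowers x) := by
      intro ⟨y, hy⟩
      obtain ⟨i, rfl⟩ := Subgroup.mem_zpowers_iff.mp hy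
      refine ⟨j, Subtype.ext ?_⟩
      show (x ^ i) ^ 2 ^ j = 1
      rw [← zpow_natCast, ← zpow_mul, mul_comm, zpow_mul, zpow_natCast, hxj, one_zpow]
    have hxN : Subgroup.zpowers x ≤ Subgroup.normalizer (P : Set G) := by
      rw [Subgroup.zpowers_le, hPdef, hSN]; exact hx
    have hTp : IsPGroup 2 ((Subgroup.zpowers x ⊔ P : Subgroup G)) :=
      IsPGroup.to_sup_of_normal_right' hzp hP2 hxN
    have hT : (Subgroup.zpowers x ⊔ P : Subgroup G) = (S : Subgroup G) :=
      S.is_maximal' hTp (by rw [← hPdef]; exact le_sup_right)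
    rw [hPdef, ← hT]
    exact Subgroup.mem_sup_left (Subgroup.mem_zpowers x)
  have hPpow : ∀ s ∈ P, ∃ j : ℕ, s ^ 2 ^ j = 1 := by
    intro s hs
    obtain ⟨j, hj⟩ := hP2 ⟨s, hs⟩
    exact ⟨j, congrArg Subtype.val hj⟩
  have hodd_comm : ∀ m ∈ M, ∀ i r : ℕ, orderOf m = 2 ^ i * r → ¬ 2 ∣ r → ∀ s ∈ P,
      m ^ 2 ^ i * s = s * m ^ 2 ^ i := by
    intro m hm i r hmo hr s hs
    obtain ⟨j, hj⟩ := hPpow s hs
    apply Cfsg.Agent.Lib_helper2_CN.nilpotent_coprime_comm' M hnil (M.pow_mem hm _) (hPM hs)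
    have h1 : orderOf (m ^ 2 ^ i) ∣ r := by
      apply orderOf_dvd_of_pow_eq_one
      rw [← pow_mul, ← hmo]; exact pow_orderOf_eq_one m
    have h2 : orderOf s ∣ 2 ^ j := orderOf_dvd_of_pow_eq_one hj
    have h3 : Nat.Coprime r (2 ^ j) :=
      Nat.Coprime.pow_right j ((Nat.Prime.coprime_iff_not_dvd Nat.prime_two).mpr hr).symm
    exact Nat.Coprime.coprime_dvd_left h1 (Nat.Coprime.coprime_dvd_right h2 h3)
  have hL2 : ∀ z ∈ P, (∀ s ∈ P, s * z = z * s) → ∀ m ∈ M, m * z = z * m := by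
    intro z hz hzc m hm
    obtain ⟨i, r, hr, hmo⟩ :=
      Nat.exists_eq_pow_mul_and_not_dvd (orderOf_pos m).ne' 2 (by norm_num)
    have hmem : m ∈ Subgroup.centralizer ({z} : Set G) := by
      apply bezout_mem _ m r (2 ^ i)
        (Nat.Coprime.pow_right i ((Nat.Prime.coprime_iff_not_dvd Nat.prime_two).mpr hr).symm)
      · rw [Subgroup.mem_centralizer_singleton_iff]
        apply hzc
        apply h2elt _ (M.pow_mem hm _) i
        rw [← pow_mul, mul_comm, ← hmo]; exact pow_orderOf_eq_one m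
      · rw [Subgroup.mem_centralizer_singleton_iff]
        exact hodd_comm m hm i r hmo hr z hz
    exact Subgroup.mem_centralizer_singleton_iff.mp hmem
  obtain ⟨Z, hZdef⟩ : ∃ Z : Subgroup G, Z = P ⊓ Subgroup.centralizer (P : Set G) := ⟨_, rfl⟩
  have hZmem : ∀ z : G, z ∈ Z ↔ z ∈ P ∧ ∀ s ∈ P, s * z = z * s := by
    intro z
    rw [hZdef, Subgroup.mem_inf, Subgroup.mem_centralizer_iff]
    rfl
  have hZP : Z ≤ P := by rw [hZdef]; exact inf_le_left
  have hZM : ∀ z ∈ Z, ∀ m ∈ M, m * z = z * m := by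
    intro z hz m hm
    exact hL2 z ((hZmem z).mp hz).1 ((hZmem z).mp hz).2 m hm
  have hZne : Z ≠ ⊥ := by
    haveI : Nontrivial P := (Subgroup.nontrivial_iff_ne_bot P).mpr (hPdef ▸ hSne)
    haveI := hP2.center_nontrivial
    obtain ⟨⟨z, hz⟩, hz1⟩ := exists_ne (1 : Subgroup.center P)
    intro hbot
    apply hz1
    have h1 : (z : G) ∈ Z := by
      rw [hZmem]
      refine ⟨z.2, fun s hs => ?_⟩
      have h2 := Subgroup.mem_center_iff.mp hz ⟨s, hs⟩
      exact congrArg Subtype.val h2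
    rw [hbot, Subgroup.mem_bot] at h1
    apply Subtype.ext; apply Subtype.ext; exact h1
  have hCZ : Subgroup.centralizer (Z : Set G) = M := by
    have h1 : M ≤ Subgroup.centralizer (Z : Set G) := by
      intro m hm
      rw [Subgroup.mem_centralizer_iff]
      intro z hz
      exact (hZM z hz m hm).symm
    rcases hmax.le_iff.mp h1 with h2 | h2
    · exfalso
      haveI hZn : Z.Normal := by
        constructor
        intro z hz g
        have h3 : g ∈ Subgroup.centralizer (Z : Set G) := by rw [h2]; exact Subgroup.mem_top g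
        have h4 := Subgroup.mem_centralizer_iff.mp h3 z hz
        have h5 : g * z * g⁻¹ = z := by rw [← h4, mul_inv_cancel_right]
        rw [h5]; exact hz
      have h6 : Z ≤ M.normalCore := (Subgroup.normal_le_normalCore).mpr (hZP.trans hPM)
      rw [hcore] at h6
      exact hZne (le_bot_iff.mp h6)
    · exact h2
  have key : ∀ (h k : G), k = h⁻¹ → (∀ z ∈ Z, h * z * k ∈ P) → ∀ m ∈ M, ∀ a ∈ P,
      h * a * k ∈ P → m * a * m⁻¹ ∈ P ∧ h * (m * a * m⁻¹) * k ∈ P := by
    intro h k hk hZh m hm a ha hah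
    subst hk
    have h1 : m * a * m⁻¹ ∈ P := hMnP m hm a ha
    refine ⟨h1, ?_⟩
    obtain ⟨c, hc⟩ : ∃ c : G, c = m * a * m⁻¹ * a⁻¹ := ⟨_, rfl⟩
    have hcP : c ∈ P := by rw [hc]; exact P.mul_mem h1 (P.inv_mem ha)
    have hcZ : c ∈ Z := by
      rw [hZmem]
      refine ⟨hcP, fun s hs => ?_⟩
      rw [hc]
      exact hcl2 m a hm (hPM ha) s (hPM hs)
    have h2 : m * a * m⁻¹ = c * a := by rw [hc]; group
    rw [h2]
    have h3 : h * (c * a) * h⁻¹ = (h * c * h⁻¹) * (h * a * h⁻¹) := by group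
    rw [h3]
    exact P.mul_mem (hZh c hcZ) hah
  have hWC : ∀ g : G, (∀ z ∈ Z, g * z * g⁻¹ ∈ P) → g ∈ M := by
    intro g hg
    have hg' : ∀ z ∈ Z, g⁻¹ * z * g ∈ P := by
      intro z hz
      have hw : g⁻¹ * z * g ∈ M := by
        rw [← hCZ, Subgroup.mem_centralizer_iff]
        intro z' hz'
        have h1 := ((hZmem z).mp hz).2 (g * z' * g⁻¹) (hg z' hz')
        calc z' * (g⁻¹ * z * g) = g⁻¹ * ((g * z' * g⁻¹) * z) * g := by group
          _ = g⁻¹ * (z * (g * z' * g⁻¹)) * g := by rw [h1]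
          _ = (g⁻¹ * z * g) * z' := by group
      obtain ⟨j, hj⟩ := hPpow z (hZP hz)
      apply h2elt _ hw j
      have h2 : (g⁻¹ * z * g) ^ 2 ^ j = g⁻¹ * z ^ 2 ^ j * g := by
        have h3 := conj_pow (a := g⁻¹) (b := z) (i := 2 ^ j)
        simpa using h3
      rw [h2, hj]; group
    obtain ⟨A, hAdef⟩ : ∃ A : Subgroup G,
        A = P ⊓ P.comap (MulAut.conj g⁻¹).toMonoidHom := ⟨_, rfl⟩
    have hAmem : ∀ a : G, a ∈ A ↔ a ∈ P ∧ g⁻¹ * a * g ∈ P := by
      intro a
      rw [hAdef, Subgroup.mem_inf, Subgroup.mem_comap]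
      simp
    have hZA : Z ≤ A := fun z hz => (hAmem z).mpr ⟨hZP hz, hg' z hz⟩
    have hAP : A ≤ P := fun a ha => ((hAmem a).mp ha).1
    have hMA : M ≤ Subgroup.normalizer (A : Set G) := by
      intro m hm
      apply Cfsg.Agent.Lib_helper1_Basic.mem_normalizer_of_conj_le A m
      intro a ha
      have h1 := key g⁻¹ g (inv_inv g).symm hg' m hm a ((hAmem a).mp ha).1 ((hAmem a).mp ha).2
      exact (hAmem _).mpr h1
    have hNA : Subgroup.normalizer (A : Set G) = M := by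
      rcases hmax.le_iff.mp hMA with h2 | h2
      · exfalso
        haveI : A.Normal := Subgroup.normalizer_eq_top_iff.mp h2
        have h6 : A ≤ M.normalCore := (Subgroup.normal_le_normalCore).mpr (hAP.trans hPM)
        rw [hcore] at h6
        have h7 : A = ⊥ := le_bot_iff.mp h6
        apply hZne
        rw [eq_bot_iff, ← h7]; exact hZA
      · exact h2
    have hgM : ∀ m ∈ M, g * m * g⁻¹ ∈ M := by
      intro m hm
      rw [← hNA]
      apply Cfsg.Agent.Lib_helper1_Basic.mem_normalizer_of_conj_le A (g * m * g⁻¹)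
      intro a ha
      have ha' : g⁻¹ * a * g ∈ P := ((hAmem a).mp ha).2
      have haa : g * (g⁻¹ * a * g) * g⁻¹ ∈ P := by
        have e : g * (g⁻¹ * a * g) * g⁻¹ = a := by group
        rw [e]; exact ((hAmem a).mp ha).1
      have h1 := key g g⁻¹ rfl hg m hm (g⁻¹ * a * g) ha' haa
      have e2 : g * m * g⁻¹ * a * (g * m * g⁻¹)⁻¹ =
          g * (m * (g⁻¹ * a * g) * m⁻¹) * g⁻¹ := by group
      rw [e2, hAmem]
      refine ⟨h1.2, ?_⟩
      have e3 : g⁻¹ * (g * (m * (g⁻¹ * a * g) * m⁻¹) * g⁻¹) * g =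
          m * (g⁻¹ * a * g) * m⁻¹ := by group
      rw [e3]; exact h1.1
    have h7 : g ∈ Subgroup.normalizer (M : Set G) :=
      Cfsg.Agent.Lib_helper1_Basic.mem_normalizer_of_conj_le M g hgM
    rw [hNM] at h7
    exact h7
  apply Cfsg.Agent.Lib_helper1_Frobenius.frobenius
  apply Cfsg.Agent.Lib_helper1_Frobenius.frobHyp_of_le_sylow S
  intro Q hQS g hgN hgo
  have hQP : Q ≤ P := hPdef ▸ hQS
  have hgQ : ∀ q ∈ Q, g * q * g⁻¹ ∈ Q := fun q hq =>
    (Subgroup.mem_normalizer_iff.mp hgN q).mp hq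
  have hgQ' : ∀ q ∈ Q, g⁻¹ * q * g ∈ Q := by
    intro q hq
    have h1 := (Subgroup.mem_normalizer_iff.mp (Subgroup.inv_mem _ hgN) q).mp hq
    simpa using h1
  obtain ⟨C, hCdef⟩ : ∃ C : Subgroup G, C = Subgroup.centralizer (Q : Set G) := ⟨_, rfl⟩
  have hCmem : ∀ x : G, x ∈ C ↔ ∀ q ∈ Q, q * x = x * q := by
    intro x
    rw [hCdef, Subgroup.mem_centralizer_iff]
    rfl
  have hZC : Z ≤ C := by
    intro z hz
    rw [hCmem]
    intro q hq
    exact ((hZmem z).mp hz).2 q (hQP hq)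
  obtain ⟨B, hBdef⟩ : ∃ B : Subgroup G, B = Z.map (MulAut.conj g).toMonoidHom := ⟨_, rfl⟩
  have hBmem : ∀ z ∈ Z, g * z * g⁻¹ ∈ B := by
    intro z hz
    rw [hBdef]
    exact ⟨z, hz, rfl⟩
  have hBC : B ≤ C := by
    intro b hb
    rw [hBdef] at hb
    obtain ⟨z, hz, rfl⟩ := hb
    rw [hCmem]
    intro q hq
    have h1 := ((hZmem z).mp hz).2 (g⁻¹ * q * g) (hQP (hgQ' q hq))
    show q * (g * z * g⁻¹) = (g * z * g⁻¹) * q
    calc q * (g * z * g⁻¹) = g * ((g⁻¹ * q * g) * z) * g⁻¹ := by group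
      _ = g * (z * (g⁻¹ * q * g)) * g⁻¹ := by rw [h1]
      _ = (g * z * g⁻¹) * q := by group
  have hZ2 : IsPGroup 2 Z := hP2.to_le hZP
  have hB2 : IsPGroup 2 B := by rw [hBdef]; exact hZ2.map _
  obtain ⟨R1, hR1⟩ := (hZ2.comap_subtype (K := C)).exists_le_sylow
  obtain ⟨R2, hR2⟩ := (hB2.comap_subtype (K := C)).exists_le_sylow
  obtain ⟨c, hc⟩ := MulAction.exists_smul_eq C R2 R1
  have hR1G : IsPGroup 2 ((R1 : Subgroup C).map C.subtype) := R1.isPGroup'.map _
  obtain ⟨T, hT⟩ := hR1G.exists_le_sylow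
  obtain ⟨d, hd⟩ := MulAction.exists_smul_eq G T S
  have hTS : ∀ x : G, x ∈ (T : Subgroup G) → d * x * d⁻¹ ∈ P := by
    intro x hx
    rw [hPdef, ← hd, Cfsg.Agent.Lib_helper1_Basic.mem_sylow_smul]
    have e : d⁻¹ * (d * x * d⁻¹) * d = x := by group
    rw [e]; exact hx
  have hd1 : ∀ z ∈ Z, d * z * d⁻¹ ∈ P := by
    intro z hz
    apply hTS
    apply hT
    exact ⟨⟨z, hZC hz⟩, hR1 (Subgroup.mem_subgroupOf.mpr hz), rfl⟩
  have hdM : d ∈ M := hWC d hd1
  have hd2 : ∀ z ∈ Z, (d * (c : G) * g) * z * (d * (c : G) * g)⁻¹ ∈ P := by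
    intro z hz
    have hb : g * z * g⁻¹ ∈ B := hBmem z hz
    have h1 : (⟨g * z * g⁻¹, hBC hb⟩ : C) ∈ (R2 : Subgroup C) :=
      hR2 (Subgroup.mem_subgroupOf.mpr hb)
    have h2 : c * (⟨g * z * g⁻¹, hBC hb⟩ : C) * c⁻¹ ∈ (R1 : Subgroup C) := by
      rw [← hc, Cfsg.Agent.Lib_helper1_Basic.mem_sylow_smul]
      have e : c⁻¹ * (c * (⟨g * z * g⁻¹, hBC hb⟩ : C) * c⁻¹) * c = ⟨g * z * g⁻¹, hBC hb⟩ := by
        group
      rw [e]; exact h1
    have h3 : (c : G) * (g * z * g⁻¹) * (c : G)⁻¹ ∈ (T : Subgroup G) := hT ⟨_, h2, rfl⟩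
    have h4 := hTS _ h3
    have e : d * (c : G) * g * z * (d * (c : G) * g)⁻¹ =
        d * ((c : G) * (g * z * g⁻¹) * (c : G)⁻¹) * d⁻¹ := by group
    rw [e]; exact h4
  have hdcg : d * (c : G) * g ∈ M := hWC _ hd2
  obtain ⟨m, hmdef⟩ : ∃ m : G, m = (c : G) * g := ⟨_, rfl⟩
  have hmM : m ∈ M := by
    have e : m = d⁻¹ * (d * (c : G) * g) := by rw [hmdef]; group
    rw [e]; exact M.mul_mem (M.inv_mem hdM) hdcg
  have hcC : ∀ q ∈ Q, q * (c : G) = (c : G) * q := (hCmem _).mp c.2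
  have hmq : ∀ q ∈ Q, m * q * m⁻¹ = g * q * g⁻¹ := by
    intro q hq
    have h1 := hcC (g * q * g⁻¹) (hgQ q hq)
    rw [hmdef]
    calc (c : G) * g * q * ((c : G) * g)⁻¹ = ((c : G) * (g * q * g⁻¹)) * (c : G)⁻¹ := by group
      _ = ((g * q * g⁻¹) * (c : G)) * (c : G)⁻¹ := by rw [h1]
      _ = g * q * g⁻¹ := by group
  have hpowQ : ∀ k : ℕ, ∀ q ∈ Q, g ^ k * q * (g ^ k)⁻¹ ∈ Q ∧
      m ^ k * q * (m ^ k)⁻¹ = g ^ k * q * (g ^ k)⁻¹ := by
    intro k
    induction k with
    | zero => intro q hq; simpa using hq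
    | succ k ih =>
      intro q hq
      obtain ⟨h1, h2⟩ := ih q hq
      have e1 : g ^ (k + 1) * q * (g ^ (k + 1))⁻¹ = g * (g ^ k * q * (g ^ k)⁻¹) * g⁻¹ := by
        rw [pow_succ']; group
      have e2 : m ^ (k + 1) * q * (m ^ (k + 1))⁻¹ = m * (m ^ k * q * (m ^ k)⁻¹) * m⁻¹ := by
        rw [pow_succ']; group
      refine ⟨by rw [e1]; exact hgQ _ h1, ?_⟩
      rw [e1, e2, h2]
      exact hmq _ h1
  obtain ⟨i, r, hr, hmo⟩ :=
    Nat.exists_eq_pow_mul_and_not_dvd (orderOf_pos m).ne' 2 (by norm_num)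
  have hmC : m ∈ C := by
    apply bezout_mem C m (orderOf g) (2 ^ i) (Nat.Coprime.pow_right i hgo)
    · rw [hCmem]
      intro q hq
      have h1 := (hpowQ (orderOf g) q hq).2
      rw [pow_orderOf_eq_one] at h1
      have h2 : m ^ orderOf g * q * (m ^ orderOf g)⁻¹ = q := by rw [h1]; group
      calc q * m ^ orderOf g = (m ^ orderOf g * q * (m ^ orderOf g)⁻¹) * m ^ orderOf g := by
            rw [h2]
        _ = m ^ orderOf g * q := by group
    · rw [hCmem]
      intro q hq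
      exact (hodd_comm m hmM i r hmo hr q (hQP hq)).symm
  rw [Subgroup.mem_centralizer_iff]
  intro q hq
  have h1 := (hCmem m).mp hmC q hq
  have h2 := hmq q hq
  have h3 : m * q * m⁻¹ = q := by rw [← h1]; group
  rw [h3] at h2
  calc q * g = (g * q * g⁻¹) * g := by rw [← h2]
    _ = g * q := by group

theorem aux (n : ℕ) : ∀ (G : Type u) [Group G] [Finite G], Nat.card G = n →
    ∀ M : Subgroup G, IsCoatom M → Group.IsNilpotent M → Group.nilpotencyClass ↥M ≤ 2 →
    Group.IsSolvable G := by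
  induction n using Nat.strong_induction_on with
  | _ n IH =>
  intro G _ _ hn M hmax hnil hcl
  haveI := hnil
  have hMsolv : Group.IsSolvable M := inferInstance
  obtain ⟨g0, hg0⟩ : ∃ g : G, g ∉ M := by
    by_contra h
    push Not at h
    exact hmax.1 ((Subgroup.eq_top_iff' M).mpr h)
  by_cases hn' : M.Normal
  · haveI := hn'
    apply Cfsg.Agent.S4040.solv_of_normal_cyclic M g0
    apply hmax.2
    apply lt_of_le_of_ne le_sup_left
    intro h
    apply hg0
    rw [h]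
    exact Subgroup.mem_sup_right (Subgroup.mem_zpowers g0)
  by_cases hcore : M.normalCore = ⊥
  swap
  · obtain ⟨C, hCdef⟩ : ∃ C : Subgroup G, C = M.normalCore := ⟨_, rfl⟩
    haveI hCn : C.Normal := by rw [hCdef]; exact Subgroup.normalCore_normal M
    have hCM : C ≤ M := by rw [hCdef]; exact Subgroup.normalCore_le M
    have hCne : C ≠ ⊥ := by rw [hCdef]; exact hcore
    have hlt : Nat.card (G ⧸ C) < n := by
      have h1 := Subgroup.card_eq_card_quotient_mul_card_subgroup C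
      have h2 := Cfsg.Agent.Lib_helper1_SZConj.two_le_card_of_ne_bot C hCne
      have h3 : 0 < Nat.card (G ⧸ C) := Nat.card_pos
      rw [← hn, h1]
      nlinarith
    obtain ⟨Mb, hMb⟩ : ∃ Mb : Subgroup (G ⧸ C), Mb = M.map (QuotientGroup.mk' C) := ⟨_, rfl⟩
    have hcomap : Mb.comap (QuotientGroup.mk' C) = M := by
      rw [hMb, Subgroup.comap_map_eq, QuotientGroup.ker_mk']
      exact sup_eq_left.mpr hCM
    have hMbco : IsCoatom Mb := by
      constructor
      · intro h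
        apply hmax.1
        rw [← hcomap, h, Subgroup.comap_top]
      · intro K' hK'
        have h1 : M ≤ K'.comap (QuotientGroup.mk' C) := by
          rw [← hcomap]; exact Subgroup.comap_mono hK'.le
        rcases hmax.le_iff.mp h1 with h2 | h2
        · rw [Subgroup.eq_top_iff']
          intro y
          obtain ⟨x, rfl⟩ := QuotientGroup.mk'_surjective C y
          have h3 : x ∈ K'.comap (QuotientGroup.mk' C) := by rw [h2]; exact Subgroup.mem_top x
          exact h3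
        · exfalso
          apply hK'.ne
          apply le_antisymm hK'.le
          intro y hy
          obtain ⟨x, rfl⟩ := QuotientGroup.mk'_surjective C y
          have hx : x ∈ M := by rw [← h2]; exact hy
          rw [hMb]
          exact Subgroup.mem_map_of_mem _ hx
    have hsurj : Function.Surjective ((QuotientGroup.mk' C).subgroupMap M) :=
      (QuotientGroup.mk' C).subgroupMap_surjective M
    have hMbnil : Group.IsNilpotent Mb := by
      rw [hMb]
      exact Group.nilpotent_of_surjective _ hsurj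
    have hMbcl : Group.nilpotencyClass ↥Mb ≤ 2 := by
      rw [hMb]
      exact (Group.nilpotencyClass_le_of_surjective _ hsurj).trans hcl
    haveI : Group.IsSolvable (G ⧸ C) := IH _ hlt _ rfl Mb hMbco hMbnil hMbcl
    haveI : Group.IsSolvable C := Cfsg.Agent.Lib_helper1_SZConj.isSolvable_of_le hCM
    exact Group.isSolvable_of_ker_le_range C.subtype (QuotientGroup.mk' C) (by
      rw [QuotientGroup.ker_mk']
      intro x hx
      exact ⟨⟨x, hx⟩, rfl⟩)
  have hNMM : Subgroup.normalizer (M : Set G) = M := by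
    rcases hmax.le_iff.mp (Subgroup.le_normalizer (H := M)) with h1 | h1
    · exact absurd (Subgroup.normalizer_eq_top_iff.mp h1) hn'
    · exact h1
  have hnpc : ∀ p : ℕ, p.Prime → p ∣ Nat.card M → ∃ S : Sylow p G, (S : Subgroup G) ≤ M ∧
      Cfsg.Agent.Lib_helper1_Frobenius.NPC p G := by
    intro p hp hpd
    haveI : Fact p.Prime := ⟨hp⟩
    obtain ⟨S, hSM, hSN⟩ := Cfsg.Agent.S4040.sylow_of_max M hmax hnil hcore p hpd
    refine ⟨S, hSM, ?_⟩
    have hSne : (S : Subgroup G) ≠ ⊥ := by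
      intro h
      rw [h] at hSN
      apply hmax.1
      rw [← hSN]
      exact Subgroup.normalizer_eq_top_iff.mpr inferInstance
    rcases eq_or_ne p 2 with rfl | hp2
    · exact npc_two M hmax hnil hcl hcore hNMM S hSM hSN hSne
    obtain ⟨W, hWdef⟩ : ∃ W : Subgroup G, W = Cfsg.centerThompsonAOf (S : Subgroup G) :=
      ⟨_, rfl⟩
    have hWne : W ≠ ⊥ := by
      rw [hWdef]; exact Cfsg.Agent.H1ZJ2.ctA_ne_bot _ S.isPGroup' hSne
    have hWS : W ≤ (S : Subgroup G) := by rw [hWdef]; exact Cfsg.Agent.H1ZJ2.ctA_le _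
    have hMNW : M ≤ Subgroup.normalizer (W : Set G) := by
      rw [hWdef]
      have h1 := Cfsg.Agent.H1ZJ2.ctA_normalizer (S : Subgroup G)
      rw [hSN] at h1
      exact h1
    have hNW : Subgroup.normalizer (W : Set G) = M := by
      rcases hmax.le_iff.mp hMNW with h | h
      · exfalso
        haveI : W.Normal := Subgroup.normalizer_eq_top_iff.mp h
        have h1 : W ≤ M.normalCore := (Subgroup.normal_le_normalCore).mpr (hWS.trans hSM)
        rw [hcore] at h1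
        exact hWne (le_bot_iff.mp h1)
      · exact h
    apply Cfsg.Agent.Lib_helper1_Frobenius.npc_of_hasNormalPComplement
    apply Cfsg.Agent.H1GT.gt_final hp2 S
    rw [← hWdef, hNW]
    exact Cfsg.Agent.Lib_helper1_Frobenius.hasNormalPComplement_of_npc (Cfsg.Agent.S4040.npc_of_nilpotent p)
  obtain ⟨K, hKdef⟩ : ∃ K : Subgroup G, K = ⨅ N : {N : Subgroup G // N.Normal ∧
      ∃ p : ℕ, p.Prime ∧ p ∣ Nat.card M ∧ ∃ k : ℕ, N.index = p ^ k}, (N : Subgroup G) :=
    ⟨_, rfl⟩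
  haveI hKn : K.Normal := by
    rw [hKdef]
    exact Subgroup.normal_iInf_normal (fun N => N.2.1)
  have hKle : ∀ N : Subgroup G, N.Normal → ∀ p : ℕ, p.Prime → p ∣ Nat.card M → ∀ k : ℕ,
      N.index = p ^ k → K ≤ N := by
    intro N hN p hp hpd k hk
    rw [hKdef]
    exact iInf_le (fun N : {N : Subgroup G // N.Normal ∧
      ∃ p : ℕ, p.Prime ∧ p ∣ Nat.card M ∧ ∃ k : ℕ, N.index = p ^ k} => (N : Subgroup G))
      ⟨N, hN, p, hp, hpd, k, hk⟩
  have hcop : (Nat.card M).Coprime (Nat.card K) := by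
    by_contra hnc
    obtain ⟨p, hp, hpM, hpK⟩ := Nat.Prime.not_coprime_iff_dvd.mp hnc
    obtain ⟨S, hSM, N, hN, hc, k, hk⟩ := hnpc p hp hpM
    have h1 := hKle N hN p hp hpM k hk
    have h2 : Nat.card K ∣ Nat.card N := Subgroup.card_dvd_of_le h1
    exact (Nat.Prime.coprime_iff_not_dvd hp).mp hc.symm (hpK.trans h2)
  have hKne : K ≠ ⊥ := by
    have hidx : M.index ≠ 1 := fun h => hmax.1 (Subgroup.index_eq_one.mp h)
    obtain ⟨q, hq, hqd⟩ := Nat.exists_prime_and_dvd hidx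
    haveI : Fact q.Prime := ⟨hq⟩
    have hqM : ¬ q ∣ Nat.card M := by
      intro hqM
      obtain ⟨S, hSM, -⟩ := hnpc q hq hqM
      have h1 := S.not_dvd_index
      apply h1
      rw [← Subgroup.relIndex_mul_index hSM]
      exact Dvd.dvd.mul_left hqd _
    have hqG : q ∣ Nat.card G := hqd.trans (Subgroup.index_dvd_card M)
    obtain ⟨x, hx⟩ := exists_prime_orderOf_dvd_card' q hqG
    have hxK : x ∈ K := by
      rw [hKdef, Subgroup.mem_iInf]
      rintro ⟨N, hN, p, hp, hpd, k, hk⟩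
      haveI := hN
      apply Cfsg.Agent.Lib_helper1_Frobenius.mem_of_coprime_of_index N hk x
      rw [hx]
      exact (Nat.coprime_primes hq hp).mpr (by rintro rfl; exact hqM hpd)
    intro h
    rw [h, Subgroup.mem_bot] at hxK
    rw [hxK, orderOf_one] at hx
    exact hq.one_lt.ne hx
  have hKM : K ⊓ M = ⊥ := (Subgroup.disjoint_of_coprime_natCard hcop.symm).eq_bot
  have hK1 : Nat.card K ≠ 1 := fun h => hKne (Subgroup.card_eq_one.mp h)
  obtain ⟨q, hq, hqd⟩ := Nat.exists_prime_and_dvd hK1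
  haveI : Fact q.Prime := ⟨hq⟩
  obtain ⟨P, hP⟩ := Cfsg.Agent.Lib_helper1_Coprime.exists_invariant_sylow M K
    (by rw [Subgroup.normalizer_eq_top]; exact le_top) hcop (Or.inl hMsolv) q
  obtain ⟨Q, hQdef⟩ : ∃ Q : Subgroup G, Q = (P : Subgroup K).map K.subtype := ⟨_, rfl⟩
  rw [← hQdef] at hP
  have hQK : Q ≤ K := by rw [hQdef]; exact Subgroup.map_subtype_le _
  have hQne : Q ≠ ⊥ := by
    rw [hQdef]
    intro h
    rw [Subgroup.map_eq_bot_iff_of_injective _ K.subtype_injective] at h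
    exact P.ne_bot_of_dvd_card hqd h
  have hQs : Group.IsSolvable Q := by
    haveI : Group.IsNilpotent (P : Subgroup K) := P.isPGroup'.isNilpotent
    rw [hQdef]
    exact Cfsg.Agent.Lib_helper1_SZConj.isSolvable_map K.subtype (P : Subgroup K)
  have hS := (Cfsg.Agent.Lib_helper2_PCons.sup_solvable_card Q M hP).1 hQs hMsolv
  have htop : Q ⊔ M = ⊤ := by
    apply hmax.2
    apply lt_of_le_of_ne le_sup_right
    intro h
    apply hQne
    rw [eq_bot_iff, ← hKM]
    exact le_inf hQK (by rw [h]; exact le_sup_left)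
  haveI := hS
  exact Group.isSolvable_of_surjective (f := (Q ⊔ M).subtype) (by
    intro x
    exact ⟨⟨x, by rw [htop]; exact Subgroup.mem_top x⟩, rfl⟩)


/-- A finite group possessing a maximal subgroup that is nilpotent of class at most 2 is solvable. -/
theorem result {G : Type*} [Group G] [Finite G]
    (M : Subgroup G) (hmax : IsCoatom M) (hnil : Group.IsNilpotent M) (hcl : Group.nilpotencyClass ↥M ≤ 2) :
    Group.IsSolvable G := by
  exact aux (Nat.card G) G rfl M hmax hnil hcl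

end Cfsg.Agent.S4039
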