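import Cfsg.Statements.S4001
import Cfsg.Agent.Lib_helper9_Frob
import Cfsg.Agent.Lib_helper5_FrobKer
import Cfsg.Agent.Lib_helper1_FrobAct
import Cfsg.Agent.Lib_helper1_FpfCyclic
import Cfsg.Agent.Lib_helper1_Socle
import Cfsg.Agent.Lib_helper2_CN
import Cfsg.Agent.S0042
import Cfsg.Agent.S4039

set_option autoImplicit false
open Cfsg

namespace Cfsg.Agent.S4001

open scoped Pointwise

theorem frob_fpf {F : Type*} [Group F] {C N : Subgroup F} (hC : Cfsg.IsFrobeniusComplement C)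
    (hN : (N : Set F) = Cfsg.frobeniusKernel C) {x m : F} (hx : x ∉ N) (hm : m ∈ N)
    (hc : x * m = m * x) : m = 1 := by
  have hx' : x ∉ Cfsg.frobeniusKernel C := by rw [← hN]; exact hx
  obtain ⟨hx1, g, hg⟩ := Cfsg.Agent.Lib_helper9_Frob.not_mem_kernel_iff.mp hx'
  rw [Cfsg.Agent.Lib_helper9_Frob.mem_conj_smul_iff] at hg
  have hm' : m ∈ Cfsg.frobeniusKernel C := by rw [← hN]; exact hm
  have hk := Cfsg.Agent.Lib_helper9_Frob.conj_mem_kernel hm' g⁻¹
  rw [inv_inv] at hk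
  have h1 : g⁻¹ * x * g ≠ 1 := by
    intro h
    apply hx1
    calc x = g * (g⁻¹ * x * g) * g⁻¹ := by group
      _ = 1 := by rw [h]; group
  have h2 : g⁻¹ * m * g * (g⁻¹ * x * g) = g⁻¹ * x * g * (g⁻¹ * m * g) := by
    calc g⁻¹ * m * g * (g⁻¹ * x * g) = g⁻¹ * (m * x) * g := by group
      _ = g⁻¹ * (x * m) * g := by rw [hc]
      _ = g⁻¹ * x * g * (g⁻¹ * m * g) := by group
  have h3 := Cfsg.Agent.Lib_helper9_Frob.centralizer_kernel hC hg h1 hk h2
  calc m = g * (g⁻¹ * m * g) * g⁻¹ := by group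
    _ = 1 := by rw [h3]; group

theorem invol_inverts {F : Type*} [Group F] [Finite F] {C : Subgroup F}
    (hC : Cfsg.IsFrobeniusComplement C) {s : F} (hs : s ∉ Cfsg.frobeniusKernel C)
    (hs2 : s * s = 1) : ∀ k ∈ Cfsg.frobeniusKernel C, s * k * s = k⁻¹ := by
  obtain ⟨hs1, g, hg⟩ := Cfsg.Agent.Lib_helper9_Frob.not_mem_kernel_iff.mp hs
  rw [Cfsg.Agent.Lib_helper9_Frob.mem_conj_smul_iff] at hg
  have h1 : g⁻¹ * s * g ≠ 1 := by
    intro h
    apply hs1
    calc s = g * (g⁻¹ * s * g) * g⁻¹ := by group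
      _ = 1 := by rw [h]; group
  have h2 : g⁻¹ * s * g * (g⁻¹ * s * g) = 1 := by
    calc g⁻¹ * s * g * (g⁻¹ * s * g) = g⁻¹ * (s * s) * g := by group
      _ = 1 := by rw [hs2]; group
  intro k hk
  have h3 := Cfsg.Agent.Lib_helper9_Frob.conj_involution_inverts_kernel hC hg h1 h2 g k hk
  have h4 : g * (g⁻¹ * s * g) * g⁻¹ = s := by group
  rw [h4] at h3
  exact h3

theorem exists_omega {X : Type*} [Group X] (N : Subgroup X) [hN : N.Normal] (p : ℕ) :
    ∃ M : Subgroup X, M.Normal ∧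
      ∀ z, z ∈ M ↔ (z ∈ N ∧ (∀ k ∈ N, k * z = z * k) ∧ z ^ p = 1) := by
  refine ⟨{ carrier := {z | z ∈ N ∧ (∀ k ∈ N, k * z = z * k) ∧ z ^ p = 1}
            mul_mem' := ?_
            one_mem' := ?_
            inv_mem' := ?_ }, ⟨?_⟩, fun z => Iff.rfl⟩
  · rintro a b ⟨ha, hac, hap⟩ ⟨hb, hbc, hbp⟩
    refine ⟨N.mul_mem ha hb, fun k hk => ?_, ?_⟩
    · calc k * (a * b) = (k * a) * b := by group
        _ = a * (k * b) := by rw [hac k hk]; group
        _ = a * b * k := by rw [hbc k hk]; group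
    · have hcomm : Commute a b := (hac b hb).symm
      rw [hcomm.mul_pow, hap, hbp, one_mul]
  · exact ⟨N.one_mem, fun k _ => by rw [mul_one, one_mul], one_pow p⟩
  · rintro a ⟨ha, hac, hap⟩
    refine ⟨N.inv_mem ha, fun k hk => ?_, by rw [inv_pow, hap, inv_one]⟩
    calc k * a⁻¹ = a⁻¹ * (a * k) * a⁻¹ := by group
      _ = a⁻¹ * (k * a) * a⁻¹ := by rw [hac k hk]
      _ = a⁻¹ * k := by group
  · rintro z ⟨hz, hzc, hzp⟩ g
    refine ⟨hN.conj_mem z hz g, fun k hk => ?_, by rw [conj_pow, hzp, mul_one, mul_inv_cancel]⟩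
    have h1 := hzc (g⁻¹ * k * g) (by simpa using hN.conj_mem k hk g⁻¹)
    calc k * (g * z * g⁻¹) = g * (g⁻¹ * k * g * z) * g⁻¹ := by group
      _ = g * (z * (g⁻¹ * k * g)) * g⁻¹ := by rw [h1]
      _ = g * z * g⁻¹ * k := by group

theorem exists_action {X : Type*} [Group X] (N M : Subgroup X) [N.Normal] (hMn : M.Normal)
    (hc : ∀ z ∈ M, ∀ h ∈ N, h * z = z * h) :
    ∃ α : X ⧸ N →* MulAut ↥M, ∀ (g : X) (m : ↥M),
      ((α (QuotientGroup.mk' N g) m : ↥M) : X) = g * m * g⁻¹ := by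
  haveI := hMn
  have hker : N ≤ (MulAut.conjNormal (H := M) : X →* MulAut ↥M).ker := by
    intro h hh
    rw [MonoidHom.mem_ker]
    apply MulEquiv.ext
    intro m
    apply Subtype.ext
    rw [MulAut.conjNormal_apply, hc m m.2 h hh, mul_inv_cancel_right]
    rfl
  refine ⟨QuotientGroup.lift N (MulAut.conjNormal (H := M)) hker, fun g m => ?_⟩
  exact MulAut.conjNormal_apply g m

theorem frob_fixed' {F V : Type*} [Group F] [Finite F] [Group V] [Finite V]
    (hV : ∀ a b : V, a * b = b * a)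
    (ρ : F →* MulAut V) (H K : Subgroup F) [K.Normal] (hKH : K ⊓ H = ⊥)
    (hfrob : ∀ g : F, g ∉ H → H ⊓ (MulAut.conj g • H) = ⊥)
    (hcop : (Nat.card V).Coprime (Nat.card K))
    (hCK : ∀ v : V, (∀ k ∈ K, ρ k v = v) → v = 1)
    (hCH : ∀ v : V, (∀ h ∈ H, ρ h v = v) → v = 1) : ∀ v : V, v = 1 := by
  letI : CommGroup V := { ‹Group V› with mul_comm := hV }
  exact Cfsg.Agent.Lib_helper1_FrobAct.frob_fixed ρ H K hKH hfrob hcop hCK hCH

theorem fpf_cyclic' {F V : Type*} [Group F] [Finite F] [Group V] [Finite V]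
    (hV : ∀ a b : V, a * b = b * a)
    (ρ : F →* MulAut V) (hV1 : ∃ v : V, v ≠ 1)
    (hfpf : ∀ f : F, f ≠ 1 → ∀ v, ρ f v = v → v = 1) (hc : ∀ a b : F, a * b = b * a) :
    IsCyclic F := by
  letI : CommGroup V := { ‹Group V› with mul_comm := hV }
  exact Cfsg.Agent.Lib_helper1_FpfCyclic.fpf_abelian_cyclic ρ hV1 hfpf hc

theorem nilp_pq {X : Type*} [Group X] [Finite X] (hX : Group.IsNilpotent X) (p q : ℕ)
    (hp : p.Prime) (hq : q.Prime) (hpq : p ≠ q) (hpX : p ∣ Nat.card X) (hqX : q ∣ Nat.card X) :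
    ∃ g : X, orderOf g = p * q := by
  haveI : Fact p.Prime := ⟨hp⟩
  haveI : Fact q.Prime := ⟨hq⟩
  obtain ⟨x, hx⟩ := exists_prime_orderOf_dvd_card' (G := X) p hpX
  obtain ⟨y, hy⟩ := exists_prime_orderOf_dvd_card' (G := X) q hqX
  have hcop : (orderOf x).Coprime (orderOf y) := by
    rw [hx, hy]; exact (Nat.coprime_primes hp hq).mpr hpq
  have hc := Cfsg.Agent.Lib_helper2_CN.nilpotent_coprime_comm X x y hcop
  refine ⟨x * y, ?_⟩
  have hc' : Commute x y := hc
  rw [hc'.orderOf_mul_eq_mul_orderOf_of_coprime hcop, hx, hy]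

theorem lift_order {X Y : Type*} [Group X] [Finite X] [Group Y] (f : X →* Y)
    (hf : Function.Surjective f) (y : Y) (n : ℕ) (hy : orderOf y = n) :
    ∃ g : X, orderOf g = n ∧ ∃ j : ℕ, f g = y ^ j := by
  obtain ⟨w, hw⟩ := hf y
  have h1 : n ∣ orderOf w := by
    rw [← hy, ← hw]; exact orderOf_map_dvd f w
  exact ⟨w ^ (orderOf w / n), orderOf_pow_orderOf_div (orderOf_pos w).ne' h1, orderOf w / n,
    by rw [map_pow, hw]⟩

theorem exists_ne_one_of_card {X : Type*} [Group X] (S : Subgroup X) (h : Nat.card S ≠ 1) :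
    ∃ s ∈ S, s ≠ 1 := by
  by_contra hcon
  push Not at hcon
  apply h
  rw [Subgroup.card_eq_one, Subgroup.eq_bot_iff_forall]
  exact hcon

theorem exists_central_order {X : Type*} [Group X] [Finite X] (N : Subgroup X)
    (hnil : Group.IsNilpotent ↥N) (p : ℕ) (hp : p.Prime) (hpN : p ∣ Nat.card N) :
    ∃ z ∈ N, z ≠ 1 ∧ (∀ k ∈ N, k * z = z * k) ∧ z ^ p = 1 := by
  haveI : Fact p.Prime := ⟨hp⟩
  haveI := hnil
  obtain ⟨P⟩ : Nonempty (Sylow p ↥N) := inferInstance
  haveI hPn : (P : Subgroup ↥N).Normal :=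
    Sylow.normal_of_normalizerCondition Group.normalizerCondition_of_isNilpotent P
  have hP1 : (P : Subgroup ↥N) ≠ ⊥ := P.ne_bot_of_dvd_card hpN
  have h2 := Cfsg.Agent.Lib_helper1_Socle.normal_inf_center_ne_bot (P : Subgroup ↥N) hP1
  obtain ⟨w, hw, hw1⟩ : ∃ w ∈ (P : Subgroup ↥N) ⊓ Subgroup.center ↥N, w ≠ 1 := by
    by_contra hcon
    push Not at hcon
    exact h2 ((Subgroup.eq_bot_iff_forall _).mpr hcon)
  obtain ⟨hwP, hwc⟩ := Subgroup.mem_inf.mp hw
  obtain ⟨k, hk⟩ := P.isPGroup' ⟨w, hwP⟩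
  have hk' : w ^ (p ^ k) = 1 := congrArg Subtype.val hk
  have hdvd : orderOf w ∣ p ^ k := orderOf_dvd_of_pow_eq_one hk'
  obtain ⟨j, -, hj⟩ := (Nat.dvd_prime_pow hp).mp hdvd
  have hj0 : j ≠ 0 := by
    intro h
    rw [h, pow_zero, orderOf_eq_one_iff] at hj
    exact hw1 hj
  have hpo : p ∣ orderOf w := by rw [hj]; exact dvd_pow_self p hj0
  have hzo : orderOf (w ^ (orderOf w / p)) = p :=
    orderOf_pow_orderOf_div (orderOf_pos w).ne' hpo
  obtain ⟨z', hz'⟩ : ∃ z' : ↥N, z' = w ^ (orderOf w / p) := ⟨_, rfl⟩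
  rw [← hz'] at hzo
  have hz'c : z' ∈ Subgroup.center ↥N := by rw [hz']; exact Subgroup.pow_mem _ hwc _
  refine ⟨(z' : X), z'.2, ?_, ?_, ?_⟩
  · intro h
    have h1 : z' = 1 := Subtype.ext h
    rw [h1, orderOf_one] at hzo
    exact hp.one_lt.ne hzo
  · intro k hk
    have := Subgroup.mem_center_iff.mp hz'c ⟨k, hk⟩
    exact congrArg Subtype.val this
  · have h1 : z' ^ p = 1 := by rw [← hzo]; exact pow_orderOf_eq_one z'
    have h2 := congrArg Subtype.val h1
    rw [Subgroup.coe_pow] at h2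
    exact h2


/-- Let G be a 2-Frobenius group: it has normal subgroups H < K with K a Frobenius group with kernel H and G/H a Frobenius group with kernel K/H. Then G is solvable; K/H has odd order coprime to the order of H and to the order of G/K (it is the image of an odd-order Hall subgroup); G/K is cyclic; and the prime graph of G has exactly two connected components, both complete: for distinct primes p, q dividing the order of G, G has an element of order pq exactly when p and q either both divide the order of K/H or both do not. -/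
theorem result {G : Type*} [Group G] [Finite G] (H K : Subgroup G) [H.Normal] [K.Normal] (hlt : H < K)
    (hK : ∃ C : Subgroup ↥K, Cfsg.IsFrobeniusComplement C ∧ Cfsg.frobeniusKernel C = (H.subgroupOf K : Set ↥K))
    (hGH : ∃ C : Subgroup (G ⧸ H), Cfsg.IsFrobeniusComplement C ∧ Cfsg.frobeniusKernel C = (K.map (QuotientGroup.mk' H) : Set (G ⧸ H))) :
    Group.IsSolvable G ∧ Odd (Nat.card (↥K ⧸ H.subgroupOf K)) ∧
      Nat.Coprime (Nat.card (↥K ⧸ H.subgroupOf K)) (Nat.card ↥H * Nat.card (G ⧸ K)) ∧ IsCyclic (G ⧸ K) ∧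
      ∀ p q : ℕ, p.Prime → q.Prime → p ≠ q → p ∣ Nat.card G → q ∣ Nat.card G →
        ((∃ g : G, orderOf g = p * q) ↔ (p ∣ Nat.card (↥K ⧸ H.subgroupOf K) ↔ q ∣ Nat.card (↥K ⧸ H.subgroupOf K))) := by
  classical
  obtain ⟨CK, hCK, hkerK⟩ := hK
  obtain ⟨D, hD, hkerD⟩ := hGH
  have hKset : ((H.subgroupOf K : Subgroup ↥K) : Set ↥K) = Cfsg.frobeniusKernel CK := hkerK.symm
  obtain ⟨Kb, hKb⟩ : ∃ Kb : Subgroup (G ⧸ H), Kb = K.map (QuotientGroup.mk' H) := ⟨_, rfl⟩
  have hDset : (Kb : Set (G ⧸ H)) = Cfsg.frobeniusKernel D := by rw [hKb]; exact hkerD.symm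
  haveI hKbn : Kb.Normal := by
    rw [hKb]
    exact Subgroup.Normal.map inferInstance _ (QuotientGroup.mk'_surjective H)
  have hmk1 : ∀ x : G, QuotientGroup.mk' H x = 1 ↔ x ∈ H := fun x => QuotientGroup.eq_one_iff x
  have hmemKb : ∀ x : G, QuotientGroup.mk' H x ∈ Kb ↔ x ∈ K := by
    intro x
    rw [hKb, Subgroup.mem_map]
    constructor
    · rintro ⟨k, hk, hkx⟩
      have h1 : k⁻¹ * x ∈ H := QuotientGroup.eq.mp hkx
      have h2 : x = k * (k⁻¹ * x) := by group
      rw [h2]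
      exact K.mul_mem hk (hlt.le h1)
    · intro hx
      exact ⟨x, hx, rfl⟩
  have hKb_ex : ∀ z ∈ Kb, ∃ x ∈ K, QuotientGroup.mk' H x = z := by
    intro z hz
    rw [hKb, Subgroup.mem_map] at hz
    exact hz
  have hkerD' : ∀ z, z ∈ Cfsg.frobeniusKernel D ↔ z ∈ Kb := fun z => by rw [← hDset]; rfl
  have hkerK' : ∀ z : ↥K, z ∈ Cfsg.frobeniusKernel CK ↔ (z : G) ∈ H := fun z => by
    rw [← hKset, SetLike.mem_coe, Subgroup.mem_subgroupOf]
  have K1 : ∀ x ∈ K, x ∉ H → ∀ m ∈ H, x * m = m * x → m = 1 := by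
    intro x hx hxH m hm hc
    have h1 := frob_fpf hCK hKset (x := ⟨x, hx⟩) (m := ⟨m, hlt.le hm⟩)
      (by rw [Subgroup.mem_subgroupOf]; exact hxH) (by rw [Subgroup.mem_subgroupOf]; exact hm)
      (Subtype.ext hc)
    exact congrArg Subtype.val h1
  obtain ⟨N1, hN1set, hN1n, hN1c⟩ := Cfsg.Agent.Lib_helper5_FrobKer.frobenius_kernel CK hCK
  have hN1 : N1 = H.subgroupOf K := SetLike.coe_injective (hN1set.trans hKset.symm)
  subst hN1
  obtain ⟨N2, hN2set, hN2n, hN2c⟩ := Cfsg.Agent.Lib_helper5_FrobKer.frobenius_kernel D hD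
  have hN2 : Kb = N2 := SetLike.coe_injective (hDset.trans hN2set.symm)
  subst hN2
  obtain ⟨N3, hN3set, -, hN3nil⟩ := Cfsg.Agent.S0042.result CK hCK
  have hN3 : N3 = H.subgroupOf K := SetLike.coe_injective (hN3set.trans hKset.symm)
  subst hN3
  have hHnil : Group.IsNilpotent ↥H := by
    haveI := hN3nil
    exact Group.nilpotent_of_mulEquiv (Subgroup.subgroupOfEquivOfLe hlt.le)
  obtain ⟨N4, hN4set, -, hN4nil⟩ := Cfsg.Agent.S0042.result D hD
  have hN4 : Kb = N4 := SetLike.coe_injective (hDset.trans hN4set.symm)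
  subst hN4
  -- cardinalities
  obtain ⟨c, hc⟩ : ∃ c, c = Nat.card (↥K ⧸ H.subgroupOf K) := ⟨_, rfl⟩
  rw [← hc]
  have hcard1 : Nat.card ↥(H.subgroupOf K) * Nat.card ↥CK = Nat.card ↥K := hN1c.card_mul_card
  have hcard2 : Nat.card ↥(H.subgroupOf K) * c = Nat.card ↥K := by
    rw [hc]; exact Subgroup.card_mul_index (H.subgroupOf K)
  have hHKpos : 0 < Nat.card ↥(H.subgroupOf K) := Nat.card_pos
  have hcCK : c = Nat.card ↥CK := Nat.eq_of_mul_eq_mul_left hHKpos (hcard2.trans hcard1.symm)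
  have hHKH : Nat.card ↥(H.subgroupOf K) = Nat.card ↥H :=
    Nat.card_congr (Subgroup.subgroupOfEquivOfLe hlt.le).toEquiv
  have hcopH : Nat.Coprime (Nat.card ↥H) c := by
    have h1 := Cfsg.Agent.Lib_helper9_Frob.coprime_index_card hCK
    rw [← Cfsg.Agent.Lib_helper9_Frob.card_kernel_subgroup hCK hKset, hHKH, ← hcCK] at h1
    exact h1
  have hcard3 : Nat.card ↥Kb * Nat.card ↥D = Nat.card (G ⧸ H) := hN2c.card_mul_card
  have hKbidx : Kb.index = K.index := by
    rw [hKb]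
    exact Subgroup.index_map_eq K (QuotientGroup.mk'_surjective H)
      (by rw [QuotientGroup.ker_mk']; exact hlt.le)
  have hcard4 : Nat.card ↥Kb * K.index = Nat.card (G ⧸ H) := by
    rw [← hKbidx]; exact Subgroup.card_mul_index Kb
  have hcard5 : Nat.card ↥H * Nat.card (G ⧸ H) = Nat.card G := Subgroup.card_mul_index H
  have hcard6 : Nat.card ↥K * K.index = Nat.card G := Subgroup.card_mul_index K
  have hKidx_pos : 0 < K.index := Nat.pos_of_ne_zero Subgroup.index_ne_zero_of_finite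
  have hHpos : 0 < Nat.card ↥H := Nat.card_pos
  have hcKb : Nat.card ↥Kb = c := by
    have h1 : Nat.card ↥H * (Nat.card ↥Kb * K.index) = Nat.card ↥H * (c * K.index) := by
      rw [hcard4, hcard5, ← hcard6, ← hcard2, hHKH, mul_assoc]
    exact Nat.eq_of_mul_eq_mul_right hKidx_pos (Nat.eq_of_mul_eq_mul_left hHpos h1)
  have hdD : Nat.card ↥D = K.index := by
    have h1 : Nat.card ↥Kb * Nat.card ↥D = Nat.card ↥Kb * K.index := hcard3.trans hcard4.symm
    exact Nat.eq_of_mul_eq_mul_left Nat.card_pos h1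
  have hcopD : Nat.Coprime c (Nat.card (G ⧸ K)) := by
    have h1 := Cfsg.Agent.Lib_helper9_Frob.coprime_index_card hD
    rw [← Cfsg.Agent.Lib_helper9_Frob.card_kernel_subgroup hD hDset, hcKb, hdD] at h1
    exact h1
  have hHcard : Nat.card ↥H ≠ 1 := by
    intro h
    apply hCK.2.1
    rw [← Subgroup.index_eq_one, ← Cfsg.Agent.Lib_helper9_Frob.card_kernel_subgroup hCK hKset,
      hHKH, h]
  have hc1 : c ≠ 1 := by
    intro h
    apply hCK.1
    rw [← Subgroup.card_eq_one, ← hcCK, h]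
  have hD1 : Nat.card ↥D ≠ 1 := fun h => hD.1 (Subgroup.card_eq_one.mp h)
  -- oddness
  have hodd : Odd c := by
    rw [← Nat.not_even_iff_odd]
    intro heven
    have h2 : 2 ∣ Nat.card ↥CK := by rw [← hcCK]; exact heven.two_dvd
    haveI : Fact (Nat.Prime 2) := ⟨Nat.prime_two⟩
    obtain ⟨t0, ht0⟩ := exists_prime_orderOf_dvd_card' (G := ↥CK) 2 h2
    obtain ⟨t, ht⟩ : ∃ t : ↥K, t = (t0 : ↥K) := ⟨_, rfl⟩
    have htC : t ∈ CK := ht ▸ t0.2
    have hto : orderOf t = 2 := by rw [ht, Subgroup.orderOf_coe]; exact ht0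
    have ht1 : t ≠ 1 := by
      intro h
      rw [h, orderOf_one] at hto
      omega
    have ht2 : t * t = 1 := by rw [← pow_two, ← hto]; exact pow_orderOf_eq_one t
    have ht2' : (t : G) * (t : G) = 1 := by
      have := congrArg Subtype.val ht2
      rw [Subgroup.coe_mul, Subgroup.coe_one] at this
      exact this
    have htker : t ∉ Cfsg.frobeniusKernel CK := fun h =>
      Cfsg.Agent.Lib_helper9_Frob.not_mem_of_mem_kernel h ht1 htC
    have htH : (t : G) ∉ H := fun h => htker ((hkerK' t).mpr h)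
    have hconj : ∀ g : G, (t : G) * (g * (t : G) * g⁻¹) ∈ H := by
      intro g
      obtain ⟨s, hs⟩ : ∃ s : ↥K, (s : G) = g * (t : G) * g⁻¹ :=
        ⟨⟨_, ‹K.Normal›.conj_mem _ t.2 g⟩, rfl⟩
      have hs2 : s * s = 1 := by
        apply Subtype.ext
        rw [Subgroup.coe_mul, hs, Subgroup.coe_one]
        calc g * (t : G) * g⁻¹ * (g * (t : G) * g⁻¹) = g * ((t : G) * (t : G)) * g⁻¹ := by group
          _ = 1 := by rw [ht2']; group
      have hsH : (s : G) ∉ H := by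
        intro h
        rw [hs] at h
        apply htH
        have h3 := ‹H.Normal›.conj_mem _ h g⁻¹
        have h4 : g⁻¹ * (g * (t : G) * g⁻¹) * g⁻¹⁻¹ = (t : G) := by group
        rw [h4] at h3
        exact h3
      have hsker : s ∉ Cfsg.frobeniusKernel CK := fun h => hsH ((hkerK' s).mp h)
      have hinv_t := invol_inverts hCK htker ht2
      have hinv_s := invol_inverts hCK hsker hs2
      by_contra hts
      have hall : ∀ m ∈ H, m = 1 := by
        intro m hm
        obtain ⟨k, hk⟩ : ∃ k : ↥K, k = ⟨m, hlt.le hm⟩ := ⟨_, rfl⟩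
        have hkH : (k : G) ∈ H := by rw [hk]; exact hm
        have hmk : k ∈ Cfsg.frobeniusKernel CK := (hkerK' k).mpr hkH
        have e1 := hinv_s k hmk
        have hk_inv : k⁻¹ ∈ Cfsg.frobeniusKernel CK := by
          rw [hkerK', Subgroup.coe_inv]
          exact H.inv_mem hkH
        have e2 := hinv_t k⁻¹ hk_inv
        rw [inv_inv] at e2
        have hcomm : (t * s) * k = k * (t * s) := by
          calc t * s * k = t * (s * k * s) * s := by
                rw [show t * (s * k * s) * s = t * s * k * (s * s) by group, hs2, mul_one]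
            _ = t * k⁻¹ * s := by rw [e1]
            _ = (t * k⁻¹ * t) * (t * s) := by
                rw [show t * k⁻¹ * t * (t * s) = t * k⁻¹ * (t * t) * s by group, ht2, mul_one]
            _ = k * (t * s) := by rw [e2]
        have h1 := frob_fpf hCK hKset (x := t * s) (m := k)
          (by rw [Subgroup.mem_subgroupOf, Subgroup.coe_mul, hs]; exact hts)
          (by rw [Subgroup.mem_subgroupOf]; exact hkH) hcomm
        rw [hk] at h1
        exact congrArg Subtype.val h1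
      apply hHcard
      rw [Subgroup.card_eq_one, Subgroup.eq_bot_iff_forall]
      exact hall
    obtain ⟨tb, htb⟩ : ∃ tb : G ⧸ H, tb = QuotientGroup.mk' H (t : G) := ⟨_, rfl⟩
    have htb1 : tb ≠ 1 := by
      rw [htb]
      intro h
      exact htH ((hmk1 _).mp h)
    have htbK : tb ∈ Kb := by rw [htb, hmemKb]; exact t.2
    have htb2 : tb * tb = 1 := by
      rw [htb, ← map_mul, ht2', map_one]
    have hcent : ∀ y : G ⧸ H, tb * y = y * tb := by
      intro y
      obtain ⟨g, rfl⟩ := QuotientGroup.mk'_surjective H y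
      have h1 := hconj g
      have h2 : tb * (QuotientGroup.mk' H g * tb * (QuotientGroup.mk' H g)⁻¹) = 1 := by
        rw [htb, ← map_inv, ← map_mul, ← map_mul, ← map_mul]
        exact (hmk1 _).mpr h1
      have h3 : QuotientGroup.mk' H g * tb * (QuotientGroup.mk' H g)⁻¹ = tb :=
        mul_left_cancel (h2.trans htb2.symm)
      calc tb * QuotientGroup.mk' H g
          = (QuotientGroup.mk' H g * tb * (QuotientGroup.mk' H g)⁻¹) * QuotientGroup.mk' H g := by
            rw [h3]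
        _ = QuotientGroup.mk' H g * tb := by group
    obtain ⟨d0, hd0, hd01⟩ := exists_ne_one_of_card D hD1
    exact htb1 (Cfsg.Agent.Lib_helper9_Frob.centralizer_kernel hD hd0 hd01
      ((hkerD' tb).mpr htbK) (hcent d0))
  -- the abelian sections
  have exM : ∀ p : ℕ, p.Prime → p ∣ Nat.card ↥H →
      ∃ (M : Subgroup G) (α : G ⧸ H →* MulAut ↥M),
      M ≤ H ∧ (∃ v : ↥M, v ≠ 1) ∧ (∀ a b : ↥M, a * b = b * a) ∧ (∀ v : ↥M, v ^ p = 1) ∧
      (∀ (g : G) (m : ↥M), ((α (QuotientGroup.mk' H g) m : ↥M) : G) = g * m * g⁻¹) := by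
    intro p hp hpH
    obtain ⟨M, hMn, hM⟩ := exists_omega H p
    obtain ⟨z, hzH, hz1, hzc, hzp⟩ := exists_central_order H hHnil p hp hpH
    obtain ⟨α, hα⟩ := exists_action H M hMn (fun z hz h hh => ((hM z).mp hz).2.1 h hh)
    refine ⟨M, α, fun z hz => ((hM z).mp hz).1,
      ⟨⟨z, (hM z).mpr ⟨hzH, hzc, hzp⟩⟩, fun h => hz1 (congrArg Subtype.val h)⟩, ?_, ?_, hα⟩
    · intro a b
      apply Subtype.ext
      exact (((hM (a : G)).mp a.2).2.1 (b : G) ((hM (b : G)).mp b.2).1).symm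
    · intro v
      apply Subtype.ext
      rw [Subgroup.coe_pow]
      exact ((hM (v : G)).mp v.2).2.2
  have fpfM : ∀ (M : Subgroup G) (α : G ⧸ H →* MulAut ↥M), M ≤ H →
      (∀ (g : G) (m : ↥M), ((α (QuotientGroup.mk' H g) m : ↥M) : G) = g * m * g⁻¹) →
      ∀ z ∈ Kb, z ≠ 1 → ∀ v : ↥M, α z v = v → v = 1 := by
    intro M α hMH hα z hz hz1 v hv
    obtain ⟨x, hx, rfl⟩ := hKb_ex z hz
    have hxH : x ∉ H := fun h => hz1 ((hmk1 x).mpr h)
    have h1 := hα x v
    rw [hv] at h1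
    have h2 : x * (v : G) = (v : G) * x := by
      calc x * (v : G) = x * (v : G) * x⁻¹ * x := by group
        _ = (v : G) * x := by rw [← h1]
    exact Subtype.ext (K1 x hx hxH (v : G) (hMH v.2) h2)
  obtain ⟨Z, hZn, hZ⟩ := exists_omega Kb 0
  have hZ' : ∀ z, z ∈ Z ↔ (z ∈ Kb ∧ ∀ k ∈ Kb, k * z = z * k) := fun z =>
    ⟨fun h => ⟨((hZ z).mp h).1, ((hZ z).mp h).2.1⟩, fun h => (hZ z).mpr ⟨h.1, h.2, pow_zero z⟩⟩
  obtain ⟨r', hr', hr'c⟩ := Nat.exists_prime_and_dvd hc1
  obtain ⟨z0, hz0K, hz01, hz0c, -⟩ := exists_central_order Kb hN4nil r' hr'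
    (by rw [hcKb]; exact hr'c)
  have hz0Z : z0 ∈ Z := (hZ' z0).mpr ⟨hz0K, hz0c⟩
  obtain ⟨r, hr, hrH⟩ := Nat.exists_prime_and_dvd hHcard
  obtain ⟨M, α, hMH, hMne, hMc, hMp, hα⟩ := exM r hr hrH
  have hZcomm : ∀ a b : ↥Z, a * b = b * a := by
    intro a b
    apply Subtype.ext
    exact (((hZ' (a : G ⧸ H)).mp a.2).2 (b : G ⧸ H) ((hZ' (b : G ⧸ H)).mp b.2).1).symm
  have hZcyc : IsCyclic ↥Z := by
    apply fpf_cyclic' hMc (α.comp Z.subtype) hMne ?_ hZcomm
    intro f hf v hv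
    exact fpfM M α hMH hα (f : G ⧸ H) ((hZ' _).mp f.2).1 (fun h => hf (Subtype.ext h)) v hv
  haveI := hZn
  have hfpfD : ∀ d : ↥D, d ≠ 1 → ∀ z : ↥Z,
      (MulAut.conjNormal (H := Z) (d : G ⧸ H)) z = z → z = 1 := by
    intro d hd z hz
    have h1 := congrArg Subtype.val hz
    rw [MulAut.conjNormal_apply] at h1
    have h2 : (z : G ⧸ H) * (d : G ⧸ H) = (d : G ⧸ H) * (z : G ⧸ H) := by
      calc (z : G ⧸ H) * (d : G ⧸ H)
          = (d : G ⧸ H) * (z : G ⧸ H) * (d : G ⧸ H)⁻¹ * (d : G ⧸ H) := by rw [h1]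
        _ = (d : G ⧸ H) * (z : G ⧸ H) := by group
    have h3 := Cfsg.Agent.Lib_helper9_Frob.centralizer_kernel hD d.2
      (fun h => hd (Subtype.ext h)) ((hkerD' _).mpr ((hZ' _).mp z.2).1) h2
    exact Subtype.ext h3
  have hZne : ∃ v : ↥Z, v ≠ 1 := ⟨⟨z0, hz0Z⟩, fun h => hz01 (congrArg Subtype.val h)⟩
  obtain ⟨ρ2, hρ2⟩ : ∃ ρ2 : ↥D →* MulAut ↥Z,
      ∀ d : ↥D, ρ2 d = MulAut.conjNormal (H := Z) (d : G ⧸ H) :=
    ⟨(MulAut.conjNormal (H := Z)).comp D.subtype, fun d => rfl⟩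
  have hDcomm : ∀ a b : ↥D, a * b = b * a := by
    intro a b
    haveI := hZcyc
    have hAutComm : ∀ φ ψ : MulAut ↥Z, φ * ψ = ψ * φ := by
      intro φ ψ
      apply (IsCyclic.mulAutMulEquiv ↥Z).injective
      rw [map_mul, map_mul, mul_comm]
    have h1 : ρ2 (a * b * (b * a)⁻¹) = 1 := by
      rw [map_mul, map_inv, map_mul, map_mul, hAutComm (ρ2 a) (ρ2 b), mul_inv_cancel]
    by_contra hab
    have h2 : a * b * (b * a)⁻¹ ≠ 1 := fun h => hab (mul_inv_eq_one.mp h)
    obtain ⟨v, hv⟩ := hZne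
    apply hv
    apply hfpfD _ h2 v
    rw [← hρ2, h1]
    rfl
  have hDcyc : IsCyclic ↥D := by
    apply fpf_cyclic' hZcomm ρ2 hZne ?_ hDcomm
    intro d hd z hz
    rw [hρ2] at hz
    exact hfpfD d hd z hz
  obtain ⟨π, hπ⟩ : ∃ π : G ⧸ H →* G ⧸ K,
      ∀ g : G, π (QuotientGroup.mk' H g) = QuotientGroup.mk' K g :=
    ⟨QuotientGroup.lift H (QuotientGroup.mk' K) (by rw [QuotientGroup.ker_mk']; exact hlt.le),
      fun g => rfl⟩
  have hπKb : ∀ z ∈ Kb, π z = 1 := by
    intro z hz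
    obtain ⟨x, hx, rfl⟩ := hKb_ex z hz
    rw [hπ]
    exact (QuotientGroup.eq_one_iff x).mpr hx
  have hπker : ∀ z, π z = 1 → z ∈ Kb := by
    intro z hz
    obtain ⟨x, rfl⟩ := QuotientGroup.mk'_surjective H z
    rw [hπ] at hz
    exact (hmemKb x).mpr ((QuotientGroup.eq_one_iff x).mp hz)
  have hGbdec : ∀ y : G ⧸ H, ∃ k ∈ Kb, ∃ d ∈ D, k * d = y := by
    intro y
    have h1 : y ∈ Kb ⊔ D := by rw [hN2c.sup_eq_top]; exact Subgroup.mem_top y
    exact Subgroup.mem_sup_of_normal_left.mp h1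
  have hcycQ : IsCyclic (G ⧸ K) := by
    haveI := hDcyc
    apply isCyclic_of_surjective (π.comp D.subtype)
    intro y
    obtain ⟨g, rfl⟩ := QuotientGroup.mk'_surjective K y
    obtain ⟨k, hk, d, hd, hkd⟩ := hGbdec (QuotientGroup.mk' H g)
    refine ⟨⟨d, hd⟩, ?_⟩
    show π d = _
    rw [← hπ, ← hkd, map_mul, hπKb k hk, one_mul]
  have hsolv : Group.IsSolvable G := by
    haveI : Group.IsSolvable (G ⧸ K) := by
      letI := IsCyclic.commGroup (α := G ⧸ K)
      exact Group.isSolvable_of_comm (fun a b => mul_comm a b)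
    haveI : Group.IsSolvable ↥Kb := by
      haveI := hN4nil
      infer_instance
    haveI : Group.IsSolvable (G ⧸ H) := by
      apply Group.isSolvable_of_ker_le_range Kb.subtype π
      intro z hz
      rw [Subgroup.range_subtype]
      exact hπker z (MonoidHom.mem_ker.mp hz)
    haveI : Group.IsSolvable ↥H := by
      haveI := hHnil
      infer_instance
    apply Group.isSolvable_of_ker_le_range H.subtype (QuotientGroup.mk' H)
    rw [QuotientGroup.ker_mk', Subgroup.range_subtype]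
  refine ⟨hsolv, hodd, Nat.Coprime.mul_right hcopH.symm hcopD, hcycQ, ?_⟩
  intro p q hp hq hpq hpG hqG
  have hGcard : Nat.card G = Nat.card ↥H * c * Nat.card (G ⧸ K) := by
    rw [← hcard6, ← hcard2, hHKH]
    rfl
  have key : ∀ p q : ℕ, p.Prime → q.Prime → p ≠ q → ∀ g : G, orderOf g = p * q →
      p ∣ c → q ∣ c := by
    intro p q hp hq hpq g hg hpc
    by_contra hqc
    have hcop_pH : Nat.Coprime p (Nat.card ↥H) := Nat.Coprime.coprime_dvd_left hpc hcopH.symm
    have hcop_pd : Nat.Coprime p (Nat.card (G ⧸ K)) := Nat.Coprime.coprime_dvd_left hpc hcopD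
    have hcop_qc : Nat.Coprime q c := (Nat.Prime.coprime_iff_not_dvd hq).mpr hqc
    obtain ⟨a, ha⟩ : ∃ a, a = g ^ q := ⟨_, rfl⟩
    obtain ⟨b, hb⟩ : ∃ b, b = g ^ p := ⟨_, rfl⟩
    have hap : a ^ p = 1 := by
      rw [ha, ← pow_mul, mul_comm, ← hg]; exact pow_orderOf_eq_one g
    have hbq : b ^ q = 1 := by
      rw [hb, ← pow_mul, ← hg]; exact pow_orderOf_eq_one g
    have ha1 : a ≠ 1 := by
      intro h
      rw [ha] at h
      have h1 := orderOf_dvd_of_pow_eq_one h
      rw [hg] at h1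
      have h2 := Nat.le_of_dvd hq.pos h1
      have h3 := hp.one_lt
      have h4 := hq.pos
      nlinarith
    have hb1 : b ≠ 1 := by
      intro h
      rw [hb] at h
      have h1 := orderOf_dvd_of_pow_eq_one h
      rw [hg] at h1
      have h2 := Nat.le_of_dvd hp.pos h1
      have h3 := hq.one_lt
      have h4 := hp.pos
      nlinarith
    have hab : a * b = b * a := by rw [ha, hb, ← pow_add, ← pow_add, add_comm]
    have haK : a ∈ K := by
      apply Cfsg.Agent.S4039.bezout_mem K a p (Nat.card (G ⧸ K)) hcop_pd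
      · rw [hap]; exact K.one_mem
      · rw [← QuotientGroup.eq_one_iff, QuotientGroup.mk_pow]; exact pow_card_eq_one'
    have haH : a ∉ H := by
      intro h
      apply ha1
      have h1 : a ∈ (⊥ : Subgroup G) := by
        apply Cfsg.Agent.S4039.bezout_mem ⊥ a p (Nat.card ↥H) hcop_pH
        · rw [hap]; exact Subgroup.one_mem _
        · have h2 := pow_card_eq_one' (G := ↥H) (x := ⟨a, h⟩)
          have h3 := congrArg Subtype.val h2
          rw [Subgroup.coe_pow] at h3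
          rw [Subgroup.mem_bot]
          exact h3
      exact Subgroup.mem_bot.mp h1
    by_cases hbH : b ∈ H
    · exact hb1 (K1 a haK haH b hbH hab)
    by_cases hbK : b ∈ K
    · apply hbH
      have h1 : (⟨b, hbK⟩ : ↥K) ∈ H.subgroupOf K := by
        apply Cfsg.Agent.S4039.bezout_mem (H.subgroupOf K) ⟨b, hbK⟩ q c hcop_qc
        · have h2 : (⟨b, hbK⟩ : ↥K) ^ q = 1 := Subtype.ext (by rw [Subgroup.coe_pow]; exact hbq)
          rw [h2]; exact Subgroup.one_mem _
        · rw [← QuotientGroup.eq_one_iff, QuotientGroup.mk_pow, hc]; exact pow_card_eq_one'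
      exact Subgroup.mem_subgroupOf.mp h1
    · have h1 : QuotientGroup.mk' H b ∉ Kb := fun h => hbK ((hmemKb b).mp h)
      have h2 : QuotientGroup.mk' H a ∈ Kb := (hmemKb a).mpr haK
      have h3 := frob_fpf hD hDset h1 h2 (by rw [← map_mul, ← map_mul, hab])
      exact haH ((hmk1 a).mp h3)
  have mixed : ∀ p q : ℕ, p.Prime → q.Prime → p ≠ q → p ∣ Nat.card ↥H →
      q ∣ Nat.card (G ⧸ K) → ∃ g : G, orderOf g = p * q := by
    intro p q hp hq hpq hpH hqd
    haveI : Fact p.Prime := ⟨hp⟩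
    haveI : Fact q.Prime := ⟨hq⟩
    obtain ⟨M, α, hMH, hMne, hMc, hMp, hα⟩ := exM p hp hpH
    have hKD : Kb ⊓ D = ⊥ := hN2c.disjoint.eq_bot
    have hcopM : (Nat.card ↥M).Coprime (Nat.card ↥Kb) := by
      rw [hcKb]
      exact Nat.Coprime.coprime_dvd_left (Subgroup.card_dvd_of_le hMH) hcopH
    obtain ⟨k0, hk0, hk01⟩ := exists_ne_one_of_card Kb (by rw [hcKb]; exact hc1)
    have hfix : ∃ v : ↥M, v ≠ 1 ∧ ∀ h ∈ D, α h v = v := by
      by_contra hcon
      push Not at hcon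
      obtain ⟨v, hv⟩ := hMne
      apply hv
      apply frob_fixed' hMc α D Kb hKD hD.2.2 hcopM
      · intro v hv
        exact fpfM M α hMH hα k0 hk0 hk01 v (hv k0 hk0)
      · intro v hv
        by_contra hv1
        obtain ⟨h, hh, hne⟩ := hcon v hv1
        exact hne (hv h hh)
    obtain ⟨v, hv1, hvD⟩ := hfix
    have hvo : orderOf v = p := orderOf_eq_prime (hMp v) hv1
    obtain ⟨d0, hd0⟩ := exists_prime_orderOf_dvd_card' (G := ↥D) q (by rw [hdD]; exact hqd)
    obtain ⟨y, hy, j, hyj⟩ := lift_order (QuotientGroup.mk' H) (QuotientGroup.mk'_surjective H)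
      (d0 : G ⧸ H) q (by rw [Subgroup.orderOf_coe]; exact hd0)
    have hyv : y * (v : G) * y⁻¹ = (v : G) := by
      rw [← hα, hyj]
      have h1 : ((d0 : G ⧸ H)) ^ j ∈ D := D.pow_mem d0.2 j
      rw [hvD _ h1]
    have hcomm : Commute (v : G) y := by
      show (v : G) * y = y * (v : G)
      calc (v : G) * y = y * (v : G) * y⁻¹ * y := by rw [hyv]
        _ = y * (v : G) := by group
    refine ⟨(v : G) * y, ?_⟩
    have hvo' : orderOf (v : G) = p := by rw [Subgroup.orderOf_coe]; exact hvo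
    rw [hcomm.orderOf_mul_eq_mul_orderOf_of_coprime
      (by rw [hvo', hy]; exact (Nat.coprime_primes hp hq).mpr hpq), hvo', hy]
  constructor
  · rintro ⟨g, hg⟩
    exact ⟨fun h => key p q hp hq hpq g hg h,
      fun h => key q p hq hp hpq.symm g (by rw [hg, mul_comm]) h⟩
  · intro hiff
    by_cases hpc : p ∣ c
    · have hqc := hiff.mp hpc
      obtain ⟨w, hw⟩ := nilp_pq hN4nil p q hp hq hpq (by rw [hcKb]; exact hpc)
        (by rw [hcKb]; exact hqc)
      obtain ⟨g, hg, -⟩ := lift_order (QuotientGroup.mk' H) (QuotientGroup.mk'_surjective H)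
        (w : G ⧸ H) (p * q) (by rw [Subgroup.orderOf_coe]; exact hw)
      exact ⟨g, hg⟩
    · have hqc : ¬ q ∣ c := fun h => hpc (hiff.mpr h)
      have hsplit : ∀ s : ℕ, s.Prime → s ∣ Nat.card G → ¬ s ∣ c →
          s ∣ Nat.card ↥H ∨ s ∣ Nat.card (G ⧸ K) := by
        intro s hs hsG hsc
        rw [hGcard] at hsG
        rcases (Nat.Prime.dvd_mul hs).mp hsG with h | h
        · rcases (Nat.Prime.dvd_mul hs).mp h with h | h
          · exact Or.inl h
          · exact absurd h hsc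
        · exact Or.inr h
      rcases hsplit p hp hpG hpc with h1 | h1 <;> rcases hsplit q hq hqG hqc with h2 | h2
      · obtain ⟨w, hw⟩ := nilp_pq hHnil p q hp hq hpq h1 h2
        exact ⟨(w : G), by rw [Subgroup.orderOf_coe]; exact hw⟩
      · exact mixed p q hp hq hpq h1 h2
      · obtain ⟨g, hg⟩ := mixed q p hq hp hpq.symm h2 h1
        exact ⟨g, by rw [hg, mul_comm]⟩
      · have hnilQ : Group.IsNilpotent (G ⧸ K) := by
          letI := IsCyclic.commGroup (α := G ⧸ K)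
          infer_instance
        obtain ⟨w, hw⟩ := nilp_pq hnilQ p q hp hq hpq h1 h2
        obtain ⟨g, hg, -⟩ := lift_order (QuotientGroup.mk' K) (QuotientGroup.mk'_surjective K)
          w (p * q) hw
        exact ⟨g, hg⟩

end Cfsg.Agent.S4001
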