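import Cfsg.Statements.S3857
import Cfsg.Agent.S4001
import Cfsg.Agent.S0042
import Cfsg.Agent.Lib_helper1_FrobConj
import Cfsg.Agent.Lib_helper1_Hall
import Cfsg.Agent.Lib_helper2_PCons
import Cfsg.Agent.Lib_helper1_ThompsonFpf

set_option autoImplicit false
open Cfsg

namespace Cfsg.Agent.S3857

open scoped Pointwise
universe u

theorem mixed_of_comm {X : Type*} [Group X] [Finite X] (x y : X) (hxy : x * y = y * x) (a b : ℕ)
    (ha : a.Prime) (hb : b.Prime) (hab : a ≠ b) (hax : a ∣ orderOf x) (hby : b ∣ orderOf y) :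
    ∃ g : X, orderOf g = a * b := by
  have h1 : orderOf (x ^ (orderOf x / a)) = a := orderOf_pow_orderOf_div (orderOf_pos x).ne' hax
  have h2 : orderOf (y ^ (orderOf y / b)) = b := orderOf_pow_orderOf_div (orderOf_pos y).ne' hby
  have hxy' : Commute x y := hxy
  have hc : Commute (x ^ (orderOf x / a)) (y ^ (orderOf y / b)) := hxy'.pow_pow _ _
  refine ⟨x ^ (orderOf x / a) * y ^ (orderOf y / b), ?_⟩
  rw [hc.orderOf_mul_eq_mul_orderOf_of_coprime
    (by rw [h1, h2]; exact (Nat.coprime_primes ha hb).mpr hab), h1, h2]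

theorem nomix_comm {X : Type*} [Group X] [Finite X] (P : ℕ → Prop)
    (hnm : ∀ a b : ℕ, a.Prime → b.Prime → P a → ¬ P b → ∀ g : X, orderOf g ≠ a * b)
    (x y : X) (hxy : x * y = y * x) (hx1 : x ≠ 1) (hy1 : y ≠ 1)
    (hx : ∀ s : ℕ, s.Prime → s ∣ orderOf x → P s)
    (hy : ∀ s : ℕ, s.Prime → s ∣ orderOf y → ¬ P s) : False := by
  have hox : orderOf x ≠ 1 := fun h => hx1 (orderOf_eq_one_iff.mp h)
  have hoy : orderOf y ≠ 1 := fun h => hy1 (orderOf_eq_one_iff.mp h)
  obtain ⟨a, ha, hax⟩ := Nat.exists_prime_and_dvd hox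
  obtain ⟨b, hb, hby⟩ := Nat.exists_prime_and_dvd hoy
  have hPa := hx a ha hax
  have hPb := hy b hb hby
  have hab : a ≠ b := fun h => hPb (h ▸ hPa)
  obtain ⟨g, hg⟩ := mixed_of_comm x y hxy a b ha hb hab hax hby
  exact hnm a b ha hb hPa hPb g hg

theorem nomix_quot {X : Type*} [Group X] [Finite X] (P : ℕ → Prop) (H : Subgroup X) [H.Normal]
    (hnm : ∀ a b : ℕ, a.Prime → b.Prime → P a → ¬ P b → ∀ g : X, orderOf g ≠ a * b) :
    ∀ a b : ℕ, a.Prime → b.Prime → P a → ¬ P b → ∀ g : X ⧸ H, orderOf g ≠ a * b := by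
  intro a b ha hb hPa hPb g hg
  obtain ⟨w, hw, -⟩ := Cfsg.Agent.S4001.lift_order (QuotientGroup.mk' H)
    (QuotientGroup.mk'_surjective H) g (a * b) hg
  exact hnm a b ha hb hPa hPb w hw

theorem exists_pi_core {X : Type*} [Group X] [Finite X] (P : ℕ → Prop) :
    ∃ N : Subgroup X, N.Normal ∧ (∀ s : ℕ, s.Prime → s ∣ Nat.card N → P s) ∧
      ∀ T : Subgroup X, T.Normal → (∀ s : ℕ, s.Prime → s ∣ Nat.card T → P s) → T ≤ N := by
  classical
  have hne : Nonempty {N : Subgroup X // N.Normal ∧ ∀ s : ℕ, s.Prime → s ∣ Nat.card N → P s} :=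
    ⟨⟨⊥, inferInstance, fun s hs hdvd => by
      rw [Subgroup.card_bot] at hdvd
      exact absurd (Nat.dvd_one.mp hdvd) hs.ne_one⟩⟩
  obtain ⟨N, hN⟩ := Finite.exists_max
    (fun s : {N : Subgroup X // N.Normal ∧ ∀ s : ℕ, s.Prime → s ∣ Nat.card N → P s} =>
      Nat.card s.1)
  refine ⟨N.1, N.2.1, N.2.2, fun T hT hTP => ?_⟩
  haveI := N.2.1
  haveI := hT
  have hsupP : ∀ s : ℕ, s.Prime → s ∣ Nat.card ↥(N.1 ⊔ T) → P s := by
    intro s hs hdvd
    obtain ⟨m, hm, hcard⟩ := (Cfsg.Agent.Lib_helper2_PCons.sup_solvable_card N.1 T (by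
      rw [Subgroup.normalizer_eq_top]; exact le_top)).2
    rw [hcard] at hdvd
    rcases (Nat.Prime.dvd_mul hs).mp hdvd with h | h
    · exact hTP s hs (h.trans hm)
    · exact N.2.2 s hs h
  have h2 := hN ⟨N.1 ⊔ T, inferInstance, hsupP⟩
  have h3 : N.1 = N.1 ⊔ T := Subgroup.eq_of_le_of_card_ge le_sup_left h2
  rw [h3]
  exact le_sup_right

theorem card_comap_mk {X : Type*} [Group X] [Finite X] (H : Subgroup X) [H.Normal]
    (T : Subgroup (X ⧸ H)) :
    Nat.card ↥(T.comap (QuotientGroup.mk' H)) = Nat.card ↥H * Nat.card ↥T := by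
  have h1 : (T.comap (QuotientGroup.mk' H)).index = T.index :=
    Subgroup.index_comap_of_surjective T (QuotientGroup.mk'_surjective H)
  have h2 := Subgroup.card_mul_index (T.comap (QuotientGroup.mk' H))
  have h3 := Subgroup.card_mul_index T
  have h4 : Nat.card ↥H * Nat.card (X ⧸ H) = Nat.card X := Subgroup.card_mul_index H
  have hpos : 0 < T.index := Nat.pos_of_ne_zero Subgroup.index_ne_zero_of_finite
  apply Nat.eq_of_mul_eq_mul_right hpos
  calc Nat.card ↥(T.comap (QuotientGroup.mk' H)) * T.index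
      = Nat.card ↥(T.comap (QuotientGroup.mk' H)) * (T.comap (QuotientGroup.mk' H)).index := by
        rw [h1]
    _ = Nat.card X := h2
    _ = Nat.card ↥H * Nat.card (X ⧸ H) := h4.symm
    _ = Nat.card ↥H * (Nat.card ↥T * T.index) := by rw [h3]
    _ = Nat.card ↥H * Nat.card ↥T * T.index := (mul_assoc _ _ _).symm

theorem mk_frob {X : Type*} [Group X] [Finite X] (N : Subgroup X) [N.Normal] (hN1 : N ≠ ⊥)
    (hN2 : N ≠ ⊤) (hcop : Nat.Coprime (Nat.card N) N.index)
    (hfpf : ∀ x n : X, n ∈ N → n ≠ 1 → x ≠ 1 → x ^ N.index = 1 → n * x = x * n → False) :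
    ∃ C : Subgroup X, Cfsg.IsFrobeniusComplement C ∧ Cfsg.frobeniusKernel C = (N : Set X) := by
  obtain ⟨C, hC⟩ := Subgroup.exists_right_complement'_of_coprime hcop
  have hC1 : C ≠ ⊥ := by
    intro h
    apply hN2
    have h1 := hC.sup_eq_top
    rw [h, sup_bot_eq] at h1
    exact h1
  have hCcard : Nat.card C = N.index := by
    have h1 := hC.card_mul_card
    have h2 := Subgroup.card_mul_index N
    exact Nat.eq_of_mul_eq_mul_left Nat.card_pos (h1.trans h2.symm)
  have h := Cfsg.Agent.Lib_helper1_FrobConj.frob_of_fpf N C hC hN1 hC1 (by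
    intro h hh hh1
    rw [eq_bot_iff]
    intro n hn
    obtain ⟨hnN, hnc⟩ := Subgroup.mem_inf.mp hn
    rw [Subgroup.mem_centralizer_singleton_iff] at hnc
    rw [Subgroup.mem_bot]
    by_contra hn1
    have hpow : h ^ N.index = 1 := by
      rw [← hCcard]
      have h5 := pow_card_eq_one' (G := ↥C) (x := ⟨h, hh⟩)
      have h6 := congrArg Subtype.val h5
      rw [Subgroup.coe_pow] at h6
      exact h6
    exact hfpf h n hnN hn1 hh1 hpow hnc)
  exact ⟨C, h.1, h.2.symm⟩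

theorem nilp_of_fpf_elt {X : Type u} [Group X] [Finite X] (N : Subgroup X) [N.Normal] (y : X)
    (r : ℕ) (hr : r.Prime) (hy : y ^ r = 1) (hfpf : ∀ n ∈ N, y * n = n * y → n = 1) :
    Group.IsNilpotent ↥N := by
  apply Cfsg.Agent.H1Thompson.thompson_aux r hr _ ↥N rfl (MulAut.conjNormal y : ↥N ≃* ↥N)
  · intro n hn
    have h1 : y * (n : X) * y⁻¹ = (n : X) := by
      have := congrArg Subtype.val hn
      rwa [MulAut.conjNormal_apply] at this
    have h2 : y * (n : X) = (n : X) * y := by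
      calc y * (n : X) = y * (n : X) * y⁻¹ * y := by group
        _ = (n : X) * y := by rw [h1]
    exact Subtype.ext (hfpf n n.2 h2)
  · intro g
    rw [← map_pow, hy, map_one]
    rfl

theorem exM {G : Type*} [Group G] [Finite G] (H : Subgroup G) [H.Normal]
    (hHnil : Group.IsNilpotent ↥H) (p : ℕ) (hp : p.Prime) (hpH : p ∣ Nat.card ↥H) :
    ∃ (M : Subgroup G) (α : G ⧸ H →* MulAut ↥M),
      M ≤ H ∧ (∃ v : ↥M, v ≠ 1) ∧ (∀ a b : ↥M, a * b = b * a) ∧ (∀ v : ↥M, v ^ p = 1) ∧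
      (∀ (g : G) (m : ↥M), ((α (QuotientGroup.mk' H g) m : ↥M) : G) = g * m * g⁻¹) := by
  obtain ⟨M, hMn, hM⟩ := Cfsg.Agent.S4001.exists_omega H p
  obtain ⟨z, hzH, hz1, hzc, hzp⟩ := Cfsg.Agent.S4001.exists_central_order H hHnil p hp hpH
  obtain ⟨α, hα⟩ := Cfsg.Agent.S4001.exists_action H M hMn
    (fun z hz h hh => ((hM z).mp hz).2.1 h hh)
  refine ⟨M, α, fun z hz => ((hM z).mp hz).1,
    ⟨⟨z, (hM z).mpr ⟨hzH, hzc, hzp⟩⟩, fun h => hz1 (congrArg Subtype.val h)⟩, ?_, ?_, hα⟩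
  · intro a b
    apply Subtype.ext
    exact (((hM (a : G)).mp a.2).2.1 (b : G) ((hM (b : G)).mp b.2).1).symm
  · intro v
    apply Subtype.ext
    rw [Subgroup.coe_pow]
    exact ((hM (v : G)).mp v.2).2.2

theorem exists_normal_pgroup {X : Type*} [Group X] [Finite X] [Group.IsSolvable X] [Nontrivial X] :
    ∃ (N : Subgroup X) (p : ℕ), N.Normal ∧ N ≠ ⊥ ∧ p.Prime ∧
      ∀ s : ℕ, s.Prime → s ∣ Nat.card N → s = p := by
  obtain ⟨M, hMn, hM1, -, -, p, k, hp, -, hcard⟩ :=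
    Cfsg.Agent.Lib_helper1_Hall.exists_minimal_normal (G := X)
  refine ⟨M, p, hMn, hM1, hp, fun s hs hdvd => ?_⟩
  rw [hcard] at hdvd
  exact (Nat.prime_dvd_prime_iff_eq hs hp).mp (hs.dvd_of_dvd_pow hdvd)

theorem main {G : Type u} [Group G] [Finite G] (hsol : Group.IsSolvable G) (P : ℕ → Prop)
    (hnm : ∀ a b : ℕ, a.Prime → b.Prime → P a → ¬ P b → ∀ g : G, orderOf g ≠ a * b)
    (N₀ : Subgroup G) (hN₀n : N₀.Normal) (hN₀1 : N₀ ≠ ⊥)
    (hN₀P : ∀ s : ℕ, s.Prime → s ∣ Nat.card N₀ → P s)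
    (b₀ : ℕ) (hb₀ : b₀.Prime) (hb₀G : b₀ ∣ Nat.card G) (hb₀P : ¬ P b₀) :
    (∃ C : Subgroup G, Cfsg.IsFrobeniusComplement C) ∨
    (∃ (H K : Subgroup G) (_ : H.Normal), K.Normal ∧ H < K ∧
      (∃ C : Subgroup ↥K, Cfsg.IsFrobeniusComplement C ∧
        Cfsg.frobeniusKernel C = (H.subgroupOf K : Set ↥K)) ∧
      (∃ C : Subgroup (G ⧸ H), Cfsg.IsFrobeniusComplement C ∧
        Cfsg.frobeniusKernel C = (K.map (QuotientGroup.mk' H) : Set (G ⧸ H)))) := by
  classical
  obtain ⟨H, hHn, hHP, hHmax⟩ := exists_pi_core (X := G) P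
  haveI := hHn
  have hH1 : H ≠ ⊥ := by
    intro h
    have h1 := hHmax N₀ hN₀n hN₀P
    rw [h] at h1
    exact hN₀1 (le_bot_iff.mp h1)
  have hnmQ := nomix_quot P H hnm
  have hHcard : Nat.card ↥H ≠ 1 := fun h => hH1 (Subgroup.card_eq_one.mp h)
  have hcardG : Nat.card ↥H * Nat.card (G ⧸ H) = Nat.card G := Subgroup.card_mul_index H
  have hb₀Q : b₀ ∣ Nat.card (G ⧸ H) := by
    rw [← hcardG] at hb₀G
    rcases (Nat.Prime.dvd_mul hb₀).mp hb₀G with h | h
    · exact absurd (hHP b₀ hb₀ h) hb₀P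
    · exact h
  have hHelt : ∀ n ∈ H, ∀ s : ℕ, s.Prime → s ∣ orderOf n → P s := by
    intro n hn s hs hdvd
    apply hHP s hs
    have h1 : orderOf (⟨n, hn⟩ : ↥H) ∣ Nat.card ↥H := orderOf_dvd_natCard _
    rw [Subgroup.orderOf_mk] at h1
    exact hdvd.trans h1
  by_cases hcase : ∀ s : ℕ, s.Prime → s ∣ Nat.card (G ⧸ H) → ¬ P s
  · left
    have hH2 : H ≠ ⊤ := by
      intro h
      have h1 : Nat.card (G ⧸ H) = 1 := by
        have h2 := Subgroup.index_top (G := G)
        rw [← h] at h2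
        exact h2
      rw [h1] at hb₀Q
      exact hb₀.ne_one (Nat.dvd_one.mp hb₀Q)
    have hcop : Nat.Coprime (Nat.card ↥H) H.index := by
      apply Nat.coprime_of_dvd
      intro k hk hk1 hk2
      exact hcase k hk hk2 (hHP k hk hk1)
    obtain ⟨C, hC, -⟩ := mk_frob H hH1 hH2 hcop (by
      intro x n hn hn1 hx1 hxpow hcomm
      apply nomix_comm P hnm n x hcomm hn1 hx1 (hHelt n hn)
      intro s hs hdvd
      exact hcase s hs (hdvd.trans (orderOf_dvd_of_pow_eq_one hxpow)))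
    exact ⟨C, hC⟩
  · right
    push Not at hcase
    obtain ⟨r, hr, hrQ, hPr⟩ := hcase
    haveI : Fact r.Prime := ⟨hr⟩
    obtain ⟨Kb, hKbn, hKbP, hKbmax⟩ := exists_pi_core (X := G ⧸ H) (fun s => ¬ P s)
    haveI := hKbn
    have hKb1 : Kb ≠ ⊥ := by
      haveI : Nontrivial (G ⧸ H) := by
        rw [← Finite.one_lt_card_iff_nontrivial]
        have h1 := Nat.le_of_dvd Nat.card_pos hb₀Q
        have h2 := hb₀.one_lt
        omega
      obtain ⟨Nb, p, hNn, hN1, hp, hNp⟩ := exists_normal_pgroup (X := G ⧸ H)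
      by_cases hPp : P p
      · exfalso
        have hcomapP : ∀ s : ℕ, s.Prime →
            s ∣ Nat.card ↥(Nb.comap (QuotientGroup.mk' H)) → P s := by
          intro s hs hdvd
          rw [card_comap_mk] at hdvd
          rcases (Nat.Prime.dvd_mul hs).mp hdvd with h | h
          · exact hHP s hs h
          · rw [hNp s hs h]; exact hPp
        have hle := hHmax _ (hNn.comap _) hcomapP
        have hcard := Subgroup.card_le_of_le hle
        rw [card_comap_mk] at hcard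
        have hpos : 0 < Nat.card ↥H := Nat.card_pos
        have h1 : Nat.card ↥Nb ≤ 1 := by
          by_contra hcon
          push Not at hcon
          have : Nat.card ↥H * 2 ≤ Nat.card ↥H * Nat.card ↥Nb := Nat.mul_le_mul_left _ hcon
          omega
        apply hN1
        rw [← Subgroup.card_eq_one]
        have h2 := Nat.card_pos (α := ↥Nb)
        omega
      · intro h
        have hle := hKbmax Nb hNn (fun s hs hdvd => by rw [hNp s hs hdvd]; exact hPp)
        rw [h] at hle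
        exact hN1 (le_bot_iff.mp hle)
    have hKb2 : Kb ≠ ⊤ := by
      intro h
      apply hKbP r hr _ hPr
      rw [h, Subgroup.card_top]
      exact hrQ
    obtain ⟨K, hKdef⟩ : ∃ K : Subgroup G, K = Kb.comap (QuotientGroup.mk' H) := ⟨_, rfl⟩
    haveI hKn : K.Normal := by rw [hKdef]; exact hKbn.comap _
    have hmk1 : ∀ x : G, QuotientGroup.mk' H x = 1 ↔ x ∈ H := fun x => QuotientGroup.eq_one_iff x
    have hmemKb : ∀ x : G, QuotientGroup.mk' H x ∈ Kb ↔ x ∈ K := by
      intro x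
      rw [hKdef, Subgroup.mem_comap]
    have hHK : H ≤ K := by
      intro h hh
      rw [← hmemKb, (hmk1 h).mpr hh]
      exact Kb.one_mem
    have hmapK : K.map (QuotientGroup.mk' H) = Kb := by
      rw [hKdef]
      exact Subgroup.map_comap_eq_self_of_surjective (QuotientGroup.mk'_surjective H) Kb
    have hKb_ex : ∀ z ∈ Kb, ∃ x ∈ K, QuotientGroup.mk' H x = z := by
      intro z hz
      obtain ⟨x, rfl⟩ := QuotientGroup.mk'_surjective H z
      exact ⟨x, (hmemKb x).mp hz, rfl⟩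
    have hKcard : Nat.card ↥K = Nat.card ↥H * Nat.card ↥Kb := by
      rw [hKdef]; exact card_comap_mk H Kb
    have hKbcard : Nat.card ↥Kb ≠ 1 := fun h => hKb1 (Subgroup.card_eq_one.mp h)
    have hHKne : H ≠ K := by
      intro h
      apply hKbcard
      have h1 : Nat.card ↥H * Nat.card ↥Kb = Nat.card ↥H * 1 := by
        rw [← hKcard, ← h, mul_one]
      exact Nat.eq_of_mul_eq_mul_left Nat.card_pos h1
    have hlt : H < K := lt_of_le_of_ne hHK hHKne
    have hKbelt : ∀ n ∈ Kb, ∀ s : ℕ, s.Prime → s ∣ orderOf n → ¬ P s := by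
      intro n hn s hs hdvd
      apply hKbP s hs
      have h1 : orderOf (⟨n, hn⟩ : ↥Kb) ∣ Nat.card ↥Kb := orderOf_dvd_natCard _
      rw [Subgroup.orderOf_mk] at h1
      exact hdvd.trans h1
    have hFK : ∃ C : Subgroup ↥K, Cfsg.IsFrobeniusComplement C ∧
        Cfsg.frobeniusKernel C = (H.subgroupOf K : Set ↥K) := by
      have hHKH : Nat.card ↥(H.subgroupOf K) = Nat.card ↥H :=
        Nat.card_congr (Subgroup.subgroupOfEquivOfLe hHK).toEquiv
      have hidx : (H.subgroupOf K).index = Nat.card ↥Kb := by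
        have h1 := Subgroup.card_mul_index (H.subgroupOf K)
        rw [hHKH, hKcard] at h1
        exact Nat.eq_of_mul_eq_mul_left Nat.card_pos h1
      apply mk_frob (H.subgroupOf K)
      · intro h
        rw [Subgroup.subgroupOf_eq_bot] at h
        exact hH1 (h.eq_bot_of_le hHK)
      · intro h
        rw [Subgroup.subgroupOf_eq_top] at h
        exact hHKne (le_antisymm hHK h)
      · rw [hidx, hHKH]
        apply Nat.coprime_of_dvd
        intro k hk hk1 hk2
        exact hKbP k hk hk2 (hHP k hk hk1)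
      · intro x n hn hn1 hx1 hxpow hcomm
        rw [hidx] at hxpow
        apply nomix_comm P hnm (n : G) (x : G) (congrArg Subtype.val hcomm)
          (fun h => hn1 (Subtype.ext h)) (fun h => hx1 (Subtype.ext h))
        · exact hHelt (n : G) (Subgroup.mem_subgroupOf.mp hn)
        · intro s hs hdvd
          apply hKbP s hs
          rw [Subgroup.orderOf_coe] at hdvd
          exact hdvd.trans (orderOf_dvd_of_pow_eq_one hxpow)
    obtain ⟨CK, hCK, hkerK⟩ := hFK
    refine ⟨H, K, hHn, hKn, hlt, ⟨CK, hCK, hkerK⟩, ?_⟩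
    rw [hmapK]
    have hKset : ((H.subgroupOf K : Subgroup ↥K) : Set ↥K) = Cfsg.frobeniusKernel CK :=
      hkerK.symm
    have K1 : ∀ x ∈ K, x ∉ H → ∀ m ∈ H, x * m = m * x → m = 1 := by
      intro x hx hxH m hm hc
      have h1 := Cfsg.Agent.S4001.frob_fpf hCK hKset (x := ⟨x, hx⟩) (m := ⟨m, hHK hm⟩)
        (by rw [Subgroup.mem_subgroupOf]; exact hxH) (by rw [Subgroup.mem_subgroupOf]; exact hm)
        (Subtype.ext hc)
      exact congrArg Subtype.val h1
    obtain ⟨N3, hN3set, -, hN3nil⟩ := Cfsg.Agent.S0042.result CK hCK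
    have hN3 : N3 = H.subgroupOf K := SetLike.coe_injective (hN3set.trans hKset.symm)
    subst hN3
    have hHnil : Group.IsNilpotent ↥H := by
      haveI := hN3nil
      exact Group.nilpotent_of_mulEquiv (Subgroup.subgroupOfEquivOfLe hHK)
    -- Kb nilpotent by Thompson
    obtain ⟨yb, hyb⟩ := exists_prime_orderOf_dvd_card' (G := G ⧸ H) r hrQ
    have hyb1 : yb ≠ 1 := by
      intro h
      rw [h, orderOf_one] at hyb
      exact hr.one_lt.ne hyb
    have hybfpf : ∀ n ∈ Kb, yb * n = n * yb → n = 1 := by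
      intro n hn hcomm
      by_contra hn1
      apply nomix_comm P hnmQ yb n hcomm hyb1 hn1
      · intro s hs hdvd
        rw [hyb] at hdvd
        rw [(Nat.prime_dvd_prime_iff_eq hs hr).mp hdvd]
        exact hPr
      · exact hKbelt n hn
    have hKbnil : Group.IsNilpotent ↥Kb :=
      nilp_of_fpf_elt Kb yb r hr (by rw [← hyb]; exact pow_orderOf_eq_one yb) hybfpf
    -- the centre of Kb
    obtain ⟨Z, hZn, hZ⟩ := Cfsg.Agent.S4001.exists_omega Kb 0
    have hZ' : ∀ z, z ∈ Z ↔ (z ∈ Kb ∧ ∀ k ∈ Kb, k * z = z * k) := fun z =>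
      ⟨fun h => ⟨((hZ z).mp h).1, ((hZ z).mp h).2.1⟩,
        fun h => (hZ z).mpr ⟨h.1, h.2, pow_zero z⟩⟩
    obtain ⟨r', hr', hr'c⟩ := Nat.exists_prime_and_dvd hKbcard
    obtain ⟨z0, hz0K, hz01, hz0c, -⟩ :=
      Cfsg.Agent.S4001.exists_central_order Kb hKbnil r' hr' hr'c
    have hz0Z : z0 ∈ Z := (hZ' z0).mpr ⟨hz0K, hz0c⟩
    obtain ⟨r₂, hr₂, hr₂H⟩ := Nat.exists_prime_and_dvd hHcard
    obtain ⟨M, α, hMH, hMne, hMc, hMp, hα⟩ := exM H hHnil r₂ hr₂ hr₂H
    have fpfM : ∀ z ∈ Kb, z ≠ 1 → ∀ v : ↥M, α z v = v → v = 1 := by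
      intro z hz hz1 v hv
      obtain ⟨x, hx, rfl⟩ := hKb_ex z hz
      have hxH : x ∉ H := fun h => hz1 ((hmk1 x).mpr h)
      have h1 := hα x v
      rw [hv] at h1
      have h2 : x * (v : G) = (v : G) * x := by
        calc x * (v : G) = x * (v : G) * x⁻¹ * x := by group
          _ = (v : G) * x := by rw [← h1]
      exact Subtype.ext (K1 x hx hxH (v : G) (hMH v.2) h2)
    have hZcomm : ∀ a b : ↥Z, a * b = b * a := by
      intro a b
      apply Subtype.ext
      exact (((hZ' (a : G ⧸ H)).mp a.2).2 (b : G ⧸ H) ((hZ' (b : G ⧸ H)).mp b.2).1).symm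
    have hZcyc : IsCyclic ↥Z := by
      apply Cfsg.Agent.S4001.fpf_cyclic' hMc (α.comp Z.subtype) hMne ?_ hZcomm
      intro f hf v hv
      exact fpfM (f : G ⧸ H) ((hZ' _).mp f.2).1 (fun h => hf (Subtype.ext h)) v hv
    haveI := hZn
    haveI := hZcyc
    obtain ⟨ρ2, hρ2⟩ : ∃ ρ2 : G ⧸ H →* MulAut ↥Z,
        ∀ (g : G ⧸ H) (z : ↥Z), ((ρ2 g z : ↥Z) : G ⧸ H) = g * z * g⁻¹ :=
      ⟨MulAut.conjNormal (H := Z), fun g z => MulAut.conjNormal_apply g z⟩
    have hAutComm : ∀ φ ψ : MulAut ↥Z, φ * ψ = ψ * φ := by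
      intro φ ψ
      apply (IsCyclic.mulAutMulEquiv ↥Z).injective
      rw [map_mul, map_mul, mul_comm]
    have hkerP : ∀ s : ℕ, s.Prime → s ∣ Nat.card ↥ρ2.ker → ¬ P s := by
      intro s hs hdvd hPs
      haveI : Fact s.Prime := ⟨hs⟩
      obtain ⟨g, hg⟩ := exists_prime_orderOf_dvd_card' (G := ↥ρ2.ker) s hdvd
      have hgk : ρ2 (g : G ⧸ H) = 1 := MonoidHom.mem_ker.mp g.2
      have h1 := hρ2 (g : G ⧸ H) ⟨z0, hz0Z⟩
      rw [hgk] at h1
      have h1' : z0 = (g : G ⧸ H) * z0 * (g : G ⧸ H)⁻¹ := h1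
      have h2 : (g : G ⧸ H) * z0 = z0 * (g : G ⧸ H) := by
        calc (g : G ⧸ H) * z0 = (g : G ⧸ H) * z0 * (g : G ⧸ H)⁻¹ * (g : G ⧸ H) := by group
          _ = z0 * (g : G ⧸ H) := by rw [← h1']
      have hgo : orderOf (g : G ⧸ H) = s := by rw [Subgroup.orderOf_coe]; exact hg
      apply nomix_comm P hnmQ (g : G ⧸ H) z0 h2 _ hz01
      · intro s' hs' hdvd'
        rw [hgo] at hdvd'
        rw [(Nat.prime_dvd_prime_iff_eq hs' hs).mp hdvd']
        exact hPs
      · exact hKbelt z0 hz0K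
      · intro h
        rw [h, orderOf_one] at hgo
        exact hs.one_lt.ne hgo
    have hkerle : ρ2.ker ≤ Kb := hKbmax ρ2.ker (MonoidHom.normal_ker ρ2) hkerP
    have hcommK : ∀ a b : G ⧸ H, a * b * a⁻¹ * b⁻¹ ∈ Kb := by
      intro a b
      apply hkerle
      rw [MonoidHom.mem_ker, map_mul, map_mul, map_mul, map_inv, map_inv,
        hAutComm (ρ2 a) (ρ2 b)]
      group
    have hcommQ : ∀ u v : (G ⧸ H) ⧸ Kb, u * v = v * u := by
      intro u v
      obtain ⟨u', rfl⟩ := QuotientGroup.mk'_surjective Kb u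
      obtain ⟨v', rfl⟩ := QuotientGroup.mk'_surjective Kb v
      have h1 := hcommK v'⁻¹ u'⁻¹
      rw [inv_inv, inv_inv] at h1
      rw [← map_mul, ← map_mul]
      apply QuotientGroup.eq.mpr
      have h2 : (u' * v')⁻¹ * (v' * u') = v'⁻¹ * u'⁻¹ * v' * u' := by group
      rw [h2]
      exact h1
    have hidxP : ∀ s : ℕ, s.Prime → s ∣ Kb.index → P s := by
      intro b hb hbidx
      by_contra hPb
      haveI : Fact b.Prime := ⟨hb⟩
      obtain ⟨xt, hxt⟩ := exists_prime_orderOf_dvd_card' (G := (G ⧸ H) ⧸ Kb) b hbidx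
      have hTn : ((Subgroup.zpowers xt).comap (QuotientGroup.mk' Kb)).Normal := by
        constructor
        intro t ht g
        rw [Subgroup.mem_comap] at ht ⊢
        rw [map_mul, map_mul, hcommQ, map_inv, inv_mul_cancel_left]
        exact ht
      have hTcard := card_comap_mk Kb (Subgroup.zpowers xt)
      rw [Nat.card_zpowers, hxt] at hTcard
      have hTP : ∀ s : ℕ, s.Prime →
          s ∣ Nat.card ↥((Subgroup.zpowers xt).comap (QuotientGroup.mk' Kb)) → ¬ P s := by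
        intro s hs hdvd
        rw [hTcard] at hdvd
        rcases (Nat.Prime.dvd_mul hs).mp hdvd with h | h
        · exact hKbP s hs h
        · rw [(Nat.prime_dvd_prime_iff_eq hs hb).mp h]
          exact hPb
      have hle := hKbmax _ hTn hTP
      have hcard := Subgroup.card_le_of_le hle
      rw [hTcard] at hcard
      have h1 := hb.two_le
      have h2 := Nat.card_pos (α := ↥Kb)
      have h3 : Nat.card ↥Kb * 2 ≤ Nat.card ↥Kb * b := Nat.mul_le_mul_left _ h1
      omega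
    apply mk_frob Kb hKb1 hKb2
    · apply Nat.coprime_of_dvd
      intro k hk hk1 hk2
      exact hKbP k hk hk1 (hidxP k hk hk2)
    · intro x n hn hn1 hx1 hxpow hcomm
      apply nomix_comm P hnmQ x n hcomm.symm hx1 hn1
      · intro s hs hdvd
        exact hidxP s hs (hdvd.trans (orderOf_dvd_of_pow_eq_one hxpow))
      · exact hKbelt n hn


/-- A finite solvable group whose prime graph (prime divisors of the order, two distinct primes joined when there is an element of order their product) is disconnected is a Frobenius group or a 2-Frobenius group (it has normal subgroups H < K with K a Frobenius group with kernel H and G/H a Frobenius group with kernel K/H). -/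
theorem result {G : Type*} [Group G] [Finite G] (hsol : Group.IsSolvable G)
    (hdisc : (∃ A : Set ℕ, (∃ a ∈ A, a.Prime ∧ a ∣ Nat.card G) ∧ (∃ b ∉ A, b.Prime ∧ b ∣ Nat.card G) ∧
      ∀ a ∈ A, ∀ b ∉ A, a.Prime → b.Prime → a ∣ Nat.card G → b ∣ Nat.card G → ¬ ∃ g : G, orderOf g = a * b)) :
    (∃ C : Subgroup G, Cfsg.IsFrobeniusComplement C) ∨
    (∃ (H K : Subgroup G) (_ : H.Normal), K.Normal ∧ H < K ∧
      (∃ C : Subgroup ↥K, Cfsg.IsFrobeniusComplement C ∧ Cfsg.frobeniusKernel C = (H.subgroupOf K : Set ↥K)) ∧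
      (∃ C : Subgroup (G ⧸ H), Cfsg.IsFrobeniusComplement C ∧ Cfsg.frobeniusKernel C = (K.map (QuotientGroup.mk' H) : Set (G ⧸ H)))) := by
  classical
  obtain ⟨A, ⟨a₀, ha₀A, ha₀, ha₀G⟩, ⟨b₀, hb₀A, hb₀, hb₀G⟩, hno⟩ := hdisc
  haveI : Nontrivial G := by
    rw [← Finite.one_lt_card_iff_nontrivial]
    have h1 := Nat.le_of_dvd Nat.card_pos ha₀G
    have h2 := ha₀.one_lt
    omega
  haveI := hsol
  obtain ⟨N, p, hNn, hN1, hp, hNp⟩ := exists_normal_pgroup (X := G)
  by_cases hpA : p ∈ A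
  · apply main hsol (fun s => s ∈ A) ?_ N hNn hN1 (fun s hs hdvd => by rw [hNp s hs hdvd]; exact hpA)
      b₀ hb₀ hb₀G hb₀A
    intro a b ha hb haA hbA g hg
    have h1 : a ∣ Nat.card G := (Dvd.intro _ hg.symm).trans (orderOf_dvd_natCard g)
    have h2 : b ∣ Nat.card G := (Dvd.intro_left _ hg.symm).trans (orderOf_dvd_natCard g)
    exact hno a haA b hbA ha hb h1 h2 ⟨g, hg⟩
  · apply main hsol (fun s => s ∉ A) ?_ N hNn hN1 (fun s hs hdvd => by rw [hNp s hs hdvd]; exact hpA)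
      a₀ ha₀ ha₀G (fun h => h ha₀A)
    intro a b ha hb haA hbA g hg
    have hbA' : b ∈ A := not_not.mp hbA
    have h1 : a ∣ Nat.card G := (Dvd.intro _ hg.symm).trans (orderOf_dvd_natCard g)
    have h2 : b ∣ Nat.card G := (Dvd.intro_left _ hg.symm).trans (orderOf_dvd_natCard g)
    exact hno b hbA' a haA hb ha h2 h1 ⟨g, by rw [hg, mul_comm]⟩

end Cfsg.Agent.S3857
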