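import Cfsg.Statements.S3861
import Cfsg.Agent.Lib_helper5_Real2
import Cfsg.Agent.Lib_helper6_Sylow

set_option autoImplicit false
open Cfsg Cfsg.Agent.Lib_helper5_Real Cfsg.Agent.Lib_helper5_Real2 Cfsg.Agent.Lib_helper6_PCore

namespace Cfsg.Agent.S3861

/-- A finite group G has no non-identity element of odd order that is conjugate to its inverse if and only if the Sylow 2-subgroups of G are normal. -/
theorem result {G : Type*} [Group G] [Finite G] (P : Sylow 2 G) : (∀ x : G, x ≠ 1 → Odd (orderOf x) → ¬ IsConj x x⁻¹) ↔ (P : Subgroup G).Normal := by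
  haveI : Fact (Nat.Prime 2) := ⟨Nat.prime_two⟩
  constructor
  · intro H
    set Z := Cfsg.pCore 2 G with hZdef
    have hZ : IsPGroup 2 Z := pCore_isPGroup 2
    have hodd : Odd (Nat.card (G ⧸ Z)) := by
      by_contra hne
      rw [Nat.not_odd_iff_even, even_iff_two_dvd] at hne
      obtain ⟨t, ht⟩ := exists_prime_orderOf_dvd_card' (G := G ⧸ Z) 2 hne
      have htt : t * t = 1 := by
        have h0 := pow_orderOf_eq_one t
        rw [ht] at h0
        rw [← pow_two]; exact h0
      have hBS : ∀ g : G ⧸ Z, IsPGroup 2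
          ↥(Subgroup.zpowers t ⊔ (Subgroup.zpowers t).map (MulAut.conj g).toMonoidHom) := by
        intro g
        set s := g * t * g⁻¹ with hs
        have hss : s * s = 1 := by
          rw [hs]
          calc g * t * g⁻¹ * (g * t * g⁻¹) = g * (t * t) * g⁻¹ := by group
            _ = 1 := by rw [htt]; group
        have e : Subgroup.zpowers t ⊔ (Subgroup.zpowers t).map (MulAut.conj g).toMonoidHom =
            Subgroup.closure {t, s} := by
          rw [MonoidHom.map_zpowers, Subgroup.zpowers_eq_closure, Subgroup.zpowers_eq_closure,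
            ← Subgroup.closure_union]
          rfl
        rw [e]
        obtain ⟨b, m, hm, hdm⟩ := Nat.exists_eq_two_pow_mul_odd (orderOf_pos (t * s)).ne'
        have hinv : t * (t * s) * t⁻¹ = (t * s)⁻¹ :=
          Cfsg.Agent.Lib_helper2_Dihedral.inv_conj_mul htt hss
        have he'ord : orderOf ((t * s) ^ 2 ^ b) = m := by
          rw [orderOf_pow, hdm, Nat.gcd_mul_right_left, Nat.mul_div_cancel_left _ (by positivity)]
        have he'real : IsConj ((t * s) ^ 2 ^ b) ((t * s) ^ 2 ^ b)⁻¹ :=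
          isConj_iff.mpr ⟨t, by rw [← conj_pow, hinv, inv_pow]⟩
        have he'1 : (t * s) ^ 2 ^ b = 1 := by
          by_contra hne1
          obtain ⟨x, hx1, hxodd, hxreal⟩ := lift_real Z hZ _ hne1 (he'ord ▸ hm) he'real
          exact H x hx1 hxodd hxreal
        have hm1 : m = 1 := by rw [← he'ord, he'1, orderOf_one]
        exact isPGroup_closure_pair htt hss b (by rw [hdm, hm1, mul_one])
      obtain ⟨N, hNn, hNp, htN⟩ := Cfsg.Agent.Lib_helper2_BS.baer_suzuki (Subgroup.zpowers t)
        (IsPGroup.of_card (n := 1) (by rw [Nat.card_zpowers, ht, pow_one])) hBS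
      have hcomap : N.comap (QuotientGroup.mk' Z) ≤ Z := by
        apply le_pCore (hNn.comap _)
        intro g
        obtain ⟨k, hk⟩ := hNp ⟨QuotientGroup.mk' Z g.1, g.2⟩
        have h1 : (g.1 ^ 2 ^ k) ∈ Z := by
          rw [← QuotientGroup.eq_one_iff]
          have := congrArg Subtype.val hk
          simpa using this
        obtain ⟨l, hl⟩ := hZ ⟨g.1 ^ 2 ^ k, h1⟩
        refine ⟨k + l, ?_⟩
        apply Subtype.ext
        have := congrArg Subtype.val hl
        simp only [Subgroup.coe_pow, Subgroup.coe_one] at this ⊢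
        rw [pow_add, pow_mul]; exact this
      obtain ⟨t₀, rfl⟩ := QuotientGroup.mk'_surjective Z t
      have ht₀ : t₀ ∈ Z := hcomap (by
        rw [Subgroup.mem_comap]; exact htN (Subgroup.mem_zpowers _))
      have ht1 : QuotientGroup.mk' Z t₀ = 1 := (QuotientGroup.eq_one_iff _).mpr ht₀
      rw [ht1, orderOf_one] at ht
      exact absurd ht (by norm_num)
    have hZP : Z ≤ P := pCore_le_sylow P
    have h1 := Subgroup.relIndex_mul_index hZP
    have h2 : Z.relIndex P ∣ Z.index := Dvd.intro _ h1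
    have h3 : Odd (Z.relIndex P) := Odd.of_dvd_nat hodd h2
    have h4 : Z.relIndex P ∣ Nat.card P := Subgroup.relIndex_dvd_card Z P
    obtain ⟨k, hk⟩ := IsPGroup.iff_card.mp P.2
    rw [hk] at h4
    have h5 : Z.relIndex P = 1 :=
      Nat.Coprime.eq_one_of_dvd ((Nat.Coprime.pow_left k (Nat.coprime_two_left.mpr h3)).symm) h4
    have h6 : (P : Subgroup G) ≤ Z := Subgroup.relIndex_eq_one.mp h5
    have h7 : (P : Subgroup G) = Z := le_antisymm h6 hZP
    rw [h7]; infer_instance
  · intro hP x hx1 hxodd hreal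
    haveI := hP
    obtain ⟨g, hg⟩ := isConj_iff.mp hreal
    obtain ⟨t, ⟨j, hj⟩, ht⟩ := exists_two_elt_inverting hg
    obtain ⟨Q, hQ⟩ := Cfsg.Agent.Lib_helper6_Sylow.pElem_mem_sylow (p := 2) ⟨j, hj⟩
    obtain ⟨c, hc⟩ := MulAction.exists_smul_eq G P Q
    rw [Sylow.smul_eq_of_normal] at hc
    rw [← hc] at hQ
    have h1 : x * t * x⁻¹ * t⁻¹ ∈ (P : Subgroup G) :=
      Subgroup.mul_mem _ (hP.conj_mem t hQ x) (Subgroup.inv_mem _ hQ)
    have h2 : x * t * x⁻¹ * t⁻¹ = x ^ 2 := by
      have h3 : t * x⁻¹ * t⁻¹ = x := by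
        calc t * x⁻¹ * t⁻¹ = (t * x * t⁻¹)⁻¹ := by group
          _ = x := by rw [ht, inv_inv]
      calc x * t * x⁻¹ * t⁻¹ = x * (t * x⁻¹ * t⁻¹) := by group
        _ = x ^ 2 := by rw [h3, pow_two]
    rw [h2] at h1
    have h4 : x ^ 2 = 1 := eq_one_of_odd_of_mem_two_group P.2 h1
      (Odd.of_dvd_nat hxodd (orderOf_pow_dvd 2))
    have h5 : orderOf x ∣ 2 := orderOf_dvd_of_pow_eq_one h4
    have h6 : orderOf x = 1 := by
      rcases (Nat.dvd_prime Nat.prime_two).mp h5 with h | h
      · exact h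
      · rw [h] at hxodd; exact absurd hxodd (by decide)
    exact hx1 (orderOf_eq_one_iff.mp h6)

end Cfsg.Agent.S3861
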