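import Cfsg.Statements.S3869
import Cfsg.Agent.Lib_helper5_IrrOrder
import Cfsg.Agent.S3918

set_option autoImplicit false
open Cfsg

namespace Cfsg.Agent.S3869


theorem max_of_prime_index {G : Type*} [Group G] [Finite G] {p : ℕ} (hp : p.Prime)
    (A K : Subgroup G) (hA : A.index = p) (hAK : A ≤ K) : K = A ∨ K = ⊤ := by
  have h1 := Subgroup.relIndex_mul_index hAK
  rw [hA] at h1
  have h2 : K.index ∣ p := Dvd.intro_left _ h1
  rcases (Nat.dvd_prime hp).mp h2 with h3 | h3
  · right
    exact Subgroup.index_eq_one.mp h3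
  · left
    rw [h3] at h1
    have h4 : A.relIndex K = 1 := Nat.eq_of_mul_eq_mul_right hp.pos (by rw [one_mul]; exact h1)
    exact le_antisymm (Subgroup.relIndex_eq_one.mp h4) hAK

theorem normal_of_normalizes {G : Type*} [Group G] [Finite G] {p : ℕ} (hp : p.Prime)
    (A : Subgroup G) (hA : A.index = p) (hAab : ∀ a ∈ A, ∀ b ∈ A, a * b = b * a)
    (B : Subgroup G) (hBA : B ≤ A) (x : G) (hxA : x ∉ A)
    (hx : ∀ b ∈ B, x * b * x⁻¹ ∈ B) : B.Normal := by
  have hN : Subgroup.normalizer (B : Set G) = ⊤ := by
    have h1 : A ≤ Subgroup.normalizer (B : Set G) := by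
      intro a ha
      apply Subgroup.mem_normalizer_fintype
      intro b hb
      have : a * b * a⁻¹ = b := by
        rw [hAab a ha b (hBA hb)]
        group
      rw [this]
      exact hb
    have h2 : x ∈ Subgroup.normalizer (B : Set G) := Subgroup.mem_normalizer_fintype hx
    rcases max_of_prime_index hp A _ hA h1 with h | h
    · exact absurd (h ▸ h2) hxA
    · exact h
  exact Subgroup.normalizer_eq_top_iff.mp hN

theorem not_central {G : Type*} [Group G] [Finite G] {p : ℕ} (hp : p.Prime)
    (hna : ¬ IsMulCommutative G) (A : Subgroup G) (hA : A.index = p)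
    (hAab : ∀ a ∈ A, ∀ b ∈ A, a * b = b * a) (x : G) (hxA : x ∉ A) :
    ∃ a ∈ A, x * a ≠ a * x := by
  by_contra hcon
  push Not at hcon
  apply hna
  have htop : A ⊔ Subgroup.zpowers x = ⊤ := by
    rcases max_of_prime_index hp A _ hA le_sup_left with h | h
    · exfalso
      apply hxA
      rw [← h]
      exact (le_sup_right : Subgroup.zpowers x ≤ _) (Subgroup.mem_zpowers x)
    · exact h
  have hc := Cfsg.Agent.S3918.sup_zpowers_comm A x hAab (fun a ha => (hcon a ha).symm)
  rw [isMulCommutative_iff]
  intro a b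
  exact hc a (by rw [htop]; trivial) b (by rw [htop]; trivial)

theorem normal_of_comm {K : Type*} [Group K] (h : ∀ a b : K, a * b = b * a) (Q : Subgroup K) :
    Q.Normal :=
  ⟨fun n hn g => by rw [h g n, mul_assoc, mul_inv_cancel, mul_one]; exact hn⟩

theorem comm_of_card_dvd_prime {K : Type*} [Group K] [Finite K] {p : ℕ} (hp : p.Prime)
    (h : Nat.card K ∣ p) : ∀ a b : K, a * b = b * a := by
  rcases (Nat.dvd_prime hp).mp h with h1 | h1
  · haveI : Subsingleton K := (Nat.card_eq_one_iff_unique.mp h1).1
    intro a b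
    exact Subsingleton.elim _ _
  · haveI : Fact p.Prime := ⟨hp⟩
    haveI : IsCyclic K := isCyclic_of_prime_card h1
    intro a b
    exact (isMulCommutative_iff.mp IsCyclic.isMulCommutative) a b

/-- the order of a minimal normal elementary abelian `q`-subgroup of index `p` in a nonabelian
group -/
theorem card_eq {G : Type*} [Group G] [Finite G] {p q : ℕ} [Fact p.Prime] (hq : q.Prime)
    (hpq : q ≠ p) (hna : ¬ IsMulCommutative G) (A : Subgroup G) [A.Normal]
    (hA : Cfsg.IsElementaryAbelian q A) (hidx : A.index = p)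
    (hmin : ∀ B : Subgroup G, B.Normal → B ≤ A → B = ⊥ ∨ B = A) :
    Nat.card ↥A = q ^ orderOf (q : ZMod p) := by
  have hp := (Fact.out : p.Prime)
  have hAab : ∀ a ∈ A, ∀ b ∈ A, a * b = b * a := by
    intro a ha b hb
    exact congrArg Subtype.val ((isMulCommutative_iff.mp hA.1) ⟨a, ha⟩ ⟨b, hb⟩)
  have hAtop : A ≠ ⊤ := by
    intro h
    rw [h, Subgroup.index_top] at hidx
    exact hp.one_lt.ne hidx
  obtain ⟨x, hxA⟩ : ∃ x, x ∉ A := by
    by_contra hcon
    push Not at hcon
    exact hAtop (eq_top_iff.mpr fun g _ => hcon g)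
  obtain ⟨a0, ha0, hxa0⟩ := not_central hp hna A hidx hAab x hxA
  have hxp : x ^ p ∈ A := by
    rw [← hidx]
    exact Subgroup.pow_index_mem A x
  have hiter : ∀ (n : ℕ) (w : ↥A),
      ((((MulAut.conjNormal x : MulAut ↥A).toMonoidHom)^[n]) w : G) = x ^ n * w * (x ^ n)⁻¹ := by
    intro n
    induction n with
    | zero =>
      intro w
      simp
    | succ n ih =>
      intro w
      rw [Function.iterate_succ_apply']
      show ((MulAut.conjNormal x : MulAut ↥A)
        ((((MulAut.conjNormal x : MulAut ↥A).toMonoidHom)^[n]) w) : G) = _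
      rw [MulAut.conjNormal_apply, ih, pow_succ', mul_inv_rev]
      simp only [mul_assoc]
  exact Cfsg.Agent.Lib_helper5_IrrOrder.irr_card (W := ↥A)
    (fun a b => (isMulCommutative_iff.mp hA.1) a b) hq hpq
    (fun w => Subtype.ext (hA.2 w w.2)) (MulAut.conjNormal x : MulAut ↥A).toMonoidHom
    (by
      intro w
      apply Subtype.ext
      rw [hiter]
      have h1 := hAab _ hxp w w.2
      rw [h1]
      group)
    ⟨a0, ha0⟩
    (by
      intro h
      apply hxa0
      have h1 : x * a0 * x⁻¹ = a0 := congrArg Subtype.val h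
      calc x * a0 = x * a0 * x⁻¹ * x := by group
        _ = a0 * x := by rw [h1])
    (by
      intro B hB
      have hBn : (B.map A.subtype).Normal :=
        normal_of_normalizes hp A hidx hAab (B.map A.subtype) (Subgroup.map_subtype_le B) x hxA (by
          rintro _ ⟨b, hb, rfl⟩
          exact ⟨_, hB b hb, rfl⟩)
      rcases hmin _ hBn (Subgroup.map_subtype_le B) with h | h
      · left
        exact (Subgroup.map_eq_bot_iff_of_injective _ A.subtype_injective).mp h
      · right
        rw [eq_top_iff]
        intro a _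
        have h1 : (a : G) ∈ B.map A.subtype := by rw [h]; exact a.2
        obtain ⟨b, hb, hba⟩ := h1
        have : b = a := Subtype.ext hba
        rw [← this]
        exact hb)



/-- Let p and q be distinct primes and G a finite non-abelian group with a normal elementary abelian q-subgroup A that is a minimal normal subgroup of G and has index p. Then A has order q^e with e the multiplicative order of q modulo p, and G is minimal non-p-closed: its Sylow p-subgroups are not normal, while in every proper subgroup and in every proper quotient of G the Sylow p-subgroups are normal. -/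
theorem result {G : Type*} [Group G] [Finite G] {p q : ℕ} [Fact p.Prime] (hq : q.Prime) (hpq : q ≠ p)
    (hna : ¬ IsMulCommutative G) (A : Subgroup G) [A.Normal] (hA : Cfsg.IsElementaryAbelian q A) (hidx : A.index = p)
    (hmin : ∀ B : Subgroup G, B.Normal → B ≤ A → B = ⊥ ∨ B = A) :
    Nat.card ↥A = q ^ orderOf (q : ZMod p) ∧ ¬ Cfsg.IsPClosed p G ∧ (∀ H : Subgroup G, H ≠ ⊤ → Cfsg.IsPClosed p ↥H) ∧
      ∀ (N : Subgroup G) [N.Normal], N ≠ ⊥ → Cfsg.IsPClosed p (G ⧸ N) := by
  have hp := (Fact.out : p.Prime)
  haveI : Fact q.Prime := ⟨hq⟩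
  have hAab : ∀ a ∈ A, ∀ b ∈ A, a * b = b * a := by
    intro a ha b hb
    exact congrArg Subtype.val ((isMulCommutative_iff.mp hA.1) ⟨a, ha⟩ ⟨b, hb⟩)
  have hAq : IsPGroup q ↥A := fun w => ⟨1, by rw [pow_one]; exact Subtype.ext (hA.2 w w.2)⟩
  have hF5 := not_central hp hna A hidx hAab
  refine ⟨card_eq hq hpq hna A hA hidx hmin, ?_, ?_, ?_⟩
  · intro hcl
    obtain ⟨P⟩ : Nonempty (Sylow p G) := inferInstance
    haveI : (P : Subgroup G).Normal := hcl P
    have hPne : (P : Subgroup G) ≠ ⊥ := by
      apply Sylow.ne_bot_of_dvd_card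
      rw [← hidx]
      exact Subgroup.index_dvd_card A
    have hdis : Disjoint (P : Subgroup G) A :=
      IsPGroup.disjoint_of_ne p q (Ne.symm hpq) _ _ P.isPGroup' hAq
    obtain ⟨⟨x', hx'P⟩, hx'1⟩ := (Subgroup.ne_bot_iff_exists_ne_one).mp hPne
    have hx'A : x' ∉ A := fun h => hx'1 (Subtype.ext (Subgroup.disjoint_def.mp hdis hx'P h))
    obtain ⟨a, ha, hne⟩ := hF5 x' hx'A
    exact hne (Subgroup.commute_of_normal_of_disjoint _ _ inferInstance inferInstance hdis
      x' a hx'P ha).eq
  · intro H hH Q
    by_cases hHA : H ≤ A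
    · have hHq : IsPGroup q ↥H := hAq.to_le hHA
      have hQ : (Q : Subgroup ↥H) = ⊥ := by
        have hd := IsPGroup.disjoint_of_ne p q (Ne.symm hpq) _ _ Q.isPGroup' (hHq.to_subgroup ⊤)
        exact disjoint_top.mp hd
      rw [hQ]
      infer_instance
    · obtain ⟨y, hyH, hyA⟩ := Set.not_subset.mp hHA
      have hHAn : (H ⊓ A).Normal :=
        normal_of_normalizes hp A hidx hAab (H ⊓ A) inf_le_right y hyA (by
          rintro b ⟨hbH, hbA⟩
          exact ⟨H.mul_mem (H.mul_mem hyH hbH) (H.inv_mem hyH),
            (inferInstance : A.Normal).conj_mem b hbA y⟩)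
      rcases hmin _ hHAn inf_le_right with h | h
      · have h1 : A.relIndex H ∣ A.index := Subgroup.relIndex_dvd_index_of_normal A H
        have h2 : A.relIndex H = Nat.card ↥H := by
          rw [← Subgroup.inf_relIndex_left, h, Subgroup.relIndex_bot_left]
        exact normal_of_comm (comm_of_card_dvd_prime hp (by rw [← h2, ← hidx]; exact h1)) _
      · exfalso
        have hAH : A ≤ H := by
          rw [← h]
          exact inf_le_left
        rcases max_of_prime_index hp A H hidx hAH with h' | h'
        · exact hyA (h' ▸ hyH)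
        · exact hH h'
  · intro N _ hN
    rcases hmin (N ⊓ A) (Subgroup.normal_inf_normal N A) inf_le_right with h | h
    · exfalso
      have hdis : Disjoint N A := disjoint_iff.mpr h
      obtain ⟨⟨x', hx'N⟩, hx'1⟩ := (Subgroup.ne_bot_iff_exists_ne_one).mp hN
      have hx'A : x' ∉ A := fun hh => hx'1 (Subtype.ext (Subgroup.disjoint_def.mp hdis hx'N hh))
      obtain ⟨a, ha, hne⟩ := hF5 x' hx'A
      exact hne (Subgroup.commute_of_normal_of_disjoint N A inferInstance inferInstance hdis
        x' a hx'N ha).eq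
    · have hAN : A ≤ N := by
        rw [← h]
        exact inf_le_left
      intro Q
      apply normal_of_comm (comm_of_card_dvd_prime hp ?_)
      show N.index ∣ p
      rw [← hidx]
      exact Subgroup.index_dvd_of_le hAN

end Cfsg.Agent.S3869
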