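import Cfsg.Statements.S3868
import Cfsg.Agent.Lib_helper5_MinNormal
import Cfsg.Agent.S3869

set_option autoImplicit false
open Cfsg

namespace Cfsg.Agent.S3868


theorem lchar {G : Type*} [Group G] [Finite G] {p : ℕ} [Fact p.Prime] (M : Subgroup G) [M.Normal]
    (hM : Cfsg.IsPClosed p ↥M) (U : Sylow p ↥M) : ((U : Subgroup ↥M).map M.subtype).Normal := by
  haveI := Sylow.characteristic_of_normal U (hM U)
  infer_instance



/-- Structure of the non-simple minimal non-p-closed groups. Call a finite group p-closed when its Sylow p-subgroups are normal, and minimal non-p-closed when it is not p-closed but every proper subgroup and every proper quotient is. If such a group G is not simple, then there is a prime q ≠ p such that G has order p · q^e, where e is the multiplicative order of q modulo p, and G has a normal subgroup A of order q^e that is elementary abelian and is a minimal normal subgroup of G (so G is the semidirect product of A by a group of order p acting irreducibly). -/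
theorem result {G : Type*} [Group G] [Finite G] {p : ℕ} [Fact p.Prime]
    (hnc : ¬ Cfsg.IsPClosed p G) (hsub : ∀ H : Subgroup G, H ≠ ⊤ → Cfsg.IsPClosed p ↥H)
    (hquo : ∀ (N : Subgroup G) [N.Normal], N ≠ ⊥ → Cfsg.IsPClosed p (G ⧸ N)) (hns : ¬ IsSimpleGroup G) :
    ∃ q : ℕ, q.Prime ∧ q ≠ p ∧ Nat.card G = p * q ^ orderOf (q : ZMod p) ∧
      ∃ A : Subgroup G, A.Normal ∧ Nat.card ↥A = q ^ orderOf (q : ZMod p) ∧ Cfsg.IsElementaryAbelian q A ∧
        ∀ B : Subgroup G, B.Normal → B ≤ A → B = ⊥ ∨ B = A := by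
  classical
  have hp := (Fact.out : p.Prime)
  obtain ⟨P, hPn⟩ : ∃ P : Sylow p G, ¬ (P : Subgroup G).Normal := by
    by_contra hcon
    push Not at hcon
    exact hnc hcon
  have hLnorm : ∀ U : Subgroup G, U.Normal → U ≠ ⊥ → IsPGroup p ↥U → False := by
    intro U hUn hU0 hUp
    haveI := hUn
    apply hPn
    have h1 : U ≤ P := hUp.le_sylow_of_normal P
    have h2 := hquo U hU0 (P.mapSurjective (QuotientGroup.mk'_surjective U))
    rw [Sylow.coe_mapSurjective] at h2
    have h3 := h2.comap (QuotientGroup.mk' U)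
    rw [Subgroup.comap_map_eq, QuotientGroup.ker_mk', sup_eq_left.mpr h1] at h3
    exact h3
  have hex : ∃ N : Subgroup G, N.Normal ∧ N ≠ ⊥ ∧ N ≠ ⊤ := by
    by_contra hcon
    push Not at hcon
    apply hns
    haveI : Nontrivial G := by
      by_contra hnt
      rw [not_nontrivial_iff_subsingleton] at hnt
      apply hPn
      have : (P : Subgroup G) = ⊥ := Subsingleton.elim _ _
      rw [this]
      infer_instance
    exact ⟨fun N hN => by
      by_contra h
      push Not at h
      exact h.2 (hcon N hN h.1)⟩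
  obtain ⟨N, ⟨hNn, hN0, hNtop⟩, hNmin'⟩ :=
    (Set.toFinite {N : Subgroup G | N.Normal ∧ N ≠ ⊥ ∧ N ≠ ⊤}).exists_minimal hex
  have hmin : ∀ B : Subgroup G, B.Normal → B ≤ N → B = ⊥ ∨ B = N := by
    intro B hB hBN
    by_cases hB0 : B = ⊥
    · left
      exact hB0
    · right
      exact le_antisymm hBN
        (hNmin' ⟨hB, hB0, fun h => hNtop (top_le_iff.mp (h ▸ hBN))⟩ hBN)
  haveI := hNn
  have hPNn : ((P : Subgroup G) ⊔ N).Normal := by
    have h2 := hquo N hN0 (P.mapSurjective (QuotientGroup.mk'_surjective N))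
    rw [Sylow.coe_mapSurjective] at h2
    have h3 := h2.comap (QuotientGroup.mk' N)
    rwa [Subgroup.comap_map_eq, QuotientGroup.ker_mk'] at h3
  have hPN : (P : Subgroup G) ⊔ N = ⊤ := by
    by_contra hne
    haveI := hPNn
    have h1 := lchar ((P : Subgroup G) ⊔ N) (hsub _ hne) (P.subtype le_sup_left)
    rw [Sylow.coe_subtype, Subgroup.map_subgroupOf_eq_of_le le_sup_left] at h1
    exact hPn h1
  have hpN : ¬ p ∣ Nat.card ↥N := by
    intro hdvd
    obtain ⟨U⟩ : Nonempty (Sylow p ↥N) := inferInstance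
    have h1 := lchar N (hsub N hNtop) U
    apply hLnorm _ h1 ?_ (U.isPGroup'.map N.subtype)
    intro h
    exact U.ne_bot_of_dvd_card hdvd
      ((Subgroup.map_eq_bot_iff_of_injective _ N.subtype_injective).mp h)
  have hidx : N.index = p := by
    have hQp : IsPGroup p (G ⧸ N) := by
      apply IsPGroup.of_surjective P.isPGroup'
        ((QuotientGroup.mk' N).comp (P : Subgroup G).subtype)
      intro z
      obtain ⟨g, rfl⟩ := QuotientGroup.mk'_surjective N z
      have hg : g ∈ (P : Subgroup G) ⊔ N := by rw [hPN]; trivial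
      obtain ⟨u, hu, n, hn, rfl⟩ := Subgroup.mem_sup_of_normal_right.mp hg
      refine ⟨⟨u, hu⟩, ?_⟩
      show ((u : G) : G ⧸ N) = ((u * n : G) : G ⧸ N)
      rw [QuotientGroup.eq]
      simpa using hn
    haveI : Nontrivial (G ⧸ N) := by
      rw [← Finite.one_lt_card_iff_nontrivial]
      have h1 : N.index ≠ 1 := fun h => hNtop (Subgroup.index_eq_one.mp h)
      have h0 : N.index ≠ 0 := Subgroup.index_ne_zero_of_finite
      show 1 < N.index
      omega
    haveI := hQp.center_nontrivial
    have hcp : IsPGroup p ↥(Subgroup.center (G ⧸ N)) := hQp.to_subgroup _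
    obtain ⟨k, hk⟩ := IsPGroup.iff_card.mp hcp
    have hk0 : k ≠ 0 := by
      rintro rfl
      rw [pow_zero] at hk
      have := Finite.one_lt_card (α := ↥(Subgroup.center (G ⧸ N)))
      omega
    obtain ⟨z', hz'⟩ := exists_prime_orderOf_dvd_card' p (G := ↥(Subgroup.center (G ⧸ N)))
      (by rw [hk]; exact dvd_pow_self p hk0)
    have hzc : ∀ g : G ⧸ N, g * (z' : G ⧸ N) = (z' : G ⧸ N) * g :=
      Subgroup.mem_center_iff.mp z'.2
    have hzo : orderOf (z' : G ⧸ N) = p := by
      rw [Subgroup.orderOf_coe]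
      exact hz'
    have hZn : (Subgroup.zpowers (z' : G ⧸ N)).Normal := ⟨by
      intro n hn g
      have : g * n * g⁻¹ = n := by
        obtain ⟨j, rfl⟩ := Subgroup.mem_zpowers_iff.mp hn
        have hc : Commute g ((z' : G ⧸ N) ^ j) := Commute.zpow_right (hzc g) j
        rw [hc.eq]
        group
      rw [this]
      exact hn⟩
    have hMn : ((Subgroup.zpowers (z' : G ⧸ N)).comap (QuotientGroup.mk' N)).Normal :=
      hZn.comap _
    have hMtop : (Subgroup.zpowers (z' : G ⧸ N)).comap (QuotientGroup.mk' N) = ⊤ := by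
      by_contra hne
      obtain ⟨U⟩ : Nonempty (Sylow p
        ↥((Subgroup.zpowers (z' : G ⧸ N)).comap (QuotientGroup.mk' N))) := inferInstance
      have h1 := lchar _ (hsub _ hne) U
      apply hLnorm _ h1 ?_ (U.isPGroup'.map (Subgroup.subtype _))
      intro h
      apply U.ne_bot_of_dvd_card ?_
        ((Subgroup.map_eq_bot_iff_of_injective _ (Subgroup.subtype_injective _)).mp h)
      have h2 := Subgroup.card_dvd_of_surjective _
        ((QuotientGroup.mk' N).subgroupComap_surjective_of_surjective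
          (Subgroup.zpowers (z' : G ⧸ N)) (QuotientGroup.mk'_surjective N))
      rw [Nat.card_zpowers, hzo] at h2
      exact h2
    have hZtop : Subgroup.zpowers (z' : G ⧸ N) = ⊤ := by
      apply Subgroup.comap_injective (QuotientGroup.mk'_surjective N)
      rw [hMtop, Subgroup.comap_top]
    show Nat.card (G ⧸ N) = p
    rw [← Subgroup.card_top (G := G ⧸ N), ← hZtop, Nat.card_zpowers, hzo]
  have hcop : (Nat.card ↥(P : Subgroup G)).Coprime (Nat.card ↥N) := by
    obtain ⟨k, hk⟩ := IsPGroup.iff_card.mp P.isPGroup'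
    rw [hk]
    exact Nat.Coprime.pow_left k ((Nat.Prime.coprime_iff_not_dvd hp).mpr hpN)
  have hPNbot : (P : Subgroup G) ⊓ N = ⊥ := (Subgroup.disjoint_of_coprime_natCard hcop).eq_bot
  obtain ⟨q, hq, hNq⟩ := Cfsg.Agent.Lib_helper5_MinNormal.qgroup_of_coprime (P : Subgroup G) N
    P.isPGroup' hcop
    (by
      intro Q hQN hPQ hne u hu y hy
      have hcl := hsub _ hne (P.subtype le_sup_left)
      rw [Sylow.coe_subtype] at hcl
      have h1 := hcl.conj_mem ⟨u⁻¹, (le_sup_left : (P : Subgroup G) ≤ _) (P.inv_mem hu)⟩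
        (by rw [Subgroup.mem_subgroupOf]; exact (P : Subgroup G).inv_mem hu)
        ⟨y, (le_sup_right : Q ≤ _) hy⟩
      rw [Subgroup.mem_subgroupOf] at h1
      have h2 : y * u⁻¹ * y⁻¹ ∈ (P : Subgroup G) := h1
      have h3 : u * (y * u⁻¹ * y⁻¹) ∈ (P : Subgroup G) ⊓ N := ⟨P.mul_mem hu h2, by
        have : u * (y * u⁻¹ * y⁻¹) = (u * y * u⁻¹) * y⁻¹ := by group
        rw [this]
        exact N.mul_mem (hNn.conj_mem y (hQN hy) u) (N.inv_mem (hQN hy))⟩
      rw [hPNbot, Subgroup.mem_bot] at h3
      calc u * y = (u * (y * u⁻¹ * y⁻¹)) * y * u := by group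
        _ = y * u := by rw [h3, one_mul])
    (by
      intro hc
      apply hPn
      apply Subgroup.normalizer_eq_top_iff.mp
      rw [eq_top_iff, ← hPN]
      apply sup_le Subgroup.le_normalizer
      intro n hn
      apply Subgroup.mem_normalizer_fintype
      intro u hu
      have : n * u * n⁻¹ = u := by
        rw [← hc u hu n hn]
        group
      rw [this]
      exact hu)
  have hqp : q ≠ p := by
    rintro rfl
    exact hLnorm N hNn hN0 hNq
  haveI : Fact q.Prime := ⟨hq⟩
  have hEA := Cfsg.Agent.Lib_helper5_MinNormal.min_normal_ea N hN0 hmin hNq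
  have hna : ¬ IsMulCommutative G := fun hc =>
    hPn (Cfsg.Agent.S3869.normal_of_comm (isMulCommutative_iff.mp hc) _)
  have hcard := Cfsg.Agent.S3869.card_eq hq hqp hna N hEA hidx hmin
  exact ⟨q, hq, hqp, by rw [← Subgroup.card_mul_index N, hidx, hcard, mul_comm],
    N, hNn, hcard, hEA, hmin⟩

end Cfsg.Agent.S3868
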