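import Cfsg.Statements.S3870
import Cfsg.Agent.Lib_helper7_Sylow
import Cfsg.Agent.Lib_helper6_Sylow
import Cfsg.Agent.Lib_helper1_Basic

set_option autoImplicit false
open Cfsg

namespace Cfsg.Agent.S3870

/-- Let G be a finite simple group whose Sylow p-subgroups are not normal but such that every proper subgroup of G has a normal Sylow p-subgroup. Then any two distinct Sylow p-subgroups of G intersect trivially, and for every Sylow p-subgroup P the normalizer of every non-identity subgroup of P lies in the normalizer of P. -/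
theorem result {G : Type*} [Group G] [Finite G] [IsSimpleGroup G] {p : ℕ} [Fact p.Prime]
    (hnc : ¬ Cfsg.IsPClosed p G) (hsub : ∀ H : Subgroup G, H ≠ ⊤ → Cfsg.IsPClosed p ↥H) :
    (∀ P Q : Sylow p G, P ≠ Q → (P : Subgroup G) ⊓ (Q : Subgroup G) = ⊥) ∧
      ∀ (P : Sylow p G) (R : Subgroup G), R ≤ P → R ≠ ⊥ →
        Subgroup.normalizer (R : Set G) ≤ Subgroup.normalizer ((P : Subgroup G) : Set G) := by
  have part1 : ∀ P Q : Sylow p G, P ≠ Q → (P : Subgroup G) ⊓ (Q : Subgroup G) = ⊥ := by
    by_contra hcon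
    push Not at hcon
    let S : Set (Sylow p G × Sylow p G) :=
      {x | x.1 ≠ x.2 ∧ (x.1 : Subgroup G) ⊓ (x.2 : Subgroup G) ≠ ⊥}
    have hSne : S.Nonempty := by
      obtain ⟨P, Q, h1, h2⟩ := hcon
      exact ⟨(P, Q), h1, h2⟩
    obtain ⟨⟨P, Q⟩, ⟨hPQ, hne⟩, hmax⟩ := Set.exists_max_image S
      (fun x => Nat.card ((x.1 : Subgroup G) ⊓ (x.2 : Subgroup G) : Subgroup G))
      (Set.toFinite S) hSne
    set D : Subgroup G := (P : Subgroup G) ⊓ (Q : Subgroup G) with hD
    have hcardPQ : Nat.card P = Nat.card Q := by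
      rw [Sylow.card_eq_multiplicity, Sylow.card_eq_multiplicity]
    have hDP : D < (P : Subgroup G) := by
      refine lt_of_le_of_ne inf_le_left (fun h => hPQ ?_)
      have h1 : (P : Subgroup G) ≤ Q := by rw [← h]; exact inf_le_right
      exact Sylow.ext (Subgroup.eq_of_le_of_card_ge h1 hcardPQ.ge)
    have hDQ : D < (Q : Subgroup G) := by
      refine lt_of_le_of_ne inf_le_right (fun h => hPQ ?_)
      have h1 : (Q : Subgroup G) ≤ P := by rw [← h]; exact inf_le_left
      exact (Sylow.ext (Subgroup.eq_of_le_of_card_ge h1 hcardPQ.le)).symm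
    obtain ⟨t₁, ht₁P, ht₁N, ht₁D⟩ := Cfsg.Agent.Lib_helper7_Sylow.exists_mem_normalizer_not_mem P.2 hDP
    obtain ⟨t₂, ht₂Q, ht₂N, ht₂D⟩ := Cfsg.Agent.Lib_helper7_Sylow.exists_mem_normalizer_not_mem Q.2 hDQ
    set M : Subgroup G := Subgroup.normalizer (D : Set G) with hM
    have hMtop : M ≠ ⊤ := by
      intro h
      have hn : D.Normal := Subgroup.normalizer_eq_top_iff.mp h
      rcases IsSimpleGroup.eq_bot_or_eq_top_of_normal D hn with h1 | h1
      · exact hne h1
      · rw [h1] at hDP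
        exact (not_top_lt hDP)
    have hcl := hsub M hMtop
    obtain ⟨S₀⟩ : Nonempty (Sylow p M) := inferInstance
    haveI := hcl S₀
    haveI : Subsingleton (Sylow p M) := (Sylow.unique_of_normal S₀ (hcl S₀)).instSubsingleton
    -- every p-subgroup of G inside M lies in the image of S₀
    have hin : ∀ T : Subgroup G, IsPGroup p T → T ≤ M → T ≤ (S₀ : Subgroup M).map M.subtype := by
      intro T hT hTM x hx
      obtain ⟨S₁, hS₁⟩ := (hT.comap_subtype (K := M)).exists_le_sylow
      have : S₁ = S₀ := Subsingleton.elim _ _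
      rw [this] at hS₁
      exact ⟨⟨x, hTM hx⟩, hS₁ (Subgroup.mem_subgroupOf.mpr hx), rfl⟩
    obtain ⟨P₁, hP₁⟩ := (S₀.2.map M.subtype).exists_le_sylow
    have hDM : D ≤ M := Subgroup.le_normalizer
    have hDP₁ : D ≤ (P₁ : Subgroup G) :=
      le_trans (hin D (P.2.to_le inf_le_left) hDM) hP₁
    have ht₁P₁ : t₁ ∈ (P₁ : Subgroup G) := by
      apply hP₁
      apply hin (Subgroup.zpowers t₁) (P.2.to_le (Subgroup.zpowers_le.mpr ht₁P))
        (Subgroup.zpowers_le.mpr ht₁N)
      exact Subgroup.mem_zpowers t₁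
    have ht₂P₁ : t₂ ∈ (P₁ : Subgroup G) := by
      apply hP₁
      apply hin (Subgroup.zpowers t₂) (Q.2.to_le (Subgroup.zpowers_le.mpr ht₂Q))
        (Subgroup.zpowers_le.mpr ht₂N)
      exact Subgroup.mem_zpowers t₂
    have hP₁P : P₁ = P := by
      by_contra hne1
      have hlt : D < (P : Subgroup G) ⊓ (P₁ : Subgroup G) := by
        refine lt_of_le_of_ne (le_inf inf_le_left hDP₁) (fun h => ht₁D ?_)
        rw [h]; exact ⟨ht₁P, ht₁P₁⟩
      have hmem : (P, P₁) ∈ S := by
        refine ⟨fun h => hne1 h.symm, ?_⟩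
        intro hbot
        rw [hbot] at hlt
        exact not_lt_bot hlt
      have := hmax (P, P₁) hmem
      have h2 : Nat.card D < Nat.card ((P : Subgroup G) ⊓ (P₁ : Subgroup G) : Subgroup G) := by
        by_contra hge
        push Not at hge
        exact hlt.ne (Subgroup.eq_of_le_of_card_ge hlt.le hge)
      exact absurd this (not_le.mpr h2)
    have hP₁Q : P₁ = Q := by
      by_contra hne1
      have hlt : D < (P₁ : Subgroup G) ⊓ (Q : Subgroup G) := by
        refine lt_of_le_of_ne (le_inf hDP₁ inf_le_right) (fun h => ht₂D ?_)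
        rw [h]; exact ⟨ht₂P₁, ht₂Q⟩
      have hmem : (P₁, Q) ∈ S := by
        refine ⟨hne1, ?_⟩
        intro hbot
        rw [hbot] at hlt
        exact not_lt_bot hlt
      have := hmax (P₁, Q) hmem
      have h2 : Nat.card D < Nat.card ((P₁ : Subgroup G) ⊓ (Q : Subgroup G) : Subgroup G) := by
        by_contra hge
        push Not at hge
        exact hlt.ne (Subgroup.eq_of_le_of_card_ge hlt.le hge)
      exact absurd this (not_le.mpr h2)
    exact hPQ (hP₁P.symm.trans hP₁Q)
  refine ⟨part1, ?_⟩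
  intro P R hRP hR g hg
  by_contra hgN
  have hne : g • P ≠ P := fun h => hgN (Sylow.smul_eq_iff_mem_normalizer.mp h)
  have h1 := part1 (g • P) P hne
  apply hR
  rw [Subgroup.eq_bot_iff_forall]
  intro x hx
  have h2 : x ∈ ((g • P : Sylow p G) : Subgroup G) ⊓ (P : Subgroup G) := by
    have h3 : x ∈ ((g • P : Sylow p G) : Subgroup G) := by
      rw [Cfsg.Agent.Lib_helper6_Sylow.mem_smul_sylow]
      apply hRP
      have := (Subgroup.mem_normalizer_iff''.mp hg x).mp hx
      exact this
    exact ⟨h3, hRP hx⟩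
  rw [h1, Subgroup.mem_bot] at h2
  exact h2

end Cfsg.Agent.S3870
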