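import Cfsg.Statements.S3873
import Cfsg.Agent.Lib_helper5_MinNormal
import Cfsg.Agent.S3869

set_option autoImplicit false
open Cfsg

namespace Cfsg.Agent.S3873




/-- Say that a finite group is p-exponent closed when its elements of order dividing p form a subgroup. Let G be a finite group that is not p-exponent closed, but all of whose proper subgroups and proper quotients are, and suppose G is neither simple nor a p-group. Then there is a prime q ≠ p such that G has order p · q^e, where e is the multiplicative order of q modulo p, and G has a normal elementary abelian subgroup of order q^e that is a minimal normal subgroup of G. -/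
theorem result {G : Type*} [Group G] [Finite G] {p : ℕ} [Fact p.Prime]
    (hnc : ¬ (∃ H : Subgroup G, (H : Set G) = {g : G | g ^ p = 1})) (hsub : ∀ K : Subgroup G, K ≠ ⊤ → (∃ H : Subgroup ↥K, (H : Set ↥K) = {g : ↥K | g ^ p = 1}))
    (hquo : ∀ (N : Subgroup G) [N.Normal], N ≠ ⊥ → (∃ H : Subgroup (G ⧸ N), (H : Set (G ⧸ N)) = {g : (G ⧸ N) | g ^ p = 1}))
    (hns : ¬ IsSimpleGroup G) (hnp : ¬ IsPGroup p G) :
    ∃ q : ℕ, q.Prime ∧ q ≠ p ∧ Nat.card G = p * q ^ orderOf (q : ZMod p) ∧
      ∃ A : Subgroup G, A.Normal ∧ Nat.card ↥A = q ^ orderOf (q : ZMod p) ∧ Cfsg.IsElementaryAbelian q A ∧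
        ∀ B : Subgroup G, B.Normal → B ≤ A → B = ⊥ ∨ B = A := by
  classical
  have hp := (Fact.out : p.Prime)
  obtain ⟨x, y, hx, hy, hxy⟩ : ∃ x y : G, x ^ p = 1 ∧ y ^ p = 1 ∧ (x * y) ^ p ≠ 1 := by
    by_contra hcon
    push Not at hcon
    apply hnc
    exact ⟨{ carrier := {g | g ^ p = 1}
             one_mem' := one_pow p
             mul_mem' := fun {a b} ha hb => hcon a b ha hb
             inv_mem' := fun {a} ha => by
               show a⁻¹ ^ p = 1
               rw [inv_pow, ha, inv_one] }, rfl⟩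
  have hK : ∀ K : Subgroup G, K ≠ ⊤ → ∀ a ∈ K, ∀ b ∈ K, a ^ p = 1 → b ^ p = 1 →
      (a * b) ^ p = 1 := by
    intro K hKne a ha b hb hap hbp
    obtain ⟨H, hH⟩ := hsub K hKne
    have h1 : (⟨a, ha⟩ : ↥K) ∈ H := by
      have : (⟨a, ha⟩ : ↥K) ∈ (H : Set ↥K) := by
        rw [hH]
        exact Subtype.ext hap
      exact this
    have h2 : (⟨b, hb⟩ : ↥K) ∈ H := by
      have : (⟨b, hb⟩ : ↥K) ∈ (H : Set ↥K) := by
        rw [hH]
        exact Subtype.ext hbp
      exact this
    have h4 : (⟨a, ha⟩ * ⟨b, hb⟩ : ↥K) ∈ (H : Set ↥K) := H.mul_mem h1 h2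
    rw [hH] at h4
    exact congrArg Subtype.val h4
  have hgen : Subgroup.closure ({x, y} : Set G) = ⊤ := by
    by_contra hne
    exact hxy (hK _ hne x (Subgroup.subset_closure (Set.mem_insert _ _)) y
      (Subgroup.subset_closure (Set.mem_insert_of_mem _ rfl)) hx hy)
  have hx1 : x ≠ 1 := by
    rintro rfl
    apply hxy
    rw [one_mul]
    exact hy
  have hex : ∃ N : Subgroup G, N.Normal ∧ N ≠ ⊥ ∧ N ≠ ⊤ := by
    by_contra hcon
    push Not at hcon
    apply hns
    haveI : Nontrivial G := ⟨⟨x, 1, hx1⟩⟩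
    exact ⟨fun N hN => by
      by_contra h
      push Not at h
      exact h.2 (hcon N hN h.1)⟩
  obtain ⟨N, ⟨hNn, hN0, hNtop⟩, hNmin'⟩ :=
    (Set.toFinite {N : Subgroup G | N.Normal ∧ N ≠ ⊥ ∧ N ≠ ⊤}).exists_minimal hex
  have hmin : ∀ B : Subgroup G, B.Normal → B ≤ N → B = ⊥ ∨ B = N := by
    intro B hB hBN
    by_cases hB0 : B = ⊥
    · left
      exact hB0
    · right
      exact le_antisymm hBN
        (hNmin' ⟨hB, hB0, fun h => hNtop (top_le_iff.mp (h ▸ hBN))⟩ hBN)
  haveI := hNn
  have hpowN : ∀ g : G, g ^ p ∈ N := by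
    obtain ⟨H, hH⟩ := hquo N hN0
    have hle : Subgroup.closure ({x, y} : Set G) ≤ H.comap (QuotientGroup.mk' N) := by
      rw [Subgroup.closure_le]
      intro g hg
      show (QuotientGroup.mk' N g) ∈ H
      have : (QuotientGroup.mk' N g) ∈ (H : Set (G ⧸ N)) := by
        rw [hH]
        show (QuotientGroup.mk' N g) ^ p = 1
        rw [← map_pow]
        rcases hg with rfl | hg
        · rw [hx, map_one]
        · rw [Set.mem_singleton_iff] at hg
          rw [hg, hy, map_one]
      exact this
    intro g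
    have h1 : g ∈ H.comap (QuotientGroup.mk' N) := hle (by rw [hgen]; trivial)
    have h2 : (QuotientGroup.mk' N g) ∈ (H : Set (G ⧸ N)) := h1
    rw [hH] at h2
    have h3 : (QuotientGroup.mk' N g) ^ p = 1 := h2
    rw [← map_pow] at h3
    exact (QuotientGroup.eq_one_iff _).mp h3
  have hNtor : ∀ n ∈ N, n ^ p = 1 → n = 1 := by
    let Ω : Subgroup G :=
      { carrier := {n | n ∈ N ∧ n ^ p = 1}
        one_mem' := ⟨N.one_mem, one_pow p⟩
        mul_mem' := by
          rintro a b ⟨ha, ha'⟩ ⟨hb, hb'⟩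
          exact ⟨N.mul_mem ha hb, hK N hNtop a ha b hb ha' hb'⟩
        inv_mem' := by
          rintro a ⟨ha, ha'⟩
          exact ⟨N.inv_mem ha, by rw [inv_pow, ha', inv_one]⟩ }
    have hΩn : Ω.Normal := ⟨by
      rintro n ⟨hn, hn'⟩ g
      exact ⟨hNn.conj_mem n hn g, by rw [conj_pow, hn', mul_one, mul_inv_cancel]⟩⟩
    rcases hmin Ω hΩn (fun n hn => hn.1) with h | h
    · intro n hn hnp'
      have : n ∈ Ω := ⟨hn, hnp'⟩
      rw [h] at this
      exact Subgroup.mem_bot.mp this
    · exfalso
      apply hnp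
      intro g
      refine ⟨2, ?_⟩
      have h1 : g ^ p ∈ Ω := by
        rw [h]
        exact hpowN g
      rw [pow_two, pow_mul]
      exact h1.2
  have hNtor' : ∀ (i : ℕ), ∀ n ∈ N, n ^ p ^ i = 1 → n = 1 := by
    intro i
    induction i with
    | zero =>
      intro n _ h
      rwa [pow_zero, pow_one] at h
    | succ i ih =>
      intro n hn h
      apply ih n hn
      apply hNtor _ (N.pow_mem hn _)
      rw [← pow_mul, ← pow_succ]
      exact h
  have hpN : ¬ p ∣ Nat.card ↥N := by
    intro hdvd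
    obtain ⟨z, hz⟩ := exists_prime_orderOf_dvd_card' p hdvd
    have h1 : (z : G) ^ p = 1 := by
      have := pow_orderOf_eq_one z
      rw [hz] at this
      exact congrArg Subtype.val this
    have h2 : z = 1 := Subtype.ext (hNtor _ z.2 h1)
    rw [h2, orderOf_one] at hz
    exact hp.one_lt.ne hz
  have hna : ¬ IsMulCommutative G := by
    intro hc
    apply hxy
    have hcm : Commute x y := (isMulCommutative_iff.mp hc) x y
    rw [hcm.mul_pow, hx, hy, one_mul]
  have hC1 : (∀ n ∈ N, x * n = n * x) → (∀ n ∈ N, y * n = n * y) → False := by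
    intro hxc hyc
    have hNZ : N ≤ Subgroup.center G := by
      intro n hn
      rw [Subgroup.mem_center_iff]
      have hle : Subgroup.closure ({x, y} : Set G) ≤ Subgroup.centralizer {n} := by
        rw [Subgroup.closure_le]
        intro g hg
        rw [SetLike.mem_coe, Subgroup.mem_centralizer_iff]
        intro h hh
        rw [Set.mem_singleton_iff] at hh
        subst hh
        rcases hg with rfl | hg
        · exact (hxc h hn).symm
        · rw [Set.mem_singleton_iff] at hg
          rw [hg]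
          exact (hyc h hn).symm
      intro g
      have hg : g ∈ Subgroup.closure ({x, y} : Set G) := by rw [hgen]; trivial
      have := Subgroup.mem_centralizer_iff.mp (hle hg) n rfl
      exact this.symm
    have hZidx : (Subgroup.center G).index ∣ N.index := Subgroup.index_dvd_of_le hNZ
    have hQp : IsPGroup p (G ⧸ N) := by
      intro z
      obtain ⟨g, rfl⟩ := QuotientGroup.mk'_surjective N z
      refine ⟨1, ?_⟩
      rw [pow_one, ← map_pow]
      exact (QuotientGroup.eq_one_iff _).mpr (hpowN g)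
    obtain ⟨k, hk⟩ := IsPGroup.iff_card.mp hQp
    have hk' : N.index = p ^ k := hk
    rw [hk'] at hZidx
    obtain ⟨j, -, hj⟩ := (Nat.dvd_prime_pow hp).mp hZidx
    have htr : ∀ g : G, ((MonoidHom.transferCenterPow G g : Subgroup.center G) : G) = g ^ p ^ j := by
      intro g
      rw [MonoidHom.transferCenterPow_apply, hj]
    have hj0 : j ≠ 0 := by
      rintro rfl
      rw [pow_zero, Subgroup.index_eq_one] at hj
      apply hna
      rw [isMulCommutative_iff]
      intro a b
      have hb : b ∈ Subgroup.center G := by rw [hj]; trivial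
      exact Subgroup.mem_center_iff.mp hb a
    have hpj : ∀ t : G, t ^ p = 1 → t ^ p ^ j = 1 := by
      intro t ht
      obtain ⟨j', rfl⟩ := Nat.exists_eq_succ_of_ne_zero hj0
      rw [pow_succ', pow_mul, ht, one_pow]
    have h1 : (x * y) ^ p ^ j = 1 := by
      rw [← htr, map_mul]
      have e1 : MonoidHom.transferCenterPow G x = 1 := by
        apply Subtype.ext
        rw [htr]
        exact hpj x hx
      have e2 : MonoidHom.transferCenterPow G y = 1 := by
        apply Subtype.ext
        rw [htr]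
        exact hpj y hy
      rw [e1, e2, one_mul]
      rfl
    apply hxy
    obtain ⟨j', rfl⟩ := Nat.exists_eq_succ_of_ne_zero hj0
    apply hNtor' j' _ (hpowN (x * y))
    rw [← pow_mul, ← pow_succ']
    exact h1
  have hLc : ∀ t : G, t ^ p = 1 → ∀ K : Subgroup G, K ≠ ⊤ → t ∈ K → ∀ n ∈ N, n ∈ K →
      t * n = n * t := by
    intro t ht K hKne htK n hn hnK
    have h1 : (n * t * n⁻¹) ^ p = 1 := by rw [conj_pow, ht, mul_one, mul_inv_cancel]
    have h2 : (t⁻¹) ^ p = 1 := by rw [inv_pow, ht, inv_one]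
    have h3 := hK K hKne (n * t * n⁻¹) (K.mul_mem (K.mul_mem hnK htK) (K.inv_mem hnK)) t⁻¹
      (K.inv_mem htK) h1 h2
    have h4 : n * t * n⁻¹ * t⁻¹ ∈ N := by
      have : n * t * n⁻¹ * t⁻¹ = n * (t * n⁻¹ * t⁻¹) := by group
      rw [this]
      exact N.mul_mem hn (hNn.conj_mem _ (N.inv_mem hn) t)
    have h5 := hNtor _ h4 h3
    calc t * n = (n * t * n⁻¹ * t⁻¹)⁻¹ * (n * t) := by group
      _ = n * t := by rw [h5, inv_one, one_mul]
  have hsupx : ∀ t : G, t ^ p = 1 → N ⊔ Subgroup.zpowers t = ⊤ → N.index ∣ p := by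
    intro t ht htop
    have h1 : Subgroup.zpowers (QuotientGroup.mk' N t) = ⊤ := by
      have h := Subgroup.map_top_of_surjective (QuotientGroup.mk' N) (QuotientGroup.mk'_surjective N)
      rw [← htop, Subgroup.map_sup, QuotientGroup.map_mk'_self, bot_sup_eq,
        MonoidHom.map_zpowers] at h
      exact h
    show Nat.card (G ⧸ N) ∣ p
    rw [← Subgroup.card_top (G := G ⧸ N), ← h1, Nat.card_zpowers]
    apply orderOf_dvd_of_pow_eq_one
    rw [← map_pow, ht, map_one]
  have hidx : N.index = p := by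
    by_contra hne
    have h1 : ∀ t : G, t ^ p = 1 → ∀ n ∈ N, t * n = n * t := by
      intro t ht n hn
      have hKne : N ⊔ Subgroup.zpowers t ≠ ⊤ := by
        intro htop
        have h2 := hsupx t ht htop
        rcases (Nat.dvd_prime hp).mp h2 with h3 | h3
        · exact hNtop (Subgroup.index_eq_one.mp h3)
        · exact hne h3
      exact hLc t ht _ hKne ((le_sup_right : Subgroup.zpowers t ≤ N ⊔ Subgroup.zpowers t)
        (Subgroup.mem_zpowers t)) n hn ((le_sup_left : N ≤ N ⊔ Subgroup.zpowers t) hn)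
    exact hC1 (h1 x hx) (h1 y hy)
  have hxo : orderOf x = p := orderOf_eq_prime hx hx1
  have hxN : x ∉ N := fun h => hx1 (hNtor x h hx)
  have hcop : (Nat.card ↥(Subgroup.zpowers x)).Coprime (Nat.card ↥N) := by
    rw [Nat.card_zpowers, hxo]
    exact (Nat.Prime.coprime_iff_not_dvd hp).mpr hpN
  have hzp : IsPGroup p ↥(Subgroup.zpowers x) :=
    IsPGroup.of_card (n := 1) (by rw [Nat.card_zpowers, hxo, pow_one])
  obtain ⟨q, hq, hNq⟩ := Cfsg.Agent.Lib_helper5_MinNormal.qgroup_of_coprime
    (Subgroup.zpowers x) N hzp hcop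
    (by
      intro Q hQN hPQ hne u hu y' hy'
      have h1 : x * y' = y' * x := hLc x hx _ hne
        ((le_sup_left : Subgroup.zpowers x ≤ Subgroup.zpowers x ⊔ Q) (Subgroup.mem_zpowers x))
        y' (hQN hy') ((le_sup_right : Q ≤ Subgroup.zpowers x ⊔ Q) hy')
      obtain ⟨j, rfl⟩ := Subgroup.mem_zpowers_iff.mp hu
      have hc : Commute x y' := h1
      exact (hc.zpow_left j).eq)
    (by
      intro hc
      have hxc : ∀ n ∈ N, x * n = n * x := fun n hn => hc x (Subgroup.mem_zpowers x) n hn
      have htop : N ⊔ Subgroup.zpowers x = ⊤ := by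
        rcases Cfsg.Agent.S3869.max_of_prime_index hp N _ hidx le_sup_left with h | h
        · exfalso
          apply hxN
          rw [← h]
          exact (le_sup_right : Subgroup.zpowers x ≤ _) (Subgroup.mem_zpowers x)
        · exact h
      have hyt : y ∈ N ⊔ Subgroup.zpowers x := by rw [htop]; trivial
      obtain ⟨n, hn, u, hu, hnu⟩ := Subgroup.mem_sup_of_normal_left.mp hyt
      obtain ⟨j, rfl⟩ := Subgroup.mem_zpowers_iff.mp hu
      have hcm : Commute n x := (hxc n hn).symm
      have hcomm : Commute n (x ^ j) := hcm.zpow_right j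
      have hxj : ∀ i : ℤ, (x ^ i) ^ p = 1 := by
        intro i
        rw [← zpow_natCast, ← zpow_mul, mul_comm, zpow_mul, zpow_natCast, hx, one_zpow]
      have hnp' : n ^ p = 1 := by
        have := hy
        rw [← hnu, hcomm.mul_pow, hxj, mul_one] at this
        exact this
      have hn1 := hNtor n hn hnp'
      apply hxy
      rw [← hnu, hn1, one_mul]
      have : x * x ^ j = x ^ (1 + j) := by rw [zpow_add, zpow_one]
      rw [this]
      exact hxj _)
  have hqp : q ≠ p := by
    rintro rfl
    apply hpN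
    obtain ⟨k, hk⟩ := IsPGroup.iff_card.mp hNq
    have hk0 : k ≠ 0 := by
      rintro rfl
      rw [pow_zero] at hk
      haveI : Nontrivial ↥N := (Subgroup.nontrivial_iff_ne_bot N).mpr hN0
      have := Finite.one_lt_card (α := ↥N)
      omega
    rw [hk]
    exact dvd_pow_self q hk0
  haveI : Fact q.Prime := ⟨hq⟩
  have hEA := Cfsg.Agent.Lib_helper5_MinNormal.min_normal_ea N hN0 hmin hNq
  have hcard := Cfsg.Agent.S3869.card_eq hq hqp hna N hEA hidx hmin
  exact ⟨q, hq, hqp, by rw [← Subgroup.card_mul_index N, hidx, hcard, mul_comm],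
    N, hNn, hcard, hEA, hmin⟩

end Cfsg.Agent.S3873
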