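import Cfsg.Statements.S3889
import Mathlib

set_option autoImplicit false
open Cfsg

namespace Cfsg.Agent.S3889

/-- A finite abelian group that is the union of a family of proper subgroups any two of which intersect trivially is elementary abelian: its exponent is a prime. -/
theorem result {G : Type*} [CommGroup G] [Finite G] (𝓑 : Set (Subgroup G)) (hprop : ∀ B ∈ 𝓑, B ≠ ⊤)
    (hcov : ∀ g : G, ∃ B ∈ 𝓑, g ∈ B) (hdisj : ∀ B ∈ 𝓑, ∀ C ∈ 𝓑, B ≠ C → B ⊓ C = ⊥) :
    (Monoid.exponent G).Prime := by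
  -- two members sharing a nonidentity element coincide
  have hsame : ∀ B ∈ 𝓑, ∀ C ∈ 𝓑, ∀ x : G, x ≠ 1 → x ∈ B → x ∈ C → B = C := by
    intro B hB C hC x hx1 hxB hxC
    by_contra hne
    have := hdisj B hB C hC hne
    have hx : x ∈ B ⊓ C := ⟨hxB, hxC⟩
    rw [this, Subgroup.mem_bot] at hx
    exact hx1 hx
  -- L1
  have L1 : ∀ B ∈ 𝓑, ∀ x ∈ B, x ≠ 1 → ∀ y : G, y ∉ B → y ^ orderOf x = 1 := by
    intro B hB x hxB hx1 y hyB
    by_contra hyn
    obtain ⟨C, hC, hxyC⟩ := hcov (x * y)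
    obtain ⟨D, hD, hyD⟩ := hcov y
    have h1 : (x * y) ^ orderOf x = y ^ orderOf x := by
      rw [mul_pow, pow_orderOf_eq_one, one_mul]
    have h2 : y ^ orderOf x ∈ C := h1 ▸ C.pow_mem hxyC _
    have h3 : y ^ orderOf x ∈ D := D.pow_mem hyD _
    have hCD : C = D := hsame C hC D hD _ hyn h2 h3
    have hyC : y ∈ C := hCD ▸ hyD
    have hxC : x ∈ C := by
      have := C.mul_mem hxyC (C.inv_mem hyC)
      simpa using this
    have hBC : B = C := hsame B hB C hC x hx1 hxB hxC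
    exact hyB (hBC ▸ hyC)
  -- L2
  have L2 : ∀ B ∈ 𝓑, ∀ x ∈ B, x ≠ 1 → ∀ y : G, y ∉ B → orderOf y = orderOf x := by
    intro B hB x hxB hx1 y hyB
    apply Nat.dvd_antisymm
    · exact orderOf_dvd_of_pow_eq_one (L1 B hB x hxB hx1 y hyB)
    · obtain ⟨D, hD, hyD⟩ := hcov y
      have hy1 : y ≠ 1 := fun h => hyB (h ▸ B.one_mem)
      have hxD : x ∉ D := by
        intro hxD
        have hBD : B = D := hsame B hB D hD x hx1 hxB hxD
        exact hyB (hBD ▸ hyD)
      exact orderOf_dvd_of_pow_eq_one (L1 D hD y hyD hy1 x hxD)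
  -- existence of elements outside a member
  have hout : ∀ B ∈ 𝓑, ∃ y : G, y ∉ B := by
    intro B hB
    by_contra hall
    rw [not_exists] at hall
    apply hprop B hB
    rw [eq_top_iff]
    intro y _
    by_contra hy
    exact hall y hy
  -- L3 : orders are prime
  have L3 : ∀ x : G, x ≠ 1 → (orderOf x).Prime := by
    intro x hx1
    obtain ⟨B, hB, hxB⟩ := hcov x
    obtain ⟨y, hyB⟩ := hout B hB
    have hn1 : orderOf x ≠ 1 := fun h => hx1 (orderOf_eq_one_iff.mp h)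
    set r := (orderOf x).minFac with hr
    have hrp : r.Prime := Nat.minFac_prime hn1
    have hrd : r ∣ orderOf x := Nat.minFac_dvd _
    by_contra hnp
    have hxr : x ^ r ≠ 1 := by
      intro h
      have h1 : orderOf x ∣ r := orderOf_dvd_of_pow_eq_one h
      have h2 : orderOf x = r := Nat.dvd_antisymm h1 hrd
      exact hnp (h2 ▸ hrp)
    have h4 := L2 B hB (x ^ r) (B.pow_mem hxB r) hxr y hyB
    have h5 := L2 B hB x hxB hx1 y hyB
    obtain ⟨k, hk⟩ := hrd
    have h6 : (x ^ r) ^ k = 1 := by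
      rw [← pow_mul, ← hk, pow_orderOf_eq_one]
    have h7 : orderOf (x ^ r) ∣ k := orderOf_dvd_of_pow_eq_one h6
    rw [← h4, h5] at h7
    have hpos : 0 < orderOf x := orderOf_pos x
    have hk0 : 0 < k := by
      rcases Nat.eq_zero_or_pos k with h0 | h0
      · rw [h0, mul_zero] at hk; omega
      · exact h0
    have h8 : orderOf x ≤ k := Nat.le_of_dvd hk0 h7
    have h9 : 2 ≤ r := hrp.two_le
    have : r * k ≥ 2 * k := Nat.mul_le_mul_right k h9
    omega
  -- G nontrivial and base point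
  obtain ⟨B0, hB0, _⟩ := hcov 1
  obtain ⟨y0, hy0⟩ := hout B0 hB0
  have hy01 : y0 ≠ 1 := fun h => hy0 (h ▸ B0.one_mem)
  haveI : Nontrivial G := ⟨⟨y0, 1, hy01⟩⟩
  obtain ⟨D0, hD0, hy0D0⟩ := hcov y0
  have hp : (orderOf y0).Prime := L3 y0 hy01
  have hexp : Monoid.exponent G = orderOf y0 := by
    rw [Monoid.exponent_eq_prime_iff hp]
    intro z hz1
    by_cases hz : z ∈ D0
    · obtain ⟨w, hw⟩ := hout D0 hD0
      rw [← L2 D0 hD0 z hz hz1 w hw, L2 D0 hD0 y0 hy0D0 hy01 w hw]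
    · exact L2 D0 hD0 y0 hy0D0 hy01 z hz
  rw [hexp]
  exact hp

end Cfsg.Agent.S3889
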