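import Cfsg.Statements.S3903
import Cfsg.Agent.S4040
import Cfsg.Agent.Lib_helper1_Basic

set_option autoImplicit false
open Cfsg

namespace Cfsg.Agent.S3903

open scoped Pointwise

universe u

theorem cent_pgroup {G : Type*} [Group G] [Finite G] (N : Subgroup G)
    (h : ∀ x : G, x ∉ N → IsPrimePow (orderOf x)) (x : G) (hx : x ∉ N) (p k : ℕ)
    (hp : p.Prime) (hpk : orderOf x = p ^ k) :
    IsPGroup p (Subgroup.centralizer ({x} : Set G)) := by
  have hk : k ≠ 0 := by
    rintro rfl
    rw [pow_zero, orderOf_eq_one_iff] at hpk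
    exact hx (hpk ▸ N.one_mem)
  have key : ∀ m : G, m ∈ Subgroup.centralizer ({x} : Set G) → ∀ q : ℕ, q.Prime →
      q ∣ orderOf m → q = p := by
    intro m hm q hq hqm
    by_contra hne
    obtain ⟨u, hu⟩ : ∃ u : G, u = m ^ (orderOf m / q) := ⟨_, rfl⟩
    have huo : orderOf u = q := by
      rw [hu]; exact orderOf_pow_orderOf_div (orderOf_pos m).ne' hqm
    have hmx : m * x = x * m := Subgroup.mem_centralizer_singleton_iff.mp hm
    have hcomm : Commute x u := by
      rw [hu]; exact Commute.pow_right hmx.symm _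
    have hpq : Nat.Coprime p q := (Nat.coprime_primes hp hq).mpr (Ne.symm hne)
    have hcop : (orderOf x).Coprime (orderOf u) := by
      rw [hpk, huo]; exact Nat.Coprime.pow_left k hpq
    have hord : orderOf (x * u) = orderOf x * orderOf u :=
      hcomm.orderOf_mul_eq_mul_orderOf_of_coprime hcop
    by_cases hxu : x * u ∈ N
    · have h1 : (x * u) ^ q ∈ N := N.pow_mem hxu q
      have h2 : (x * u) ^ q = x ^ q := by
        rw [hcomm.mul_pow]
        have h3 : u ^ q = 1 := by
          have := pow_orderOf_eq_one u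
          rwa [huo] at this
        rw [h3, mul_one]
      rw [h2] at h1
      obtain ⟨a, ha⟩ := exists_pow_eq_self_of_coprime (x := x) (n := q)
        (by rw [hpk]; exact Nat.Coprime.pow_right k hpq.symm)
      apply hx
      rw [← ha]
      exact N.pow_mem h1 a
    · have h1 := h _ hxu
      rw [hord, hpk, huo] at h1
      obtain ⟨r, j, hr, hj, hrj⟩ := (isPrimePow_nat_iff _).mp h1
      have hpd : p ∣ r ^ j := by
        rw [hrj]; exact Dvd.dvd.mul_right (dvd_pow_self p hk) q
      have hqd : q ∣ r ^ j := by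
        rw [hrj]; exact Dvd.intro_left _ rfl
      have e1 : p = r := (Nat.prime_dvd_prime_iff_eq hp hr).mp (hp.dvd_of_dvd_pow hpd)
      have e2 : q = r := (Nat.prime_dvd_prime_iff_eq hq hr).mp (hq.dvd_of_dvd_pow hqd)
      exact hne (e2.trans e1.symm)
  intro ⟨m, hm⟩
  have hm1 := Nat.eq_prime_pow_of_unique_prime_dvd (orderOf_pos m).ne'
    (fun {d} hd hdvd => key m hm d hd hdvd)
  refine ⟨(orderOf m).primeFactorsList.length, ?_⟩
  apply Subtype.ext
  show m ^ _ = 1
  rw [← hm1]; exact pow_orderOf_eq_one m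

theorem main {G : Type u} [Group G] [Finite G] (N : Subgroup G) [N.Normal] (hN : N ≠ ⊤)
    (h : ∀ x : G, x ∉ N → IsPrimePow (orderOf x) ∧
      IsCoatom (Subgroup.centralizer ({x} : Set G))) :
    Group.IsSolvable G ∨ ∃ S : Subgroup G, Group.IsSolvable S ∧ N ≤ S := by
  classical
  have hA : ∀ x : G, x ∉ N → ∃ p : ℕ, p.Prime ∧
      IsPGroup p (Subgroup.centralizer ({x} : Set G)) := by
    intro x hx
    obtain ⟨p, k, hp, hk, hpk⟩ := (isPrimePow_nat_iff _).mp (h x hx).1
    exact ⟨p, hp, cent_pgroup N (fun y hy => (h y hy).1) x hx p k hp hpk.symm⟩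
  by_cases hodd : ∃ x : G, x ∉ N ∧ ∃ p : ℕ, p.Prime ∧ p ≠ 2 ∧
      IsPGroup p (Subgroup.centralizer ({x} : Set G))
  · left
    obtain ⟨x, hx, p, hp, hp2, hpg⟩ := hodd
    haveI : Fact p.Prime := ⟨hp⟩
    apply Cfsg.Agent.S4040.result (Subgroup.centralizer ({x} : Set G)) (h x hx).2
      hpg.isNilpotent
    obtain ⟨j, hj⟩ := IsPGroup.iff_card.mp hpg
    rw [hj]
    exact (hp.odd_of_ne_two hp2).pow
  have h2 : ∀ x : G, x ∉ N → IsPGroup 2 (Subgroup.centralizer ({x} : Set G)) := by
    intro x hx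
    obtain ⟨p, hp, hpg⟩ := hA x hx
    by_cases hp2 : p = 2
    · rw [← hp2]; exact hpg
    · exact absurd ⟨x, hx, p, hp, hp2, hpg⟩ hodd
  haveI : Fact (Nat.Prime 2) := ⟨Nat.prime_two⟩
  obtain ⟨x, hx⟩ : ∃ x : G, x ∉ N := by
    by_contra hc
    push Not at hc
    exact hN ((Subgroup.eq_top_iff' N).mpr hc)
  obtain ⟨S, hSdef⟩ : ∃ S : Subgroup G, S = Subgroup.centralizer ({x} : Set G) := ⟨_, rfl⟩
  have hSmax : IsCoatom S := hSdef ▸ (h x hx).2
  have hS2 : IsPGroup 2 S := hSdef ▸ h2 x hx
  have hxS : x ∈ S := by rw [hSdef]; exact Subgroup.mem_centralizer_singleton_iff.mpr rfl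
  have hxc : ∀ s ∈ S, s * x = x * s := by
    intro s hs; rw [hSdef] at hs; exact Subgroup.mem_centralizer_singleton_iff.mp hs
  haveI hSnil : Group.IsNilpotent S := hS2.isNilpotent
  have hSsolv : Group.IsSolvable S := inferInstance
  by_cases hSn : S.Normal
  · left
    obtain ⟨g, hg⟩ : ∃ g : G, g ∉ S := by
      by_contra hc
      push Not at hc
      exact hSmax.1 ((Subgroup.eq_top_iff' S).mpr hc)
    haveI := hSn
    apply Cfsg.Agent.S4040.solv_of_normal_cyclic S g
    apply hSmax.2
    apply lt_of_le_of_ne le_sup_left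
    intro heq
    apply hg
    rw [heq]
    exact Subgroup.mem_sup_right (Subgroup.mem_zpowers g)
  have hNS : Subgroup.normalizer (S : Set G) = S := by
    rcases hSmax.le_iff.mp (Subgroup.le_normalizer (H := S)) with h1 | h1
    · exact absurd (Subgroup.normalizer_eq_top_iff.mp h1) hSn
    · exact h1
  obtain ⟨P, hP⟩ := hS2.exists_le_sylow
  by_cases hPtop : (P : Subgroup G) = ⊤
  · left
    have hG2 : IsPGroup 2 G := by
      intro g
      obtain ⟨k, hk⟩ := P.isPGroup' ⟨g, by rw [hPtop]; exact Subgroup.mem_top g⟩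
      exact ⟨k, congrArg Subtype.val hk⟩
    haveI := hG2.isNilpotent
    infer_instance
  have hPS : (P : Subgroup G) = S := by
    rcases hSmax.le_iff.mp hP with h1 | h1
    · exact absurd h1 hPtop
    · exact h1
  by_cases hNleS : N ≤ S
  · exact Or.inr ⟨S, hSsolv, hNleS⟩
  left
  have hSN : S ⊔ N = ⊤ := by
    apply hSmax.2
    apply lt_of_le_of_ne le_sup_left
    intro heq
    apply hNleS
    rw [heq]; exact le_sup_right
  have hconj : ∀ y : G, y ∉ N → ∃ g : G, ∀ z : G,
      z ∈ Subgroup.centralizer ({y} : Set G) ↔ g⁻¹ * z * g ∈ S := by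
    intro y hy
    obtain ⟨Q, hQ⟩ := (h2 y hy).exists_le_sylow
    obtain ⟨g, hg⟩ := MulAction.exists_smul_eq G P Q
    have hQtop : (Q : Subgroup G) ≠ ⊤ := by
      intro hQtop
      apply hPtop
      rw [eq_top_iff]
      intro z _
      have hz : g * z * g⁻¹ ∈ (Q : Subgroup G) := by rw [hQtop]; exact Subgroup.mem_top _
      rw [← hg, Cfsg.Agent.Lib_helper1_Basic.mem_sylow_smul] at hz
      have e : g⁻¹ * (g * z * g⁻¹) * g = z := by group
      rwa [e] at hz
    have hQC : (Q : Subgroup G) = Subgroup.centralizer ({y} : Set G) := by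
      rcases (h y hy).2.le_iff.mp hQ with h1 | h1
      · exact absurd h1 hQtop
      · exact h1
    refine ⟨g, fun z => ?_⟩
    rw [← hQC, ← hPS, ← hg]
    exact Cfsg.Agent.Lib_helper1_Basic.mem_sylow_smul P g z
  obtain ⟨Zs, hZs⟩ : ∃ Zs : Set S, Zs = {s : S | (s : G) ∉ N ∧ ∀ t : S, t * s = s * t} :=
    ⟨_, rfl⟩
  obtain ⟨Ws, hWs⟩ : ∃ Ws : Set S, Ws = {s : S | s ∉ N.subgroupOf S} := ⟨_, rfl⟩
  have hZW : Zs ⊆ Ws := by
    intro s hs
    rw [hZs] at hs
    rw [hWs]
    exact fun hc => hs.1 (Subgroup.mem_subgroupOf.mp hc)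
  have key : ∀ y : {y : G // y ∉ N}, ∃ pr : (G ⧸ S) × Zs,
      (y : G) = pr.1.out * ((pr.2 : S) : G) * pr.1.out⁻¹ := by
    rintro ⟨y, hy⟩
    obtain ⟨g, hg⟩ := hconj y hy
    have hyS : g⁻¹ * y * g ∈ S := (hg y).mp (Subgroup.mem_centralizer_singleton_iff.mpr rfl)
    have hcen : ∀ t : G, t ∈ S → t * (g⁻¹ * y * g) = (g⁻¹ * y * g) * t := by
      intro t ht
      have h1 : g * t * g⁻¹ ∈ Subgroup.centralizer ({y} : Set G) := by
        rw [hg]
        have e : g⁻¹ * (g * t * g⁻¹) * g = t := by group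
        rw [e]; exact ht
      have h2' := Subgroup.mem_centralizer_singleton_iff.mp h1
      calc t * (g⁻¹ * y * g) = g⁻¹ * (g * t * g⁻¹ * y) * g := by group
        _ = g⁻¹ * (y * (g * t * g⁻¹)) * g := by rw [h2']
        _ = (g⁻¹ * y * g) * t := by group
    obtain ⟨s, hs⟩ := QuotientGroup.mk_out_eq_mul S g
    have hzN : g⁻¹ * y * g ∉ N := by
      intro hc
      apply hy
      have h3 := (inferInstance : N.Normal).conj_mem _ hc g
      have e : g * (g⁻¹ * y * g) * g⁻¹ = y := by group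
      rwa [e] at h3
    have hzmem : (⟨g⁻¹ * y * g, hyS⟩ : S) ∈ Zs := by
      rw [hZs]
      refine ⟨hzN, fun t => ?_⟩
      apply Subtype.ext
      exact hcen t t.2
    refine ⟨((g : G ⧸ S), ⟨⟨g⁻¹ * y * g, hyS⟩, hzmem⟩), ?_⟩
    show y = (QuotientGroup.mk g : G ⧸ S).out * (g⁻¹ * y * g) *
      (QuotientGroup.mk g : G ⧸ S).out⁻¹
    rw [hs]
    have h3 := hcen (s : G) s.2
    calc y = g * ((g⁻¹ * y * g) * (s : G)) * (s : G)⁻¹ * g⁻¹ := by group
      _ = g * ((s : G) * (g⁻¹ * y * g)) * (s : G)⁻¹ * g⁻¹ := by rw [h3]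
      _ = g * (s : G) * (g⁻¹ * y * g) * (g * (s : G))⁻¹ := by group
  choose f hf using key
  have hinj : Function.Injective f := by
    intro y y' hyy
    apply Subtype.ext
    rw [hf y, hf y', hyy]
  have hle : Nat.card {y : G // y ∉ N} ≤ S.index * Nat.card Zs := by
    have h3 := Nat.card_le_card_of_injective f hinj
    rw [Nat.card_prod] at h3
    exact h3
  have c1 : Nat.card N * N.index = Nat.card G := N.card_mul_index
  have c2 : Nat.card (N.subgroupOf S) * N.index = Nat.card S := by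
    have e : (N.subgroupOf S).index = N.index := by
      have h3 := Subgroup.relIndex_sup_right (H := S) (K := N)
      rw [hSN, Subgroup.relIndex_top_right] at h3
      exact h3.symm
    rw [← e]; exact (N.subgroupOf S).card_mul_index
  have c3 : Nat.card S * S.index = Nat.card G := S.card_mul_index
  have c4 : Nat.card N + Nat.card {y : G // y ∉ N} = Nat.card G := by
    rw [← Nat.card_sum]
    exact Nat.card_congr (Equiv.sumCompl (fun y : G => y ∈ N))
  have c5 : Nat.card (N.subgroupOf S) + Nat.card Ws = Nat.card S := by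
    rw [← Nat.card_sum, hWs]
    exact Nat.card_congr (Equiv.sumCompl (fun s : S => s ∈ N.subgroupOf S))
  have hdpos : 0 < N.index := Nat.pos_of_ne_zero Subgroup.index_ne_zero_of_finite
  have hnpos : 0 < S.index := Nat.pos_of_ne_zero Subgroup.index_ne_zero_of_finite
  have c7 : Nat.card N = Nat.card (N.subgroupOf S) * S.index := by
    apply Nat.eq_of_mul_eq_mul_right hdpos
    rw [c1, ← c3, ← c2]; ring
  have c8 : Nat.card {y : G // y ∉ N} = Nat.card Ws * S.index := by
    have e : Nat.card N + Nat.card {y : G // y ∉ N} =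
        Nat.card N + Nat.card Ws * S.index := by
      rw [c4, c7, ← c3, ← c5]; ring
    exact Nat.add_left_cancel e
  have c9 : Nat.card Ws ≤ Nat.card Zs := by
    apply Nat.le_of_mul_le_mul_right _ hnpos
    rw [← c8, mul_comm]; exact hle
  have hZeq : Zs = Ws := by
    apply Set.eq_of_subset_of_ncard_le hZW _ (Set.toFinite _)
    rw [← Nat.card_coe_set_eq, ← Nat.card_coe_set_eq]; exact c9
  have hcentral : ∀ s : G, s ∈ S → s ∉ N → ∀ t : G, t ∈ S → t * s = s * t := by
    intro s hs hsN t ht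
    have hmem : (⟨s, hs⟩ : S) ∈ Ws := by
      rw [hWs]; exact fun hc => hsN (Subgroup.mem_subgroupOf.mp hc)
    rw [← hZeq, hZs] at hmem
    exact congrArg Subtype.val (hmem.2 ⟨t, ht⟩)
  have hab : ∀ s : G, s ∈ S → ∀ t : G, t ∈ S → t * s = s * t := by
    intro s hs t ht
    by_cases hsN : s ∈ N
    · have hsx : s * x ∉ N := by
        intro hc
        apply hx
        have h3 := N.mul_mem (N.inv_mem hsN) hc
        rwa [inv_mul_cancel_left] at h3
      have h1 := hcentral (s * x) (S.mul_mem hs hxS) hsx t ht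
      have h2' := hxc t ht
      have h3 : t * s * x = s * t * x := by
        calc t * s * x = t * (s * x) := mul_assoc _ _ _
          _ = s * x * t := h1
          _ = s * (x * t) := mul_assoc _ _ _
          _ = s * (t * x) := by rw [h2']
          _ = s * t * x := (mul_assoc _ _ _).symm
      exact mul_right_cancel h3
    · exact hcentral s hs hsN t ht
  have hNC : Subgroup.normalizer (P : Set G) ≤ Subgroup.centralizer (P : Set G) := by
    intro s hs
    have hs1 : s ∈ Subgroup.normalizer (S : Set G) := by rw [← hPS]; exact hs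
    rw [hNS] at hs1
    rw [Subgroup.mem_centralizer_iff]
    intro t ht
    have ht1 : t ∈ S := by rw [← hPS]; exact ht
    exact hab s hs1 t ht1
  have hcompl := MonoidHom.ker_transferSylow_isComplement' P hNC
  obtain ⟨K, hK⟩ : ∃ K : Subgroup G, K = (MonoidHom.transferSylow P hNC).ker := ⟨_, rfl⟩
  rw [← hK] at hcompl
  haveI hKn : K.Normal := hK ▸ MonoidHom.normal_ker _
  have hKcard : Nat.card K * Nat.card (P : Subgroup G) = Nat.card G := hcompl.card_mul_card
  have hK2 : ¬ 2 ∣ Nat.card K := hK ▸ MonoidHom.not_dvd_card_ker_transferSylow P hNC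
  have hcop : (Nat.card S).Coprime (Nat.card K) := by
    obtain ⟨k, hk⟩ := (IsPGroup.iff_card).mp hS2
    rw [hk]
    exact Nat.Coprime.pow_left k ((Nat.Prime.coprime_iff_not_dvd Nat.prime_two).mpr hK2)
  have hKS : K ⊓ S = ⊥ := (Subgroup.disjoint_of_coprime_natCard hcop.symm).eq_bot
  have hK1 : Nat.card K ≠ 1 := by
    intro hK1
    rw [hK1, one_mul, hPS] at hKcard
    exact hSmax.1 ((Subgroup.card_eq_iff_eq_top S).mp hKcard)
  obtain ⟨q, hq, hqd⟩ := Nat.exists_prime_and_dvd hK1
  haveI : Fact q.Prime := ⟨hq⟩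
  obtain ⟨R, hR⟩ := Cfsg.Agent.Lib_helper1_Coprime.exists_invariant_sylow S K
    (by rw [Subgroup.normalizer_eq_top]; exact le_top) hcop (Or.inl hSsolv) q
  obtain ⟨Q, hQdef⟩ : ∃ Q : Subgroup G, Q = (R : Subgroup K).map K.subtype := ⟨_, rfl⟩
  rw [← hQdef] at hR
  have hQK : Q ≤ K := by rw [hQdef]; exact Subgroup.map_subtype_le _
  have hQne : Q ≠ ⊥ := by
    rw [hQdef]
    intro h'
    rw [Subgroup.map_eq_bot_iff_of_injective _ K.subtype_injective] at h'
    exact R.ne_bot_of_dvd_card hqd h'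
  have hQs : Group.IsSolvable Q := by
    haveI : Group.IsNilpotent (R : Subgroup K) := R.isPGroup'.isNilpotent
    rw [hQdef]
    exact Cfsg.Agent.Lib_helper1_SZConj.isSolvable_map K.subtype (R : Subgroup K)
  have hS' := (Cfsg.Agent.Lib_helper2_PCons.sup_solvable_card Q S hR).1 hQs hSsolv
  have htop : Q ⊔ S = ⊤ := by
    apply hSmax.2
    apply lt_of_le_of_ne le_sup_right
    intro h'
    apply hQne
    rw [eq_bot_iff, ← hKS]
    exact le_inf hQK (by rw [h']; exact le_sup_left)
  haveI := hS'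
  exact Group.isSolvable_of_surjective (f := (Q ⊔ S).subtype) (by
    intro z
    exact ⟨⟨z, by rw [htop]; exact Subgroup.mem_top z⟩, rfl⟩)


/-- Let N be a proper normal subgroup of the finite group G such that every element x of G outside N has prime power order and has centralizer C_G(x) a maximal subgroup of G. Then N is solvable. -/
theorem result {G : Type*} [Group G] [Finite G] (N : Subgroup G) [N.Normal] (hN : N ≠ ⊤)
    (h : ∀ x : G, x ∉ N → IsPrimePow (orderOf x) ∧ IsCoatom (Subgroup.centralizer ({x} : Set G))) : Group.IsSolvable ↥N := by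
  rcases main N hN h with hG | ⟨S, hS, hNS⟩
  · haveI := hG
    infer_instance
  · haveI := hS
    exact Cfsg.Agent.Lib_helper1_SZConj.isSolvable_of_le hNS

end Cfsg.Agent.S3903
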