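import Cfsg.Statements.S4002
import Cfsg.Agent.S3857
import Cfsg.Agent.S4001
import Cfsg.Agent.Lib_helper1_Hall
import Cfsg.Agent.Lib_helper1_FrobSylow
import Cfsg.Agent.Lib_helper1_FpfCyclic
import Cfsg.Agent.Lib_helper2_PCons
import Cfsg.Agent.Lib_helper2_Cyc
import Cfsg.Agent.Lib_helper1_Basic

set_option autoImplicit false
open Cfsg

namespace Cfsg.Agent.S4002

open scoped Pointwise
universe u

theorem unique_order_p' {F V : Type*} [Group F] [Finite F] [Group V] [Finite V]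
    (hVc : ∀ a b : V, a * b = b * a) (ρ : F →* MulAut V) (hV : ∃ v : V, v ≠ 1)
    (hfpf : ∀ f : F, f ≠ 1 → ∀ v, ρ f v = v → v = 1) (p : ℕ) [hp : Fact p.Prime]
    (P : Subgroup F) (hP : IsPGroup p P)
    (X Y : Subgroup P) (hX : Nat.card X = p) (hY : Nat.card Y = p) : X = Y := by
  letI : CommGroup V := { ‹Group V› with mul_comm := hVc }
  exact Cfsg.Agent.Lib_helper1_FrobSylow.unique_order_p ρ hV hfpf p P hP X Y hX hY

theorem fpf_pq_cyclic' {F V : Type*} [Group F] [Finite F] [Group V] [Finite V]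
    (hVc : ∀ a b : V, a * b = b * a) (ρ : F →* MulAut V) (hV : ∃ v : V, v ≠ 1)
    (hfpf : ∀ f : F, f ≠ 1 → ∀ v, ρ f v = v → v = 1) (p q : ℕ) (hp : p.Prime) (hq : q.Prime)
    (hlt : p < q) (hcard : Nat.card F = p * q) : IsCyclic F := by
  letI : CommGroup V := { ‹Group V› with mul_comm := hVc }
  exact Cfsg.Agent.Lib_helper1_FpfCyclic.fpf_pq_cyclic ρ hV hfpf p q hp hq hlt hcard

theorem sub_pq {F V : Type*} [Group F] [Finite F] [Group V] [Finite V]
    (hVc : ∀ a b : V, a * b = b * a) (ρ : F →* MulAut V) (hV : ∃ v : V, v ≠ 1)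
    (hfpf : ∀ f : F, f ≠ 1 → ∀ v, ρ f v = v → v = 1) (t u : ℕ) (ht : t.Prime) (hu : u.Prime)
    (htu : t ≠ u) (T : Subgroup F) (hTn : T.Normal) (hT1 : T ≠ ⊥)
    (hTt : ∀ s : ℕ, s.Prime → s ∣ Nat.card T → s = t) (huF : u ∣ Nat.card F) :
    ∃ g : F, orderOf g = t * u := by
  haveI : Fact t.Prime := ⟨ht⟩
  haveI : Fact u.Prime := ⟨hu⟩
  have hTcard : Nat.card ↥T ≠ 1 := fun h => hT1 (Subgroup.card_eq_one.mp h)
  have hTP : IsPGroup t ↥T := by
    have h1 := Nat.eq_prime_pow_of_unique_prime_dvd (n := Nat.card ↥T) (p := t)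
      Nat.card_pos.ne' (fun {d} hd hdvd => hTt d hd hdvd)
    exact IsPGroup.of_card h1
  have htT : t ∣ Nat.card ↥T := by
    obtain ⟨s, hs, hsd⟩ := Nat.exists_prime_and_dvd hTcard
    rw [← hTt s hs hsd]
    exact hsd
  obtain ⟨x, hx⟩ := exists_prime_orderOf_dvd_card' (G := ↥T) t htT
  obtain ⟨y, hy⟩ := exists_prime_orderOf_dvd_card' (G := F) u huF
  have hxo : orderOf (x : F) = t := by rw [Subgroup.orderOf_coe]; exact hx
  have hconj : ∀ g : F, g * (x : F) * g⁻¹ ∈ Subgroup.zpowers (x : F) := by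
    intro g
    have hmem : g * (x : F) * g⁻¹ ∈ T := hTn.conj_mem _ x.2 g
    have ho : orderOf (⟨g * (x : F) * g⁻¹, hmem⟩ : ↥T) = t := by
      rw [Subgroup.orderOf_mk]
      have h1 := orderOf_injective (MulAut.conj g).toMonoidHom (MulAut.conj g).injective (x : F)
      rw [← hxo, ← h1]
      rfl
    have h1 := unique_order_p' hVc ρ hV hfpf t T hTP (Subgroup.zpowers x)
      (Subgroup.zpowers ⟨g * (x : F) * g⁻¹, hmem⟩)
      (by rw [Nat.card_zpowers]; exact hx) (by rw [Nat.card_zpowers]; exact ho)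
    have h2 : (⟨g * (x : F) * g⁻¹, hmem⟩ : ↥T) ∈ Subgroup.zpowers x := by
      rw [h1]; exact Subgroup.mem_zpowers _
    obtain ⟨k, hk⟩ := Subgroup.mem_zpowers_iff.mp h2
    rw [Subgroup.mem_zpowers_iff]
    refine ⟨k, ?_⟩
    have h3 := congrArg Subtype.val hk
    rw [Subgroup.coe_zpow] at h3
    exact h3
  have hnorm : Subgroup.zpowers y ≤ Subgroup.normalizer (Subgroup.zpowers (x : F) : Set F) := by
    rw [Subgroup.zpowers_le]
    apply Cfsg.Agent.Lib_helper1_Basic.mem_normalizer_of_conj_le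
    intro m hm
    obtain ⟨k, rfl⟩ := Subgroup.mem_zpowers_iff.mp hm
    have h1 : y * (x : F) ^ k * y⁻¹ = (y * (x : F) * y⁻¹) ^ k := by
      rw [conj_zpow]
    rw [h1]
    exact Subgroup.zpow_mem _ (hconj y) k
  obtain ⟨m, hm, hcard⟩ := (Cfsg.Agent.Lib_helper2_PCons.sup_solvable_card
    (Subgroup.zpowers (x : F)) (Subgroup.zpowers y) hnorm).2
  rw [Nat.card_zpowers, hy] at hm
  rw [Nat.card_zpowers, hxo] at hcard
  have hyW : y ∈ Subgroup.zpowers (x : F) ⊔ Subgroup.zpowers y :=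
    (le_sup_right : Subgroup.zpowers y ≤ _) (Subgroup.mem_zpowers y)
  have hxW : (x : F) ∈ Subgroup.zpowers (x : F) ⊔ Subgroup.zpowers y :=
    (le_sup_left : Subgroup.zpowers (x : F) ≤ _) (Subgroup.mem_zpowers _)
  have hm' : m = u := by
    rcases (Nat.dvd_prime hu).mp hm with h | h
    · exfalso
      rw [h, one_mul] at hcard
      have h1 := Subgroup.orderOf_dvd_natCard _ hyW
      rw [hy, hcard] at h1
      exact htu ((Nat.prime_dvd_prime_iff_eq hu ht).mp h1).symm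
    · exact h
  rw [hm'] at hcard
  have hfpfW : ∀ f : ↥(Subgroup.zpowers (x : F) ⊔ Subgroup.zpowers y), f ≠ 1 →
      ∀ v, (ρ.comp (Subgroup.zpowers (x : F) ⊔ Subgroup.zpowers y).subtype) f v = v → v = 1 :=
    fun f hf v hv => hfpf (f : F) (fun h => hf (Subtype.ext h)) v hv
  have hcyc : IsCyclic ↥(Subgroup.zpowers (x : F) ⊔ Subgroup.zpowers y) := by
    rcases lt_or_gt_of_ne htu with hlt | hlt
    · exact fpf_pq_cyclic' hVc _ hV hfpfW t u ht hu hlt (by rw [hcard, mul_comm])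
    · exact fpf_pq_cyclic' hVc _ hV hfpfW u t hu ht hlt hcard
  haveI := hcyc
  have hcomm := Cfsg.Agent.Lib_helper2_Cyc.cyclic_comm' _ hxW hyW
  exact Cfsg.Agent.S3857.mixed_of_comm (x : F) y hcomm t u ht hu htu (by rw [hxo]) (by rw [hy])

theorem core {G : Type u} [Group G] [Finite G] [Group.IsSolvable G] (N : Subgroup G)
    (hNn : N.Normal) (hNc : ∀ a ∈ N, ∀ b ∈ N, a * b = b * a) (hN1 : N ≠ ⊥) (r : ℕ)
    (hr : r.Prime) (hNr : ∀ s : ℕ, s.Prime → s ∣ Nat.card N → s = r) (p q : ℕ) (hp : p.Prime)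
    (hq : q.Prime) (hpq : p ≠ q) (hpr : p ≠ r) (hqr : q ≠ r) (hpG : p ∣ Nat.card G)
    (hqG : q ∣ Nat.card G) :
    ∃ g : G, orderOf g = p * q ∨ orderOf g = p * r ∨ orderOf g = q * r := by
  by_contra hno
  push Not at hno
  haveI := hNn
  have hG0 : Nat.card G ≠ 0 := Nat.card_pos.ne'
  obtain ⟨a, n₁, hpn₁, hcard1⟩ := Nat.exists_eq_pow_mul_and_not_dvd hG0 p hp.ne_one
  have hn₁0 : n₁ ≠ 0 := by
    rintro rfl
    rw [mul_zero] at hcard1
    exact hG0 hcard1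
  obtain ⟨b, n₂, hqn₂, hcard2⟩ := Nat.exists_eq_pow_mul_and_not_dvd hn₁0 q hq.ne_one
  have hpn₂ : ¬ p ∣ n₂ := fun h => hpn₁ (by rw [hcard2]; exact h.mul_left _)
  have hcardG : Nat.card G = (p ^ a * q ^ b) * n₂ := by rw [hcard1, hcard2, mul_assoc]
  have hcop : Nat.Coprime (p ^ a * q ^ b) n₂ := by
    apply Nat.Coprime.mul_left
    · exact Nat.Coprime.pow_left _ ((Nat.Prime.coprime_iff_not_dvd hp).mpr hpn₂)
    · exact Nat.Coprime.pow_left _ ((Nat.Prime.coprime_iff_not_dvd hq).mpr hqn₂)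
  obtain ⟨S, hS⟩ := Cfsg.Agent.Lib_helper1_Hall.hall_exists (p ^ a * q ^ b) n₂ hcardG hcop
  have ha : a ≠ 0 := by
    rintro rfl
    rw [pow_zero, one_mul] at hcard1
    exact hpn₁ (hcard1 ▸ hpG)
  have hb : b ≠ 0 := by
    rintro rfl
    rw [pow_zero, one_mul] at hcard2
    rw [hcard1, hcard2] at hqG
    rcases (Nat.Prime.dvd_mul hq).mp hqG with h | h
    · exact hpq ((Nat.prime_dvd_prime_iff_eq hq hp).mp (hq.dvd_of_dvd_pow h)).symm
    · exact hqn₂ h
  have hpS : p ∣ Nat.card ↥S := by rw [hS]; exact (dvd_pow_self p ha).mul_right _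
  have hqS : q ∣ Nat.card ↥S := by rw [hS]; exact (dvd_pow_self q hb).mul_left _
  have hSprime : ∀ s : ℕ, s.Prime → s ∣ Nat.card ↥S → s = p ∨ s = q := by
    intro s hs hdvd
    rw [hS] at hdvd
    rcases (Nat.Prime.dvd_mul hs).mp hdvd with h | h
    · exact Or.inl ((Nat.prime_dvd_prime_iff_eq hs hp).mp (hs.dvd_of_dvd_pow h))
    · exact Or.inr ((Nat.prime_dvd_prime_iff_eq hs hq).mp (hs.dvd_of_dvd_pow h))
  have hfpf : ∀ x ∈ S, x ≠ 1 → ∀ n ∈ N, x * n = n * x → n = 1 := by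
    intro x hx hx1 n hn hcomm
    by_contra hn1
    have hox : orderOf x ≠ 1 := fun h => hx1 (orderOf_eq_one_iff.mp h)
    have hon : orderOf n ≠ 1 := fun h => hn1 (orderOf_eq_one_iff.mp h)
    obtain ⟨t, ht, htx⟩ := Nat.exists_prime_and_dvd hox
    obtain ⟨s, hs, hsn⟩ := Nat.exists_prime_and_dvd hon
    have hsr : s = r := hNr s hs (hsn.trans (Subgroup.orderOf_dvd_natCard N hn))
    have htpq := hSprime t ht (htx.trans (Subgroup.orderOf_dvd_natCard S hx))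
    rw [hsr] at hsn
    rcases htpq with h | h
    · rw [h] at htx
      obtain ⟨g, hg⟩ := Cfsg.Agent.S3857.mixed_of_comm x n hcomm p r hp hr hpr htx hsn
      exact (hno g).2.1 hg
    · rw [h] at htx
      obtain ⟨g, hg⟩ := Cfsg.Agent.S3857.mixed_of_comm x n hcomm q r hq hr hqr htx hsn
      exact (hno g).2.2 hg
  obtain ⟨ρ, hρ⟩ : ∃ ρ : ↥S →* MulAut ↥N,
      ∀ (f : ↥S) (v : ↥N), ((ρ f v : ↥N) : G) = (f : G) * v * (f : G)⁻¹ :=
    ⟨(MulAut.conjNormal (H := N)).comp S.subtype, fun f v => MulAut.conjNormal_apply _ _⟩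
  have hVc : ∀ a b : ↥N, a * b = b * a := fun a b => Subtype.ext (hNc a a.2 b b.2)
  have hV : ∃ v : ↥N, v ≠ 1 := by
    obtain ⟨v, hv, hv1⟩ := Cfsg.Agent.S4001.exists_ne_one_of_card N
      (fun h => hN1 (Subgroup.card_eq_one.mp h))
    exact ⟨⟨v, hv⟩, fun h => hv1 (congrArg Subtype.val h)⟩
  have hfpf' : ∀ f : ↥S, f ≠ 1 → ∀ v : ↥N, ρ f v = v → v = 1 := by
    intro f hf v hv
    have h1 := hρ f v
    rw [hv] at h1
    have h2 : (f : G) * (v : G) = (v : G) * (f : G) := by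
      calc (f : G) * (v : G) = (f : G) * (v : G) * (f : G)⁻¹ * (f : G) := by group
        _ = (v : G) * (f : G) := by rw [← h1]
    exact Subtype.ext (hfpf (f : G) f.2 (fun h => hf (Subtype.ext h)) (v : G) v.2 h2)
  haveI : Nontrivial ↥S := by
    rw [← Finite.one_lt_card_iff_nontrivial]
    have h1 := Nat.le_of_dvd Nat.card_pos hpS
    have h2 := hp.one_lt
    omega
  obtain ⟨T, t, hTn, hT1, ht, hTt⟩ := Cfsg.Agent.S3857.exists_normal_pgroup (X := ↥S)
  have htpq : t = p ∨ t = q := by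
    have hTcard : Nat.card ↥T ≠ 1 := fun h => hT1 (Subgroup.card_eq_one.mp h)
    obtain ⟨s, hs, hsd⟩ := Nat.exists_prime_and_dvd hTcard
    have h1 := hTt s hs hsd
    rw [← h1]
    exact hSprime s hs (hsd.trans (Subgroup.card_subgroup_dvd_card T))
  rcases htpq with h | h
  · rw [h] at hTt
    obtain ⟨g, hg⟩ := sub_pq hVc ρ hV hfpf' p q hp hq hpq T hTn hT1 hTt hqS
    exact (hno (g : G)).1 (by rw [Subgroup.orderOf_coe]; exact hg)
  · rw [h] at hTt
    obtain ⟨g, hg⟩ := sub_pq hVc ρ hV hfpf' q p hq hp hpq.symm T hTn hT1 hTt hpS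
    exact (hno (g : G)).1 (by rw [Subgroup.orderOf_coe, hg, mul_comm])

theorem lucido {G : Type u} [Group G] [Finite G] [Group.IsSolvable G] (p q r : ℕ)
    (hp : p.Prime) (hq : q.Prime) (hr : r.Prime) (hpq : p ≠ q) (hpr : p ≠ r) (hqr : q ≠ r)
    (hpG : p ∣ Nat.card G) (hqG : q ∣ Nat.card G) (hrG : r ∣ Nat.card G) :
    ∃ g : G, orderOf g = p * q ∨ orderOf g = p * r ∨ orderOf g = q * r := by
  have hG0 : Nat.card G ≠ 0 := Nat.card_pos.ne'
  obtain ⟨a, n₁, hpn₁, hcard1⟩ := Nat.exists_eq_pow_mul_and_not_dvd hG0 p hp.ne_one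
  have hn₁0 : n₁ ≠ 0 := by
    rintro rfl
    rw [mul_zero] at hcard1
    exact hG0 hcard1
  obtain ⟨b, n₂, hqn₂, hcard2⟩ := Nat.exists_eq_pow_mul_and_not_dvd hn₁0 q hq.ne_one
  have hn₂0 : n₂ ≠ 0 := by
    rintro rfl
    rw [mul_zero] at hcard2
    exact hn₁0 hcard2
  obtain ⟨c, n₃, hrn₃, hcard3⟩ := Nat.exists_eq_pow_mul_and_not_dvd hn₂0 r hr.ne_one
  have hqn₃ : ¬ q ∣ n₃ := fun h => hqn₂ (by rw [hcard3]; exact h.mul_left _)
  have hpn₂ : ¬ p ∣ n₂ := fun h => hpn₁ (by rw [hcard2]; exact h.mul_left _)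
  have hpn₃ : ¬ p ∣ n₃ := fun h => hpn₂ (by rw [hcard3]; exact h.mul_left _)
  have hcardG : Nat.card G = (p ^ a * q ^ b * r ^ c) * n₃ := by
    rw [hcard1, hcard2, hcard3]; ring
  have hcop : Nat.Coprime (p ^ a * q ^ b * r ^ c) n₃ := by
    apply Nat.Coprime.mul_left
    · apply Nat.Coprime.mul_left
      · exact Nat.Coprime.pow_left _ ((Nat.Prime.coprime_iff_not_dvd hp).mpr hpn₃)
      · exact Nat.Coprime.pow_left _ ((Nat.Prime.coprime_iff_not_dvd hq).mpr hqn₃)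
    · exact Nat.Coprime.pow_left _ ((Nat.Prime.coprime_iff_not_dvd hr).mpr hrn₃)
  obtain ⟨H, hH⟩ := Cfsg.Agent.Lib_helper1_Hall.hall_exists (p ^ a * q ^ b * r ^ c) n₃ hcardG hcop
  have ha : a ≠ 0 := by
    rintro rfl
    rw [pow_zero, one_mul] at hcard1
    exact hpn₁ (hcard1 ▸ hpG)
  have hb : b ≠ 0 := by
    rintro rfl
    rw [pow_zero, one_mul] at hcard2
    rw [hcard1, hcard2] at hqG
    rcases (Nat.Prime.dvd_mul hq).mp hqG with h | h
    · exact hpq ((Nat.prime_dvd_prime_iff_eq hq hp).mp (hq.dvd_of_dvd_pow h)).symm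
    · exact hqn₂ h
  have hc : c ≠ 0 := by
    rintro rfl
    rw [pow_zero, one_mul] at hcard3
    rw [hcard1, hcard2, hcard3] at hrG
    rcases (Nat.Prime.dvd_mul hr).mp hrG with h | h
    · exact hpr ((Nat.prime_dvd_prime_iff_eq hr hp).mp (hr.dvd_of_dvd_pow h)).symm
    · rcases (Nat.Prime.dvd_mul hr).mp h with h | h
      · exact hqr ((Nat.prime_dvd_prime_iff_eq hr hq).mp (hr.dvd_of_dvd_pow h)).symm
      · exact hrn₃ h
  have hpH : p ∣ Nat.card ↥H := by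
    rw [hH]; exact ((dvd_pow_self p ha).mul_right _).mul_right _
  have hqH : q ∣ Nat.card ↥H := by
    rw [hH]; exact ((dvd_pow_self q hb).mul_left _).mul_right _
  have hrH : r ∣ Nat.card ↥H := by
    rw [hH]; exact (dvd_pow_self r hc).mul_left _
  haveI : Nontrivial ↥H := by
    rw [← Finite.one_lt_card_iff_nontrivial]
    have h1 := Nat.le_of_dvd Nat.card_pos hpH
    have h2 := hp.one_lt
    omega
  obtain ⟨N, hNn, hN1, hNc, -, s, k, hs, hk, hNcard⟩ :=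
    Cfsg.Agent.Lib_helper1_Hall.exists_minimal_normal (G := ↥H)
  have hNs : ∀ s' : ℕ, s'.Prime → s' ∣ Nat.card ↥N → s' = s := by
    intro s' hs' hdvd
    rw [hNcard] at hdvd
    exact (Nat.prime_dvd_prime_iff_eq hs' hs).mp (hs'.dvd_of_dvd_pow hdvd)
  have hNc' : ∀ a ∈ N, ∀ b ∈ N, a * b = b * a := by
    intro a ha b hb
    exact congrArg Subtype.val (hNc.is_comm.comm (⟨a, ha⟩ : ↥N) ⟨b, hb⟩)
  have hsH : s ∣ Nat.card ↥H := by
    have h1 : s ∣ Nat.card ↥N := by rw [hNcard]; exact dvd_pow_self s hk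
    exact h1.trans (Subgroup.card_subgroup_dvd_card N)
  have hs3 : s = p ∨ s = q ∨ s = r := by
    rw [hH] at hsH
    rcases (Nat.Prime.dvd_mul hs).mp hsH with h | h
    · rcases (Nat.Prime.dvd_mul hs).mp h with h | h
      · exact Or.inl ((Nat.prime_dvd_prime_iff_eq hs hp).mp (hs.dvd_of_dvd_pow h))
      · exact Or.inr (Or.inl ((Nat.prime_dvd_prime_iff_eq hs hq).mp (hs.dvd_of_dvd_pow h)))
    · exact Or.inr (Or.inr ((Nat.prime_dvd_prime_iff_eq hs hr).mp (hs.dvd_of_dvd_pow h)))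
  rcases hs3 with h | h | h
  · rw [h] at hNs
    obtain ⟨g, hg⟩ := core N hNn hNc' hN1 p hp hNs q r hq hr hqr hpq.symm hpr.symm hqH hrH
    refine ⟨(g : G), ?_⟩
    rw [Subgroup.orderOf_coe]
    rcases hg with hg | hg | hg
    · exact Or.inr (Or.inr hg)
    · exact Or.inl (by rw [hg, mul_comm])
    · exact Or.inr (Or.inl (by rw [hg, mul_comm]))
  · rw [h] at hNs
    obtain ⟨g, hg⟩ := core N hNn hNc' hN1 q hq hNs p r hp hr hpr hpq hqr.symm hpH hrH
    refine ⟨(g : G), ?_⟩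
    rw [Subgroup.orderOf_coe]
    rcases hg with hg | hg | hg
    · exact Or.inr (Or.inl hg)
    · exact Or.inl hg
    · exact Or.inr (Or.inr (by rw [hg, mul_comm]))
  · rw [h] at hNs
    obtain ⟨g, hg⟩ := core N hNn hNc' hN1 r hr hNs p q hp hq hpq hpr hqr hpH hqH
    exact ⟨(g : G), by rw [Subgroup.orderOf_coe]; exact hg⟩

theorem three_primes (n : ℕ) (hn : 7 ≤ n) : ∃ p q r : ℕ, p.Prime ∧ q.Prime ∧ r.Prime ∧
    p ≠ q ∧ p ≠ r ∧ q ≠ r ∧ p ≤ n ∧ q ≤ n ∧ r ≤ n ∧ n < p * q ∧ n < p * r ∧ n < q * r := by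
  by_cases h1 : n < 15
  · exact ⟨3, 5, 7, by norm_num, by norm_num, by norm_num, by norm_num, by norm_num,
      by norm_num, by omega, by omega, by omega, by omega, by omega, by omega⟩
  by_cases h2 : n < 35
  · exact ⟨5, 7, 11, by norm_num, by norm_num, by norm_num, by norm_num, by norm_num,
      by norm_num, by omega, by omega, by omega, by omega, by omega, by omega⟩
  obtain ⟨r, hr, hr1, hr2⟩ := Nat.exists_prime_lt_and_le_two_mul (n / 2) (by omega)
  obtain ⟨q, hq, hq1, hq2⟩ := Nat.exists_prime_lt_and_le_two_mul (n / 4) (by omega)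
  obtain ⟨p, hp, hp1, hp2⟩ := Nat.exists_prime_lt_and_le_two_mul (n / 8) (by omega)
  have hpq : p < q := by omega
  have hqr : q < r := by omega
  have h8 : n < 8 * p := by omega
  have h4 : n < 4 * q := by omega
  have hnn : n * n < (8 * p) * (4 * q) := Nat.mul_lt_mul'' h8 h4
  have hpqn : n < p * q := by nlinarith
  refine ⟨p, q, r, hp, hq, hr, hpq.ne, (hpq.trans hqr).ne, hqr.ne, by omega, by omega,
    by omega, hpqn, ?_, ?_⟩
  · nlinarith
  · nlinarith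


/-- If the set of element orders of a finite group G is {1, 2, …, n} with n ≥ 7, then G is not solvable. -/
theorem result {G : Type*} [Group G] [Finite G] (n : ℕ) (hn : 7 ≤ n) (h : Set.range (orderOf : G → ℕ) = {k : ℕ | 1 ≤ k ∧ k ≤ n}) : ¬ Group.IsSolvable G := by
  intro hsol
  haveI := hsol
  obtain ⟨p, q, r, hp, hq, hr, hpq, hpr, hqr, hpn, hqn, hrn, h1, h2, h3⟩ := three_primes n hn
  have hex : ∀ k, 1 ≤ k → k ≤ n → ∃ g : G, orderOf g = k := by
    intro k hk1 hkn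
    have h4 : k ∈ Set.range (orderOf : G → ℕ) := by rw [h]; exact ⟨hk1, hkn⟩
    exact h4
  have hle : ∀ g : G, orderOf g ≤ n := by
    intro g
    have h4 : orderOf g ∈ Set.range (orderOf : G → ℕ) := ⟨g, rfl⟩
    rw [h] at h4
    exact h4.2
  have hdiv : ∀ k : ℕ, k.Prime → k ≤ n → k ∣ Nat.card G := by
    intro k hk hkn
    obtain ⟨g, hg⟩ := hex k hk.one_lt.le hkn
    rw [← hg]
    exact orderOf_dvd_natCard g
  obtain ⟨g, hg⟩ := lucido (G := G) p q r hp hq hr hpq hpr hqr (hdiv p hp hpn) (hdiv q hq hqn)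
    (hdiv r hr hrn)
  have h5 := hle g
  rcases hg with hg | hg | hg <;> omega

end Cfsg.Agent.S4002
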