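import Cfsg.Statements.S4024
import Cfsg.Agent.S4023
import Cfsg.Agent.Lib_helper2_QCore
import Cfsg.Agent.Lib_helper5_PSolv

set_option autoImplicit false
open Cfsg

namespace Cfsg.Agent.S4024

open Cfsg

/-- a `p`-solvable finite group of order divisible by `p` has `p ∣ |O_{p',p}|`. -/
theorem dvd_card_pPrimePCore {X : Type*} [Group X] [Finite X] {p : ℕ} [Fact p.Prime]
    (hs : IsPSolvable p X) (hdiv : p ∣ Nat.card X) :
    p ∣ Nat.card (pPrimePCore p X) := by
  have hp := (Fact.out : p.Prime)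
  by_contra hnd
  have hDM := Cfsg.Agent.Lib_helper7_PPrimeP.pPrimeCore_le_pPrimePCore (G := X) p
  obtain ⟨k, hk⟩ := Cfsg.Agent.Lib_helper7_PPrimeP.relIndex_pPrimeCore (G := X) p
  have hk0 : k = 0 := by
    by_contra hk0
    apply hnd
    have h1 : (pPrimeCore p X).relIndex (pPrimePCore p X) ∣ Nat.card (pPrimePCore p X) :=
      Subgroup.relIndex_dvd_card _ _
    rw [hk] at h1
    exact (dvd_pow_self p hk0).trans h1
  rw [hk0, pow_zero, Subgroup.relIndex_eq_one] at hk
  have hMD : pPrimePCore p X = pPrimeCore p X := le_antisymm hk hDM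
  have hcore : pCore p (X ⧸ pPrimeCore p X) = ⊥ := by
    have h1 : (pCore p (X ⧸ pPrimeCore p X)).comap (QuotientGroup.mk' (pPrimeCore p X)) =
        pPrimeCore p X := hMD
    rw [eq_bot_iff]
    intro y hy
    obtain ⟨x, rfl⟩ := QuotientGroup.mk'_surjective (pPrimeCore p X) y
    have h2 : x ∈ (pCore p (X ⧸ pPrimeCore p X)).comap (QuotientGroup.mk' (pPrimeCore p X)) := hy
    rw [h1] at h2
    rw [Subgroup.mem_bot]
    exact (QuotientGroup.eq_one_iff x).mpr h2
  have hQs : IsPSolvable p (X ⧸ pPrimeCore p X) :=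
    Cfsg.Agent.Lib_helper5_PSolv.isPSolvable_of_surjective _ (QuotientGroup.mk'_surjective _) hs
  haveI : Nontrivial (X ⧸ pPrimeCore p X) := by
    by_contra hnt
    rw [not_nontrivial_iff_subsingleton] at hnt
    have h1 : pPrimeCore p X = ⊤ := by
      rw [eq_top_iff]
      intro x _
      have : (QuotientGroup.mk' (pPrimeCore p X)) x = 1 := Subsingleton.elim _ _
      exact (QuotientGroup.eq_one_iff x).mp this
    have h2 := Cfsg.Agent.Lib_helper7_PPrime.card_pPrimeCore_coprime (G := X) p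
    rw [h1, Subgroup.card_top] at h2
    exact (Nat.Prime.coprime_iff_not_dvd hp).mp h2.symm hdiv
  obtain ⟨N, hNn, hN0, hN⟩ := Cfsg.Agent.Lib_helper5_PSolv.exists_normal_of_isPSolvable hQs
  rcases hN with ⟨b, hb⟩ | hc
  · have h1 : N ≤ pCore p _ := Cfsg.Agent.Lib_helper6_PCore.le_pCore hNn (IsPGroup.of_card hb)
    rw [hcore] at h1
    exact hN0 (le_bot_iff.mp h1)
  · have h1 : N ≤ pPrimeCore p _ := le_sSup ⟨hNn, hc⟩
    rw [Cfsg.Agent.Lib_helper2_PComp.pPrimeCore_quotient_bot p] at h1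
    exact hN0 (le_bot_iff.mp h1)

theorem conj_comm_aux {G : Type*} [Group G] (n z w : G)
    (h : z * (n⁻¹ * w * n) = (n⁻¹ * w * n) * z) : (n * z * n⁻¹) * w = w * (n * z * n⁻¹) := by
  calc (n * z * n⁻¹) * w = n * (z * (n⁻¹ * w * n)) * n⁻¹ := by group
    _ = n * ((n⁻¹ * w * n) * z) * n⁻¹ := by rw [h]
    _ = w * (n * z * n⁻¹) := by group



/-- Let p be an odd prime and G a finite group in which any two p-subgroups of the same order are conjugate, with Sylow p-subgroup P. If H is a normal p-solvable subgroup of G whose order is divisible by p, then P is abelian, and either P ≤ H or P is cyclic. -/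
theorem result {G : Type*} [Group G] [Finite G]
    {p : ℕ} [Fact p.Prime] (hp : p ≠ 2) (hC : ∀ H K : Subgroup G, IsPGroup p H → IsPGroup p K → Nat.card H = Nat.card K →
      ∃ g : G, K = H.map (MulAut.conj g).toMonoidHom) (P : Sylow p G)
    (H : Subgroup G) [H.Normal] (hsolv : Cfsg.IsPSolvable p H) (hdiv : p ∣ Nat.card H) :
    IsMulCommutative P ∧ ((P : Subgroup G) ≤ H ∨ IsCyclic P) := by
  have hp' := (Fact.out : p.Prime)
  have hP := P.isPGroup'
  by_cases hcyc : IsCyclic ↥(P : Subgroup G)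
  · exact ⟨hcyc.isMulCommutative, Or.inr hcyc⟩
  have hrk : ¬ Cfsg.PRankLE p 1 ↥(P : Subgroup G) := fun h =>
    hcyc (Cfsg.Agent.Lib_helper7_OddCyclic.isCyclic_of_pRankLE_one p hp hP h)
  have hexp := Cfsg.Agent.S4023.key hC P hrk
  obtain ⟨D, hD⟩ : ∃ D : Subgroup G, D = (pPrimeCore p ↥H).map H.subtype := ⟨_, rfl⟩
  obtain ⟨M, hM⟩ : ∃ M : Subgroup G, M = (pPrimePCore p ↥H).map H.subtype := ⟨_, rfl⟩
  haveI hDn : D.Normal := by
    rw [hD]
    haveI := Cfsg.Agent.Lib_helper2_PComp.pPrimeCore_characteristic (G := ↥H) p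
    infer_instance
  haveI hMn : M.Normal := by
    rw [hM]
    haveI := Cfsg.Agent.Lib_helper2_QCore.pPrimePCore_characteristic (X := ↥H) p
    infer_instance
  have hMH : M ≤ H := by
    rw [hM]
    exact Subgroup.map_subtype_le _
  have hDc : (Nat.card D).Coprime p := by
    rw [hD, Subgroup.card_map_of_injective (Subgroup.subtype_injective _)]
    exact Cfsg.Agent.Lib_helper7_PPrime.card_pPrimeCore_coprime p
  have hMdvd : p ∣ Nat.card M := by
    rw [hM, Subgroup.card_map_of_injective (Subgroup.subtype_injective _)]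
    exact dvd_card_pPrimePCore hsolv hdiv
  obtain ⟨y, hy⟩ := exists_prime_orderOf_dvd_card' p hMdvd
  have hPM : (P : Subgroup G) ≤ M := by
    intro x hx
    by_cases hx1 : x = 1
    · rw [hx1]; exact one_mem _
    have hox : orderOf x = p := orderOf_eq_prime (hexp x hx) hx1
    obtain ⟨g, hg⟩ := hC (Subgroup.zpowers (y : G)) (Subgroup.zpowers x)
      (IsPGroup.of_card (n := 1) (by rw [Nat.card_zpowers, Subgroup.orderOf_coe, hy, pow_one]))
      (IsPGroup.of_card (n := 1) (by rw [Nat.card_zpowers, hox, pow_one]))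
      (by rw [Nat.card_zpowers, Nat.card_zpowers, Subgroup.orderOf_coe, hy, hox])
    have hxm : x ∈ (Subgroup.zpowers (y : G)).map (MulAut.conj g).toMonoidHom := by
      rw [← hg]; exact Subgroup.mem_zpowers x
    obtain ⟨w, hw, rfl⟩ := hxm
    have hwM : w ∈ M := (Subgroup.zpowers_le.mpr y.2) hw
    exact hMn.conj_mem w hwM g
  refine ⟨?_, Or.inl (hPM.trans hMH)⟩
  have hfr : Subgroup.normalizer ((P : Subgroup G) : Set G) ⊔ M = ⊤ :=
    Sylow.normalizer_sup_eq_top' P hPM
  have hMsup : M ≤ (P : Subgroup G) ⊔ D := by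
    apply Cfsg.Agent.Lib_helper7_PPrimeP.le_sup_of_relIndex (p := p) M (P : Subgroup G) D
    · intro h
      exact P.not_dvd_index (h.trans (Subgroup.relIndex_dvd_index_of_le hPM))
    · obtain ⟨k, hk⟩ := Cfsg.Agent.Lib_helper7_PPrimeP.relIndex_pPrimeCore (G := ↥H) p
      exact ⟨k, by rw [hD, hM, Subgroup.relIndex_map_map_of_injective _ _
        (Subgroup.subtype_injective _), hk]⟩
  have htop : D ⊔ Subgroup.normalizer ((P : Subgroup G) : Set G) = ⊤ := by
    rw [eq_top_iff, ← hfr]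
    apply sup_le
    · exact le_sup_right
    · exact hMsup.trans (sup_le (Subgroup.le_normalizer.trans le_sup_right) le_sup_left)
  have hcent : ∀ x ∈ (P : Subgroup G), ∀ w ∈ (P : Subgroup G), x * w = w * x := by
    haveI : Nontrivial ↥(P : Subgroup G) := by
      by_contra hnt
      rw [not_nontrivial_iff_subsingleton] at hnt
      exact hcyc inferInstance
    haveI hcn := hP.center_nontrivial
    obtain ⟨z, hz1⟩ := exists_ne (1 : Subgroup.center ↥(P : Subgroup G))
    have hzG1 : ((z : ↥(P : Subgroup G)) : G) ≠ 1 := by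
      intro h
      apply hz1
      apply Subtype.ext
      apply Subtype.ext
      exact h
    have hoz : orderOf ((z : ↥(P : Subgroup G)) : G) = p :=
      orderOf_eq_prime (hexp _ (z : ↥(P : Subgroup G)).2) hzG1
    intro x hx w hw
    by_cases hx1 : x = 1
    · rw [hx1, one_mul, mul_one]
    have hox : orderOf x = p := orderOf_eq_prime (hexp x hx) hx1
    obtain ⟨g, hg⟩ := hC (Subgroup.zpowers ((z : ↥(P : Subgroup G)) : G)) (Subgroup.zpowers x)
      (IsPGroup.of_card (n := 1) (by rw [Nat.card_zpowers, hoz, pow_one]))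
      (IsPGroup.of_card (n := 1) (by rw [Nat.card_zpowers, hox, pow_one]))
      (by rw [Nat.card_zpowers, Nat.card_zpowers, hoz, hox])
    have hxm : x ∈ (Subgroup.zpowers ((z : ↥(P : Subgroup G)) : G)).map
        (MulAut.conj g).toMonoidHom := by
      rw [← hg]; exact Subgroup.mem_zpowers x
    obtain ⟨u, ⟨i, hi⟩, hxu⟩ := hxm
    have hxe : x = g * ((z : ↥(P : Subgroup G)) : G) ^ i * g⁻¹ := by
      rw [← hxu, ← hi]; rfl
    have hgt : g ∈ D ⊔ Subgroup.normalizer ((P : Subgroup G) : Set G) := by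
      rw [htop]; trivial
    obtain ⟨d, hd, n, hn, hdn⟩ := Subgroup.mem_sup_of_normal_left.mp hgt
    have hziP : ((z : ↥(P : Subgroup G)) : G) ^ i ∈ (P : Subgroup G) :=
      Subgroup.zpow_mem _ (z : ↥(P : Subgroup G)).2 i
    have hz'P : n * ((z : ↥(P : Subgroup G)) : G) ^ i * n⁻¹ ∈ (P : Subgroup G) :=
      (Subgroup.mem_normalizer_iff.mp hn _).mp hziP
    have hz'c : ∀ w ∈ (P : Subgroup G), (n * ((z : ↥(P : Subgroup G)) : G) ^ i * n⁻¹) * w =
        w * (n * ((z : ↥(P : Subgroup G)) : G) ^ i * n⁻¹) := by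
      intro w hw
      have hw' : n⁻¹ * w * n ∈ (P : Subgroup G) := by
        have := (Subgroup.mem_normalizer_iff.mp (Subgroup.inv_mem _ hn) w).mp hw
        rwa [inv_inv] at this
      have h1 : (z : ↥(P : Subgroup G)) * ⟨_, hw'⟩ = ⟨_, hw'⟩ * (z : ↥(P : Subgroup G)) :=
        (Subgroup.mem_center_iff.mp z.2 ⟨_, hw'⟩).symm
      have h2 : ((z : ↥(P : Subgroup G)) : G) * (n⁻¹ * w * n) =
          (n⁻¹ * w * n) * ((z : ↥(P : Subgroup G)) : G) := congrArg Subtype.val h1
      have h3 : ((z : ↥(P : Subgroup G)) : G) ^ i * (n⁻¹ * w * n) =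
          (n⁻¹ * w * n) * ((z : ↥(P : Subgroup G)) : G) ^ i :=
        (Commute.zpow_left (show Commute _ _ from h2) i)
      exact conj_comm_aux n _ w h3
    have hxeq : x = d * (n * ((z : ↥(P : Subgroup G)) : G) ^ i * n⁻¹) * d⁻¹ := by
      rw [hxe, ← hdn]; group
    have hmemD : d * (n * ((z : ↥(P : Subgroup G)) : G) ^ i * n⁻¹) * d⁻¹ *
        (n * ((z : ↥(P : Subgroup G)) : G) ^ i * n⁻¹)⁻¹ ∈ D := by
      have h1 : d * (n * ((z : ↥(P : Subgroup G)) : G) ^ i * n⁻¹) * d⁻¹ *
          (n * ((z : ↥(P : Subgroup G)) : G) ^ i * n⁻¹)⁻¹ =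
          d * ((n * ((z : ↥(P : Subgroup G)) : G) ^ i * n⁻¹) * d⁻¹ *
          (n * ((z : ↥(P : Subgroup G)) : G) ^ i * n⁻¹)⁻¹) := by group
      rw [h1]
      exact D.mul_mem hd (hDn.conj_mem _ (D.inv_mem hd) _)
    have hmemP : d * (n * ((z : ↥(P : Subgroup G)) : G) ^ i * n⁻¹) * d⁻¹ *
        (n * ((z : ↥(P : Subgroup G)) : G) ^ i * n⁻¹)⁻¹ ∈ (P : Subgroup G) := by
      rw [← hxeq]
      exact Subgroup.mul_mem _ hx (Subgroup.inv_mem _ hz'P)
    have h1 := Cfsg.Agent.Lib_helper7_PPrimeP.eq_one_of_mem_of_mem hDc hP hmemD hmemP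
    rw [← hxeq, mul_inv_eq_one] at h1
    rw [h1]
    exact hz'c w hw
  rw [isMulCommutative_iff]
  intro a b
  exact Subtype.ext (hcent a a.2 b b.2)

end Cfsg.Agent.S4024
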