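import Cfsg.Statements.S4027
import Cfsg.Agent.S3861

set_option autoImplicit false
open Cfsg

namespace Cfsg.Agent.S4027

/-- Let G be a finite group in which every element x of odd order satisfies N_G(⟨x⟩) = C_G(x). Then the Sylow 2-subgroups of G are normal. -/
theorem result {G : Type*} [Group G] [Finite G]
    (hirr : ∀ x : G, (∀ r : ℕ, r.Prime → r ∣ orderOf x → r ≠ 2) →
      Subgroup.normalizer ((Subgroup.zpowers x : Subgroup G) : Set G) ≤ Subgroup.centralizer {x}) (P : Sylow 2 G) :
    (P : Subgroup G).Normal := by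
  rw [← Cfsg.Agent.S3861.result P]
  intro x hx1 hodd hreal
  obtain ⟨g, hg⟩ := isConj_iff.mp hreal
  have h1 : g ∈ Subgroup.normalizer ((Subgroup.zpowers x : Subgroup G) : Set G) := by
    rw [Cfsg.Agent.Lib_helper6_Conj.mem_normalizer_iff_conjMap, MonoidHom.map_zpowers]
    show Subgroup.zpowers (g * x * g⁻¹) = _
    rw [hg, Subgroup.zpowers_inv]
  have h2 := hirr x (by
    intro r hr hdvd h2
    rw [h2] at hdvd
    exact (Nat.not_even_iff_odd.mpr hodd) (even_iff_two_dvd.mpr hdvd)) h1
  rw [Subgroup.mem_centralizer_iff] at h2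
  have h3 : x * g = g * x := h2 x rfl
  have h4 : g * x * g⁻¹ = x := by rw [← h3, mul_inv_cancel_right]
  rw [h4] at hg
  have h5 : x ^ 2 = 1 := by
    rw [pow_two]; nth_rewrite 1 [hg]; exact inv_mul_cancel x
  have h6 : orderOf x ∣ 2 := orderOf_dvd_of_pow_eq_one h5
  have h7 : orderOf x = 1 := by
    rcases (Nat.dvd_prime Nat.prime_two).mp h6 with h | h
    · exact h
    · rw [h] at hodd; exact absurd hodd (by decide)
  exact hx1 (orderOf_eq_one_iff.mp h7)

end Cfsg.Agent.S4027
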