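import Cfsg.Statements.S4049
import Cfsg.Agent.S3861

set_option autoImplicit false
open Cfsg Cfsg.Agent.Lib_helper5_Real

namespace Cfsg.Agent.S4049

theorem centralizer_normal_in_normalizer {G : Type*} [Group G] (H : Subgroup G) :
    ((Subgroup.centralizer (H : Set G)).subgroupOf (Subgroup.normalizer (H : Set G))).Normal := by
  constructor
  intro c hc n
  rw [Subgroup.mem_subgroupOf, Subgroup.mem_centralizer_iff] at hc ⊢
  intro h hh
  have hn := n.2
  have h1 : (n : G)⁻¹ * h * (n : G) ∈ H := by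
    have := (Subgroup.mem_normalizer_iff''.mp hn) h
    exact this.mp hh
  have h2 := hc _ h1
  have e1 : ((n * c * n⁻¹ : Subgroup.normalizer (H : Set G)) : G) = (n : G) * (c : G) * (n : G)⁻¹ := rfl
  rw [e1]
  calc h * ((n : G) * (c : G) * (n : G)⁻¹)
      = (n : G) * (((n : G)⁻¹ * h * (n : G)) * (c : G)) * (n : G)⁻¹ := by group
    _ = (n : G) * ((c : G) * ((n : G)⁻¹ * h * (n : G))) * (n : G)⁻¹ := by rw [h2]
    _ = (n : G) * (c : G) * (n : G)⁻¹ * h := by group

/-- Let G be a finite group such that N_G(H)/C_G(H) has odd order for every nontrivial subgroup H of odd order. Then the Sylow 2-subgroups of G are normal. -/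
theorem result {G : Type*} [Group G] [Finite G]
    (hhom : ∀ H : Subgroup G, H ≠ ⊥ → ¬ 2 ∣ Nat.card ↥H →
        ¬ 2 ∣ (Subgroup.centralizer (H : Set G)).relIndex (Subgroup.normalizer (H : Set G))) (P : Sylow 2 G) :
    (P : Subgroup G).Normal := by
  rw [← Cfsg.Agent.S3861.result P]
  intro x hx1 hodd hreal
  obtain ⟨g, hg⟩ := isConj_iff.mp hreal
  obtain ⟨t, ⟨j, hj⟩, ht⟩ := exists_two_elt_inverting hg
  set H := Subgroup.zpowers x with hH
  have hHne : H ≠ ⊥ := by
    intro h
    apply hx1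
    have : x ∈ H := Subgroup.mem_zpowers x
    rw [h] at this
    exact Subgroup.mem_bot.mp this
  have hHodd : ¬ 2 ∣ Nat.card ↥H := by
    rw [hH, Nat.card_zpowers]
    intro h
    exact (Nat.not_even_iff_odd.mpr hodd) (even_iff_two_dvd.mpr h)
  have hrel := hhom H hHne hHodd
  have htN : t ∈ Subgroup.normalizer (H : Set G) := by
    rw [Cfsg.Agent.Lib_helper6_Conj.mem_normalizer_iff_conjMap, hH, MonoidHom.map_zpowers]
    show Subgroup.zpowers (t * x * t⁻¹) = _
    rw [ht, Subgroup.zpowers_inv]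
  haveI := centralizer_normal_in_normalizer H
  set K := (Subgroup.centralizer (H : Set G)).subgroupOf (Subgroup.normalizer (H : Set G)) with hK
  have hcard : Odd (Nat.card (Subgroup.normalizer (H : Set G) ⧸ K)) := by
    rw [← Nat.not_even_iff_odd, even_iff_two_dvd]
    exact hrel
  have htK : (⟨t, htN⟩ : Subgroup.normalizer (H : Set G)) ∈ K := by
    rw [← QuotientGroup.eq_one_iff, ← orderOf_eq_one_iff]
    have h1 : orderOf ((⟨t, htN⟩ : Subgroup.normalizer (H : Set G)) : Subgroup.normalizer (H : Set G) ⧸ K) ∣ 2 ^ j := by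
      rw [← hj, ← Subgroup.orderOf_mk t htN]
      exact orderOf_map_dvd (QuotientGroup.mk' K) _
    have h2 := orderOf_dvd_natCard ((⟨t, htN⟩ : Subgroup.normalizer (H : Set G)) : Subgroup.normalizer (H : Set G) ⧸ K)
    exact Nat.eq_one_of_dvd_coprimes (Nat.Coprime.pow_left j (Nat.coprime_two_left.mpr hcard)) h1 h2
  rw [hK, Subgroup.mem_subgroupOf, Subgroup.mem_centralizer_iff] at htK
  have h3 : x * t = t * x := htK x (Subgroup.mem_zpowers x)
  have h4 : t * x * t⁻¹ = x := by rw [← h3, mul_inv_cancel_right]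
  rw [h4] at ht
  have h5 : x ^ 2 = 1 := by
    rw [pow_two]; nth_rewrite 1 [ht]; exact inv_mul_cancel x
  have h6 : orderOf x ∣ 2 := orderOf_dvd_of_pow_eq_one h5
  have h7 : orderOf x = 1 := by
    rcases (Nat.dvd_prime Nat.prime_two).mp h6 with h | h
    · exact h
    · rw [h] at hodd; exact absurd hodd (by decide)
  exact hx1 (orderOf_eq_one_iff.mp h7)

end Cfsg.Agent.S4049
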