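import Cfsg.Statements.S4097
import Cfsg.Agent.Lib_helper5_FrobKer
import Cfsg.Agent.Lib_helper9_Frob
import Cfsg.Agent.Lib_helper1_Coprime
import Cfsg.Agent.Lib_helper1_SZConj
import Cfsg.Agent.Lib_helper2_PCons
import Cfsg.Agent.Lib_helper1_Basic

set_option autoImplicit false
open Cfsg

namespace Cfsg.Agent.S4097

open scoped Pointwise

universe u

theorem solv_of_cyclic_quot {G : Type*} [Group G] (K : Subgroup G) [K.Normal]
    (hK : ∀ x ∈ K, ∀ y ∈ K, x * y = y * x) (g : G) (h : K ⊔ Subgroup.zpowers g = ⊤) :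
    Group.IsSolvable G := by
  haveI : Group.IsSolvable K :=
    Group.isSolvable_of_comm (fun a b => Subtype.ext (hK a a.2 b b.2))
  have hrep : ∀ u : G, ∃ i : ℤ, (QuotientGroup.mk' K) u = (QuotientGroup.mk' K) (g ^ i) := by
    intro u
    have hu : u ∈ K ⊔ Subgroup.zpowers g := by rw [h]; exact Subgroup.mem_top u
    rw [← SetLike.mem_coe, Subgroup.normal_mul] at hu
    obtain ⟨k, hk, z, hz, rfl⟩ := Set.mem_mul.mp hu
    obtain ⟨i, rfl⟩ := Subgroup.mem_zpowers_iff.mp hz
    refine ⟨i, ?_⟩
    rw [map_mul]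
    have : (QuotientGroup.mk' K) k = 1 := (QuotientGroup.eq_one_iff k).mpr hk
    rw [this, one_mul]
  haveI : Group.IsSolvable (G ⧸ K) := by
    apply Group.isSolvable_of_comm
    intro a b
    obtain ⟨u, rfl⟩ := QuotientGroup.mk'_surjective K a
    obtain ⟨v, rfl⟩ := QuotientGroup.mk'_surjective K b
    obtain ⟨i, hi⟩ := hrep u
    obtain ⟨j, hj⟩ := hrep v
    rw [hi, hj, ← map_mul, ← map_mul, ← zpow_add, ← zpow_add, add_comm]
  exact Group.isSolvable_of_ker_le_range K.subtype (QuotientGroup.mk' K) (by
    rw [QuotientGroup.ker_mk']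
    intro x hx
    exact ⟨⟨x, hx⟩, rfl⟩)

theorem aux (n : ℕ) : ∀ (G : Type u) [Group G] [Finite G], Nat.card G = n →
    ∀ (A : Subgroup G), Group.IsSolvable A →
    (∀ S : Subgroup G, A ≤ S → Group.IsSolvable S → ∀ a ∈ A, ∀ s ∈ S, a * s = s * a) →
    A ≤ Subgroup.center G := by
  induction n using Nat.strong_induction_on with
  | _ n IH =>
  intro G _ _ hn A hA hc
  by_contra hcon
  have hab : ∀ a ∈ A, ∀ b ∈ A, a * b = b * a := fun a ha b hb => hc A le_rfl hA a ha b hb
  obtain ⟨M, hMdef⟩ : ∃ M : Subgroup G, M = Subgroup.centralizer (A : Set G) := ⟨_, rfl⟩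
  have hmemM : ∀ g : G, g ∈ M ↔ ∀ a ∈ A, a * g = g * a := by
    intro g
    rw [hMdef, Subgroup.mem_centralizer_iff]
    rfl
  have hAM : A ≤ M := fun a ha => (hmemM a).mpr (fun b hb => hab b hb a ha)
  have hMtop : M ≠ ⊤ := by
    intro h
    apply hcon
    intro a ha
    rw [Subgroup.mem_center_iff]
    intro g
    have hg : g ∈ M := by rw [h]; exact Subgroup.mem_top g
    exact ((hmemM g).mp hg a ha).symm
  -- Claim 1
  have hC1 : ∀ H : Subgroup G, A ≤ H → H ≠ ⊤ → H ≤ M := by
    intro H hAH hH
    have hlt : Nat.card H < n := hn ▸ Cfsg.Agent.Lib_helper1_SZConj.card_lt_of_ne_top H hH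
    haveI := hA
    have hsol : Group.IsSolvable (A.subgroupOf H) :=
      Cfsg.Agent.Lib_helper1_SZConj.isSolvable_subgroupOf hAH
    have hhyp : ∀ S : Subgroup H, A.subgroupOf H ≤ S → Group.IsSolvable S →
        ∀ a ∈ A.subgroupOf H, ∀ s ∈ S, a * s = s * a := by
      intro S hS hSs a ha s hs
      haveI := hSs
      have h1 : Group.IsSolvable (S.map H.subtype) :=
        Cfsg.Agent.Lib_helper1_SZConj.isSolvable_map H.subtype S
      have h2 : A ≤ S.map H.subtype := by
        intro x hx
        exact ⟨⟨x, hAH hx⟩, hS (Subgroup.mem_subgroupOf.mpr hx), rfl⟩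
      have h3 := hc (S.map H.subtype) h2 h1 (a : G) (Subgroup.mem_subgroupOf.mp ha) (s : G)
        ⟨s, hs, rfl⟩
      exact Subtype.ext h3
    have h4 := IH (Nat.card H) hlt H rfl (A.subgroupOf H) hsol hhyp
    intro h hh
    rw [hmemM]
    intro a ha
    have h5 : (⟨a, hAH ha⟩ : H) ∈ Subgroup.center H := h4 (Subgroup.mem_subgroupOf.mpr ha)
    have h6 := Subgroup.mem_center_iff.mp h5 ⟨h, hh⟩
    exact (congrArg Subtype.val h6).symm
  -- Lemma N
  have hLN : ∀ K : Subgroup G, K.Normal → A ≤ K → (∀ x ∈ K, ∀ y ∈ K, x * y = y * x) →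
      False := by
    intro K hKn hAK hKab
    haveI := hKn
    obtain ⟨g, hg⟩ : ∃ g : G, g ∉ M := by
      by_contra h
      push Not at h
      exact hMtop ((Subgroup.eq_top_iff' M).mpr h)
    by_cases hH : K ⊔ Subgroup.zpowers g = ⊤
    · haveI : Group.IsSolvable G := solv_of_cyclic_quot K hKab g hH
      apply hg
      rw [hmemM]
      intro a ha
      exact hc ⊤ le_top inferInstance a ha g (Subgroup.mem_top g)
    · exact hg (hC1 _ (hAK.trans le_sup_left) hH
        (le_sup_right (a := K) (Subgroup.mem_zpowers g)))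
  -- centre trivial
  have hZ : Subgroup.center G = ⊥ := by
    by_contra hZne
    obtain ⟨Z, hZdef⟩ : ∃ Z : Subgroup G, Z = Subgroup.center G := ⟨_, rfl⟩
    haveI : Z.Normal := by rw [hZdef]; infer_instance
    have hZne' : Z ≠ ⊥ := by rw [hZdef]; exact hZne
    have hlt : Nat.card (G ⧸ Z) < n := by
      have h1 := Subgroup.card_eq_card_quotient_mul_card_subgroup Z
      have h2 := Cfsg.Agent.Lib_helper1_SZConj.two_le_card_of_ne_bot Z hZne'
      have h3 : 0 < Nat.card (G ⧸ Z) := Nat.card_pos
      rw [← hn, h1]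
      nlinarith
    haveI := hA
    have hsol : Group.IsSolvable (A.map (QuotientGroup.mk' Z)) :=
      Cfsg.Agent.Lib_helper1_SZConj.isSolvable_map _ A
    have hhyp : ∀ S : Subgroup (G ⧸ Z), A.map (QuotientGroup.mk' Z) ≤ S → Group.IsSolvable S →
        ∀ a ∈ A.map (QuotientGroup.mk' Z), ∀ s ∈ S, a * s = s * a := by
      intro S hS hSs a ha s hs
      haveI := hSs
      obtain ⟨T, hTdef⟩ : ∃ T : Subgroup G, T = S.comap (QuotientGroup.mk' Z) := ⟨_, rfl⟩
      have hAT : A ≤ T := by
        rw [hTdef]; exact Subgroup.map_le_iff_le_comap.mp hS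
      have hTle : T ≤ S.comap (QuotientGroup.mk' Z) := hTdef.le
      have hTs : Group.IsSolvable T := by
        haveI : Group.IsSolvable (Z.subgroupOf T) := by
          apply Group.isSolvable_of_comm
          intro x y
          apply Subtype.ext
          apply Subtype.ext
          have hx : ((x : T) : G) ∈ Subgroup.center G := by
            rw [← hZdef]; exact Subgroup.mem_subgroupOf.mp x.2
          exact (Subgroup.mem_center_iff.mp hx ((y : T) : G)).symm
        let f : T →* S :=
          { toFun := fun t => ⟨QuotientGroup.mk' Z (t : G), hTle t.2⟩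
            map_one' := by apply Subtype.ext; simp
            map_mul' := by intro x y; apply Subtype.ext; simp }
        exact Group.isSolvable_of_ker_le_range (Z.subgroupOf T).subtype f (by
          intro x hx
          have h1 : QuotientGroup.mk' Z (x : G) = 1 :=
            congrArg Subtype.val (MonoidHom.mem_ker.mp hx)
          have h2 : (x : G) ∈ Z := (QuotientGroup.eq_one_iff _).mp h1
          exact ⟨⟨x, Subgroup.mem_subgroupOf.mpr h2⟩, rfl⟩)
      obtain ⟨a0, ha0, rfl⟩ := ha
      obtain ⟨s0, rfl⟩ := QuotientGroup.mk'_surjective Z s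
      have hs0 : s0 ∈ T := by rw [hTdef]; exact hs
      have h3 := hc T hAT hTs a0 ha0 s0 hs0
      rw [← map_mul, ← map_mul, h3]
    have h4 := IH (Nat.card (G ⧸ Z)) hlt (G ⧸ Z) rfl (A.map (QuotientGroup.mk' Z)) hsol hhyp
    have hcomm : ∀ a ∈ A, ∀ g : G, g * a * g⁻¹ * a⁻¹ ∈ Z := by
      intro a ha g
      have h5 := Subgroup.mem_center_iff.mp (h4 (Subgroup.mem_map_of_mem _ ha))
        (QuotientGroup.mk' Z g)
      apply (QuotientGroup.eq_one_iff _).mp
      show (QuotientGroup.mk' Z) (g * a * g⁻¹ * a⁻¹) = 1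
      simp only [map_mul, map_inv]
      rw [h5]
      group
    have h7 : Z ⊔ A ≤ M := sup_le (by
        intro z hz
        rw [hmemM]
        intro a ha
        have hzc : z ∈ Subgroup.center G := by rw [← hZdef]; exact hz
        exact Subgroup.mem_center_iff.mp hzc a) hAM
    apply hLN (Z ⊔ A)
    · constructor
      intro x hx g
      rw [← SetLike.mem_coe, Subgroup.normal_mul] at hx
      obtain ⟨z, hz, a, ha, rfl⟩ := Set.mem_mul.mp hx
      have hzc : z ∈ Subgroup.center G := by rw [← hZdef]; exact hz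
      have h6 : g * (z * a) * g⁻¹ = z * (g * a * g⁻¹ * a⁻¹) * a := by
        have := Subgroup.mem_center_iff.mp hzc g
        calc g * (z * a) * g⁻¹ = (g * z) * a * g⁻¹ := by group
          _ = (z * g) * a * g⁻¹ := by rw [this]
          _ = z * (g * a * g⁻¹ * a⁻¹) * a := by group
      rw [h6]
      exact mul_mem (mul_mem (Subgroup.mem_sup_left hz) (Subgroup.mem_sup_left (hcomm a ha g)))
        (Subgroup.mem_sup_right ha)
    · exact le_sup_right
    · intro x hx y hy
      have h8 : Z ⊔ A ≤ Subgroup.centralizer ({y} : Set G) := by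
        apply sup_le
        · intro z hz
          have hzc : z ∈ Subgroup.center G := by rw [← hZdef]; exact hz
          rw [Subgroup.mem_centralizer_iff]
          intro w hw
          rw [Set.mem_singleton_iff] at hw
          rw [hw]
          exact Subgroup.mem_center_iff.mp hzc y
        · intro a ha
          rw [Subgroup.mem_centralizer_iff]
          intro w hw
          rw [Set.mem_singleton_iff] at hw
          rw [hw]
          exact ((hmemM y).mp (h7 hy) a ha).symm
      have h9 := Subgroup.mem_centralizer_iff.mp (h8 hx) y (Set.mem_singleton y)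
      exact h9.symm
  -- M is self-normalizing
  have hNM : Subgroup.normalizer (M : Set G) ≤ M := by
    by_cases hnt : Subgroup.normalizer (M : Set G) = ⊤
    · exfalso
      haveI hMn : M.Normal := Subgroup.normalizer_eq_top_iff.mp hnt
      apply hLN (M ⊓ Subgroup.centralizer (M : Set G))
      · infer_instance
      · apply le_inf hAM
        intro a ha
        rw [Subgroup.mem_centralizer_iff]
        intro m hm
        exact ((hmemM m).mp hm a ha).symm
      · intro x hx y hy
        exact Subgroup.mem_centralizer_iff.mp hy.2 x hx.1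
    · exact hC1 _ (hAM.trans Subgroup.le_normalizer) hnt
  -- two conjugates generate
  have hgen : ∀ g : G, g ∉ M → A ⊔ MulAut.conj g • A = ⊤ := by
    intro g hg
    by_contra hne
    have h1 := hC1 _ le_sup_left hne
    have h2 : ∀ a ∈ A, g * a * g⁻¹ ∈ M := by
      intro a ha
      apply h1
      apply Subgroup.mem_sup_right
      rw [Cfsg.Agent.Lib_helper1_Basic.mem_conj_smul]
      have : g⁻¹ * (g * a * g⁻¹) * g = a := by group
      rw [this]; exact ha
    have h3 : A ≤ MulAut.conj g • M := by
      intro b hb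
      rw [Cfsg.Agent.Lib_helper1_Basic.mem_conj_smul, hmemM]
      intro a ha
      have h4 := (hmemM _).mp (h2 a ha) b hb
      have e1 : a * (g⁻¹ * b * g) = g⁻¹ * (g * a * g⁻¹ * b) * g := by group
      have e2 : g⁻¹ * b * g * a = g⁻¹ * (b * (g * a * g⁻¹)) * g := by group
      rw [e1, e2, h4]
    have h5 : MulAut.conj g • M ≠ ⊤ := by
      intro h
      apply hMtop
      rw [Subgroup.eq_top_iff']
      intro x
      have h6 : g * x * g⁻¹ ∈ MulAut.conj g • M := by rw [h]; exact Subgroup.mem_top _
      rw [Cfsg.Agent.Lib_helper1_Basic.mem_conj_smul] at h6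
      have : g⁻¹ * (g * x * g⁻¹) * g = x := by group
      rw [this] at h6; exact h6
    have h7 := hC1 _ h3 h5
    apply hg
    apply hNM
    apply Cfsg.Agent.Lib_helper1_Basic.mem_normalizer_of_conj_le
    intro m hm
    apply h7
    rw [Cfsg.Agent.Lib_helper1_Basic.mem_conj_smul]
    have : g⁻¹ * (g * m * g⁻¹) * g = m := by group
    rw [this]; exact hm
  -- Frobenius complement
  have hF : Cfsg.IsFrobeniusComplement M := by
    refine ⟨?_, hMtop, ?_⟩
    · intro h
      apply hcon
      have : A ≤ ⊥ := h ▸ hAM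
      exact this.trans bot_le
    · intro g hg
      rw [eq_bot_iff]
      intro x hx
      rw [Subgroup.mem_bot]
      have hx1 : x ∈ M := hx.1
      have hx2 : g⁻¹ * x * g ∈ M := (Cfsg.Agent.Lib_helper1_Basic.mem_conj_smul M g x).mp hx.2
      have h1 : A ⊔ MulAut.conj g • A ≤ Subgroup.centralizer ({x} : Set G) := by
        apply sup_le
        · intro a ha
          rw [Subgroup.mem_centralizer_iff]
          intro w hw
          rw [Set.mem_singleton_iff] at hw
          rw [hw]
          exact ((hmemM x).mp hx1 a ha).symm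
        · intro z hz
          rw [Cfsg.Agent.Lib_helper1_Basic.mem_conj_smul] at hz
          rw [Subgroup.mem_centralizer_iff]
          intro w hw
          rw [Set.mem_singleton_iff] at hw
          rw [hw]
          have h2 := (hmemM _).mp hx2 _ hz
          have e1 : x * z = g * (g⁻¹ * x * g * (g⁻¹ * z * g)) * g⁻¹ := by group
          have e2 : z * x = g * (g⁻¹ * z * g * (g⁻¹ * x * g)) * g⁻¹ := by group
          rw [e1, e2, h2]
      rw [hgen g hg] at h1
      have h3 : x ∈ Subgroup.center G := by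
        rw [Subgroup.mem_center_iff]
        intro y
        have := Subgroup.mem_centralizer_iff.mp (h1 (Subgroup.mem_top y)) x (Set.mem_singleton x)
        exact this.symm
      rw [hZ, Subgroup.mem_bot] at h3
      exact h3
  obtain ⟨N, hNker, hNn, hNc⟩ := Cfsg.Agent.Lib_helper5_FrobKer.frobenius_kernel M hF
  haveI := hNn
  have hcardN : Nat.card N = M.index :=
    Cfsg.Agent.Lib_helper9_Frob.card_kernel_subgroup hF hNker
  have hcopM := Cfsg.Agent.Lib_helper9_Frob.coprime_index_card hF
  have hNM0 : N ⊓ M = ⊥ := disjoint_iff.mp hNc.disjoint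
  have hN1 : Nat.card N ≠ 1 := by
    rw [hcardN]
    intro h
    exact hMtop (Subgroup.index_eq_one.mp h)
  obtain ⟨q, hq, hqd⟩ := Nat.exists_prime_and_dvd hN1
  haveI : Fact q.Prime := ⟨hq⟩
  have hcop : (Nat.card A).Coprime (Nat.card N) := by
    rw [hcardN]
    exact (hcopM.symm.coprime_dvd_left (Subgroup.card_dvd_of_le hAM))
  obtain ⟨P, hP⟩ := Cfsg.Agent.Lib_helper1_Coprime.exists_invariant_sylow A N
    (by rw [Subgroup.normalizer_eq_top]; exact le_top) hcop (Or.inl hA) q
  obtain ⟨Q, hQdef⟩ : ∃ Q : Subgroup G, Q = (P : Subgroup N).map N.subtype := ⟨_, rfl⟩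
  rw [← hQdef] at hP
  have hQN : Q ≤ N := by rw [hQdef]; exact Subgroup.map_subtype_le _
  have hQne : Q ≠ ⊥ := by
    rw [hQdef]
    intro h
    rw [Subgroup.map_eq_bot_iff_of_injective _ N.subtype_injective] at h
    exact P.ne_bot_of_dvd_card hqd h
  have hQs : Group.IsSolvable Q := by
    haveI : Group.IsNilpotent (P : Subgroup N) := P.isPGroup'.isNilpotent
    rw [hQdef]
    exact Cfsg.Agent.Lib_helper1_SZConj.isSolvable_map N.subtype (P : Subgroup N)
  have hS := (Cfsg.Agent.Lib_helper2_PCons.sup_solvable_card Q A hP).1 hQs hA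
  have hQM : Q ≤ M := by
    intro x hx
    rw [hmemM]
    intro a ha
    exact hc (Q ⊔ A) le_sup_right hS a ha x (Subgroup.mem_sup_left hx)
  apply hQne
  rw [eq_bot_iff, ← hNM0]
  exact le_inf hQN hQM


/-- Let A be a solvable subgroup of a finite group G such that A lies in the centre of every solvable subgroup of G containing A. Then A lies in the centre of G. -/
theorem result {G : Type*} [Group G] [Finite G]
    (A : Subgroup G) (hA : Group.IsSolvable A)
    (hc : ∀ S : Subgroup G, A ≤ S → Group.IsSolvable S → ∀ a ∈ A, ∀ s ∈ S, a * s = s * a) : A ≤ Subgroup.center G := by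
  exact aux (Nat.card G) G rfl A hA hc

end Cfsg.Agent.S4097
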