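import Cfsg.Statements.S4113
import Cfsg.Agent.Lib_helper6_Conj

set_option autoImplicit false
open Cfsg

namespace Cfsg.Agent.S4113

/-- Let G be a finite group, M ≤ N non-trivial proper normal subgroups, and H a subgroup with HM = G and H ∩ M = 1. Then every element of G outside N acts fixed-point-freely on M (C_G(x) ≤ N for every x ∈ M, x ≠ 1) if and only if H ∩ gHg⁻¹ ≤ H ∩ N for every g outside H, with H proper and non-trivial and H ∩ N proper in H. -/
theorem result {G : Type*} [Group G] [Finite G] (N M : Subgroup G) [N.Normal] [M.Normal] (hMN : M ≤ N) (hM1 : M ≠ ⊥) (hN2 : N ≠ ⊤)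
    (H : Subgroup G) (hHM : H ⊔ M = ⊤) (hHM' : H ⊓ M = ⊥) :
    (∀ x ∈ M, x ≠ 1 → Subgroup.centralizer ({x} : Set G) ≤ N) ↔
      (H ≠ ⊥ ∧ H ≠ ⊤ ∧ H ⊓ N < H ∧ ∀ g : G, g ∉ H → H ⊓ H.map (MulAut.conj g).toMonoidHom ≤ N) := by
  classical
  have hdecomp : ∀ g : G, ∃ m ∈ M, ∃ h ∈ H, g = m * h := by
    intro g
    have hg : g ∈ ((M ⊔ H : Subgroup G) : Set G) := by
      rw [sup_comm, hHM]; trivial
    rw [Subgroup.normal_mul, Set.mem_mul] at hg
    obtain ⟨m, hm, h, hh, rfl⟩ := hg
    exact ⟨m, hm, h, hh, rfl⟩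
  have hHM1 : ∀ x : G, x ∈ H → x ∈ M → x = 1 := by
    intro x hxH hxM
    have : x ∈ H ⊓ M := ⟨hxH, hxM⟩
    rw [hHM'] at this
    exact Subgroup.mem_bot.mp this
  constructor
  · intro hc
    refine ⟨?_, ?_, ?_, ?_⟩
    · intro hbot
      rw [hbot, bot_sup_eq] at hHM
      apply hN2
      rw [eq_top_iff, ← hHM]
      exact hMN
    · intro htop
      rw [htop, top_inf_eq] at hHM'
      exact hM1 hHM'
    · refine lt_of_le_of_ne inf_le_left (fun h => hN2 ?_)
      have hHN : H ≤ N := by rw [← h]; exact inf_le_right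
      rw [eq_top_iff, ← hHM]
      exact sup_le hHN hMN
    · intro g hg y hy
      obtain ⟨hyH', hyg'⟩ := hy
      have hyH : y ∈ H := hyH'
      have hyg : y ∈ H.map (MulAut.conj g).toMonoidHom := hyg'
      rw [Cfsg.Agent.Lib_helper6_Conj.mem_conjMap] at hyg
      obtain ⟨m, hm, h, hh, rfl⟩ := hdecomp g
      have hm1 : m ≠ 1 := by
        rintro rfl
        apply hg
        simpa using hh
      have h1 : m⁻¹ * y * m ∈ H := by
        have : m⁻¹ * y * m = h * ((m * h)⁻¹ * y * (m * h)) * h⁻¹ := by group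
        rw [this]
        exact H.mul_mem (H.mul_mem hh hyg) (H.inv_mem hh)
      have h2 : y⁻¹ * (m⁻¹ * y * m) ∈ M := by
        have : y⁻¹ * (m⁻¹ * y * m) = (y⁻¹ * m⁻¹ * y⁻¹⁻¹) * m := by group
        rw [this]
        exact M.mul_mem (‹M.Normal›.conj_mem _ (M.inv_mem hm) _) hm
      have h3 : y⁻¹ * (m⁻¹ * y * m) = 1 := hHM1 _ (H.mul_mem (H.inv_mem hyH) h1) h2
      have h4 : m * y = y * m := by
        have : m⁻¹ * y * m = y := by
          calc m⁻¹ * y * m = y * (y⁻¹ * (m⁻¹ * y * m)) := by group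
            _ = y := by rw [h3, mul_one]
        calc m * y = m * (m⁻¹ * y * m) := by rw [this]
          _ = y * m := by group
      have h5 : y ∈ Subgroup.centralizer ({m} : Set G) := by
        rw [Subgroup.mem_centralizer_iff]
        intro z hz
        rw [Set.mem_singleton_iff] at hz
        rw [hz]; exact h4
      exact hc m hm hm1 h5
  · rintro ⟨hH1, hH2, hlt, hTI⟩ x hx hx1 c hc
    rw [Subgroup.mem_centralizer_iff] at hc
    have hxc : x * c = c * x := hc x rfl
    obtain ⟨m, hm, h, hh, rfl⟩ := hdecomp c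
    by_contra hcN
    have hhN : h ∉ N := by
      intro hhN
      exact hcN (N.mul_mem (hMN hm) hhN)
    have claimA : ∀ y ∈ M, y * h = h * y → y = 1 := by
      intro y hy hyh
      by_contra hy1
      have hyH : y ∉ H := fun hyH => hy1 (hHM1 y hyH hy)
      apply hhN
      apply hTI y hyH
      refine ⟨hh, ?_⟩
      show h ∈ H.map (MulAut.conj y).toMonoidHom
      rw [Cfsg.Agent.Lib_helper6_Conj.mem_conjMap]
      have : y⁻¹ * h * y = h := by
        calc y⁻¹ * h * y = y⁻¹ * (h * y) := by group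
          _ = y⁻¹ * (y * h) := by rw [hyh]
          _ = h := by group
      rw [this]; exact hh
    let φ : M → M := fun u => ⟨(u : G) * h * (u : G)⁻¹ * h⁻¹, by
      have : (u : G) * h * (u : G)⁻¹ * h⁻¹ = (u : G) * (h * (u : G)⁻¹ * h⁻¹) := by group
      rw [this]
      exact M.mul_mem u.2 (‹M.Normal›.conj_mem _ (M.inv_mem u.2) _)⟩
    have hφ : Function.Injective φ := by
      intro u v huv
      have h1 : (u : G) * h * (u : G)⁻¹ * h⁻¹ = (v : G) * h * (v : G)⁻¹ * h⁻¹ :=
        congrArg Subtype.val huv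
      have h2 : ((v : G)⁻¹ * (u : G)) * h = h * ((v : G)⁻¹ * (u : G)) := by
        calc ((v : G)⁻¹ * (u : G)) * h
            = (v : G)⁻¹ * ((u : G) * h * (u : G)⁻¹ * h⁻¹) * h * (u : G) := by group
          _ = (v : G)⁻¹ * ((v : G) * h * (v : G)⁻¹ * h⁻¹) * h * (u : G) := by rw [h1]
          _ = h * ((v : G)⁻¹ * (u : G)) := by group
      have h3 := claimA _ (M.mul_mem (M.inv_mem v.2) u.2) h2
      apply Subtype.ext
      calc (u : G) = (v : G) * ((v : G)⁻¹ * (u : G)) := by group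
        _ = (v : G) := by rw [h3, mul_one]
    have hφs : Function.Surjective φ := Finite.injective_iff_surjective.mp hφ
    obtain ⟨u, hu⟩ := hφs ⟨m, hm⟩
    have hu' : (u : G) * h * (u : G)⁻¹ * h⁻¹ = m := congrArg Subtype.val hu
    have hmh : m * h = (u : G) * h * (u : G)⁻¹ := by rw [← hu']; group
    rw [hmh] at hxc
    have h6 : ((u : G)⁻¹ * x * (u : G)) * h = h * ((u : G)⁻¹ * x * (u : G)) := by
      calc ((u : G)⁻¹ * x * (u : G)) * h
          = (u : G)⁻¹ * (x * ((u : G) * h * (u : G)⁻¹)) * (u : G) := by group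
        _ = (u : G)⁻¹ * ((u : G) * h * (u : G)⁻¹ * x) * (u : G) := by rw [hxc]
        _ = h * ((u : G)⁻¹ * x * (u : G)) := by group
    have h7 : (u : G)⁻¹ * x * (u : G) ∈ M := by
      have := ‹M.Normal›.conj_mem x hx (u : G)⁻¹
      simpa using this
    have h8 := claimA _ h7 h6
    apply hx1
    calc x = (u : G) * ((u : G)⁻¹ * x * (u : G)) * (u : G)⁻¹ := by group
      _ = 1 := by rw [h8]; group

end Cfsg.Agent.S4113
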