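import Cfsg.Statements.S4143
import Cfsg.Agent.Lib_helper1_MaxClass
import Cfsg.Agent.Lib_helper1_CyclicMax
import Cfsg.Agent.S4023
import Cfsg.Agent.S3918

set_option autoImplicit false
open Cfsg

namespace Cfsg.Agent.S4143

/-- conjugation formulas when `z = a₁ a₂ a₁⁻¹ a₂⁻¹` is central -/
theorem conj_pow_left {X : Type*} [Group X] (a₁ a₂ z : X) (hz : a₁ * a₂ * a₁⁻¹ * a₂⁻¹ = z)
    (hzc : ∀ g : X, g * z = z * g) (s : ℕ) : a₁ ^ s * a₂ * (a₁ ^ s)⁻¹ = a₂ * z ^ s := by
  induction s with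
  | zero => simp
  | succ s ih =>
    have h1 : a₁ * a₂ * a₁⁻¹ = a₂ * z := by
      rw [hzc a₂, ← hz]; group
    calc a₁ ^ (s + 1) * a₂ * (a₁ ^ (s + 1))⁻¹ = a₁ * (a₁ ^ s * a₂ * (a₁ ^ s)⁻¹) * a₁⁻¹ := by
          rw [pow_succ']; group
      _ = a₁ * (a₂ * z ^ s) * a₁⁻¹ := by rw [ih]
      _ = (a₁ * a₂ * a₁⁻¹) * (a₁ * z ^ s * a₁⁻¹) := by group
      _ = (a₂ * z) * z ^ s := by
          rw [h1]
          congr 1
          have : a₁ * z ^ s = z ^ s * a₁ := by
            induction s with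
            | zero => simp
            | succ s ih2 => exact (Commute.pow_right (show Commute a₁ z from hzc a₁) (s + 1))
          rw [this]; group
      _ = a₂ * z ^ (s + 1) := by rw [pow_succ']; group

theorem conj_pow_right {X : Type*} [Group X] (a₁ a₂ z : X) (hz : a₁ * a₂ * a₁⁻¹ * a₂⁻¹ = z)
    (hzc : ∀ g : X, g * z = z * g) (t : ℕ) : a₂ ^ t * a₁ * (a₂ ^ t)⁻¹ = a₁ * (z⁻¹) ^ t := by
  have hz' : a₂ * a₁ * a₂⁻¹ * a₁⁻¹ = z⁻¹ := by
    rw [← hz]; group
  have hzc' : ∀ g : X, g * z⁻¹ = z⁻¹ * g := by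
    intro g
    have := hzc g
    calc g * z⁻¹ = z⁻¹ * (z * g) * z⁻¹ := by group
      _ = z⁻¹ * (g * z) * z⁻¹ := by rw [this]
      _ = z⁻¹ * g := by group
  exact conj_pow_left a₂ a₁ z⁻¹ hz' hzc' t

theorem comm_of_center_large {X : Type*} [Group X] [Finite X] {p : ℕ} [Fact p.Prime]
    (hX : IsPGroup p X) (B Z : Subgroup X) (hZB : Z ≤ B) (hZc : Z ≤ Subgroup.center X)
    (hcard : Nat.card B ≤ p * Nat.card Z) : ∀ a ∈ B, ∀ b ∈ B, a * b = b * a := by
  have hp := (Fact.out : p.Prime)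
  by_cases hBZ : B ≤ Z
  · intro a ha b hb
    exact (Subgroup.mem_center_iff.mp (hZc (hBZ ha)) b).symm
  · obtain ⟨x, hxB, hxZ⟩ := Set.not_subset.mp hBZ
    have hU : ∀ a ∈ Z, ∀ b ∈ Z, a * b = b * a := fun a ha b _ =>
      (Subgroup.mem_center_iff.mp (hZc ha) b).symm
    have hx : ∀ a ∈ Z, a * x = x * a := fun a ha => (Subgroup.mem_center_iff.mp (hZc ha) x).symm
    have hcomm := Cfsg.Agent.S3918.sup_zpowers_comm Z x hU hx
    have hle : Z ⊔ Subgroup.zpowers x ≤ B := sup_le hZB (Subgroup.zpowers_le.mpr hxB)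
    have hlt : Nat.card Z < Nat.card ↥(Z ⊔ Subgroup.zpowers x) := by
      apply Cfsg.Agent.S4023.card_lt_of_mem Z _ le_sup_left x
        ((le_sup_right : Subgroup.zpowers x ≤ _) (Subgroup.mem_zpowers x)) hxZ
    obtain ⟨i, hi⟩ := IsPGroup.iff_card.mp (hX.to_subgroup Z)
    obtain ⟨j, hj⟩ := IsPGroup.iff_card.mp (hX.to_subgroup (Z ⊔ Subgroup.zpowers x))
    have hij : i < j := by
      rw [hi, hj] at hlt
      exact (Nat.pow_lt_pow_iff_right hp.one_lt).mp hlt
    have hge : Nat.card B ≤ Nat.card ↥(Z ⊔ Subgroup.zpowers x) := by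
      rw [hj]
      calc Nat.card B ≤ p * Nat.card Z := hcard
        _ = p ^ (i + 1) := by rw [hi, pow_succ']
        _ ≤ p ^ j := Nat.pow_le_pow_right hp.pos hij
    have heq : Z ⊔ Subgroup.zpowers x = B := Subgroup.eq_of_le_of_card_ge hle hge
    rw [← heq]
    exact hcomm



/-- Let X be a finite p-group of order p^n containing a non-abelian subgroup B of order p³ with C_X(B) ≤ B. Then X has nilpotency class n − 1 (maximal class). -/
theorem result {X : Type*} [Group X] [Finite X] {p : ℕ} [Fact p.Prime] (n : ℕ) (hX : Nat.card X = p ^ n)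
    (B : Subgroup X) (hB : Nat.card B = p ^ 3) (hBna : ¬ IsMulCommutative B) (hC : Subgroup.centralizer (B : Set X) ≤ B) :
    Group.nilpotencyClass X = n - 1 := by
  have hp := (Fact.out : p.Prime)
  have hXp : IsPGroup p X := IsPGroup.of_card hX
  have hBcomm : ¬ ∀ a ∈ B, ∀ b ∈ B, a * b = b * a := by
    intro h
    apply hBna
    rw [isMulCommutative_iff]
    intro a b
    exact Subtype.ext (h a a.2 b b.2)
  have hn3 : 3 ≤ n := by
    have := Subgroup.card_le_card_group B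
    rw [hB, hX] at this
    exact (Nat.pow_le_pow_iff_right hp.one_lt).mp this
  haveI : Nontrivial X := by
    rw [← Finite.one_lt_card_iff_nontrivial, hX]
    exact Nat.one_lt_pow (by omega) hp.one_lt
  haveI := hXp.isNilpotent
  obtain ⟨Z, hZ⟩ : ∃ Z : Subgroup X, Z = Subgroup.center X := ⟨_, rfl⟩
  haveI hZn : Z.Normal := by rw [hZ]; infer_instance
  have hZB : Z ≤ B := by
    rw [hZ]; exact (Subgroup.center_le_centralizer _).trans hC
  -- |Z| = p
  have hZcard : Nat.card Z = p := by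
    obtain ⟨k, hk⟩ := IsPGroup.iff_card.mp (hXp.to_subgroup Z)
    have hk0 : k ≠ 0 := by
      intro h0
      rw [h0, pow_zero] at hk
      have hbot : Z = ⊥ := Subgroup.card_eq_one.mp hk
      haveI := hXp.center_nontrivial
      exact (Subgroup.nontrivial_iff_ne_bot _).mp (hXp.center_nontrivial) (hZ ▸ hbot)
    have hk2 : k < 2 := by
      by_contra hk2
      apply hBcomm
      apply comm_of_center_large hXp B Z hZB (le_of_eq hZ)
      rw [hB, hk]
      calc p ^ 3 ≤ p ^ (k + 1) := Nat.pow_le_pow_right hp.pos (by omega)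
        _ = p * p ^ k := pow_succ' p k
    have hk1 : k = 1 := by omega
    rw [hk, hk1, pow_one]
  -- the quotient
  have hQcard : Nat.card (X ⧸ Z) = p ^ (n - 1) := by
    have h1 := Subgroup.card_eq_card_quotient_mul_card_subgroup Z
    rw [hX, hZcard] at h1
    have h2 : p ^ n = p ^ (n - 1) * p := by
      rw [← pow_succ]; congr 1; omega
    rw [h2] at h1
    exact (Nat.eq_of_mul_eq_mul_right hp.pos h1).symm
  obtain ⟨B', hB'⟩ : ∃ B' : Subgroup (X ⧸ Z), B' = B.map (QuotientGroup.mk' Z) := ⟨_, rfl⟩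
  have hcomap : B'.comap (QuotientGroup.mk' Z) = B := by
    rw [hB', Subgroup.comap_map_eq, QuotientGroup.ker_mk']
    exact sup_eq_left.mpr hZB
  have hB'card : Nat.card B' = p ^ 2 := by
    have h1 : B'.index = B.index := by
      rw [← hcomap, Subgroup.index_comap_of_surjective _ (QuotientGroup.mk'_surjective Z)]
    have h2 := Subgroup.card_mul_index B'
    have h3 := Subgroup.card_mul_index B
    rw [h1, hQcard] at h2
    rw [hB, hX] at h3
    have hpos : 0 < B.index := Nat.pos_of_ne_zero (Subgroup.index_ne_zero_of_finite)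
    have h4 : Nat.card B' * p * B.index = p ^ 2 * p * B.index := by
      calc Nat.card B' * p * B.index = (Nat.card B' * B.index) * p := by ring
        _ = p ^ (n - 1) * p := by rw [h2]
        _ = p ^ n := by rw [← pow_succ]; congr 1; omega
        _ = p ^ 3 * B.index := h3.symm
        _ = p ^ 2 * p * B.index := by ring
    have h5 := Nat.eq_of_mul_eq_mul_right hpos h4
    exact Nat.eq_of_mul_eq_mul_right hp.pos h5
  haveI hB'comm : IsMulCommutative B' := IsPGroup.isMulCommutative_of_card_eq_prime_sq hB'card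
  -- non-commuting pair
  obtain ⟨a₁, ha₁, a₂, ha₂, hne⟩ : ∃ a₁ ∈ B, ∃ a₂ ∈ B, a₁ * a₂ ≠ a₂ * a₁ := by
    by_contra hcon
    push Not at hcon
    exact hBcomm hcon
  have hcommB' : ∀ u ∈ B, ∀ v ∈ B, u * v * u⁻¹ * v⁻¹ ∈ Z := by
    intro u hu v hv
    have h1 : (⟨_, Subgroup.mem_map_of_mem _ hu⟩ : B.map (QuotientGroup.mk' Z)) *
        ⟨_, Subgroup.mem_map_of_mem _ hv⟩ = ⟨_, Subgroup.mem_map_of_mem _ hv⟩ *
        ⟨_, Subgroup.mem_map_of_mem _ hu⟩ := by
      have := hB'comm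
      rw [hB'] at this
      exact mul_comm' _ _
    have h2 : (QuotientGroup.mk' Z) u * (QuotientGroup.mk' Z) v =
        (QuotientGroup.mk' Z) v * (QuotientGroup.mk' Z) u := congrArg Subtype.val h1
    have h3 : (QuotientGroup.mk' Z) (u * v * u⁻¹ * v⁻¹) = 1 := by
      rw [map_mul, map_mul, map_mul, h2, map_inv, map_inv]; group
    exact (QuotientGroup.eq_one_iff _).mp h3
  obtain ⟨z, hz⟩ : ∃ z : X, a₁ * a₂ * a₁⁻¹ * a₂⁻¹ = z := ⟨_, rfl⟩
  have hzZ : z ∈ Z := hz ▸ hcommB' a₁ ha₁ a₂ ha₂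
  have hz1 : z ≠ 1 := by
    intro h
    apply hne
    rw [h] at hz
    calc a₁ * a₂ = (a₁ * a₂ * a₁⁻¹ * a₂⁻¹) * (a₂ * a₁) := by group
      _ = a₂ * a₁ := by rw [hz, one_mul]
  have hzc : ∀ g : X, g * z = z * g := fun g => Subgroup.mem_center_iff.mp (hZ ▸ hzZ) g
  have hzp : z ^ p = 1 := by
    have h1 : (⟨z, hzZ⟩ : Z) ^ Nat.card Z = 1 := pow_card_eq_one'
    rw [hZcard] at h1
    exact congrArg Subtype.val h1
  have hzo : orderOf z = p := orderOf_eq_prime hzp hz1
  have hZz : ∀ w ∈ Z, ∃ i : ℕ, w = z ^ i := by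
    have h1 : Subgroup.zpowers z = Z := by
      apply Subgroup.eq_of_le_of_card_ge (Subgroup.zpowers_le.mpr hzZ)
      rw [Nat.card_zpowers, hzo, hZcard]
    intro w hw
    rw [← h1] at hw
    obtain ⟨i, hi⟩ := Cfsg.Agent.Lib_helper1_CyclicMax.exists_pow_of_mem_zpowers hw
    exact ⟨i, hi.symm⟩
  -- the centralizer of B'
  have hcent : Subgroup.centralizer (B' : Set (X ⧸ Z)) = B' := by
    apply le_antisymm
    · intro xbar hxbar
      obtain ⟨x, rfl⟩ := QuotientGroup.mk'_surjective Z xbar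
      have hx : ∀ b ∈ B, x * b * x⁻¹ * b⁻¹ ∈ Z := by
        intro b hb
        have h1 := Subgroup.mem_centralizer_iff.mp hxbar ((QuotientGroup.mk' Z) b)
          (hB' ▸ Subgroup.mem_map_of_mem _ hb)
        have h3 : (QuotientGroup.mk' Z) (x * b * x⁻¹ * b⁻¹) = 1 := by
          rw [map_mul, map_mul, map_mul, ← h1, map_inv, map_inv]; group
        exact (QuotientGroup.eq_one_iff _).mp h3
      obtain ⟨i, hi⟩ := hZz _ (hx a₁ ha₁)
      obtain ⟨j, hj⟩ := hZz _ (hx a₂ ha₂)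
      obtain ⟨c, hc⟩ : ∃ c : X, c = a₁ ^ j * a₂ ^ (i * (p - 1)) := ⟨_, rfl⟩
      have hcB : c ∈ B := hc ▸ Subgroup.mul_mem _ (Subgroup.pow_mem _ ha₁ _) (Subgroup.pow_mem _ ha₂ _)
      have hzinv : (z⁻¹) ^ (i * (p - 1)) = z ^ i := by
        have h1 : z ^ (i * (p - 1)) * z ^ i = 1 := by
          rw [← pow_add]
          have : i * (p - 1) + i = p * i := by
            have := hp.pos
            obtain ⟨p', rfl⟩ : ∃ p', p = p' + 1 := ⟨p - 1, by omega⟩
            simp; ring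
          rw [this, pow_mul, hzp, one_pow]
        rw [inv_pow]
        exact inv_eq_of_mul_eq_one_right h1
      have hc1 : c * a₁ * c⁻¹ = x * a₁ * x⁻¹ := by
        have h1 := conj_pow_right a₁ a₂ z hz hzc (i * (p - 1))
        have h2 : x * a₁ * x⁻¹ = z ^ i * a₁ := by
          rw [← hi]; group
        have hcomm1 : a₁ ^ j * (z ^ i) = z ^ i * a₁ ^ j :=
          Commute.pow_right (show Commute (a₁ ^ j) z from hzc _) i
        calc c * a₁ * c⁻¹ = a₁ ^ j * (a₂ ^ (i * (p - 1)) * a₁ * (a₂ ^ (i * (p - 1)))⁻¹) *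
              (a₁ ^ j)⁻¹ := by rw [hc]; group
          _ = a₁ ^ j * (a₁ * z ^ i) * (a₁ ^ j)⁻¹ := by rw [h1, hzinv]
          _ = a₁ * (a₁ ^ j * z ^ i) * (a₁ ^ j)⁻¹ := by
              have : a₁ ^ j * a₁ = a₁ * a₁ ^ j := by rw [← pow_succ, ← pow_succ']
              calc a₁ ^ j * (a₁ * z ^ i) * (a₁ ^ j)⁻¹ = (a₁ ^ j * a₁) * z ^ i * (a₁ ^ j)⁻¹ := by group
                _ = (a₁ * a₁ ^ j) * z ^ i * (a₁ ^ j)⁻¹ := by rw [this]
                _ = a₁ * (a₁ ^ j * z ^ i) * (a₁ ^ j)⁻¹ := by group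
          _ = a₁ * (z ^ i * a₁ ^ j) * (a₁ ^ j)⁻¹ := by rw [hcomm1]
          _ = a₁ * z ^ i := by group
          _ = z ^ i * a₁ := (Commute.pow_right (show Commute a₁ z from hzc _) i)
          _ = x * a₁ * x⁻¹ := h2.symm
      have hc2 : c * a₂ * c⁻¹ = x * a₂ * x⁻¹ := by
        have h1 := conj_pow_left a₁ a₂ z hz hzc j
        have h2 : x * a₂ * x⁻¹ = z ^ j * a₂ := by
          rw [← hj]; group
        calc c * a₂ * c⁻¹ = a₁ ^ j * a₂ * (a₁ ^ j)⁻¹ := by rw [hc]; group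
          _ = a₂ * z ^ j := h1
          _ = z ^ j * a₂ := (Commute.pow_right (show Commute a₂ z from hzc _) j)
          _ = x * a₂ * x⁻¹ := h2.symm
      -- y = c⁻¹ x centralizes a₁, a₂
      have hy1 : a₁ * (c⁻¹ * x) = (c⁻¹ * x) * a₁ := by
        calc a₁ * (c⁻¹ * x) = c⁻¹ * (c * a₁ * c⁻¹) * x := by group
          _ = c⁻¹ * (x * a₁ * x⁻¹) * x := by rw [hc1]
          _ = (c⁻¹ * x) * a₁ := by group
      have hy2 : a₂ * (c⁻¹ * x) = (c⁻¹ * x) * a₂ := by
        calc a₂ * (c⁻¹ * x) = c⁻¹ * (c * a₂ * c⁻¹) * x := by group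
          _ = c⁻¹ * (x * a₂ * x⁻¹) * x := by rw [hc2]
          _ = (c⁻¹ * x) * a₂ := by group
      have hD : B ⊓ Subgroup.centralizer ({c⁻¹ * x} : Set X) = B := by
        apply Subgroup.eq_of_le_of_card_ge inf_le_left
        obtain ⟨k, hk⟩ := IsPGroup.iff_card.mp
          (hXp.to_subgroup (B ⊓ Subgroup.centralizer ({c⁻¹ * x} : Set X)))
        rw [hB, hk]
        apply Nat.pow_le_pow_right hp.pos
        by_contra hk3
        have hDc := Cfsg.Agent.S4023.comm_of_card_le_sq k (by omega) hk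
        have hm1 : a₁ ∈ B ⊓ Subgroup.centralizer ({c⁻¹ * x} : Set X) :=
          ⟨ha₁, Subgroup.mem_centralizer_singleton_iff.mpr hy1⟩
        have hm2 : a₂ ∈ B ⊓ Subgroup.centralizer ({c⁻¹ * x} : Set X) :=
          ⟨ha₂, Subgroup.mem_centralizer_singleton_iff.mpr hy2⟩
        have := (isMulCommutative_iff.mp hDc) ⟨a₁, hm1⟩ ⟨a₂, hm2⟩
        exact hne (congrArg Subtype.val this)
      have hyB : c⁻¹ * x ∈ B := by
        apply hC
        rw [Subgroup.mem_centralizer_iff]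
        intro b hb
        rw [← hD] at hb
        exact (Subgroup.mem_centralizer_singleton_iff.mp hb.2)
      have hxB : x ∈ B := by
        have := Subgroup.mul_mem _ hcB hyB
        rwa [mul_inv_cancel_left] at this
      rw [hB']
      exact Subgroup.mem_map_of_mem _ hxB
    · exact Subgroup.le_centralizer B'
  have hcl := Cfsg.Agent.Lib_helper1_MaxClass.aux p (n - 1) (X ⧸ Z) hQcard B' hB'card hcent
  have hcl2 : Group.nilpotencyClass X = Group.nilpotencyClass (X ⧸ Subgroup.center X) + 1 :=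
    Group.nilpotencyClass_eq_quotient_center_plus_one
  have hcl3 : Group.nilpotencyClass (X ⧸ Subgroup.center X) = n - 1 - 1 := by
    subst hZ
    exact hcl
  rw [hcl2, hcl3]
  omega

end Cfsg.Agent.S4143
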