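import Cfsg.Statements.S4155
import Cfsg.Agent.Lib_helper5_Fitting
import Cfsg.Agent.Lib_helper5_PParts
import Cfsg.Agent.Lib_helper2_CN
import Cfsg.Agent.Lib_helper1_FrobSylow
import Cfsg.Agent.S0016
import Cfsg.Agent.S4001

set_option autoImplicit false
open Cfsg

namespace Cfsg.Agent.S4155

open scoped Pointwise
universe u

theorem exists_pp {G : Type*} [Group G] [Finite G] (N : Subgroup G) : ∀ n : ℕ, ∀ x : G,
    orderOf x = n → x ∉ N → ∃ c : ℕ, x ^ c ∉ N ∧ ∃ q b : ℕ, q.Prime ∧ orderOf (x ^ c) = q ^ b := by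
  intro n
  induction n using Nat.strong_induction_on with
  | _ n ih =>
  intro x hx hxN
  have hn0 : n ≠ 0 := by rw [← hx]; exact (orderOf_pos x).ne'
  have hn1 : n ≠ 1 := by
    intro h
    rw [h, orderOf_eq_one_iff] at hx
    exact hxN (hx ▸ one_mem N)
  obtain ⟨q, hq, hqn⟩ := Nat.exists_prime_and_dvd hn1
  obtain ⟨e, m, hqm, hnm⟩ := Nat.exists_eq_pow_mul_and_not_dvd hn0 q hq.ne_one
  have hm0 : 0 < m := by
    rcases Nat.eq_zero_or_pos m with rfl | h
    · rw [mul_zero] at hnm; exact absurd hnm hn0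
    · exact h
  have hqe : 0 < q ^ e := pow_pos hq.pos e
  have ho1 : orderOf (x ^ m) = q ^ e := by
    rw [orderOf_pow_of_dvd hm0.ne' (by rw [hx, hnm]; exact dvd_mul_left _ _), hx, hnm,
      Nat.mul_div_cancel _ hm0]
  by_cases h1 : x ^ m ∈ N
  · have ho2 : orderOf (x ^ (q ^ e)) = m := by
      rw [orderOf_pow_of_dvd hqe.ne' (by rw [hx, hnm]; exact dvd_mul_right _ _), hx, hnm,
        Nat.mul_div_cancel_left _ hqe]
    have h2 : x ^ (q ^ e) ∉ N := fun h2 =>
      hxN (Cfsg.Agent.Lib_helper5_PParts.mem_of_pow_mem_of_coprime N x m (q ^ e)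
        (Nat.Coprime.pow_right e ((Nat.Prime.coprime_iff_not_dvd hq).mpr hqm).symm) h1 h2)
    have he0 : e ≠ 0 := by
      rintro rfl
      rw [pow_zero, one_mul] at hnm
      exact hqm (hnm ▸ hqn)
    have hlt : m < n := by
      rw [hnm]
      have : 1 < q ^ e := Nat.one_lt_pow he0 hq.one_lt
      nlinarith
    obtain ⟨c, hc, q', b, hq', hb⟩ := ih m hlt (x ^ (q ^ e)) ho2 h2
    rw [← pow_mul] at hc hb
    exact ⟨q ^ e * c, hc, q', b, hq', hb⟩
  · exact ⟨m, h1, q, e, hq, ho1⟩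


/-- Let G be a finite group and N a proper non-trivial normal nilpotent subgroup whose order is not a prime power, such that for every x outside N all elements of the coset xN have the same order as x. Then N is the Fitting subgroup of G, and for every prime q every Sylow q-subgroup of G/N is cyclic or generalized quaternion. -/
theorem result {G : Type*} [Group G] [Finite G] (N : Subgroup G) [N.Normal] (hN1 : N ≠ ⊥) (hN2 : N ≠ ⊤)
    (heq : ∀ x : G, x ∉ N → ∀ n ∈ N, orderOf (x * n) = orderOf x)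
    (hnil : Group.IsNilpotent N) (hnpp : ¬ IsPrimePow (Nat.card N)) :
    N = Cfsg.fittingSubgroup G ∧
    ∀ (q : ℕ) [Fact q.Prime] (Q : Sylow q (G ⧸ N)), IsCyclic (Q : Subgroup (G ⧸ N)) ∨ ∃ n : ℕ, Nonempty ((Q : Subgroup (G ⧸ N)) ≃* QuaternionGroup (2 ^ n)) := by
  classical
  have hNF : N ≤ Cfsg.fittingSubgroup G :=
    Cfsg.Agent.Lib_helper5_Fitting.le_fitting inferInstance hnil
  have exV : ∀ q : ℕ, q.Prime → ∃ r : ℕ, r.Prime ∧ r ≠ q ∧ ∃ z ∈ N, z ≠ 1 ∧
      (∀ k ∈ N, k * z = z * k) ∧ z ^ r = 1 := by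
    intro q hq
    have h0 : ∃ r : ℕ, r.Prime ∧ r ∣ Nat.card N ∧ r ≠ q := by
      by_contra hcon
      push Not at hcon
      apply hnpp
      obtain ⟨k, h1⟩ : ∃ k, Nat.card N = q ^ k :=
        ⟨_, Nat.eq_prime_pow_of_unique_prime_dvd (Nat.card_pos.ne')
          (fun {r} hr hrd => hcon r hr hrd)⟩
      have hk : k ≠ 0 := by
        rintro rfl
        rw [pow_zero, Subgroup.card_eq_one] at h1
        exact hN1 h1
      rw [h1]
      exact hq.isPrimePow.pow hk
    obtain ⟨r, hr, hrN, hrq⟩ := h0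
    obtain ⟨z, hzN, hz1, hzc, hzr⟩ := Cfsg.Agent.S4001.exists_central_order N hnil r hr hrN
    exact ⟨r, hr, hrq, z, hzN, hz1, hzc, hzr⟩
  have core : ∀ (q r : ℕ), q.Prime → r.Prime → r ≠ q → ∀ (y v : G) (a : ℕ), y ∉ N →
      y ^ (q ^ a) = 1 → v ∈ N → v ^ r = 1 → y * v = v * y → v = 1 := by
    intro q r hq hr hrq y v a hy hya hv hvr hcomm
    have h1 := heq y hy v hv
    have h2 : (y * v) ^ (q ^ a) = 1 := by
      rw [← orderOf_dvd_iff_pow_eq_one, h1]; exact orderOf_dvd_of_pow_eq_one hya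
    rw [(show Commute y v from hcomm).mul_pow, hya, one_mul] at h2
    have h3 : orderOf v ∣ q ^ a := orderOf_dvd_of_pow_eq_one h2
    have h4 : orderOf v ∣ r := orderOf_dvd_of_pow_eq_one hvr
    have hcop : Nat.Coprime (q ^ a) r :=
      Nat.Coprime.pow_left a ((Nat.coprime_primes hq hr).mpr (Ne.symm hrq))
    exact orderOf_eq_one_iff.mp (Nat.eq_one_of_dvd_coprimes hcop h3 h4)
  constructor
  · apply le_antisymm hNF
    intro x hxF
    by_contra hxN
    obtain ⟨c, hyN, q, b, hq, hyo⟩ := exists_pp N (orderOf x) x rfl hxN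
    have hyF : x ^ c ∈ Cfsg.fittingSubgroup G := Subgroup.pow_mem _ hxF c
    obtain ⟨r, hr, hrq, z, hzN, hz1, hzc, hzr⟩ := exV q hq
    apply hz1
    have hzo : orderOf z ∣ r := orderOf_dvd_of_pow_eq_one hzr
    have hcomm : x ^ c * z = z * x ^ c :=
      Cfsg.Agent.Lib_helper2_CN.nilpotent_coprime_comm' _
        Cfsg.Agent.Lib_helper5_Fitting.fitting_isNilpotent hyF (hNF hzN) (by
          rw [hyo]
          exact Nat.Coprime.coprime_dvd_right hzo
            (Nat.Coprime.pow_left b ((Nat.coprime_primes hq hr).mpr (Ne.symm hrq))))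
    exact core q r hq hr hrq (x ^ c) z b hyN (by rw [← hyo]; exact pow_orderOf_eq_one _)
      hzN hzr hcomm
  · intro q _ Q
    have hq : q.Prime := Fact.out
    obtain ⟨r, hr, hrq, z, hzN, hz1, hzc, hzr⟩ := exV q hq
    obtain ⟨V, hVn, hVmem⟩ := Cfsg.Agent.S4001.exists_omega N r
    haveI := hVn
    have hzV : z ∈ V := (hVmem z).mpr ⟨hzN, hzc, hzr⟩
    letI : CommGroup ↥V :=
      { (inferInstance : Group ↥V) with
        mul_comm := fun a b =>
          Subtype.ext (((hVmem b.1).mp b.2).2.1 a.1 ((hVmem a.1).mp a.2).1) }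
    have hker : ∀ n ∈ N, (MulAut.conjNormal (H := V)) n = 1 := by
      intro n hn
      ext v
      rw [MulAut.conjNormal_apply]
      have h1 := ((hVmem v.1).mp v.2).2.1 n hn
      rw [h1, mul_inv_cancel_right]
      rfl
    obtain ⟨ρ₁, hρ₁⟩ : ∃ ρ₁ : G ⧸ N →* MulAut ↥V, ∀ (g : G) (v : ↥V),
        ((ρ₁ (g : G ⧸ N)) v : G) = g * v * g⁻¹ :=
      ⟨QuotientGroup.lift N (MulAut.conjNormal (H := V))
          (fun n hn => MonoidHom.mem_ker.mpr (hker n hn)),
        fun g v => by rw [QuotientGroup.lift_mk]; exact MulAut.conjNormal_apply g v⟩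
    have hfpf : ∀ f : ↥(Q : Subgroup (G ⧸ N)), f ≠ 1 → ∀ v : ↥V,
        (ρ₁.comp (Q : Subgroup (G ⧸ N)).subtype) f v = v → v = 1 := by
      intro f hf v hv
      obtain ⟨y, hy⟩ := QuotientGroup.mk_surjective (f : G ⧸ N)
      obtain ⟨j, hj⟩ := Q.2 f
      have hfj : (f : G ⧸ N) ^ (q ^ j) = 1 := by
        have := congrArg Subtype.val hj; simpa using this
      have hf1 : (f : G ⧸ N) ≠ 1 := fun h => hf (Subtype.ext h)
      have hy0 : orderOf y ≠ 0 := (orderOf_pos y).ne'
      obtain ⟨a, m, hqm, hym⟩ := Nat.exists_eq_pow_mul_and_not_dvd hy0 q hq.ne_one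
      have hym1 : (y ^ m) ^ (q ^ a) = 1 := by
        rw [← pow_mul, mul_comm, ← hym]; exact pow_orderOf_eq_one y
      have hymN : y ^ m ∉ N := by
        intro h
        have h1 : (f : G ⧸ N) ^ m = 1 := by
          rw [← hy, ← QuotientGroup.mk_pow]; exact (QuotientGroup.eq_one_iff _).mpr h
        have h2 : orderOf (f : G ⧸ N) ∣ m := orderOf_dvd_of_pow_eq_one h1
        have h3 : orderOf (f : G ⧸ N) ∣ q ^ j := orderOf_dvd_of_pow_eq_one hfj
        have hcop : Nat.Coprime m (q ^ j) :=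
          Nat.Coprime.pow_right j ((Nat.Prime.coprime_iff_not_dvd hq).mpr hqm).symm
        exact hf1 (orderOf_eq_one_iff.mp (Nat.eq_one_of_dvd_coprimes hcop h2 h3))
      have hyv : y * (v : G) * y⁻¹ = v := by
        have h1 : ((ρ₁ ((y : G) : G ⧸ N)) v : G) = (v : G) := by
          have h0 := congrArg Subtype.val hv
          rw [hy]; exact h0
        rw [hρ₁] at h1
        exact h1
      have hcomm : y ^ m * (v : G) = (v : G) * y ^ m := by
        have hc : Commute y (v : G) := by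
          show y * (v : G) = (v : G) * y
          calc y * (v : G) = y * (v : G) * y⁻¹ * y := by group
            _ = (v : G) * y := by rw [hyv]
        exact (hc.pow_left m).eq
      have hvN := ((hVmem v.1).mp v.2)
      exact Subtype.ext (core q r hq hr hrq (y ^ m) v a hymN hym1 hvN.1 hvN.2.2 hcomm)
    have hV' : ∃ v : ↥V, v ≠ 1 := ⟨⟨z, hzV⟩, fun h => hz1 (congrArg Subtype.val h)⟩
    have huniq : ∀ X Y : Subgroup ↥(Q : Subgroup (G ⧸ N)), Nat.card X = q → Nat.card Y = q →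
        X = Y := by
      intro X Y hX hY
      have h1 := Cfsg.Agent.Lib_helper1_FrobSylow.unique_order_p
        (ρ₁.comp (Q : Subgroup (G ⧸ N)).subtype) hV' hfpf q
        (⊤ : Subgroup ↥(Q : Subgroup (G ⧸ N))) (Q.isPGroup'.to_subgroup ⊤)
        (X.subgroupOf ⊤) (Y.subgroupOf ⊤)
        (by rw [Nat.card_congr (Subgroup.subgroupOfEquivOfLe le_top).toEquiv]; exact hX)
        (by rw [Nat.card_congr (Subgroup.subgroupOfEquivOfLe le_top).toEquiv]; exact hY)
      ext x
      constructor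
      · intro hx
        have h2 : (⟨x, Subgroup.mem_top x⟩ : ↥(⊤ : Subgroup ↥(Q : Subgroup (G ⧸ N)))) ∈
            X.subgroupOf ⊤ := Subgroup.mem_subgroupOf.mpr hx
        rw [h1] at h2
        exact Subgroup.mem_subgroupOf.mp h2
      · intro hx
        have h2 : (⟨x, Subgroup.mem_top x⟩ : ↥(⊤ : Subgroup ↥(Q : Subgroup (G ⧸ N)))) ∈
            Y.subgroupOf ⊤ := Subgroup.mem_subgroupOf.mpr hx
        rw [← h1] at h2
        exact Subgroup.mem_subgroupOf.mp h2
    rcases Cfsg.Agent.S0016.result q Q.isPGroup' huniq with h | ⟨-, h⟩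
    · exact Or.inl h
    · exact Or.inr h

end Cfsg.Agent.S4155
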