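import Cfsg.Statements.S4213
import Cfsg.Agent.Lib_helper5_FrobThm
import Cfsg.Agent.Lib_helper1_Hall
import Cfsg.Agent.S4001
import Cfsg.Agent.S3857

set_option autoImplicit false
open Cfsg

namespace Cfsg.Agent.S4213

open scoped Pointwise
universe u

theorem inj_bound {G : Type*} [Group G] [Finite G] (K : Subgroup G) [K.Normal] (k n : ℕ)
    (h : ∀ x : G, (x : G ⧸ K) ^ k = 1 → x ^ n = 1) :
    Nat.card K * Nat.card {w : G ⧸ K // w ^ k = 1} ≤ Nat.card {x : G // x ^ n = 1} := by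
  rw [← Nat.card_prod]
  apply Nat.card_le_card_of_injective (fun a : ↥K × {w : G ⧸ K // w ^ k = 1} =>
    (⟨a.2.1.out * a.1, h _ (by
      rw [QuotientGroup.mk_mul, QuotientGroup.out_eq', (QuotientGroup.eq_one_iff _).mpr a.1.2,
        mul_one]
      exact a.2.2)⟩ : {x : G // x ^ n = 1}))
  rintro ⟨k₁, w₁⟩ ⟨k₂, w₂⟩ heq
  have h1 : w₁.1.out * (k₁ : G) = w₂.1.out * (k₂ : G) := congrArg Subtype.val heq
  have h2 : w₁.1 = w₂.1 := by
    have := congrArg (fun x : G => (x : G ⧸ K)) h1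
    simp only [QuotientGroup.mk_mul, QuotientGroup.out_eq',
      (QuotientGroup.eq_one_iff _).mpr k₁.2, (QuotientGroup.eq_one_iff _).mpr k₂.2,
      mul_one] at this
    exact this
  have h3 : w₁ = w₂ := Subtype.ext h2
  subst h3
  have h4 : (k₁ : G) = k₂ := mul_left_cancel h1
  exact Prod.ext (Subtype.ext h4) rfl

theorem eq_of_sub_card {G : Type*} [Group G] [Finite G] (H : Subgroup G) (n : ℕ)
    (hsub : ∀ h ∈ H, h ^ n = 1) (hcard : Nat.card {x : G // x ^ n = 1} ≤ Nat.card H) :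
    (H : Set G) = {x : G | x ^ n = 1} := by
  have h1 : ({x : G | x ^ n = 1} : Set G).ncard ≤ (H : Set G).ncard := by
    rw [← Nat.card_coe_set_eq, ← Nat.card_coe_set_eq]
    exact hcard
  exact Set.eq_of_subset_of_ncard_le (fun h hh => hsub h hh) h1 (Set.toFinite _)

theorem card_of_set_eq {G : Type*} [Group G] (H : Subgroup G) (n : ℕ)
    (h : (H : Set G) = {x : G | x ^ n = 1}) : Nat.card H = Nat.card {x : G // x ^ n = 1} :=
  Nat.card_congr (Equiv.subtypeEquivRight (fun w => by rw [← SetLike.mem_coe, h]; rfl))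

theorem lift_bound {G : Type*} [Group G] [Finite G] (K : Subgroup G) [K.Normal] (n q : ℕ)
    (hq : 1 < q) (hcop : Nat.Coprime n q) (hK : ∀ z ∈ K, z ^ q = 1) :
    Nat.card {w : G ⧸ K // w ^ n = 1} ≤ Nat.card {x : G // x ^ n = 1} := by
  obtain ⟨t, -, ht⟩ := Nat.exists_mul_mod_eq_one_of_coprime hcop hq
  have key : ∀ w : {w : G ⧸ K // w ^ n = 1},
      (w.1.out * ((w.1.out ^ n) ^ t)⁻¹) ^ n = 1 ∧
        ((w.1.out * ((w.1.out ^ n) ^ t)⁻¹ : G) : G ⧸ K) = w.1 := by
    intro w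
    obtain ⟨x, hx⟩ : ∃ x : G, x = w.1.out := ⟨_, rfl⟩
    rw [← hx]
    have hxw : (x : G ⧸ K) = w.1 := by rw [hx]; exact QuotientGroup.out_eq' _
    have hcK : x ^ n ∈ K := by
      rw [← QuotientGroup.eq_one_iff, QuotientGroup.mk_pow, hxw]; exact w.2
    have hc1 : (x ^ n) ^ q = 1 := hK _ hcK
    constructor
    · have hcomm : Commute x ((x ^ n) ^ t)⁻¹ :=
        (((Commute.refl x).pow_right n).pow_right t).inv_right
      rw [hcomm.mul_pow, inv_pow, ← pow_mul, mul_comm t n, pow_eq_pow_mod (n * t) hc1,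
        ht, pow_one, mul_inv_cancel]
    · rw [QuotientGroup.mk_mul, QuotientGroup.mk_inv, hxw,
        (QuotientGroup.eq_one_iff _).mpr (K.pow_mem hcK t), inv_one, mul_one]
  apply Nat.card_le_card_of_injective (fun w : {w : G ⧸ K // w ^ n = 1} =>
    (⟨w.1.out * ((w.1.out ^ n) ^ t)⁻¹, (key w).1⟩ : {x : G // x ^ n = 1}))
  intro w₁ w₂ heq
  have h1 := congrArg (fun x : {x : G // x ^ n = 1} => ((x.1 : G) : G ⧸ K)) heq
  simp only [(key w₁).2, (key w₂).2] at h1
  exact Subtype.ext h1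

theorem card_pos_pow {G : Type*} [Group G] [Finite G] (n : ℕ) :
    0 < Nat.card {x : G // x ^ n = 1} :=
  Nat.card_pos_iff.mpr ⟨⟨⟨1, one_pow n⟩⟩, inferInstance⟩

theorem exists_K {G : Type*} [Group G] [Finite G] [Group.IsSolvable G] [Nontrivial G] :
    ∃ (K : Subgroup G) (p i : ℕ), K.Normal ∧ p.Prime ∧ i ≠ 0 ∧ Nat.card K = p ^ i ∧
      ∀ z ∈ K, z ^ p = 1 := by
  obtain ⟨M, hMn, hM1, -, -, p, k, hp, hk, hcard⟩ :=
    Cfsg.Agent.Lib_helper1_Hall.exists_minimal_normal (G := G)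
  haveI := hMn
  haveI : Fact p.Prime := ⟨hp⟩
  have hMp : IsPGroup p M := IsPGroup.of_card hcard
  obtain ⟨Ω, hΩn, hΩmem⟩ := Cfsg.Agent.S4001.exists_omega M p
  have hΩM : Ω ≤ M := fun z hz => ((hΩmem z).mp hz).1
  obtain ⟨i, hi⟩ := (hMp.to_le hΩM).exists_card_eq
  refine ⟨Ω, p, i, hΩn, hp, ?_, hi, fun z hz => ((hΩmem z).mp hz).2.2⟩
  rintro rfl
  obtain ⟨z, hzM, hz1, hzc, hzp⟩ := Cfsg.Agent.S4001.exists_central_order M hMp.isNilpotent p hp
    (by rw [hcard]; exact dvd_pow_self p hk)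
  apply hz1
  rw [pow_zero, Subgroup.card_eq_one] at hi
  have : z ∈ Ω := (hΩmem z).mpr ⟨hzM, hzc, hzp⟩
  rw [hi] at this
  exact Subgroup.mem_bot.mp this

theorem main (N : ℕ) : ∀ (G : Type u) [Group G] [Finite G] [Group.IsSolvable G],
    Nat.card G = N → ∀ n, n ∣ N → Nat.card {x : G // x ^ n = 1} = n →
    ∃ H : Subgroup G, (H : Set G) = {x : G | x ^ n = 1} := by
  induction N using Nat.strong_induction_on with
  | _ N ih =>
  intro G _ _ _ hN n hn hcount
  by_cases htriv : Nat.card G = 1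
  · refine ⟨⊤, ?_⟩
    haveI : Subsingleton G := (Nat.card_eq_one_iff_unique.mp htriv).1
    ext x
    constructor
    · intro _
      show x ^ n = 1
      rw [Subsingleton.elim x 1, one_pow]
    · intro _
      exact Subgroup.mem_top x
  haveI : Nontrivial G := by
    rw [← Finite.one_lt_card_iff_nontrivial]
    have := Nat.card_pos (α := G)
    omega
  have hn0 : n ≠ 0 := by
    rintro rfl
    rw [zero_dvd_iff] at hn
    rw [hn] at hN
    exact Nat.card_pos.ne' hN
  obtain ⟨K, p, i, hKn, hp, hi0, hKcard, hKexp⟩ := exists_K (G := G)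
  haveI := hKn
  have hGK : Nat.card G = p ^ i * Nat.card (G ⧸ K) := by
    rw [← hKcard]; exact (Subgroup.card_mul_index K).symm
  have hlt : Nat.card (G ⧸ K) < N := by
    rw [← hN, hGK]
    have h1 : 1 < p ^ i := Nat.one_lt_pow hi0 hp.one_lt
    have h2 : 0 < Nat.card (G ⧸ K) := Nat.card_pos
    nlinarith
  have hKq : ∀ z ∈ K, z ^ (p ^ i) = 1 := by
    intro z hz
    rw [← hKcard]
    exact orderOf_dvd_iff_pow_eq_one.mp (Subgroup.orderOf_dvd_natCard K hz)
  by_cases hpn : p ∣ n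
  · -- case B
    obtain ⟨a, m, hmp, hnm⟩ := Nat.exists_eq_pow_mul_and_not_dvd hn0 p hp.ne_one
    have ha0 : a ≠ 0 := by
      rintro rfl
      rw [pow_zero, one_mul] at hnm
      exact hmp (hnm ▸ hpn)
    have hm0 : 0 < m := by
      rcases Nat.eq_zero_or_pos m with rfl | h
      · rw [mul_zero] at hnm; exact absurd hnm hn0
      · exact h
    have hmcop : Nat.Coprime m (p ^ i) :=
      Nat.Coprime.pow_right i ((Nat.Prime.coprime_iff_not_dvd hp).mpr hmp).symm
    have hmQ : m ∣ Nat.card (G ⧸ K) := by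
      have h1 : m ∣ p ^ i * Nat.card (G ⧸ K) := by
        rw [← hGK, hN]; exact dvd_trans (Dvd.intro_left _ hnm.symm) hn
      exact (Nat.Coprime.dvd_mul_left hmcop).mp h1
    have himp : ∀ (k : ℕ), k * p ∣ n → ∀ x : G, (x : G ⧸ K) ^ k = 1 → x ^ n = 1 := by
      intro k hk x hx
      have h1 : x ^ k ∈ K := by
        rw [← QuotientGroup.eq_one_iff, QuotientGroup.mk_pow]; exact hx
      obtain ⟨c, hc⟩ := hk
      rw [hc, pow_mul, pow_mul, hKexp _ h1, one_pow]
    have hia : i ≤ a := by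
      have h1 := inj_bound K m n (himp m (by
        rw [hnm]
        obtain ⟨a', rfl⟩ := Nat.exists_eq_succ_of_ne_zero ha0
        exact ⟨p ^ a', by rw [pow_succ]; ring⟩))
      rw [hcount, hKcard] at h1
      have h2 : m ≤ Nat.card {w : G ⧸ K // w ^ m = 1} :=
        Nat.le_of_dvd (card_pos_pow m) (Cfsg.Agent.Lib_helper5_FrobThm.frobenius m hmQ)
      have h3 : p ^ i * m ≤ p ^ a * m := by
        rw [← hnm]; exact le_trans (Nat.mul_le_mul_left _ h2) h1
      have h4 : p ^ i ≤ p ^ a := Nat.le_of_mul_le_mul_right h3 hm0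
      exact (Nat.pow_le_pow_iff_right hp.one_lt).mp h4
    obtain ⟨n', hn'⟩ : ∃ n', n' = p ^ (a - i) * m := ⟨_, rfl⟩
    have hnn' : n = p ^ i * n' := by
      rw [hn', ← mul_assoc, ← pow_add, Nat.add_sub_cancel' hia]; exact hnm
    have hn'Q : n' ∣ Nat.card (G ⧸ K) := by
      have h1 : p ^ i * n' ∣ p ^ i * Nat.card (G ⧸ K) := by rw [← hnn', ← hGK, hN]; exact hn
      exact Nat.dvd_of_mul_dvd_mul_left (pow_pos hp.pos i) h1
    have himp' : ∀ x : G, (x : G ⧸ K) ^ n' = 1 → x ^ n = 1 := himp n' (by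
      rw [hnn']
      obtain ⟨i', rfl⟩ := Nat.exists_eq_succ_of_ne_zero hi0
      exact ⟨p ^ i', by rw [pow_succ]; ring⟩)
    have hcountQ : Nat.card {w : G ⧸ K // w ^ n' = 1} = n' := by
      have h1 := inj_bound K n' n himp'
      rw [hcount, hKcard, hnn'] at h1
      have h2 : Nat.card {w : G ⧸ K // w ^ n' = 1} ≤ n' :=
        Nat.le_of_mul_le_mul_left h1 (pow_pos hp.pos i)
      have hn'pos : 0 < n' := by
        rcases Nat.eq_zero_or_pos n' with h | h
        · rw [h, mul_zero] at hnn'; exact absurd hnn' hn0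
        · exact h
      exact le_antisymm h2
        (Nat.le_of_dvd (card_pos_pow n') (Cfsg.Agent.Lib_helper5_FrobThm.frobenius n' hn'Q))
    obtain ⟨T, hT⟩ := ih _ hlt (G ⧸ K) rfl n' hn'Q hcountQ
    have hTcard : Nat.card T = n' := by rw [card_of_set_eq T n' hT, hcountQ]
    refine ⟨T.comap (QuotientGroup.mk' K), eq_of_sub_card _ n ?_ ?_⟩
    · intro h hh
      apply himp'
      have h1 : (h : G ⧸ K) ∈ (T : Set (G ⧸ K)) := hh
      rw [hT] at h1
      exact h1
    · rw [hcount, Cfsg.Agent.S3857.card_comap_mk, hKcard, hTcard, hnn']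
  · -- case A
    have hcop : Nat.Coprime n (p ^ i) :=
      Nat.Coprime.pow_right i ((Nat.Prime.coprime_iff_not_dvd hp).mpr hpn).symm
    have hnQ : n ∣ Nat.card (G ⧸ K) := by
      have h1 : n ∣ p ^ i * Nat.card (G ⧸ K) := by rw [← hGK, hN]; exact hn
      exact (Nat.Coprime.dvd_mul_left hcop).mp h1
    have hcountQ : Nat.card {w : G ⧸ K // w ^ n = 1} = n := by
      have h1 := lift_bound K n (p ^ i) (Nat.one_lt_pow hi0 hp.one_lt) hcop hKq
      rw [hcount] at h1
      exact le_antisymm h1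
        (Nat.le_of_dvd (card_pos_pow n) (Cfsg.Agent.Lib_helper5_FrobThm.frobenius n hnQ))
    obtain ⟨T, hT⟩ := ih _ hlt (G ⧸ K) rfl n hnQ hcountQ
    have hTcard : Nat.card T = n := by rw [card_of_set_eq T n hT, hcountQ]
    obtain ⟨S, hS⟩ : ∃ S : Subgroup G, S = T.comap (QuotientGroup.mk' K) := ⟨_, rfl⟩
    have hScard : Nat.card S = p ^ i * n := by
      rw [hS, Cfsg.Agent.S3857.card_comap_mk, hKcard, hTcard]
    have hKS : K ≤ S := by
      intro z hz
      rw [hS, Subgroup.mem_comap, QuotientGroup.mk'_apply, (QuotientGroup.eq_one_iff z).mpr hz]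
      exact one_mem _
    have hK'card : Nat.card (K.subgroupOf S) = p ^ i := by
      rw [← hKcard]
      exact Nat.card_congr (Subgroup.subgroupOfEquivOfLe hKS).toEquiv
    have hK'idx : (K.subgroupOf S).index = n := by
      have h1 := Subgroup.card_mul_index (K.subgroupOf S)
      rw [hK'card, hScard] at h1
      exact Nat.eq_of_mul_eq_mul_left (pow_pos hp.pos i) h1
    obtain ⟨C, hC⟩ := Subgroup.exists_right_complement'_of_coprime (N := K.subgroupOf S)
      (by rw [hK'card, hK'idx]; exact hcop.symm)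
    have hCcard : Nat.card C = n := by
      have h1 := hC.card_mul_card
      rw [hK'card, hScard] at h1
      exact Nat.eq_of_mul_eq_mul_left (pow_pos hp.pos i) h1
    refine ⟨C.map S.subtype, eq_of_sub_card _ n ?_ ?_⟩
    · rintro _ ⟨c, hc, rfl⟩
      have h1 : c ^ n = 1 := by
        rw [← hCcard]
        exact orderOf_dvd_iff_pow_eq_one.mp (Subgroup.orderOf_dvd_natCard C hc)
      have h2 := congrArg Subtype.val h1
      simpa using h2
    · rw [hcount, Subgroup.card_map_of_injective S.subtype_injective, hCcard]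


/-- If `G` is a finite solvable group and `n` divides the order of `G` and exactly `n` elements `x` of `G` satisfy `x^n = 1`, then these elements form a normal subgroup. -/
theorem result {G : Type*} [Group G] [Finite G] [Group.IsSolvable G] (n : ℕ) (hn : n ∣ Nat.card G) (hcount : Nat.card {x : G // x ^ n = 1} = n) : ∃ H : Subgroup G, H.Normal ∧ (H : Set G) = {x : G | x ^ n = 1} := by
  obtain ⟨H, hH⟩ := main (Nat.card G) G rfl n hn hcount
  refine ⟨H, ⟨fun x hx g => ?_⟩, hH⟩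
  have h1 : x ∈ (H : Set G) := hx
  rw [hH] at h1
  have h2 : g * x * g⁻¹ ∈ (H : Set G) := by
    rw [hH]
    show (g * x * g⁻¹) ^ n = 1
    rw [conj_pow, show x ^ n = 1 from h1, mul_one, mul_inv_cancel]
  exact h2

end Cfsg.Agent.S4213
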