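import Cfsg.Statements.S4238
import Cfsg.Agent.Lib_helper1_MinNonNil
import Cfsg.Agent.Lib_helper1_Fitting
import Cfsg.Agent.S4001
import Cfsg.Agent.S3857

set_option autoImplicit false
open Cfsg

namespace Cfsg.Agent.S4238

open scoped Pointwise
universe u

/-- the section property, in homomorphic-image form -/
def Good (p : ℕ) (K : Type u) [Group K] : Prop :=
  ∀ (L : Type u) [Group L] (H : Subgroup K) (φ : ↥H →* L), Function.Surjective φ →
    Cfsg.pPrimeCore p L = ⊥ → ∃ k : L, orderOf k = Monoid.exponent L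

theorem core_bot_of_equiv {p : ℕ} {A B : Type*} [Group A] [Group B] (e : A ≃* B)
    (h : Cfsg.pPrimeCore p A = ⊥) : Cfsg.pPrimeCore p B = ⊥ := by
  unfold Cfsg.pPrimeCore at h ⊢
  rw [sSup_eq_bot] at h ⊢
  rintro N ⟨hN, hc⟩
  have h1 := h (N.map e.symm.toMonoidHom) ⟨hN.map _ e.symm.surjective, by
    rw [Subgroup.card_map_of_injective e.symm.injective]; exact hc⟩
  rw [eq_bot_iff]
  intro x hx
  have h2 : e.symm x ∈ N.map e.symm.toMonoidHom := Subgroup.mem_map_of_mem _ hx
  rw [h1, Subgroup.mem_bot] at h2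
  rw [Subgroup.mem_bot]
  exact (EmbeddingLike.map_eq_one_iff (f := e.symm)).mp h2

theorem good_of_sections {p : ℕ} {G : Type u} [Group G]
    (h : ∀ (H : Subgroup G) (N : Subgroup H) [N.Normal], Cfsg.pPrimeCore p (H ⧸ N) = ⊥ →
      ∃ k : H ⧸ N, orderOf k = Monoid.exponent (H ⧸ N)) : Good p G := by
  intro L _ H φ hφ hcore
  obtain ⟨e⟩ : Nonempty (H ⧸ φ.ker ≃* L) := ⟨QuotientGroup.quotientKerEquivOfSurjective φ hφ⟩
  obtain ⟨k, hk⟩ := h H φ.ker (core_bot_of_equiv e.symm hcore)
  refine ⟨e k, ?_⟩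
  rw [MulEquiv.orderOf_eq, hk]
  exact Monoid.exponent_eq_of_mulEquiv e

theorem good_subgroup {p : ℕ} {K : Type u} [Group K] (hK : Good p K) (H : Subgroup K) :
    Good p ↥H := by
  intro L _ H' φ hφ hcore
  obtain ⟨e⟩ : Nonempty (↥H' ≃* ↥(H'.map H.subtype)) :=
    ⟨H'.equivMapOfInjective H.subtype H.subtype_injective⟩
  exact hK L (H'.map H.subtype) (φ.comp e.symm.toMonoidHom)
    (hφ.comp e.symm.surjective) hcore

theorem good_quotient {p : ℕ} {K : Type u} [Group K] (hK : Good p K) (M : Subgroup K)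
    [M.Normal] : Good p (K ⧸ M) := by
  intro L _ H' φ hφ hcore
  exact hK L (H'.comap (QuotientGroup.mk' M))
    (φ.comp ((QuotientGroup.mk' M).subgroupComap H'))
    (hφ.comp (MonoidHom.subgroupComap_surjective_of_surjective _ _
      (QuotientGroup.mk'_surjective M))) hcore

theorem good_self {p : ℕ} {K : Type u} [Group K] (hK : Good p K)
    (hcore : Cfsg.pPrimeCore p K = ⊥) : ∃ k : K, orderOf k = Monoid.exponent K :=
  hK K ⊤ (⊤ : Subgroup K).subtype (fun x => ⟨⟨x, Subgroup.mem_top x⟩, rfl⟩) hcore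

theorem stab_chain {K : Type*} [Group K] (Q M : Subgroup K) (g : K) (n a p : ℕ)
    (hcop : Nat.Coprime n (p ^ a)) (hgn : g ^ n = 1) (hQ : ∀ q ∈ Q, q ^ (p ^ a) = 1)
    (hMQ : M ≤ Q) (hM : ∀ m ∈ M, g * m = m * g)
    (hQM : ∀ q ∈ Q, q⁻¹ * (g * q * g⁻¹) ∈ M) : ∀ q ∈ Q, g * q = q * g := by
  intro q hq
  obtain ⟨m, hm⟩ : ∃ m, m = q⁻¹ * (g * q * g⁻¹) := ⟨_, rfl⟩
  have hmM : m ∈ M := by rw [hm]; exact hQM q hq
  have hqm : q * m = g * q * g⁻¹ := by rw [hm]; group
  have h1 : ∀ i : ℕ, g ^ i * q * (g ^ i)⁻¹ = q * m ^ i := by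
    intro i
    induction i with
    | zero => simp
    | succ i ih =>
      have hc : g * m ^ i = m ^ i * g :=
        ((show Commute g m from hM m hmM).pow_right i).eq
      calc g ^ (i + 1) * q * (g ^ (i + 1))⁻¹ = g * (g ^ i * q * (g ^ i)⁻¹) * g⁻¹ := by
            rw [pow_succ']; group
        _ = g * (q * m ^ i) * g⁻¹ := by rw [ih]
        _ = (g * q * g⁻¹) * (g * m ^ i * g⁻¹) := by group
        _ = (q * m) * (m ^ i * g * g⁻¹) := by rw [hc, ← hqm]
        _ = q * m ^ (i + 1) := by rw [pow_succ']; group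
  have h2 := h1 n
  rw [hgn] at h2
  have h3 : m ^ n = 1 := by simpa using h2.symm
  have h4 : m ^ (p ^ a) = 1 := hQ m (hMQ hmM)
  have h5 : m = 1 := by
    have h6 : orderOf m ∣ n := orderOf_dvd_of_pow_eq_one h3
    have h7 : orderOf m ∣ p ^ a := orderOf_dvd_of_pow_eq_one h4
    exact orderOf_eq_one_iff.mp
      (Nat.Coprime.eq_one_of_dvd (Nat.Coprime.coprime_dvd_left h6 hcop) h7)
  have h8 : g * q * g⁻¹ = q := by rw [← hqm, h5, mul_one]
  calc g * q = (g * q * g⁻¹) * g := by group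
    _ = q * g := by rw [h8]

theorem npc_quotient {p : ℕ} [Fact p.Prime] {K : Type*} [Group K] [Finite K]
    (h : Cfsg.Agent.Lib_helper1_Frobenius.NPC p K) (M : Subgroup K) [M.Normal] :
    Cfsg.Agent.Lib_helper1_Frobenius.NPC p (K ⧸ M) := by
  obtain ⟨N, hN, hc, k, hk⟩ := h
  have hp : p.Prime := Fact.out
  refine ⟨N.map (QuotientGroup.mk' M), hN.map _ (QuotientGroup.mk'_surjective M), ?_, ?_⟩
  · exact Nat.Coprime.coprime_dvd_left (Subgroup.card_map_dvd N (QuotientGroup.mk' M)) hc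
  · have h1 : (N.map (QuotientGroup.mk' M)).index ∣ N.index :=
      Subgroup.index_map_dvd N (QuotientGroup.mk'_surjective M)
    rw [hk] at h1
    obtain ⟨j, -, hj⟩ := (Nat.dvd_prime_pow hp).mp h1
    exact ⟨j, hj⟩

theorem pgroup_exp {p : ℕ} [Fact p.Prime] {L : Type*} [Group L] [Finite L] (k : ℕ)
    (hL : Nat.card L = p ^ k) : ∃ x : L, orderOf x = Monoid.exponent L := by
  have hp : p.Prime := Fact.out
  have hE : Monoid.exponent L ∣ p ^ k := by rw [← hL]; exact Group.exponent_dvd_nat_card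
  obtain ⟨j, -, hj⟩ := (Nat.dvd_prime_pow hp).mp hE
  by_contra hcon
  push Not at hcon
  rcases Nat.eq_zero_or_pos j with rfl | hjpos
  · exact hcon 1 (by rw [orderOf_one, hj, pow_zero])
  · have h1 : Monoid.exponent L ∣ p ^ (j - 1) := by
      rw [Monoid.exponent_dvd_iff_forall_pow_eq_one]
      intro x
      have h2 : orderOf x ∣ p ^ j := by rw [← hj]; exact Monoid.order_dvd_exponent x
      obtain ⟨i, hij, hi⟩ := (Nat.dvd_prime_pow hp).mp h2
      have hi' : i ≠ j := by rintro rfl; exact hcon x (by rw [hi, hj])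
      have h3 : orderOf x ∣ p ^ (j - 1) := by rw [hi]; exact pow_dvd_pow p (by omega)
      exact orderOf_dvd_iff_pow_eq_one.mp h3
    rw [hj] at h1
    have h4 := Nat.le_of_dvd (pow_pos hp.pos _) h1
    have h5 : p ^ (j - 1) < p ^ j := Nat.pow_lt_pow_right hp.one_lt (by omega)
    omega

theorem npc_of_good (p : ℕ) [Fact p.Prime] (n : ℕ) : ∀ (K : Type u) [Group K] [Finite K],
    Nat.card K = n → Good p K → Cfsg.Agent.Lib_helper1_Frobenius.NPC p K := by
  induction n using Nat.strong_induction_on with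
  | _ n ih =>
  intro K _ _ hn hgood
  have hp : p.Prime := Fact.out
  by_contra hnpc
  have hsub : ∀ H : Subgroup K, H ≠ ⊤ → Cfsg.Agent.Lib_helper1_Frobenius.NPC p ↥H := by
    intro H hH
    have hlt : Nat.card ↥H < n := by
      rw [← hn]
      exact lt_of_le_of_ne (Subgroup.card_le_card_group H)
        (fun h => hH ((Subgroup.card_eq_iff_eq_top H).mp h))
    exact ih _ hlt ↥H rfl (good_subgroup hgood H)
  have hquot : ∀ (M : Subgroup K) [M.Normal], M ≠ ⊥ →
      Cfsg.Agent.Lib_helper1_Frobenius.NPC p (K ⧸ M) := by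
    intro M _ hM
    have hlt : Nat.card (K ⧸ M) < n := by
      rw [← hn, ← Subgroup.card_mul_index M]
      have h1 : 1 < Nat.card ↥M := by
        rw [Finite.one_lt_card_iff_nontrivial]
        exact (Subgroup.nontrivial_iff_ne_bot M).mpr hM
      have h2 : 0 < M.index := Nat.pos_of_ne_zero Subgroup.index_ne_zero_of_finite
      show M.index < Nat.card ↥M * M.index
      nlinarith
    exact ih _ hlt (K ⧸ M) rfl (good_quotient hgood M)
  have hcore : Cfsg.pPrimeCore p K = ⊥ := by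
    unfold Cfsg.pPrimeCore
    rw [sSup_eq_bot]
    rintro N ⟨hN, hc⟩
    by_contra hN1
    haveI := hN
    obtain ⟨N', hN'n, hN'c, k, hk⟩ := hquot N hN1
    apply hnpc
    refine ⟨N'.comap (QuotientGroup.mk' N), hN'n.comap _, ?_, k, ?_⟩
    · rw [Cfsg.Agent.S3857.card_comap_mk]
      exact Nat.Coprime.mul_left hc hN'c
    · rw [Subgroup.index_comap_of_surjective N' (QuotientGroup.mk'_surjective N)]; exact hk
  obtain ⟨k, hk⟩ := good_self hgood hcore
  obtain ⟨Q, g, hQ, hQn, htop, hgcop, hgC, -⟩ :=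
    Cfsg.Agent.Lib_helper1_MinNonNil.ito_structure hnpc hsub
  haveI := hQn
  obtain ⟨a, ha⟩ := hQ.exists_card_eq
  obtain ⟨n₀, hn₀⟩ : ∃ n₀, n₀ = orderOf g := ⟨_, rfl⟩
  rw [← hn₀] at hgcop
  have hn₀pos : 0 < n₀ := by rw [hn₀]; exact orderOf_pos g
  have hcopa : Nat.Coprime n₀ (p ^ a) := Nat.Coprime.pow_right a hgcop
  have hQpa : ∀ q ∈ Q, q ^ (p ^ a) = 1 := by
    intro q hq
    rw [← ha]
    exact orderOf_dvd_iff_pow_eq_one.mp (Subgroup.orderOf_dvd_natCard Q hq)
  have hinf : Q ⊓ Subgroup.zpowers g = ⊥ := by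
    rw [eq_bot_iff]
    intro x hx
    obtain ⟨hxQ, hxZ⟩ := Subgroup.mem_inf.mp hx
    have h1 : orderOf x ∣ p ^ a := orderOf_dvd_of_pow_eq_one (hQpa x hxQ)
    have h2 : orderOf x ∣ n₀ := by rw [hn₀]; exact orderOf_dvd_of_mem_zpowers hxZ
    rw [Subgroup.mem_bot]
    exact orderOf_eq_one_iff.mp
      (Nat.Coprime.eq_one_of_dvd (Nat.Coprime.coprime_dvd_left h2 hcopa) h1)
  have hcardK : Nat.card K = p ^ a * n₀ := by
    have h1 := Cfsg.Agent.Lib_helper1_Fitting.card_sup_eq (Subgroup.zpowers g) Q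
    rw [sup_comm, htop, Subgroup.card_top, ← Subgroup.inf_relIndex_right, hinf,
      Subgroup.relIndex_bot_left, Nat.card_zpowers, ha, ← hn₀] at h1
    exact h1
  have hQidx : Q.index = n₀ := by
    have h1 := Subgroup.card_mul_index Q
    rw [ha, hcardK] at h1
    exact Nat.eq_of_mul_eq_mul_left (pow_pos hp.pos a) h1
  have hE0 : Monoid.exponent K ≠ 0 := Monoid.exponent_ne_zero_of_finite
  obtain ⟨e, m', hm'p, hEq⟩ := Nat.exists_eq_pow_mul_and_not_dvd hE0 p hp.ne_one
  have hm'n : m' = n₀ := by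
    apply Nat.dvd_antisymm
    · have h1 : m' ∣ p ^ a * n₀ := by
        rw [← hcardK]
        exact dvd_trans (Dvd.intro_left _ hEq.symm) Group.exponent_dvd_nat_card
      have h2 : Nat.Coprime m' (p ^ a) :=
        Nat.Coprime.pow_right a ((Nat.Prime.coprime_iff_not_dvd hp).mpr hm'p).symm
      exact (Nat.Coprime.dvd_mul_left h2).mp h1
    · have h1 : n₀ ∣ p ^ e * m' := by
        rw [← hEq, hn₀]; exact Monoid.order_dvd_exponent g
      exact (Nat.Coprime.dvd_mul_left (Nat.Coprime.pow_right e hgcop)).mp h1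
  subst hm'n
  have hko : orderOf k = p ^ e * m' := by rw [hk, hEq]
  have hcope : Nat.Coprime m' (p ^ e) := Nat.Coprime.pow_right e hgcop
  obtain ⟨g', hg'⟩ : ∃ g', g' = k ^ (p ^ e) := ⟨_, rfl⟩
  obtain ⟨v, hv⟩ : ∃ v, v = k ^ m' := ⟨_, rfl⟩
  have hg'o : orderOf g' = m' := by
    have h1 := orderOf_pow_orderOf_div (x := k) (n := m') (by rw [hko]; exact Nat.mul_ne_zero (pow_pos hp.pos e).ne' hn₀pos.ne')
      (by rw [hko]; exact dvd_mul_left _ _)
    rw [hko, Nat.mul_div_cancel _ hn₀pos] at h1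
    rw [hg']; exact h1
  have hvo : orderOf v = p ^ e := by
    have h1 := orderOf_pow_orderOf_div (x := k) (n := p ^ e) (by rw [hko]; exact Nat.mul_ne_zero (pow_pos hp.pos e).ne' hn₀pos.ne')
      (by rw [hko]; exact dvd_mul_right _ _)
    rw [hko, Nat.mul_div_cancel_left _ (pow_pos hp.pos e)] at h1
    rw [hv]; exact h1
  have hcomm : g' * v = v * g' := by
    rw [hg', hv, ← pow_add, ← pow_add, add_comm]
  have hQexp : ∀ q ∈ Q, q ^ (p ^ e) = 1 := by
    intro q hq
    have h1 : orderOf q ∣ p ^ e * m' := by rw [← hEq]; exact Monoid.order_dvd_exponent q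
    have h2 : orderOf q ∣ p ^ a := orderOf_dvd_of_pow_eq_one (hQpa q hq)
    have h3 : Nat.Coprime (orderOf q) m' := (Nat.Coprime.coprime_dvd_right h2 hcopa).symm
    exact orderOf_dvd_iff_pow_eq_one.mp ((Nat.Coprime.dvd_mul_right h3).mp h1)
  have hvQ : v ∈ Q := by
    apply Cfsg.Agent.Lib_helper1_MinNonNil.pow_coprime_mem Q v hcope.symm
    · rw [← hvo, pow_orderOf_eq_one]; exact one_mem _
    · rw [← hQidx]; exact Subgroup.pow_index_mem Q v
  have hg'n : g' ^ m' = 1 := by rw [← hg'o]; exact pow_orderOf_eq_one g'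
  have htop' : Q ⊔ Subgroup.zpowers g' = ⊤ := by
    apply Subgroup.eq_top_of_card_eq
    apply le_antisymm (Subgroup.card_le_card_group _)
    rw [hcardK]
    apply Nat.le_of_dvd Nat.card_pos
    apply Nat.Coprime.mul_dvd_of_dvd_of_dvd hcopa.symm
    · rw [← ha]; exact Subgroup.card_dvd_of_le le_sup_left
    · have h1 : Nat.card ↥(Subgroup.zpowers g') = m' := by rw [Nat.card_zpowers, hg'o]
      rw [← h1]; exact Subgroup.card_dvd_of_le le_sup_right
  have hg'C : ¬ (∀ q ∈ Q, g' * q = q * g') := by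
    intro hall
    apply hnpc
    have hcen : ∀ x : K, x * g' = g' * x := by
      intro x
      have hx : x ∈ Subgroup.centralizer ({g'} : Set K) := by
        have h1 : Q ⊔ Subgroup.zpowers g' ≤ Subgroup.centralizer ({g'} : Set K) := by
          apply sup_le
          · intro q hq
            rw [Subgroup.mem_centralizer_singleton_iff]
            exact (hall q hq).symm
          · rw [Subgroup.zpowers_le, Subgroup.mem_centralizer_singleton_iff]
        rw [htop'] at h1
        exact h1 (Subgroup.mem_top x)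
      rw [Subgroup.mem_centralizer_singleton_iff] at hx
      exact hx
    have hZn : (Subgroup.zpowers g').Normal := by
      refine ⟨fun z hz x => ?_⟩
      obtain ⟨i, rfl⟩ := hz
      have hc : x * g' ^ i = g' ^ i * x := ((show Commute x g' from hcen x).zpow_right i).eq
      rw [hc, mul_inv_cancel_right]
      exact zpow_mem (Subgroup.mem_zpowers g') i
    have hZc : Nat.card ↥(Subgroup.zpowers g') = m' := by rw [Nat.card_zpowers, hg'o]
    refine ⟨Subgroup.zpowers g', hZn, by rw [hZc]; exact hgcop, a, ?_⟩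
    have h1 := Subgroup.card_mul_index (Subgroup.zpowers g')
    rw [hZc, hcardK, mul_comm] at h1
    exact Nat.eq_of_mul_eq_mul_right hn₀pos h1
  have ha0 : a ≠ 0 := by
    rintro rfl
    apply hgC
    rw [pow_zero, Subgroup.card_eq_one] at ha
    rw [Subgroup.mem_centralizer_iff]
    intro h hh
    have hh1 : h = 1 := by
      have : h ∈ (⊥ : Subgroup K) := by rw [← ha]; exact hh
      exact Subgroup.mem_bot.mp this
    rw [hh1, one_mul, mul_one]
  have key : ∀ M : Subgroup K, M.Normal → M ≤ Q → M ≠ ⊥ → M = Q := by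
    intro M hMn hMQ hM1
    by_contra hMne
    haveI := hMn
    apply hg'C
    apply stab_chain Q M g' m' a p hcopa hg'n hQpa hMQ
    · -- g' centralizes M
      have hne : M ⊔ Subgroup.zpowers g' ≠ ⊤ := by
        intro hT
        apply hMne
        apply Subgroup.eq_of_le_of_card_ge hMQ
        have h1 := Cfsg.Agent.Lib_helper1_Fitting.card_sup_eq (Subgroup.zpowers g') M
        rw [sup_comm, hT, Subgroup.card_top, hcardK] at h1
        have h2 : M.relIndex (Subgroup.zpowers g') ∣ m' := by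
          have := Subgroup.relIndex_dvd_card M (Subgroup.zpowers g')
          rwa [Nat.card_zpowers, hg'o] at this
        have h3 : p ^ a ∣ Nat.card ↥M := by
          have h4 : p ^ a ∣ Nat.card ↥M * M.relIndex (Subgroup.zpowers g') := by
            rw [← h1]; exact dvd_mul_right _ _
          exact (Nat.Coprime.dvd_mul_right
            (Nat.Coprime.coprime_dvd_right h2 hcopa.symm)).mp h4
        rw [ha]
        exact Nat.le_of_dvd Nat.card_pos h3
      have hF := Cfsg.Agent.Lib_helper1_Frobenius.frobHyp_of_npc (hsub _ hne)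
      have h1 := Cfsg.Agent.Lib_helper1_Frobenius.frobHyp_apply_sub _ hF M (hQ.to_le hMQ)
        le_sup_left g' (le_sup_right (a := M) (Subgroup.mem_zpowers g'))
        (by rw [Subgroup.normalizer_eq_top_iff.mpr hMn]; exact Subgroup.mem_top _)
        (by rw [hg'o]; exact hgcop)
      rw [Subgroup.mem_centralizer_iff] at h1
      intro m hm
      exact (h1 m hm).symm
    · -- g' centralizes Q / M
      have hF := Cfsg.Agent.Lib_helper1_Frobenius.frobHyp_of_npc (hquot M hM1)
      have hQ'n : (Q.map (QuotientGroup.mk' M)).Normal :=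
        hQn.map _ (QuotientGroup.mk'_surjective M)
      have h1 := hF (Q.map (QuotientGroup.mk' M)) (hQ.map _) (QuotientGroup.mk' M g')
        (by rw [Subgroup.normalizer_eq_top_iff.mpr hQ'n]; exact Subgroup.mem_top _)
        (Nat.Coprime.coprime_dvd_left (orderOf_map_dvd _ g') (by rw [hg'o]; exact hgcop))
      rw [Subgroup.mem_centralizer_iff] at h1
      intro q hq
      have h2 := h1 (QuotientGroup.mk' M q) (Subgroup.mem_map_of_mem _ hq)
      rw [← QuotientGroup.eq_one_iff]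
      have h3 : ((q⁻¹ * (g' * q * g'⁻¹) : K) : K ⧸ M) =
          (QuotientGroup.mk' M q)⁻¹ * (QuotientGroup.mk' M g' * QuotientGroup.mk' M q *
            (QuotientGroup.mk' M g')⁻¹) := rfl
      rw [h3, ← h2]
      group
  obtain ⟨Ω, hΩn, hΩmem⟩ := Cfsg.Agent.S4001.exists_omega Q p
  have hΩQ : Ω = Q := by
    apply key Ω hΩn (fun z hz => ((hΩmem z).mp hz).1)
    obtain ⟨z, hzQ, hz1, hzc, hzp⟩ := Cfsg.Agent.S4001.exists_central_order Q hQ.isNilpotent p hp
      (by rw [ha]; exact dvd_pow_self p ha0)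
    intro hbot
    apply hz1
    have : z ∈ Ω := (hΩmem z).mpr ⟨hzQ, hzc, hzp⟩
    rw [hbot] at this
    exact Subgroup.mem_bot.mp this
  have hQab : ∀ x ∈ Q, ∀ y ∈ Q, x * y = y * x := by
    intro x hx y hy
    have h1 : y ∈ Ω := by rw [hΩQ]; exact hy
    exact ((hΩmem y).mp h1).2.1 x hx
  obtain ⟨M₂, hM₂⟩ : ∃ M₂ : Subgroup K, M₂ = Q ⊓ Subgroup.centralizer ({g'} : Set K) := ⟨_, rfl⟩
  have hM₂mem : ∀ c, c ∈ M₂ ↔ c ∈ Q ∧ c * g' = g' * c := by
    intro c
    rw [hM₂, Subgroup.mem_inf, Subgroup.mem_centralizer_singleton_iff]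
  have hM₂cen : ∀ x : K, ∀ c ∈ M₂, x * c = c * x := by
    intro x c hc
    obtain ⟨hcQ, hcg⟩ := (hM₂mem c).mp hc
    have hx : x ∈ Subgroup.centralizer ({c} : Set K) := by
      have h1 : Q ⊔ Subgroup.zpowers g' ≤ Subgroup.centralizer ({c} : Set K) := by
        apply sup_le
        · intro q hq
          rw [Subgroup.mem_centralizer_singleton_iff]
          exact hQab q hq c hcQ
        · rw [Subgroup.zpowers_le, Subgroup.mem_centralizer_singleton_iff]
          exact hcg.symm
      rw [htop'] at h1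
      exact h1 (Subgroup.mem_top x)
    rw [Subgroup.mem_centralizer_singleton_iff] at hx
    exact hx
  have hM₂n : M₂.Normal := by
    refine ⟨fun c hc x => ?_⟩
    rw [hM₂cen x c hc, mul_inv_cancel_right]
    exact hc
  have hM₂Q : M₂ = Q := by
    apply key M₂ hM₂n (fun c hc => ((hM₂mem c).mp hc).1)
    intro hbot
    have hvM : v ∈ M₂ := (hM₂mem v).mpr ⟨hvQ, hcomm.symm⟩
    rw [hbot, Subgroup.mem_bot] at hvM
    rw [hvM, orderOf_one] at hvo
    apply hg'C
    intro q hq
    have h1 := hQexp q hq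
    rw [← hvo, pow_one] at h1
    rw [h1, one_mul, mul_one]
  apply hg'C
  intro q hq
  have h1 : q ∈ M₂ := by rw [hM₂Q]; exact hq
  exact ((hM₂mem q).mp h1).2.symm


/-- Let G be a finite group and p a prime. Then G has a normal p-complement if and only if every section K = H/N of G (N a normal subgroup of a subgroup H) whose largest normal subgroup of order prime to p is trivial contains an element whose order equals the exponent of K. -/
theorem result {G : Type*} [Group G] [Finite G] (p : ℕ) [Fact p.Prime] :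
    Cfsg.HasNormalPComplement p G ↔
      ∀ (H : Subgroup G) (N : Subgroup H) [N.Normal], Cfsg.pPrimeCore p (H ⧸ N) = ⊥ →
        ∃ k : H ⧸ N, orderOf k = Monoid.exponent (H ⧸ N) := by
  constructor
  · intro h H N _ hcore
    have h1 := Cfsg.Agent.Lib_helper1_Frobenius.npc_of_hasNormalPComplement h
    have h2 := Cfsg.Agent.Lib_helper1_Frobenius.npc_subgroup h1 H
    obtain ⟨N₁, hN₁n, hN₁c, k, hk⟩ := npc_quotient h2 N
    have h3 : N₁ ≤ Cfsg.pPrimeCore p (↥H ⧸ N) := le_sSup ⟨hN₁n, hN₁c⟩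
    rw [hcore, le_bot_iff] at h3
    rw [h3, Subgroup.index_bot] at hk
    exact pgroup_exp k hk
  · intro h
    exact Cfsg.Agent.Lib_helper1_Frobenius.hasNormalPComplement_of_npc
      (npc_of_good p (Nat.card G) G rfl (good_of_sections h))

end Cfsg.Agent.S4238
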