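import Cfsg.Statements.S4262
import Cfsg.Agent.S4097

set_option autoImplicit false
open Cfsg

namespace Cfsg.Agent.S4262

open scoped Pointwise

universe u

abbrev Cz {G : Type*} [Group G] (x : G) : Subgroup G := Subgroup.centralizer ({x} : Set G)

theorem mem_Cz {G : Type*} [Group G] {x k : G} : k ∈ Cz x ↔ k * x = x * k :=
  Subgroup.mem_centralizer_singleton_iff

theorem sum_inv_sq_le (m : ℕ) (hm : 2 ≤ m) :
    ∑ n ∈ Finset.Icc 3 m, (1 : ℚ) / ((n : ℚ) ^ 2) ≤ 1 / 2 - 1 / (m : ℚ) := by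
  induction m, hm using Nat.le_induction with
  | base => norm_num
  | succ k hk ih =>
    rw [Finset.sum_Icc_succ_top (by omega)]
    have hk0 : (0 : ℚ) < k := by exact_mod_cast (by omega : 0 < k)
    have h1 : (1 : ℚ) / ((k + 1 : ℕ) : ℚ) ^ 2 ≤ 1 / (k : ℚ) - 1 / ((k + 1 : ℕ) : ℚ) := by
      push_cast
      rw [div_sub_div _ _ hk0.ne' (by positivity), div_le_div_iff₀ (by positivity) (by positivity)]
      nlinarith
    linarith

theorem center_index_sq {G : Type*} [Group G] [Finite G] (p : ℕ) [Fact p.Prime] (M : Subgroup G)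
    (hM : IsPGroup p M) (u v : G) (hu : u ∈ M) (hv : v ∈ M) (huv : u * v ≠ v * u) :
    Nat.card ↥(M ⊓ Subgroup.centralizer (M : Set G)) * p ^ 2 ≤ Nat.card M := by
  obtain ⟨Zs, hZs⟩ : ∃ Zs : Subgroup G, Zs = M ⊓ Subgroup.centralizer (M : Set G) := ⟨_, rfl⟩
  rw [← hZs]
  have hZM : Zs ≤ M := hZs ▸ inf_le_left
  have huZ : u ∉ Zs := by
    intro h
    rw [hZs] at h
    exact huv (Subgroup.mem_centralizer_iff.mp h.2 v hv).symm
  obtain ⟨W, hW⟩ : ∃ W : Subgroup G, W = Zs ⊔ Subgroup.zpowers u := ⟨_, rfl⟩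
  have hZW : Zs ≤ W := hW ▸ le_sup_left
  have hWM : W ≤ M := by rw [hW]; exact sup_le hZM (Subgroup.zpowers_le.mpr hu)
  have huW : u ∈ W := by rw [hW]; exact Subgroup.mem_sup_right (Subgroup.mem_zpowers u)
  have hWne : W ≠ M := by
    intro h
    apply huZ
    rw [hZs]
    apply Subgroup.mem_inf.mpr
    refine ⟨hu, ?_⟩
    have h1 : W ≤ Subgroup.centralizer ({u} : Set G) := by
      rw [hW]
      apply sup_le
      · intro z hz
        rw [hZs] at hz
        rw [Subgroup.mem_centralizer_singleton_iff]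
        exact (Subgroup.mem_centralizer_iff.mp hz.2 u hu).symm
      · rw [Subgroup.zpowers_le, Subgroup.mem_centralizer_singleton_iff]
    rw [Subgroup.mem_centralizer_iff]
    intro m hm
    exact Subgroup.mem_centralizer_singleton_iff.mp (h1 (h ▸ hm))
  obtain ⟨a, ha⟩ := (IsPGroup.iff_card).mp hM
  have hZp : IsPGroup p Zs := hM.to_le hZM
  have hWp : IsPGroup p W := hM.to_le hWM
  obtain ⟨c, hc⟩ := (IsPGroup.iff_card).mp hZp
  obtain ⟨w, hw⟩ := (IsPGroup.iff_card).mp hWp
  have hp := (Fact.out : p.Prime)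
  have h1 : Nat.card Zs < Nat.card W :=
    Cfsg.Agent.Lib_helper1_SZConj.card_lt_of_lt (lt_of_le_of_ne hZW (by
      intro h; exact huZ (h ▸ huW)))
  have h2 : Nat.card W < Nat.card M :=
    Cfsg.Agent.Lib_helper1_SZConj.card_lt_of_lt (lt_of_le_of_ne hWM hWne)
  rw [hc, hw] at h1
  rw [hw, ha] at h2
  have h3 : c < w := (Nat.pow_lt_pow_iff_right hp.one_lt).mp h1
  have h4 : w < a := (Nat.pow_lt_pow_iff_right hp.one_lt).mp h2
  rw [hc, ha, ← pow_add]
  exact Nat.pow_le_pow_right hp.pos (by omega)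

def Hyp (G : Type*) [Group G] : Prop :=
  ∀ g : G, g ∉ Subgroup.center G → IsCoatom (Subgroup.centralizer ({g} : Set G))

theorem hyp_quot {G : Type*} [Group G] (h : Hyp G) : Hyp (G ⧸ Subgroup.center G) := by
  intro gb hgb
  obtain ⟨g, rfl⟩ := QuotientGroup.mk'_surjective _ gb
  have hg : g ∉ Subgroup.center G := by
    intro hg
    apply hgb
    have : (QuotientGroup.mk' (Subgroup.center G)) g = 1 := (QuotientGroup.eq_one_iff g).mpr hg
    rw [this]
    exact Subgroup.one_mem _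
  have hM := h g hg
  constructor
  · intro htop
    apply hgb
    rw [Subgroup.mem_center_iff]
    intro y
    have : y ∈ Subgroup.centralizer
        ({(QuotientGroup.mk' (Subgroup.center G)) g} : Set (G ⧸ Subgroup.center G)) := by
      rw [htop]; exact Subgroup.mem_top y
    exact Subgroup.mem_centralizer_singleton_iff.mp this
  · intro K hK
    have hMK : Subgroup.centralizer ({g} : Set G) ≤
        K.comap (QuotientGroup.mk' (Subgroup.center G)) := by
      intro m hm
      rw [Subgroup.mem_comap]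
      apply hK.le
      rw [Subgroup.mem_centralizer_singleton_iff] at hm ⊢
      rw [← map_mul, ← map_mul, hm]
    rcases hM.le_iff.mp hMK with h1 | h1
    · rw [Subgroup.eq_top_iff']
      intro y
      obtain ⟨x, rfl⟩ := QuotientGroup.mk'_surjective _ y
      have : x ∈ K.comap (QuotientGroup.mk' (Subgroup.center G)) := by
        rw [h1]; exact Subgroup.mem_top x
      exact this
    · exfalso
      apply hK.ne
      apply le_antisymm hK.le
      intro y hy
      obtain ⟨x, rfl⟩ := QuotientGroup.mk'_surjective _ y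
      have hx : x ∈ Subgroup.centralizer ({g} : Set G) := by rw [← h1]; exact hy
      rw [Subgroup.mem_centralizer_singleton_iff] at hx ⊢
      rw [← map_mul, ← map_mul, hx]

theorem cz_eq_of_le {G : Type*} [Group G] (hco : ∀ x : G, x ≠ 1 → IsCoatom (Cz x)) {x u : G}
    (hx : x ≠ 1) (hu : u ≠ 1) (hle : Cz x ≤ Cz u) : Cz u = Cz x :=
  ((hco x hx).le_iff_eq (hco u hu).1).mp hle

theorem cz_le_pow {G : Type*} [Group G] (x : G) (n : ℕ) : Cz x ≤ Cz (x ^ n) := by
  intro k hk
  rw [mem_Cz] at hk ⊢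
  exact ((show Commute k x from hk).pow_right n).eq

theorem pow_order_eq_one {G : Type*} [Group G] [Finite G]
    (hco : ∀ x : G, x ≠ 1 → IsCoatom (Cz x)) {x y : G}
    (hx : x ≠ 1) (hy : y ≠ 1) (hxy : x * y = y * x) (hne : Cz x ≠ Cz y) :
    y ^ orderOf x = 1 := by
  by_contra hyn
  obtain ⟨n, hn⟩ : ∃ n, n = orderOf x := ⟨_, rfl⟩
  rw [← hn] at hyn
  have hwn : (x * y) ^ n = y ^ n := by
    rw [(show Commute x y from hxy).mul_pow, hn, pow_orderOf_eq_one, one_mul]
  have hw : x * y ≠ 1 := by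
    intro h
    rw [h, one_pow] at hwn
    exact hyn hwn.symm
  have h1 : Cz (y ^ n) = Cz y := cz_eq_of_le hco hy hyn (cz_le_pow y n)
  have h2 : Cz (x * y) ≤ Cz y := by
    have := cz_le_pow (x * y) n
    rw [hwn, h1] at this
    exact this
  have h3 : Cz y = Cz (x * y) := cz_eq_of_le hco hw hy h2
  have h4 : Cz y ≤ Cz x := by
    intro g hg
    have hg2 : g ∈ Cz (x * y) := h3 ▸ hg
    rw [mem_Cz] at hg hg2 ⊢
    have e1 : g * x = g * (x * y) * y⁻¹ := by group
    rw [e1, hg2]
    have e2 : x * y * g * y⁻¹ = x * (y * g) * y⁻¹ := by group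
    rw [e2, ← hg]
    group
  exact hne (cz_eq_of_le hco hy hx h4)

theorem order_eq_prime {G : Type*} [Group G] [Finite G]
    (hco : ∀ x : G, x ≠ 1 → IsCoatom (Cz x)) {x y : G}
    (hx : x ≠ 1) (hy : y ≠ 1) (hxy : x * y = y * x) (hne : Cz x ≠ Cz y) :
    orderOf x = orderOf y ∧ (orderOf x).Prime := by
  have h1 := pow_order_eq_one hco hx hy hxy hne
  have h2 := pow_order_eq_one hco hy hx hxy.symm (Ne.symm hne)
  have h3 : orderOf x = orderOf y :=
    Nat.dvd_antisymm (orderOf_dvd_of_pow_eq_one h2) (orderOf_dvd_of_pow_eq_one h1)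
  refine ⟨h3, ?_⟩
  have hn1 : orderOf x ≠ 1 := fun h => hx (orderOf_eq_one_iff.mp h)
  obtain ⟨p, hp, hpd⟩ := Nat.exists_prime_and_dvd hn1
  have hpos : orderOf x ≠ 0 := (orderOf_pos x).ne'
  have hx'o : orderOf (x ^ (orderOf x / p)) = p := orderOf_pow_orderOf_div hpos hpd
  obtain ⟨x', hx'⟩ : ∃ x', x' = x ^ (orderOf x / p) := ⟨_, rfl⟩
  rw [← hx'] at hx'o
  have hx'1 : x' ≠ 1 := by
    rintro rfl
    rw [orderOf_one] at hx'o
    exact hp.one_lt.ne hx'o
  have hc : Cz x' = Cz x := cz_eq_of_le hco hx hx'1 (by rw [hx']; exact cz_le_pow x _)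
  have hx'y : x' * y = y * x' := by
    rw [hx']
    exact ((show Commute x y from hxy).pow_left _).eq
  have h4 := pow_order_eq_one hco hx'1 hy hx'y (by rw [hc]; exact hne)
  rw [hx'o] at h4
  have h5 : orderOf y = p := by
    rcases (Nat.dvd_prime hp).mp (orderOf_dvd_of_pow_eq_one h4) with h | h
    · exact absurd (orderOf_eq_one_iff.mp h) hy
    · exact h
  rw [h3, h5]
  exact hp

theorem exponent_of_nonabelian {G : Type*} [Group G] [Finite G]
    (hco : ∀ x : G, x ≠ 1 → IsCoatom (Cz x)) {x : G} (hx : x ≠ 1)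
    (u v : G) (hu : u ∈ Cz x) (hv : v ∈ Cz x) (huv : u * v ≠ v * u) :
    (orderOf x).Prime ∧ ∀ y ∈ Cz x, y ^ orderOf x = 1 := by
  have hu1 : u ≠ 1 := by rintro rfl; simp at huv
  have hxu : x * u = u * x := (mem_Cz.mp hu).symm
  have hne : Cz x ≠ Cz u := by
    intro h
    have : v ∈ Cz u := h ▸ hv
    exact huv (mem_Cz.mp this).symm
  obtain ⟨h1, h2⟩ := order_eq_prime hco hx hu1 hxu hne
  refine ⟨h2, ?_⟩
  intro y hy
  by_cases hy1 : y = 1
  · rw [hy1, one_pow]
  have hxy : x * y = y * x := (mem_Cz.mp hy).symm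
  by_cases hc : Cz x = Cz y
  · have hyu : u * y = y * u := by
      have : u ∈ Cz y := hc ▸ hu
      exact mem_Cz.mp this
    have := pow_order_eq_one hco hu1 hy1 hyu (fun h => hne (hc.trans h.symm))
    rw [h1]; exact this
  · exact pow_order_eq_one hco hx hy1 hxy hc

theorem solv_of_abelian_coatom {G : Type u} [Group G] [Finite G]
    (hZ : Subgroup.center G = ⊥)
    (M : Subgroup G) (hM : IsCoatom M) (hab : ∀ a ∈ M, ∀ b ∈ M, a * b = b * a) (hne : M ≠ ⊥) :
    Group.IsSolvable G := by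
  obtain ⟨g0, hg0⟩ : ∃ g : G, g ∉ M := by
    by_contra h
    push Not at h
    exact hM.1 ((Subgroup.eq_top_iff' M).mpr h)
  by_cases hn : M.Normal
  · haveI := hn
    apply Cfsg.Agent.S4097.solv_of_cyclic_quot M hab g0
    apply hM.2
    apply lt_of_le_of_ne le_sup_left
    intro h
    apply hg0
    rw [h]
    exact Subgroup.mem_sup_right (Subgroup.mem_zpowers g0)
  have hNM : Subgroup.normalizer (M : Set G) = M := by
    have h1 : M ≤ Subgroup.normalizer (M : Set G) := Subgroup.le_normalizer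
    rcases hM.le_iff.mp h1 with h2 | h2
    · exact absurd (Subgroup.normalizer_eq_top_iff.mp h2) hn
    · exact h2
  have hF : Cfsg.IsFrobeniusComplement M := by
    refine ⟨hne, hM.1, ?_⟩
    intro g hg
    have hsup : M ⊔ MulAut.conj g • M = ⊤ := by
      apply hM.2
      apply lt_of_le_of_ne le_sup_left
      intro h
      apply hg
      rw [← hNM]
      apply Cfsg.Agent.Lib_helper1_Basic.mem_normalizer_of_conj_le
      intro m hm
      have h5 : g * m * g⁻¹ ∈ MulAut.conj g • M := by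
        rw [Cfsg.Agent.Lib_helper1_Basic.mem_conj_smul]
        have : g⁻¹ * (g * m * g⁻¹) * g = m := by group
        rw [this]; exact hm
      rw [h]
      exact Subgroup.mem_sup_right h5
    rw [eq_bot_iff]
    intro d hd
    rw [Subgroup.mem_bot]
    have hd1 : d ∈ M := hd.1
    have hd2 : g⁻¹ * d * g ∈ M := (Cfsg.Agent.Lib_helper1_Basic.mem_conj_smul M g d).mp hd.2
    have h1 : M ⊔ MulAut.conj g • M ≤ Subgroup.centralizer ({d} : Set G) := by
      apply sup_le
      · intro a ha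
        rw [Subgroup.mem_centralizer_singleton_iff]
        exact hab a ha d hd1
      · intro z hz
        rw [Cfsg.Agent.Lib_helper1_Basic.mem_conj_smul] at hz
        rw [Subgroup.mem_centralizer_singleton_iff]
        have h2 := hab _ hz _ hd2
        have e1 : z * d = g * (g⁻¹ * z * g * (g⁻¹ * d * g)) * g⁻¹ := by group
        have e2 : d * z = g * (g⁻¹ * d * g * (g⁻¹ * z * g)) * g⁻¹ := by group
        rw [e1, e2, h2]
    rw [hsup] at h1
    have h3 : d ∈ Subgroup.center G := by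
      rw [Subgroup.mem_center_iff]
      intro y
      exact Subgroup.mem_centralizer_singleton_iff.mp (h1 (Subgroup.mem_top y))
    rw [hZ, Subgroup.mem_bot] at h3
    exact h3
  obtain ⟨N, hNker, hNn, hNc⟩ := Cfsg.Agent.Lib_helper5_FrobKer.frobenius_kernel M hF
  haveI := hNn
  have hcardN : Nat.card N = M.index :=
    Cfsg.Agent.Lib_helper9_Frob.card_kernel_subgroup hF hNker
  have hcopM := Cfsg.Agent.Lib_helper9_Frob.coprime_index_card hF
  have hNM0 : N ⊓ M = ⊥ := disjoint_iff.mp hNc.disjoint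
  have hN1 : Nat.card N ≠ 1 := by
    rw [hcardN]
    intro h
    exact hM.1 (Subgroup.index_eq_one.mp h)
  obtain ⟨q, hq, hqd⟩ := Nat.exists_prime_and_dvd hN1
  haveI : Fact q.Prime := ⟨hq⟩
  have hcop : (Nat.card M).Coprime (Nat.card N) := by
    rw [hcardN]
    exact hcopM.symm
  have hMs : Group.IsSolvable M :=
    Group.isSolvable_of_comm (fun a b => Subtype.ext (hab a a.2 b b.2))
  obtain ⟨P, hP⟩ := Cfsg.Agent.Lib_helper1_Coprime.exists_invariant_sylow M N
    (by rw [Subgroup.normalizer_eq_top]; exact le_top) hcop (Or.inl hMs) q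
  obtain ⟨Q, hQdef⟩ : ∃ Q : Subgroup G, Q = (P : Subgroup N).map N.subtype := ⟨_, rfl⟩
  rw [← hQdef] at hP
  have hQN : Q ≤ N := by rw [hQdef]; exact Subgroup.map_subtype_le _
  have hQne : Q ≠ ⊥ := by
    rw [hQdef]
    intro h
    rw [Subgroup.map_eq_bot_iff_of_injective _ N.subtype_injective] at h
    exact P.ne_bot_of_dvd_card hqd h
  have hQs : Group.IsSolvable Q := by
    haveI : Group.IsNilpotent (P : Subgroup N) := P.isPGroup'.isNilpotent
    rw [hQdef]
    exact Cfsg.Agent.Lib_helper1_SZConj.isSolvable_map N.subtype (P : Subgroup N)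
  have hS := (Cfsg.Agent.Lib_helper2_PCons.sup_solvable_card Q M hP).1 hQs hMs
  have htop : Q ⊔ M = ⊤ := by
    apply hM.2
    apply lt_of_le_of_ne le_sup_right
    intro h
    apply hQne
    rw [eq_bot_iff, ← hNM0]
    exact le_inf hQN (by rw [h]; exact le_sup_left)
  haveI := hS
  exact Group.isSolvable_of_surjective (f := (Q ⊔ M).subtype) (by
    intro x
    exact ⟨⟨x, by rw [htop]; exact Subgroup.mem_top x⟩, rfl⟩)
theorem count_order {G : Type u} [Group G] [Finite G] (hns : ¬ Group.IsSolvable G)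
    (hco : ∀ x : G, x ≠ 1 → IsCoatom (Cz x))
    (hexp : ∀ x : G, x ≠ 1 → (orderOf x).Prime ∧ (∀ y ∈ Cz x, y ^ orderOf x = 1) ∧
      ∃ u ∈ Cz x, ∃ v ∈ Cz x, u * v ≠ v * u) (x0 : G) (hx0 : x0 ≠ 1) :
    Nat.card {y : G // orderOf y = orderOf x0} * (orderOf x0) ^ 2 ≤ Nat.card G := by
  obtain ⟨p, hpdef⟩ : ∃ p, p = orderOf x0 := ⟨_, rfl⟩
  rw [← hpdef]
  have hp : p.Prime := hpdef ▸ (hexp x0 hx0).1
  haveI : Fact p.Prime := ⟨hp⟩
  have hne1 : ∀ y : G, orderOf y = p → y ≠ 1 := by
    intro y hy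
    rintro rfl
    rw [orderOf_one] at hy
    exact hp.one_lt.ne hy
  have hpg : ∀ y : G, orderOf y = p → IsPGroup p (Cz y) := by
    intro y hy g
    refine ⟨1, ?_⟩
    rw [pow_one]
    have := (hexp y (hne1 y hy)).2.1 g g.2
    rw [hy] at this
    exact Subtype.ext this
  have hmax : ∀ y : G, orderOf y = p → ∀ Q : Subgroup G, IsPGroup p Q → Cz y ≤ Q →
      Q = Cz y := by
    intro y hy Q hQ hle
    rcases (hco y (hne1 y hy)).le_iff.mp hle with h1 | h1
    · exfalso
      apply hns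
      have hG : IsPGroup p G := by
        intro g
        obtain ⟨k, hk⟩ := hQ ⟨g, by rw [h1]; exact Subgroup.mem_top g⟩
        exact ⟨k, congrArg Subtype.val hk⟩
      haveI := hG.isNilpotent
      infer_instance
    · exact h1
  have Syl : ∀ y : G, orderOf y = p → ∃ S : Sylow p G, (S : Subgroup G) = Cz y :=
    fun y hy => ⟨{ toSubgroup := Cz y
                   isPGroup' := hpg y hy
                   is_maximal' := fun {Q} hQ hle => hmax y hy Q hQ hle }, rfl⟩
  obtain ⟨M, hMdef⟩ : ∃ M : Subgroup G, M = Cz x0 := ⟨_, rfl⟩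
  obtain ⟨Zs, hZs⟩ : ∃ Zs : Subgroup G, Zs = M ⊓ Subgroup.centralizer (M : Set G) := ⟨_, rfl⟩
  obtain ⟨S0, hS0⟩ := Syl x0 hpdef.symm
  have hconj : ∀ y : {y : G // orderOf y = p}, ∃ g : G, g⁻¹ * (y : G) * g ∈ Zs := by
    rintro ⟨y, hy⟩
    obtain ⟨Sy, hSy⟩ := Syl y hy
    obtain ⟨g, hg⟩ := MulAction.exists_smul_eq G S0 Sy
    have hmem : ∀ m : G, m ∈ Cz y ↔ g⁻¹ * m * g ∈ M := by
      intro m
      have h1 := Cfsg.Agent.Lib_helper1_Basic.mem_sylow_smul S0 g m
      rw [hg, hSy, hS0, ← hMdef] at h1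
      exact h1
    refine ⟨g, ?_⟩
    rw [hZs]
    apply Subgroup.mem_inf.mpr
    refine ⟨(hmem y).mp (mem_Cz.mpr rfl), ?_⟩
    rw [Subgroup.mem_centralizer_iff]
    intro m hm
    have h2 : g * m * g⁻¹ ∈ Cz y := by
      rw [hmem]
      have : g⁻¹ * (g * m * g⁻¹) * g = m := by group
      rw [this]; exact hm
    rw [mem_Cz] at h2
    have e1 : m * (g⁻¹ * y * g) = g⁻¹ * (g * m * g⁻¹ * y) * g := by group
    have e2 : g⁻¹ * y * g * m = g⁻¹ * (y * (g * m * g⁻¹)) * g := by group
    rw [e1, e2, h2]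
  choose gf hgf using hconj
  obtain ⟨ψ, hψd⟩ : ∃ ψ : {y : G // orderOf y = p} × M → G × Zs,
      ∀ a, ψ a = (gf a.1 * (a.2 : G), ⟨(gf a.1)⁻¹ * (a.1 : G) * gf a.1, hgf a.1⟩) :=
    ⟨fun a => (gf a.1 * (a.2 : G), ⟨(gf a.1)⁻¹ * (a.1 : G) * gf a.1, hgf a.1⟩), fun a => rfl⟩
  have hcomm : ∀ (y : {y : G // orderOf y = p}) (u : M),
      (y : G) = (gf y * (u : G)) * ((gf y)⁻¹ * (y : G) * gf y) * (gf y * (u : G))⁻¹ := by
    intro y u
    have hz := hgf y
    rw [hZs] at hz
    have h3 := Subgroup.mem_centralizer_iff.mp (Subgroup.mem_inf.mp hz).2 (u : G) u.2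
    have e : gf y * (u : G) * ((gf y)⁻¹ * (y : G) * gf y) * (gf y * (u : G))⁻¹
        = gf y * ((u : G) * ((gf y)⁻¹ * (y : G) * gf y)) * (u : G)⁻¹ * (gf y)⁻¹ := by group
    rw [e, h3]
    group
  have hψ : Function.Injective ψ := by
    rintro ⟨y, u⟩ ⟨y', u'⟩ heq
    rw [hψd, hψd] at heq
    obtain ⟨h1, h2⟩ := Prod.mk.inj heq
    have h2' : (gf y)⁻¹ * (y : G) * gf y = (gf y')⁻¹ * (y' : G) * gf y' :=
      congrArg Subtype.val h2
    have h1' : gf y * (u : G) = gf y' * (u' : G) := h1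
    have hy : y = y' := by
      apply Subtype.ext
      calc (y : G) = (gf y * (u : G)) * ((gf y)⁻¹ * (y : G) * gf y) * (gf y * (u : G))⁻¹ :=
            hcomm y u
        _ = (gf y' * (u' : G)) * ((gf y')⁻¹ * (y' : G) * gf y') * (gf y' * (u' : G))⁻¹ := by
            rw [h1', h2']
        _ = (y' : G) := (hcomm y' u').symm
    subst hy
    have hu : u = u' := Subtype.ext (mul_left_cancel h1')
    rw [hu]
  have hcard := Nat.card_le_card_of_injective ψ hψ
  rw [Nat.card_prod, Nat.card_prod] at hcard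
  obtain ⟨-, hex, u, hu, v, hv, huv⟩ := hexp x0 hx0
  have hMp : IsPGroup p M := hMdef ▸ hpg x0 hpdef.symm
  have hidx := center_index_sq p M hMp u v (hMdef ▸ hu) (hMdef ▸ hv) huv
  rw [← hZs] at hidx
  have hMpos : 0 < Nat.card M := Nat.card_pos
  have hfin : Nat.card {y : G // orderOf y = p} * p ^ 2 * Nat.card M ≤
      Nat.card G * Nat.card M := by
    calc Nat.card {y : G // orderOf y = p} * p ^ 2 * Nat.card M
        = Nat.card {y : G // orderOf y = p} * Nat.card M * p ^ 2 := by ring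
      _ ≤ Nat.card G * Nat.card Zs * p ^ 2 := Nat.mul_le_mul_right _ hcard
      _ = Nat.card G * (Nat.card Zs * p ^ 2) := by ring
      _ ≤ Nat.card G * Nat.card M := Nat.mul_le_mul_left _ hidx
  exact Nat.le_of_mul_le_mul_right hfin hMpos

theorem caseII {G : Type u} [Group G] [Finite G] (hns : ¬ Group.IsSolvable G)
    (hco : ∀ x : G, x ≠ 1 → IsCoatom (Cz x))
    (hexp : ∀ x : G, x ≠ 1 → (orderOf x).Prime ∧ (∀ y ∈ Cz x, y ^ orderOf x = 1) ∧
      ∃ u ∈ Cz x, ∃ v ∈ Cz x, u * v ≠ v * u) : False := by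
  classical
  haveI := Fintype.ofFinite G
  obtain ⟨N, hNdef⟩ : ∃ N, N = Nat.card G := ⟨_, rfl⟩
  have hN2 : 2 ≤ N := by
    by_contra hlt
    apply hns
    have : Nat.card G ≤ 1 := by omega
    haveI := Finite.card_le_one_iff_subsingleton.mp this
    infer_instance
  have hno2 : ∀ x : G, x ≠ 1 → 3 ≤ orderOf x := by
    intro x hx
    obtain ⟨hp, hex, u, hu, v, hv, huv⟩ := hexp x hx
    by_contra hlt
    have h2 : orderOf x = 2 := by
      have := hp.two_le
      omega
    rw [h2] at hex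
    apply huv
    have hu2 := hex u hu
    have hv2 := hex v hv
    have huv2 := hex (u * v) (mul_mem hu hv)
    have hu' : u⁻¹ = u := inv_eq_of_mul_eq_one_right (by rw [← pow_two]; exact hu2)
    have hv' : v⁻¹ = v := inv_eq_of_mul_eq_one_right (by rw [← pow_two]; exact hv2)
    have huv' : (u * v)⁻¹ = u * v := inv_eq_of_mul_eq_one_right (by rw [← pow_two]; exact huv2)
    rw [← huv', mul_inv_rev, hu', hv']
  have hcnt : ∀ n ∈ Finset.Icc 3 N,
      (((Finset.univ.filter (fun x : G => orderOf x = n)).card : ℕ) : ℚ) ≤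
        (N : ℚ) * (1 / (n : ℚ) ^ 2) := by
    intro n hn
    rw [Finset.mem_Icc] at hn
    have hn0 : (0 : ℚ) < n := by exact_mod_cast (by omega : 0 < n)
    have hnpos : (0 : ℚ) < (n : ℚ) ^ 2 := by positivity
    by_cases hem : (Finset.univ.filter (fun x : G => orderOf x = n)) = ∅
    · rw [hem, Finset.card_empty]
      positivity
    · obtain ⟨x0, hx0⟩ := Finset.nonempty_iff_ne_empty.mpr hem
      rw [Finset.mem_filter] at hx0
      have hx0n : orderOf x0 = n := hx0.2
      have hx01 : x0 ≠ 1 := by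
        rintro rfl
        rw [orderOf_one] at hx0n
        omega
      have h1 := count_order hns hco hexp x0 hx01
      rw [hx0n, ← hNdef] at h1
      have h2 : Nat.card {y : G // orderOf y = n} =
          (Finset.univ.filter (fun x : G => orderOf x = n)).card := by
        rw [Nat.card_eq_fintype_card, Fintype.card_subtype]
      rw [h2] at h1
      rw [mul_one_div, le_div_iff₀ hnpos]
      exact_mod_cast h1
  have hcover : Finset.univ.erase (1 : G) ⊆
      (Finset.Icc 3 N).biUnion (fun n => Finset.univ.filter (fun x : G => orderOf x = n)) := by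
    intro x hx
    rw [Finset.mem_erase] at hx
    rw [Finset.mem_biUnion]
    refine ⟨orderOf x, ?_, ?_⟩
    · rw [Finset.mem_Icc]
      refine ⟨hno2 x hx.1, ?_⟩
      rw [hNdef]
      exact Nat.le_of_dvd Nat.card_pos (orderOf_dvd_natCard x)
    · rw [Finset.mem_filter]
      exact ⟨Finset.mem_univ x, rfl⟩
  have h1 : N - 1 ≤ ∑ n ∈ Finset.Icc 3 N,
      (Finset.univ.filter (fun x : G => orderOf x = n)).card := by
    have h2 := Finset.card_le_card hcover
    rw [Finset.card_erase_of_mem (Finset.mem_univ _), Finset.card_univ,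
      ← Nat.card_eq_fintype_card, ← hNdef] at h2
    exact h2.trans Finset.card_biUnion_le
  have h3 : ((N - 1 : ℕ) : ℚ) ≤ ∑ n ∈ Finset.Icc 3 N, (N : ℚ) * (1 / (n : ℚ) ^ 2) := by
    have h8 : ((N - 1 : ℕ) : ℚ) ≤ ((∑ n ∈ Finset.Icc 3 N,
        (Finset.univ.filter (fun x : G => orderOf x = n)).card : ℕ) : ℚ) := by
      exact_mod_cast h1
    rw [Nat.cast_sum] at h8
    exact h8.trans (Finset.sum_le_sum hcnt)
  rw [← Finset.mul_sum] at h3
  have h4 := sum_inv_sq_le N hN2
  have hNpos : (0 : ℚ) < N := by exact_mod_cast (by omega : 0 < N)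
  have h5 : (N : ℚ) * ∑ n ∈ Finset.Icc 3 N, 1 / (n : ℚ) ^ 2 ≤ N * (1 / 2 - 1 / N) :=
    mul_le_mul_of_nonneg_left h4 hNpos.le
  have h6 : (N : ℚ) * (1 / 2 - 1 / N) = N / 2 - 1 := by field_simp
  have h7 : ((N - 1 : ℕ) : ℚ) = (N : ℚ) - 1 := by
    rw [Nat.cast_sub (by omega)]; simp
  rw [h7] at h3
  linarith

theorem aux (n : ℕ) : ∀ (G : Type u) [Group G] [Finite G], Nat.card G = n → Hyp G →
    Group.IsSolvable G := by
  induction n using Nat.strong_induction_on with
  | _ n IH =>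
  intro G _ _ hn h
  by_cases hZ : Subgroup.center G = ⊥
  · by_contra hns
    have hco : ∀ x : G, x ≠ 1 → IsCoatom (Cz x) := by
      intro x hx
      apply h
      rw [hZ, Subgroup.mem_bot]
      exact hx
    apply caseII hns hco
    intro x hx
    have hnab : ∃ u ∈ Cz x, ∃ v ∈ Cz x, u * v ≠ v * u := by
      by_contra hcon
      push Not at hcon
      apply hns
      apply solv_of_abelian_coatom hZ (Cz x) (hco x hx) hcon
      intro hb
      have : x ∈ Cz x := mem_Cz.mpr rfl
      rw [hb, Subgroup.mem_bot] at this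
      exact hx this
    obtain ⟨u, hu, v, hv, huv⟩ := hnab
    obtain ⟨h1, h2⟩ := exponent_of_nonabelian hco hx u v hu hv huv
    exact ⟨h1, h2, u, hu, v, hv, huv⟩
  · have hlt : Nat.card (G ⧸ Subgroup.center G) < n := by
      have h1 := Subgroup.card_eq_card_quotient_mul_card_subgroup (Subgroup.center G)
      have h2 := Cfsg.Agent.Lib_helper1_SZConj.two_le_card_of_ne_bot (Subgroup.center G) hZ
      have h3 : 0 < Nat.card (G ⧸ Subgroup.center G) := Nat.card_pos
      rw [← hn, h1]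
      nlinarith
    haveI : Group.IsSolvable (G ⧸ Subgroup.center G) := IH _ hlt _ rfl (hyp_quot h)
    haveI : Group.IsSolvable (Subgroup.center G) :=
      Group.isSolvable_of_comm (fun a b => Subtype.ext (Subgroup.mem_center_iff.mp b.2 a))
    exact Group.isSolvable_of_ker_le_range (Subgroup.center G).subtype
      (QuotientGroup.mk' (Subgroup.center G)) (by
        rw [QuotientGroup.ker_mk']
        intro x hx
        exact ⟨⟨x, hx⟩, rfl⟩)


/-- Let G be a finite group in which the centralizer of every non-central element is a maximal subgroup of G. Then G is solvable. -/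
theorem result {G : Type*} [Group G] [Finite G]
    (h : ∀ g : G, g ∉ Subgroup.center G → IsCoatom (Subgroup.centralizer ({g} : Set G))) :
    Group.IsSolvable G := by
  exact aux (Nat.card G) G rfl h

end Cfsg.Agent.S4262
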