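import Cfsg.Statements.S4298
import Mathlib
import Cfsg.Agent.Lib_helper4_FrobSemi

set_option autoImplicit false
open Cfsg

namespace Cfsg.Agent.S4298

open Matrix

abbrev G := Matrix.SpecialLinearGroup (Fin 2) (ZMod 3)

def tbl : Fin 3 → Fin 3 → Fin 3 → Fin 3 → Matrix (Fin 2) (Fin 2) (ZMod 5) :=
  ![![![![!![1, 0; 0, 1], !![1, 0; 0, 1], !![1, 0; 0, 1]],
      ![!![1, 0; 0, 1], !![1, 0; 0, 1], !![1, 0; 0, 1]],
      ![!![1, 0; 0, 1], !![1, 0; 0, 1], !![1, 0; 0, 1]]],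
    ![![!![1, 0; 0, 1], !![1, 0; 0, 1], !![1, 0; 0, 1]],
      ![!![1, 0; 0, 1], !![1, 0; 0, 1], !![1, 0; 0, 1]],
      ![!![0, 4; 1, 0], !![2, 4; 3, 4], !![3, 2; 1, 1]]],
    ![![!![1, 0; 0, 1], !![1, 0; 0, 1], !![1, 0; 0, 1]],
      ![!![0, 1; 4, 0], !![2, 3; 4, 4], !![3, 1; 2, 1]],
      ![!![1, 0; 0, 1], !![1, 0; 0, 1], !![1, 0; 0, 1]]]],
  ![![![!![1, 0; 0, 1], !![1, 0; 0, 1], !![1, 0; 0, 1]],
      ![!![1, 0; 0, 1], !![1, 2; 1, 3], !![1, 0; 0, 1]],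
      ![!![1, 0; 0, 1], !![3, 3; 4, 1], !![1, 0; 0, 1]]],
    ![![!![1, 0; 0, 1], !![1, 1; 2, 3], !![1, 0; 0, 1]],
      ![!![1, 0; 0, 1], !![1, 0; 0, 1], !![0, 2; 2, 0]],
      ![!![4, 2; 1, 2], !![1, 0; 0, 1], !![1, 0; 0, 1]]],
    ![![!![1, 0; 0, 1], !![3, 4; 3, 1], !![1, 0; 0, 1]],
      ![!![4, 1; 2, 2], !![1, 0; 0, 1], !![1, 0; 0, 1]],
      ![!![1, 0; 0, 1], !![1, 0; 0, 1], !![3, 0; 0, 2]]]],
  ![![![!![1, 0; 0, 1], !![1, 0; 0, 1], !![4, 0; 0, 4]],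
      ![!![1, 0; 0, 1], !![1, 0; 0, 1], !![2, 2; 1, 4]],
      ![!![1, 0; 0, 1], !![1, 0; 0, 1], !![4, 3; 4, 2]]],
    ![![!![1, 0; 0, 1], !![1, 0; 0, 1], !![2, 1; 2, 4]],
      ![!![1, 0; 0, 1], !![2, 0; 0, 3], !![1, 0; 0, 1]],
      ![!![1, 4; 3, 3], !![1, 0; 0, 1], !![1, 0; 0, 1]]],
    ![![!![1, 0; 0, 1], !![1, 0; 0, 1], !![4, 4; 3, 2]],
      ![!![1, 3; 4, 3], !![1, 0; 0, 1], !![1, 0; 0, 1]],
      ![!![1, 0; 0, 1], !![0, 3; 3, 0], !![1, 0; 0, 1]]]]]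

def rho (g : G) : Matrix (Fin 2) (Fin 2) (ZMod 5) := tbl (g.1 0 0) (g.1 0 1) (g.1 1 0) (g.1 1 1)

set_option maxHeartbeats 40000000 in
lemma rho_one : rho 1 = 1 := by decide +kernel

set_option maxHeartbeats 40000000 in
lemma rho_mul : ∀ g h : G, rho (g * h) = rho g * rho h := by decide +kernel

set_option maxHeartbeats 40000000 in
lemma rho_fpf : ∀ g : G, g ≠ 1 → (rho g - 1).det ≠ 0 := by decide +kernel

instance instFactP : Fact (Nat.Prime 5) := ⟨by norm_num⟩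

def tt : G := ⟨!![1, 1; 0, 1], by decide⟩

instance instNontrivG : Nontrivial G := ⟨⟨(1 : G), tt, by decide +kernel⟩⟩

/-- The group SL(2,3) of order 24 (the binary tetrahedral group) occurs as a Frobenius complement of some finite Frobenius group. -/
theorem result :
    ∃ (L : Type) (_ : Group L) (_ : Finite L) (H : Subgroup L), Cfsg.IsFrobeniusComplement H ∧ Nonempty (H ≃* Matrix.SpecialLinearGroup (Fin 2) (ZMod 3)) := by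
  exact Cfsg.Agent.Lib_helper4_FrobSemi.exists_frob (p := 5) rho rho_one rho_mul rho_fpf

end Cfsg.Agent.S4298
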