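import Cfsg.Statements.S4347
import Cfsg.Agent.Lib_helper6_Sylow

set_option autoImplicit false
open Cfsg

namespace Cfsg.Agent.S4347

/-- Let G be a finite group and p a prime. Say a Sylow p-subgroup Q is redundant when every element of p-power order lies in some Sylow p-subgroup other than Q. Then G has no redundant Sylow p-subgroup if and only if some element of p-power order lies in exactly one Sylow p-subgroup. -/
theorem result {G : Type*} [Group G] [Finite G]
    (p : ℕ) [Fact p.Prime] :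
    (¬ ∃ Q : Sylow p G, ∀ x : G, (∃ k : ℕ, orderOf x = p ^ k) → ∃ P : Sylow p G, P ≠ Q ∧ x ∈ P) ↔
      ∃ x : G, (∃ k : ℕ, orderOf x = p ^ k) ∧ ∃! P : Sylow p G, x ∈ P := by
  constructor
  · intro h
    push Not at h
    obtain ⟨Q⟩ : Nonempty (Sylow p G) := inferInstance
    obtain ⟨x, hx, hxQ⟩ := h Q
    refine ⟨x, hx, ?_⟩
    obtain ⟨R, hR⟩ := Lib_helper6_Sylow.pElem_mem_sylow (p := p) hx
    have hRQ : R = Q := by
      by_contra hne
      exact hxQ R hne hR
    refine ⟨Q, hRQ ▸ hR, ?_⟩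
    intro R' hR'
    by_contra hne
    exact hxQ R' hne hR'
  · rintro ⟨x, hx, P0, hxP0, huniq⟩ ⟨Q, hQ⟩
    obtain ⟨g, hg⟩ := MulAction.exists_smul_eq G P0 Q
    have hy : ∃ k : ℕ, orderOf (g * x * g⁻¹) = p ^ k := by
      obtain ⟨k, hk⟩ := hx
      refine ⟨k, ?_⟩
      have : g * x * g⁻¹ = MulAut.conj g x := by simp
      rw [this, MulEquiv.orderOf_eq, hk]
    obtain ⟨P, hPQ, hyP⟩ := hQ _ hy
    have h1 : x ∈ (g⁻¹ • P : Sylow p G) := by
      have hyP' : g⁻¹⁻¹ * x * g⁻¹ ∈ (P : Subgroup G) := by rw [inv_inv]; exact hyP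
      exact (Lib_helper6_Sylow.mem_smul_sylow P g⁻¹ x).mpr hyP'
    have h2 := huniq _ h1
    apply hPQ
    rw [← hg, ← h2, smul_inv_smul]

end Cfsg.Agent.S4347
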