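import Cfsg.Statements.S4370
import Cfsg.Agent.Lib_helper1_UniqInv
import Cfsg.Agent.Lib_helper7_OddCyclic
import Cfsg.Agent.S3908
import Cfsg.Agent.Lib_helper2_PComp
import Cfsg.Agent.Lib_helper5_Fitting
import Cfsg.Agent.Lib_helper6_PCore
import Cfsg.Agent.Lib_helper7_PPrime

set_option autoImplicit false
open Cfsg

namespace Cfsg.Agent.S4370

theorem mem_zpowers_pair {A B : Type*} [Group A] [Group B] (a : A) (b : B)
    (hcop : (orderOf a).Coprime (orderOf b)) (s t : ℕ) :
    ((a ^ s, b ^ t) : A × B) ∈ Subgroup.zpowers ((a, b) : A × B) := by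
  obtain ⟨r, hr1, hr2⟩ := Nat.chineseRemainder hcop s t
  have h1 : a ^ r = a ^ s := pow_eq_pow_iff_modEq.mpr hr1
  have h2 : b ^ r = b ^ t := pow_eq_pow_iff_modEq.mpr hr2
  rw [← h1, ← h2]
  have h3 : ((a, b) : A × B) ^ r = (a ^ r, b ^ r) := rfl
  rw [← h3]
  exact Subgroup.pow_mem _ (Subgroup.mem_zpowers _) r

theorem two_tor (k : ℕ) (i : ZMod (2 * 2 ^ k)) (h : i + i = 0) :
    i = 0 ∨ i = ((2 ^ k : ℕ) : ZMod (2 * 2 ^ k)) := by
  haveI : NeZero (2 * 2 ^ k) := ⟨by positivity⟩
  have h1 : ((i.val + i.val : ℕ) : ZMod (2 * 2 ^ k)) = 0 := by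
    push_cast
    rw [ZMod.natCast_zmod_val]
    exact h
  rw [ZMod.natCast_eq_zero_iff] at h1
  have h2 : i.val < 2 * 2 ^ k := ZMod.val_lt i
  have h3 : 2 ^ k ∣ i.val := by
    have : 2 * 2 ^ k ∣ 2 * i.val := by rw [two_mul i.val]; exact h1
    exact Nat.dvd_of_mul_dvd_mul_left (by norm_num) this
  obtain ⟨c, hc⟩ := h3
  have hc2 : c < 2 := by
    by_contra hcon
    have : 2 ^ k * 2 ≤ 2 ^ k * c := Nat.mul_le_mul_left _ (by omega)
    omega
  have h4 : i = ((i.val : ℕ) : ZMod (2 * 2 ^ k)) := (ZMod.natCast_zmod_val i).symm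
  interval_cases c
  · left
    rw [h4, hc]; simp
  · right
    rw [h4, hc]; simp

open QuaternionGroup in
theorem quat_cent (k m : ℕ) (hm : Odd m)
    (x : QuaternionGroup (2 ^ k) × Multiplicative (ZMod m))
    (hx : x ∉ Subgroup.center (QuaternionGroup (2 ^ k) × Multiplicative (ZMod m))) :
    ∃ g : QuaternionGroup (2 ^ k) × Multiplicative (ZMod m),
      Subgroup.centralizer ({x} : Set (QuaternionGroup (2 ^ k) × Multiplicative (ZMod m)))
        ≤ Subgroup.zpowers g := by
  haveI : NeZero (2 ^ k) := ⟨by positivity⟩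
  haveI : NeZero m := ⟨fun h0 => by subst h0; exact absurd hm (by decide)⟩
  obtain ⟨c₀, hc₀⟩ := (inferInstance : IsCyclic (Multiplicative (ZMod m))).exists_generator
  have hoc : orderOf c₀ = m := by
    rw [orderOf_eq_card_of_forall_mem_zpowers hc₀]
    exact Nat.card_zmod m
  have hcpow : ∀ c : Multiplicative (ZMod m), ∃ t : ℕ, c = c₀ ^ t := by
    intro c
    have h1 := hc₀ c
    rw [← mem_powers_iff_mem_zpowers] at h1
    obtain ⟨t, ht⟩ := h1
    exact ⟨t, ht.symm⟩
  have hnn : ((2 ^ k : ℕ) : ZMod (2 * 2 ^ k)) + ((2 ^ k : ℕ) : ZMod (2 * 2 ^ k)) = 0 := by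
    have := ZMod.natCast_self (2 * 2 ^ k)
    rw [← this]; push_cast; ring
  obtain ⟨q, c⟩ := x
  rcases q with i | j
  · -- q = a i
    have hi : i + i ≠ 0 := by
      intro h0
      apply hx
      rw [Subgroup.mem_center_iff]
      rintro ⟨q'', c''⟩
      refine Prod.ext ?_ (mul_comm _ _)
      rcases q'' with j'' | j''
      · show a j'' * a i = a i * a j''
        rw [a_mul_a, a_mul_a, add_comm]
      · show xa j'' * a i = a i * xa j''
        rw [xa_mul_a, a_mul_xa]
        congr 1
        linear_combination h0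
    have hcop : (orderOf (a 1 : QuaternionGroup (2 ^ k))).Coprime (orderOf c₀) := by
      rw [orderOf_a_one, hoc, ← pow_succ']
      exact Nat.Coprime.pow_left _ (Nat.coprime_two_left.mpr hm)
    refine ⟨(a 1, c₀), ?_⟩
    rintro ⟨q', c'⟩ hy
    rw [Subgroup.mem_centralizer_singleton_iff] at hy
    have hy1 : q' * a i = a i * q' := congrArg Prod.fst hy
    obtain ⟨t, rfl⟩ := hcpow c'
    rcases q' with i' | j'
    · have h1 : (a 1 : QuaternionGroup (2 ^ k)) ^ i'.val = a i' := by
        rw [a_one_pow, ZMod.natCast_zmod_val]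
      rw [← h1]
      exact mem_zpowers_pair _ _ hcop _ _
    · exfalso
      rw [xa_mul_a, a_mul_xa] at hy1
      have h5 : j' + i = j' - i := by injection hy1
      exact hi (by linear_combination h5)
  · -- q = xa j
    have hcop : (orderOf (xa j : QuaternionGroup (2 ^ k))).Coprime (orderOf c₀) := by
      rw [orderOf_xa, hoc]
      exact Nat.Coprime.pow_left 2 (Nat.coprime_two_left.mpr hm)
    refine ⟨(xa j, c₀), ?_⟩
    rintro ⟨q', c'⟩ hy
    rw [Subgroup.mem_centralizer_singleton_iff] at hy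
    have hy1 : q' * xa j = xa j * q' := congrArg Prod.fst hy
    obtain ⟨t, rfl⟩ := hcpow c'
    rcases q' with i' | j'
    · rw [a_mul_xa, xa_mul_a] at hy1
      have h5 : j - i' = j + i' := by injection hy1
      have h6 : i' + i' = 0 := by linear_combination -h5
      rcases two_tor k i' h6 with h7 | h7
      · have h8 : (a i' : QuaternionGroup (2 ^ k)) = (xa j) ^ 0 := by
          rw [h7, pow_zero, a_zero]
        rw [h8]
        exact mem_zpowers_pair _ _ hcop _ _
      · have h8 : (a i' : QuaternionGroup (2 ^ k)) = (xa j) ^ 2 := by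
          rw [h7, xa_sq]
        rw [h8]
        exact mem_zpowers_pair _ _ hcop _ _
    · rw [xa_mul_xa, xa_mul_xa] at hy1
      have h5 : ((2 ^ k : ℕ) : ZMod (2 * 2 ^ k)) + j - j' =
          ((2 ^ k : ℕ) : ZMod (2 * 2 ^ k)) + j' - j := by injection hy1
      have h6 : (j' - j) + (j' - j) = 0 := by linear_combination -h5
      rcases two_tor k (j' - j) h6 with h7 | h7
      · have h8 : (xa j' : QuaternionGroup (2 ^ k)) = (xa j) ^ 1 := by
          rw [pow_one]
          congr 1
          linear_combination h7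
        rw [h8]
        exact mem_zpowers_pair _ _ hcop _ _
      · have h8 : (xa j' : QuaternionGroup (2 ^ k)) = (xa j) ^ 3 := by
          rw [pow_succ, xa_sq, a_mul_xa]
          congr 1
          linear_combination h7 + hnn
        rw [h8]
        exact mem_zpowers_pair _ _ hcop _ _

theorem backward {G : Type*} [Group G] [Finite G] (k m : ℕ) (hm : Odd m)
    (e : G ≃* QuaternionGroup (2 ^ k) × Multiplicative (ZMod m)) (x : G)
    (hx : x ∉ Subgroup.center G) : IsCyclic (Subgroup.centralizer ({x} : Set G)) := by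
  have hex : e x ∉ Subgroup.center (QuaternionGroup (2 ^ k) × Multiplicative (ZMod m)) := by
    intro hc
    apply hx
    rw [Subgroup.mem_center_iff] at hc ⊢
    intro y
    apply e.injective
    rw [map_mul, map_mul]
    exact hc (e y)
  obtain ⟨g, hg⟩ := quat_cent k m hm (e x) hex
  have hmem : ∀ y : Subgroup.centralizer ({x} : Set G), e (y : G) ∈ Subgroup.zpowers g := by
    intro y
    apply hg
    rw [Subgroup.mem_centralizer_singleton_iff, ← map_mul, ← map_mul]
    congr 1
    exact Subgroup.mem_centralizer_singleton_iff.mp y.2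
  let f : Subgroup.centralizer ({x} : Set G) →* Subgroup.zpowers g :=
    { toFun := fun y => ⟨e (y : G), hmem y⟩
      map_one' := Subtype.ext (map_one e)
      map_mul' := fun a b => Subtype.ext (map_mul e _ _) }
  have hf : Function.Injective f := by
    intro a b hab
    have h1 : e (a : G) = e (b : G) := congrArg Subtype.val hab
    exact Subtype.ext (e.injective h1)
  exact isCyclic_of_injective f hf

theorem forward {G : Type*} [Group G] [Finite G] (hG : Group.IsNilpotent G)
    (hna : ¬ IsMulCommutative G)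
    (h : ∀ x : G, x ∉ Subgroup.center G → IsCyclic (Subgroup.centralizer ({x} : Set G))) :
    ∃ (k m : ℕ), 1 ≤ k ∧ Odd m ∧
      Nonempty (G ≃* QuaternionGroup (2 ^ k) × Multiplicative (ZMod m)) := by
  classical
  haveI := hG
  haveI : Fact (Nat.Prime 2) := ⟨Nat.prime_two⟩
  obtain ⟨x₀, hx₀⟩ : ∃ x : G, x ∉ Subgroup.center G := by
    by_contra hcon
    push Not at hcon
    exact hna ⟨⟨fun a b => (Subgroup.mem_center_iff.mp (hcon b) a)⟩⟩
  have hab : ∀ A : Subgroup G, (∀ a ∈ A, ∀ b ∈ A, a * b = b * a) → IsCyclic A := by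
    intro A hA
    by_cases hAZ : A ≤ Subgroup.center G
    · haveI := h x₀ hx₀
      have hle : A ≤ Subgroup.centralizer ({x₀} : Set G) := by
        intro a ha
        rw [Subgroup.mem_centralizer_singleton_iff]
        exact (Subgroup.mem_center_iff.mp (hAZ ha) x₀).symm
      exact isCyclic_of_injective (Subgroup.inclusion hle) (Subgroup.inclusion_injective hle)
    · obtain ⟨a, haA, haZ⟩ := SetLike.not_le_iff_exists.mp hAZ
      haveI := h a haZ
      have hle : A ≤ Subgroup.centralizer ({a} : Set G) := by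
        intro b hb
        rw [Subgroup.mem_centralizer_singleton_iff]
        exact hA b hb a haA
      exact isCyclic_of_injective (Subgroup.inclusion hle) (Subgroup.inclusion_injective hle)
  have hrk : ∀ (p : ℕ) [Fact p.Prime] (P : Sylow p G), Cfsg.PRankLE p 1 (P : Subgroup G) := by
    intro p _ P A hAc hAe
    have hcyc : IsCyclic A := by
      haveI h1 := hab (A.map (P : Subgroup G).subtype) (by
        rintro _ ⟨a, ha, rfl⟩ _ ⟨b, hb, rfl⟩
        have h2 := hAc.is_comm.comm ⟨a, ha⟩ ⟨b, hb⟩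
        have h3 : a * b = b * a := congrArg Subtype.val h2
        exact congrArg Subtype.val h3)
      exact isCyclic_of_injective
        (A.equivMapOfInjective _ (Subgroup.subtype_injective _)).toMonoidHom
        (MulEquiv.injective _)
    obtain ⟨g, hg⟩ := hcyc.exists_generator
    have h1 : orderOf g = Nat.card A := orderOf_eq_card_of_forall_mem_zpowers hg
    have h2 : g ^ p = 1 := Subtype.ext (hAe g.1 g.2)
    have h3 : orderOf g ∣ p := orderOf_dvd_of_pow_eq_one h2
    rw [pow_one, ← h1]
    exact Nat.le_of_dvd (Fact.out : p.Prime).pos h3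
  have hodd : ∀ (p : ℕ) [Fact p.Prime] (P : Sylow p G), p ≠ 2 →
      IsCyclic (P : Subgroup G) := by
    intro p _ P hp2
    exact Cfsg.Agent.Lib_helper7_OddCyclic.isCyclic_of_pRankLE_one p hp2 P.2 (hrk p P)
  obtain ⟨T⟩ : Nonempty (Sylow 2 G) := inferInstance
  have hT2 := Cfsg.Agent.Lib_helper1_UniqInv.two_group_ui T.2
    (Cfsg.Agent.S3908.ui_of_rank T.2 (hrk 2 T))
  have hTnc : ¬ IsCyclic (T : Subgroup G) := by
    intro hTc
    apply hna
    have hsc : ∀ (p : ℕ) [Fact p.Prime] (P : Sylow p G), ∀ a ∈ (P : Subgroup G),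
        ∀ b ∈ (P : Subgroup G), a * b = b * a := by
      intro p _ P a ha b hb
      have hc : IsCyclic (P : Subgroup G) := by
        by_cases hp2 : p = 2
        · subst hp2
          haveI := Sylow.unique_of_normal T inferInstance
          rw [Subsingleton.elim P T]; exact hTc
        · exact hodd p P hp2
      have h2 := (IsCyclic.isMulCommutative (α := (P : Subgroup G))).is_comm.comm ⟨a, ha⟩ ⟨b, hb⟩
      exact congrArg Subtype.val h2
    have hcomm : ∀ (p : Nat.Primes) (P : Sylow (p : ℕ) G) (q : Nat.Primes)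
        (Q : Sylow (q : ℕ) G), ∀ a ∈ (P : Subgroup G), ∀ b ∈ (Q : Subgroup G),
        a * b = b * a := by
      intro p P q Q a ha b hb
      haveI : Fact (p : ℕ).Prime := ⟨p.2⟩
      haveI : Fact (q : ℕ).Prime := ⟨q.2⟩
      by_cases hpq : p = q
      · subst hpq
        haveI := Sylow.unique_of_normal P inferInstance
        have hQP : Q = P := Subsingleton.elim _ _
        rw [hQP] at hb
        exact hsc (p : ℕ) P a ha b hb
      · have hne : (p : ℕ) ≠ (q : ℕ) := fun h => hpq (Subtype.ext h)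
        exact Subgroup.commute_of_normal_of_disjoint _ _ inferInstance inferInstance
          (IsPGroup.disjoint_of_ne (p : ℕ) (q : ℕ) hne _ _ P.2 Q.2) a b ha hb
    have htop := Cfsg.Agent.Lib_helper5_Fitting.iSup_sylow_eq_top (G := G)
    have hcen : (⨆ p : Nat.Primes, ⨆ P : Sylow (p : ℕ) G, (P : Subgroup G))
        ≤ Subgroup.center G := by
      apply iSup_le; intro p; apply iSup_le; intro P
      intro a ha
      rw [Subgroup.mem_center_iff]
      intro g
      have hg : g ∈ Subgroup.centralizer ({a} : Set G) := by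
        have hle : (⨆ q : Nat.Primes, ⨆ Q : Sylow (q : ℕ) G, (Q : Subgroup G))
            ≤ Subgroup.centralizer ({a} : Set G) := by
          apply iSup_le; intro q; apply iSup_le; intro Q
          intro b hb
          rw [Subgroup.mem_centralizer_singleton_iff]
          exact (hcomm p P q Q a ha b hb).symm
        exact hle (htop ▸ Subgroup.mem_top g)
      rw [Subgroup.mem_centralizer_singleton_iff] at hg
      exact hg
    rw [htop] at hcen
    exact ⟨⟨fun a b => (Subgroup.mem_center_iff.mp (hcen (Subgroup.mem_top b)) a)⟩⟩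
  obtain ⟨n, ⟨eT⟩⟩ := hT2.resolve_left hTnc
  have hn : 1 ≤ n := by
    by_contra hn0
    have hn0' : n = 0 := by omega
    subst hn0'
    haveI : IsCyclic (QuaternionGroup (2 ^ 0)) := QuaternionGroup.quaternionGroup_one_isCyclic
    exact hTnc (isCyclic_of_surjective eT.symm.toMonoidHom eT.symm.surjective)
  haveI hKn : (Cfsg.pPrimeCore 2 G).Normal := Cfsg.Agent.Lib_helper6_PCore.pPrimeCore_normal 2
  have hKc : (Nat.card (Cfsg.pPrimeCore 2 G)).Coprime 2 :=
    Cfsg.Agent.Lib_helper7_PPrime.card_pPrimeCore_coprime 2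
  have hO : Cfsg.pPrimeCore 2 (G ⧸ Cfsg.pPrimeCore 2 G) = ⊥ :=
    Cfsg.Agent.Lib_helper2_PComp.pPrimeCore_quotient_bot 2
  have h2grp : IsPGroup 2 (G ⧸ Cfsg.pPrimeCore 2 G) := by
    by_contra hcon
    have hex : ∃ q : ℕ, q.Prime ∧ q ≠ 2 ∧ q ∣ Nat.card (G ⧸ Cfsg.pPrimeCore 2 G) := by
      by_contra h'
      push Not at h'
      apply hcon
      have h1 := Nat.eq_prime_pow_of_unique_prime_dvd (n := Nat.card (G ⧸ Cfsg.pPrimeCore 2 G))
        (p := 2) Nat.card_pos.ne' (fun {d} hd hdvd => by
          by_contra hne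
          exact h' d hd hne hdvd)
      exact IsPGroup.of_card h1
    obtain ⟨q, hq, hq2, hqd⟩ := hex
    haveI : Fact q.Prime := ⟨hq⟩
    obtain ⟨S⟩ : Nonempty (Sylow q (G ⧸ Cfsg.pPrimeCore 2 G)) := inferInstance
    have hSn : (S : Subgroup (G ⧸ Cfsg.pPrimeCore 2 G)).Normal := inferInstance
    have hSc : (Nat.card (S : Subgroup (G ⧸ Cfsg.pPrimeCore 2 G))).Coprime 2 := by
      obtain ⟨j, hj⟩ := IsPGroup.iff_card.mp S.2
      rw [hj]
      exact Nat.Coprime.pow_left j ((Nat.coprime_primes hq Nat.prime_two).mpr hq2)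
    have hle := Cfsg.Agent.Lib_helper2_PComp.le_pPrimeCore' 2 _ hSn hSc
    rw [hO, le_bot_iff] at hle
    exact S.ne_bot_of_dvd_card hqd hle
  have hcard : Nat.card G = Nat.card (G ⧸ Cfsg.pPrimeCore 2 G) * Nat.card (Cfsg.pPrimeCore 2 G) :=
    Subgroup.card_eq_card_quotient_mul_card_subgroup _
  obtain ⟨j, hj⟩ := IsPGroup.iff_card.mp h2grp
  obtain ⟨t, ht⟩ := IsPGroup.iff_card.mp T.2
  have hTj : Nat.card (T : Subgroup G) = 2 ^ j := by
    apply Nat.dvd_antisymm
    · have h1 : Nat.card (T : Subgroup G) ∣ 2 ^ j * Nat.card (Cfsg.pPrimeCore 2 G) := by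
        rw [← hj, ← hcard]; exact Subgroup.card_subgroup_dvd_card _
      have h2 : Nat.Coprime (Nat.card (T : Subgroup G)) (Nat.card (Cfsg.pPrimeCore 2 G)) := by
        rw [ht]; exact Nat.Coprime.pow_left t hKc.symm
      exact h2.dvd_of_dvd_mul_right h1
    · have h1 : 2 ^ j ∣ (T : Subgroup G).index * Nat.card (T : Subgroup G) := by
        rw [Subgroup.index_mul_card, hcard, hj]; exact dvd_mul_right _ _
      have h2 : Nat.Coprime (2 ^ j) (T : Subgroup G).index := by
        apply Nat.Coprime.pow_left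
        exact (Nat.Prime.coprime_iff_not_dvd Nat.prime_two).mpr T.not_dvd_index
      exact h2.dvd_of_dvd_mul_left h1
  have hcardTK : Nat.card (T : Subgroup G) * Nat.card (Cfsg.pPrimeCore 2 G) = Nat.card G := by
    rw [hTj, ← hj]; exact hcard.symm
  have hdisj : Disjoint (T : Subgroup G) (Cfsg.pPrimeCore 2 G) :=
    Subgroup.disjoint_of_coprime_natCard (by rw [hTj]; exact Nat.Coprime.pow_left j hKc.symm)
  have hcommTK : ∀ a ∈ (T : Subgroup G), ∀ b ∈ Cfsg.pPrimeCore 2 G, Commute a b :=
    fun a ha b hb => Subgroup.commute_of_normal_of_disjoint _ _ inferInstance hKn hdisj a b ha hb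
  -- a noncentral element of T
  haveI : NeZero (2 ^ n) := ⟨by positivity⟩
  have huv : (eT.symm (QuaternionGroup.a 1) : G) * (eT.symm (QuaternionGroup.xa 0) : G) ≠
      (eT.symm (QuaternionGroup.xa 0) : G) * (eT.symm (QuaternionGroup.a 1) : G) := by
    intro heq
    have h1 : eT.symm (QuaternionGroup.a 1) * eT.symm (QuaternionGroup.xa 0) =
        eT.symm (QuaternionGroup.xa 0) * eT.symm (QuaternionGroup.a 1) := Subtype.ext heq
    rw [← map_mul, ← map_mul] at h1
    have h2 := eT.symm.injective h1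
    rw [QuaternionGroup.a_mul_xa, QuaternionGroup.xa_mul_a] at h2
    have h3 : (0 : ZMod (2 * 2 ^ n)) - 1 = 0 + 1 := by injection h2
    have h4 : ((2 : ℕ) : ZMod (2 * 2 ^ n)) = 0 := by
      push_cast
      linear_combination -h3
    rw [ZMod.natCast_eq_zero_iff] at h4
    have h5 := Nat.le_of_dvd (by norm_num) h4
    have h6 : 2 ^ 1 ≤ 2 ^ n := Nat.pow_le_pow_right (by norm_num) hn
    omega
  have hu : (eT.symm (QuaternionGroup.a 1) : G) ∉ Subgroup.center G := by
    intro hc
    exact huv ((Subgroup.mem_center_iff.mp hc _).symm)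
  have hKcyc : IsCyclic (Cfsg.pPrimeCore 2 G) := by
    haveI := h _ hu
    have hle : Cfsg.pPrimeCore 2 G ≤
        Subgroup.centralizer ({(eT.symm (QuaternionGroup.a 1) : G)} : Set G) := by
      intro b hb
      rw [Subgroup.mem_centralizer_singleton_iff]
      exact (hcommTK _ (eT.symm (QuaternionGroup.a 1)).2 b hb).eq.symm
    exact isCyclic_of_injective (Subgroup.inclusion hle) (Subgroup.inclusion_injective hle)
  have hcomm' : ∀ (a : ↥(T : Subgroup G)) (b : ↥(Cfsg.pPrimeCore 2 G)),
      Commute ((T : Subgroup G).subtype a) ((Cfsg.pPrimeCore 2 G).subtype b) :=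
    fun a b => hcommTK a a.2 b b.2
  have hfinj : Function.Injective ((T : Subgroup G).subtype.noncommCoprod
      (Cfsg.pPrimeCore 2 G).subtype hcomm') := by
    refine (MonoidHom.noncommCoprod_injective _ _ _).mpr
      ⟨Subgroup.subtype_injective _, Subgroup.subtype_injective _, ?_⟩
    rw [Subgroup.range_subtype, Subgroup.range_subtype]
    exact hdisj
  have hfbij := hfinj.bijective_of_nat_card_le (by rw [Nat.card_prod, hcardTK])
  refine ⟨n, Nat.card (Cfsg.pPrimeCore 2 G), hn, Nat.coprime_two_right.mp hKc, ?_⟩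
  exact ⟨(MulEquiv.ofBijective _ hfbij).symm.trans
    (MulEquiv.prodCongr eT (zmodCyclicMulEquiv hKcyc).symm)⟩



/-- Let G be a finite non-abelian nilpotent group. Then the centralizer of every non-central element of G is cyclic if and only if G is isomorphic to the direct product of a generalized quaternion group and a cyclic group of odd order. -/
theorem result {G : Type*} [Group G] [Finite G] (hG : Group.IsNilpotent G)
    (hna : ¬ IsMulCommutative G) :
    (∀ x : G, x ∉ Subgroup.center G → IsCyclic (Subgroup.centralizer ({x} : Set G))) ↔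
      ∃ (k m : ℕ), 1 ≤ k ∧ Odd m ∧ Nonempty (G ≃* QuaternionGroup (2 ^ k) × Multiplicative (ZMod m)) := by
  constructor
  · intro h
    exact forward hG hna h
  · rintro ⟨k, m, hk, hm, ⟨e⟩⟩ x hx
    exact backward k m hm e x hx

end Cfsg.Agent.S4370
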