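import Cfsg.Statements.S4856
import Cfsg.Agent.Lib_lead_CharSchur

set_option autoImplicit false
open Cfsg

namespace Cfsg.Agent.S4856

/-- For an element z of a finite group G, the number of pairs (x, y) of elements with x y x⁻¹ y⁻¹ = z equals the order of G times the sum over the irreducible characters χ of χ(z)/χ(1). -/
theorem result {G : Type*} [Group G] [Finite G] (z : G) : (Nat.card {xy : G × G // xy.1 * xy.2 * xy.1⁻¹ * xy.2⁻¹ = z} : ℂ) = (Nat.card G : ℂ) * ∑ᶠ χ : Cfsg.IrrCharacter G, (χ : G → ℂ) z / (χ : G → ℂ) 1 := by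
  classical
  have := Fintype.ofFinite G
  have := Lib_helper3_CharBasic.irr_finite (G := G)
  have := Fintype.ofFinite (Cfsg.IrrCharacter G)
  rw [finsum_eq_sum_of_fintype]
  have hc := Lib_helper3_CharBasic.card_ne_zero (G := G)
  -- N(z) as a sum of indicators
  have hN : (Nat.card {xy : G × G // xy.1 * xy.2 * xy.1⁻¹ * xy.2⁻¹ = z} : ℂ)
      = ∑ x : G, ∑ y : G, if x * y * x⁻¹ * y⁻¹ = z then (1 : ℂ) else 0 := by
    rw [Nat.card_eq_fintype_card, Fintype.card_subtype, Finset.card_filter]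
    push_cast
    rw [Fintype.sum_prod_type]
  -- delta via second orthogonality
  have hdelta : ∀ g : G, (if g = z then (1 : ℂ) else 0)
      = (Nat.card G : ℂ)⁻¹ * ∑ χ : Cfsg.IrrCharacter G, (χ : G → ℂ) 1 * (χ : G → ℂ) (g * z⁻¹) := by
    intro g
    have h := Lib_helper3_CharBasic.second_orthogonality (G := G) 1 (g * z⁻¹)
    have h2 : (Nat.card (Subgroup.centralizer ({1} : Set G)) : ℂ) = (Nat.card G : ℂ) := by
      have : Subgroup.centralizer ({1} : Set G) = ⊤ := by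
        ext x; simp [Subgroup.mem_centralizer_iff]
      rw [this, Subgroup.card_top]
    have h3 : ∑ χ : Cfsg.IrrCharacter G, (χ : G → ℂ) (g * z⁻¹) * (starRingEnd ℂ) ((χ : G → ℂ) 1)
        = ∑ χ : Cfsg.IrrCharacter G, (χ : G → ℂ) 1 * (χ : G → ℂ) (g * z⁻¹) := by
      apply Finset.sum_congr rfl
      intro χ _
      obtain ⟨n, hn⟩ := Lib_helper3_CharBasic.isCharacter_apply_one
        (Lib_helper3_CharBasic.isCharacter_of_irr χ.2)
      rw [hn, Complex.conj_natCast, mul_comm]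
    rw [h3, h2] at h
    rw [h]
    have hiff : IsConj 1 (g * z⁻¹) ↔ g = z := by
      rw [isConj_one_right, mul_inv_eq_one]
    by_cases hgz : g = z
    · rw [if_pos hgz, if_pos (hiff.mpr hgz), inv_mul_cancel₀ hc]
    · rw [if_neg hgz, if_neg (fun h => hgz (hiff.mp h)), mul_zero]
  -- the double sum for each irreducible character
  have hchi : ∀ χ : Cfsg.IrrCharacter G,
      ∑ x : G, ∑ y : G, (χ : G → ℂ) (x * y * x⁻¹ * y⁻¹ * z⁻¹)
        = (Nat.card G : ℂ) ^ 2 * (χ : G → ℂ) z⁻¹ / (χ : G → ℂ) 1 ^ 2 := by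
    intro χ
    have hχ := χ.2
    have hcf := Lib_helper3_CharBasic.isClassFunction_of_irr hχ
    have h1ne := Lib_helper3_CharMore.irr_apply_one_ne_zero hχ
    rw [Finset.sum_comm]
    have hinner : ∀ y : G, ∑ x : G, (χ : G → ℂ) (x * y * x⁻¹ * y⁻¹ * z⁻¹)
        = (Nat.card G : ℂ) * (χ : G → ℂ) (y⁻¹ * z⁻¹) * (χ : G → ℂ) y / (χ : G → ℂ) 1 := by
      intro y
      rw [← Lib_lead_CharSchur.sum_char_mul_conj hχ (y⁻¹ * z⁻¹) y]
      apply Finset.sum_congr rfl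
      intro x _
      have e : x * y * x⁻¹ * y⁻¹ * z⁻¹
          = (x * y * x⁻¹) * ((y⁻¹ * z⁻¹) * (x * y * x⁻¹)) * (x * y * x⁻¹)⁻¹ := by group
      rw [e, hcf]
    rw [Finset.sum_congr rfl (fun y _ => hinner y)]
    have hconv := Lib_lead_CharSchur.sum_char_mul_char_inv_mul hχ z⁻¹
    have : ∑ y : G, (Nat.card G : ℂ) * (χ : G → ℂ) (y⁻¹ * z⁻¹) * (χ : G → ℂ) y / (χ : G → ℂ) 1
        = (Nat.card G : ℂ) / (χ : G → ℂ) 1 * ∑ y : G, (χ : G → ℂ) y * (χ : G → ℂ) (y⁻¹ * z⁻¹) := by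
      rw [Finset.mul_sum]
      apply Finset.sum_congr rfl
      intro y _
      ring
    rw [this, hconv]
    field_simp
  -- assemble
  have hmain : (Nat.card {xy : G × G // xy.1 * xy.2 * xy.1⁻¹ * xy.2⁻¹ = z} : ℂ)
      = (Nat.card G : ℂ) * ∑ χ : Cfsg.IrrCharacter G, (χ : G → ℂ) z⁻¹ / (χ : G → ℂ) 1 := by
    rw [hN]
    have e1 : ∀ x y : G, (if x * y * x⁻¹ * y⁻¹ = z then (1 : ℂ) else 0)
        = (Nat.card G : ℂ)⁻¹ * ∑ χ : Cfsg.IrrCharacter G,
            (χ : G → ℂ) 1 * (χ : G → ℂ) (x * y * x⁻¹ * y⁻¹ * z⁻¹) := fun x y => hdelta _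
    simp only [e1]
    simp only [← Finset.mul_sum]
    have e3 : ∑ x : G, ∑ y : G, ∑ χ : Cfsg.IrrCharacter G,
          (χ : G → ℂ) 1 * (χ : G → ℂ) (x * y * x⁻¹ * y⁻¹ * z⁻¹)
        = ∑ χ : Cfsg.IrrCharacter G, ∑ x : G, ∑ y : G,
          (χ : G → ℂ) 1 * (χ : G → ℂ) (x * y * x⁻¹ * y⁻¹ * z⁻¹) := by
      calc ∑ x : G, ∑ y : G, ∑ χ : Cfsg.IrrCharacter G,
            (χ : G → ℂ) 1 * (χ : G → ℂ) (x * y * x⁻¹ * y⁻¹ * z⁻¹)
          = ∑ x : G, ∑ χ : Cfsg.IrrCharacter G, ∑ y : G,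
            (χ : G → ℂ) 1 * (χ : G → ℂ) (x * y * x⁻¹ * y⁻¹ * z⁻¹) := by
            apply Finset.sum_congr rfl
            intro x _
            exact Finset.sum_comm
        _ = _ := Finset.sum_comm
    have e2 : ∀ χ : Cfsg.IrrCharacter G,
        ∑ x : G, ∑ y : G, (χ : G → ℂ) 1 * (χ : G → ℂ) (x * y * x⁻¹ * y⁻¹ * z⁻¹)
          = (χ : G → ℂ) 1 * ((Nat.card G : ℂ) ^ 2 * (χ : G → ℂ) z⁻¹ / (χ : G → ℂ) 1 ^ 2) := by
      intro χ
      rw [← hchi χ, Finset.mul_sum]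
      apply Finset.sum_congr rfl
      intro x _
      rw [Finset.mul_sum]
    rw [e3, Finset.sum_congr rfl (fun χ _ => e2 χ), Finset.mul_sum, Finset.mul_sum]
    apply Finset.sum_congr rfl
    intro χ _
    have h1ne := Lib_helper3_CharMore.irr_apply_one_ne_zero χ.2
    field_simp
  have hconj : (starRingEnd ℂ) (Nat.card {xy : G × G // xy.1 * xy.2 * xy.1⁻¹ * xy.2⁻¹ = z} : ℂ)
      = (Nat.card {xy : G × G // xy.1 * xy.2 * xy.1⁻¹ * xy.2⁻¹ = z} : ℂ) := Complex.conj_natCast _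
  rw [← hconj, hmain, map_mul, Complex.conj_natCast, map_sum]
  congr 1
  apply Finset.sum_congr rfl
  intro χ _
  rw [map_div₀, Lib_helper3_CharBasic.isCharacter_inv (Lib_helper3_CharBasic.isCharacter_of_irr χ.2),
    Complex.conj_conj]
  obtain ⟨n, hn⟩ := Lib_helper3_CharBasic.isCharacter_apply_one
    (Lib_helper3_CharBasic.isCharacter_of_irr χ.2)
  rw [hn, Complex.conj_natCast]

end Cfsg.Agent.S4856
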