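import Cfsg.Statements.S4814
import Cfsg.Agent.Lib_lead_CharSchur
import Cfsg.Agent.S4856
import Cfsg.Agent.Lib_helper3_CharDiag

set_option autoImplicit false
open Cfsg

namespace Cfsg.Agent.S4814

/-- Let G be a finite group such that the sum, over the irreducible complex characters χ of G, of 1/χ(1)² is less than 2. Then every element of G is a product of two commutators. -/
theorem result {G : Type*} [Group G] [Finite G]
    (h : ∑ᶠ χ : Cfsg.IrrCharacter G, 1 / ‖(χ : G → ℂ) 1‖ ^ 2 < (2 : ℝ)) (g : G) :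
    ∃ a b c d : G, (a * b * a⁻¹ * b⁻¹) * (c * d * c⁻¹ * d⁻¹) = g := by
  classical
  have := Fintype.ofFinite G
  have := Lib_helper3_CharBasic.irr_finite (G := G)
  have := Fintype.ofFinite (Cfsg.IrrCharacter G)
  rw [finsum_eq_sum_of_fintype] at h
  have hcard := Lib_helper3_CharBasic.card_ne_zero (G := G)
  by_contra hno
  push_neg at hno
  have hzero : ∀ c d : G, (Nat.card {xy : G × G // xy.1 * xy.2 * xy.1⁻¹ * xy.2⁻¹
      = g * (d * c * d⁻¹ * c⁻¹)} : ℂ) = 0 := by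
    intro c d
    rw [Nat.cast_eq_zero, Nat.card_eq_zero]
    left
    constructor
    rintro ⟨⟨a, b⟩, hab⟩
    apply hno a b c d
    simp only at hab
    rw [hab]; group
  have hsum0 : ∀ c d : G, ∑ χ : Cfsg.IrrCharacter G,
      (χ : G → ℂ) (g * (d * c * d⁻¹ * c⁻¹)) / (χ : G → ℂ) 1 = 0 := by
    intro c d
    have h1 := S4856.result (g * (d * c * d⁻¹ * c⁻¹))
    rw [hzero c d, finsum_eq_sum_of_fintype] at h1
    exact (mul_eq_zero.mp h1.symm).resolve_left hcard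
  have hchi : ∀ χ : Cfsg.IrrCharacter G, ∑ c : G, ∑ d : G,
      (χ : G → ℂ) (g * (d * c * d⁻¹ * c⁻¹))
        = (Nat.card G : ℂ) ^ 2 * (χ : G → ℂ) g / (χ : G → ℂ) 1 ^ 2 := by
    intro χ
    have hχ := χ.2
    have hcf := Lib_helper3_CharBasic.isClassFunction_of_irr hχ
    have h1ne := Lib_helper3_CharMore.irr_apply_one_ne_zero hχ
    have hinner : ∀ c : G, ∑ d : G, (χ : G → ℂ) (g * (d * c * d⁻¹ * c⁻¹))
        = (Nat.card G : ℂ) * (χ : G → ℂ) (c⁻¹ * g) * (χ : G → ℂ) c / (χ : G → ℂ) 1 := by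
      intro c
      rw [← Lib_lead_CharSchur.sum_char_mul_conj hχ (c⁻¹ * g) c]
      apply Finset.sum_congr rfl
      intro d _
      have e : g * (d * c * d⁻¹ * c⁻¹)
          = c * ((c⁻¹ * g) * (d * c * d⁻¹)) * c⁻¹ := by group
      rw [e, hcf]
    rw [Finset.sum_congr rfl (fun c _ => hinner c)]
    have hconv := Lib_lead_CharSchur.sum_char_mul_char_inv_mul hχ g
    have : ∑ c : G, (Nat.card G : ℂ) * (χ : G → ℂ) (c⁻¹ * g) * (χ : G → ℂ) c / (χ : G → ℂ) 1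
        = (Nat.card G : ℂ) / (χ : G → ℂ) 1 * ∑ c : G, (χ : G → ℂ) c * (χ : G → ℂ) (c⁻¹ * g) := by
      rw [Finset.mul_sum]
      apply Finset.sum_congr rfl
      intro c _
      ring
    rw [this, hconv]
    field_simp
  have hkey : ∑ χ : Cfsg.IrrCharacter G, (χ : G → ℂ) g / (χ : G → ℂ) 1 ^ 3 = 0 := by
    have h1 : ∑ c : G, ∑ d : G, ∑ χ : Cfsg.IrrCharacter G,
        (χ : G → ℂ) (g * (d * c * d⁻¹ * c⁻¹)) / (χ : G → ℂ) 1 = 0 := by
      simp only [hsum0, Finset.sum_const_zero]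
    have e3 : ∑ c : G, ∑ d : G, ∑ χ : Cfsg.IrrCharacter G,
          (χ : G → ℂ) (g * (d * c * d⁻¹ * c⁻¹)) / (χ : G → ℂ) 1
        = ∑ χ : Cfsg.IrrCharacter G, ∑ c : G, ∑ d : G,
          (χ : G → ℂ) (g * (d * c * d⁻¹ * c⁻¹)) / (χ : G → ℂ) 1 := by
      calc ∑ c : G, ∑ d : G, ∑ χ : Cfsg.IrrCharacter G,
            (χ : G → ℂ) (g * (d * c * d⁻¹ * c⁻¹)) / (χ : G → ℂ) 1
          = ∑ c : G, ∑ χ : Cfsg.IrrCharacter G, ∑ d : G,
            (χ : G → ℂ) (g * (d * c * d⁻¹ * c⁻¹)) / (χ : G → ℂ) 1 := by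
            apply Finset.sum_congr rfl
            intro c _
            exact Finset.sum_comm
        _ = _ := Finset.sum_comm
    rw [e3] at h1
    have e2 : ∀ χ : Cfsg.IrrCharacter G, ∑ c : G, ∑ d : G,
        (χ : G → ℂ) (g * (d * c * d⁻¹ * c⁻¹)) / (χ : G → ℂ) 1
          = (Nat.card G : ℂ) ^ 2 * ((χ : G → ℂ) g / (χ : G → ℂ) 1 ^ 3) := by
      intro χ
      have h1ne := Lib_helper3_CharMore.irr_apply_one_ne_zero χ.2
      simp only [← Finset.sum_div]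
      rw [hchi χ]
      field_simp
    rw [Finset.sum_congr rfl (fun χ _ => e2 χ), ← Finset.mul_sum] at h1
    exact (mul_eq_zero.mp h1).resolve_left (pow_ne_zero 2 hcard)
  -- the trivial character
  let χ₀ : Cfsg.IrrCharacter G := ⟨fun _ => 1, Lib_helper3_CharMore.isIrrCharacter_one⟩
  rw [← Finset.add_sum_erase _ _ (Finset.mem_univ χ₀)] at hkey h
  have h0 : (χ₀ : G → ℂ) g / (χ₀ : G → ℂ) 1 ^ 3 = 1 := by
    show (1 : ℂ) / 1 ^ 3 = 1
    norm_num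
  have h0' : 1 / ‖(χ₀ : G → ℂ) 1‖ ^ 2 = (1 : ℝ) := by
    show 1 / ‖(1 : ℂ)‖ ^ 2 = (1 : ℝ)
    norm_num
  rw [h0] at hkey
  rw [h0'] at h
  have hneg : ∑ χ ∈ Finset.univ.erase χ₀, (χ : G → ℂ) g / (χ : G → ℂ) 1 ^ 3 = -1 := by
    linear_combination hkey
  have hnorm : ‖∑ χ ∈ Finset.univ.erase χ₀, (χ : G → ℂ) g / (χ : G → ℂ) 1 ^ 3‖ = 1 := by
    rw [hneg]; simp
  have hle : ‖∑ χ ∈ Finset.univ.erase χ₀, (χ : G → ℂ) g / (χ : G → ℂ) 1 ^ 3‖
      ≤ ∑ χ ∈ Finset.univ.erase χ₀, 1 / ‖(χ : G → ℂ) 1‖ ^ 2 := by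
    refine le_trans (norm_sum_le _ _) (Finset.sum_le_sum ?_)
    intro χ _
    have hch := Lib_helper3_CharBasic.isCharacter_of_irr χ.2
    obtain ⟨n, hn0, hn⟩ := Lib_helper3_CharMore.irr_apply_one_pos χ.2
    have hb := Lib_helper3_CharDiag.isCharacter_norm_le hch g
    rw [hn] at hb ⊢
    simp only [Complex.natCast_re] at hb
    rw [norm_div, norm_pow, Complex.norm_natCast]
    have hn' : (0 : ℝ) < n := by exact_mod_cast hn0
    rw [div_le_div_iff₀ (by positivity) (by positivity)]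
    calc ‖(χ : G → ℂ) g‖ * (n : ℝ) ^ 2 ≤ (n : ℝ) * (n : ℝ) ^ 2 := by
          apply mul_le_mul_of_nonneg_right hb (by positivity)
      _ = 1 * (n : ℝ) ^ 3 := by ring
  linarith

end Cfsg.Agent.S4814
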