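import Cfsg.Statements.S5191
import Cfsg.Agent.Lib_helper9_GroupFusion

set_option autoImplicit false
open Cfsg

namespace Cfsg.Agent.S5191

open Cfsg.Agent.Lib_helper9_GroupFusion Cfsg.Agent.Lib_helper9_PGroup

/-- Fusion in a finite group G and in its quotient by O_{p'}(G) agree. Let S be a Sylow p-subgroup of G, N = O_{p'}(G) and P ≤ S. If an element of G/N conjugates the image of P into the image of S, then some element g of G conjugates P into S and induces the same map on P modulo N. (Together with the injectivity of S → G/N this says that g ↦ gN induces an isomorphism of the fusion system of G on S with that of G/N on SN/N.) -/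
theorem result {G : Type*} [Group G] [Finite G] {p : ℕ} [Fact p.Prime]
    [hN : (Cfsg.pPrimeCore p G).Normal] (S : Sylow p G) (P : Subgroup G) (hP : P ≤ (S : Subgroup G))
    (γ : G ⧸ Cfsg.pPrimeCore p G)
    (hγ : ∀ x ∈ P, γ * QuotientGroup.mk x * γ⁻¹ ∈ ((S : Subgroup G).map (QuotientGroup.mk' (Cfsg.pPrimeCore p G)))) :
    ∃ g : G, ∀ x ∈ P, g * x * g⁻¹ ∈ S ∧
      (QuotientGroup.mk (g * x * g⁻¹) : G ⧸ Cfsg.pPrimeCore p G) = γ * QuotientGroup.mk x * γ⁻¹ := by
  obtain ⟨g₀, rfl⟩ := QuotientGroup.mk_surjective γ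
  have hpP : IsPGroup p P := S.isPGroup'.to_le hP
  have hK : P.map (MulAut.conj g₀).toMonoidHom ≤ (S : Subgroup G) ⊔ Cfsg.pPrimeCore p G := by
    rintro _ ⟨x, hx, rfl⟩
    obtain ⟨s, hs, hsx⟩ := hγ x hx
    have h1 : s⁻¹ * (g₀ * x * g₀⁻¹) ∈ Cfsg.pPrimeCore p G := by
      apply QuotientGroup.eq.mp
      exact hsx
    have h2 : (MulAut.conj g₀).toMonoidHom x = s * (s⁻¹ * (g₀ * x * g₀⁻¹)) := by
      show g₀ * x * g₀⁻¹ = _
      group
    rw [h2]
    exact Subgroup.mul_mem _ (Subgroup.mem_sup_left hs) (Subgroup.mem_sup_right h1)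
  have hsyl := (exists_sylow_subgroupOf_iff ((S : Subgroup G) ⊔ Cfsg.pPrimeCore p G)
    (S : Subgroup G) le_sup_left S.isPGroup').mpr (fun T' _ hpT' => card_le_card_sylow S T' hpT')
  obtain ⟨m, hm, hmK⟩ := exists_conj_le_of_sylow_subgroupOf _ _ hsyl _ hK (isPGroup_conj hpP g₀)
  have hnorm : (S : Subgroup G) ≤
      Subgroup.normalizer ((Cfsg.pPrimeCore p G : Subgroup G) : Set G) := by
    rw [Subgroup.normalizer_eq_top]; exact le_top
  obtain ⟨s, hs, n, hn, rfl⟩ := mem_sup_of_le_normalizer hnorm hm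
  refine ⟨n * g₀, fun x hx => ?_⟩
  have h1 := hmK _ (conj_mem_conj (g := g₀) hx)
  have h2 : n * g₀ * x * (n * g₀)⁻¹ = s⁻¹ * (s * n * (g₀ * x * g₀⁻¹) * (s * n)⁻¹) * s := by group
  constructor
  · rw [h2]; exact Subgroup.mul_mem _ (Subgroup.mul_mem _ (Subgroup.inv_mem _ hs) h1) hs
  · have h3 : (QuotientGroup.mk n : G ⧸ Cfsg.pPrimeCore p G) = 1 :=
      (QuotientGroup.eq_one_iff n).mpr hn
    simp only [QuotientGroup.mk_mul, QuotientGroup.mk_inv, h3, one_mul]

end Cfsg.Agent.S5191
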