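import Cfsg.Statements.S5726
import Mathlib

set_option autoImplicit false
open Cfsg

namespace Cfsg.Agent.S5726

/-- If a finite group acts faithfully and transitively on a set with p^k elements, p a prime and k ≥ 1, then some element of order p fixes no point. -/
theorem result {G Ω : Type*} [Group G] [Finite G] [MulAction G Ω] [FaithfulSMul G Ω] [Fintype Ω] (htr : MulAction.IsPretransitive G Ω)
    (p k : ℕ) (hp : p.Prime) (hk : 1 ≤ k) (hΩ : Fintype.card Ω = p ^ k) :
    ∃ g : G, orderOf g = p ∧ ∀ ω : Ω, g • ω ≠ ω := by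
  classical
  haveI := Fact.mk hp
  obtain ⟨P⟩ : Nonempty (Sylow p G) := inferInstance
  have hne : Nonempty Ω := by
    rw [← Fintype.card_pos_iff, hΩ]; exact pow_pos hp.pos k
  obtain ⟨ω0⟩ := hne
  -- the orbit of ω0 under P is everything
  have hPcard : Nat.card (P : Subgroup G) = p ^ (Nat.card G).factorization p := P.card_eq_multiplicity
  have hS : Nat.card (MulAction.stabilizer G ω0) * p ^ k = Nat.card G := by
    have h1 := Subgroup.card_mul_index (MulAction.stabilizer G ω0)
    rw [MulAction.index_stabilizer_of_transitive] at h1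
    rw [← hΩ, ← Nat.card_eq_fintype_card]
    exact h1
  have hSpos : Nat.card (MulAction.stabilizer G ω0) ≠ 0 := Nat.card_pos.ne'
  have hfac : (Nat.card G).factorization p = (Nat.card (MulAction.stabilizer G ω0)).factorization p + k := by
    rw [← hS, Nat.factorization_mul hSpos (pow_ne_zero _ hp.ne_zero), Nat.factorization_pow]
    simp [hp.factorization_self]
  have hstabP : IsPGroup p (MulAction.stabilizer (P : Subgroup G) ω0) := P.isPGroup'.to_subgroup _
  obtain ⟨j, hj⟩ := IsPGroup.iff_card.mp hstabP
  have hjle : j ≤ (Nat.card (MulAction.stabilizer G ω0)).factorization p := by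
    rw [← hp.pow_dvd_iff_le_factorization hSpos, ← hj]
    let f : MulAction.stabilizer (P : Subgroup G) ω0 →* MulAction.stabilizer G ω0 :=
      { toFun := fun x => ⟨((x : (P : Subgroup G)) : G), by
          have := x.2
          rw [MulAction.mem_stabilizer_iff] at this ⊢
          exact this⟩
        map_one' := rfl
        map_mul' := fun _ _ => rfl }
    apply Subgroup.card_dvd_of_injective f
    intro x y hxy
    have : ((x : (P : Subgroup G)) : G) = ((y : (P : Subgroup G)) : G) := congrArg (fun z : MulAction.stabilizer G ω0 => (z : G)) hxy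
    exact Subtype.ext (Subtype.ext this)
  have horbcard : Nat.card (MulAction.orbit (P : Subgroup G) ω0) * p ^ j = p ^ ((Nat.card (MulAction.stabilizer G ω0)).factorization p + k) := by
    rw [← hj, ← hfac, ← hPcard, ← Nat.card_prod]
    exact Nat.card_congr (MulAction.orbitProdStabilizerEquivGroup (P : Subgroup G) ω0)
  have horbge : p ^ k ≤ Nat.card (MulAction.orbit (P : Subgroup G) ω0) := by
    have h1 : p ^ ((Nat.card (MulAction.stabilizer G ω0)).factorization p + k) = p ^ ((Nat.card (MulAction.stabilizer G ω0)).factorization p - j + k) * p ^ j := by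
      rw [← pow_add]
      congr 1
      omega
    rw [h1] at horbcard
    have h2 := Nat.eq_of_mul_eq_mul_right (pow_pos hp.pos j) horbcard
    rw [h2]
    exact Nat.pow_le_pow_right hp.pos (by omega)
  have horb : MulAction.orbit (P : Subgroup G) ω0 = Set.univ := by
    apply Set.eq_of_subset_of_ncard_le (Set.subset_univ _) _ (Set.toFinite _)
    rw [Set.ncard_univ, Nat.card_eq_fintype_card, hΩ]
    exact horbge
  have htrans : ∀ ω ω' : Ω, ∃ h ∈ (P : Subgroup G), h • ω = ω' := by
    intro ω ω'
    have h1 : ω ∈ MulAction.orbit (P : Subgroup G) ω0 := by rw [horb]; trivial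
    have h2 : ω' ∈ MulAction.orbit (P : Subgroup G) ω0 := by rw [horb]; trivial
    obtain ⟨a, ha⟩ := h1
    obtain ⟨b, hb⟩ := h2
    refine ⟨(b : G) * (a : G)⁻¹, mul_mem b.2 (inv_mem a.2), ?_⟩
    rw [← ha, ← hb]
    show ((b : G) * (a : G)⁻¹) • ((a : G) • ω0) = (b : G) • ω0
    rw [smul_smul, inv_mul_cancel_right]
  -- P is nontrivial
  have hPnt : Nontrivial (P : Subgroup G) := by
    rw [← Finite.one_lt_card_iff_nontrivial]
    have h3 : (2:ℕ) ≤ p ^ k := le_trans hp.two_le (Nat.le_self_pow (by omega) p)
    have h4 : Nat.card (MulAction.orbit (P : Subgroup G) ω0) ∣ Nat.card (P : Subgroup G) := by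
      have := Nat.card_congr (MulAction.orbitProdStabilizerEquivGroup (P : Subgroup G) ω0)
      rw [Nat.card_prod] at this
      exact Dvd.intro _ this
    have h5 := Nat.le_of_dvd Nat.card_pos h4
    omega
  haveI := hPnt
  have hcnt : Nontrivial (Subgroup.center (P : Subgroup G)) := P.isPGroup'.center_nontrivial
  have hcp : IsPGroup p (Subgroup.center (P : Subgroup G)) := P.isPGroup'.to_subgroup _
  obtain ⟨i, hi⟩ := IsPGroup.iff_card.mp hcp
  have hdvd : p ∣ Nat.card (Subgroup.center (P : Subgroup G)) := by
    rw [hi]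
    apply dvd_pow_self
    rintro rfl
    rw [pow_zero] at hi
    have := Finite.one_lt_card_iff_nontrivial.mpr hcnt
    omega
  obtain ⟨z, hz⟩ := exists_prime_orderOf_dvd_card' p hdvd
  refine ⟨((z : (P : Subgroup G)) : G), ?_, ?_⟩
  · rw [Subgroup.orderOf_coe, Subgroup.orderOf_coe, hz]
  · intro ω hω
    have hall : ∀ ω' : Ω, ((z : (P : Subgroup G)) : G) • ω' = (1 : G) • ω' := by
      intro ω'
      obtain ⟨h, hh, rfl⟩ := htrans ω ω'
      rw [one_smul, smul_smul]
      have hcomm : ((z : (P : Subgroup G)) : G) * h = h * ((z : (P : Subgroup G)) : G) := by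
        have := Subgroup.mem_center_iff.mp z.2 ⟨h, hh⟩
        have := congrArg (fun x : (P : Subgroup G) => (x : G)) this
        simpa using this.symm
      rw [hcomm, ← smul_smul, hω]
    have h1 : ((z : (P : Subgroup G)) : G) = 1 := FaithfulSMul.eq_of_smul_eq_smul hall
    have h2 : orderOf ((z : (P : Subgroup G)) : G) = p := by
      rw [Subgroup.orderOf_coe, Subgroup.orderOf_coe, hz]
    rw [h1, orderOf_one] at h2
    exact hp.one_lt.ne h2

end Cfsg.Agent.S5726
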