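import Cfsg.Statements.S5727
import Mathlib

set_option autoImplicit false
open Cfsg

namespace Cfsg.Agent.S5727

theorem orbit_dvd {G Ω : Type*} [Group G] [Finite G] [MulAction G Ω] (p : ℕ) [Fact p.Prime]
    (P : Sylow p G) (ω : Ω) (k : ℕ) (h : p ^ k ∣ (MulAction.orbit G ω).ncard) :
    p ^ k ∣ (MulAction.orbit P ω).ncard := by
  rw [← MulAction.index_stabilizer] at h ⊢
  set H := MulAction.stabilizer G ω with hH
  have h1 : MulAction.stabilizer P ω = H.subgroupOf P := by
    ext x
    simp [hH, Subgroup.mem_subgroupOf, MulAction.mem_stabilizer_iff, Subgroup.smul_def]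
  rw [h1]
  have h2 : ((P : Subgroup G) ⊓ H).relIndex H * H.index = ((P : Subgroup G) ⊓ H).index :=
    Subgroup.relIndex_mul_index inf_le_right
  have h3 : ((P : Subgroup G) ⊓ H).relIndex P * (P : Subgroup G).index
      = ((P : Subgroup G) ⊓ H).index :=
    Subgroup.relIndex_mul_index inf_le_left
  have h4 : ((P : Subgroup G) ⊓ H).relIndex P = H.relIndex P := Subgroup.inf_relIndex_left ..
  have h5 : p ^ k ∣ H.relIndex P * (P : Subgroup G).index := by
    rw [← h4, h3, ← h2]; exact Dvd.dvd.mul_left h _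
  have h6 : Nat.Coprime (p ^ k) (P : Subgroup G).index :=
    Nat.Coprime.pow_left _ ((Nat.Prime.coprime_iff_not_dvd Fact.out).2 P.not_dvd_index)
  exact h6.dvd_of_dvd_mul_right h5

theorem exists_derangement_of_transitive {Q Ω : Type*} [Group Q] [Finite Q] [Nontrivial Q]
    [MulAction Q Ω] [FaithfulSMul Q Ω] (p : ℕ) [Fact p.Prime] (hQ : IsPGroup p Q)
    [MulAction.IsPretransitive Q Ω] : ∃ g : Q, orderOf g = p ∧ ∀ ω : Ω, g • ω ≠ ω := by
  haveI := hQ.center_nontrivial
  have hZ : IsPGroup p (Subgroup.center Q) := hQ.to_subgroup _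
  obtain ⟨n, hn⟩ := IsPGroup.iff_card.1 hZ
  have hn0 : n ≠ 0 := by
    rintro rfl
    have : 1 < Nat.card (Subgroup.center Q) := Finite.one_lt_card
    rw [pow_zero] at hn
    omega
  have hdvd : p ∣ Nat.card (Subgroup.center Q) := by rw [hn]; exact dvd_pow_self p hn0
  obtain ⟨z, hz⟩ := exists_prime_orderOf_dvd_card' p hdvd
  refine ⟨(z : Q), by rw [Subgroup.orderOf_coe]; exact hz, ?_⟩
  intro ω hω
  have hone : (z : Q) = 1 := by
    apply FaithfulSMul.eq_of_smul_eq_smul (α := Ω)
    intro ω'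
    obtain ⟨h, rfl⟩ := MulAction.exists_smul_eq Q ω ω'
    rw [one_smul, ← mul_smul, ← (Subgroup.mem_center_iff.1 z.2 h), mul_smul, hω]
  have : orderOf (z : Q) = 1 := by rw [hone, orderOf_one]
  rw [Subgroup.orderOf_coe, hz] at this
  exact (Fact.out : p.Prime).one_lt.ne' this

theorem exists_derangement_of_orbits {Q Ω : Type*} [Group Q] [Finite Q] [MulAction Q Ω]
    [FaithfulSMul Q Ω] [Fintype Ω] (p m : ℕ) (hp : p.Prime) (hQ : IsPGroup p Q) (hm : 1 ≤ m)
    (hmp : m ≤ p) (hΩ : Fintype.card Ω = m * p)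
    (horb : ∀ ω : Ω, (MulAction.orbit Q ω).ncard = p) :
    ∃ g : Q, orderOf g = p ∧ ∀ ω : Ω, g • ω ≠ ω := by
  classical
  haveI : Fintype Q := Fintype.ofFinite Q
  haveI : Fact p.Prime := ⟨hp⟩
  have hidx : ∀ ω : Ω, (MulAction.stabilizer Q ω).index = p := fun ω => by
    rw [MulAction.index_stabilizer, horb]
  obtain ⟨n, hn⟩ := IsPGroup.iff_card.1 hQ
  have hΩpos : 0 < Fintype.card Ω := by rw [hΩ]; exact Nat.mul_pos hm hp.pos
  obtain ⟨ω₀⟩ : Nonempty Ω := Fintype.card_pos_iff.1 hΩpos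
  have hn0 : n ≠ 0 := by
    rintro rfl
    have h1 := (MulAction.stabilizer Q ω₀).index_dvd_card
    rw [hidx, hn, pow_zero] at h1
    exact hp.one_lt.ne' (Nat.dvd_one.1 h1)
  have hnorm : ∀ ω : Ω, (MulAction.stabilizer Q ω).Normal := fun ω => by
    apply Subgroup.normal_of_index_eq_minFac_card
    rw [hidx, hn, Nat.pow_minFac hn0, hp.minFac_eq]
  have hfix : ∀ (g : Q) (ω : Ω) (h : Q), g • ω = ω → g • (h • ω) = h • ω := by
    intro g ω h hg
    have h1 : h⁻¹ * g * h ∈ MulAction.stabilizer Q ω :=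
      (hnorm ω).conj_mem' g hg h
    rw [MulAction.mem_stabilizer_iff] at h1
    have h2 : h • ((h⁻¹ * g * h) • ω) = h • ω := by rw [h1]
    rw [← mul_smul] at h2
    rw [← mul_smul]
    convert h2 using 2
    group
  have hpow : ∀ g : Q, g ^ p = 1 := by
    intro g
    apply FaithfulSMul.eq_of_smul_eq_smul (α := Ω)
    intro ω
    rw [one_smul]
    haveI := hnorm ω
    have := (MulAction.stabilizer Q ω).pow_index_mem g
    rw [hidx] at this
    exact this
  by_contra hcon
  push Not at hcon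
  have hex : ∀ g : Q, g ≠ 1 → ∃ ω : Ω, g • ω = ω := fun g hg =>
    hcon g (orderOf_eq_prime (hpow g) hg)
  -- Burnside
  have hB := MulAction.sum_card_fixedBy_eq_card_orbits_mul_card_group Q Ω
  have hcls := MulAction.card_eq_sum_card_group_div_card_stabilizer Q Ω
  have hdiv : ∀ ω : Ω, Fintype.card Q / Fintype.card (MulAction.stabilizer Q ω) = p := by
    intro ω
    have h1 := (MulAction.stabilizer Q ω).card_mul_index
    rw [hidx, Nat.card_eq_fintype_card, Nat.card_eq_fintype_card] at h1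
    rw [← h1]
    exact Nat.mul_div_cancel_left _ Fintype.card_pos
  simp only [hdiv, Finset.sum_const, Finset.card_univ, smul_eq_mul] at hcls
  have hq : Fintype.card (Quotient (MulAction.orbitRel Q Ω)) = m := by
    have : Fintype.card (Quotient (MulAction.orbitRel Q Ω)) * p = m * p := by
      rw [← hcls, hΩ]
    exact Nat.eq_of_mul_eq_mul_right hp.pos this
  rw [hq] at hB
  have hf1 : Fintype.card (MulAction.fixedBy Ω (1 : Q)) = m * p := by
    rw [← hΩ]
    apply Fintype.card_congr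
    exact (Equiv.subtypeUnivEquiv (fun x => by simp))
  have hfg : ∀ g : Q, g ≠ 1 → p ≤ Fintype.card (MulAction.fixedBy Ω g) := by
    intro g hg
    obtain ⟨ω, hω⟩ := hex g hg
    rw [← horb ω, ← Nat.card_eq_fintype_card, ← Nat.card_coe_set_eq]
    apply Nat.card_mono (Set.toFinite _)
    rintro _ ⟨h, rfl⟩
    exact hfix g ω h hω
  rw [← Finset.add_sum_erase Finset.univ _ (Finset.mem_univ (1 : Q)), hf1] at hB
  have hsum : (Finset.univ.erase (1 : Q)).card • p
      ≤ ∑ g ∈ Finset.univ.erase (1 : Q), Fintype.card (MulAction.fixedBy Ω g) :=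
    Finset.card_nsmul_le_sum _ _ _ (fun g hg => hfg g (Finset.ne_of_mem_erase hg))
  rw [Finset.card_erase_of_mem (Finset.mem_univ _), Finset.card_univ, smul_eq_mul] at hsum
  have hN : 1 ≤ Fintype.card Q := Fintype.card_pos
  obtain ⟨N', hN'⟩ : ∃ N', Fintype.card Q = N' + 1 := ⟨Fintype.card Q - 1, by omega⟩
  rw [hN'] at hsum hB
  simp only [Nat.add_sub_cancel] at hsum
  have h2 := hp.two_le
  nlinarith [Nat.mul_le_mul_right N' hmp, Nat.mul_le_mul_left m h2]

/-- If a finite group acts faithfully and transitively on a set with m·p elements, where p is a prime and 1 ≤ m ≤ p, then some element of order p fixes no point. -/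
theorem result {G Ω : Type*} [Group G] [Finite G] [MulAction G Ω] [FaithfulSMul G Ω] [Fintype Ω] (htr : MulAction.IsPretransitive G Ω)
    (p m : ℕ) (hp : p.Prime) (hm : 1 ≤ m) (hmp : m ≤ p) (hΩ : Fintype.card Ω = m * p) :
    ∃ g : G, orderOf g = p ∧ ∀ ω : Ω, g • ω ≠ ω := by
  classical
  haveI : Fact p.Prime := ⟨hp⟩
  obtain ⟨P⟩ : Nonempty (Sylow p G) := inferInstance
  have horb : ∀ (ω : Ω) (k : ℕ), p ^ k ∣ m * p → p ^ k ∣ (MulAction.orbit P ω).ncard := by
    intro ω k hk
    apply orbit_dvd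
    rw [MulAction.orbit_eq_univ, Set.ncard_univ, Nat.card_eq_fintype_card, hΩ]; exact hk
  have hPQ : IsPGroup p P := P.isPGroup'
  suffices h : ∃ g : P, orderOf g = p ∧ ∀ ω : Ω, g • ω ≠ ω by
    obtain ⟨g, hg, hg'⟩ := h
    exact ⟨(g : G), by rw [Subgroup.orderOf_coe]; exact hg, hg'⟩
  have hΩpos : 0 < Fintype.card Ω := by rw [hΩ]; exact Nat.mul_pos hm hp.pos
  obtain ⟨ω₀⟩ : Nonempty Ω := Fintype.card_pos_iff.1 hΩpos
  have hpos : ∀ ω : Ω, 0 < (MulAction.orbit P ω).ncard := fun ω =>
    (Set.ncard_pos (Set.toFinite _)).2 (MulAction.nonempty_orbit ω)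
  rcases hmp.eq_or_lt with hmeq | hlt
  · rw [hmeq] at hΩ horb
    have htr' : MulAction.IsPretransitive P Ω := by
      rw [MulAction.isPretransitive_iff_orbit_eq_univ ω₀, Set.eq_univ_iff_ncard,
        Nat.card_eq_fintype_card, hΩ]
      have h1 := horb ω₀ 2 (by rw [pow_two])
      have h2 := Set.ncard_le_card (MulAction.orbit P ω₀)
      rw [Nat.card_eq_fintype_card, hΩ] at h2
      rw [pow_two] at h1
      exact le_antisymm h2 (Nat.le_of_dvd (hpos ω₀) h1)
    haveI : Nontrivial P := by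
      by_contra hne
      rw [not_nontrivial_iff_subsingleton] at hne
      have h1 := horb ω₀ 1 (by rw [pow_one]; exact Dvd.intro_left _ rfl)
      have h2 : MulAction.orbit P ω₀ = {ω₀} := by
        ext x
        constructor
        · rintro ⟨g, rfl⟩
          rw [Subsingleton.elim g 1]; simp
        · rintro rfl; exact MulAction.mem_orbit_self _
      rw [h2, Set.ncard_singleton, pow_one] at h1
      exact hp.one_lt.ne' (Nat.dvd_one.1 h1)
    exact exists_derangement_of_transitive p hPQ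
  · apply exists_derangement_of_orbits p m hp hPQ hm hmp hΩ
    intro ω
    obtain ⟨n, hn⟩ := hPQ.card_orbit ω
    rw [Nat.card_coe_set_eq] at hn
    have h1 := horb ω 1 (by rw [pow_one]; exact Dvd.intro_left _ rfl)
    have h2 := Set.ncard_le_card (MulAction.orbit P ω)
    rw [Nat.card_eq_fintype_card, hΩ] at h2
    rw [hn] at h1 h2 ⊢
    have hn0 : n ≠ 0 := by
      rintro rfl
      rw [pow_zero, pow_one] at h1
      exact hp.one_lt.ne' (Nat.dvd_one.1 h1)
    have hn2 : n < 2 := by
      by_contra hge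
      push Not at hge
      have h3 : p ^ 2 ≤ p ^ n := Nat.pow_le_pow_right hp.pos hge
      have h4 : m * p < p * p := Nat.mul_lt_mul_of_pos_right hlt hp.pos
      rw [pow_two] at h3
      omega
    have : n = 1 := by omega
    rw [this, pow_one]

end Cfsg.Agent.S5727
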