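import Cfsg.Statements.S5728
import Mathlib

set_option autoImplicit false
open Cfsg

namespace Cfsg.Agent.S5728

/-- The affine permutation `y ↦ u * y + c`. -/
def affP {F : Type*} [Field F] (u : Fˣ) (c : F) : Equiv.Perm F where
  toFun y := (u : F) * y + c
  invFun y := ((u⁻¹ : Fˣ) : F) * (y - c)
  left_inv y := by
    simp only [add_sub_cancel_right, ← mul_assoc, Units.inv_mul, one_mul]
  right_inv y := by
    simp only [← mul_assoc, Units.mul_inv, one_mul, sub_add_cancel]

theorem affP_mem {F : Type*} [Field F] (u : Fˣ) (c : F) : affP u c ∈ Cfsg.affineGroup F :=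
  ⟨u, c, fun _ => rfl⟩

theorem affP_apply {F : Type*} [Field F] (u : Fˣ) (c : F) (y : F) : affP u c y = (u : F) * y + c := rfl

theorem affP_inv_apply {F : Type*} [Field F] (u : Fˣ) (c : F) (y : F) :
    (affP u c)⁻¹ y = ((u⁻¹ : Fˣ) : F) * (y - c) := rfl


/-- An elusive transitive action. Let p = 2^s − 1 be a prime and let F be the field with p² elements. Inside the group of affine maps x ↦ a·x + b of F (a ≠ 0), consider the subgroup of maps with both coefficients in the prime field. Then every element of prime order of the affine group is conjugate, within the affine group, to an element of that subgroup; equivalently, in the transitive action of the affine group on the cosets of that subgroup (of degree p(p + 1)) every element of prime order fixes a point. -/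
theorem result (p s : ℕ) [Fact p.Prime] (hs : p = 2 ^ s - 1)
    (g : Equiv.Perm (GaloisField p 2)) (hg : g ∈ Cfsg.affineGroup (GaloisField p 2)) (hord : (orderOf g).Prime) :
    ∃ x ∈ Cfsg.affineGroup (GaloisField p 2), ∃ a b : ZMod p, a ≠ 0 ∧
      ∀ y : GaloisField p 2, (x * g * x⁻¹) y = algebraMap (ZMod p) (GaloisField p 2) a * y + algebraMap (ZMod p) (GaloisField p 2) b := by
  classical
  haveI : Fintype (GaloisField p 2) := Fintype.ofFinite _
  obtain ⟨a, b, hab⟩ := hg
  have hp : p.Prime := Fact.out
  have hcard : Nat.card (GaloisField p 2) = p ^ 2 := GaloisField.card p 2 (by norm_num)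
  by_cases ha : a = 1
  · have hb : b ≠ 0 := by
      rintro rfl
      have : g = 1 := by
        ext y; simp [hab, ha]
      rw [this, orderOf_one] at hord
      exact Nat.not_prime_one hord
    refine ⟨affP (Units.mk0 b⁻¹ (inv_ne_zero hb)) 0, affP_mem _ _, 1, 1, one_ne_zero, fun y => ?_⟩
    rw [Equiv.Perm.mul_apply, Equiv.Perm.mul_apply, affP_inv_apply, hab, affP_apply, ha]
    simp only [Units.val_mk0, Units.val_one, one_mul, map_one, add_zero, sub_zero]
    have hinv : (((Units.mk0 b⁻¹ (inv_ne_zero hb))⁻¹ : (GaloisField p 2)ˣ) : GaloisField p 2) = b := by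
      rw [Units.val_inv_eq_inv_val, Units.val_mk0, inv_inv]
    rw [hinv]
    field_simp
  · have ha1 : (a : GaloisField p 2) - 1 ≠ 0 := by
      intro h
      apply ha
      ext
      rw [Units.val_one]
      exact sub_eq_zero.1 h
    set x := affP (1 : (GaloisField p 2)ˣ) (b / ((a : GaloisField p 2) - 1)) with hx
    have hh : ∀ y, (x * g * x⁻¹) y = (a : GaloisField p 2) * y := by
      intro y
      rw [Equiv.Perm.mul_apply, Equiv.Perm.mul_apply, hx, affP_inv_apply, hab, affP_apply]
      simp only [Units.val_one, one_mul, inv_one]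
      field_simp
      ring
    have hpow : ∀ (n : ℕ) y, ((x * g * x⁻¹) ^ n) y = (a : GaloisField p 2) ^ n * y := by
      intro n
      induction n with
      | zero => intro y; simp
      | succ n ih =>
        intro y
        rw [pow_succ, Equiv.Perm.mul_apply, hh, ih, pow_succ, mul_assoc]
    have hord' : orderOf (x * g * x⁻¹) = orderOf g := (MulAut.conj x).orderOf_eq g
    have har : a ^ orderOf g = 1 := by
      ext
      rw [Units.val_pow_eq_pow_val, Units.val_one]
      have := hpow (orderOf (x * g * x⁻¹)) 1
      rw [pow_orderOf_eq_one, Equiv.Perm.one_apply, mul_one, hord'] at this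
      exact this.symm
    have hoa : orderOf a = orderOf g := by
      have hdvd : orderOf a ∣ orderOf g := orderOf_dvd_of_pow_eq_one har
      rcases (Nat.dvd_prime hord).1 hdvd with h | h
      · exact absurd (orderOf_eq_one_iff.1 h) ha
      · exact h
    have hdvd : orderOf g ∣ p ^ 2 - 1 := by
      rw [← hoa, ← hcard, Nat.card_eq_fintype_card, ← Fintype.card_units]
      exact orderOf_dvd_card
    have hp2 : 2 ≤ p := hp.two_le
    have hs2 : 2 ^ s = p + 1 := by omega
    have hs0 : s ≠ 0 := by
      rintro rfl
      simp at hs2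
      omega
    have hpodd : 2 ∣ p - 1 := by
      have : 2 ∣ 2 ^ s := dvd_pow_self 2 hs0
      omega
    have hfac : p ^ 2 - 1 = (p - 1) * 2 ^ s := by
      rw [hs2]
      have : p ^ 2 = (p - 1) * (p + 1) + 1 := by
        obtain ⟨k, rfl⟩ : ∃ k, p = k + 1 := ⟨p - 1, by omega⟩
        simp only [Nat.add_sub_cancel]
        ring
      omega
    have hdvd1 : orderOf g ∣ p - 1 := by
      rw [hfac] at hdvd
      rcases (Nat.Prime.dvd_mul hord).1 hdvd with h | h
      · exact h
      · have h2 : orderOf g ∣ 2 := hord.dvd_of_dvd_pow h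
        exact h2.trans hpodd
    have hap : (a : GaloisField p 2) ^ p = a := by
      have h1 : a ^ (p - 1) = 1 := by
        obtain ⟨k, hk⟩ := hdvd1
        rw [hk, pow_mul, har, one_pow]
      have h2 : (a : GaloisField p 2) ^ (p - 1) = 1 := by
        rw [← Units.val_pow_eq_pow_val, h1, Units.val_one]
      have h3 : (a : GaloisField p 2) ^ ((p - 1) + 1) = a := by
        rw [pow_succ, h2, one_mul]
      have : (p - 1) + 1 = p := by omega
      rwa [this] at h3
    have hbot : (a : GaloisField p 2) ∈ (⊥ : Subfield (GaloisField p 2)) :=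
      (Subfield.mem_bot_iff_pow_eq_self (GaloisField p 2) p).2 hap
    obtain ⟨n, hn⟩ := (mem_bot_iff_intCast p (GaloisField p 2)).1 hbot
    refine ⟨x, affP_mem _ _, (n : ZMod p), 0, ?_, fun y => ?_⟩
    · intro h0
      have : (a : GaloisField p 2) = 0 := by
        rw [← hn, ← map_intCast (algebraMap (ZMod p) (GaloisField p 2)), h0, map_zero]
      exact a.ne_zero this
    · rw [hh y, map_intCast, map_zero, add_zero, hn]

end Cfsg.Agent.S5728
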